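import Mathlib
import Groth.Prelude.Def_EtMil

set_option autoImplicit false
set_option linter.unusedSectionVars false
universe u

open TensorProduct

namespace Groth.Agent.Lib.helper12

section
variable {B' B A' A : Type u} [CommRing B'] [CommRing B] [CommRing A'] [CommRing A]
  [Algebra B' B] [Algebra B' A'] [Algebra B A] [Algebra A' A] [Algebra B' A]
  [IsScalarTower B' B A] [IsScalarTower B' A' A]

theorem milnor_surjective (hsq : EtMil.IsFibreSquare B' B A' A) :
    Function.Surjective (algebraMap B' B) := by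
  intro b
  obtain ⟨a', ha'⟩ := hsq.1 (algebraMap B A b)
  obtain ⟨b', ⟨hb', _⟩, _⟩ := hsq.2 b a' ha'.symm
  exact ⟨b', hb'⟩

theorem milnor_ext (hsq : EtMil.IsFibreSquare B' B A' A) {x y : B'}
    (h1 : algebraMap B' B x = algebraMap B' B y) (h2 : algebraMap B' A' x = algebraMap B' A' y) :
    x = y := by
  have hcomm : algebraMap B A (algebraMap B' B y) = algebraMap A' A (algebraMap B' A' y) := by
    rw [← IsScalarTower.algebraMap_apply, ← IsScalarTower.algebraMap_apply]
  obtain ⟨z, _, hz⟩ := hsq.2 _ _ hcomm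
  rw [hz x ⟨h1, h2⟩, hz y ⟨rfl, rfl⟩]

/-- For `j` in the kernel of `B' → B`, the `B'`-linear map `A' → B'` sending `a'` to the unique
element of the kernel of `B' → B` mapping to `j * a'` in `A'`. -/
theorem milnor_exists_tau (hsq : EtMil.IsFibreSquare B' B A' A) (j : B')
    (hj : algebraMap B' B j = 0) :
    ∃ τ : A' →ₗ[B'] B', τ 1 = j ∧ ∀ a', algebraMap B' B (τ a') = 0 := by
  have hj' : algebraMap A' A (algebraMap B' A' j) = 0 := by
    rw [← IsScalarTower.algebraMap_apply, IsScalarTower.algebraMap_apply B' B A, hj, map_zero]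
  have hex : ∀ a' : A', ∃ b' : B', algebraMap B' B b' = 0 ∧
      algebraMap B' A' b' = algebraMap B' A' j * a' := by
    intro a'
    obtain ⟨b', hb', _⟩ := hsq.2 0 (algebraMap B' A' j * a') (by rw [map_zero, map_mul, hj', zero_mul])
    exact ⟨b', hb'⟩
  choose t ht1 ht2 using hex
  refine ⟨{ toFun := t, map_add' := ?_, map_smul' := ?_ }, ?_, ht1⟩
  · intro x y
    apply milnor_ext hsq
    · rw [map_add, ht1, ht1, ht1, add_zero]
    · rw [map_add, ht2, ht2, ht2, mul_add]
  · intro c x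
    apply milnor_ext hsq
    · rw [RingHom.id_apply, smul_eq_mul, map_mul, ht1, ht1, mul_zero]
    · rw [RingHom.id_apply, smul_eq_mul, map_mul, ht2, ht2, Algebra.smul_def]; ring
  · apply milnor_ext hsq
    · change algebraMap B' B (t 1) = _
      rw [ht1, hj]
    · change algebraMap B' A' (t 1) = _
      rw [ht2, mul_one]

/-- The kernel of `L' → A' ⊗ L'` is killed by `J = ker (B' → B)`. -/
theorem milnor_smul_eq_zero (hsq : EtMil.IsFibreSquare B' B A' A)
    (L' : Type u) [AddCommGroup L'] [Module B' L'] (l : L')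
    (h2 : ((1 : A') ⊗ₜ[B'] l : A' ⊗[B'] L') = 0) (j : B') (hj : algebraMap B' B j = 0) :
    j • l = 0 := by
  obtain ⟨τ, hτ1, _⟩ := milnor_exists_tau hsq j hj
  let Φ : A' ⊗[B'] L' →ₗ[B'] L' := TensorProduct.lift ((LinearMap.lsmul B' L').comp τ)
  have : Φ ((1 : A') ⊗ₜ[B'] l) = j • l := by
    simp [Φ, hτ1]
  rw [← this, h2, map_zero]

/-- The kernel of `L' → B ⊗ L'` is `J L'`. -/
theorem milnor_mem_smul_top (hsq : EtMil.IsFibreSquare B' B A' A)
    (L' : Type u) [AddCommGroup L'] [Module B' L'] (l : L')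
    (h1 : ((1 : B) ⊗ₜ[B'] l : B ⊗[B'] L') = 0) :
    l ∈ (RingHom.ker (algebraMap B' B)) • (⊤ : Submodule B' L') := by
  have hsurj : Function.Surjective (Algebra.ofId B' B) := milnor_surjective hsq
  let e : (B' ⧸ RingHom.ker (Algebra.ofId B' B)) ≃ₐ[B'] B :=
    Ideal.quotientKerAlgEquivOfSurjective hsurj
  let E : B ⊗[B'] L' ≃ₗ[B'] (B' ⧸ RingHom.ker (Algebra.ofId B' B)) ⊗[B'] L' :=
    TensorProduct.congr e.symm.toLinearEquiv (LinearEquiv.refl B' L')
  have h3 : E ((1 : B) ⊗ₜ[B'] l) = (1 : B' ⧸ RingHom.ker (Algebra.ofId B' B)) ⊗ₜ[B'] l := by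
    simp [E]
  rw [h1, map_zero] at h3
  have h4 := congrArg (TensorProduct.quotTensorEquivQuotSMul L' (RingHom.ker (Algebra.ofId B' B))) h3
  have h5 : (1 : B' ⧸ RingHom.ker (Algebra.ofId B' B)) = Ideal.Quotient.mk _ (1 : B') := rfl
  rw [map_zero, h5, TensorProduct.quotTensorEquivQuotSMul_mk_tmul, one_smul] at h4
  exact (Submodule.Quotient.mk_eq_zero _).mp h4.symm

end

end Groth.Agent.Lib.helper12
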