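import Mathlib

/-!
# Descent of morphisms of (pre)sheafed spaces / schemes along a topological quotient map
whose sheaf map is injective with prescribed image (helper12).

`PSp.*`: for `p : X ⟶ Y`, `q : X ⟶ Z` in `PresheafedSpace CommRingCat` with `p.base` a quotient map,
`q.base` constant on fibres of `p.base`, `p.c` sectionwise injective, and all (transported) sections
`q.c s` in the range of `p.c`, there is a unique `χ : Y ⟶ Z` with `p ≫ χ = q`.
`Sch.*`: the same for schemes (locality of `χ` is automatic).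
-/

set_option autoImplicit false
universe u
open CategoryTheory TopologicalSpace Opposite AlgebraicGeometry Topology

namespace Groth.Agent.Lib.Helper12.QuotDesc

theorem exists_lift {A B C : CommRingCat.{u}} (p : A ⟶ B) (hp : Function.Injective p)
    (t : C ⟶ B) (ht : ∀ s, t s ∈ Set.range p) : ∃ c : C ⟶ A, c ≫ p = t := by
  let e : A ≃+* p.hom.range := RingEquiv.ofBijective p.hom.rangeRestrict
    ⟨fun a b hab => hp (congrArg Subtype.val hab), p.hom.rangeRestrict_surjective⟩
  refine ⟨CommRingCat.ofHom (e.symm.toRingHom.comp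
    (t.hom.codRestrict p.hom.range (fun s => ht s))), ?_⟩
  ext s
  have : p.hom.rangeRestrict (e.symm (t.hom.codRestrict p.hom.range (fun s => ht s) s)) =
      t.hom.codRestrict p.hom.range (fun s => ht s) s := e.apply_symm_apply _
  exact congrArg Subtype.val this

theorem aux4 {𝒞 : Type*} [Category 𝒞] {Z1 Z2 Y1 Y2 X1 X2 X1' X2' : 𝒞}
    (zi : Z1 ⟶ Z2) (f1 : Z1 ⟶ X1) (f2 : Z2 ⟶ X2) (x1 : X1 ⟶ X2)
    (yj : Y1 ⟶ Y2) (p1 : Y1 ⟶ X1') (p2 : Y2 ⟶ X2') (x2 : X1' ⟶ X2')
    (c1 : Z1 ⟶ Y1) (c2 : Z2 ⟶ Y2) (e1 : X1 ⟶ X1') (e2 : X2 ⟶ X2')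
    (n1 : zi ≫ f2 = f1 ≫ x1) (n2 : yj ≫ p2 = p1 ≫ x2)
    (s1 : c1 ≫ p1 = f1 ≫ e1) (s2 : c2 ≫ p2 = f2 ≫ e2) (thin : x1 ≫ e2 = e1 ≫ x2) :
    (zi ≫ c2) ≫ p2 = (c1 ≫ yj) ≫ p2 := by
  rw [Category.assoc, s2, reassoc_of% n1, thin, Category.assoc, n2, reassoc_of% s1]

theorem aux5 {𝒞 : Type*} [Category 𝒞] {A B C D : 𝒞} (c : A ⟶ B) (p : B ⟶ C) (w : C ⟶ D)
    (a : A ⟶ D) (e : D ⟶ C) (s : c ≫ p = a ≫ e) (hw : e ≫ w = 𝟙 D) : (c ≫ p) ≫ w = a := by
  rw [s, Category.assoc, hw, Category.comp_id]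

theorem aux6 {𝒞 : Type*} [Category 𝒞] {A B1 B2 C1 C2 : 𝒞} (a1 : A ⟶ B1) (a2 : A ⟶ B2)
    (p1 : B1 ⟶ C1) (p2 : B2 ⟶ C2) (x : C2 ⟶ C1) (x' : C1 ⟶ C2) (y : B1 ⟶ B2)
    (e1 : a1 ≫ p1 = (a2 ≫ p2) ≫ x) (nat : y ≫ p2 = p1 ≫ x') (thin : x ≫ x' = 𝟙 C2) :
    (a1 ≫ y) ≫ p2 = a2 ≫ p2 := by
  rw [Category.assoc, nat, reassoc_of% e1, thin, Category.comp_id]

namespace PSp

section
variable {X Y Z : PresheafedSpace CommRingCat.{u}} (p : X ⟶ Y) (q : X ⟶ Z)
    (h1 : IsQuotientMap p.base)
    (hfib : ∀ x x' : X, p.base x = p.base x' → q.base x = q.base x')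
    (hinj : ∀ V : Opens Y, Function.Injective (p.c.app (op V)))
    (hrange : ∀ (V : Opens Y) (W : Opens Z)
      (e : (Opens.map q.base).obj W = (Opens.map p.base).obj V) (s : Z.presheaf.obj (op W)),
      X.presheaf.map (eqToHom (congrArg op e)) (q.c.app (op W) s) ∈ Set.range (p.c.app (op V)))

/-- the base map -/
noncomputable def vb : (Y : TopCat) ⟶ (Z : TopCat) :=
  TopCat.ofHom (h1.lift q.base.hom (fun x y hxy => hfib x y hxy))

theorem hb : p.base ≫ vb p q h1 hfib = q.base := by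
  ext x
  exact congrFun (congrArg DFunLike.coe (h1.lift_comp q.base.hom
    (fun x y hxy => hfib x y hxy))) x

theorem eW (W : Opens Z) : (Opens.map q.base).obj W =
    (Opens.map p.base).obj ((Opens.map (vb p q h1 hfib)).obj W) := by
  rw [← hb p q h1 hfib]; rfl

/-- the transported section map -/
noncomputable def tW (W : Opens Z) : Z.presheaf.obj (op W) ⟶
    X.presheaf.obj (op ((Opens.map p.base).obj ((Opens.map (vb p q h1 hfib)).obj W))) :=
  q.c.app (op W) ≫ X.presheaf.map (eqToHom (congrArg op (eW p q h1 hfib W)))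

include hrange in
theorem tW_range (W : Opens Z) (s : Z.presheaf.obj (op W)) :
    tW p q h1 hfib W s ∈ Set.range (p.c.app (op ((Opens.map (vb p q h1 hfib)).obj W))) :=
  hrange _ W (eW p q h1 hfib W) s

/-- the section map -/
noncomputable def cW (W : Opens Z) : Z.presheaf.obj (op W) ⟶
    Y.presheaf.obj (op ((Opens.map (vb p q h1 hfib)).obj W)) :=
  (exists_lift _ (hinj _) (tW p q h1 hfib W) (tW_range p q h1 hfib hrange W)).choose

theorem cW_spec (W : Opens Z) : cW p q h1 hfib hinj hrange W ≫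
    p.c.app (op ((Opens.map (vb p q h1 hfib)).obj W)) = tW p q h1 hfib W :=
  (exists_lift _ (hinj _) (tW p q h1 hfib W) (tW_range p q h1 hfib hrange W)).choose_spec

include hinj in
theorem mono_pi (V : Opens Y) : Mono (p.c.app (op V)) :=
  ConcreteCategory.mono_of_injective _ (hinj V)

/-- the sheaf map -/
noncomputable def vc : Z.presheaf ⟶ (vb p q h1 hfib) _* Y.presheaf where
  app W := cW p q h1 hfib hinj hrange W.unop
  naturality W₁ W₂ i := by
    have := mono_pi p hinj ((Opens.map (vb p q h1 hfib)).obj W₂.unop)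
    rw [← cancel_mono (p.c.app (op ((Opens.map (vb p q h1 hfib)).obj W₂.unop)))]
    refine aux4 _ _ _ _ _ _ _ _ _ _ _ _ (q.c.naturality i)
      (p.c.naturality ((Opens.map (vb p q h1 hfib)).op.map i))
      (cW_spec p q h1 hfib hinj hrange W₁.unop) (cW_spec p q h1 hfib hinj hrange W₂.unop) ?_
    exact (X.presheaf.map_comp _ _).symm.trans
      ((congrArg X.presheaf.map (Subsingleton.elim _ _)).trans (X.presheaf.map_comp _ _))

/-- the descended morphism of presheafed spaces -/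
noncomputable def desc : Y ⟶ Z :=
  ⟨vb p q h1 hfib, vc p q h1 hfib hinj hrange⟩

theorem comp_desc : p ≫ desc p q h1 hfib hinj hrange = q := by
  refine PresheafedSpace.ext _ _ (hb p q h1 hfib) ?_
  refine TopCat.Presheaf.ext (fun W' => ?_)
  erw [TopCat.Presheaf.comp_app, PresheafedSpace.comp_c_app]
  refine aux5 _ _ _ _ _ (cW_spec p q h1 hfib hinj hrange W') ?_
  rw [Functor.whiskerRight_app, eqToHom_app]
  exact (X.presheaf.map_comp _ _).symm.trans
    ((congrArg X.presheaf.map (Subsingleton.elim _ _)).trans (X.presheaf.map_id _))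

include h1 hinj in
theorem uniq (k₁ k₂ : Y ⟶ Z) (hk : p ≫ k₁ = p ≫ k₂) : k₁ = k₂ := by
  have hbase : k₁.base = k₂.base := by
    ext y
    obtain ⟨x, rfl⟩ := h1.surjective y
    exact congrArg (fun k : X ⟶ Z => k.base x) hk
  refine PresheafedSpace.ext _ _ hbase ?_
  refine TopCat.Presheaf.ext (fun W' => ?_)
  have := mono_pi p hinj ((Opens.map k₂.base).obj W')
  rw [← cancel_mono (p.c.app (op ((Opens.map k₂.base).obj W')))]
  have e1 : k₁.c.app (op W') ≫ p.c.app (op ((Opens.map k₁.base).obj W')) =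
      (k₂.c.app (op W') ≫ p.c.app (op ((Opens.map k₂.base).obj W'))) ≫
        X.presheaf.map (eqToHom (by rw [hbase])) :=
    PresheafedSpace.congr_app hk (op W')
  erw [TopCat.Presheaf.comp_app]
  rw [Functor.whiskerRight_app, eqToHom_app]
  refine aux6 _ _ _ _ _ _ _ e1 (p.c.naturality _) ?_
  exact (X.presheaf.map_comp _ _).symm.trans
    ((congrArg X.presheaf.map (Subsingleton.elim _ _)).trans (X.presheaf.map_id _))

end
end PSp

namespace Sch

section
variable {X Y Z : Scheme.{u}} (p : X ⟶ Y) (q : X ⟶ Z)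
    (h1 : IsQuotientMap p.base)
    (hfib : ∀ x x' : X, p.base x = p.base x' → q.base x = q.base x')
    (hinj : ∀ V : Y.Opens, Function.Injective (p.app V))
    (hrange : ∀ (V : Y.Opens) (W : Z.Opens) (e : p ⁻¹ᵁ V ≤ q ⁻¹ᵁ W) (s : Γ(Z, W)),
      q.appLE W (p ⁻¹ᵁ V) e s ∈ Set.range (p.app V))

include hrange in
theorem hrange' (V : Opens Y) (W : Opens Z)
    (e : (Opens.map q.toPshHom.base).obj W = (Opens.map p.toPshHom.base).obj V)
    (s : Z.presheaf.obj (op W)) :
    X.presheaf.map (eqToHom (congrArg op e)) (q.toPshHom.c.app (op W) s) ∈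
      Set.range (p.toPshHom.c.app (op V)) :=
  hrange V W (le_of_eq e.symm) s

/-- the descended morphism of presheafed spaces -/
noncomputable def descP : Y.toPresheafedSpace ⟶ Z.toPresheafedSpace :=
  PSp.desc p.toPshHom q.toPshHom h1 hfib hinj (hrange' p q hrange)

theorem comp_descP : p.toPshHom ≫ descP p q h1 hfib hinj hrange = q.toPshHom :=
  PSp.comp_desc p.toPshHom q.toPshHom h1 hfib hinj (hrange' p q hrange)

theorem descP_local (y : Y) : IsLocalHom ((descP p q h1 hfib hinj hrange).stalkMap y).hom := by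
  obtain ⟨x, rfl⟩ := h1.surjective y
  have e1 := PresheafedSpace.stalkMap.congr_hom _ _ (comp_descP p q h1 hfib hinj hrange) x
  rw [PresheafedSpace.stalkMap.comp] at e1
  have h2 : IsLocalHom (q.toPshHom.stalkMap x).hom := q.toLRSHom.prop x
  have h3' : IsLocalHom ((eqToHom (show Z.presheaf.stalk
        ((p.toPshHom ≫ descP p q h1 hfib hinj hrange).base x) =
        Z.presheaf.stalk (q.toPshHom.base x) by rw [comp_descP p q h1 hfib hinj hrange]) ≫
      q.toPshHom.stalkMap x).hom) := by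
    rw [CommRingCat.hom_comp]
    haveI : IsLocalHom (eqToHom (show Z.presheaf.stalk
        ((p.toPshHom ≫ descP p q h1 hfib hinj hrange).base x) =
        Z.presheaf.stalk (q.toPshHom.base x) by
          rw [comp_descP p q h1 hfib hinj hrange])).hom :=
      isLocalHom_of_isIso _
    exact RingHom.isLocalHom_comp _ _
  have h3 : IsLocalHom (((descP p q h1 hfib hinj hrange).stalkMap (p.toPshHom.base x) ≫
      p.toPshHom.stalkMap x).hom) := by
    have := congrArg (fun t => IsLocalHom (CommRingCat.Hom.hom t)) e1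
    exact this.mpr h3'
  rw [CommRingCat.hom_comp] at h3
  exact isLocalHom_of_comp _ (p.toPshHom.stalkMap x).hom

/-- the descended morphism of schemes -/
noncomputable def desc : Y ⟶ Z :=
  ⟨⟨descP p q h1 hfib hinj hrange, descP_local p q h1 hfib hinj hrange⟩⟩

theorem comp_desc : p ≫ desc p q h1 hfib hinj hrange = q := by
  apply Scheme.Hom.ext'
  apply LocallyRingedSpace.Hom.ext'
  exact comp_descP p q h1 hfib hinj hrange

include h1 hinj in
theorem uniq (k₁ k₂ : Y ⟶ Z) (hk : p ≫ k₁ = p ≫ k₂) : k₁ = k₂ := by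
  apply Scheme.Hom.ext'
  apply LocallyRingedSpace.Hom.ext'
  refine PSp.uniq p.toPshHom h1 hinj k₁.toPshHom k₂.toPshHom ?_
  exact congrArg (fun k : X ⟶ Z => k.toPshHom) hk

end
end Sch

end Groth.Agent.Lib.Helper12.QuotDesc
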