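import Mathlib
import Groth.Agent.Lib.Helper12.QuotDesc

/-!
# `Spec` of a fibre product of rings is a pushout of schemes (helper12)

* `exists_of_eq`: localized equalizer (ring level).
* `mem_range_app`: descent of sections for `π : X ⟶ Y`, `j₁ j₂ : Z ⟶ X` affine, when `Γ(Y)` is the
  equalizer of `Γ(X) ⇉ Γ(Z)`.
* `Coeq.desc/fac/uniq`: `Y` is then the coequalizer in schemes as soon as `π` is a topological
  quotient map with the right fibres.
* `Pr p q`: the fibre product ring; `joint_surjective`, `F2`, `F4`, `isOpen_of_preimages`: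
  `Spec (B ×_A A')` is the topological pushout when `p : A' → A` is surjective.
* `isPushout_Pr`, `isPushout_pullback`: the pushout squares of schemes.
-/

set_option autoImplicit false
universe u
open CategoryTheory AlgebraicGeometry Opposite TopologicalSpace PrimeSpectrum Limits

namespace Groth.Agent.Lib.Helper12.SpecPushout

/-- localized equalizer: an element of `C_f` equalized by `u', v'` comes from `P_f`. -/
theorem exists_of_eq {P C A : Type*} [CommRing P] [CommRing C] [CommRing A]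
    (ι : P →+* C) (u v : C →+* A) (huv : ∀ x, u (ι x) = v (ι x))
    (hex : ∀ c, u c = v c → ∃ x, ι x = c) (f : P)
    {P' C' A' : Type*} [CommRing P'] [CommRing C'] [CommRing A']
    (aP : P →+* P') (aC : C →+* C') (aA : A →+* A')
    (i' : P' →+* C') (u' v' : C' →+* A')
    (hi : i'.comp aP = aC.comp ι)
    (hu : u'.comp aC = aA.comp u) (hv : v'.comp aC = aA.comp v)
    (hPf : IsUnit (aP f))
    (hCsurj : ∀ σ : C', ∃ (n : ℕ) (c : C), σ * aC (ι f) ^ n = aC c)
    (hAeq : ∀ x y : A, aA x = aA y → ∃ N : ℕ, u (ι f) ^ N * x = u (ι f) ^ N * y)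
    (σ : C') (hσ : u' σ = v' σ) : ∃ τ : P', i' τ = σ := by
  obtain ⟨n, c, hc⟩ := hCsurj σ
  have hf : u (ι f) = v (ι f) := huv f
  have hu' : ∀ x, u' (aC x) = aA (u x) := fun x => congrArg (fun φ : C →+* A' => φ x) hu
  have hv' : ∀ x, v' (aC x) = aA (v x) := fun x => congrArg (fun φ : C →+* A' => φ x) hv
  have hi' : ∀ x : P, i' (aP x) = aC (ι x) :=
    fun x => congrArg (fun φ : P →+* C' => φ x) hi
  have h1 : aA (u c) = aA (v c) := by
    rw [← hu', ← hv', ← hc, map_mul, map_mul, map_pow, map_pow, hu', hv', hσ, hf]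
  obtain ⟨N, hN⟩ := hAeq _ _ h1
  have hd : u (ι f ^ N * c) = v (ι f ^ N * c) := by
    rw [map_mul, map_mul, map_pow, map_pow, ← hf, hN]
  obtain ⟨d, hd'⟩ := hex _ hd
  have hCf : IsUnit (aC (ι f)) := by
    rw [← hi']; exact hPf.map i'
  obtain ⟨w, hw⟩ := hPf
  refine ⟨aP d * ((w⁻¹ : P'ˣ) : P') ^ (n + N), ?_⟩
  have hwf : i' ((w : P')) = aC (ι f) := by rw [hw, hi']
  have h2 : i' (aP d * ((w⁻¹ : P'ˣ) : P') ^ (n + N)) * aC (ι f) ^ (n + N) =
      σ * aC (ι f) ^ (n + N) := by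
    have h3 : i' (((w⁻¹ : P'ˣ) : P')) * aC (ι f) = 1 := by
      rw [← hwf, ← map_mul, Units.inv_mul, map_one]
    rw [map_mul, map_pow, hi', _root_.mul_assoc, ← mul_pow, h3, one_pow, _root_.mul_one, hd']
    rw [map_mul, map_pow, ← hc, pow_add]
    ring
  exact (hCf.pow (n + N)).mul_left_injective h2

/-- localization facts for sections over a basic open of an affine scheme -/
theorem basicOpen_facts {X : Scheme.{u}} [IsAffine X] (g : Γ(X, ⊤)) (D : X.Opens)
    (hD : D = X.basicOpen g) :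
    IsUnit (X.presheaf.map (homOfLE (le_top : D ≤ ⊤)).op g) ∧
    (∀ σ : Γ(X, D), ∃ (n : ℕ) (c : Γ(X, ⊤)),
      σ * (X.presheaf.map (homOfLE (le_top : D ≤ ⊤)).op g) ^ n =
        X.presheaf.map (homOfLE (le_top : D ≤ ⊤)).op c) ∧
    (∀ x y : Γ(X, ⊤), X.presheaf.map (homOfLE (le_top : D ≤ ⊤)).op x =
        X.presheaf.map (homOfLE (le_top : D ≤ ⊤)).op y → ∃ N : ℕ, g ^ N * x = g ^ N * y) := by
  subst hD
  have hloc := (isAffineOpen_top X).isLocalization_basicOpen g
  refine ⟨?_, ?_, ?_⟩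
  · exact RingedSpace.isUnit_res_basicOpen _ g
  · intro σ
    obtain ⟨n, c, h⟩ := IsLocalization.Away.surj g σ
    exact ⟨n, c, h⟩
  · intro x y h
    obtain ⟨⟨_, N, rfl⟩, hN⟩ := (IsLocalization.eq_iff_exists (Submonoid.powers g) _).1 h
    exact ⟨N, hN⟩

section S
variable {X Y Z : Scheme.{u}} [IsAffine X] [IsAffine Y] [IsAffine Z]
    (π : X ⟶ Y) (j₁ j₂ : Z ⟶ X) (hj : j₁ ≫ π = j₂ ≫ π)
    (hex : ∀ c : Γ(X, ⊤), j₁.appTop c = j₂.appTop c → ∃ x : Γ(Y, ⊤), π.appTop x = c)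

omit [IsAffine X] [IsAffine Y] [IsAffine Z] in
include hj in
theorem preimage_le (V : Y.Opens) : j₁ ⁻¹ᵁ π ⁻¹ᵁ V ≤ j₂ ⁻¹ᵁ π ⁻¹ᵁ V := by
  rw [← Scheme.Hom.comp_preimage, ← Scheme.Hom.comp_preimage, hj]

include hj hex in
/-- Step A: descent of compatible sections over a basic open. -/
theorem exists_basicOpen (f : Γ(Y, ⊤)) (σ : Γ(X, π ⁻¹ᵁ Y.basicOpen f))
    (hσ : j₁.app (π ⁻¹ᵁ Y.basicOpen f) σ =
      j₂.appLE (π ⁻¹ᵁ Y.basicOpen f) (j₁ ⁻¹ᵁ π ⁻¹ᵁ Y.basicOpen f)
        (preimage_le π j₁ j₂ hj _) σ) :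
    ∃ τ : Γ(Y, Y.basicOpen f), π.app (Y.basicOpen f) τ = σ := by
  have hX := basicOpen_facts (π.appTop f) (π ⁻¹ᵁ Y.basicOpen f) (Scheme.preimage_basicOpen_top π f)
  have hZ := basicOpen_facts (j₁.appTop (π.appTop f)) (j₁ ⁻¹ᵁ π ⁻¹ᵁ Y.basicOpen f)
    (by rw [Scheme.preimage_basicOpen_top π f, Scheme.preimage_basicOpen_top])
  have hY := basicOpen_facts f (Y.basicOpen f) rfl
  refine exists_of_eq (π.appTop.hom) (j₁.appTop.hom) (j₂.appTop.hom) ?_ hex f
    (Y.presheaf.map (homOfLE (le_top : Y.basicOpen f ≤ ⊤)).op).hom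
    (X.presheaf.map (homOfLE (le_top : π ⁻¹ᵁ Y.basicOpen f ≤ ⊤)).op).hom
    (Z.presheaf.map (homOfLE (le_top : j₁ ⁻¹ᵁ π ⁻¹ᵁ Y.basicOpen f ≤ ⊤)).op).hom
    (π.app (Y.basicOpen f)).hom
    (j₁.app (π ⁻¹ᵁ Y.basicOpen f)).hom
    (j₂.appLE (π ⁻¹ᵁ Y.basicOpen f) (j₁ ⁻¹ᵁ π ⁻¹ᵁ Y.basicOpen f)
        (preimage_le π j₁ j₂ hj _)).hom ?_ ?_ ?_ hY.1 hX.2.1 hZ.2.2 σ hσ
  · intro x
    have := congrArg (fun k : Z ⟶ Y => k.appTop) hj
    simp only [Scheme.Hom.comp_appTop] at this
    exact ConcreteCategory.congr_hom this x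
  · rw [← CommRingCat.hom_comp, ← CommRingCat.hom_comp]
    congr 1
    exact π.naturality (homOfLE (le_top : Y.basicOpen f ≤ ⊤)).op
  · rw [← CommRingCat.hom_comp, ← CommRingCat.hom_comp]
    congr 1
    exact j₁.naturality (homOfLE (le_top : π ⁻¹ᵁ Y.basicOpen f ≤ ⊤)).op
  · rw [← CommRingCat.hom_comp, ← CommRingCat.hom_comp]
    congr 1
    rw [Scheme.Hom.map_appLE]
    rfl

include hj hex in
/-- Step B: descent of compatible sections over an arbitrary open. -/
theorem mem_range_app (hinj : ∀ V : Y.Opens, Function.Injective (π.app V))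
    (V : Y.Opens) (σ : Γ(X, π ⁻¹ᵁ V))
    (hσ : j₁.app (π ⁻¹ᵁ V) σ =
      j₂.appLE (π ⁻¹ᵁ V) (j₁ ⁻¹ᵁ π ⁻¹ᵁ V) (preimage_le π j₁ j₂ hj _) σ) :
    σ ∈ Set.range (π.app V) := by
  let I := {f : Γ(Y, ⊤) // Y.basicOpen f ≤ V}
  let U : I → Y.Opens := fun f => Y.basicOpen f.1
  have hU : ∀ i, U i ≤ V := fun f => f.2
  have hcover : V ≤ iSup U := by
    intro y hy
    obtain ⟨_, ⟨f, rfl⟩, hyf, hfV⟩ := Opens.isBasis_iff_nbhd.mp (isBasis_basicOpen Y) hy
    exact Opens.mem_iSup.mpr ⟨⟨f, hfV⟩, hyf⟩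
  have hτ : ∀ i : I, ∃ τ : Γ(Y, U i),
      π.app (U i) τ = X.presheaf.map (homOfLE (π.preimage_mono (hU i))).op σ := by
    intro i
    apply exists_basicOpen π j₁ j₂ hj hex i.1
    have h1 := congrArg (Z.presheaf.map (homOfLE (j₁.preimage_mono (π.preimage_mono (hU i)))).op) hσ
    rw [← ConcreteCategory.comp_apply, ← ConcreteCategory.comp_apply] at h1
    rw [Scheme.Hom.appLE_map] at h1
    rw [← ConcreteCategory.comp_apply, ← ConcreteCategory.comp_apply, Scheme.Hom.map_appLE,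
      j₁.naturality]
    exact h1
  choose τ hτ using hτ
  have hcompat : TopCat.Presheaf.IsCompatible Y.presheaf U τ := by
    intro i k
    apply hinj (U i ⊓ U k)
    rw [← ConcreteCategory.comp_apply, ← ConcreteCategory.comp_apply, π.naturality, π.naturality,
      ConcreteCategory.comp_apply, ConcreteCategory.comp_apply, hτ, hτ,
      ← ConcreteCategory.comp_apply, ← ConcreteCategory.comp_apply, ← Functor.map_comp,
      ← Functor.map_comp]
    rfl
  obtain ⟨t, ht, -⟩ : ∃! s : Γ(Y, V), ∀ i, Y.presheaf.map (homOfLE (hU i)).op s = τ i :=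
    Y.sheaf.existsUnique_gluing' U V (fun i => homOfLE (hU i)) hcover τ hcompat
  refine ⟨t, ?_⟩
  refine X.sheaf.eq_of_locally_eq' (fun i => π ⁻¹ᵁ U i) (π ⁻¹ᵁ V)
    (fun i => homOfLE (π.preimage_mono (hU i))) ?_ _ _ (fun i => ?_)
  · intro x hx
    obtain ⟨i, hi⟩ := Opens.mem_iSup.mp (hcover hx)
    exact Opens.mem_iSup.mpr ⟨i, hi⟩
  · have h2 := ht i
    change X.presheaf.map (homOfLE (π.preimage_mono (hU i))).op (π.app V t) =
      X.presheaf.map (homOfLE (π.preimage_mono (hU i))).op σ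
    rw [← hτ i, ← h2]
    exact (ConcreteCategory.congr_hom (π.naturality (homOfLE (hU i)).op) t).symm

end S

theorem appLE_congr_hom {Z T : Scheme.{u}} (k k' : Z ⟶ T) (hk : k = k') (W : T.Opens) (O : Z.Opens)
    (e : O ≤ k ⁻¹ᵁ W) (e' : O ≤ k' ⁻¹ᵁ W) : k.appLE W O e = k'.appLE W O e' := by
  subst hk; rfl

theorem app_injective_specMap {R A : CommRingCat.{u}} (φ : R ⟶ A)
    (hφ : Function.Injective φ.hom) (V : (Spec R).Opens) :
    Function.Injective ((Spec.map φ).app V) := by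
  have hdom : IsSchemeTheoreticallyDominant (Spec.map φ) := by
    rw [isSchemeTheoreticallyDominant_iff, Scheme.ker_of_isAffine]
    have : RingHom.ker (Spec.map φ).appTop.hom = ⊥ := by
      rw [← RingHom.injective_iff_ker_eq_bot]
      intro a b hab
      have nat := fun c => congrArg (fun k => k.hom c)
        (Scheme.ΓSpecIso_naturality φ)
      have e1 : φ.hom ((Scheme.ΓSpecIso R).hom a) =
          φ.hom ((Scheme.ΓSpecIso R).hom b) := by
        have ha := nat a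
        have hb := nat b
        simp only [CommRingCat.hom_comp, RingHom.coe_comp, Function.comp_apply] at ha hb
        rw [← ha, ← hb]
        exact congrArg _ hab
      have e2 := hφ e1
      exact (ConcreteCategory.bijective_of_isIso (Scheme.ΓSpecIso R).hom).1 e2
    rw [this]
    exact map_bot (Scheme.IdealSheafData.equivOfIsAffine (X := Spec R)).symm
  exact Scheme.Hom.app_injective _ V

theorem hex_spec {P C A : CommRingCat.{u}} (ι : P ⟶ C) (u v : C ⟶ A)
    (h : ∀ c : C, u.hom c = v.hom c → ∃ x : P, ι.hom x = c)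
    (c : Γ(Spec C, ⊤)) (hc : (Spec.map u).appTop c = (Spec.map v).appTop c) :
    ∃ x : Γ(Spec P, ⊤), (Spec.map ι).appTop x = c := by
  have nat := fun (R S : CommRingCat.{u}) (f : R ⟶ S) (r : R) => congrArg (fun k => k.hom r)
    (Scheme.ΓSpecIso_inv_naturality f)
  simp only [CommRingCat.hom_comp, RingHom.coe_comp, Function.comp_apply] at nat
  obtain ⟨c₀, rfl⟩ := (ConcreteCategory.bijective_of_isIso (Scheme.ΓSpecIso C).inv).2 c
  have h1 : u.hom c₀ = v.hom c₀ := by
    apply (ConcreteCategory.bijective_of_isIso (Scheme.ΓSpecIso A).inv).1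
    have := nat _ _ u c₀
    have := nat _ _ v c₀
    simp_all
  obtain ⟨x, hx⟩ := h c₀ h1
  refine ⟨(Scheme.ΓSpecIso P).inv x, ?_⟩
  have := nat _ _ ι x
  rw [← hx]
  exact this.symm

namespace Coeq

section
variable {X Y Z : Scheme.{u}} [IsAffine X] [IsAffine Y] [IsAffine Z]
    (π : X ⟶ Y) (j₁ j₂ : Z ⟶ X) (hj : j₁ ≫ π = j₂ ≫ π)
    (hex : ∀ c : Γ(X, ⊤), j₁.appTop c = j₂.appTop c → ∃ x : Γ(Y, ⊤), π.appTop x = c)
    (hinj : ∀ V : Y.Opens, Function.Injective (π.app V))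
    (h1 : Topology.IsQuotientMap π.base)
    {T : Scheme.{u}} (g : X ⟶ T) (hg : j₁ ≫ g = j₂ ≫ g)
    (hfib : ∀ x x' : X, π.base x = π.base x' → g.base x = g.base x')

include hj hex hinj hg in
theorem hrange (V : Y.Opens) (W : T.Opens) (e : π ⁻¹ᵁ V ≤ g ⁻¹ᵁ W) (s : Γ(T, W)) :
    g.appLE W (π ⁻¹ᵁ V) e s ∈ Set.range (π.app V) := by
  apply mem_range_app π j₁ j₂ hj hex hinj
  rw [← ConcreteCategory.comp_apply, ← ConcreteCategory.comp_apply, Scheme.Hom.app_eq_appLE,
    Scheme.Hom.appLE_comp_appLE, Scheme.Hom.appLE_comp_appLE]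
  exact ConcreteCategory.congr_hom (appLE_congr_hom _ _ hg _ _ _ _) s

/-- the morphism out of the coequalizer -/
noncomputable def desc : Y ⟶ T :=
  QuotDesc.Sch.desc π g h1 hfib hinj (hrange π j₁ j₂ hj hex hinj g hg)

theorem fac : π ≫ desc π j₁ j₂ hj hex hinj h1 g hg hfib = g :=
  QuotDesc.Sch.comp_desc π g h1 hfib hinj (hrange π j₁ j₂ hj hex hinj g hg)

omit [IsAffine X] [IsAffine Y] in
include hinj h1 in
theorem uniq (k₁ k₂ : Y ⟶ T) (hk : π ≫ k₁ = π ≫ k₂) : k₁ = k₂ :=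
  QuotDesc.Sch.uniq π h1 hinj k₁ k₂ hk

end

end Coeq

section Top
variable {A A' B : Type u} [CommRing A] [CommRing A'] [CommRing B] (p : A' →+* A) (q : B →+* A)

/-- the fibre product ring `B ×_A A'` as a subring of `B × A'` -/
abbrev Pr : Subring (B × A') :=
  RingHom.eqLocus (q.comp (RingHom.fst B A')) (p.comp (RingHom.snd B A'))

theorem mem_Pr (x : B × A') : x ∈ Pr p q ↔ q x.1 = p x.2 := Iff.rfl

/-- first projection -/
def φ₁ : Pr p q →+* B := (RingHom.fst B A').comp (Pr p q).subtype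
/-- second projection -/
def φ₂ : Pr p q →+* A' := (RingHom.snd B A').comp (Pr p q).subtype

@[simp] theorem φ₁_apply (x : Pr p q) : φ₁ p q x = x.1.1 := rfl
@[simp] theorem φ₂_apply (x : Pr p q) : φ₂ p q x = x.1.2 := rfl

theorem q_φ₁ (x : Pr p q) : q (φ₁ p q x) = p (φ₂ p q x) := x.2

/-- the element `(0, i)` for `i ∈ ker p` -/
def mkJ (i : A') (hi : p i = 0) : Pr p q := ⟨(0, i), by simp [hi]⟩

@[simp] theorem φ₁_mkJ (i : A') (hi : p i = 0) : φ₁ p q (mkJ p q i hi) = 0 := rfl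
@[simp] theorem φ₂_mkJ (i : A') (hi : p i = 0) : φ₂ p q (mkJ p q i hi) = i := rfl

theorem mkJ_mul (i : A') (hi : p i = 0) (x : Pr p q) :
    mkJ p q i hi * x = mkJ p q (i * φ₂ p q x) (by rw [map_mul, hi, zero_mul]) := by
  apply Subtype.ext
  apply Prod.ext <;> simp [mkJ]

theorem mkJ_mul_mkJ (i k : A') (hi : p i = 0) (hk : p k = 0) :
    mkJ p q i hi * mkJ p q k hk = mkJ p q (i * k) (by rw [map_mul, hi, zero_mul]) := by
  apply Subtype.ext
  apply Prod.ext <;> simp [mkJ]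

variable {p} in
theorem φ₁_surjective (hp : Function.Surjective p) : Function.Surjective (φ₁ p q) := by
  intro b
  obtain ⟨a', ha'⟩ := hp (q b)
  exact ⟨⟨(b, a'), ha'.symm⟩, rfl⟩

variable {p} in
/-- points containing `J` come from `Spec B` -/
theorem exists_comap_φ₁ (hp : Function.Surjective p) (y : PrimeSpectrum (Pr p q))
    (hy : ∀ (i : A') (hi : p i = 0), mkJ p q i hi ∈ y.asIdeal) :
    ∃ x₁ : PrimeSpectrum B, comap (φ₁ p q) x₁ = y := by
  have : y ∈ Set.range (comap (φ₁ p q)) := by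
    rw [_root_.range_comap_of_surjective B (φ₁ p q) (φ₁_surjective q hp)]
    intro x hx
    have h0 : x.1.1 = 0 := hx
    have h1 : p x.1.2 = 0 := by rw [← (mem_Pr p q x.1).1 x.2, h0, map_zero]
    have : x = mkJ p q x.1.2 h1 := by
      apply Subtype.ext
      apply Prod.ext
      · exact h0
      · rfl
    rw [this]
    exact hy _ h1
  exact this

/-- points not containing `(0,i)` come from `Spec A'` -/
theorem exists_comap_φ₂ (y : PrimeSpectrum (Pr p q)) (i : A') (hi : p i = 0)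
    (hy : mkJ p q i hi ∉ y.asIdeal) :
    ∃ x₂ : PrimeSpectrum A', comap (φ₂ p q) x₂ = y ∧
      ∀ a' : A', a' ∈ x₂.asIdeal ↔ mkJ p q (i * a') (by rw [map_mul, hi, zero_mul]) ∈ y.asIdeal := by
  have hz : ∀ a' : A', p (i * a') = 0 := fun a' => by rw [map_mul, hi, zero_mul]
  let I : Ideal A' :=
    { carrier := {a' | mkJ p q (i * a') (hz a') ∈ y.asIdeal}
      add_mem' := by
        intro a b ha hb
        have : mkJ p q (i * (a + b)) (hz _) = mkJ p q (i * a) (hz _) + mkJ p q (i * b) (hz _) := by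
          apply Subtype.ext
          apply Prod.ext <;> simp [mkJ, mul_add]
        change mkJ p q (i * (a + b)) (hz _) ∈ y.asIdeal
        rw [this]
        exact y.asIdeal.add_mem ha hb
      zero_mem' := by
        have : mkJ p q (i * 0) (hz _) = 0 := by
          apply Subtype.ext
          apply Prod.ext <;> simp [mkJ]
        change mkJ p q (i * 0) (hz _) ∈ y.asIdeal
        rw [this]
        exact y.asIdeal.zero_mem
      smul_mem' := by
        intro r a ha
        change mkJ p q (i * (r * a)) (hz _) ∈ y.asIdeal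
        have h1 : mkJ p q (i * (r * a)) (hz _) * mkJ p q i hi =
            mkJ p q (i * r) (hz _) * mkJ p q (i * a) (hz _) := by
          rw [mkJ_mul_mkJ, mkJ_mul_mkJ]
          congr 1
          ring
        have h2 : mkJ p q (i * (r * a)) (hz _) * mkJ p q i hi ∈ y.asIdeal := by
          rw [h1]
          exact y.asIdeal.mul_mem_left _ ha
        exact (y.isPrime.mem_or_mem h2).resolve_right hy }
  have hI : ∀ a', a' ∈ I ↔ mkJ p q (i * a') (hz a') ∈ y.asIdeal := fun _ => Iff.rfl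
  have hprime : I.IsPrime := by
    refine ⟨?_, ?_⟩
    · intro h
      have h1 : (1 : A') ∈ I := by rw [h]; trivial
      rw [hI] at h1
      apply hy
      convert h1 using 2
      rw [_root_.mul_one]
    · intro a b hab
      rw [hI] at hab
      have h1 : mkJ p q (i * a) (hz _) * mkJ p q (i * b) (hz _) =
          mkJ p q i hi * mkJ p q (i * (a * b)) (hz _) := by
        rw [mkJ_mul_mkJ, mkJ_mul_mkJ]
        congr 1
        ring
      have h2 : mkJ p q (i * a) (hz _) * mkJ p q (i * b) (hz _) ∈ y.asIdeal := by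
        rw [h1]
        exact y.asIdeal.mul_mem_left _ hab
      exact y.isPrime.mem_or_mem h2
  refine ⟨⟨I, hprime⟩, ?_, fun a' => hI a'⟩
  apply PrimeSpectrum.ext
  ext x
  change φ₂ p q x ∈ I ↔ x ∈ y.asIdeal
  rw [hI]
  have h1 : mkJ p q (i * φ₂ p q x) (hz _) = mkJ p q i hi * x := (mkJ_mul p q i hi x).symm
  rw [h1]
  constructor
  · intro h
    exact (y.isPrime.mem_or_mem h).resolve_left hy
  · intro h
    exact y.asIdeal.mul_mem_left _ h

variable {p} in
theorem joint_surjective (hp : Function.Surjective p) (y : PrimeSpectrum (Pr p q)) :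
    (∃ x₁ : PrimeSpectrum B, comap (φ₁ p q) x₁ = y) ∨
      (∃ x₂ : PrimeSpectrum A', comap (φ₂ p q) x₂ = y) := by
  by_cases h : ∀ (i : A') (hi : p i = 0), mkJ p q i hi ∈ y.asIdeal
  · exact Or.inl (exists_comap_φ₁ q hp y h)
  · push Not at h
    obtain ⟨i, hi, hy⟩ := h
    obtain ⟨x₂, hx₂, -⟩ := exists_comap_φ₂ p q y i hi hy
    exact Or.inr ⟨x₂, hx₂⟩

theorem comap_φ₁_comap_q (z : PrimeSpectrum A) :
    comap (φ₁ p q) (comap q z) = comap (φ₂ p q) (comap p z) := by
  apply PrimeSpectrum.ext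
  ext x
  change q (φ₁ p q x) ∈ z.asIdeal ↔ p (φ₂ p q x) ∈ z.asIdeal
  rw [q_φ₁]

variable {p} in
/-- points of `Spec A'` containing `ker p` come from `Spec A` -/
theorem exists_comap_p (hp : Function.Surjective p) (x₂ : PrimeSpectrum A')
    (h : ∀ i : A', p i = 0 → i ∈ x₂.asIdeal) : ∃ z : PrimeSpectrum A, x₂ = comap p z := by
  have : x₂ ∈ Set.range (comap p) := by
    rw [_root_.range_comap_of_surjective A p hp]
    intro i hi
    exact h i hi
  obtain ⟨z, hz⟩ := this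
  exact ⟨z, hz.symm⟩

variable {p} in
theorem F4 (hp : Function.Surjective p) (x₁ : PrimeSpectrum B) (x₂ : PrimeSpectrum A')
    (h : comap (φ₁ p q) x₁ = comap (φ₂ p q) x₂) :
    ∃ z : PrimeSpectrum A, x₁ = comap q z ∧ x₂ = comap p z := by
  obtain ⟨z, hz⟩ := exists_comap_p hp x₂ (fun i hi => by
    have h1 : mkJ p q i hi ∈ (comap (φ₁ p q) x₁).asIdeal := by
      change φ₁ p q (mkJ p q i hi) ∈ x₁.asIdeal
      rw [φ₁_mkJ]; exact x₁.asIdeal.zero_mem
    rw [h] at h1
    exact h1)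
  refine ⟨z, ?_, hz⟩
  apply comap_injective_of_surjective _ (φ₁_surjective q hp)
  rw [h, hz, comap_φ₁_comap_q]

variable {p} in
theorem F2 (hp : Function.Surjective p) (x₂ x₂' : PrimeSpectrum A')
    (h : comap (φ₂ p q) x₂ = comap (φ₂ p q) x₂') :
    x₂ = x₂' ∨ ∃ z z' : PrimeSpectrum A, x₂ = comap p z ∧ x₂' = comap p z' ∧
      comap q z = comap q z' := by
  have key : ∀ (w w' : PrimeSpectrum A'), comap (φ₂ p q) w = comap (φ₂ p q) w' →
      ∀ i : A', p i = 0 → i ∉ w.asIdeal → w'.asIdeal ≤ w.asIdeal := by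
    intro w w' hw i hi hiw a' ha'
    have hz : p (i * a') = 0 := by rw [map_mul, hi, zero_mul]
    have h1 : mkJ p q (i * a') hz ∈ (comap (φ₂ p q) w').asIdeal := by
      change φ₂ p q (mkJ p q (i * a') hz) ∈ w'.asIdeal
      rw [φ₂_mkJ]; exact w'.asIdeal.mul_mem_left _ ha'
    rw [← hw] at h1
    have h2 : i * a' ∈ w.asIdeal := h1
    exact (w.isPrime.mem_or_mem h2).resolve_left hiw
  have key2 : ∀ (w w' : PrimeSpectrum A'), comap (φ₂ p q) w = comap (φ₂ p q) w' →
      ∀ i : A', p i = 0 → i ∉ w.asIdeal → i ∉ w'.asIdeal := by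
    intro w w' hw i hi hiw hiw'
    have h1 : mkJ p q i hi ∈ (comap (φ₂ p q) w').asIdeal := hiw'
    rw [← hw] at h1
    exact hiw h1
  by_cases h1 : ∀ i : A', p i = 0 → i ∈ x₂.asIdeal
  · by_cases h2 : ∀ i : A', p i = 0 → i ∈ x₂'.asIdeal
    · obtain ⟨z, hz⟩ := exists_comap_p hp x₂ h1
      obtain ⟨z', hz'⟩ := exists_comap_p hp x₂' h2
      refine Or.inr ⟨z, z', hz, hz', ?_⟩
      apply comap_injective_of_surjective _ (φ₁_surjective q hp)
      rw [comap_φ₁_comap_q, comap_φ₁_comap_q, ← hz, ← hz', h]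
    · push Not at h2
      obtain ⟨i, hi, hix⟩ := h2
      exact absurd (h1 i hi) (key2 _ _ h.symm i hi hix)
  · push Not at h1
    obtain ⟨i, hi, hix⟩ := h1
    left
    apply PrimeSpectrum.ext
    exact le_antisymm (key _ _ h.symm i hi (key2 _ _ h i hi hix)) (key _ _ h i hi hix)

variable {p} in
/-- the topology of `Spec (B ×_A A')` is the quotient topology -/
theorem isOpen_of_preimages (hp : Function.Surjective p) (s : Set (PrimeSpectrum (Pr p q)))
    (h₁ : IsOpen (comap (φ₁ p q) ⁻¹' s)) (h₂ : IsOpen (comap (φ₂ p q) ⁻¹' s)) : IsOpen s := by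
  rw [isOpen_iff_forall_mem_open]
  intro y hy
  suffices ∃ f : Pr p q, f ∉ y.asIdeal ∧ ∀ y' : PrimeSpectrum (Pr p q), f ∉ y'.asIdeal → y' ∈ s by
    obtain ⟨f, hfy, hf⟩ := this
    exact ⟨(basicOpen f : Set _), fun y' hy' => hf y' hy', (basicOpen f).2, hfy⟩
  by_cases h : ∀ (i : A') (hi : p i = 0), mkJ p q i hi ∈ y.asIdeal
  · -- y comes from Spec B
    obtain ⟨x₁, rfl⟩ := exists_comap_φ₁ q hp y h
    obtain ⟨_, ⟨_, ⟨b, rfl⟩, rfl⟩, hbx, hbs⟩ :=
      (isBasis_basic_opens (R := B)).exists_subset_of_mem_open (show x₁ ∈ _ from hy) h₁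
    obtain ⟨K, hK⟩ := (isClosed_iff_zeroLocus_ideal _).1 (isClosed_compl_iff.2 h₂)
    -- q b ∈ radical (map p K)
    have hrad : q b ∈ (Ideal.map p K).radical := by
      rw [Ideal.radical_eq_sInf, Ideal.mem_sInf]
      rintro z ⟨hKz, hz⟩
      let z' : PrimeSpectrum A := ⟨z, hz⟩
      have h3 : comap p z' ∈ zeroLocus (K : Set A') := by
        intro k hk
        exact hKz (Ideal.mem_map_of_mem p hk)
      rw [← hK] at h3
      have h4 : comap q z' ∉ comap (φ₁ p q) ⁻¹' s := by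
        intro h5
        apply h3
        change comap (φ₂ p q) (comap p z') ∈ s
        rw [← comap_φ₁_comap_q]
        exact h5
      by_contra h6
      exact h4 (hbs h6)
    obtain ⟨n, hn⟩ := hrad
    have hn' : q b ^ (n + 1) ∈ Ideal.map p K := by
      rw [pow_succ]; exact Ideal.mul_mem_right _ _ hn
    rw [Ideal.mem_map_iff_of_surjective p hp] at hn'
    obtain ⟨k, hkK, hk⟩ := hn'
    refine ⟨⟨(b ^ (n + 1), k), by rw [mem_Pr]; simp only; rw [map_pow, hk]⟩, ?_, ?_⟩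
    · intro h7
      have h8 : b ^ (n + 1) ∈ x₁.asIdeal := h7
      exact hbx (x₁.isPrime.mem_of_pow_mem (n + 1) h8)
    · intro y' hy'
      rcases joint_surjective q hp y' with ⟨x₁', rfl⟩ | ⟨x₂', rfl⟩
      · apply hbs
        intro h9
        apply hy'
        change b ^ (n + 1) ∈ x₁'.asIdeal
        exact x₁'.asIdeal.pow_mem_of_mem h9 (n + 1) (Nat.succ_pos n)
      · by_contra h10
        have h11 : x₂' ∈ (comap (φ₂ p q) ⁻¹' s)ᶜ := h10
        rw [hK] at h11
        exact hy' (h11 hkK)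
  · push Not at h
    obtain ⟨i, hi, hiy⟩ := h
    obtain ⟨x₂, rfl, hx₂⟩ := exists_comap_φ₂ p q y i hi hiy
    obtain ⟨_, ⟨_, ⟨a', rfl⟩, rfl⟩, hax, has⟩ :=
      (isBasis_basic_opens (R := A')).exists_subset_of_mem_open (show x₂ ∈ _ from hy) h₂
    have hz : ∀ a'' : A', p (i * a'') = 0 := fun a'' => by rw [map_mul, hi, zero_mul]
    refine ⟨mkJ p q (i * a') (hz a'), ?_, ?_⟩
    · intro h12
      exact hax ((hx₂ a').2 h12)
    · intro y' hy'
      have hiy' : mkJ p q i hi ∉ y'.asIdeal := by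
        intro h13
        apply hy'
        have h14 : mkJ p q (i * a') (hz a') * mkJ p q (i * a') (hz a') =
            mkJ p q i hi * mkJ p q (i * (a' * a')) (hz _) := by
          rw [mkJ_mul_mkJ, mkJ_mul_mkJ]
          congr 1
          ring
        have h15 : mkJ p q (i * a') (hz a') * mkJ p q (i * a') (hz a') ∈ y'.asIdeal := by
          rw [h14]
          exact y'.asIdeal.mul_mem_right _ h13
        exact (y'.isPrime.mem_or_mem h15).elim id id
      obtain ⟨x₂', rfl, hx₂'⟩ := exists_comap_φ₂ p q y' i hi hiy'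
      apply has
      intro h15
      exact hy' ((hx₂' a').1 h15)

end Top

section Main
variable {A A' B : Type u} [CommRing A] [CommRing A'] [CommRing B] (p : A' →+* A) (q : B →+* A)

/-- `Spec (B × A') ⟶ Spec (B ×_A A')` -/
noncomputable abbrev piS : Spec (CommRingCat.of (B × A')) ⟶ Spec (CommRingCat.of (Pr p q)) :=
  Spec.map (CommRingCat.ofHom (Pr p q).subtype)

/-- `Spec B ⟶ Spec (B × A')` -/
noncomputable abbrev i₁ (A' B : Type u) [CommRing A'] [CommRing B] :
    Spec (CommRingCat.of B) ⟶ Spec (CommRingCat.of (B × A')) :=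
  Spec.map (CommRingCat.ofHom (RingHom.fst B A'))

/-- `Spec A' ⟶ Spec (B × A')` -/
noncomputable abbrev i₂ (A' B : Type u) [CommRing A'] [CommRing B] :
    Spec (CommRingCat.of A') ⟶ Spec (CommRingCat.of (B × A')) :=
  Spec.map (CommRingCat.ofHom (RingHom.snd B A'))

theorem exists_i (x : Spec (CommRingCat.of (B × A'))) :
    (∃ x₁, (i₁ A' B).base x₁ = x) ∨ (∃ x₂, (i₂ A' B).base x₂ = x) := by
  obtain ⟨y, rfl⟩ := (primeSpectrumProd B A').symm.surjective x
  rcases y with x₁ | x₂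
  · exact Or.inl ⟨x₁, (primeSpectrumProd_symm_inl x₁).symm⟩
  · exact Or.inr ⟨x₂, (primeSpectrumProd_symm_inr x₂).symm⟩

theorem piS_i₁ (x₁ : Spec (CommRingCat.of B)) :
    (piS p q).base ((i₁ A' B).base x₁) = comap (φ₁ p q) x₁ := rfl

theorem piS_i₂ (x₂ : Spec (CommRingCat.of A')) :
    (piS p q).base ((i₂ A' B).base x₂) = comap (φ₂ p q) x₂ := rfl

variable {p} in
theorem isQuotientMap_piS (hp : Function.Surjective p) :
    Topology.IsQuotientMap (piS p q).base := by
  refine ⟨Topology.IsCoinducing.of_isOpen_preimage_iff_isOpen (fun s => ⟨fun hs => ?_,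
    fun hs => IsOpen.preimage (piS p q).base.hom.continuous hs⟩), ?_⟩
  · apply isOpen_of_preimages q hp
    · exact IsOpen.preimage (i₁ A' B).base.hom.continuous hs
    · exact IsOpen.preimage (i₂ A' B).base.hom.continuous hs
  · intro y
    rcases joint_surjective q hp y with ⟨x₁, rfl⟩ | ⟨x₂, rfl⟩
    · exact ⟨(i₁ A' B).base x₁, piS_i₁ p q x₁⟩
    · exact ⟨(i₂ A' B).base x₂, piS_i₂ p q x₂⟩

/-- `Spec A ⟶ Spec (B × A')` through `Spec B` -/
noncomputable abbrev j₁S (A' : Type u) [CommRing A'] :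
    Spec (CommRingCat.of A) ⟶ Spec (CommRingCat.of (B × A')) :=
  Spec.map (CommRingCat.ofHom (q.comp (RingHom.fst B A')))

/-- `Spec A ⟶ Spec (B × A')` through `Spec A'` -/
noncomputable abbrev j₂S (B : Type u) [CommRing B] :
    Spec (CommRingCat.of A) ⟶ Spec (CommRingCat.of (B × A')) :=
  Spec.map (CommRingCat.ofHom (p.comp (RingHom.snd B A')))

theorem j₁S_eq : j₁S q A' = Spec.map (CommRingCat.ofHom q) ≫ i₁ A' B := by
  rw [← Spec.map_comp]; rfl

theorem j₂S_eq : j₂S p B = Spec.map (CommRingCat.ofHom p) ≫ i₂ A' B := by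
  rw [← Spec.map_comp]; rfl

theorem j_comp_piS : j₁S q A' ≫ piS p q = j₂S p B ≫ piS p q := by
  rw [← Spec.map_comp, ← Spec.map_comp]
  congr 1
  ext x
  exact x.2

variable {p} in
theorem hfib (hp : Function.Surjective p) {T : Scheme.{u}}
    (g : Spec (CommRingCat.of (B × A')) ⟶ T) (hg : j₁S q A' ≫ g = j₂S p B ≫ g)
    (x x' : Spec (CommRingCat.of (B × A'))) (h : (piS p q).base x = (piS p q).base x') :
    g.base x = g.base x' := by
  have hz : ∀ z : Spec (CommRingCat.of A),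
      g.base ((i₁ A' B).base (comap q z)) = g.base ((i₂ A' B).base (comap p z)) := by
    intro z
    have := congrArg (fun k : Spec (CommRingCat.of A) ⟶ T => k.base z) hg
    exact this
  rcases exists_i x with ⟨x₁, rfl⟩ | ⟨x₂, rfl⟩ <;> rcases exists_i x' with ⟨x₁', rfl⟩ | ⟨x₂', rfl⟩
  · rw [piS_i₁, piS_i₁] at h
    rw [comap_injective_of_surjective _ (φ₁_surjective q hp) h]
  · rw [piS_i₁, piS_i₂] at h
    obtain ⟨z, rfl, rfl⟩ := F4 q hp _ _ h
    exact hz z
  · rw [piS_i₂, piS_i₁] at h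
    obtain ⟨z, rfl, rfl⟩ := F4 q hp _ _ h.symm
    exact (hz z).symm
  · rw [piS_i₂, piS_i₂] at h
    rcases F2 q hp _ _ h with rfl | ⟨z, z', rfl, rfl, hzz⟩
    · rfl
    · rw [← hz z, ← hz z', hzz]

section Desc
variable {T : Scheme.{u}} (a : Spec (CommRingCat.of A') ⟶ T) (b : Spec (CommRingCat.of B) ⟶ T)

/-- the joint map `Spec (B × A') ⟶ T` -/
noncomputable def gS : Spec (CommRingCat.of (B × A')) ⟶ T :=
  inv (coprodSpec B A') ≫ coprod.desc b a

theorem i₁_gS : i₁ A' B ≫ gS a b = b := by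
  rw [gS, show i₁ A' B = coprod.inl ≫ coprodSpec B A' from (coprodSpec_inl B A').symm,
    Category.assoc, IsIso.hom_inv_id_assoc, coprod.inl_desc]

theorem i₂_gS : i₂ A' B ≫ gS a b = a := by
  rw [gS, show i₂ A' B = coprod.inr ≫ coprodSpec B A' from (coprodSpec_inr B A').symm,
    Category.assoc, IsIso.hom_inv_id_assoc, coprod.inr_desc]

theorem hom_ext_prod (k₁ k₂ : Spec (CommRingCat.of (B × A')) ⟶ T)
    (h₁ : i₁ A' B ≫ k₁ = i₁ A' B ≫ k₂) (h₂ : i₂ A' B ≫ k₁ = i₂ A' B ≫ k₂) : k₁ = k₂ := by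
  rw [← cancel_epi (coprodSpec B A')]
  apply coprod.hom_ext
  · rw [← Category.assoc, ← Category.assoc, coprodSpec_inl]; exact h₁
  · rw [← Category.assoc, ← Category.assoc, coprodSpec_inr]; exact h₂

end Desc

variable {p} in
/-- **`Spec (B ×_A A')` is the pushout of `Spec B` and `Spec A'` along `Spec A`** in schemes, for
`p : A' → A` surjective (concrete fibre product ring). -/
theorem isPushout_Pr (hp : Function.Surjective p) :
    IsPushout (Spec.map (CommRingCat.ofHom p)) (Spec.map (CommRingCat.ofHom q))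
      (Spec.map (CommRingCat.ofHom (φ₂ p q))) (Spec.map (CommRingCat.ofHom (φ₁ p q))) := by
  have hw : Spec.map (CommRingCat.ofHom p) ≫ Spec.map (CommRingCat.ofHom (φ₂ p q)) =
      Spec.map (CommRingCat.ofHom q) ≫ Spec.map (CommRingCat.ofHom (φ₁ p q)) := by
    rw [← Spec.map_comp, ← Spec.map_comp]
    congr 1
    ext x
    exact (q_φ₁ p q x).symm
  have e₁ : Spec.map (CommRingCat.ofHom (φ₁ p q)) = i₁ A' B ≫ piS p q := by
    rw [← Spec.map_comp]; rfl
  have e₂ : Spec.map (CommRingCat.ofHom (φ₂ p q)) = i₂ A' B ≫ piS p q := by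
    rw [← Spec.map_comp]; rfl
  have hex := hex_spec (CommRingCat.ofHom (Pr p q).subtype)
    (CommRingCat.ofHom (q.comp (RingHom.fst B A'))) (CommRingCat.ofHom (p.comp (RingHom.snd B A')))
    (fun c hc => ⟨⟨c, hc⟩, rfl⟩)
  have hinj := app_injective_specMap (CommRingCat.ofHom (Pr p q).subtype)
    (Subtype.val_injective)
  have h1 := isQuotientMap_piS q hp
  have hg : ∀ {T : Scheme.{u}} (a : Spec (CommRingCat.of A') ⟶ T) (b : Spec (CommRingCat.of B) ⟶ T),
      Spec.map (CommRingCat.ofHom p) ≫ a = Spec.map (CommRingCat.ofHom q) ≫ b →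
      j₁S q A' ≫ gS a b = j₂S p B ≫ gS a b := by
    intro T a b hab
    rw [j₁S_eq, j₂S_eq, Category.assoc, Category.assoc, i₁_gS, i₂_gS, hab]
  refine ⟨⟨hw⟩, ⟨PushoutCocone.IsColimit.mk _
    (fun s => Coeq.desc (piS p q) (j₁S q A') (j₂S p B) (j_comp_piS p q) hex hinj h1
      (gS s.inl s.inr) (hg s.inl s.inr s.condition) (hfib q hp _ (hg s.inl s.inr s.condition)))
    (fun s => ?_) (fun s => ?_) (fun s m hm₁ hm₂ => ?_)⟩⟩
  · rw [e₂, Category.assoc, Coeq.fac, i₂_gS]
  · rw [e₁, Category.assoc, Coeq.fac, i₁_gS]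
  · apply Coeq.uniq (piS p q) hinj h1
    rw [Coeq.fac]
    apply hom_ext_prod
    · rw [i₁_gS, ← Category.assoc, ← e₁]; exact hm₂
    · rw [i₂_gS, ← Category.assoc, ← e₂]; exact hm₁

variable {p} in
/-- **Stacks 0ET0**: `Spec` of the fibre product ring is the pushout in schemes. -/
theorem isPushout_pullback (hp : Function.Surjective p) :
    IsPushout (Spec.map (CommRingCat.ofHom p)) (Spec.map (CommRingCat.ofHom q))
      (Spec.map (pullback.snd (CommRingCat.ofHom q) (CommRingCat.ofHom p)))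
      (Spec.map (pullback.fst (CommRingCat.ofHom q) (CommRingCat.ofHom p))) := by
  let e : pullback (CommRingCat.ofHom q) (CommRingCat.ofHom p) ≅ CommRingCat.of (Pr p q) :=
    limit.isoLimitCone ⟨_, CommRingCat.pullbackConeIsLimit (CommRingCat.ofHom q) (CommRingCat.ofHom p)⟩
  have h₁ : e.hom ≫ CommRingCat.ofHom (φ₁ p q) =
      pullback.fst (CommRingCat.ofHom q) (CommRingCat.ofHom p) :=
    limit.isoLimitCone_hom_π ⟨_, CommRingCat.pullbackConeIsLimit (CommRingCat.ofHom q)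
      (CommRingCat.ofHom p)⟩ WalkingCospan.left
  have h₂ : e.hom ≫ CommRingCat.ofHom (φ₂ p q) =
      pullback.snd (CommRingCat.ofHom q) (CommRingCat.ofHom p) :=
    limit.isoLimitCone_hom_π ⟨_, CommRingCat.pullbackConeIsLimit (CommRingCat.ofHom q)
      (CommRingCat.ofHom p)⟩ WalkingCospan.right
  refine (isPushout_Pr q hp).of_iso (Iso.refl _) (Iso.refl _) (Iso.refl _)
    (Scheme.Spec.mapIso e.op) ?_ ?_ ?_ ?_
  · simp
  · simp
  · rw [Iso.refl_hom, Category.id_comp, ← h₂, Spec.map_comp]; rfl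
  · rw [Iso.refl_hom, Category.id_comp, ← h₁, Spec.map_comp]; rfl

end Main

end Groth.Agent.Lib.Helper12.SpecPushout
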