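import Mathlib
import Groth.Prelude.Def_MoreMor

/-!
Quasi-affine schemes: a quasi-compact scheme covered by quasi-affine basic opens of global
sections is quasi-affine; consequences for ind-quasi-affine schemes.
-/

set_option autoImplicit false
universe u
open AlgebraicGeometry CategoryTheory Limits TopologicalSpace

namespace Groth.Agent.Lib.helper12

theorem qa_of_basicOpen_cover (X : Scheme.{u}) [CompactSpace X]
    (H : ∀ x : X, ∃ s : Γ(X, ⊤), x ∈ X.basicOpen s ∧
      Scheme.IsQuasiAffine (X.basicOpen s : Scheme.{u})) :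
    X.IsQuasiAffine := by
  have hqs : QuasiSeparatedSpace X := by
    choose s hs hqa using H
    refine .of_isOpenCover (U := fun x => X.basicOpen (s x))
      (eq_top_iff.mpr fun x _ ↦ Opens.mem_iSup.mpr ⟨x, hs x⟩)
      (fun _ ↦ isRetrocompact_basicOpen _) (fun x ↦ ?_)
    have := hqa x
    exact (isQuasiSeparated_iff_quasiSeparatedSpace _ (X.basicOpen (s x)).2).mpr
      (show QuasiSeparatedSpace (X.basicOpen (s x)).toScheme from inferInstance)
  refine Scheme.IsQuasiAffine.of_forall_exists_mem_basicOpen X fun x ↦ ?_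
  obtain ⟨s, hxs, hqa⟩ := H x
  obtain ⟨_, ⟨r', hr', rfl⟩, hx', -⟩ := Opens.isBasis_iff_nbhd.mp
    (Scheme.IsQuasiAffine.isBasis_basicOpen (X.basicOpen s : Scheme.{u}))
    (show (⟨x, hxs⟩ : (X.basicOpen s : Scheme.{u})) ∈ (⊤ : (X.basicOpen s).toScheme.Opens) from trivial)
  set z : Γ(X, X.basicOpen s) := (X.basicOpen s).topIso.hom r' with hz
  have himg : (X.basicOpen s).ι ''ᵁ (X.basicOpen s).toScheme.basicOpen r' = X.basicOpen z := by
    have h := Scheme.Opens.ι_image_basicOpen_topIso_inv (U := X.basicOpen s) z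
    have hinv : (X.basicOpen s).topIso.inv z = r' := by
      rw [hz]; exact Iso.hom_inv_id_apply _ r'
    rw [← h, hinv]
  have haff : IsAffineOpen (X.basicOpen z) := by
    rw [← himg]
    exact hr'.image_of_isOpenImmersion _
  have hxz : x ∈ X.basicOpen z := by
    rw [← himg]
    exact ⟨⟨x, hxs⟩, hx', rfl⟩
  obtain ⟨n, y, hy⟩ := exists_eq_pow_mul_of_isCompact_of_isQuasiSeparated X ⊤ isCompact_univ
    isQuasiSeparated_univ s z
  refine ⟨y * s, ?_⟩
  have hbo : X.basicOpen (y * s) = X.basicOpen z := by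
    have h1 : X.basicOpen (y |_ X.basicOpen s) = X.basicOpen s ⊓ X.basicOpen y :=
      Scheme.basicOpen_res _ _ _
    have hu : IsUnit ((s |_ X.basicOpen s) ^ n) :=
      (RingedSpace.isUnit_res_basicOpen _ s).pow n
    rw [hy, Scheme.basicOpen_mul, Scheme.basicOpen_of_isUnit _ hu,
      inf_eq_right.mpr (Scheme.basicOpen_le _ z)] at h1
    rw [Scheme.basicOpen_mul, inf_comm, ← h1]
  rw [hbo]
  exact ⟨haff, hxz⟩

/-- A quasi-compact scheme with an open immersion into an ind-quasi-affine scheme is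
quasi-affine. -/
theorem qa_of_openImmersion_indQA {A B : Scheme.{u}} (j : A ⟶ B) [IsOpenImmersion j]
    [CompactSpace A] (hB : MoreMor.IsIndQuasiAffine B) : A.IsQuasiAffine := by
  have hc : IsCompact (j.opensRange : Set B) := by
    simpa using isCompact_range j.continuous
  have := hB j.opensRange hc
  exact Scheme.IsQuasiAffine.of_isImmersion j.isoOpensRange.hom

/-- Local criterion relative to an affine target. -/
theorem qa_of_affine_target {T V : Scheme.{u}} [CompactSpace T] (φ : T ⟶ V)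
    (H : ∀ x : T, ∃ t : Γ(V, ⊤), φ x ∈ V.basicOpen t ∧
      Scheme.IsQuasiAffine (φ ⁻¹ᵁ V.basicOpen t : Scheme.{u})) :
    T.IsQuasiAffine := by
  refine qa_of_basicOpen_cover T fun x ↦ ?_
  obtain ⟨t, hxt, hqa⟩ := H x
  refine ⟨φ.appTop t, ?_, ?_⟩
  · rw [← Scheme.preimage_basicOpen_top]; exact hxt
  · rw [← Scheme.preimage_basicOpen_top]; exact hqa

end Groth.Agent.Lib.helper12
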