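import Mathlib
import Groth.Prelude.Def_MoreMor
import Groth.Agent.Lib.Helper12.QuasiAffine

/-!
More on quasi-affine morphisms: quasi-compact + ind-quasi-affine implies quasi-affine.
-/

set_option autoImplicit false
universe u
open AlgebraicGeometry CategoryTheory Limits TopologicalSpace

namespace Groth.Agent.Lib.helper12

/-- A compact open subscheme of a quasi-affine scheme is quasi-affine. -/
theorem qa_of_open {T : Scheme.{u}} [T.IsQuasiAffine] (U : T.Opens) (hU : IsCompact (U : Set T)) :
    Scheme.IsQuasiAffine (U : Scheme.{u}) := by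
  have : CompactSpace (U : Scheme.{u}) := isCompact_iff_compactSpace.mp hU
  exact Scheme.IsQuasiAffine.of_isImmersion U.ι

/-- A quasi-affine scheme is ind-quasi-affine. -/
theorem indQA_of_qa {T : Scheme.{u}} [T.IsQuasiAffine] : MoreMor.IsIndQuasiAffine T :=
  fun U hU => qa_of_open U hU

/-- A quasi-compact ind-quasi-affine scheme is quasi-affine. -/
theorem qa_of_indQA_of_compact {T : Scheme.{u}} [CompactSpace T] (h : MoreMor.IsIndQuasiAffine T) :
    T.IsQuasiAffine := by
  have h1 : Scheme.IsQuasiAffine ((⊤ : T.Opens) : Scheme.{u}) := h ⊤ (by simpa using isCompact_univ)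
  exact Scheme.IsQuasiAffine.of_isImmersion (Scheme.topIso T).inv

theorem qaHom_of_indQAHom_of_qc {X Y : Scheme.{u}} (f : X ⟶ Y) [QuasiCompact f]
    (h : MoreMor.IsIndQuasiAffineHom f) : MoreMor.IsQuasiAffineHom f := by
  refine ⟨inferInstance, fun V hV => ?_⟩
  have hc : IsCompact ((f ⁻¹ᵁ V : X.Opens) : Set X) :=
    QuasiCompact.isCompact_preimage (f := f) _ V.2 hV.isCompact
  have : CompactSpace (f ⁻¹ᵁ V : Scheme.{u}) := isCompact_iff_compactSpace.mp hc
  exact qa_of_indQA_of_compact (h V hV)

theorem indQAHom_of_qaHom {X Y : Scheme.{u}} (f : X ⟶ Y)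
    (h : MoreMor.IsQuasiAffineHom f) : MoreMor.IsIndQuasiAffineHom f := by
  intro V hV U hU
  have := h.2 V hV
  exact qa_of_open U hU

end Groth.Agent.Lib.helper12
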