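import Mathlib

/-!
# Graded algebra helpers for finite generation of `M_(f)` (general degrees) (helper12)

* `exists_homogeneous_gens`: a finitely generated irrelevant ideal is generated by finitely many
  homogeneous elements of positive degree.
* `exists_coeffs`: a homogeneous element of positive degree `n` is `∑ a j * g j` with `a j`
  homogeneous of degree `n - deg (g j)` (zero when `deg (g j) > n`).
* `mono`, `wt`: monomials in the generators with exponents `< e` and the stepping lemmas.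
-/

set_option autoImplicit false
universe u

namespace Groth.Agent.Lib.helper12.TildeFT

open DirectSum

variable {R A : Type u} [CommRing R] [CommRing A] [Algebra R A] (𝒜 : ℕ → Submodule R A)
  [GradedAlgebra 𝒜]

/-- A finitely generated irrelevant ideal has finitely many homogeneous generators of positive
degree. -/
theorem exists_homogeneous_gens (hfg : (HomogeneousIdeal.irrelevant 𝒜).toIdeal.FG) :
    ∃ (S : Finset A) (e : A → ℕ), (∀ s ∈ S, 0 < e s ∧ s ∈ 𝒜 (e s)) ∧
      (HomogeneousIdeal.irrelevant 𝒜).toIdeal = Ideal.span (S : Set A) := by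
  classical
  obtain ⟨S₀, hS₀⟩ := hfg
  let S : Finset A := S₀.biUnion fun s => (DirectSum.decompose 𝒜 s).support.image
    fun i => (DirectSum.decompose 𝒜 s i : A)
  have hmem : ∀ s ∈ S, ∃ n : ℕ, 0 < n ∧ s ∈ 𝒜 n := by
    intro s hs
    simp only [S, Finset.mem_biUnion, Finset.mem_image] at hs
    obtain ⟨s₀, hs₀, i, hi, rfl⟩ := hs
    refine ⟨i, ?_, SetLike.coe_mem _⟩
    rcases Nat.eq_zero_or_pos i with h0 | h0
    · exfalso
      subst h0
      have hs₀' : s₀ ∈ (HomogeneousIdeal.irrelevant 𝒜).toIdeal := by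
        rw [← hS₀]; exact Ideal.subset_span hs₀
      have : GradedRing.proj 𝒜 0 s₀ = 0 := (HomogeneousIdeal.mem_irrelevant_iff 𝒜 s₀).mp hs₀'
      rw [DFinsupp.mem_support_iff] at hi
      apply hi
      apply Subtype.ext
      exact this
    · exact h0
  choose! e he using hmem
  refine ⟨S, e, he, ?_⟩
  apply le_antisymm
  · rw [← hS₀, Ideal.span_le]
    intro s hs
    rw [← DirectSum.sum_support_decompose 𝒜 s]
    refine Ideal.sum_mem _ fun i hi => Ideal.subset_span ?_
    simp only [S, Finset.coe_biUnion, Finset.coe_image, Set.mem_iUnion, Set.mem_image,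
      Finset.mem_coe, exists_prop]
    exact ⟨s, hs, i, hi, rfl⟩
  · rw [Ideal.span_le]
    intro s hs
    obtain ⟨h1, h2⟩ := he s hs
    exact HomogeneousIdeal.mem_irrelevant_of_mem 𝒜 h1 h2

variable {J : Type u} [Fintype J] (g : J → A) (eg : J → ℕ)

/-- Coefficient extraction: a homogeneous element of positive degree `n` is a combination of
the generators with homogeneous coefficients. -/
theorem exists_coeffs (hg : ∀ j, g j ∈ 𝒜 (eg j))
    (hspan : (HomogeneousIdeal.irrelevant 𝒜).toIdeal = Ideal.span (Set.range g))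
    {n : ℕ} (hn : 0 < n) {c : A} (hc : c ∈ 𝒜 n) :
    ∃ a : J → A, (∀ j, a j ∈ 𝒜 (n - eg j)) ∧ (∀ j, ¬ eg j ≤ n → a j = 0) ∧
      c = ∑ j, a j * g j := by
  classical
  have hc' : c ∈ Ideal.span (Set.range g) := by
    rw [← hspan]; exact HomogeneousIdeal.mem_irrelevant_of_mem 𝒜 hn hc
  obtain ⟨b, hb⟩ := (Ideal.mem_span_range_iff_exists_fun).mp hc'
  refine ⟨fun j => if eg j ≤ n then (DirectSum.decompose 𝒜 (b j) (n - eg j) : A) else 0,
    fun j => ?_, fun j hj => if_neg hj, ?_⟩
  · dsimp only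
    split_ifs
    · exact SetLike.coe_mem _
    · exact zero_mem _
  · have h1 : (DirectSum.decompose 𝒜 c n : A) = c := DirectSum.decompose_of_mem_same 𝒜 hc
    rw [← h1, ← hb, DirectSum.decompose_sum, DFinsupp.finsetSum_apply,
      AddSubmonoidClass.coe_finsetSum]
    refine Finset.sum_congr rfl fun j _ => ?_
    dsimp only
    by_cases hj : eg j ≤ n
    · rw [if_pos hj, DirectSum.coe_decompose_mul_of_right_mem_of_le 𝒜 (hg j) hj]
    · rw [if_neg hj, zero_mul, DirectSum.coe_decompose_mul_of_right_mem_of_not_le 𝒜 (hg j) hj]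

variable {e : ℕ}

/-- The monomial `∏ g j ^ ρ j`. -/
def mono (ρ : J → Fin e) : A := ∏ j, g j ^ (ρ j : ℕ)

/-- The weighted degree of the monomial. -/
def wt (ρ : J → Fin e) : ℕ := ∑ j, (ρ j : ℕ) * eg j

theorem mono_mem (hg : ∀ j, g j ∈ 𝒜 (eg j)) (ρ : J → Fin e) : mono g ρ ∈ 𝒜 (wt eg ρ) := by
  classical
  have := SetLike.prod_pow_mem_graded 𝒜 (fun j => eg j) (fun j => g j) (fun j => (ρ j : ℕ))
    (F := Finset.univ) (fun j _ => hg j)
  simpa [mono, wt, smul_eq_mul] using this

variable [DecidableEq J]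

theorem mono_update (ρ : J → Fin e) (i : J) (v : Fin e) :
    mono g (Function.update ρ i v) * g i ^ (ρ i : ℕ) = mono g ρ * g i ^ (v : ℕ) := by
  classical
  have e1 : mono g (Function.update ρ i v) =
      g i ^ (v : ℕ) * ∏ j ∈ Finset.univ.erase i, g j ^ (ρ j : ℕ) := by
    unfold mono
    rw [← Finset.mul_prod_erase Finset.univ
      (fun j => g j ^ ((Function.update ρ i v j : Fin e) : ℕ)) (Finset.mem_univ i)]
    simp only [Function.update_self]
    congr 1
    refine Finset.prod_congr rfl fun j hj => ?_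
    rw [Function.update_of_ne (Finset.ne_of_mem_erase hj)]
  have e2 : mono g ρ = g i ^ (ρ i : ℕ) * ∏ j ∈ Finset.univ.erase i, g j ^ (ρ j : ℕ) := by
    unfold mono
    rw [← Finset.mul_prod_erase Finset.univ (fun j => g j ^ (ρ j : ℕ)) (Finset.mem_univ i)]
  rw [e1, e2]
  ring

theorem wt_update (ρ : J → Fin e) (i : J) (v : Fin e) :
    wt eg (Function.update ρ i v) + (ρ i : ℕ) * eg i = wt eg ρ + (v : ℕ) * eg i := by
  classical
  have e1 : wt eg (Function.update ρ i v) =
      (v : ℕ) * eg i + ∑ j ∈ Finset.univ.erase i, (ρ j : ℕ) * eg j := by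
    unfold wt
    rw [← Finset.add_sum_erase Finset.univ
      (fun j => ((Function.update ρ i v j : Fin e) : ℕ) * eg j) (Finset.mem_univ i)]
    simp only [Function.update_self]
    congr 1
    refine Finset.sum_congr rfl fun j hj => ?_
    rw [Function.update_of_ne (Finset.ne_of_mem_erase hj)]
  have e2 : wt eg ρ = (ρ i : ℕ) * eg i + ∑ j ∈ Finset.univ.erase i, (ρ j : ℕ) * eg j := by
    unfold wt
    rw [← Finset.add_sum_erase Finset.univ (fun j => (ρ j : ℕ) * eg j) (Finset.mem_univ i)]
  rw [e1, e2]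
  ring

/-- Stepping up: if `ρ i + 1 < e`, multiplying by `g i` gives another monomial. -/
theorem mono_step_lt (ρ : J → Fin e) (i : J) (h : (ρ i : ℕ) + 1 < e) :
    g i * mono g ρ = mono g (Function.update ρ i ⟨(ρ i : ℕ) + 1, h⟩) ∧
      wt eg (Function.update ρ i ⟨(ρ i : ℕ) + 1, h⟩) = wt eg ρ + eg i := by
  classical
  have e1 : mono g (Function.update ρ i ⟨(ρ i : ℕ) + 1, h⟩) =
      g i ^ ((ρ i : ℕ) + 1) * ∏ j ∈ Finset.univ.erase i, g j ^ (ρ j : ℕ) := by
    unfold mono
    rw [← Finset.mul_prod_erase Finset.univ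
      (fun j => g j ^ ((Function.update ρ i ⟨(ρ i : ℕ) + 1, h⟩ j : Fin e) : ℕ))
      (Finset.mem_univ i)]
    simp only [Function.update_self]
    congr 1
    refine Finset.prod_congr rfl fun j hj => ?_
    rw [Function.update_of_ne (Finset.ne_of_mem_erase hj)]
  have e2 : mono g ρ = g i ^ (ρ i : ℕ) * ∏ j ∈ Finset.univ.erase i, g j ^ (ρ j : ℕ) := by
    unfold mono
    rw [← Finset.mul_prod_erase Finset.univ (fun j => g j ^ (ρ j : ℕ)) (Finset.mem_univ i)]
  constructor
  · rw [e1, e2]
    ring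
  · have := wt_update eg ρ i ⟨(ρ i : ℕ) + 1, h⟩
    simp only at this
    have h2 : ((ρ i : ℕ) + 1) * eg i = (ρ i : ℕ) * eg i + eg i := by ring
    omega

/-- Wrapping: if `ρ i + 1 = e`, multiplying by `g i` gives `g i ^ e` times a monomial. -/
theorem mono_step_eq (ρ : J → Fin e) (i : J) (he : 0 < e) (h : (ρ i : ℕ) + 1 = e) :
    g i * mono g ρ = g i ^ e * mono g (Function.update ρ i ⟨0, he⟩) ∧
      wt eg ρ + eg i = e * eg i + wt eg (Function.update ρ i ⟨0, he⟩) := by
  classical
  have e1 : mono g (Function.update ρ i ⟨0, he⟩) =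
      ∏ j ∈ Finset.univ.erase i, g j ^ (ρ j : ℕ) := by
    unfold mono
    rw [← Finset.mul_prod_erase Finset.univ
      (fun j => g j ^ ((Function.update ρ i ⟨0, he⟩ j : Fin e) : ℕ))
      (Finset.mem_univ i)]
    simp only [Function.update_self, pow_zero, one_mul]
    refine Finset.prod_congr rfl fun j hj => ?_
    rw [Function.update_of_ne (Finset.ne_of_mem_erase hj)]
  have e2 : mono g ρ = g i ^ (ρ i : ℕ) * ∏ j ∈ Finset.univ.erase i, g j ^ (ρ j : ℕ) := by
    unfold mono
    rw [← Finset.mul_prod_erase Finset.univ (fun j => g j ^ (ρ j : ℕ)) (Finset.mem_univ i)]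
  constructor
  · rw [e1, e2]
    have h3 : g i ^ e = g i ^ ((ρ i : ℕ) + 1) := by rw [h]
    rw [h3]
    ring
  · have := wt_update eg ρ i ⟨0, he⟩
    simp only [zero_mul, add_zero] at this
    have h2 : e * eg i = (ρ i : ℕ) * eg i + eg i := by
      calc e * eg i = ((ρ i : ℕ) + 1) * eg i := by rw [h]
        _ = _ := by ring
    omega

end Groth.Agent.Lib.helper12.TildeFT
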