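import Mathlib
import Groth.Agent.Lib.Helper12.TildeFT1

/-!
# A graded ring with finitely generated irrelevant ideal is of finite type over its degree-zero
part; `Proj` of a Noetherian graded ring is Noetherian (helper12)
-/

set_option autoImplicit false
set_option linter.unusedSectionVars false
universe u

namespace Groth.Agent.Lib.helper12.GradedFT

open Groth.Agent.Lib.helper12.TildeFT AlgebraicGeometry

variable {R A : Type u} [CommRing R] [CommRing A] [Algebra R A] (𝒜 : ℕ → Submodule R A)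
  [GradedAlgebra 𝒜]

/-- If homogeneous elements `g j` of positive degrees generate the irrelevant ideal, they generate
`A` as an algebra over `𝒜 0`. -/
theorem adjoin_eq_top {J : Type u} [Fintype J] (g : J → A) (eg : J → ℕ)
    (hg : ∀ j, g j ∈ 𝒜 (eg j)) (hpos : ∀ j, 0 < eg j)
    (hspan : (HomogeneousIdeal.irrelevant 𝒜).toIdeal = Ideal.span (Set.range g)) :
    Algebra.adjoin (𝒜 0) (Set.range g) = ⊤ := by
  classical
  have key : ∀ n : ℕ, ∀ a ∈ 𝒜 n, a ∈ Algebra.adjoin (𝒜 0) (Set.range g) := by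
    intro n
    induction n using Nat.strong_induction_on with
    | _ n ih =>
    intro a ha
    rcases Nat.eq_zero_or_pos n with h0 | hn
    · subst h0
      exact Subalgebra.algebraMap_mem _ (⟨a, ha⟩ : 𝒜 0)
    · obtain ⟨c, hc1, hc2, hca⟩ := exists_coeffs 𝒜 g eg hg hspan hn ha
      rw [hca]
      refine Subalgebra.sum_mem _ fun j _ => ?_
      by_cases hle : eg j ≤ n
      · exact Subalgebra.mul_mem _ (ih (n - eg j) (Nat.sub_lt hn (hpos j)) _ (hc1 j))
          (Algebra.subset_adjoin ⟨j, rfl⟩)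
      · rw [hc2 j hle, zero_mul]
        exact Subalgebra.zero_mem _
  rw [eq_top_iff]
  intro a _
  rw [← DirectSum.sum_support_decompose 𝒜 a]
  exact Subalgebra.sum_mem _ fun i _ => key i _ (SetLike.coe_mem _)

/-- Finitely generated irrelevant ideal ⇒ finite type over the degree-zero part. -/
theorem finiteType_of_fg (hfg : (HomogeneousIdeal.irrelevant 𝒜).toIdeal.FG) :
    Algebra.FiniteType (𝒜 0) A := by
  classical
  obtain ⟨S, e, hS, hspan⟩ := exists_homogeneous_gens 𝒜 hfg
  have hspan' : (HomogeneousIdeal.irrelevant 𝒜).toIdeal =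
      Ideal.span (Set.range (fun j : S => (j.1 : A))) := by
    rw [hspan, Subtype.range_coe_subtype]
    rfl
  have := adjoin_eq_top 𝒜 (fun j : S => (j.1 : A)) (fun j => e j.1) (fun j => (hS j.1 j.2).2)
    (fun j => (hS j.1 j.2).1) hspan'
  refine ⟨⟨S, ?_⟩⟩
  rw [← this, Subtype.range_coe_subtype]
  rfl

/-- `Proj` of a Noetherian graded ring is a Noetherian scheme. -/
theorem isNoetherian_proj [IsNoetherianRing A] : IsNoetherian (Proj 𝒜) := by
  classical
  have hfg : (HomogeneousIdeal.irrelevant 𝒜).toIdeal.FG :=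
    (isNoetherianRing_iff_ideal_fg A).mp inferInstance _
  obtain ⟨S, e, hS, hspan⟩ := exists_homogeneous_gens 𝒜 hfg
  have : Algebra.FiniteType (𝒜 0) A := finiteType_of_fg 𝒜 hfg
  have hspan' : (HomogeneousIdeal.irrelevant 𝒜).toIdeal =
      Ideal.span (Set.range (fun j : S => (j.1 : A))) := by
    rw [hspan, Subtype.range_coe_subtype]
    rfl
  let W : S → (Proj 𝒜).affineOpens := fun j =>
    ⟨Proj.basicOpen 𝒜 (j.1 : A), Proj.isAffineOpen_basicOpen 𝒜 _ (hS j.1 j.2).2 (hS j.1 j.2).1⟩
  have hcov : (⨆ j, (W j : (Proj 𝒜).Opens)) = ⊤ :=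
    Proj.iSup_basicOpen_eq_top 𝒜 (fun j : S => (j.1 : A)) hspan'.le
  rw [isNoetherian_iff_of_finite_iSup_eq_top hcov]
  intro j
  have : Algebra.FiniteType (𝒜 0) (HomogeneousLocalization.Away 𝒜 (j.1 : A)) :=
    HomogeneousLocalization.Away.finiteType _ _ (hS j.1 j.2).2
  have : IsNoetherianRing (HomogeneousLocalization.Away 𝒜 (j.1 : A)) :=
    Algebra.FiniteType.isNoetherianRing (𝒜 0) _
  exact isNoetherianRing_of_ringEquiv _
    (Proj.basicOpenIsoAway 𝒜 (j.1 : A) (hS j.1 j.2).2 (hS j.1 j.2).1).commRingCatIsoToRingEquiv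

end Groth.Agent.Lib.helper12.GradedFT
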