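import Mathlib
import Groth.Prelude.Def_CohB1
import Groth.Prelude.Def_SecTwist

/-!
# Restriction to opens commutes with sheafification and with `CohB1.tensorMod` (helper12, LT3)

For an open immersion `f : X ⟶ Y` (e.g. `U.ι`):

* `ringMap f`, `resPre f : Y.PresheafOfModules ⥤ X.PresheafOfModules`: restriction of presheaves of modules;
  `restrict_val : ((restrictFunctor f).obj M).val = (resPre f).obj M.val` (by `rfl`), `restrict_map_val`.
* `W X`: morphisms of presheaves of modules inverted by sheafification; `W_iff_isIso`, `W_resPre`,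
  `toSheafify P : P ⟶ (sheafifyMod X P).val` (the unit), `W_toSheafify`, `toSheafify_naturality`.
* `sheafifyResHom f P`, `sheafifyResIso f : resPre f ⋙ sheafifyMod X ≅ sheafifyMod Y ⋙ restrictFunctor f`.
* `μR φ M N` (lax monoidal map of restriction of scalars, `μR_tmul` by `rfl`), `bijective_μR` for surjective `φ`.
* `resTensorHom`, `resTensorIso f A B : resPre A ⊗ resPre B ≅ resPre (A ⊗ B)`, `resTensorHom_naturality`.
* `restrictTensorIso f M N : (tensorMod M N).restrict f ≅ tensorMod (M.restrict f) (N.restrict f)`.
-/

set_option autoImplicit false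
universe u

open CategoryTheory AlgebraicGeometry Opposite TopologicalSpace MonoidalCategory

namespace Groth.Agent.Lib.helper12.TensorRestrict

section ModuleLevel

variable {R S : Type u} [CommRing R] [CommRing S] (φ : R →+* S)

open TensorProduct in
/-- The lax monoidal structure map of restriction of scalars, defined directly. -/
noncomputable def μR (M N : ModuleCat.{u} S) :
    (ModuleCat.restrictScalars φ).obj M ⊗ (ModuleCat.restrictScalars φ).obj N ⟶
      (ModuleCat.restrictScalars φ).obj (M ⊗ N) :=
  ModuleCat.MonoidalCategory.tensorLift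
    (M₃ := (ModuleCat.restrictScalars φ).obj (M ⊗ N))
    (fun (m : (ModuleCat.restrictScalars φ).obj M) (n : (ModuleCat.restrictScalars φ).obj N) =>
      ((m : M) ⊗ₜ[S] (n : N) : M ⊗[S] N))
    (fun m m' n => TensorProduct.add_tmul (R := S) (M := M) (N := N) m m' n)
    (fun _ _ _ => rfl)
    (fun m n n' => TensorProduct.tmul_add (R := S) (M := M) (N := N) m n n')
    (fun a m n => (TensorProduct.tmul_smul (R := S) (M := M) (N := N) (φ a) m n))

open TensorProduct in
theorem μR_tmul (M N : ModuleCat.{u} S) (m : (ModuleCat.restrictScalars φ).obj M)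
    (n : (ModuleCat.restrictScalars φ).obj N) :
    (μR φ M N).hom (m ⊗ₜ[R] n) = ((m : M) ⊗ₜ[S] (n : N) : M ⊗[S] N) := rfl

open TensorProduct in
theorem bijective_μR (hφ : Function.Surjective φ) (M N : ModuleCat.{u} S) :
    Function.Bijective (μR φ M N).hom := by
  let M' := (ModuleCat.restrictScalars φ).obj M
  let N' := (ModuleCat.restrictScalars φ).obj N
  let ιM : M → M' := fun m => m
  let ιN : N → N' := fun n => n
  -- the inverse as an additive map
  let g : (M ⊗[S] N) →+ (M' ⊗[R] N') :=
    TensorProduct.liftAddHom
      (AddMonoidHom.mk' (fun m : M => AddMonoidHom.mk' (fun n : N => ιM m ⊗ₜ[R] ιN n)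
        (fun a b => TensorProduct.tmul_add _ _ _))
        (fun a b => by ext n; exact TensorProduct.add_tmul _ _ _))
      (fun s m n => by
        obtain ⟨r, rfl⟩ := hφ s
        change ((r • ιM m) ⊗ₜ[R] ιN n) = ιM m ⊗ₜ[R] (r • ιN n)
        exact TensorProduct.smul_tmul _ _ _)
  have hg : ∀ (m : M) (n : N), g (m ⊗ₜ[S] n) = ιM m ⊗ₜ[R] ιN n := fun m n => rfl
  constructor
  · intro x y hxy
    have key : ∀ z : (M' ⊗[R] N'), g ((μR φ M N).hom z) = z := by
      intro z
      induction z using TensorProduct.induction_on with
      | zero => exact (congrArg g (map_zero (μR φ M N).hom)).trans (map_zero g)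
      | tmul m n => exact hg m n
      | add a b ha hb =>
        exact (congrArg g (map_add (μR φ M N).hom a b)).trans
          ((map_add g _ _).trans (congrArg₂ (· + ·) ha hb))
    rw [← key x, ← key y, hxy]
  · intro y
    induction y using TensorProduct.induction_on with
    | zero => exact ⟨0, map_zero _⟩
    | tmul m n => exact ⟨ιM m ⊗ₜ[R] ιN n, rfl⟩
    | add a b ha hb =>
      obtain ⟨a', rfl⟩ := ha
      obtain ⟨b', rfl⟩ := hb
      exact ⟨a' + b', map_add _ _ _⟩

theorem isIso_μR_of_surjective (hφ : Function.Surjective φ) (M N : ModuleCat.{u} S) :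
    IsIso (μR φ M N) :=
  (ConcreteCategory.isIso_iff_bijective _).mpr (bijective_μR φ hφ M N)

end ModuleLevel

variable {X Y : Scheme.{u}} (f : X ⟶ Y) [IsOpenImmersion f]

/-- The morphism of presheaves of rings `O_X ⟶ f.opensFunctor.op ⋙ O_Y` underlying restriction
along an open immersion (the one used by `Scheme.Modules.restrictFunctor`). -/
noncomputable def ringMap : X.ringCatSheaf.obj ⟶ f.opensFunctor.op ⋙ Y.ringCatSheaf.obj :=
  Functor.whiskerRight
    ({ app U := (f.appIso U.unop).inv } : X.presheaf ⟶ f.opensFunctor.op ⋙ Y.presheaf)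
    (forget₂ CommRingCat RingCat)

/-- Restriction of presheaves of modules along an open immersion. -/
noncomputable def resPre : Y.PresheafOfModules ⥤ X.PresheafOfModules :=
  PresheafOfModules.pushforward (ringMap f)

theorem restrict_val (M : Y.Modules) :
    ((Scheme.Modules.restrictFunctor f).obj M).val = (resPre f).obj M.val := rfl

theorem restrict_map_val {M N : Y.Modules} (φ : M ⟶ N) :
    ((Scheme.Modules.restrictFunctor f).map φ).val = (resPre f).map φ.val := rfl

/-- The class of morphisms of presheaves of modules inverted by sheafification. -/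
def W (X : Scheme.{u}) : MorphismProperty X.PresheafOfModules :=
  (Opens.grothendieckTopology X).W.inverseImage (PresheafOfModules.toPresheaf _)

theorem W_iff_isIso {P Q : X.PresheafOfModules} (g : P ⟶ Q) :
    W X g ↔ IsIso ((CohB1.sheafifyMod X).map g) := by
  unfold W CohB1.sheafifyMod
  rw [PresheafOfModules.inverseImage_W_toPresheaf_eq_inverseImage_isomorphisms
    (𝟙 X.ringCatSheaf.obj)]
  rfl

theorem toPresheaf_map_resPre {P Q : Y.PresheafOfModules} (g : P ⟶ Q) :
    (PresheafOfModules.toPresheaf _).map ((resPre f).map g) =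
      Functor.whiskerLeft f.opensFunctor.op ((PresheafOfModules.toPresheaf _).map g) := rfl

theorem W_resPre {P Q : Y.PresheafOfModules} (g : P ⟶ Q) (hg : W Y g) :
    W X ((resPre f).map g) := by
  change (Opens.grothendieckTopology X).W _
  rw [toPresheaf_map_resPre]
  have hg' : (Opens.grothendieckTopology Y).W ((PresheafOfModules.toPresheaf _).map g) := hg
  rw [GrothendieckTopology.W_iff_isLocallyBijective] at hg' ⊢
  obtain ⟨h1, h2⟩ := hg'
  exact ⟨Presheaf.isLocallyInjective_whisker (Opens.grothendieckTopology X)
      (Opens.grothendieckTopology Y) f.opensFunctor _,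
    Presheaf.isLocallySurjective_whisker (Opens.grothendieckTopology X)
      (Opens.grothendieckTopology Y) f.opensFunctor _⟩

/-- The sheafification adjunction for presheaves of `O_X`-modules. -/
noncomputable abbrev adj (X : Scheme.{u}) :=
  PresheafOfModules.sheafificationAdjunction.{u} (R := X.ringCatSheaf) (𝟙 X.ringCatSheaf.obj)

/-- The canonical map from a presheaf of modules to (the underlying presheaf of) its
sheafification. -/
noncomputable def toSheafify (P : X.PresheafOfModules) :
    P ⟶ ((CohB1.sheafifyMod X).obj P).val :=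
  (adj X).unit.app P

theorem W_toSheafify (P : X.PresheafOfModules) : W X (toSheafify P) := by
  change (Opens.grothendieckTopology X).W _
  have : (PresheafOfModules.toPresheaf _).map (toSheafify P) =
      CategoryTheory.toSheafify (Opens.grothendieckTopology X) P.presheaf :=
    PresheafOfModules.toPresheaf_map_sheafificationAdjunction_unit_app _ _
  rw [this]
  exact GrothendieckTopology.W_toSheafify _ _

/-- The comparison map from the sheafification of the restriction to the restriction of the
sheafification. -/
noncomputable def sheafifyResHom (P : Y.PresheafOfModules) :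
    (CohB1.sheafifyMod X).obj ((resPre f).obj P) ⟶
      (Scheme.Modules.restrictFunctor f).obj ((CohB1.sheafifyMod Y).obj P) :=
  ((adj X).homEquiv _ _).symm ((resPre f).map (toSheafify P))

instance (P : Y.PresheafOfModules) : IsIso (sheafifyResHom f P) := by
  unfold sheafifyResHom
  rw [Adjunction.homEquiv_counit]
  have h1 : IsIso ((CohB1.sheafifyMod X).map ((resPre f).map (toSheafify P))) :=
    (W_iff_isIso _).mp (W_resPre f _ (W_toSheafify P))
  have h2 : IsIso ((adj X).counit.app
      ((Scheme.Modules.restrictFunctor f).obj ((CohB1.sheafifyMod Y).obj P))) := inferInstance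
  exact @IsIso.comp_isIso _ _ _ _ _ _ _ h1 h2

theorem toSheafify_naturality {P Q : X.PresheafOfModules} (g : P ⟶ Q) :
    g ≫ toSheafify Q = toSheafify P ≫ ((CohB1.sheafifyMod X).map g).val :=
  (adj X).unit.naturality g

theorem sheafifyResHom_naturality {P Q : Y.PresheafOfModules} (g : P ⟶ Q) :
    (CohB1.sheafifyMod X).map ((resPre f).map g) ≫ sheafifyResHom f Q =
      sheafifyResHom f P ≫
        (Scheme.Modules.restrictFunctor f).map ((CohB1.sheafifyMod Y).map g) := by
  have h1 := Adjunction.homEquiv_naturality_left_symm (adj X)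
    (Y := (Scheme.Modules.restrictFunctor f).obj ((CohB1.sheafifyMod Y).obj Q))
    ((resPre f).map g) ((resPre f).map (toSheafify Q))
  have h2 := Adjunction.homEquiv_naturality_right_symm (adj X)
    (Y := (Scheme.Modules.restrictFunctor f).obj ((CohB1.sheafifyMod Y).obj P))
    ((resPre f).map (toSheafify P))
    ((Scheme.Modules.restrictFunctor f).map ((CohB1.sheafifyMod Y).map g))
  refine h1.symm.trans (Eq.trans ?_ h2)
  congr 1
  have h3 : (resPre f).map (g ≫ toSheafify Q) =
      (resPre f).map (toSheafify P ≫ ((CohB1.sheafifyMod Y).map g).val) := by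
    rw [toSheafify_naturality]
  rw [Functor.map_comp, Functor.map_comp] at h3
  exact h3

/-- Restriction to an open commutes with sheafification of presheaves of modules. -/
noncomputable def sheafifyResIso :
    resPre f ⋙ CohB1.sheafifyMod X ≅ CohB1.sheafifyMod Y ⋙ Scheme.Modules.restrictFunctor f :=
  NatIso.ofComponents (fun P => asIso (sheafifyResHom f P))
    (fun g => sheafifyResHom_naturality f g)

/-- The same functor, typed between the categories on which the monoidal structure lives. -/
noncomputable abbrev resPMod : CohB1.PMod Y ⥤ CohB1.PMod X := resPre f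

noncomputable def resTensorHom (A B : CohB1.PMod Y) :
    (resPMod f).obj A ⊗ (resPMod f).obj B ⟶ (resPMod f).obj (A ⊗ B) where
  app V := μR (f.appIso V.unop).inv.hom
    (A.obj (op (f ''ᵁ V.unop))) (B.obj (op (f ''ᵁ V.unop)))
  naturality {V V'} i := by
    apply ModuleCat.MonoidalCategory.tensor_ext
    intro a b
    rfl

theorem surjective_appIso_inv (V : X.Opens) :
    Function.Surjective (f.appIso V).inv.hom := by
  intro x
  refine ⟨(f.appIso V).hom.hom x, ?_⟩
  change ((f.appIso V).hom ≫ (f.appIso V).inv) x = x
  rw [Iso.hom_inv_id]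
  rfl

instance (A B : CohB1.PMod Y) (V : (Opens X)ᵒᵖ) : IsIso ((resTensorHom f A B).app V) :=
  isIso_μR_of_surjective _ (surjective_appIso_inv f V.unop) _ _

/-- Restriction of presheaves of modules to an open commutes with the sectionwise tensor
product. -/
noncomputable def resTensorIso (A B : CohB1.PMod Y) :
    (resPMod f).obj A ⊗ (resPMod f).obj B ≅ (resPMod f).obj (A ⊗ B) :=
  PresheafOfModules.isoMk (fun V => asIso ((resTensorHom f A B).app V))
    (fun _ _ i => (resTensorHom f A B).naturality i)

theorem resTensorIso_hom (A B : CohB1.PMod Y) :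
    (resTensorIso f A B).hom = resTensorHom f A B := rfl

theorem resTensorHom_naturality {A A' B B' : CohB1.PMod Y} (g : A ⟶ A') (h : B ⟶ B') :
    ((resPMod f).map g ⊗ₘ (resPMod f).map h) ≫ resTensorHom f A' B' =
      resTensorHom f A B ≫ (resPMod f).map (g ⊗ₘ h) := by
  ext V : 1
  apply ModuleCat.MonoidalCategory.tensor_ext
  intro a b
  rfl

/-- Restriction to an open commutes with the tensor product of `O`-modules. -/
noncomputable def restrictTensorIso (M N : Y.Modules) :
    (Scheme.Modules.restrictFunctor f).obj (CohB1.tensorMod M N) ≅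
      CohB1.tensorMod ((Scheme.Modules.restrictFunctor f).obj M)
        ((Scheme.Modules.restrictFunctor f).obj N) :=
  ((sheafifyResIso f).app (CohB1.tensorPre M N)).symm ≪≫
    (CohB1.sheafifyMod X).mapIso (resTensorIso f (CohB1.toPMod M) (CohB1.toPMod N)).symm

end Groth.Agent.Lib.helper12.TensorRestrict
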