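import Mathlib
import Groth.Agent.Lib.Helper12.TensorRestrict
import Groth.Agent.Lib.Helper11.InvMod
import Groth.Prelude.Def_PicGrp

/-!
# Tensor products of invertible modules are invertible (helper12, LT3 part 2)

* `tensorTrivIso F L' U e : (F ⊗ L')|_U ≅ F|_U` for a trivialisation `e : L'|_U ≅ O_U`.
* `isTrivOn_tensorMod`, `isInvertible_tensorMod`, `isTrivOn_tensorPow`, `isInvertible_tensorPow`
  (with `IsTrivOn` from `Groth.Agent.Lib.Helper11.InvMod`).
-/

set_option autoImplicit false
universe u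

open CategoryTheory AlgebraicGeometry Opposite TopologicalSpace MonoidalCategory

namespace Groth.Agent.Lib.helper12.TensorInv

open Groth.Agent.Lib.helper12.TensorRestrict Groth.Agent.Lib.helper11.InvMod

variable {X Y : Scheme.{u}}

/-- If `L'` is trivial on `U`, then `(F ⊗ L')|_U ≅ F|_U`. -/
noncomputable def tensorTrivIso (F L' : X.Modules) (U : X.Opens)
    (e : L'.restrict U.ι ≅ Coh.structureModule (↑U : Scheme.{u})) :
    (CohB1.tensorMod F L').restrict U.ι ≅ F.restrict U.ι :=
  restrictTensorIso U.ι F L' ≪≫ PicGrp.tensorModIso (Iso.refl _) e ≪≫ SecTwist.unitorR _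

theorem isTrivOn_tensorMod {L L' : X.Modules} {U : X.Opens} (hL : IsTrivOn L U)
    (hL' : IsTrivOn L' U) : IsTrivOn (CohB1.tensorMod L L') U := by
  obtain ⟨e⟩ := hL
  obtain ⟨e'⟩ := hL'
  exact ⟨tensorTrivIso L L' U e' ≪≫ e⟩

/-- The tensor product of two invertible modules is invertible. -/
theorem isInvertible_tensorMod {L L' : X.Modules} (hL : PicF.IsInvertible L)
    (hL' : PicF.IsInvertible L') : PicF.IsInvertible (CohB1.tensorMod L L') := by
  intro x
  obtain ⟨U, hxU, hU⟩ := hL x
  obtain ⟨U', hxU', hU'⟩ := hL' x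
  exact ⟨U ⊓ U', ⟨hxU, hxU'⟩,
    isTrivOn_tensorMod (IsTrivOn.of_le inf_le_left hU) (IsTrivOn.of_le inf_le_right hU')⟩

theorem isTrivOn_tensorPow {L : X.Modules} {U : X.Opens} (hL : IsTrivOn L U) (n : ℕ) :
    IsTrivOn (CohB1.tensorPow L n) U := by
  induction n with
  | zero => exact isTrivOn_structureModule U
  | succ n ih => exact isTrivOn_tensorMod ih hL

/-- Tensor powers of an invertible module are invertible. -/
theorem isInvertible_tensorPow {L : X.Modules} (hL : PicF.IsInvertible L) (n : ℕ) :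
    PicF.IsInvertible (CohB1.tensorPow L n) := by
  intro x
  obtain ⟨U, hxU, hU⟩ := hL x
  exact ⟨U, hxU, isTrivOn_tensorPow hU n⟩

end Groth.Agent.Lib.helper12.TensorInv
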