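import Mathlib
import Groth.Agent.Lib.Helper12.TensorRestrict
import Groth.Agent.Lib.Helper12.TensorInv
import Groth.Agent.Lib.Helper11.GenLocus
import Groth.Prelude.Def_PicGrp

/-!
# Section formulas for the tensor product of `O`-modules (helper12, LT3 part 3)

* `sheafifyMap_toSheafify_apply` (unit naturality on sections), `tmul_eq`, `toSheafify_sheafifyResHom`,
  `sheafifyResHom_apply`.
* `restrictTensorIso_hom_tmul` / `restrictTensorIso_inv_tmul`: `restrictTensorIso` matches `SecTwist.tmul` sections.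
* `tensorModIso_hom_tmul`, `restrictUnitIso_hom_apply` / `restrictUnitIso_inv_apply`, `iso_hom_inv_apply`,
  `iso_inv_hom_apply`, `val_comp`, `val_localEnd`.
* `val_localEnd_tmulHom`: in trivialisations, `f ⊗ g` is described by the product of the local functions.
* `genLocus_tmulHom_inf`, `genLocus_tmulHom : X_{f ⊗ g} = X_f ⊓ X_g` for invertible `L`, `L'`.
-/

set_option autoImplicit false
universe u

open CategoryTheory AlgebraicGeometry Opposite TopologicalSpace MonoidalCategory

namespace Groth.Agent.Lib.helper12.TensorSec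

open Groth.Agent.Lib.helper12.TensorRestrict Groth.Agent.Lib.helper11.InvMod
open Groth.Agent.Lib.helper11.GenLocus Groth.Agent.Lib.helper12.TensorInv

variable {X Y : Scheme.{u}}

/-- Unit naturality of sheafification, on sections. -/
theorem sheafifyMap_toSheafify_apply {P Q : X.PresheafOfModules} (g : P ⟶ Q) (V : X.Opens)
    (x : P.obj (op V)) :
    (((CohB1.sheafifyMod X).map g).val.app (op V)).hom (((toSheafify P).app (op V)).hom x) =
      ((toSheafify Q).app (op V)).hom ((g.app (op V)).hom x) :=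
  (congrArg (fun φ => (PresheafOfModules.Hom.app φ (op V)).hom x) (toSheafify_naturality g)).symm

theorem tmul_eq (M N : X.Modules) (U : X.Opens) (m : M.val.obj (op U)) (n : N.val.obj (op U)) :
    SecTwist.tmul M N U m n =
      ((toSheafify (CohB1.tensorPre M N : X.PresheafOfModules)).app (op U)).hom
        (m ⊗ₜ n : ↥((CohB1.tensorPre M N).obj (op U))) := rfl

theorem toSheafify_sheafifyResHom (f : X ⟶ Y) [IsOpenImmersion f] (P : Y.PresheafOfModules) :
    toSheafify ((resPre f).obj P) ≫ (sheafifyResHom f P).val = (resPre f).map (toSheafify P) := by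
  have h1 : (adj X).homEquiv _ _ (sheafifyResHom f P) = (resPre f).map (toSheafify P) :=
    Equiv.apply_symm_apply _ _
  rw [Adjunction.homEquiv_unit] at h1
  exact h1

/-- Section formula for the comparison map `sheafifyResHom`. -/
theorem sheafifyResHom_apply (f : X ⟶ Y) [IsOpenImmersion f] (P : Y.PresheafOfModules)
    (V : X.Opens) (x : P.obj (op (f ''ᵁ V))) :
    ((sheafifyResHom f P).val.app (op V)).hom
        (((toSheafify ((resPre f).obj P)).app (op V)).hom x) =
      ((toSheafify P).app (op (f ''ᵁ V))).hom x :=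
  congrArg (fun φ => (PresheafOfModules.Hom.app φ (op V)).hom x) (toSheafify_sheafifyResHom f P)

theorem restrictTensorIso_inv (f : X ⟶ Y) [IsOpenImmersion f] (M N : Y.Modules) :
    (restrictTensorIso f M N).inv =
      (CohB1.sheafifyMod X).map (resTensorHom f (CohB1.toPMod M) (CohB1.toPMod N)) ≫
        sheafifyResHom f (CohB1.tensorPre M N) := rfl

/-- Section formula for `restrictTensorIso` (inverse direction). -/
theorem restrictTensorIso_inv_tmul (f : X ⟶ Y) [IsOpenImmersion f] (M N : Y.Modules) (V : X.Opens)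
    (m : M.val.obj (op (f ''ᵁ V))) (n : N.val.obj (op (f ''ᵁ V))) :
    ((restrictTensorIso f M N).inv.val.app (op V)).hom
        (SecTwist.tmul ((Scheme.Modules.restrictFunctor f).obj M)
          ((Scheme.Modules.restrictFunctor f).obj N) V m n) =
      SecTwist.tmul M N (f ''ᵁ V) m n := by
  rw [restrictTensorIso_inv]
  change ((sheafifyResHom f (CohB1.tensorPre M N)).val.app (op V)).hom
    ((((CohB1.sheafifyMod X).map
      (resTensorHom f (CohB1.toPMod M) (CohB1.toPMod N))).val.app (op V)).hom _) = _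
  rw [tmul_eq]
  erw [sheafifyMap_toSheafify_apply]
  exact sheafifyResHom_apply f (CohB1.tensorPre M N) V _

/-- Applying the two directions of an isomorphism of modules to a section. -/
theorem iso_hom_inv_apply {M N : X.Modules} (e : M ≅ N) (V : X.Opens) (x : N.val.obj (op V)) :
    (e.hom.val.app (op V)).hom ((e.inv.val.app (op V)).hom x) = x :=
  congrArg (fun φ : N ⟶ N => (φ.val.app (op V)).hom x) e.inv_hom_id

theorem iso_inv_hom_apply {M N : X.Modules} (e : M ≅ N) (V : X.Opens) (x : M.val.obj (op V)) :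
    (e.inv.val.app (op V)).hom ((e.hom.val.app (op V)).hom x) = x :=
  congrArg (fun φ : M ⟶ M => (φ.val.app (op V)).hom x) e.hom_inv_id

/-- Section formula for `restrictTensorIso`: it carries the section `m ⊗ n` of `(M ⊗ N)|_X` over `V`
to the section `m ⊗ n` of `M|_X ⊗ N|_X`. -/
theorem restrictTensorIso_hom_tmul (f : X ⟶ Y) [IsOpenImmersion f] (M N : Y.Modules) (V : X.Opens)
    (m : M.val.obj (op (f ''ᵁ V))) (n : N.val.obj (op (f ''ᵁ V))) :
    ((restrictTensorIso f M N).hom.val.app (op V)).hom (SecTwist.tmul M N (f ''ᵁ V) m n) =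
      SecTwist.tmul ((Scheme.Modules.restrictFunctor f).obj M)
          ((Scheme.Modules.restrictFunctor f).obj N) V m n := by
  have h := restrictTensorIso_inv_tmul f M N V m n
  rw [← h]
  exact iso_hom_inv_apply (restrictTensorIso f M N) V _

/-- Section formula for `PicGrp.tensorModIso`. -/
theorem tensorModIso_hom_tmul {L L' M M' : X.Modules} (e : L ≅ L') (e' : M ≅ M') (U : X.Opens)
    (l : L.val.obj (op U)) (m : M.val.obj (op U)) :
    ((PicGrp.tensorModIso e e').hom.val.app (op U)).hom (SecTwist.tmul L M U l m) =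
      SecTwist.tmul L' M' U ((e.hom.val.app (op U)).hom l) ((e'.hom.val.app (op U)).hom m) := by
  rw [tmul_eq]
  unfold PicGrp.tensorModIso
  erw [sheafifyMap_toSheafify_apply]
  rfl

/-- Section formula for Mathlib's `restrictUnitIso`. -/
theorem restrictUnitIso_hom_apply (f : X ⟶ Y) [IsOpenImmersion f] (V : X.Opens)
    (r : Γ(Y, f ''ᵁ V)) :
    ((Scheme.Modules.restrictUnitIso f).hom.val.app (op V)).hom
        (r : ((Scheme.Modules.restrictFunctor f).obj (Coh.structureModule Y)).val.obj (op V)) =
      ((f.appIso V).hom r : Γ(X, V)) := rfl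

theorem restrictUnitIso_inv_apply (f : X ⟶ Y) [IsOpenImmersion f] (V : X.Opens)
    (r : Γ(X, V)) :
    ((Scheme.Modules.restrictUnitIso f).inv.val.app (op V)).hom
        (r : (Coh.structureModule X).val.obj (op V)) =
      ((f.appIso V).inv r : Γ(Y, f ''ᵁ V)) := rfl

theorem val_comp {L L' : X.Modules} (s : Coh.structureModule X ⟶ L) (φ : L ⟶ L') (U : X.Opens) :
    SecTwist.val (s ≫ φ) U = (φ.val.app (op U)).hom (SecTwist.val s U) := rfl

/-- The section named by the local endomorphism describing `s : O ⟶ L` in a trivialisation `e`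
of `L` over `U`. -/
theorem val_localEnd {L : X.Modules} (s : Coh.structureModule X ⟶ L) {U : X.Opens}
    (e : L.restrict U.ι ≅ Coh.structureModule (↑U : Scheme.{u})) (V : (↑U : Scheme.{u}).Opens) :
    SecTwist.val (localEnd s (Scheme.Modules.restrictUnitIso U.ι) e) V =
      (e.hom.val.app (op V)).hom (SecTwist.val s (U.ι ''ᵁ V)) := by
  unfold localEnd
  change (e.hom.val.app (op V)).hom ((s.val.app (op (U.ι ''ᵁ V))).hom
    (((Scheme.Modules.restrictUnitIso U.ι).inv.val.app (op V)).hom
      (1 : (↑U : Scheme.{u}).ringCatSheaf.obj.obj (op V)))) = _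
  rw [restrictUnitIso_inv_apply]
  congr 2
  exact map_one ((U.ι.appIso V).inv).hom

/-- In trivialisations `e`, `e'` of `L`, `L'` over `U` (and the induced one of `L ⊗ L'`), the
section `f ⊗ g` is described by the product of the functions describing `f` and `g`. -/
theorem val_localEnd_tmulHom {L L' : X.Modules} (f : Coh.structureModule X ⟶ L)
    (g : Coh.structureModule X ⟶ L') {U : X.Opens}
    (e : L.restrict U.ι ≅ Coh.structureModule (↑U : Scheme.{u}))
    (e' : L'.restrict U.ι ≅ Coh.structureModule (↑U : Scheme.{u}))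
    (V : (↑U : Scheme.{u}).Opens) :
    fn (localEnd (SecTwist.tmulHom f g) (Scheme.Modules.restrictUnitIso U.ι)
        (tensorTrivIso L L' U e' ≪≫ e)) V =
      fn (localEnd g (Scheme.Modules.restrictUnitIso U.ι) e') V *
        fn (localEnd f (Scheme.Modules.restrictUnitIso U.ι) e) V := by
  unfold fn
  rw [val_localEnd, val_localEnd, val_localEnd, SecTwist.val_tmulHom]
  change (e.hom.val.app (op V)).hom (((SecTwist.unitorR _).hom.val.app (op V)).hom
    (((PicGrp.tensorModIso (Iso.refl _) e').hom.val.app (op V)).hom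
      (((restrictTensorIso U.ι L L').hom.val.app (op V)).hom _))) = _
  rw [restrictTensorIso_hom_tmul, tensorModIso_hom_tmul]
  erw [SecTwist.unitorR_tmul]
  exact (e.hom.val.app (op V)).hom.map_smul _ _

open Groth.Agent.Lib.helper11.IsoLocus in
/-- `X_{f ⊗ g} ∩ U = X_f ∩ X_g ∩ U` on an open `U` trivialising both modules. -/
theorem genLocus_tmulHom_inf {L L' : X.Modules} (f : Coh.structureModule X ⟶ L)
    (g : Coh.structureModule X ⟶ L') {U : X.Opens} (hL : IsTrivOn L U) (hL' : IsTrivOn L' U) :
    CohB1.genLocus (CohB1.tensorMod L L') (SecTwist.tmulHom f g) ⊓ U =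
      (CohB1.genLocus L f ⊓ CohB1.genLocus L' g) ⊓ U := by
  obtain ⟨e⟩ := hL
  obtain ⟨e'⟩ := hL'
  rw [genLocus_eq_isoLocus, genLocus_eq_isoLocus, genLocus_eq_isoLocus,
    isoLocus_inf_eq_basicOpen_localFn (SecTwist.tmulHom f g)
      (Scheme.Modules.restrictUnitIso U.ι) (tensorTrivIso L L' U e' ≪≫ e)]
  have h1 := isoLocus_inf_eq_basicOpen_localFn f (Scheme.Modules.restrictUnitIso U.ι) e
  have h2 := isoLocus_inf_eq_basicOpen_localFn g (Scheme.Modules.restrictUnitIso U.ι) e'
  have h3 : (isoLocus f ⊓ isoLocus g) ⊓ U = (isoLocus g ⊓ U) ⊓ (isoLocus f ⊓ U) := by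
    rw [inf_inf_distrib_right, inf_comm]
  rw [h3, h1, h2, ← Scheme.basicOpen_mul]
  congr 1
  unfold localFn
  rw [val_localEnd_tmulHom, map_mul]

/-- `X_{f ⊗ g} = X_f ∩ X_g` for sections of invertible modules. -/
theorem genLocus_tmulHom {L L' : X.Modules} (hL : PicF.IsInvertible L)
    (hL' : PicF.IsInvertible L') (f : Coh.structureModule X ⟶ L)
    (g : Coh.structureModule X ⟶ L') :
    CohB1.genLocus (CohB1.tensorMod L L') (SecTwist.tmulHom f g) =
      CohB1.genLocus L f ⊓ CohB1.genLocus L' g := by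
  ext x
  obtain ⟨U, hxU, hU⟩ := hL x
  obtain ⟨U', hxU', hU'⟩ := hL' x
  have h := genLocus_tmulHom_inf f g (IsTrivOn.of_le (inf_le_left : U ⊓ U' ≤ U) hU)
    (IsTrivOn.of_le (inf_le_right : U ⊓ U' ≤ U') hU')
  have hx : x ∈ U ⊓ U' := ⟨hxU, hxU'⟩
  constructor
  · intro hx1
    have : x ∈ CohB1.genLocus (CohB1.tensorMod L L') (SecTwist.tmulHom f g) ⊓ (U ⊓ U') :=
      ⟨hx1, hx⟩
    rw [h] at this
    exact this.1
  · intro hx1
    have : x ∈ (CohB1.genLocus L f ⊓ CohB1.genLocus L' g) ⊓ (U ⊓ U') := ⟨hx1, hx⟩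
    rw [← h] at this
    exact this.1

end Groth.Agent.Lib.helper12.TensorSec
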