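import Mathlib
import Groth.Agent.Lib.Helper12.TensorSec
import Groth.Agent.Lib.Helper21.TensorMon

/-!
# `L^{⊗ m} ⊗ L^{⊗ n} ≅ L^{⊗ (m+n)}`, products and powers of sections of tensor powers (helper12)

* `assocMod L N M : (L ⊗ N) ⊗ M ≅ L ⊗ (N ⊗ M)` for `CohB1.tensorMod` (helper21's `assocIso` specialised).
* `tensorPowAdd L m n : tensorMod (tensorPow L m) (tensorPow L n) ≅ tensorPow L (m + n)`,
  `tensorPowMul L p m : tensorPow (tensorPow L p) m ≅ tensorPow L (p * m)`.
* `mulSec s t : O ⟶ L^{m+n}` for `s : O ⟶ L^m`, `t : O ⟶ L^n`; `genLocus_mulSec : X_{st} = X_s ⊓ X_t`.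
* `powSec s k : O ⟶ L^{m*k}`; `genLocus_powSec : X_{s^(k+1)} = X_s`.
* `baseLocus M`, `baseLocus_congr`, `baseLocus_mul_subset`, `isClosed_baseLocus`.
-/

set_option autoImplicit false
universe u

open CategoryTheory AlgebraicGeometry Opposite TopologicalSpace MonoidalCategory

namespace Groth.Agent.Lib.helper12.TensorPowAdd

open Groth.Agent.Lib.helper12.TensorSec Groth.Agent.Lib.helper12.TensorInv
open Groth.Agent.Lib.helper11.IsoLocus

variable {X : Scheme.{u}}

/-- The associator of `CohB1.tensorMod` (specialising helper21's `assocIso` on a ringed site). -/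
noncomputable def assocMod (L N M : X.Modules) :
    CohB1.tensorMod (CohB1.tensorMod L N) M ≅ CohB1.tensorMod L (CohB1.tensorMod N M) :=
  (Groth.Agent.Lib.Helper21.TensorMon.assocIso X.sheaf L N).app M

/-- `L^{⊗ m} ⊗ L^{⊗ n} ≅ L^{⊗ (m+n)}`. -/
noncomputable def tensorPowAdd (L : X.Modules) (m : ℕ) :
    (n : ℕ) → (CohB1.tensorMod (CohB1.tensorPow L m) (CohB1.tensorPow L n) ≅
      CohB1.tensorPow L (m + n))
  | 0 => SecTwist.unitorR _
  | n + 1 => (assocMod (CohB1.tensorPow L m) (CohB1.tensorPow L n) L).symm ≪≫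
      PicGrp.tensorModIso (tensorPowAdd L m n) (Iso.refl L)

/-- `(L^{⊗ p})^{⊗ m} ≅ L^{⊗ (p m)}`. -/
noncomputable def tensorPowMul (L : X.Modules) (p : ℕ) :
    (m : ℕ) → (CohB1.tensorPow (CohB1.tensorPow L p) m ≅ CohB1.tensorPow L (p * m))
  | 0 => Iso.refl _
  | m + 1 => PicGrp.tensorModIso (tensorPowMul L p m) (Iso.refl _) ≪≫ tensorPowAdd L (p * m) p

/-- The product of a section of `L^{⊗ m}` and a section of `L^{⊗ n}`, a section of `L^{⊗ (m+n)}`. -/
noncomputable def mulSec {L : X.Modules} {m n : ℕ} (s : Coh.structureModule X ⟶ CohB1.tensorPow L m)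
    (t : Coh.structureModule X ⟶ CohB1.tensorPow L n) :
    Coh.structureModule X ⟶ CohB1.tensorPow L (m + n) :=
  SecTwist.tmulHom s t ≫ (tensorPowAdd L m n).hom

theorem genLocus_mulSec {L : X.Modules} (hL : PicF.IsInvertible L) {m n : ℕ}
    (s : Coh.structureModule X ⟶ CohB1.tensorPow L m)
    (t : Coh.structureModule X ⟶ CohB1.tensorPow L n) :
    CohB1.genLocus _ (mulSec s t) = CohB1.genLocus _ s ⊓ CohB1.genLocus _ t := by
  unfold mulSec
  rw [genLocus_comp_iso, genLocus_tmulHom (isInvertible_tensorPow hL m) (isInvertible_tensorPow hL n)]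

/-- The `k`-th power of a section of `L^{⊗ m}`, a section of `L^{⊗ (m k)}`. -/
noncomputable def powSec {L : X.Modules} {m : ℕ} (s : Coh.structureModule X ⟶ CohB1.tensorPow L m) :
    (k : ℕ) → (Coh.structureModule X ⟶ CohB1.tensorPow L (m * k))
  | 0 => 𝟙 _
  | k + 1 => mulSec (powSec s k) s

theorem genLocus_powSec_zero {L : X.Modules} {m : ℕ}
    (s : Coh.structureModule X ⟶ CohB1.tensorPow L m) :
    CohB1.genLocus _ (powSec s 0) = ⊤ := by
  rw [genLocus_eq_top_iff]
  exact inferInstanceAs (IsIso (𝟙 (Coh.structureModule X)))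

theorem genLocus_powSec {L : X.Modules} (hL : PicF.IsInvertible L) {m : ℕ}
    (s : Coh.structureModule X ⟶ CohB1.tensorPow L m) (k : ℕ) :
    CohB1.genLocus _ (powSec s (k + 1)) = CohB1.genLocus _ s := by
  induction k with
  | zero =>
    change CohB1.genLocus _ (mulSec (powSec s 0) s) = _
    rw [genLocus_mulSec hL, genLocus_powSec_zero, top_inf_eq]
  | succ k ih =>
    change CohB1.genLocus _ (mulSec (powSec s (k + 1)) s) = _
    rw [genLocus_mulSec hL, ih, inf_idem]

/-- The base locus of (the complete linear system of) a module: the points lying in no `X_s`. -/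
def baseLocus (M : X.Modules) : Set X :=
  {x | ∀ s : Coh.structureModule X ⟶ M, x ∉ CohB1.genLocus M s}

theorem baseLocus_congr {M M' : X.Modules} (e : M ≅ M') : baseLocus M = baseLocus M' := by
  ext x
  constructor
  · intro h s hs
    refine h (s ≫ e.inv) ?_
    have h1 := genLocus_comp_iso s e.symm
    rw [Iso.symm_hom] at h1
    rw [h1]
    exact hs
  · intro h s hs
    refine h (s ≫ e.hom) ?_
    rw [genLocus_comp_iso s e]
    exact hs

theorem isClosed_baseLocus (M : X.Modules) : IsClosed (baseLocus M) := by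
  have : baseLocus M = (⋃ s : Coh.structureModule X ⟶ M, (CohB1.genLocus M s : Set X))ᶜ := by
    ext x
    simp [baseLocus]
  rw [this]
  exact (isOpen_iUnion fun s => (CohB1.genLocus M s).isOpen).isClosed_compl

/-- `Bs(L^{⊗ (m k)}) ⊆ Bs(L^{⊗ m})` for `k ≥ 1`. -/
theorem baseLocus_mul_subset {L : X.Modules} (hL : PicF.IsInvertible L) (m k : ℕ) (hk : 0 < k) :
    baseLocus (CohB1.tensorPow L (m * k)) ⊆ baseLocus (CohB1.tensorPow L m) := by
  obtain ⟨k, rfl⟩ := Nat.exists_eq_succ_of_ne_zero hk.ne'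
  intro x hx s hs
  refine hx (powSec s (k + 1)) ?_
  rw [genLocus_powSec hL]
  exact hs

theorem baseLocus_mul_subset' {L : X.Modules} (hL : PicF.IsInvertible L) (m k : ℕ) (hk : 0 < k) :
    baseLocus (CohB1.tensorPow L (k * m)) ⊆ baseLocus (CohB1.tensorPow L m) := by
  rw [Nat.mul_comm]
  exact baseLocus_mul_subset hL m k hk

end Groth.Agent.Lib.helper12.TensorPowAdd
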