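import Mathlib
import Groth.Agent.Lib.Helper12.TensorPowAdd
import Groth.Prelude.Def_LCI2

/-!
# Ampleness and tensor powers (helper12)

* `castSec h s`, `genLocus_castSec`; `HasAffineCover L` (the covering condition of `CohB1.IsAmple`), `isAmple_iff`.
* `hasAffineCover_tensorPow`, `hasAffineCover_of_tensorPow`, `isAmple_tensorPow_iff hL n hn : IsAmple L ↔ IsAmple (L^n)`.
* `tensorPowIso e n : L^n ≅ L'^n`, `hasAffineCover_of_iso`, `isAmple_of_iso`, `isAmple_iff_of_iso`.
* `restrictTensorPowIso f L n : (L^n)|_X ≅ (L|_X)^n`.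
* `isRelAmple_tensorPow_iff f hL n hn`.
-/

set_option autoImplicit false
universe u

open CategoryTheory AlgebraicGeometry Opposite TopologicalSpace MonoidalCategory

namespace Groth.Agent.Lib.helper12.AmplePow

open Groth.Agent.Lib.helper12.TensorSec Groth.Agent.Lib.helper12.TensorInv
open Groth.Agent.Lib.helper12.TensorPowAdd
open Groth.Agent.Lib.helper11.IsoLocus

variable {X : Scheme.{u}}

/-- Transport of a section along an equality of exponents. -/
noncomputable def castSec {L : X.Modules} {m n : ℕ} (h : m = n)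
    (s : Coh.structureModule X ⟶ CohB1.tensorPow L m) :
    Coh.structureModule X ⟶ CohB1.tensorPow L n :=
  s ≫ (eqToIso (congrArg (CohB1.tensorPow L) h)).hom

theorem genLocus_castSec {L : X.Modules} {m n : ℕ} (h : m = n)
    (s : Coh.structureModule X ⟶ CohB1.tensorPow L m) :
    CohB1.genLocus _ (castSec h s) = CohB1.genLocus _ s :=
  genLocus_comp_iso s _

/-- The covering condition in the definition of ampleness. -/
def HasAffineCover (L : X.Modules) : Prop :=
  ∀ x : X, ∃ (n : ℕ) (s : Coh.structureModule X ⟶ CohB1.tensorPow L (n + 1)),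
      x ∈ CohB1.genLocus _ s ∧ IsAffineOpen (CohB1.genLocus _ s)

theorem isAmple_iff (L : X.Modules) :
    CohB1.IsAmple L ↔ PicF.IsInvertible L ∧ CompactSpace X ∧ HasAffineCover L := Iff.rfl

theorem hasAffineCover_tensorPow {L : X.Modules} (hL : PicF.IsInvertible L) (n : ℕ) (hn : 0 < n)
    (h : HasAffineCover L) : HasAffineCover (CohB1.tensorPow L n) := by
  obtain ⟨n, rfl⟩ := Nat.exists_eq_succ_of_ne_zero hn.ne'
  intro x
  obtain ⟨k, s, hxs, haff⟩ := h x
  refine ⟨k, castSec (Nat.mul_comm (k + 1) (n + 1)) (powSec s (n + 1)) ≫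
    (tensorPowMul L (n + 1) (k + 1)).inv, ?_, ?_⟩
  · have := genLocus_comp_iso (castSec (Nat.mul_comm (k + 1) (n + 1)) (powSec s (n + 1)))
      (tensorPowMul L (n + 1) (k + 1)).symm
    rw [Iso.symm_hom] at this
    rw [this, genLocus_castSec, genLocus_powSec hL]
    exact hxs
  · have := genLocus_comp_iso (castSec (Nat.mul_comm (k + 1) (n + 1)) (powSec s (n + 1)))
      (tensorPowMul L (n + 1) (k + 1)).symm
    rw [Iso.symm_hom] at this
    rw [this, genLocus_castSec, genLocus_powSec hL]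
    exact haff

theorem hasAffineCover_of_tensorPow {L : X.Modules} (n : ℕ) (hn : 0 < n)
    (h : HasAffineCover (CohB1.tensorPow L n)) : HasAffineCover L := by
  intro x
  obtain ⟨k, s, hxs, haff⟩ := h x
  have hpos : 0 < n * (k + 1) := Nat.mul_pos hn (Nat.succ_pos k)
  have heq : n * (k + 1) = (n * (k + 1) - 1) + 1 := (Nat.sub_add_cancel hpos).symm
  refine ⟨n * (k + 1) - 1, castSec heq (s ≫ (tensorPowMul L n (k + 1)).hom), ?_, ?_⟩
  · rw [genLocus_castSec, genLocus_comp_iso]
    exact hxs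
  · rw [genLocus_castSec, genLocus_comp_iso]
    exact haff

/-- `L` is ample iff `L^{⊗ n}` is, for `n > 0` (EGA II 4.5.6 (i)). -/
theorem isAmple_tensorPow_iff {L : X.Modules} (hL : PicF.IsInvertible L) (n : ℕ) (hn : 0 < n) :
    CohB1.IsAmple L ↔ CohB1.IsAmple (CohB1.tensorPow L n) := by
  constructor
  · rintro ⟨-, hc, h⟩
    exact ⟨isInvertible_tensorPow hL n, hc, hasAffineCover_tensorPow hL n hn h⟩
  · rintro ⟨-, hc, h⟩
    exact ⟨hL, hc, hasAffineCover_of_tensorPow n hn h⟩

/-- Tensor powers of isomorphic modules are isomorphic. -/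
noncomputable def tensorPowIso {L L' : X.Modules} (e : L ≅ L') :
    (n : ℕ) → (CohB1.tensorPow L n ≅ CohB1.tensorPow L' n)
  | 0 => Iso.refl _
  | n + 1 => PicGrp.tensorModIso (tensorPowIso e n) e

theorem hasAffineCover_of_iso {L L' : X.Modules} (e : L ≅ L') (h : HasAffineCover L) :
    HasAffineCover L' := by
  intro x
  obtain ⟨k, s, hxs, haff⟩ := h x
  refine ⟨k, s ≫ (tensorPowIso e (k + 1)).hom, ?_, ?_⟩
  · rw [genLocus_comp_iso]
    exact hxs
  · rw [genLocus_comp_iso]
    exact haff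

theorem isAmple_of_iso {L L' : X.Modules} (e : L ≅ L') (h : CohB1.IsAmple L) :
    CohB1.IsAmple L' :=
  ⟨Groth.Agent.Lib.helper11.InvMod.isInvertible_of_iso e h.1, h.2.1, hasAffineCover_of_iso e h.2.2⟩

theorem isAmple_iff_of_iso {L L' : X.Modules} (e : L ≅ L') :
    CohB1.IsAmple L ↔ CohB1.IsAmple L' :=
  ⟨isAmple_of_iso e, isAmple_of_iso e.symm⟩

/-- Restriction to an open commutes with tensor powers. -/
noncomputable def restrictTensorPowIso {Y : Scheme.{u}} (f : X ⟶ Y) [IsOpenImmersion f]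
    (L : Y.Modules) :
    (n : ℕ) → ((Scheme.Modules.restrictFunctor f).obj (CohB1.tensorPow L n) ≅
      CohB1.tensorPow ((Scheme.Modules.restrictFunctor f).obj L) n)
  | 0 => Scheme.Modules.restrictUnitIso f
  | n + 1 => Groth.Agent.Lib.helper12.TensorRestrict.restrictTensorIso f (CohB1.tensorPow L n) L ≪≫
      PicGrp.tensorModIso (restrictTensorPowIso f L n) (Iso.refl _)

/-- `L` is `f`-ample iff `L^{⊗ n}` is, for `n > 0`. -/
theorem isRelAmple_tensorPow_iff {S : Scheme.{u}} (f : X ⟶ S) {L : X.Modules}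
    (hL : PicF.IsInvertible L) (n : ℕ) (hn : 0 < n) :
    RelAmple.IsRelAmple f L ↔ RelAmple.IsRelAmple f (CohB1.tensorPow L n) := by
  unfold RelAmple.IsRelAmple
  refine and_congr Iff.rfl (forall_congr' fun V => ?_)
  rw [isAmple_tensorPow_iff
    (Groth.Agent.Lib.helper11.InvMod.isInvertible_restrict (f ⁻¹ᵁ V.1).ι hL) n hn]
  exact (isAmple_iff_of_iso (restrictTensorPowIso (f ⁻¹ᵁ V.1).ι L n)).symm

end Groth.Agent.Lib.helper12.AmplePow
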