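import Mathlib
import Groth.Agent.Lib.Helper12.TensorPowAdd

/-!
# Section formula for the associator of `CohB1.tensorMod`; adding twists (helper12)

* `shf_eq`, `unitP_eq` (helper21's ModSite names specialise to `CohB1.sheafifyMod X`, `toSheafify`), `toShP`, `shP`.
* `assocMod_hom_eq`, `assocMod_hom_tmul : (l ⊗ n) ⊗ m ↦ l ⊗ (n ⊗ m)`, `assocMod_inv_tmul`.
* `tensorPowAdd_hom_tmul_pow : s^{⊗ N} ⊗ s^{⊗ m} ↦ s^{⊗ (N+m)}`.
* `twistAddIso F L N m : (F ⊗ L^N) ⊗ L^m ≅ F ⊗ L^(N+m)`, `twistAddIso_hom_twist`.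
-/

set_option autoImplicit false
universe u

open CategoryTheory AlgebraicGeometry Opposite TopologicalSpace MonoidalCategory

namespace Groth.Agent.Lib.helper12.TensorAssoc

open Groth.Agent.Lib.helper12.TensorRestrict Groth.Agent.Lib.helper12.TensorSec
open Groth.Agent.Lib.helper12.TensorPowAdd
open Groth.Agent.Lib.Helper21.TensorW Groth.Agent.Lib.Helper21.TensorAdj
open Groth.Agent.Lib.Helper21.TensorMon

variable {X : Scheme.{u}}

theorem shf_eq : shf X.sheaf = CohB1.sheafifyMod X := rfl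

theorem unitP_eq (P : X.PresheafOfModules) : unitP X.sheaf P = toSheafify P := rfl

/-- `toSheafify`, typed in `CohB1.PMod X` (where the monoidal structure lives). -/
noncomputable def toShP (P : CohB1.PMod X) :
    P ⟶ CohB1.toPMod ((CohB1.sheafifyMod X).obj (show X.PresheafOfModules from P)) :=
  toSheafify (show X.PresheafOfModules from P)

/-- `sheafifyMod`, typed on `CohB1.PMod X`. -/
noncomputable abbrev shP (X : Scheme.{u}) : CohB1.PMod X ⥤ X.Modules := CohB1.sheafifyMod X

theorem assocMod_hom_eq (L N M : X.Modules) :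
    (shP X).map (toShP (CohB1.tensorPre L N) ▷ CohB1.toPMod M) ≫ (assocMod L N M).hom =
      (shP X).map (α_ (CohB1.toPMod L) (CohB1.toPMod N) (CohB1.toPMod M)).hom ≫
      (shP X).map (CohB1.toPMod L ◁ toShP (CohB1.tensorPre N M)) := by
  have h1 : (shP X).map (toShP (CohB1.tensorPre L N) ▷ CohB1.toPMod M) =
      (tensLShfIso X.sheaf (pv L ⊗ pv N)).hom.app M := rfl
  have h2 : (assocMod L N M).hom = (tensLShfIso X.sheaf (pv L ⊗ pv N)).inv.app M ≫
      ((shP X).map (α_ (CohB1.toPMod L) (CohB1.toPMod N) (CohB1.toPMod M)).hom ≫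
      (shP X).map (CohB1.toPMod L ◁ toShP (CohB1.tensorPre N M))) := rfl
  rw [h1, h2]
  exact Iso.hom_inv_id_app_assoc (tensLShfIso X.sheaf (pv L ⊗ pv N)) M _

/-- Section formula for the associator: `(l ⊗ n) ⊗ m ↦ l ⊗ (n ⊗ m)`. -/
theorem assocMod_hom_tmul (L N M : X.Modules) (U : X.Opens) (l : L.val.obj (op U))
    (n : N.val.obj (op U)) (m : M.val.obj (op U)) :
    ((assocMod L N M).hom.val.app (op U)).hom
        (SecTwist.tmul (CohB1.tensorMod L N) M U (SecTwist.tmul L N U l n) m) =
      SecTwist.tmul L (CohB1.tensorMod N M) U l (SecTwist.tmul N M U n m) := by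
  -- the element `(l ⊗ n) ⊗ m` of the iterated presheaf tensor product
  let P : CohB1.PMod X := CohB1.tensorPre L N
  let P3 : CohB1.PMod X := P ⊗ CohB1.toPMod M
  let x : ↥(P3.obj (op U)) :=
    ((l ⊗ₜ n : ↥(P.obj (op U))) ⊗ₜ m)
  have hx : SecTwist.tmul (CohB1.tensorMod L N) M U (SecTwist.tmul L N U l n) m =
      (((shP X).map (toShP (CohB1.tensorPre L N) ▷ CohB1.toPMod M)).val.app (op U)).hom
        (((toSheafify (show X.PresheafOfModules from P3)).app (op U)).hom x) := by
    erw [sheafifyMap_toSheafify_apply]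
    rfl
  rw [hx]
  have h := congrArg (fun φ => (φ.val.app (op U)).hom
    (((toSheafify (show X.PresheafOfModules from P3)).app (op U)).hom x))
    (assocMod_hom_eq L N M)
  refine Eq.trans h ?_
  change (((shP X).map (CohB1.toPMod L ◁ toShP (CohB1.tensorPre N M))).val.app (op U)).hom
    ((((shP X).map (α_ (CohB1.toPMod L) (CohB1.toPMod N) (CohB1.toPMod M)).hom).val.app
      (op U)).hom _) = _
  erw [sheafifyMap_toSheafify_apply, sheafifyMap_toSheafify_apply]
  rfl

theorem assocMod_inv_tmul (L N M : X.Modules) (U : X.Opens) (l : L.val.obj (op U))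
    (n : N.val.obj (op U)) (m : M.val.obj (op U)) :
    ((assocMod L N M).inv.val.app (op U)).hom
        (SecTwist.tmul L (CohB1.tensorMod N M) U l (SecTwist.tmul N M U n m)) =
      SecTwist.tmul (CohB1.tensorMod L N) M U (SecTwist.tmul L N U l n) m := by
  rw [← assocMod_hom_tmul]
  exact iso_inv_hom_apply (assocMod L N M) U _

/-- `s^{⊗ N} ⊗ s^{⊗ m} ↦ s^{⊗ (N+m)}` under `tensorPowAdd`. -/
theorem tensorPowAdd_hom_tmul_pow {L : X.Modules} (s : Coh.structureModule X ⟶ L) (N m : ℕ)
    (V : X.Opens) :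
    ((tensorPowAdd L N m).hom.val.app (op V)).hom
        (SecTwist.tmul (CohB1.tensorPow L N) (CohB1.tensorPow L m) V
          (SecTwist.pow s N V) (SecTwist.pow s m V)) =
      SecTwist.pow s (N + m) V := by
  induction m with
  | zero =>
    change ((SecTwist.unitorR (CohB1.tensorPow L N)).hom.val.app (op V)).hom
      (SecTwist.tmul _ (Coh.structureModule X) V (SecTwist.pow s N V)
        ((1 : X.ringCatSheaf.obj.obj (op V)) : (Coh.structureModule X).val.obj (op V))) = _
    rw [SecTwist.unitorR_tmul, one_smul]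
    rfl
  | succ m ih =>
    change ((PicGrp.tensorModIso (tensorPowAdd L N m) (Iso.refl L)).hom.val.app (op V)).hom
      (((assocMod (CohB1.tensorPow L N) (CohB1.tensorPow L m) L).inv.val.app (op V)).hom
        (SecTwist.tmul (CohB1.tensorPow L N) (CohB1.tensorMod (CohB1.tensorPow L m) L) V
          (SecTwist.pow s N V)
          (SecTwist.tmul (CohB1.tensorPow L m) L V (SecTwist.pow s m V) (SecTwist.val s V)))) = _
    rw [assocMod_inv_tmul, tensorModIso_hom_tmul, ih]
    rfl

/-- `(F ⊗ L^{⊗ N}) ⊗ L^{⊗ m} ≅ F ⊗ L^{⊗ (N+m)}`. -/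
noncomputable def twistAddIso (F L : X.Modules) (N m : ℕ) :
    CohB1.tensorMod (CohB1.tensorMod F (CohB1.tensorPow L N)) (CohB1.tensorPow L m) ≅
      CohB1.tensorMod F (CohB1.tensorPow L (N + m)) :=
  assocMod F (CohB1.tensorPow L N) (CohB1.tensorPow L m) ≪≫
    PicGrp.tensorModIso (Iso.refl F) (tensorPowAdd L N m)

/-- Twisting twice is twisting by the sum of the exponents. -/
theorem twistAddIso_hom_twist (F : X.Modules) {L : X.Modules} (s : Coh.structureModule X ⟶ L)
    (N m : ℕ) (V : X.Opens) (τ : F.val.obj (op V)) :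
    ((twistAddIso F L N m).hom.val.app (op V)).hom
        (SecTwist.twist s m (CohB1.tensorMod F (CohB1.tensorPow L N)) V
          (SecTwist.twist s N F V τ)) =
      SecTwist.twist s (N + m) F V τ := by
  unfold SecTwist.twist twistAddIso
  change ((PicGrp.tensorModIso (Iso.refl F) (tensorPowAdd L N m)).hom.val.app (op V)).hom
    (((assocMod F (CohB1.tensorPow L N) (CohB1.tensorPow L m)).hom.val.app (op V)).hom _) = _
  rw [assocMod_hom_tmul, tensorModIso_hom_tmul, tensorPowAdd_hom_tmul_pow]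
  rfl

end Groth.Agent.Lib.helper12.TensorAssoc
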