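import Mathlib
import Groth.Agent.Lib.Helper12.TensorPowAdd

/-!
# Twists `τ ⊗ s^{⊗ n}` in local trivialisations (helper12)

For `e : L|_U ≅ O_U`:
* `trivPow e n : (L^{⊗ n})|_U ≅ O_U`; `fn_localEnd_powHom`: `s^{⊗ n}` is described by `a^n`, `a` the function of `s`.
* `tensorTrivIso_hom_tmul`: `τ ⊗ l ↦ e(l) • τ`.
* `twistTriv F e n : (F ⊗ L^{⊗ n})|_U ≅ F|_U`; `twistTriv_hom_twist`: `SecTwist.twist s n F _ τ ↦ a^n • τ`.
-/

set_option autoImplicit false
universe u

open CategoryTheory AlgebraicGeometry Opposite TopologicalSpace MonoidalCategory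

namespace Groth.Agent.Lib.helper12.TwistLocal

open Groth.Agent.Lib.helper12.TensorRestrict Groth.Agent.Lib.helper11.InvMod
open Groth.Agent.Lib.helper11.GenLocus Groth.Agent.Lib.helper12.TensorInv
open Groth.Agent.Lib.helper12.TensorSec

variable {X : Scheme.{u}}

/-- The trivialisation of `L^{⊗ n}` over `U` induced by a trivialisation of `L` over `U`. -/
noncomputable def trivPow {L : X.Modules} {U : X.Opens}
    (e : L.restrict U.ι ≅ Coh.structureModule (↑U : Scheme.{u})) :
    (n : ℕ) → ((CohB1.tensorPow L n).restrict U.ι ≅ Coh.structureModule (↑U : Scheme.{u}))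
  | 0 => Scheme.Modules.restrictUnitIso U.ι
  | n + 1 => tensorTrivIso (CohB1.tensorPow L n) L U e ≪≫ trivPow e n

/-- In the induced trivialisation of `L^{⊗ n}`, the section `s^{⊗ n}` is described by the `n`-th
power of the function describing `s`. -/
theorem fn_localEnd_powHom {L : X.Modules} (s : Coh.structureModule X ⟶ L) {U : X.Opens}
    (e : L.restrict U.ι ≅ Coh.structureModule (↑U : Scheme.{u})) (n : ℕ)
    (V : (↑U : Scheme.{u}).Opens) :
    fn (localEnd (SecTwist.powHom s n) (Scheme.Modules.restrictUnitIso U.ι) (trivPow e n)) V =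
      (fn (localEnd s (Scheme.Modules.restrictUnitIso U.ι) e) V) ^ n := by
  induction n with
  | zero =>
    rw [pow_zero]
    change fn (localEnd (𝟙 _) (Scheme.Modules.restrictUnitIso U.ι)
      (Scheme.Modules.restrictUnitIso U.ι)) V = 1
    unfold localEnd
    rw [CategoryTheory.Functor.map_id, Category.id_comp, Iso.inv_hom_id]
    rfl
  | succ n ih =>
    change fn (localEnd (SecTwist.tmulHom (SecTwist.powHom s n) s)
      (Scheme.Modules.restrictUnitIso U.ι)
      (tensorTrivIso (CohB1.tensorPow L n) L U e ≪≫ trivPow e n)) V = _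
    rw [val_localEnd_tmulHom, ih, pow_succ']

/-- Section formula for `tensorTrivIso`: `τ ⊗ l ↦ e(l) • τ`. -/
theorem tensorTrivIso_hom_tmul (F L' : X.Modules) (U : X.Opens)
    (e : L'.restrict U.ι ≅ Coh.structureModule (↑U : Scheme.{u})) (V : (↑U : Scheme.{u}).Opens)
    (τ : F.val.obj (op (U.ι ''ᵁ V))) (l : L'.val.obj (op (U.ι ''ᵁ V))) :
    ((tensorTrivIso F L' U e).hom.val.app (op V)).hom (SecTwist.tmul F L' (U.ι ''ᵁ V) τ l) =
      (show (↑U : Scheme.{u}).ringCatSheaf.obj.obj (op V) from (e.hom.val.app (op V)).hom l) •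
        (show ((Scheme.Modules.restrictFunctor U.ι).obj F).val.obj (op V) from τ) := by
  change ((SecTwist.unitorR _).hom.val.app (op V)).hom
    (((PicGrp.tensorModIso (Iso.refl _) e).hom.val.app (op V)).hom
      (((restrictTensorIso U.ι F L').hom.val.app (op V)).hom _)) = _
  rw [restrictTensorIso_hom_tmul, tensorModIso_hom_tmul]
  erw [SecTwist.unitorR_tmul]
  rfl

/-- The trivialisation `(F ⊗ L^{⊗ n})|_U ≅ F|_U` induced by a trivialisation of `L` over `U`. -/
noncomputable def twistTriv (F : X.Modules) {L : X.Modules} {U : X.Opens}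
    (e : L.restrict U.ι ≅ Coh.structureModule (↑U : Scheme.{u})) (n : ℕ) :
    (CohB1.tensorMod F (CohB1.tensorPow L n)).restrict U.ι ≅ F.restrict U.ι :=
  tensorTrivIso F (CohB1.tensorPow L n) U (trivPow e n)

/-- Key formula: in the trivialisation, the twist `τ ⊗ s^{⊗ n}` is `a^n • τ`, with `a` the function
describing `s`. -/
theorem twistTriv_hom_twist (F : X.Modules) {L : X.Modules} (s : Coh.structureModule X ⟶ L)
    {U : X.Opens} (e : L.restrict U.ι ≅ Coh.structureModule (↑U : Scheme.{u})) (n : ℕ)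
    (V : (↑U : Scheme.{u}).Opens) (τ : F.val.obj (op (U.ι ''ᵁ V))) :
    ((twistTriv F e n).hom.val.app (op V)).hom (SecTwist.twist s n F (U.ι ''ᵁ V) τ) =
      (fn (localEnd s (Scheme.Modules.restrictUnitIso U.ι) e) V) ^ n •
        (show ((Scheme.Modules.restrictFunctor U.ι).obj F).val.obj (op V) from τ) := by
  unfold twistTriv SecTwist.twist
  rw [tensorTrivIso_hom_tmul, ← fn_localEnd_powHom]
  unfold fn
  rw [val_localEnd, SecTwist.val_powHom]
  rfl

end Groth.Agent.Lib.helper12.TwistLocal
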