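import Mathlib
import Groth.Agent.Lib.Helper12.TwistLocal
import Groth.Agent.Lib.Helper12.TensorAssoc
import Groth.Agent.Lib.Helper7.QCohAffine

/-!
# Annihilation by powers of a section of an invertible module (helper12)

* `basicOpen_fn_localEnd`: in a trivialisation over `U`, `D(a) = U.ι ⁻¹ᵁ X_s`.
* `kill_on_triv`: local statement on an affine trivialising open.
* `eq_zero_of_cover`: sections vanishing on a cover vanish.
* `kill_of_isCompact`: `F` quasi-coherent, `L` invertible, `V` quasi-compact open, `δ ∈ F(V)` vanishing on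
  `X_s ∩ V` ⇒ `SecTwist.twist s m F V δ = 0` for all large `m` (EGA I 9.3.1 (i), twisted form).
* `kill_top`: the case `V = ⊤` (= S15743).
-/

set_option autoImplicit false
universe u

open CategoryTheory AlgebraicGeometry Opposite TopologicalSpace MonoidalCategory

namespace Groth.Agent.Lib.helper12.TwistKill

open Groth.Agent.Lib.helper12.TensorRestrict Groth.Agent.Lib.helper11.InvMod
open Groth.Agent.Lib.helper11.GenLocus Groth.Agent.Lib.helper12.TensorInv
open Groth.Agent.Lib.helper12.TensorSec Groth.Agent.Lib.helper12.TwistLocal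
open Groth.Agent.Lib.helper11.IsoLocus

variable {X : Scheme.{u}}

/-- In a trivialisation `e` of `L` over `U`, the basic open of the function describing `s` is the
preimage of `X_s`. -/
theorem basicOpen_fn_localEnd {L : X.Modules} (s : Coh.structureModule X ⟶ L) {U : X.Opens}
    (e : L.restrict U.ι ≅ Coh.structureModule (↑U : Scheme.{u})) :
    (↑U : Scheme.{u}).basicOpen (fn (localEnd s (Scheme.Modules.restrictUnitIso U.ι) e) ⊤) =
      U.ι ⁻¹ᵁ CohB1.genLocus L s := by
  rw [← isoLocus_eq_basicOpen, isoLocus_localEnd, genLocus_eq_isoLocus]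

/-- Local form of the annihilation statement, on an affine open trivialising `L`. -/
theorem kill_on_triv (F : X.Modules) [F.IsQuasicoherent] {L : X.Modules}
    (s : Coh.structureModule X ⟶ L) {U : X.Opens} (hU : IsAffineOpen U)
    (e : L.restrict U.ι ≅ Coh.structureModule (↑U : Scheme.{u}))
    (τ : F.val.obj (op (U.ι ''ᵁ ⊤)))
    (hτ : ∀ (W : X.Opens) (h1 : W ≤ U.ι ''ᵁ ⊤), W ≤ CohB1.genLocus L s →
      F.val.map (homOfLE h1).op τ = 0) :
    ∃ n₀ : ℕ, ∀ n : ℕ, n₀ ≤ n → SecTwist.twist s n F (U.ι ''ᵁ ⊤) τ = 0 := by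
  have hY : IsAffine (↑U : Scheme.{u}) := hU
  let a := fn (localEnd s (Scheme.Modules.restrictUnitIso U.ι) e) ⊤
  let τ' : Γ((Scheme.Modules.restrictFunctor U.ι).obj F, (⊤ : (↑U : Scheme.{u}).Opens)) := τ
  have hs : ((Scheme.Modules.restrictFunctor U.ι).obj F).presheaf.map
      (homOfLE ((↑U : Scheme.{u}).basicOpen_le a)).op τ' = 0 := by
    have hle : U.ι ''ᵁ ((↑U : Scheme.{u}).basicOpen a) ≤ CohB1.genLocus L s := by
      rw [basicOpen_fn_localEnd]
      exact Scheme.Hom.image_preimage_le _ _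
    exact hτ _ (Scheme.Hom.image_mono _ ((↑U : Scheme.{u}).basicOpen_le a)) hle
  obtain ⟨k, hk⟩ := Groth.Agent.Lib.helper7.exists_pow_smul_eq_zero_of_isAffineOpen
    (isAffineOpen_top (↑U : Scheme.{u})) ((Scheme.Modules.restrictFunctor U.ι).obj F) a τ' hs
  refine ⟨k, fun n hn => ?_⟩
  have h1 : a ^ n • τ' = 0 := by
    rw [← Nat.sub_add_cancel hn, pow_add, mul_smul, hk, smul_zero]
  have h2 := twistTriv_hom_twist F s e n ⊤ τ
  have h3 : ((twistTriv F e n).hom.val.app (op ⊤)).hom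
      (SecTwist.twist s n F (U.ι ''ᵁ ⊤) τ) = 0 := h2.trans h1
  have h4 := iso_inv_hom_apply (twistTriv F e n) ⊤ (SecTwist.twist s n F (U.ι ''ᵁ ⊤) τ)
  rw [h3, map_zero] at h4
  exact h4.symm

/-- A section of an `O`-module vanishing on an open cover vanishes. -/
theorem eq_zero_of_cover (G : X.Modules) {ι : Type*} (W : ι → X.Opens) (V : X.Opens)
    (hle : ∀ i, W i ≤ V) (hcov : V ≤ ⨆ i, W i) (x : G.val.obj (op V))
    (hx : ∀ i, G.val.map (homOfLE (hle i)).op x = 0) : x = 0 := by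
  apply TopCat.Sheaf.eq_of_locally_eq' ⟨G.presheaf, G.isSheaf⟩ W V (fun i => homOfLE (hle i)) hcov
  intro i
  exact (hx i).trans (map_zero (G.presheaf.map (homOfLE (hle i)).op).hom).symm

/-- **Annihilation** (EGA I 9.3.1 (i) for an invertible module): a section of a quasi-coherent
module over a quasi-compact open `V` vanishing on `X_s ∩ V` is killed by `s^{⊗ m}` for all large `m`. -/
theorem kill_of_isCompact (F : X.Modules) [F.IsQuasicoherent] {L : X.Modules}
    (hL : PicF.IsInvertible L) (s : Coh.structureModule X ⟶ L) (V : X.Opens)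
    (hV : IsCompact (V : Set X)) (δ : F.val.obj (op V))
    (hδ : ∀ (W : X.Opens) (h1 : W ≤ V), W ≤ CohB1.genLocus L s →
      F.val.map (homOfLE h1).op δ = 0) :
    ∃ m₀ : ℕ, ∀ m : ℕ, m₀ ≤ m → SecTwist.twist s m F V δ = 0 := by
  classical
  -- affine trivialising neighbourhoods inside `V`
  have hex : ∀ x : V, ∃ U : X.Opens, IsAffineOpen U ∧ x.1 ∈ U ∧ U ≤ V ∧ IsTrivOn L U :=
    fun x => exists_affine_isTrivOn hL x.1 V x.2
  choose U hUaff hxU hUV hUtriv using hex
  obtain ⟨t, ht⟩ := hV.elim_finite_subcover (fun x : V => ((U x : X.Opens) : Set X))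
    (fun x => (U x).isOpen) (fun x hx => Set.mem_iUnion.mpr ⟨⟨x, hx⟩, hxU ⟨x, hx⟩⟩)
  -- the opens `W x = U x` in the form used by the local statement
  let W : V → X.Opens := fun x => (U x).ι ''ᵁ ⊤
  have hWU : ∀ x, W x = U x := fun x => (U x).ι_image_top
  have hWV : ∀ x, W x ≤ V := fun x => (hWU x).le.trans (hUV x)
  have hloc : ∀ x : V, ∃ n₀ : ℕ, ∀ n : ℕ, n₀ ≤ n →
      SecTwist.twist s n F (W x) (F.val.map (homOfLE (hWV x)).op δ) = 0 := by
    intro x
    obtain ⟨e⟩ := hUtriv x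
    refine kill_on_triv F s (hUaff x) e _ ?_
    intro W' h1 h2
    have := hδ W' (h1.trans (hWV x)) h2
    exact (Groth.Agent.Lib.helper7.map_map F (hWV x) h1 δ).trans this
  choose n₀ hn₀ using hloc
  refine ⟨t.sup n₀, fun m hm => ?_⟩
  apply eq_zero_of_cover (CohB1.tensorMod F (CohB1.tensorPow L m)) (fun x : t => W x.1) V
    (fun x => hWV x.1)
  · intro y hy
    obtain ⟨x, hx⟩ := Set.mem_iUnion.mp (ht hy)
    obtain ⟨hxt, hyx⟩ := Set.mem_iUnion.mp hx
    refine Opens.mem_iSup.mpr ⟨⟨x, hxt⟩, ?_⟩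
    rw [hWU]
    exact hyx
  · intro x
    rw [SecTwist.map_twist]
    exact hn₀ x.1 m ((Finset.le_sup x.2).trans hm)

/-- The global form (`X` quasi-compact). -/
theorem kill_top [CompactSpace X] (F : X.Modules) [F.IsQuasicoherent] {L : X.Modules}
    (hL : PicF.IsInvertible L) (s : Coh.structureModule X ⟶ L) (t : F.val.obj (op ⊤))
    (ht : F.val.map (homOfLE (le_top : CohB1.genLocus L s ≤ ⊤)).op t = 0) :
    ∃ n : ℕ, 0 < n ∧ SecTwist.twist s n F ⊤ t = 0 := by
  obtain ⟨m₀, hm₀⟩ := kill_of_isCompact F hL s ⊤ isCompact_univ t (by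
    intro W h1 h2
    have := Groth.Agent.Lib.helper7.map_map F (le_top : CohB1.genLocus L s ≤ ⊤) h2 t
    refine this.symm.trans ?_
    have h3 : F.presheaf.map (homOfLE (le_top : CohB1.genLocus L s ≤ ⊤)).op t = 0 := ht
    rw [h3, map_zero]
    rfl)
  exact ⟨m₀ + 1, Nat.succ_pos _, hm₀ _ (Nat.le_succ _)⟩

end Groth.Agent.Lib.helper12.TwistKill
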