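import Mathlib
import Groth.Agent.Lib.Helper12.TwistKill
import Groth.Agent.Lib.Helper7.CohKer

/-!
# Extension of sections over `X_s` after twisting by `s^{⊗ n}` (helper12)

* `isQuasicoherent_twist`: `F ⊗ L^{⊗ n}` is quasi-coherent (`F` quasi-coherent, `L` invertible).
* `naturality_apply'`, `extend_on_triv` (local extension on an affine trivialising open).
* `res G h x` (restriction of sections with plain types), `res_res`, `res_sub`, `res_twist`, `res_app`,
  `tmul_sub_left`, `twist_sub`, `eq_of_cover`, `exists_glue`.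
* `extend_top`: EGA I 9.3.1 (ii) for an invertible module on a qcqs scheme (= S15744).
-/

set_option autoImplicit false
universe u

open CategoryTheory AlgebraicGeometry Opposite TopologicalSpace MonoidalCategory

namespace Groth.Agent.Lib.helper12.TwistExtend

open Groth.Agent.Lib.helper12.TensorRestrict Groth.Agent.Lib.helper11.InvMod
open Groth.Agent.Lib.helper11.GenLocus Groth.Agent.Lib.helper12.TensorInv
open Groth.Agent.Lib.helper12.TensorSec Groth.Agent.Lib.helper12.TwistLocal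
open Groth.Agent.Lib.helper11.IsoLocus Groth.Agent.Lib.helper12.TwistKill
open Groth.Agent.Lib.helper12.TensorAssoc

variable {X : Scheme.{u}}

/-- `F ⊗ L^{⊗ n}` is quasi-coherent for `F` quasi-coherent and `L` invertible. -/
theorem isQuasicoherent_twist (F : X.Modules) [F.IsQuasicoherent] {L : X.Modules}
    (hL : PicF.IsInvertible L) (n : ℕ) :
    (CohB1.tensorMod F (CohB1.tensorPow L n)).IsQuasicoherent := by
  let ι := {U : X.Opens // IsAffineOpen U ∧ IsTrivOn L U}
  refine Groth.Agent.Lib.helper7.CohKer.isQuasicoherent_of_presentations _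
    (fun U : ι => U.1) ?_ (fun U => ?_)
  · rw [eq_top_iff]
    intro x _
    obtain ⟨U, hU, hxU, -, hT⟩ := exists_affine_isTrivOn hL x ⊤ trivial
    exact Opens.mem_iSup.mpr ⟨⟨U, hU, hT⟩, hxU⟩
  · have e := U.2.2.some
    have P := (Groth.Agent.Lib.helper7.CohKer.exists_presentation_restrict F U.2.1
      inferInstance).some
    exact P.ofIsIso (twistTriv F e n).inv

/-- Naturality of a morphism of modules, on sections. -/
theorem naturality_apply' {M N : X.Modules} (φ : M ⟶ N) {V V' : X.Opens} (h : V ≤ V')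
    (x : M.val.obj (op V')) :
    N.val.map (homOfLE h).op ((φ.val.app (op V')).hom x) =
      (φ.val.app (op V)).hom (M.val.map (homOfLE h).op x) :=
  (PresheafOfModules.naturality_apply φ.val (homOfLE h).op x).symm

/-- Local form of the extension statement, on an affine open trivialising `L`. -/
theorem extend_on_triv (F : X.Modules) [F.IsQuasicoherent] {L : X.Modules}
    (s : Coh.structureModule X ⟶ L) {U : X.Opens} (hU : IsAffineOpen U)
    (e : L.restrict U.ι ≅ Coh.structureModule (↑U : Scheme.{u}))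
    (t : F.val.obj (op (U.ι ''ᵁ ((↑U : Scheme.{u}).basicOpen
      (fn (localEnd s (Scheme.Modules.restrictUnitIso U.ι) e) ⊤))))) :
    ∃ n₀ : ℕ, ∀ n : ℕ, n₀ ≤ n →
      ∃ σ : (CohB1.tensorMod F (CohB1.tensorPow L n)).val.obj (op (U.ι ''ᵁ ⊤)),
        (CohB1.tensorMod F (CohB1.tensorPow L n)).val.map
          (homOfLE (Scheme.Hom.image_mono U.ι (le_top : (↑U : Scheme.{u}).basicOpen
            (fn (localEnd s (Scheme.Modules.restrictUnitIso U.ι) e) ⊤) ≤ ⊤))).op σ =
          SecTwist.twist s n F _ t := by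
  have hY : IsAffine (↑U : Scheme.{u}) := hU
  let Y : Scheme.{u} := ↑U
  let a : Γ(Y, ⊤) := fn (localEnd s (Scheme.Modules.restrictUnitIso U.ι) e) ⊤
  let D : Y.Opens := Y.basicOpen a
  let FY : Y.Modules := (Scheme.Modules.restrictFunctor U.ι).obj F
  let t' : Γ(FY, D) := t
  obtain ⟨n₁, τ, hτ⟩ := Groth.Agent.Lib.helper7.exists_pow_smul_eq_map_of_isAffineOpen
    (isAffineOpen_top Y) FY a t'
  refine ⟨n₁, fun n hn => ?_⟩
  let aD : Γ(Y, D) := Y.presheaf.map (homOfLE (Y.basicOpen_le a)).op a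
  have haD : fn (localEnd s (Scheme.Modules.restrictUnitIso U.ι) e) D = aD :=
    (res_fn _ (homOfLE (Y.basicOpen_le a))).symm
  -- the extension of `a^n t`
  let τn : Γ(FY, ⊤) := a ^ (n - n₁) • τ
  have hτn : FY.presheaf.map (homOfLE (Y.basicOpen_le a)).op τn = aD ^ n • t' := by
    change FY.presheaf.map (homOfLE (Y.basicOpen_le a)).op (a ^ (n - n₁) • τ) = _
    rw [Scheme.Modules.map_smul, hτ, map_pow, smul_smul, ← pow_add, Nat.sub_add_cancel hn]
  let Φ := twistTriv F e n
  refine ⟨(Φ.inv.val.app (op ⊤)).hom τn, ?_⟩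
  have h1 := naturality_apply' Φ.inv (Y.basicOpen_le a) τn
  have h2 : ((Scheme.Modules.restrictFunctor U.ι).obj F).val.map
      (homOfLE (Y.basicOpen_le a)).op τn = aD ^ n • t' := hτn
  rw [h2] at h1
  have h3 := twistTriv_hom_twist F s e n D t
  rw [haD] at h3
  have h4 := iso_inv_hom_apply Φ D (SecTwist.twist s n F (U.ι ''ᵁ D) t)
  rw [h3] at h4
  exact h1.trans h4

/-- Restriction of sections of a module, with the plain target type. -/
noncomputable def res (G : X.Modules) {V V' : X.Opens} (h : V ≤ V') (x : G.val.obj (op V')) :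
    G.val.obj (op V) :=
  G.val.map (homOfLE h).op x

theorem res_res (G : X.Modules) {V₁ V₂ V₃ : X.Opens} (h₁ : V₂ ≤ V₁) (h₂ : V₃ ≤ V₂)
    (x : G.val.obj (op V₁)) : res G h₂ (res G h₁ x) = res G (h₂.trans h₁) x :=
  Groth.Agent.Lib.helper7.map_map G h₁ h₂ x

theorem res_sub (G : X.Modules) {V₁ V₂ : X.Opens} (h : V₂ ≤ V₁) (x y : G.val.obj (op V₁)) :
    res G h (x - y) = res G h x - res G h y :=
  map_sub (G.presheaf.map (homOfLE h).op).hom x y

theorem tmul_sub_left (M N : X.Modules) (U : X.Opens) (m m' : M.val.obj (op U))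
    (n : N.val.obj (op U)) :
    SecTwist.tmul M N U (m - m') n = SecTwist.tmul M N U m n - SecTwist.tmul M N U m' n := by
  unfold SecTwist.tmul
  rw [TensorProduct.sub_tmul]
  exact map_sub ((SecTwist.toTensor M N).app (op U)).hom _ _

theorem twist_sub {L : X.Modules} (s : Coh.structureModule X ⟶ L) (n : ℕ) (F : X.Modules)
    (U : X.Opens) (x y : F.val.obj (op U)) :
    SecTwist.twist s n F U (x - y) = SecTwist.twist s n F U x - SecTwist.twist s n F U y :=
  tmul_sub_left _ _ _ _ _ _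

theorem res_twist {L : X.Modules} (s : Coh.structureModule X ⟶ L) (n : ℕ) (F : X.Modules)
    {U V : X.Opens} (h : V ≤ U) (t : F.val.obj (op U)) :
    res (CohB1.tensorMod F (CohB1.tensorPow L n)) h (SecTwist.twist s n F U t) =
      SecTwist.twist s n F V (res F h t) :=
  SecTwist.map_twist s n F (homOfLE h) t

/-- Two sections agreeing on an open cover are equal. -/
theorem eq_of_cover (G : X.Modules) {ι : Type*} (W : ι → X.Opens) (V : X.Opens)
    (hle : ∀ i, W i ≤ V) (hcov : V ≤ ⨆ i, W i) (x y : G.val.obj (op V))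
    (hxy : ∀ i, res G (hle i) x = res G (hle i) y) : x = y :=
  TopCat.Sheaf.eq_of_locally_eq' ⟨G.presheaf, G.isSheaf⟩ W V (fun i => homOfLE (hle i)) hcov x y
    hxy

/-- Naturality of a morphism of modules, on sections (`res` form). -/
theorem res_app {M N : X.Modules} (φ : M ⟶ N) {V V' : X.Opens} (h : V ≤ V')
    (x : M.val.obj (op V')) :
    res N h ((φ.val.app (op V')).hom x) = (φ.val.app (op V)).hom (res M h x) :=
  naturality_apply' φ h x

/-- Gluing of compatible sections over a cover of `X`. -/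
theorem exists_glue (H : X.Modules) {ι : Type*} (W : ι → X.Opens) (hcover : (⊤ : X.Opens) ≤ ⨆ i, W i)
    (sf : ∀ i, H.val.obj (op (W i)))
    (hsf : ∀ i j, res H (inf_le_left : W i ⊓ W j ≤ W i) (sf i) =
      res H (inf_le_right : W i ⊓ W j ≤ W j) (sf j)) :
    ∃ T : H.val.obj (op ⊤), ∀ i, res H (le_top : W i ≤ ⊤) T = sf i := by
  obtain ⟨Tg, hTg, -⟩ := TopCat.Sheaf.existsUnique_gluing' ⟨H.presheaf, H.isSheaf⟩
    W ⊤ (fun i => homOfLE le_top) hcover sf (fun i j => hsf i j)
  exact ⟨Tg, hTg⟩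

/-- **Extension** (EGA I 9.3.1 (ii) for an invertible module): on a quasi-compact quasi-separated
scheme, a section of a quasi-coherent `F` over `X_s`, twisted by a suitable `s^{⊗ n}`, extends to a
global section of `F ⊗ L^{⊗ n}`. -/
theorem extend_top [CompactSpace X] [QuasiSeparatedSpace X] (F : X.Modules) [F.IsQuasicoherent]
    {L : X.Modules} (hL : PicF.IsInvertible L) (s : Coh.structureModule X ⟶ L)
    (t : F.val.obj (op (CohB1.genLocus L s))) :
    ∃ n : ℕ, 0 < n ∧ ∃ t' : (CohB1.tensorMod F (CohB1.tensorPow L n)).val.obj (op ⊤),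
      res (CohB1.tensorMod F (CohB1.tensorPow L n)) (le_top : CohB1.genLocus L s ≤ ⊤) t' =
        SecTwist.twist s n F (CohB1.genLocus L s) t := by
  classical
  -- Step 1: a finite cover by affine opens trivialising `L`
  have hex : ∀ x : X, ∃ U : X.Opens, IsAffineOpen U ∧ x ∈ U ∧ IsTrivOn L U := fun x => by
    obtain ⟨U, h1, h2, -, h3⟩ := exists_affine_isTrivOn hL x ⊤ trivial
    exact ⟨U, h1, h2, h3⟩
  choose U hUaff hxU hUtriv using hex
  obtain ⟨T, hT⟩ := isCompact_univ.elim_finite_subcover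
    (fun x : X => ((U x : X.Opens) : Set X)) (fun x => (U x).isOpen)
    (fun x _ => Set.mem_iUnion.mpr ⟨x, hxU x⟩)
  have e : ∀ x, L.restrict (U x).ι ≅ Coh.structureModule (↑(U x) : Scheme.{u}) :=
    fun x => (hUtriv x).some
  let W : X → X.Opens := fun x => (U x).ι ''ᵁ ⊤
  let Z : X → X.Opens := fun x => (U x).ι ''ᵁ ((↑(U x) : Scheme.{u}).basicOpen
    (fn (localEnd s (Scheme.Modules.restrictUnitIso (U x).ι) (e x)) ⊤))
  have hWU : ∀ x, W x = U x := fun x => (U x).ι_image_top
  have hZW : ∀ x, Z x ≤ W x := fun x => Scheme.Hom.image_mono _ le_top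
  have hZ : ∀ x, Z x = U x ⊓ CohB1.genLocus L s := by
    intro x
    change (U x).ι ''ᵁ _ = _
    rw [basicOpen_fn_localEnd, Scheme.Hom.image_preimage_eq_opensRange_inf,
      Scheme.Opens.opensRange_ι]
  have hZs : ∀ x, Z x ≤ CohB1.genLocus L s := fun x => (hZ x).le.trans inf_le_right
  have hsZ : ∀ x (W' : X.Opens), W' ≤ W x → W' ≤ CohB1.genLocus L s → W' ≤ Z x := by
    intro x W' h1 h2
    rw [hZ]
    exact le_inf (h1.trans (hWU x).le) h2
  -- Step 2: local extensions with a uniform exponent `N`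
  have hloc := fun x => extend_on_triv F s (hUaff x) (e x) (res F (hZs x) t)
  choose n₀ hn₀ using hloc
  let N : ℕ := T.sup n₀ + 1
  let ι := {x // x ∈ T}
  let G : X.Modules := CohB1.tensorMod F (CohB1.tensorPow L N)
  have hσex : ∀ i : ι, ∃ σ : G.val.obj (op (W i.1)),
      res G (hZW i.1) σ = SecTwist.twist s N F (Z i.1) (res F (hZs i.1) t) :=
    fun i => hn₀ i.1 N ((Finset.le_sup i.2).trans (Nat.le_succ _))
  choose σ hσ using hσex
  have hG : G.IsQuasicoherent := isQuasicoherent_twist F hL N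
  have hσW : ∀ (i : ι) (W' : X.Opens) (h1 : W' ≤ W i.1) (h2 : W' ≤ CohB1.genLocus L s),
      res G h1 (σ i) = SecTwist.twist s N F W' (res F h2 t) := by
    intro i W' h1 h2
    have h3 : W' ≤ Z i.1 := hsZ i.1 W' h1 h2
    rw [← res_res G (hZW i.1) h3 (σ i), hσ i, res_twist, res_res]
  -- Step 3: the differences on overlaps are killed by a power of `s`
  let δ : ∀ i j : ι, G.val.obj (op (W i.1 ⊓ W j.1)) := fun i j =>
    res G inf_le_left (σ i) - res G inf_le_right (σ j)
  have hδ : ∀ (i j : ι) (W' : X.Opens) (h1 : W' ≤ W i.1 ⊓ W j.1),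
      W' ≤ CohB1.genLocus L s → res G h1 (δ i j) = 0 := by
    intro i j W' h1 h2
    change res G h1 (res G inf_le_left (σ i) - res G inf_le_right (σ j)) = 0
    rw [res_sub, res_res, res_res, hσW i W' _ h2, hσW j W' _ h2, sub_self]
  have hcomp : ∀ i j : ι, IsCompact ((W i.1 ⊓ W j.1 : X.Opens) : Set X) := by
    intro i j
    have h1 : IsCompact ((W i.1 : X.Opens) : Set X) := by
      rw [hWU]; exact (hUaff i.1).isCompact
    have h2 : IsCompact ((W j.1 : X.Opens) : Set X) := by
      rw [hWU]; exact (hUaff j.1).isCompact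
    exact QuasiSeparatedSpace.inter_isCompact _ _ (W i.1).isOpen h1 (W j.1).isOpen h2
  have hkill : ∀ i j : ι, ∃ m₀ : ℕ, ∀ m : ℕ, m₀ ≤ m →
      SecTwist.twist s m G (W i.1 ⊓ W j.1) (δ i j) = 0 := fun i j =>
    @kill_of_isCompact X G hG L hL s (W i.1 ⊓ W j.1) (hcomp i j) (δ i j) (hδ i j)
  choose m₀ hm₀ using hkill
  let m : ℕ := Finset.univ.sup (fun p : ι × ι => m₀ p.1 p.2)
  have hm : ∀ i j : ι, m₀ i j ≤ m := fun i j =>
    Finset.le_sup (f := fun p : ι × ι => m₀ p.1 p.2) (Finset.mem_univ (i, j))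
  -- Step 4: glue the twisted local extensions
  let H : X.Modules := CohB1.tensorMod G (CohB1.tensorPow L m)
  let Tsec : ∀ i : ι, H.val.obj (op (W i.1)) := fun i => SecTwist.twist s m G (W i.1) (σ i)
  have hcompat : ∀ i j : ι, res H (inf_le_left : W i.1 ⊓ W j.1 ≤ W i.1) (Tsec i) =
      res H (inf_le_right : W i.1 ⊓ W j.1 ≤ W j.1) (Tsec j) := by
    intro i j
    change res H _ (SecTwist.twist s m G (W i.1) (σ i)) =
      res H _ (SecTwist.twist s m G (W j.1) (σ j))
    rw [res_twist, res_twist, ← sub_eq_zero, ← twist_sub]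
    exact hm₀ i j m (hm i j)
  have hcover : (⊤ : X.Opens) ≤ ⨆ i : ι, W i.1 := by
    intro y _
    obtain ⟨x, hx⟩ := Set.mem_iUnion.mp (hT (Set.mem_univ y))
    obtain ⟨hxT, hyx⟩ := Set.mem_iUnion.mp hx
    refine Opens.mem_iSup.mpr ⟨⟨x, hxT⟩, ?_⟩
    change y ∈ W x
    rw [hWU]
    exact hyx
  obtain ⟨Tg, hTg⟩ := exists_glue H (fun i : ι => W i.1) hcover Tsec hcompat
  -- Step 5: the glued section restricts to the iterated twist on `X_s`
  have hcovZ : CohB1.genLocus L s ≤ ⨆ i : ι, Z i.1 := by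
    intro y hy
    obtain ⟨x, hx⟩ := Set.mem_iUnion.mp (hT (Set.mem_univ y))
    obtain ⟨hxT, hyx⟩ := Set.mem_iUnion.mp hx
    refine Opens.mem_iSup.mpr ⟨⟨x, hxT⟩, ?_⟩
    change y ∈ Z x
    rw [hZ]
    exact ⟨hyx, hy⟩
  have hTs : res H (le_top : CohB1.genLocus L s ≤ ⊤) Tg =
      SecTwist.twist s m G (CohB1.genLocus L s) (SecTwist.twist s N F (CohB1.genLocus L s) t) := by
    refine eq_of_cover H (fun i : ι => Z i.1) (CohB1.genLocus L s) (fun i => hZs i.1) hcovZ _ _
      (fun i => ?_)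
    rw [res_res, ← res_res H (le_top : W i.1 ≤ ⊤) (hZW i.1) Tg, hTg i]
    change res H (hZW i.1) (SecTwist.twist s m G (W i.1) (σ i)) = _
    rw [res_twist, hσW i (Z i.1) (hZW i.1) (hZs i.1), res_twist, res_twist]
  -- Step 6: transport along `(F ⊗ L^N) ⊗ L^m ≅ F ⊗ L^(N+m)`
  refine ⟨N + m, Nat.add_pos_left (Nat.succ_pos _) m,
    ((twistAddIso F L N m).hom.val.app (op ⊤)).hom Tg, ?_⟩
  rw [res_app (twistAddIso F L N m).hom (le_top : CohB1.genLocus L s ≤ ⊤) Tg]
  have hTs' : res (CohB1.tensorMod (CohB1.tensorMod F (CohB1.tensorPow L N))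
      (CohB1.tensorPow L m)) (le_top : CohB1.genLocus L s ≤ ⊤) Tg =
      SecTwist.twist s m (CohB1.tensorMod F (CohB1.tensorPow L N)) (CohB1.genLocus L s)
        (SecTwist.twist s N F (CohB1.genLocus L s) t) := hTs
  rw [hTs']
  exact twistAddIso_hom_twist F s N m (CohB1.genLocus L s) t

end Groth.Agent.Lib.helper12.TwistExtend
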