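import Mathlib
import Groth.Agent.Lib.Helper12.AmplePow
import Groth.Agent.Lib.Helper12.TwistExtend
import Groth.Agent.S7390

/-
helper12: ample invertible modules and the opens `X_s` (Stacks 01PS/01PW, EGA II 4.5.2).

* `genLocusFamily L`: the family of opens `X_s`, `s` a global section of a positive tensor power of `L`.
* `isAffineOpen_genLocus_of_le`, `isBasis_affine_of_isBasis` (= S9814), `isAmple_of_isBasis`.
* `secFamily`, `homOfSec`, `val_homOfSec`: the morphism `O ⟶ M` named by a global section.
* `tmul_smul_left`, `genLocus_powHom`.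
* `structureModule_qcoh`, `isQuasicoherent_of_isInvertible`, `quasiSeparatedSpace_of_hasAffineCover`.
-/

set_option autoImplicit false
universe u

open CategoryTheory AlgebraicGeometry Opposite TopologicalSpace MonoidalCategory

namespace Groth.Agent.Lib.helper12.AmpleBasis

open Groth.Agent.Lib.helper12.TensorRestrict Groth.Agent.Lib.helper11.InvMod
open Groth.Agent.Lib.helper11.GenLocus Groth.Agent.Lib.helper12.TensorInv
open Groth.Agent.Lib.helper12.TensorSec Groth.Agent.Lib.helper12.TwistLocal
open Groth.Agent.Lib.helper11.IsoLocus Groth.Agent.Lib.helper12.TwistKill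
open Groth.Agent.Lib.helper12.TensorAssoc Groth.Agent.Lib.helper12.AmplePow
open Groth.Agent.Lib.helper12.TensorPowAdd

variable {X : Scheme.{u}}

/-- The family of opens `X_s`, `s` a global section of a positive tensor power of `L`. -/
def genLocusFamily (L : X.Modules) : Set X.Opens :=
  {U : X.Opens | ∃ (n : ℕ) (s : Coh.structureModule X ⟶ CohB1.tensorPow L (n + 1)),
    U = CohB1.genLocus _ s}

/-- If `X_s` is contained in an affine open on which `L` is trivial, then `X_s` is affine. -/
theorem isAffineOpen_genLocus_of_le {M : X.Modules} (s : Coh.structureModule X ⟶ M)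
    {A : X.Opens} (hA : IsAffineOpen A) (hM : IsTrivOn M A) (hle : CohB1.genLocus M s ≤ A) :
    IsAffineOpen (CohB1.genLocus M s) := by
  obtain ⟨f, hf⟩ := exists_genLocus_inf_eq_basicOpen s hM
  rw [inf_eq_left.mpr hle] at hf
  rw [hf]
  exact hA.basicOpen f

/-- If the opens `X_s` form a basis, so do the affine ones among them (Stacks 01PW). -/
theorem isBasis_affine_of_isBasis {L : X.Modules} (hL : PicF.IsInvertible L)
    (hB : Opens.IsBasis (genLocusFamily L)) :
    Opens.IsBasis {U : X.Opens | IsAffineOpen U ∧ U ∈ genLocusFamily L} := by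
  rw [Opens.isBasis_iff_nbhd] at hB ⊢
  intro V x hxV
  obtain ⟨A, hA, hxA, hAV, hT⟩ := exists_affine_isTrivOn hL x V hxV
  obtain ⟨U', ⟨n, s, rfl⟩, hxU, hUA⟩ := hB hxA
  refine ⟨_, ⟨?_, n, s, rfl⟩, hxU, hUA.trans hAV⟩
  exact isAffineOpen_genLocus_of_le s hA (isTrivOn_tensorPow hT (n + 1)) hUA

theorem isAmple_of_isBasis [CompactSpace X] {L : X.Modules} (hL : PicF.IsInvertible L)
    (hB : Opens.IsBasis (genLocusFamily L)) : CohB1.IsAmple L := by
  refine ⟨hL, inferInstance, fun x => ?_⟩
  have h2 := isBasis_affine_of_isBasis hL hB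
  rw [Opens.isBasis_iff_nbhd] at h2
  obtain ⟨U', ⟨haff, n, s, rfl⟩, hxU, -⟩ := h2 (show x ∈ (⊤ : X.Opens) from trivial)
  exact ⟨n, s, hxU, haff⟩

open Groth.Agent.Lib.helper12.TwistExtend

/-- The compatible family of sections defined by a global section. -/
noncomputable def secFamily (M : X.Modules) (σ : M.val.obj (op ⊤)) : M.val.sections :=
  PresheafOfModules.sectionsMk (fun V => res M (le_top : V.unop ≤ ⊤) σ) (fun V V' f => by
    change res M (leOfHom f.unop) (res M (le_top : V.unop ≤ ⊤) σ) = _
    rw [res_res])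

/-- The morphism `O ⟶ M` named by a global section of `M`. -/
noncomputable def homOfSec (M : X.Modules) (σ : M.val.obj (op ⊤)) :
    Coh.structureModule X ⟶ M :=
  M.unitHomEquiv.symm (secFamily M σ)

theorem val_homOfSec (M : X.Modules) (σ : M.val.obj (op ⊤)) (U : X.Opens) :
    SecTwist.val (homOfSec M σ) U = res M (le_top : U ≤ ⊤) σ :=
  congrArg (fun τ => τ.val (op U)) (M.unitHomEquiv.apply_symm_apply (secFamily M σ))

theorem tmul_smul_left (M N : X.Modules) (U : X.Opens) (r : X.ringCatSheaf.obj.obj (op U))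
    (m : M.val.obj (op U)) (n : N.val.obj (op U)) :
    SecTwist.tmul M N U (r • m) n = r • SecTwist.tmul M N U m n := by
  unfold SecTwist.tmul
  exact ((SecTwist.toTensor M N).app (op U)).hom.map_smul r (m ⊗ₜ n)

/-- `X_{s^{⊗ (j+1)}} = X_s` for `SecTwist.powHom`. -/
theorem genLocus_powHom {L : X.Modules} (hL : PicF.IsInvertible L)
    (s : Coh.structureModule X ⟶ L) (j : ℕ) :
    CohB1.genLocus _ (SecTwist.powHom s (j + 1)) = CohB1.genLocus L s := by
  induction j with
  | zero =>
    change CohB1.genLocus _ (SecTwist.tmulHom (𝟙 _) s) = _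
    have h1 := genLocus_tmulHom (L := Coh.structureModule X) (isInvertible_structureModule X) hL
      (𝟙 _) s
    have : CohB1.genLocus (Coh.structureModule X) (𝟙 (Coh.structureModule X)) = ⊤ := by
      rw [genLocus_eq_top_iff]; infer_instance
    rw [this, top_inf_eq] at h1
    exact h1
  | succ j ih =>
    change CohB1.genLocus _ (SecTwist.tmulHom (SecTwist.powHom s (j + 1)) s) = _
    rw [genLocus_tmulHom (isInvertible_tensorPow hL (j + 1)) hL, ih, inf_idem]

theorem structureModule_qcoh (X : Scheme.{u}) : (Coh.structureModule X).IsQuasicoherent := by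
  have h : (SheafOfModules.free (R := X.ringCatSheaf) PUnit.{u + 1}).IsQuasicoherent :=
    inferInstance
  let e : SheafOfModules.free (R := X.ringCatSheaf) PUnit.{u + 1} ≅
      SheafOfModules.unit X.ringCatSheaf :=
    Limits.coproductUniqueIso (fun _ : PUnit.{u + 1} => SheafOfModules.unit X.ringCatSheaf)
  exact (SheafOfModules.isQuasicoherent X.ringCatSheaf).prop_of_iso e h

/-- Invertible modules are quasi-coherent. -/
theorem isQuasicoherent_of_isInvertible {L : X.Modules} (hL : PicF.IsInvertible L) :
    L.IsQuasicoherent := by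
  let ι := {U : X.Opens // IsAffineOpen U ∧ IsTrivOn L U}
  refine Groth.Agent.Lib.helper7.CohKer.isQuasicoherent_of_presentations _
    (fun U : ι => U.1) ?_ (fun U => ?_)
  · rw [eq_top_iff]
    intro x _
    obtain ⟨U, hU, hxU, -, hT⟩ := exists_affine_isTrivOn hL x ⊤ trivial
    exact Opens.mem_iSup.mpr ⟨⟨U, hU, hT⟩, hxU⟩
  · have e := U.2.2.some
    have hq := structureModule_qcoh X
    have P := (Groth.Agent.Lib.helper7.CohKer.exists_presentation_restrict
      (Coh.structureModule X) U.2.1 inferInstance).some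
    exact (P.ofIsIso (Scheme.Modules.restrictUnitIso U.1.ι).hom).ofIsIso e.inv

/-- A scheme covered by affine opens of the form `X_s` is quasi-separated. -/
theorem quasiSeparatedSpace_of_hasAffineCover {L : X.Modules} (hL : PicF.IsInvertible L)
    (h : HasAffineCover L) : QuasiSeparatedSpace X := by
  have h1 : IsAffineHom (Limits.pullback.diagonal (Limits.terminal.from X)) :=
    Groth.Agent.S7390.result X (fun x => by
      obtain ⟨n, s, hxs, haff⟩ := h x
      exact ⟨_, s, isInvertible_tensorPow hL (n + 1), hxs, haff⟩)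
  rw [quasiSeparatedSpace_iff_quasiSeparated]
  exact ⟨inferInstance⟩

end Groth.Agent.Lib.helper12.AmpleBasis
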