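import Mathlib
import Groth.Agent.Lib.Helper12.AmpleBasis

/-
helper12: ample ⇔ the opens `X_s` form a basis (Stacks 01PS, EGA II 4.5.2).

* `app_eq_of_smul`, `isIso_app_iff_isUnit_of_smul`, `genLocus_inf_eq_basicOpen_of_smul`:
  if `u = g • p` over `A ⊆ X_p` then `X_u ∩ A = D(g)`.
* `genLocus_powHom'`, `genLocusFamily_tensorPow_subset`.
* `exists_genLocus_eq_basicOpen`: on a qcqs scheme, `D(g) ⊆ X_s` (`g ∈ Γ(X_s, O)`) is of the form `X_w`.
* `isBasis_of_isAmple`, `isAmple_iff_isBasis` (= S2126), `isAmple_iff_isTopologicalBasis` (= S3566).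
-/

set_option autoImplicit false
universe u

open CategoryTheory AlgebraicGeometry Opposite TopologicalSpace MonoidalCategory

namespace Groth.Agent.Lib.helper12.AmpleBasis2

open Groth.Agent.Lib.helper12.TensorRestrict Groth.Agent.Lib.helper11.InvMod
open Groth.Agent.Lib.helper11.GenLocus Groth.Agent.Lib.helper12.TensorInv
open Groth.Agent.Lib.helper12.TensorSec Groth.Agent.Lib.helper12.TwistLocal
open Groth.Agent.Lib.helper11.IsoLocus Groth.Agent.Lib.helper12.TwistKill
open Groth.Agent.Lib.helper12.TensorAssoc Groth.Agent.Lib.helper12.AmplePow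
open Groth.Agent.Lib.helper12.TensorPowAdd Groth.Agent.Lib.helper12.AmpleBasis
open Groth.Agent.Lib.helper12.TwistExtend
open Scheme.Modules

variable {X : Scheme.{u}}

/-- If `u = g • p` over `W`, then `u(W) = p(W) ∘ (· * g)`. -/
theorem app_eq_of_smul {M : X.Modules} (u p : Coh.structureModule X ⟶ M) {W : X.Opens}
    (g : Γ(X, W)) (h : sec u W = g • sec p W) (a : Γ(X, W)) :
    (u.app W).hom (a : Γ(Coh.structureModule X, W)) =
      (p.app W).hom ((a * g : Γ(X, W)) : Γ(Coh.structureModule X, W)) := by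
  rw [app_apply, app_apply, h, mul_smul]

theorem isIso_app_iff_isUnit_of_smul {M : X.Modules} (u p : Coh.structureModule X ⟶ M)
    {W : X.Opens} (g : Γ(X, W)) (h : sec u W = g • sec p W) (hp : IsIso (p.app W)) :
    IsIso (u.app W) ↔ IsUnit g := by
  rw [ConcreteCategory.isIso_iff_bijective] at hp ⊢
  have key : ⇑(u.app W).hom = ⇑(p.app W).hom ∘ (fun a : Γ(X, W) => a * g) := by
    funext a
    exact app_eq_of_smul u p g h a
  rw [IsUnit.isUnit_iff_mulRight_bijective, key]
  exact Function.Bijective.of_comp_iff' hp _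

/-- If `u = g • p` over `A` and `p` generates on `A`, then `X_u ∩ A = D(g)`. -/
theorem genLocus_inf_eq_basicOpen_of_smul {M : X.Modules} (u p : Coh.structureModule X ⟶ M)
    {A : X.Opens} (hA : A ≤ CohB1.genLocus M p) (g : Γ(X, A)) (h : sec u A = g • sec p A) :
    CohB1.genLocus M u ⊓ A = X.basicOpen g := by
  have hres : ∀ W : X.Opens, ∀ hW : W ≤ A,
      sec u W = X.presheaf.map (homOfLE hW).op g • sec p W := by
    intro W hW
    rw [← res_sec u (homOfLE hW), ← res_sec p (homOfLE hW), h, Scheme.Modules.map_smul]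
  have key : ∀ V : X.Opens, ∀ hV : V ≤ A,
      V ≤ CohB1.genLocus M u ↔ IsUnit (X.presheaf.map (homOfLE hV).op g) := by
    intro V hV
    rw [le_genLocus_iff, isIso_restrict_iff_app]
    constructor
    · intro hall
      exact (isIso_app_iff_isUnit_of_smul u p _ (hres V hV)
        (isIso_app_of_le_isoLocus p (hV.trans hA))).mp (hall V le_rfl)
    · intro hunit W hW
      rw [isIso_app_iff_isUnit_of_smul u p _ (hres W (hW.trans hV))
        (isIso_app_of_le_isoLocus p ((hW.trans hV).trans hA))]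
      have : X.presheaf.map (homOfLE (hW.trans hV)).op g =
          X.presheaf.map (homOfLE hW).op (X.presheaf.map (homOfLE hV).op g) := by
        rw [← ConcreteCategory.comp_apply, ← Functor.map_comp]; rfl
      rw [this]
      exact hunit.map _
  refine le_antisymm ?_ ?_
  · have h1 := (key _ inf_le_right).mp inf_le_left
    have h2 := X.basicOpen_of_isUnit h1
    rw [Scheme.basicOpen_res] at h2
    exact inf_eq_left.mp h2
  · refine le_inf ?_ (X.basicOpen_le _)
    rw [key _ (X.basicOpen_le g)]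
    exact RingedSpace.isUnit_res_basicOpen _ g

theorem genLocus_powHom' {L : X.Modules} (hL : PicF.IsInvertible L)
    (s : Coh.structureModule X ⟶ L) (m : ℕ) (hm : 0 < m) :
    CohB1.genLocus _ (SecTwist.powHom s m) = CohB1.genLocus L s := by
  cases m with
  | zero => exact absurd hm (lt_irrefl 0)
  | succ j => exact genLocus_powHom hL s j

/-- `X_s`-type opens for a positive power of `L` are `X_s`-type opens for `L`. -/
theorem genLocusFamily_tensorPow_subset (L : X.Modules) (n : ℕ) (hn : 0 < n) :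
    genLocusFamily (CohB1.tensorPow L n) ⊆ genLocusFamily L := by
  rintro U ⟨k, s, rfl⟩
  have hpos : 0 < n * (k + 1) := Nat.mul_pos hn (Nat.succ_pos k)
  have heq : n * (k + 1) = (n * (k + 1) - 1) + 1 := (Nat.sub_add_cancel hpos).symm
  refine ⟨n * (k + 1) - 1, castSec heq (s ≫ (tensorPowMul L n (k + 1)).hom), ?_⟩
  rw [genLocus_castSec, genLocus_comp_iso]

/-- EGA II 4.5.2-style key step: on a qcqs scheme, every basic open `D(g)` of `X_s`
(`g ∈ Γ(X_s, O)`) is again of the form `X_w`, `w` a section of a positive power of `L`. -/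
theorem exists_genLocus_eq_basicOpen [CompactSpace X] [QuasiSeparatedSpace X] {L : X.Modules}
    (hL : PicF.IsInvertible L) (s : Coh.structureModule X ⟶ L)
    (g : Γ(X, CohB1.genLocus L s)) :
    ∃ (m : ℕ) (w : Coh.structureModule X ⟶ CohB1.tensorPow L (m + 1)),
      CohB1.genLocus _ w = X.basicOpen g := by
  let F := CohB1.tensorPow L 1
  have hF : F.IsQuasicoherent := isQuasicoherent_of_isInvertible (isInvertible_tensorPow hL 1)
  let t : F.val.obj (op (CohB1.genLocus L s)) :=
    (show X.ringCatSheaf.obj.obj (op (CohB1.genLocus L s)) from g) •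
      SecTwist.pow s 1 (CohB1.genLocus L s)
  obtain ⟨k, hk, t', ht'⟩ := @extend_top X _ _ F hF L hL s t
  let σ := ((tensorPowAdd L 1 k).hom.val.app (op ⊤)).hom t'
  let u := homOfSec _ σ
  let p := SecTwist.powHom s (1 + k)
  have hp : CohB1.genLocus _ p = CohB1.genLocus L s := genLocus_powHom' hL s (1 + k) (by omega)
  have hup : sec u (CohB1.genLocus L s) = g • sec p (CohB1.genLocus L s) := by
    change SecTwist.val (homOfSec _ σ) _ = _
    rw [val_homOfSec]
    change res _ _ (((tensorPowAdd L 1 k).hom.val.app (op ⊤)).hom t') = _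
    rw [res_app, ht']
    change ((tensorPowAdd L 1 k).hom.val.app (op (CohB1.genLocus L s))).hom
      (SecTwist.tmul F (CohB1.tensorPow L k) _ t (SecTwist.pow s k _)) = _
    rw [tmul_smul_left]
    refine (((tensorPowAdd L 1 k).hom.val.app (op (CohB1.genLocus L s))).hom.map_smul _ _).trans ?_
    rw [tensorPowAdd_hom_tmul_pow, ← SecTwist.val_powHom]
    rfl
  have h1 := genLocus_inf_eq_basicOpen_of_smul u p hp.ge g hup
  refine ⟨1 + k, SecTwist.tmulHom u s, ?_⟩
  change CohB1.genLocus (CohB1.tensorMod (CohB1.tensorPow L (1 + k)) L) _ = _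
  rw [genLocus_tmulHom (isInvertible_tensorPow hL (1 + k)) hL]
  exact h1

/-- Ample ⇒ the opens `X_s` form a basis (Stacks 01PS (1) ⇒ (2), EGA II 4.5.2 a) ⇒ a')). -/
theorem isBasis_of_isAmple {L : X.Modules} (h : CohB1.IsAmple L) :
    Opens.IsBasis (genLocusFamily L) := by
  obtain ⟨hL, hc, hcov⟩ := h
  have := hc
  have : QuasiSeparatedSpace X := quasiSeparatedSpace_of_hasAffineCover hL hcov
  rw [Opens.isBasis_iff_nbhd]
  intro V x hxV
  obtain ⟨n, s, hxs, haff⟩ := hcov x
  obtain ⟨g, hgV, hxg⟩ := haff.exists_basicOpen_le ⟨x, hxV⟩ hxs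
  obtain ⟨m, w, hw⟩ := exists_genLocus_eq_basicOpen (isInvertible_tensorPow hL (n + 1)) s g
  refine ⟨X.basicOpen g, ?_, hxg, hgV⟩
  apply genLocusFamily_tensorPow_subset L (n + 1) (Nat.succ_pos n)
  exact ⟨m, w, hw.symm⟩

/-- **Stacks 01PS / EGA II 4.5.2**: on a quasi-compact scheme, an invertible module is ample iff the
opens `X_s` form a basis of the topology. -/
theorem isAmple_iff_isBasis [CompactSpace X] {L : X.Modules} (hL : PicF.IsInvertible L) :
    CohB1.IsAmple L ↔ Opens.IsBasis (genLocusFamily L) :=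
  ⟨isBasis_of_isAmple, isAmple_of_isBasis hL⟩

/-- The same with `IsTopologicalBasis` of subsets. -/
theorem isAmple_iff_isTopologicalBasis [CompactSpace X] {L : X.Modules}
    (hL : PicF.IsInvertible L) :
    CohB1.IsAmple L ↔ TopologicalSpace.IsTopologicalBasis
      {U : Set X | ∃ (n : ℕ) (s : Coh.structureModule X ⟶ CohB1.tensorPow L (n + 1)),
        U = (CohB1.genLocus (CohB1.tensorPow L (n + 1)) s : Set X)} := by
  rw [isAmple_iff_isBasis hL, Opens.IsBasis]
  have : ((↑) : X.Opens → Set X) '' genLocusFamily L =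
      {U : Set X | ∃ (n : ℕ) (s : Coh.structureModule X ⟶ CohB1.tensorPow L (n + 1)),
        U = (CohB1.genLocus (CohB1.tensorPow L (n + 1)) s : Set X)} := by
    ext U
    constructor
    · rintro ⟨_, ⟨n, s, rfl⟩, rfl⟩
      exact ⟨n, s, rfl⟩
    · rintro ⟨n, s, rfl⟩
      exact ⟨_, ⟨n, s, rfl⟩, rfl⟩
  rw [this]

end Groth.Agent.Lib.helper12.AmpleBasis2
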