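import Mathlib
import Groth.Agent.Lib.Helper12.AmpleBasis2
import Groth.Agent.Lib.Lead.ModTensor
import Groth.Agent.S2350

/-
helper12: quasi-affine schemes and ampleness; tensor products of ample modules (EGA II 4.5.6, 5.1.2).

* `res_self`, `fnHom r : O ⟶ O` (multiplication by a global function), `genLocus_fnHom`.
* `isAmple_structureModule_of_isQuasiAffine`, `isQuasiAffine_of_hasAffineCover_structureModule`,
  `isQuasiAffine_iff_isAmple_structureModule` (= S2336).
* `isAffineOpen_inf_genLocus`, `exists_sec_tensor`, `isAmple_tensorMod_of_cover` (= S2328),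
  `isAmple_tensorMod`, `isQuasiAffine_of_isAmple_of_isInverseOf` (= S4374),
  `isRelAmple_tensorMod` (= S4384).
-/

set_option autoImplicit false
universe u

open CategoryTheory AlgebraicGeometry Opposite TopologicalSpace MonoidalCategory

namespace Groth.Agent.Lib.helper12.AmpleQAff

open Groth.Agent.Lib.helper12.TensorRestrict Groth.Agent.Lib.helper11.InvMod
open Groth.Agent.Lib.helper11.GenLocus Groth.Agent.Lib.helper12.TensorInv
open Groth.Agent.Lib.helper12.TensorSec Groth.Agent.Lib.helper12.TwistLocal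
open Groth.Agent.Lib.helper11.IsoLocus Groth.Agent.Lib.helper12.TwistKill
open Groth.Agent.Lib.helper12.TensorAssoc Groth.Agent.Lib.helper12.AmplePow
open Groth.Agent.Lib.helper12.TensorPowAdd Groth.Agent.Lib.helper12.AmpleBasis
open Groth.Agent.Lib.helper12.TwistExtend Groth.Agent.Lib.helper12.AmpleBasis2
open Scheme.Modules

variable {X : Scheme.{u}}

theorem res_self (M : X.Modules) (U : X.Opens) (x : M.val.obj (op U)) :
    res M (le_refl U) x = x := by
  unfold res
  have : (homOfLE (le_refl U)).op = 𝟙 (op U) := rfl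
  rw [this, M.val.map_id]
  rfl

/-- The endomorphism of `O_X` given by multiplication by a global function. -/
noncomputable def fnHom (r : Γ(X, ⊤)) : Coh.structureModule X ⟶ Coh.structureModule X :=
  homOfSec (Coh.structureModule X) r

theorem genLocus_fnHom (r : Γ(X, ⊤)) :
    CohB1.genLocus (Coh.structureModule X) (fnHom r) = X.basicOpen r := by
  rw [genLocus_structureModule]
  congr 1
  change SecTwist.val (homOfSec (Coh.structureModule X) r) ⊤ = r
  rw [val_homOfSec]
  exact res_self _ _ _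

theorem isAmple_structureModule_of_isQuasiAffine [X.IsQuasiAffine] :
    CohB1.IsAmple (Coh.structureModule X) := by
  refine ⟨isInvertible_structureModule X, inferInstance, fun x => ?_⟩
  obtain ⟨_, ⟨_, ⟨r, hr, rfl⟩, rfl⟩, hxr, -⟩ :=
    (Scheme.IsQuasiAffine.isBasis_basicOpen X).exists_subset_of_mem_open (Set.mem_univ x)
      isOpen_univ
  refine ⟨0, SecTwist.powHom (fnHom r) 1, ?_, ?_⟩
  · rw [genLocus_powHom (isInvertible_structureModule X), genLocus_fnHom]
    exact hxr
  · rw [genLocus_powHom (isInvertible_structureModule X), genLocus_fnHom]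
    exact hr

theorem isQuasiAffine_of_hasAffineCover_structureModule [CompactSpace X]
    (h : HasAffineCover (Coh.structureModule X)) : X.IsQuasiAffine := by
  refine Scheme.IsQuasiAffine.of_forall_exists_mem_basicOpen X fun x => ?_
  obtain ⟨n, s, hxs, haff⟩ := h x
  let e := Groth.Agent.Lib.Lead.ModTensor.tensorPowUnit (X := X) (n + 1)
  have h1 : CohB1.genLocus _ (s ≫ e.hom) = CohB1.genLocus _ s := genLocus_comp_iso s e
  rw [genLocus_structureModule] at h1
  refine ⟨fn (s ≫ e.hom) ⊤, ?_, ?_⟩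
  · rw [h1]; exact haff
  · rw [h1]; exact hxs

theorem isQuasiAffine_iff_isAmple_structureModule [CompactSpace X] :
    X.IsQuasiAffine ↔ CohB1.IsAmple (Coh.structureModule X) :=
  ⟨fun _ => isAmple_structureModule_of_isQuasiAffine,
    fun h => isQuasiAffine_of_hasAffineCover_structureModule h.2.2⟩

/-- The intersection of an affine open with an `X_s` is affine. -/
theorem isAffineOpen_inf_genLocus {L : X.Modules} (hL : PicF.IsInvertible L)
    (s : Coh.structureModule X ⟶ L) {U : X.Opens} (hU : IsAffineOpen U) :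
    IsAffineOpen (U ⊓ CohB1.genLocus L s) := by
  have : IsAffineHom (CohB1.genLocus L s).ι := Groth.Agent.S2350.result X L hL s
  have h1 : IsAffineOpen ((CohB1.genLocus L s).ι ⁻¹ᵁ U) := hU.preimage _
  have h2 := h1.image_of_isOpenImmersion (CohB1.genLocus L s).ι
  rw [Scheme.Hom.image_preimage_eq_opensRange_inf, Scheme.Opens.opensRange_ι, inf_comm] at h2
  exact h2

/-- Product of sections of `L^{⊗ (n+1)}` and `L'^{⊗ (n'+1)}` as a section of a positive power of
`L ⊗ L'`, with `X_{…} = X_s ∩ X_{s'}`. -/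
theorem exists_sec_tensor {L L' : X.Modules} (hL : PicF.IsInvertible L)
    (hL' : PicF.IsInvertible L') {n n' : ℕ} (s : Coh.structureModule X ⟶ CohB1.tensorPow L (n + 1))
    (s' : Coh.structureModule X ⟶ CohB1.tensorPow L' (n' + 1)) :
    ∃ (m : ℕ) (w : Coh.structureModule X ⟶ CohB1.tensorPow (CohB1.tensorMod L L') (m + 1)),
      CohB1.genLocus _ w = CohB1.genLocus _ s ⊓ CohB1.genLocus _ s' := by
  let a := powSec s (n' + 1)
  let b := castSec (Nat.mul_comm (n' + 1) (n + 1)) (powSec s' (n + 1))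
  have ha : CohB1.genLocus _ a = CohB1.genLocus _ s := genLocus_powSec hL s n'
  have hb : CohB1.genLocus _ b = CohB1.genLocus _ s' := by
    rw [genLocus_castSec, genLocus_powSec hL']
  have hpos : 0 < (n + 1) * (n' + 1) := Nat.mul_pos (Nat.succ_pos n) (Nat.succ_pos n')
  have heq : (n + 1) * (n' + 1) = ((n + 1) * (n' + 1) - 1) + 1 := (Nat.sub_add_cancel hpos).symm
  refine ⟨(n + 1) * (n' + 1) - 1, castSec heq (SecTwist.tmulHom a b ≫
    (Groth.Agent.Lib.Lead.ModTensor.tensorPowTensor L L' ((n + 1) * (n' + 1))).inv), ?_⟩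
  rw [genLocus_castSec]
  have := genLocus_comp_iso (SecTwist.tmulHom a b)
    (Groth.Agent.Lib.Lead.ModTensor.tensorPowTensor L L' ((n + 1) * (n' + 1))).symm
  rw [Iso.symm_hom] at this
  rw [this, genLocus_tmulHom (isInvertible_tensorPow hL _) (isInvertible_tensorPow hL' _), ha, hb]

/-- EGA II 4.5.6 (ii): `L` ample, `L'` invertible with the `X_{s'}` covering `X` ⇒ `L ⊗ L'` ample. -/
theorem isAmple_tensorMod_of_cover {L L' : X.Modules} (hL : CohB1.IsAmple L)
    (hL' : PicF.IsInvertible L')
    (h : ∀ x : X, ∃ (n : ℕ) (s' : Coh.structureModule X ⟶ CohB1.tensorPow L' (n + 1)),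
      x ∈ CohB1.genLocus _ s') :
    CohB1.IsAmple (CohB1.tensorMod L L') := by
  refine ⟨isInvertible_tensorMod hL.1 hL', hL.2.1, fun x => ?_⟩
  obtain ⟨n, s, hxs, haff⟩ := hL.2.2 x
  obtain ⟨n', s', hxs'⟩ := h x
  obtain ⟨m, w, hw⟩ := exists_sec_tensor hL.1 hL' s s'
  refine ⟨m, w, ?_, ?_⟩
  · rw [hw]; exact ⟨hxs, hxs'⟩
  · rw [hw]; exact isAffineOpen_inf_genLocus (isInvertible_tensorPow hL' _) s' haff

/-- The tensor product of two ample invertible modules is ample. -/
theorem isAmple_tensorMod {L L' : X.Modules} (hL : CohB1.IsAmple L) (hL' : CohB1.IsAmple L') :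
    CohB1.IsAmple (CohB1.tensorMod L L') :=
  isAmple_tensorMod_of_cover hL hL'.1 fun x => by
    obtain ⟨n, s, hxs, -⟩ := hL'.2.2 x
    exact ⟨n, s, hxs⟩

/-- EGA II 5.1.? : if `L` and an inverse `L'` of `L` are both ample, then `X` is quasi-affine. -/
theorem isQuasiAffine_of_isAmple_of_isInverseOf [CompactSpace X] {L L' : X.Modules}
    (hinv : ClSub.IsInverseOf L L') (hL : CohB1.IsAmple L) (hL' : CohB1.IsAmple L') :
    X.IsQuasiAffine :=
  isQuasiAffine_of_hasAffineCover_structureModule
    (isAmple_of_iso hinv.some (isAmple_tensorMod hL hL')).2.2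

/-- The tensor product of two relatively ample modules is relatively ample (EGA II 4.6.13 (ii)). -/
theorem isRelAmple_tensorMod {Y : Scheme.{u}} (f : X ⟶ Y) {L L' : X.Modules}
    (hL : RelAmple.IsRelAmple f L) (hL' : RelAmple.IsRelAmple f L') :
    RelAmple.IsRelAmple f (CohB1.tensorMod L L') :=
  ⟨hL.1, fun V => isAmple_of_iso (restrictTensorIso (f ⁻¹ᵁ V.1).ι L L').symm
    (isAmple_tensorMod (hL.2 V) (hL'.2 V))⟩

end Groth.Agent.Lib.helper12.AmpleQAff
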