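import Mathlib

/-
helper12: Chow's lemma, part 1 — scheme-theoretic density.

A morphism `g : A ⟶ B` with `g.ker = ⊥` is "scheme-theoretically dominant":
* `isIso_of_factor`: a closed immersion into `B` through which `g` factors is an isomorphism;
* `exists_factor`: if `g ≫ a` factors through a closed immersion `c`, so does `a`;
* `ext_of_ker_eq_bot`: two morphisms `B ⟶ T` over `S` with `T` separated over `S` which agree after `g` are equal;
* `ker_toImage`: for `ψ` quasi-compact, `ψ.toImage.ker = ⊥`;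
* `ker_lift_opens`: `g.ker = ⊥` passes to the corestriction of `g` to an open containing its range.
-/

set_option autoImplicit false
universe u

open CategoryTheory CategoryTheory.Limits AlgebraicGeometry Opposite TopologicalSpace

namespace Groth.Agent.Lib.helper12.Chow1

theorem isIso_of_factor {A B Z : Scheme.{u}} (g : A ⟶ B) (hg : g.ker = ⊥) (c : Z ⟶ B)
    [IsClosedImmersion c] (g' : A ⟶ Z) (h : g' ≫ c = g) : IsIso c := by
  rw [IsClosedImmersion.isIso_iff_ker_eq_bot]
  have := g'.le_ker_comp c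
  rw [h, hg] at this
  exact le_bot_iff.mp this

theorem exists_factor {A B T Z : Scheme.{u}} (g : A ⟶ B) (hg : g.ker = ⊥) (c : Z ⟶ T)
    [IsClosedImmersion c] (a : B ⟶ T) (a' : A ⟶ Z) (h : a' ≫ c = g ≫ a) :
    ∃ b : B ⟶ Z, b ≫ c = a := by
  have : IsIso (pullback.fst a c) :=
    isIso_of_factor g hg _ (pullback.lift g a' h.symm) (pullback.lift_fst _ _ _)
  exact ⟨inv (pullback.fst a c) ≫ pullback.snd a c, by
    rw [Category.assoc, ← pullback.condition, IsIso.inv_hom_id_assoc]⟩

theorem ext_of_ker_eq_bot {A B T S : Scheme.{u}} (g : A ⟶ B) (hg : g.ker = ⊥) {a b : B ⟶ T}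
    (t : T ⟶ S) [IsSeparated t] (hab : a ≫ t = b ≫ t) (h : g ≫ a = g ≫ b) : a = b := by
  let X' : Over S := Over.mk (a ≫ t)
  let Y' : Over S := Over.mk t
  let U' : Over S := Over.mk (g ≫ a ≫ t)
  let f' : X' ⟶ Y' := Over.homMk a
  let g' : X' ⟶ Y' := Over.homMk b hab.symm
  let ι' : U' ⟶ X' := Over.homMk g
  have : IsSeparated Y'.hom := ‹_›
  have hι : ι' ≫ f' = ι' ≫ g' := by ext1; exact h
  have : IsIso (equalizer.ι f' g').left :=
    isIso_of_factor g hg _ (equalizer.lift ι' hι).left (by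
      rw [← Over.comp_left, equalizer.lift_ι]; rfl)
  rw [← cancel_epi (equalizer.ι f' g').left]
  exact congr($(equalizer.condition f' g').left)

theorem ker_toImage {A Y : Scheme.{u}} (ψ : A ⟶ Y) [QuasiCompact ψ] : ψ.toImage.ker = ⊥ := by
  set t := ψ.toImage with ht
  let z := t.ker.subschemeι
  have hz : t.toImage ≫ z = t := t.toImage_imageι
  let c := z ≫ ψ.imageι
  have hc : t.toImage ≫ c = ψ := by rw [← Category.assoc, hz]; exact ψ.toImage_imageι
  have hker : c.ker ≤ ψ.imageι.ker := by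
    have := t.toImage.le_ker_comp c
    rw [hc] at this
    rwa [Scheme.IdealSheafData.ker_subschemeι]
  let l := IsClosedImmersion.lift c ψ.imageι hker
  have hl : l ≫ z = 𝟙 _ := by
    rw [← cancel_mono ψ.imageι, Category.assoc, Category.id_comp]
    exact IsClosedImmersion.lift_fac c ψ.imageι hker
  have : IsIso z := by
    refine ⟨l, ?_, hl⟩
    rw [← cancel_mono z, Category.assoc, hl, Category.comp_id, Category.id_comp]
  have h1 : z.ker = ⊥ := z.ker_eq_bot_of_isIso
  rwa [Scheme.IdealSheafData.ker_subschemeι] at h1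

theorem ker_lift_opens {A B : Scheme.{u}} (g : A ⟶ B) [QuasiCompact g] (hg : g.ker = ⊥)
    (W : B.Opens) (gW : A ⟶ W) (h : gW ≫ W.ι = g) : gW.ker = ⊥ := by
  have htop : g ⁻¹ᵁ W = ⊤ := by
    rw [eq_top_iff]
    intro x _
    change g x ∈ W
    rw [← h]
    exact (gW x).2
  let e : A ⟶ (g ⁻¹ᵁ W : A.Opens) := IsOpenImmersion.lift (g ⁻¹ᵁ W).ι (𝟙 A) (by
    rw [Scheme.Opens.range_ι, htop]; exact Set.subset_univ _)
  have he : e ≫ (g ⁻¹ᵁ W).ι = 𝟙 A := IsOpenImmersion.lift_fac _ _ _
  have : IsIso e := by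
    refine ⟨(g ⁻¹ᵁ W).ι, he, ?_⟩
    rw [← cancel_mono (g ⁻¹ᵁ W).ι, Category.assoc, he, Category.comp_id, Category.id_comp]
  have h2 : gW = e ≫ (g ∣_ W) := by
    rw [← cancel_mono W.ι, h, Category.assoc, morphismRestrict_ι, ← Category.assoc, he,
      Category.id_comp]
  rw [h2, Scheme.Hom.ker_comp_of_isIso]
  ext V : 2
  rw [Scheme.ker_morphismRestrict_ideal, hg]
  rfl

end Groth.Agent.Lib.helper12.Chow1
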