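import Mathlib
import Groth.Agent.Lib.Helper12.Chow1

/-
helper12: Chow's lemma, part 2 — the closure construction.

Setting: `f : X ⟶ S` separated, `q : P ⟶ S` proper, `U` an open of `X` and `g : U ⟶ P` over `S`.
`ψ = (U.ι, g) : U ⟶ X ×_S P`, `X' = ` scheme-theoretic image of `ψ`, `π : X' ⟶ X`, `ρ : X' ⟶ P`, `j₀ : U ⟶ X'`.
-/

set_option autoImplicit false
universe u

open CategoryTheory CategoryTheory.Limits AlgebraicGeometry Opposite TopologicalSpace

namespace Groth.Agent.Lib.helper12.Chow2

variable {X S P : Scheme.{u}} (f : X ⟶ S) (q : P ⟶ S) (U : X.Opens) (g : (U : Scheme.{u}) ⟶ P)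
  (hg : U.ι ≫ f = g ≫ q)

/-- `ψ = (incl, g) : U ⟶ X ×_S P`. -/
noncomputable def psi : (U : Scheme.{u}) ⟶ pullback f q := pullback.lift U.ι g hg

@[reassoc (attr := simp)]
theorem psi_fst : psi f q U g hg ≫ pullback.fst f q = U.ι := pullback.lift_fst _ _ _

@[reassoc (attr := simp)]
theorem psi_snd : psi f q U g hg ≫ pullback.snd f q = g := pullback.lift_snd _ _ _

instance : IsImmersion (psi f q U g hg) := by
  have : IsImmersion (psi f q U g hg ≫ pullback.fst f q) := by rw [psi_fst]; infer_instance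
  exact IsImmersion.of_comp _ (pullback.fst f q)

/-- The closure `X'`. -/
noncomputable abbrev X' : Scheme.{u} := (psi f q U g hg).image

noncomputable abbrev ι' : X' f q U g hg ⟶ pullback f q := (psi f q U g hg).imageι

noncomputable abbrev j₀ : (U : Scheme.{u}) ⟶ X' f q U g hg := (psi f q U g hg).toImage

noncomputable def π : X' f q U g hg ⟶ X := ι' f q U g hg ≫ pullback.fst f q

noncomputable def ρ : X' f q U g hg ⟶ P := ι' f q U g hg ≫ pullback.snd f q

theorem π_f : π f q U g hg ≫ f = ρ f q U g hg ≫ q := by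
  unfold π ρ
  rw [Category.assoc, Category.assoc, pullback.condition]

@[reassoc]
theorem j₀_π : j₀ f q U g hg ≫ π f q U g hg = U.ι := by
  unfold π
  rw [← Category.assoc, Scheme.Hom.toImage_imageι, psi_fst]

@[reassoc]
theorem j₀_ρ : j₀ f q U g hg ≫ ρ f q U g hg = g := by
  unfold ρ
  rw [← Category.assoc, Scheme.Hom.toImage_imageι, psi_snd]

instance [IsProper q] : IsProper (π f q U g hg) := by
  unfold π
  infer_instance

instance [QuasiCompact U.ι] [IsSeparated q] : QuasiCompact (psi f q U g hg) := by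
  have : QuasiCompact (psi f q U g hg ≫ pullback.fst f q) := by rw [psi_fst]; infer_instance
  exact QuasiCompact.of_comp _ (pullback.fst f q)

theorem ker_j₀ [QuasiCompact U.ι] [IsSeparated q] : (j₀ f q U g hg).ker = ⊥ :=
  Chow1.ker_toImage _

/-- The open `W = U ×_S P` of `X ×_S P`. -/
noncomputable abbrev W : (pullback f q).Opens := pullback.fst f q ⁻¹ᵁ U

theorem range_psi_le : Set.range (psi f q U g hg) ⊆ SetLike.coe (W f q U) := by
  rintro _ ⟨u, rfl⟩
  change pullback.fst f q (psi f q U g hg u) ∈ U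
  rw [← Scheme.Hom.comp_apply, psi_fst]
  exact u.2

/-- `ψ' : U ⟶ U ×_S P`, a closed immersion. -/
noncomputable def psi' : (U : Scheme.{u}) ⟶ (W f q U : Scheme.{u}) :=
  IsOpenImmersion.lift (W f q U).ι (psi f q U g hg) (by
    rw [Scheme.Opens.range_ι]; exact range_psi_le f q U g hg)

@[reassoc (attr := simp)]
theorem psi'_ι : psi' f q U g hg ≫ (W f q U).ι = psi f q U g hg := IsOpenImmersion.lift_fac _ _ _

theorem psi'_restrict : psi' f q U g hg ≫ (pullback.fst f q ∣_ U) = 𝟙 _ := by
  rw [← cancel_mono U.ι, Category.assoc, morphismRestrict_ι, psi'_ι_assoc, psi_fst,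
    Category.id_comp]

instance [IsSeparated q] : IsClosedImmersion (psi' f q U g hg) := by
  have : IsClosedImmersion (psi' f q U g hg ≫ (pullback.fst f q ∣_ U)) := by
    rw [psi'_restrict]; infer_instance
  exact IsClosedImmersion.of_comp _ (pullback.fst f q ∣_ U)

theorem preimage_eq_opensRange [QuasiCompact U.ι] [IsSeparated q] :
    π f q U g hg ⁻¹ᵁ U = (j₀ f q U g hg).opensRange := by
  apply le_antisymm
  · intro x' hx'
    have hx'U : π f q U g hg x' ∈ U := hx'
    let y := ι' f q U g hg x'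
    have hyW : y ∈ W f q U := hx'U
    -- `y` is in the closure of the range of `ψ`
    have hycl : y ∈ closure (Set.range (psi f q U g hg)) := by
      have hd : x' ∈ closure (Set.range (j₀ f q U g hg)) := by
        rw [(j₀ f q U g hg).denseRange.closure_eq]; trivial
      have h1 := image_closure_subset_closure_image (ι' f q U g hg).continuous
        (Set.mem_image_of_mem _ hd)
      have h2 : (ι' f q U g hg) '' Set.range (j₀ f q U g hg) = Set.range (psi f q U g hg) := by
        rw [← Set.range_comp]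
        congr 1
      rwa [h2] at h1
    let w : (W f q U : Scheme.{u}) := ⟨y, hyW⟩
    have hw : (W f q U).ι w = y := rfl
    have hwcl : w ∈ closure (Set.range (psi' f q U g hg)) := by
      rw [(W f q U).ι.isOpenEmbedding.isInducing.closure_eq_preimage_closure_image]
      rw [Set.mem_preimage]
      have h3 : (W f q U).ι '' Set.range (psi' f q U g hg) = Set.range (psi f q U g hg) := by
        rw [← Set.range_comp]
        congr 1
        ext u
        change (psi' f q U g hg ≫ (W f q U).ι) u = _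
        rw [psi'_ι]
      rw [h3, hw]
      exact hycl
    rw [(psi' f q U g hg).isClosedEmbedding.isClosed_range.closure_eq] at hwcl
    obtain ⟨u, hu⟩ := hwcl
    refine ⟨u, ?_⟩
    apply (ι' f q U g hg).isEmbedding.injective
    change (j₀ f q U g hg ≫ ι' f q U g hg) u = y
    rw [Scheme.Hom.toImage_imageι, ← hw, ← hu]
    change _ = (psi' f q U g hg ≫ (W f q U).ι) u
    rw [psi'_ι]
  · rintro _ ⟨u, rfl⟩
    change π f q U g hg (j₀ f q U g hg u) ∈ U
    rw [← Scheme.Hom.comp_apply, j₀_π]
    exact u.2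

theorem isIso_π_restrict [QuasiCompact U.ι] [IsSeparated q] : IsIso (π f q U g hg ∣_ U) := by
  have hV := preimage_eq_opensRange f q U g hg
  have hr : Set.range (j₀ f q U g hg) ⊆ SetLike.coe (π f q U g hg ⁻¹ᵁ U) := by
    rw [hV]; rfl
  let j₀' : (U : Scheme.{u}) ⟶ (π f q U g hg ⁻¹ᵁ U : Scheme.{u}) :=
    IsOpenImmersion.lift (π f q U g hg ⁻¹ᵁ U).ι (j₀ f q U g hg) (by
      rw [Scheme.Opens.range_ι]; exact hr)
  have h1 : j₀' ≫ (π f q U g hg ⁻¹ᵁ U).ι = j₀ f q U g hg := IsOpenImmersion.lift_fac _ _ _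
  have : IsOpenImmersion j₀' := by
    have : IsOpenImmersion (j₀' ≫ (π f q U g hg ⁻¹ᵁ U).ι) := by rw [h1]; infer_instance
    exact IsOpenImmersion.of_comp j₀' (π f q U g hg ⁻¹ᵁ U).ι
  have hs : Surjective j₀' := by
    refine ⟨fun v => ?_⟩
    have hv : v.1 ∈ (j₀ f q U g hg).opensRange := by rw [← hV]; exact v.2
    obtain ⟨u, hu⟩ := hv
    refine ⟨u, ?_⟩
    apply (π f q U g hg ⁻¹ᵁ U).ι.isOpenEmbedding.injective
    change (j₀' ≫ (π f q U g hg ⁻¹ᵁ U).ι) u = v.1
    rw [h1]
    exact hu
  have : IsIso j₀' := (isIso_iff_isOpenImmersion_and_surjective j₀').mpr ⟨inferInstance, hs⟩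
  have h2 : j₀' ≫ (π f q U g hg ∣_ U) = 𝟙 _ := by
    rw [← cancel_mono U.ι, Category.assoc, morphismRestrict_ι, ← Category.assoc, h1, j₀_π,
      Category.id_comp]
  have : IsIso (j₀' ≫ (π f q U g hg ∣_ U)) := by rw [h2]; infer_instance
  exact IsIso.of_isIso_comp_left j₀' _

theorem surjective_π [QuasiCompact U.ι] [IsProper q] (hU : Dense (U : Set X)) :
    Surjective (π f q U g hg) := by
  refine ⟨fun x => ?_⟩
  have hcl : IsClosed (Set.range (π f q U g hg)) := (π f q U g hg).isClosedMap.isClosed_range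
  have hsub : (U : Set X) ⊆ Set.range (π f q U g hg) := by
    intro x hx
    refine ⟨j₀ f q U g hg ⟨x, hx⟩, ?_⟩
    rw [← Scheme.Hom.comp_apply, j₀_π]
    rfl
  have := hU.closure_eq ▸ closure_minimal hsub hcl
  exact this (Set.mem_univ x)

theorem irreducibleSpace_X' [QuasiCompact U.ι] [IsSeparated q] [IrreducibleSpace (U : Scheme.{u})] :
    IrreducibleSpace (X' f q U g hg) := by
  have h1 : IsIrreducible (Set.range (j₀ f q U g hg)) := by
    rw [← Set.image_univ]
    exact (IrreducibleSpace.isIrreducible_univ _).image _ (j₀ f q U g hg).continuous.continuousOn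
  have h2 := h1.closure
  rw [(j₀ f q U g hg).denseRange.closure_eq] at h2
  exact irreducibleSpace_def _ |>.mpr h2

end Groth.Agent.Lib.helper12.Chow2
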