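import Mathlib
import Groth.Agent.Lib.Helper12.Chow2

/-
helper12: Chow's lemma, part 3 — `ρ : X' ⟶ P` is an immersion.
-/

set_option autoImplicit false
universe u

open CategoryTheory CategoryTheory.Limits AlgebraicGeometry Opposite TopologicalSpace

namespace Groth.Agent.Lib.helper12.Chow3

theorem isImmersion_of_opens_eq {X' P : Scheme.{u}} (ρ : X' ⟶ P) (V V' : X'.Opens) (e : V = V')
    (h : IsImmersion (V.ι ≫ ρ)) : IsImmersion (V'.ι ≫ ρ) := by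
  subst e; exact h

/-- A morphism `ρ : X' ⟶ P` is an immersion as soon as there are opens `O i` of `P` whose preimages cover `X'` and
such that each `ρ⁻¹(O i) ⟶ P` is an immersion. -/
theorem isImmersion_of_preimage_cover {X' P : Scheme.{u}} (ρ : X' ⟶ P) {ι : Type*} (O : ι → P.Opens)
    (hcov : ∀ x : X', ∃ i, ρ x ∈ O i)
    (h : ∀ i, IsImmersion ((ρ ⁻¹ᵁ O i).ι ≫ ρ)) : IsImmersion ρ := by
  let Ω : P.Opens := ⨆ i, O i
  have hr : Set.range ρ ⊆ SetLike.coe Ω := by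
    rintro _ ⟨x, rfl⟩
    obtain ⟨i, hi⟩ := hcov x
    exact Opens.mem_iSup.mpr ⟨i, hi⟩
  let ρΩ : X' ⟶ Ω := IsOpenImmersion.lift Ω.ι ρ (by rw [Scheme.Opens.range_ι]; exact hr)
  have hρΩ : ρΩ ≫ Ω.ι = ρ := IsOpenImmersion.lift_fac _ _ _
  suffices IsImmersion ρΩ by rw [← hρΩ]; infer_instance
  refine IsZariskiLocalAtTarget.of_iSup_eq_top (P := @IsImmersion) (fun i => Ω.ι ⁻¹ᵁ O i) ?_
    (fun i => ?_)
  · rw [eq_top_iff]
    intro y _
    obtain ⟨i, hi⟩ := Opens.mem_iSup.mp y.2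
    exact Opens.mem_iSup.mpr ⟨i, hi⟩
  · have e : ρΩ ⁻¹ᵁ (Ω.ι ⁻¹ᵁ O i) = ρ ⁻¹ᵁ O i := by rw [← hρΩ]; rfl
    have h1 : IsImmersion ((ρΩ ⁻¹ᵁ (Ω.ι ⁻¹ᵁ O i)).ι ≫ ρ) :=
      isImmersion_of_opens_eq ρ _ _ e.symm (h i)
    have h2 : (ρΩ ∣_ (Ω.ι ⁻¹ᵁ O i)) ≫ ((Ω.ι ⁻¹ᵁ O i).ι ≫ Ω.ι) =
        (ρΩ ⁻¹ᵁ (Ω.ι ⁻¹ᵁ O i)).ι ≫ ρ := by
      rw [← Category.assoc, morphismRestrict_ι, Category.assoc, hρΩ]
    have : IsImmersion ((ρΩ ∣_ (Ω.ι ⁻¹ᵁ O i)) ≫ ((Ω.ι ⁻¹ᵁ O i).ι ≫ Ω.ι)) := by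
      rw [h2]; exact h1
    exact IsImmersion.of_comp _ ((Ω.ι ⁻¹ᵁ O i).ι ≫ Ω.ι)

section Piece

open Groth.Agent.Lib.helper12.Chow2

variable {X S P : Scheme.{u}} (f : X ⟶ S) [IsSeparated f] (q : P ⟶ S) [IsSeparated q]
  (U : X.Opens) [QuasiCompact U.ι] (g : (U : Scheme.{u}) ⟶ P) (hg : U.ι ≫ f = g ≫ q)

/-- The lift of `j₀` to an open of `X'` containing its range. -/
noncomputable def j₀V (V : (X' f q U g hg).Opens) (hV : (j₀ f q U g hg).opensRange ≤ V) :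
    (U : Scheme.{u}) ⟶ (V : Scheme.{u}) :=
  IsOpenImmersion.lift V.ι (j₀ f q U g hg) (by
    rw [Scheme.Opens.range_ι]; exact hV)

@[reassoc (attr := simp)]
theorem j₀V_ι (V : (X' f q U g hg).Opens) (hV : (j₀ f q U g hg).opensRange ≤ V) :
    j₀V f q U g hg V hV ≫ V.ι = j₀ f q U g hg := IsOpenImmersion.lift_fac _ _ _

theorem ker_j₀V (V : (X' f q U g hg).Opens) (hV : (j₀ f q U g hg).opensRange ≤ V) :
    (j₀V f q U g hg V hV).ker = ⊥ :=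
  Chow1.ker_lift_opens (j₀ f q U g hg) (ker_j₀ f q U g hg) V _ (j₀V_ι f q U g hg V hV)

variable (Ui : X.Opens) (hU : U ≤ Ui) {Pi : Scheme.{u}} (qi : Pi ⟶ S) [IsSeparated qi]
  (pi : P ⟶ Pi) (hpi : pi ≫ qi = q)
  (φ : (Ui : Scheme.{u}) ⟶ Pi) (hφ : φ ≫ qi = Ui.ι ≫ f)
  (hgφ : g ≫ pi = X.homOfLE hU ≫ φ)

include hU in
theorem opensRange_le_preimage : (j₀ f q U g hg).opensRange ≤ π f q U g hg ⁻¹ᵁ Ui := by
  rw [← preimage_eq_opensRange]
  exact fun x hx => hU hx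

include hpi hφ hgφ in
/-- On `V_i = π⁻¹(U_i)`, the `i`-th coordinate of `ρ` is `φ_i ∘ π`. -/
theorem restrict_comp_φ :
    (π f q U g hg ∣_ Ui) ≫ φ = (π f q U g hg ⁻¹ᵁ Ui).ι ≫ ρ f q U g hg ≫ pi := by
  have hV := opensRange_le_preimage f q U g hg Ui hU
  refine Chow1.ext_of_ker_eq_bot (j₀V f q U g hg _ hV) (ker_j₀V f q U g hg _ hV) qi ?_ ?_
  · rw [Category.assoc, hφ, ← Category.assoc, morphismRestrict_ι, Category.assoc, Category.assoc,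
      Category.assoc, hpi, π_f]
  · have h1 : j₀V f q U g hg _ hV ≫ (π f q U g hg ∣_ Ui) = X.homOfLE hU := by
      rw [← cancel_mono Ui.ι, Category.assoc, morphismRestrict_ι, j₀V_ι_assoc, j₀_π]
      exact (X.homOfLE_ι hU).symm
    rw [j₀V_ι_assoc, j₀_ρ_assoc, hgφ, ← Category.assoc, h1]

include hU hpi hφ hgφ in
/-- `ρ` restricted to `V_i = π⁻¹(U_i)` is an immersion. -/
theorem isImmersion_restrict_ρ [IsImmersion φ] :
    IsImmersion ((π f q U g hg ⁻¹ᵁ Ui).ι ≫ ρ f q U g hg) := by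
  have hc := restrict_comp_φ f q U g hg Ui hU qi pi hpi φ hφ hgφ
  -- the graph `Γ_i = U_i ×_{P_i} P`
  let γ : (π f q U g hg ⁻¹ᵁ Ui : Scheme.{u}) ⟶ pullback φ pi :=
    pullback.lift (π f q U g hg ∣_ Ui) ((π f q U g hg ⁻¹ᵁ Ui).ι ≫ ρ f q U g hg)
      (by rw [hc, Category.assoc])
  have hγ : γ ≫ pullback.snd φ pi = (π f q U g hg ⁻¹ᵁ Ui).ι ≫ ρ f q U g hg :=
    pullback.lift_snd _ _ _
  have hcond : (pullback.fst φ pi ≫ Ui.ι) ≫ f = pullback.snd φ pi ≫ q := by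
    rw [Category.assoc, ← hφ, ← hpi, pullback.condition_assoc]
  let h : pullback φ pi ⟶ pullback f q := pullback.lift (pullback.fst φ pi ≫ Ui.ι)
    (pullback.snd φ pi) hcond
  have hγh : γ ≫ h = (π f q U g hg ⁻¹ᵁ Ui).ι ≫ ι' f q U g hg := by
    apply pullback.hom_ext
    · rw [Category.assoc, pullback.lift_fst, pullback.lift_fst_assoc, morphismRestrict_ι,
        Category.assoc]
      rfl
    · rw [Category.assoc, pullback.lift_snd, hγ, Category.assoc]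
      rfl
  have : IsImmersion (γ ≫ h) := by rw [hγh]; infer_instance
  have : IsImmersion γ := IsImmersion.of_comp γ h
  rw [← hγ]
  infer_instance

include hU hpi hφ hgφ in
/-- `V_i = π⁻¹(U_i)` is the preimage under `ρ` of an open of `P`. -/
theorem preimage_eq_preimage_coborder [IsImmersion φ] :
    π f q U g hg ⁻¹ᵁ Ui = ρ f q U g hg ⁻¹ᵁ (pi ⁻¹ᵁ φ.coborderRange) := by
  have hc := restrict_comp_φ f q U g hg Ui hU qi pi hpi φ hφ hgφ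
  have hφmem : ∀ y, φ y ∈ φ.coborderRange := by
    intro y
    have h1 : φ y = (φ.liftCoborder ≫ φ.coborderRange.ι) y := by rw [Scheme.Hom.liftCoborder_ι]
    rw [h1]
    exact (φ.liftCoborder y).2
  have hle : π f q U g hg ⁻¹ᵁ Ui ≤ ρ f q U g hg ⁻¹ᵁ (pi ⁻¹ᵁ φ.coborderRange) := by
    intro x' hx'
    let v : (π f q U g hg ⁻¹ᵁ Ui : Scheme.{u}) := ⟨x', hx'⟩
    have h2 : φ ((π f q U g hg ∣_ Ui) v) = pi (ρ f q U g hg x') := by
      change ((π f q U g hg ∣_ Ui) ≫ φ) v = _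
      rw [hc]
      rfl
    change pi (ρ f q U g hg x') ∈ φ.coborderRange
    rw [← h2]
    exact hφmem _
  refine le_antisymm hle ?_
  -- the other inclusion
  let w : (X' f q U g hg).Opens := ρ f q U g hg ⁻¹ᵁ (pi ⁻¹ᵁ φ.coborderRange)
  have hw : (j₀ f q U g hg).opensRange ≤ w :=
    (opensRange_le_preimage f q U g hg Ui hU).trans hle
  let ρw : (w : Scheme.{u}) ⟶ (φ.coborderRange : Scheme.{u}) :=
    (ρ f q U g hg ≫ pi) ∣_ φ.coborderRange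
  have hρw : ρw ≫ φ.coborderRange.ι = w.ι ≫ ρ f q U g hg ≫ pi := morphismRestrict_ι _ _
  have hfac : X.homOfLE hU ≫ φ.liftCoborder = j₀V f q U g hg w hw ≫ ρw := by
    rw [← cancel_mono φ.coborderRange.ι, Category.assoc, Scheme.Hom.liftCoborder_ι, Category.assoc,
      hρw, j₀V_ι_assoc, j₀_ρ_assoc, hgφ]
  obtain ⟨σ, hσ⟩ := Chow1.exists_factor (j₀V f q U g hg w hw) (ker_j₀V f q U g hg w hw)
    φ.liftCoborder ρw (X.homOfLE hU) hfac
  have hσφ : σ ≫ φ = w.ι ≫ ρ f q U g hg ≫ pi := by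
    rw [← Scheme.Hom.liftCoborder_ι φ, ← Category.assoc, hσ, hρw]
  have hσπ : σ ≫ Ui.ι = w.ι ≫ π f q U g hg := by
    refine Chow1.ext_of_ker_eq_bot (j₀V f q U g hg w hw) (ker_j₀V f q U g hg w hw) f ?_ ?_
    · rw [Category.assoc, ← hφ, ← Category.assoc, hσφ, Category.assoc, Category.assoc,
        Category.assoc, hpi, π_f]
    · have h3 : j₀V f q U g hg w hw ≫ σ = X.homOfLE hU := by
        rw [← cancel_mono φ.liftCoborder, Category.assoc, hσ, hfac]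
      rw [← Category.assoc, h3, j₀V_ι_assoc, j₀_π]
      exact X.homOfLE_ι hU
  intro x' hx'
  let v : (w : Scheme.{u}) := ⟨x', hx'⟩
  have h4 : π f q U g hg x' = Ui.ι (σ v) := by
    change (w.ι ≫ π f q U g hg) v = (σ ≫ Ui.ι) v
    rw [hσπ]
  change π f q U g hg x' ∈ Ui
  rw [h4]
  exact (σ v).2

end Piece

section Assemble

open Groth.Agent.Lib.helper12.Chow2

variable {X S P : Scheme.{u}} (f : X ⟶ S) [IsSeparated f] (q : P ⟶ S) [IsSeparated q]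
  (U : X.Opens) [QuasiCompact U.ι] (g : (U : Scheme.{u}) ⟶ P) (hg : U.ι ≫ f = g ≫ q)

/-- **Key step of Chow's lemma**: `ρ : X' ⟶ P` is an immersion, if `X` is covered by opens `U_i ⊇ U` with immersions
`φ_i : U_i ⟶ P_i` over `S` which on `U` are the components `p_i ∘ g` of `g`. -/
theorem isImmersion_ρ {ι : Type*} (Ui : ι → X.Opens) (hU : ∀ i, U ≤ Ui i) (hcov : ⨆ i, Ui i = ⊤)
    (Pi : ι → Scheme.{u}) (qi : ∀ i, Pi i ⟶ S) [∀ i, IsSeparated (qi i)] (pi : ∀ i, P ⟶ Pi i)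
    (hpi : ∀ i, pi i ≫ qi i = q)
    (φ : ∀ i, (Ui i : Scheme.{u}) ⟶ Pi i) [∀ i, IsImmersion (φ i)]
    (hφ : ∀ i, φ i ≫ qi i = (Ui i).ι ≫ f)
    (hgφ : ∀ i, g ≫ pi i = X.homOfLE (hU i) ≫ φ i) : IsImmersion (ρ f q U g hg) := by
  have he := fun i => preimage_eq_preimage_coborder f q U g hg (Ui i) (hU i) (qi i) (pi i) (hpi i)
    (φ i) (hφ i) (hgφ i)
  refine isImmersion_of_preimage_cover _ (fun i => pi i ⁻¹ᵁ (φ i).coborderRange) ?_ ?_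
  · intro x'
    have h1 : π f q U g hg x' ∈ ⨆ i, Ui i := by rw [hcov]; trivial
    obtain ⟨i, hi⟩ := Opens.mem_iSup.mp h1
    refine ⟨i, ?_⟩
    have h2 : x' ∈ π f q U g hg ⁻¹ᵁ Ui i := hi
    rw [he i] at h2
    exact h2
  · intro i
    exact isImmersion_of_opens_eq _ _ _ (he i)
      (isImmersion_restrict_ρ f q U g hg (Ui i) (hU i) (qi i) (pi i) (hpi i) (φ i) (hφ i) (hgφ i))

end Assemble

end Groth.Agent.Lib.helper12.Chow3
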