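import Mathlib
import Groth.Agent.Lib.Helper11.InvHom

/-
helper12: comparing two modules through generating sections (towards the universal property of P^n).

* `hom_ext_of_preserves`: maps out of `G(∐ f)` are determined on the summands when `G` preserves the coproduct.
* `isZeroOn_of_restrict_eq_zero`.
* `exists_iso_of_sections`: modules `N`, `L` with sections `ν l`, `σ l` (`l : Fin k`), `Sigma.desc ν` epi, a
  cover `U i` on which `ν i`, `σ i` are isomorphisms `O ≅ N`, `O ≅ L`, and equal ratios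
  `ν l ≫ (ν i)⁻¹ = σ l ≫ (σ i)⁻¹` on `U i` ⇒ `∃ τ : N ≅ L, ν l ≫ τ = σ l`. (Built as `Abelian.epiDesc`; no
  gluing of module morphisms.)
-/

set_option autoImplicit false
universe u

open CategoryTheory CategoryTheory.Limits AlgebraicGeometry Opposite TopologicalSpace

namespace Groth.Agent.Lib.helper12.ProjUP2

open Groth.Agent.Lib.helper11.IsoLocus Groth.Agent.Lib.helper11.InvHom
open Scheme.Modules

/-- Morphisms out of the image of a coproduct under a coproduct-preserving functor are determined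
by their restrictions to the summands. -/
theorem hom_ext_of_preserves {C D : Type*} [Category C] [Category D] {J : Type*} (f : J → C)
    [HasCoproduct f] (G : C ⥤ D) [HasCoproduct fun j => G.obj (f j)]
    [PreservesColimit (Discrete.functor f) G] {Q : D} {g₁ g₂ : G.obj (∐ f) ⟶ Q}
    (h : ∀ j, G.map (Sigma.ι f j) ≫ g₁ = G.map (Sigma.ι f j) ≫ g₂) : g₁ = g₂ := by
  rw [← cancel_epi (sigmaComparison G f)]
  refine Sigma.hom_ext _ _ fun j => ?_
  rw [ι_comp_sigmaComparison_assoc, ι_comp_sigmaComparison_assoc]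
  exact h j

variable {X : Scheme.{u}}

theorem isZeroOn_of_restrict_eq_zero {M N : X.Modules} {φ : M ⟶ N} {U : X.Opens}
    (h : (restrictFunctor U.ι).map φ = 0) : IsZeroOn φ U := by
  intro W hW
  have e : U.ι ''ᵁ (U.ι ⁻¹ᵁ W) = W := by
    rw [Scheme.Hom.image_preimage_eq_opensRange_inf, Scheme.Opens.opensRange_ι]
    exact inf_eq_right.mpr hW
  have h1 : ((restrictFunctor U.ι).map φ).app (U.ι ⁻¹ᵁ W) = 0 := by rw [h]; rfl
  have h2 : φ.app (U.ι ''ᵁ (U.ι ⁻¹ᵁ W)) = 0 := h1
  rw [e] at h2
  exact h2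

/-- Two invertible-like modules `N`, `L` with sections `ν l`, `σ l` (`l : Fin k`) such that the
`ν l` generate `N`, and on a cover `U i` the sections `ν i`, `σ i` are generators with the same
ratios `ν l / ν i = σ l / σ i`, are isomorphic by an isomorphism carrying `ν l` to `σ l`. -/
theorem exists_iso_of_sections {N L : X.Modules} {k : ℕ}
    (ν : Fin k → (Coh.structureModule X ⟶ N)) (σ : Fin k → (Coh.structureModule X ⟶ L))
    (hepi : Epi (Sigma.desc ν))
    (U : Fin k → X.Opens) (hU : ⨆ i, U i = ⊤)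
    (eν : ∀ i, (Coh.structureModule X).restrict (U i).ι ≅ N.restrict (U i).ι)
    (heν : ∀ i, (eν i).hom = (restrictFunctor (U i).ι).map (ν i))
    (eσ : ∀ i, (Coh.structureModule X).restrict (U i).ι ≅ L.restrict (U i).ι)
    (heσ : ∀ i, (eσ i).hom = (restrictFunctor (U i).ι).map (σ i))
    (hr : ∀ i l, (restrictFunctor (U i).ι).map (ν l) ≫ (eν i).inv =
      (restrictFunctor (U i).ι).map (σ l) ≫ (eσ i).inv) :
    ∃ τ : N ≅ L, ∀ l, ν l ≫ τ.hom = σ l := by
  let f : Fin k → X.Modules := fun _ => Coh.structureModule X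
  let νF : ∐ f ⟶ N := Sigma.desc ν
  let σF : ∐ f ⟶ L := Sigma.desc σ
  have : Epi νF := hepi
  -- local factorisation
  have h1 : ∀ i, (restrictFunctor (U i).ι).map σF =
      (restrictFunctor (U i).ι).map νF ≫ (eν i).inv ≫ (eσ i).hom := by
    intro i
    refine hom_ext_of_preserves f (restrictFunctor (U i).ι) fun l => ?_
    rw [← Functor.map_comp, ← Functor.map_comp_assoc]
    have e1 : Sigma.ι f l ≫ σF = σ l := Sigma.ι_desc σ l
    have e2 : Sigma.ι f l ≫ νF = ν l := Sigma.ι_desc ν l
    rw [e1, e2, ← Category.assoc, hr i l, Category.assoc, Iso.inv_hom_id, Category.comp_id]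
  -- the kernel of νF is killed by σF
  have hK : kernel.ι νF ≫ σF = 0 := by
    refine eq_zero_of_forall_exists_isZeroOn _ fun x => ?_
    have hx : x ∈ ⨆ i, U i := hU ▸ trivial
    obtain ⟨i, hxi⟩ := Opens.mem_iSup.mp hx
    refine ⟨U i, hxi, isZeroOn_of_restrict_eq_zero ?_⟩
    rw [Functor.map_comp, h1 i, ← Category.assoc, ← Functor.map_comp, kernel.condition,
      Functor.map_zero, zero_comp]
  let τ : N ⟶ L := Abelian.epiDesc νF σF hK
  have hτ : νF ≫ τ = σF := Abelian.comp_epiDesc νF σF hK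
  have hτl : ∀ l, ν l ≫ τ = σ l := by
    intro l
    have e1 : Sigma.ι f l ≫ σF = σ l := Sigma.ι_desc σ l
    have e2 : Sigma.ι f l ≫ νF = ν l := Sigma.ι_desc ν l
    rw [← e2, Category.assoc, hτ, e1]
  -- τ is an isomorphism locally
  have hiso : IsIso τ := by
    refine isIso_of_forall_restrict τ fun x => ?_
    have hx : x ∈ ⨆ i, U i := hU ▸ trivial
    obtain ⟨i, hxi⟩ := Opens.mem_iSup.mp hx
    refine ⟨U i, hxi, ?_⟩
    have h2 : (restrictFunctor (U i).ι).map τ = (eν i).inv ≫ (eσ i).hom := by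
      rw [← cancel_epi (eν i).hom, Iso.hom_inv_id_assoc, heν, heσ, ← Functor.map_comp, hτl i]
    rw [h2]
    infer_instance
  exact ⟨asIso τ, hτl⟩

end Groth.Agent.Lib.helper12.ProjUP2
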