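import Mathlib

/-
helper12: morphisms to `Proj 𝒜` from ring maps out of `A` (charts), and their gluing.

* `awayHom 𝒜 ψ f hu : A_{(f)} →+* B` (from `ψ : A →+* B` with `ψ f` a unit), `awayHom_mk`, `awayHom_ext`,
  `awayHom_comp`, `awayHom_comp_awayMap`.
* `chart ψ hf hd hu : T ⟶ Proj 𝒜` (`T → Spec Γ(T,O) → Spec A_{(f)} → Proj 𝒜`), `chart_congr`, `comp_chart`
  (naturality in `T`), `chart_mul` (change of denominator `f ↦ f g`), `chart_eq_of_twist` (rescaling `ψ` by a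
  unit with weights).
* `exists_glue_chart`: charts on an open cover which differ by unit twists on overlaps glue to `X ⟶ Proj 𝒜`.
-/

set_option autoImplicit false
universe u

open CategoryTheory CategoryTheory.Limits AlgebraicGeometry HomogeneousLocalization

namespace Groth.Agent.Lib.helper12.ProjUP1

variable {σ A : Type u} [CommRing A] [SetLike σ A] [AddSubgroupClass σ A]
variable (𝒜 : ℕ → σ) [GradedRing 𝒜]

/-- The ring map `A_{(f)} → B` induced by `ψ : A → B` with `ψ f` a unit. -/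
noncomputable def awayHom {B : Type u} [CommRing B] (ψ : A →+* B) (f : A) (hu : IsUnit (ψ f)) :
    Away 𝒜 f →+* B :=
  (Localization.awayLift ψ f hu).comp (algebraMap (Away 𝒜 f) (Localization.Away f))

theorem awayHom_mk {B : Type u} [CommRing B] (ψ : A →+* B) {f : A} (hu : IsUnit (ψ f)) {d : ℕ}
    (hf : f ∈ 𝒜 d) (n : ℕ) (a : A) (ha : a ∈ 𝒜 (n • d)) (v : B) (hv : ψ f * v = 1) :
    awayHom 𝒜 ψ f hu (Away.mk 𝒜 hf n a ha) = ψ a * v ^ n := by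
  change Localization.awayLift ψ f hu (Away.mk 𝒜 hf n a ha).val = _
  rw [Away.val_mk]
  exact Localization.awayLift_mk ψ f a v hv n

theorem awayHom_ext {B : Type u} [CommRing B] {f : A} {d : ℕ} (hf : f ∈ 𝒜 d)
    (θ θ' : Away 𝒜 f →+* B)
    (h : ∀ (n : ℕ) (a : A) (ha : a ∈ 𝒜 (n • d)), θ (Away.mk 𝒜 hf n a ha) = θ' (Away.mk 𝒜 hf n a ha)) :
    θ = θ' := by
  ext z
  obtain ⟨n, a, ha, rfl⟩ := Away.mk_surjective 𝒜 hf z
  exact h n a ha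

theorem awayHom_comp {B C : Type u} [CommRing B] [CommRing C] (ψ : A →+* B) (φ : B →+* C)
    {f : A} (hu : IsUnit (ψ f)) {d : ℕ} (hf : f ∈ 𝒜 d) :
    awayHom 𝒜 (φ.comp ψ) f (hu.map φ) = φ.comp (awayHom 𝒜 ψ f hu) := by
  obtain ⟨v, hv⟩ := isUnit_iff_exists_inv.mp hu
  refine awayHom_ext 𝒜 hf _ _ fun n a ha => ?_
  rw [awayHom_mk 𝒜 (φ.comp ψ) (hu.map φ) hf n a ha (φ v) (by
    rw [RingHom.comp_apply, ← map_mul, hv, map_one])]
  have h2 : (φ.comp (awayHom 𝒜 ψ f hu)) (Away.mk 𝒜 hf n a ha) =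
      φ (awayHom 𝒜 ψ f hu (Away.mk 𝒜 hf n a ha)) := rfl
  rw [h2, awayHom_mk 𝒜 ψ hu hf n a ha v hv, map_mul, map_pow]
  rfl

/-- Change of denominator: `A_{(f)} → A_{(fg)} → B` is `A_{(f)} → B`. -/
theorem awayHom_comp_awayMap {B : Type u} [CommRing B] (ψ : A →+* B) {f g x : A} {d e : ℕ}
    (hf : f ∈ 𝒜 d) (hg : g ∈ 𝒜 e) (hx : x = f * g) (huf : IsUnit (ψ f)) (hux : IsUnit (ψ x)) :
    (awayHom 𝒜 ψ x hux).comp (awayMap 𝒜 hg hx) = awayHom 𝒜 ψ f huf := by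
  obtain ⟨v, hv⟩ := isUnit_iff_exists_inv.mp huf
  obtain ⟨w, hw⟩ := isUnit_iff_exists_inv.mp hux
  refine awayHom_ext 𝒜 hf _ _ fun n a ha => ?_
  have h2 : ((awayHom 𝒜 ψ x hux).comp (awayMap 𝒜 hg hx)) (Away.mk 𝒜 hf n a ha) =
      awayHom 𝒜 ψ x hux (awayMap 𝒜 hg hx (Away.mk 𝒜 hf n a ha)) := rfl
  rw [h2, awayMap_mk, awayHom_mk 𝒜 ψ hux _ n _ _ w hw, awayHom_mk 𝒜 ψ huf hf n a ha v hv]
  have hgw : v = ψ g * w := by
    have h3 : ψ f * (ψ g * w) = 1 := by rw [← mul_assoc, ← map_mul, ← hx]; exact hw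
    calc v = v * (ψ f * (ψ g * w)) := by rw [h3, mul_one]
      _ = (ψ f * v) * (ψ g * w) := by ring
      _ = ψ g * w := by rw [hv, one_mul]
  rw [hgw, map_mul, map_pow]
  ring

variable {𝒜} in
/-- The morphism `T ⟶ Proj 𝒜` attached to `ψ : A → Γ(T, O)` and a homogeneous `f` of positive
degree with `ψ f` a unit: `T → Spec Γ(T,O) → Spec A_{(f)} = D₊(f) ⊆ Proj 𝒜`. -/
noncomputable def chart {T : Scheme.{u}} (ψ : A →+* Γ(T, ⊤)) {f : A} {d : ℕ} (hf : f ∈ 𝒜 d)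
    (hd : 0 < d) (hu : IsUnit (ψ f)) : T ⟶ Proj 𝒜 :=
  T.toSpecΓ ≫ Spec.map (CommRingCat.ofHom (awayHom 𝒜 ψ f hu)) ≫ Proj.awayι 𝒜 f hf hd

variable {𝒜}

theorem chart_congr {T : Scheme.{u}} {ψ ψ' : A →+* Γ(T, ⊤)} (hψ : ψ = ψ') {f f' : A} (hff : f = f')
    {d d' : ℕ} (hf : f ∈ 𝒜 d) (hf' : f' ∈ 𝒜 d') (hd : 0 < d) (hd' : 0 < d')
    (hu : IsUnit (ψ f)) (hu' : IsUnit (ψ' f')) (hdd : d = d') :
    chart ψ hf hd hu = chart ψ' hf' hd' hu' := by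
  subst hψ hff hdd
  rfl

theorem comp_chart {T T' : Scheme.{u}} (g : T' ⟶ T) (ψ : A →+* Γ(T, ⊤)) {f : A} {d : ℕ}
    (hf : f ∈ 𝒜 d) (hd : 0 < d) (hu : IsUnit (ψ f)) :
    g ≫ chart ψ hf hd hu = chart (g.appTop.hom.comp ψ) hf hd (hu.map g.appTop.hom) := by
  unfold chart
  rw [← Category.assoc, Scheme.toSpecΓ_naturality, Category.assoc, ← Spec.map_comp_assoc,
    awayHom_comp 𝒜 ψ g.appTop.hom hu hf]
  rfl

theorem chart_mul {T : Scheme.{u}} (ψ : A →+* Γ(T, ⊤)) {f g x : A} {d e : ℕ}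
    (hf : f ∈ 𝒜 d) (hd : 0 < d) (hg : g ∈ 𝒜 e) (hx : x = f * g)
    (huf : IsUnit (ψ f)) (hux : IsUnit (ψ x)) :
    chart ψ hf hd huf =
      chart ψ (hx ▸ SetLike.mul_mem_graded hf hg : x ∈ 𝒜 (d + e)) (hd.trans_le (d.le_add_right e))
        hux := by
  unfold chart
  have h1 : Spec.map (CommRingCat.ofHom (awayHom 𝒜 ψ f huf)) =
      Spec.map (CommRingCat.ofHom (awayHom 𝒜 ψ x hux)) ≫
        Spec.map (CommRingCat.ofHom (awayMap 𝒜 hg hx)) := by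
    rw [← Spec.map_comp, ← CommRingCat.ofHom_comp, awayHom_comp_awayMap 𝒜 ψ hf hg hx huf hux]
  rw [h1, Category.assoc, Proj.SpecMap_awayMap_awayι 𝒜 hf hd hg hx]

/-- Rescaling `ψ` by a unit (with weight the degree) does not change the chart morphism. -/
theorem chart_eq_of_twist {T : Scheme.{u}} (ψ ψ' : A →+* Γ(T, ⊤)) (c : Γ(T, ⊤))
    (hc : IsUnit c) (h : ∀ (k : ℕ) (a : A), a ∈ 𝒜 k → ψ' a = c ^ k * ψ a)
    {f : A} {d : ℕ} (hf : f ∈ 𝒜 d) (hd : 0 < d) (hu : IsUnit (ψ f)) (hu' : IsUnit (ψ' f)) :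
    chart ψ' hf hd hu' = chart ψ hf hd hu := by
  unfold chart
  suffices he : awayHom 𝒜 ψ' f hu' = awayHom 𝒜 ψ f hu by rw [he]
  obtain ⟨v, hv⟩ := isUnit_iff_exists_inv.mp hu
  obtain ⟨c', hc'⟩ := isUnit_iff_exists_inv.mp hc
  refine awayHom_ext 𝒜 hf _ _ fun n a ha => ?_
  have hv' : ψ' f * (c' ^ d * v) = 1 := by
    rw [h d f hf]
    calc c ^ d * ψ f * (c' ^ d * v) = (c * c') ^ d * (ψ f * v) := by ring
      _ = 1 := by rw [hc', hv, one_pow, one_mul]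
  rw [awayHom_mk 𝒜 ψ' hu' hf n a ha _ hv', awayHom_mk 𝒜 ψ hu hf n a ha v hv, h _ a ha]
  calc c ^ (n • d) * ψ a * (c' ^ d * v) ^ n = (c * c') ^ (n * d) * (ψ a * v ^ n) := by
        rw [smul_eq_mul]; ring
    _ = ψ a * v ^ n := by rw [hc', one_pow, one_mul]

/-- Gluing of chart morphisms over an open cover. -/
theorem exists_glue_chart {X : Scheme.{u}} {ι : Type*} (U : ι → X.Opens)
    (hU : TopologicalSpace.IsOpenCover U)
    (ψ : ∀ i, A →+* Γ((U i : Scheme.{u}), ⊤)) (f : ι → A) {d : ℕ} (hd : 0 < d)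
    (hf : ∀ i, f i ∈ 𝒜 d) (hu : ∀ i, IsUnit (ψ i (f i)))
    (hc : ∀ i j (k : ℕ) (a : A), a ∈ 𝒜 k →
      (X.homOfLE (inf_le_right : U i ⊓ U j ≤ U j)).appTop.hom (ψ j a) =
        ((X.homOfLE (inf_le_right : U i ⊓ U j ≤ U j)).appTop.hom (ψ j (f i))) ^ k *
          (X.homOfLE (inf_le_left : U i ⊓ U j ≤ U i)).appTop.hom (ψ i a)) :
    ∃ r : X ⟶ Proj 𝒜, ∀ i, (U i).ι ≫ r = chart (ψ i) (hf i) hd (hu i) := by
  let 𝒰 := X.openCoverOfIsOpenCover U hU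
  have compat : ∀ i j : ι, X.homOfLE (inf_le_left : U i ⊓ U j ≤ U i) ≫ chart (ψ i) (hf i) hd (hu i) =
      X.homOfLE (inf_le_right : U i ⊓ U j ≤ U j) ≫ chart (ψ j) (hf j) hd (hu j) := by
    intro i j
    set gi := X.homOfLE (inf_le_left : U i ⊓ U j ≤ U i) with hgi
    set gj := X.homOfLE (inf_le_right : U i ⊓ U j ≤ U j) with hgj
    rw [comp_chart, comp_chart]
    -- units
    have h1 := hc i j d (f j) (hf j)
    have huj : IsUnit (gj.appTop.hom (ψ j (f j))) := (hu j).map gj.appTop.hom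
    have hui : IsUnit (gi.appTop.hom (ψ i (f i))) := (hu i).map gi.appTop.hom
    rw [h1] at huj
    have hcu : IsUnit (gj.appTop.hom (ψ j (f i))) :=
      (isUnit_pow_iff hd.ne').mp (isUnit_of_mul_isUnit_left huj)
    have hij : IsUnit (gi.appTop.hom (ψ i (f j))) := isUnit_of_mul_isUnit_right huj
    have hxi : IsUnit ((gi.appTop.hom.comp (ψ i)) (f i * f j)) := by
      rw [map_mul]; exact hui.mul hij
    have hxj : IsUnit ((gj.appTop.hom.comp (ψ j)) (f j * f i)) := by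
      rw [map_mul]; exact ((hu j).map gj.appTop.hom).mul hcu
    rw [chart_mul (gi.appTop.hom.comp (ψ i)) (hf i) hd (hf j) rfl ((hu i).map gi.appTop.hom) hxi,
      chart_mul (gj.appTop.hom.comp (ψ j)) (hf j) hd (hf i) rfl ((hu j).map gj.appTop.hom) hxj]
    have hxj' : IsUnit ((gj.appTop.hom.comp (ψ j)) (f i * f j)) := by rw [mul_comm]; exact hxj
    rw [chart_congr rfl (mul_comm (f j) (f i)) _
      (SetLike.mul_mem_graded (hf i) (hf j) : f i * f j ∈ 𝒜 (d + d)) _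
      (hd.trans_le (d.le_add_right d)) hxj hxj' rfl]
    exact (chart_eq_of_twist (gi.appTop.hom.comp (ψ i)) (gj.appTop.hom.comp (ψ j))
      (gj.appTop.hom (ψ j (f i))) hcu (fun k a ha => hc i j k a ha) _ _ hxi hxj').symm
  refine ⟨𝒰.glueMorphisms (fun i => chart (ψ i) (hf i) hd (hu i)) ?_, fun i => ?_⟩
  · intro (i : ι) (j : ι)
    change pullback.fst (U i).ι (U j).ι ≫ _ = pullback.snd (U i).ι (U j).ι ≫ _
    rw [← cancel_epi (isPullback_opens_inf (U i) (U j)).isoPullback.hom]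
    rw [IsPullback.isoPullback_hom_fst_assoc, IsPullback.isoPullback_hom_snd_assoc]
    exact compat i j
  · exact 𝒰.ι_glueMorphisms _ _ i

theorem awayHom_fromZeroRingHom {B : Type u} [CommRing B] (ψ : A →+* B) {f : A}
    (hu : IsUnit (ψ f)) (z : 𝒜 0) :
    awayHom 𝒜 ψ f hu (fromZeroRingHom 𝒜 _ z) = ψ z := by
  change Localization.awayLift ψ f hu (fromZeroRingHom 𝒜 _ z).val = _
  have h1 : (fromZeroRingHom 𝒜 (Submonoid.powers f) z).val =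
      algebraMap A (Localization.Away f) z := by
    change Localization.mk (z : A) 1 = _
    rw [Localization.mk_one_eq_algebraMap]
  rw [h1]
  exact IsLocalization.Away.lift_eq f hu (z : A)

theorem chart_toSpecZero {T : Scheme.{u}} (ψ : A →+* Γ(T, ⊤)) {f : A} {d : ℕ} (hf : f ∈ 𝒜 d)
    (hd : 0 < d) (hu : IsUnit (ψ f)) :
    chart ψ hf hd hu ≫ Proj.toSpecZero 𝒜 =
      T.toSpecΓ ≫ Spec.map (CommRingCat.ofHom (ψ.comp (algebraMap (𝒜 0) A))) := by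
  unfold chart
  rw [Category.assoc, Category.assoc, Proj.awayι_toSpecZero, ← Spec.map_comp]
  congr 2
  ext z
  exact awayHom_fromZeroRingHom ψ hu z

/-- Every morphism to an affine scheme is determined by its effect on global sections. -/
theorem toSpecΓ_SpecMap_appTop {T : Scheme.{u}} {B : CommRingCat.{u}} (h : T ⟶ Spec B) :
    T.toSpecΓ ≫ Spec.map ((Scheme.ΓSpecIso B).inv ≫ h.appTop) = h := by
  rw [Spec.map_comp, ← Scheme.toSpecΓ_naturality_assoc, toSpecΓ_SpecMap_ΓSpecIso_inv,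
    Category.comp_id]

theorem basicOpenIsoSpec_inv_appTop {f : A} {d : ℕ} (hf : f ∈ 𝒜 d) (hd : 0 < d) :
    (Proj.basicOpenIsoSpec 𝒜 f hf hd).inv.appTop =
      (Proj.basicOpen 𝒜 f).topIso.hom ≫ (Proj.basicOpenIsoAway 𝒜 f hf hd).inv ≫
        (Scheme.ΓSpecIso _).inv := by
  have h1 : (Proj.basicOpenIsoSpec 𝒜 f hf hd).hom.appTop =
      (Scheme.ΓSpecIso _).hom ≫ Proj.awayToSection 𝒜 f ≫ (Proj.basicOpen 𝒜 f).topIso.inv := by
    rw [Proj.basicOpenIsoSpec_hom]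
    exact Proj.basicOpenToSpec_app_top 𝒜 f
  have h2 : (Proj.basicOpenIsoSpec 𝒜 f hf hd).inv.appTop ≫
      (Proj.basicOpenIsoSpec 𝒜 f hf hd).hom.appTop = 𝟙 _ := by
    rw [← Scheme.Hom.comp_appTop, Iso.hom_inv_id]
    rfl
  rw [h1] at h2
  rw [← Proj.basicOpenIsoAway_hom 𝒜 f hf hd] at h2
  rw [← cancel_mono ((Scheme.ΓSpecIso _).hom ≫ (Proj.basicOpenIsoAway 𝒜 f hf hd).hom ≫
    (Proj.basicOpen 𝒜 f).topIso.inv), h2]
  simp only [Category.assoc, Iso.inv_hom_id_assoc, Iso.hom_inv_id]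

theorem chart_le {T : Scheme.{u}} (ψ : A →+* Γ(T, ⊤)) {f : A} {d : ℕ} (hf : f ∈ 𝒜 d)
    (hd : 0 < d) (hu : IsUnit (ψ f)) :
    (⊤ : T.Opens) ≤ (chart ψ hf hd hu) ⁻¹ᵁ Proj.basicOpen 𝒜 f := by
  intro x _
  change (chart ψ hf hd hu) x ∈ Proj.basicOpen 𝒜 f
  rw [← Proj.opensRange_awayι 𝒜 f hf hd]
  exact ⟨_, rfl⟩

theorem appLE_comp_ι {T P : Scheme.{u}} (D : P.Opens) (h' : T ⟶ (↑D : Scheme.{u}))
    (e : (⊤ : T.Opens) ≤ (h' ≫ D.ι) ⁻¹ᵁ D) :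
    (h' ≫ D.ι).appLE D ⊤ e = D.topIso.inv ≫ h'.appTop := by
  rw [Scheme.Hom.comp_appLE]
  have hle : (⊤ : (↑D : Scheme.{u}).Opens) ≤ D.ι ⁻¹ᵁ D := fun x _ => x.2
  have h1 : h'.appLE (D.ι ⁻¹ᵁ D) ⊤ e =
      (↑D : Scheme.{u}).presheaf.map (homOfLE hle).op ≫ h'.appLE ⊤ ⊤ le_top := by
    rw [Scheme.Hom.map_appLE]
  rw [h1, ← Category.assoc]
  congr 1
  · change P.presheaf.map (homOfLE (_ : D.ι ''ᵁ D.ι ⁻¹ᵁ D ≤ D)).op ≫
      P.presheaf.map (homOfLE (_ : D.ι ''ᵁ ⊤ ≤ D.ι ''ᵁ D.ι ⁻¹ᵁ D)).op =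
      P.presheaf.map (eqToHom D.ι_image_top).op
    rw [← Functor.map_comp]
    rfl
  · exact (Scheme.Hom.app_eq_appLE h').symm

theorem chart_appLE {T : Scheme.{u}} (ψ : A →+* Γ(T, ⊤)) {f : A} {d : ℕ} (hf : f ∈ 𝒜 d)
    (hd : 0 < d) (hu : IsUnit (ψ f)) :
    (chart ψ hf hd hu).appLE (Proj.basicOpen 𝒜 f) ⊤ (chart_le ψ hf hd hu) =
      (Proj.basicOpenIsoAway 𝒜 f hf hd).inv ≫ CommRingCat.ofHom (awayHom 𝒜 ψ f hu) := by
  have key : ∀ (g : T ⟶ Proj 𝒜)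
      (hg : g = (T.toSpecΓ ≫ Spec.map (CommRingCat.ofHom (awayHom 𝒜 ψ f hu)) ≫
        (Proj.basicOpenIsoSpec 𝒜 f hf hd).inv) ≫ (Proj.basicOpen 𝒜 f).ι)
      (e : (⊤ : T.Opens) ≤ g ⁻¹ᵁ Proj.basicOpen 𝒜 f),
      g.appLE (Proj.basicOpen 𝒜 f) ⊤ e =
        (Proj.basicOpenIsoAway 𝒜 f hf hd).inv ≫ CommRingCat.ofHom (awayHom 𝒜 ψ f hu) := by
    rintro _ rfl e
    rw [appLE_comp_ι, Scheme.Hom.comp_appTop, Scheme.Hom.comp_appTop,
      basicOpenIsoSpec_inv_appTop, Scheme.toSpecΓ_appTop]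
    simp only [Category.assoc, Iso.inv_hom_id_assoc]
    rw [Scheme.ΓSpecIso_naturality, Iso.inv_hom_id_assoc]
  exact key _ (by unfold chart; simp only [Category.assoc, Proj.awayι]) _


end Groth.Agent.Lib.helper12.ProjUP1
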