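import Mathlib
import Groth.Agent.Lib.Helper11.InvHom
import Groth.Agent.Lib.Helper12.TwistExtend
import Groth.Agent.Lib.Helper12.ProjUP1

set_option autoImplicit false
universe u

open CategoryTheory CategoryTheory.Limits AlgebraicGeometry Opposite TopologicalSpace

namespace Groth.Agent.Lib.helper12.ProjUP3

open Groth.Agent.Lib.helper11.IsoLocus Groth.Agent.Lib.helper11.InvHom
open Groth.Agent.Lib.helper11.GenLocus Groth.Agent.Lib.helper12.ProjUP1
open Scheme.Modules

variable {X : Scheme.{u}} {L : X.Modules}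

theorem bijective_app_of_le_genLocus (t : Coh.structureModule X ⟶ L) {V : X.Opens}
    (hV : V ≤ CohB1.genLocus L t) :
    Function.Bijective (fun c : Γ(X, V) => c • sec t V) := by
  have h1 : IsIso (t.app V) := isIso_app_of_le_isoLocus t hV
  have h2 := (ConcreteCategory.isIso_iff_bijective (t.app V)).mp h1
  have h3 : (fun c : Γ(X, V) => c • sec t V) =
      fun c : Γ(X, V) => (t.app V).hom (c : Γ(Coh.structureModule X, V)) := by
    funext c
    exact (app_apply t V c).symm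
  rw [h3]
  exact h2

/-- The ratio `t' / t` on an open `V` where `t` generates. -/
noncomputable def ratio (t t' : Coh.structureModule X ⟶ L) (V : X.Opens)
    (hV : V ≤ CohB1.genLocus L t) : Γ(X, V) :=
  ((bijective_app_of_le_genLocus t hV).2 (sec t' V)).choose

theorem ratio_smul (t t' : Coh.structureModule X ⟶ L) (V : X.Opens)
    (hV : V ≤ CohB1.genLocus L t) : ratio t t' V hV • sec t V = sec t' V :=
  ((bijective_app_of_le_genLocus t hV).2 (sec t' V)).choose_spec

theorem eq_ratio (t t' : Coh.structureModule X ⟶ L) (V : X.Opens)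
    (hV : V ≤ CohB1.genLocus L t) (c : Γ(X, V)) (hc : c • sec t V = sec t' V) :
    c = ratio t t' V hV :=
  (bijective_app_of_le_genLocus t hV).1 (hc.trans (ratio_smul t t' V hV).symm)

theorem ratio_self (t : Coh.structureModule X ⟶ L) (V : X.Opens)
    (hV : V ≤ CohB1.genLocus L t) : ratio t t V hV = 1 :=
  (eq_ratio t t V hV 1 (one_smul _ _)).symm

theorem map_smul' (M : X.Modules) {V W : X.Opens} (h : W ≤ V) (c : Γ(X, V)) (m : Γ(M, V)) :
    M.presheaf.map (homOfLE h).op (c • m) =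
      (X.presheaf.map (homOfLE h).op c : Γ(X, W)) • M.presheaf.map (homOfLE h).op m :=
  M.val.map_smul (homOfLE h).op c m

theorem ratio_res (t t' : Coh.structureModule X ⟶ L) {V W : X.Opens} (h : W ≤ V)
    (hV : V ≤ CohB1.genLocus L t) :
    X.presheaf.map (homOfLE h).op (ratio t t' V hV) = ratio t t' W (h.trans hV) := by
  apply eq_ratio
  rw [← res_sec t (homOfLE h), ← map_smul', ratio_smul, res_sec]

theorem ratio_mul (t t' t'' : Coh.structureModule X ⟶ L) (V : X.Opens)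
    (hV : V ≤ CohB1.genLocus L t) (hV' : V ≤ CohB1.genLocus L t') :
    ratio t' t'' V hV' * ratio t t' V hV = ratio t t'' V hV := by
  apply eq_ratio
  rw [mul_smul, ratio_smul, ratio_smul]

theorem isUnit_ratio (t t' : Coh.structureModule X ⟶ L) (V : X.Opens)
    (hV : V ≤ CohB1.genLocus L t) (hV' : V ≤ CohB1.genLocus L t') :
    IsUnit (ratio t t' V hV) := by
  refine IsUnit.of_mul_eq_one (ratio t' t V hV') ?_
  rw [mul_comm, ratio_mul, ratio_self]

theorem eval₂_scale {R B ι : Type*} [CommRing R] [CommRing B] (ρ : R →+* B) (b : ι → B) (c : B)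
    {p : MvPolynomial ι R} {k : ℕ} (hp : p.IsHomogeneous k) :
    MvPolynomial.eval₂ ρ (fun l => c * b l) p = c ^ k * MvPolynomial.eval₂ ρ b p := by
  rw [MvPolynomial.eval₂_eq, MvPolynomial.eval₂_eq, Finset.mul_sum]
  refine Finset.sum_congr rfl fun d hd => ?_
  have hdeg : ∑ i ∈ d.support, d i = k := by
    have h0 := hp (MvPolynomial.mem_support_iff.mp hd)
    rw [Finsupp.weight_apply] at h0
    simpa [Finsupp.sum] using h0
  have h1 : ∏ i ∈ d.support, (c * b i) ^ d i = c ^ k * ∏ i ∈ d.support, b i ^ d i := by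
    simp_rw [mul_pow]
    rw [Finset.prod_mul_distrib, Finset.prod_pow_eq_pow_sum, hdeg]
  rw [h1]
  ring

section Concrete

variable {R : Type u} [CommRing R] {n : ℕ} {X : Scheme.{u}} (q : X ⟶ Spec (CommRingCat.of R))
  {L : X.Modules} (σ : Fin (n + 1) → (Coh.structureModule X ⟶ L))

/-- The open `X_{σ i}`. -/
noncomputable def gU (i : Fin (n + 1)) : X.Opens := CohB1.genLocus L (σ i)

theorem image_top_le (i : Fin (n + 1)) : (gU σ i).ι ''ᵁ ⊤ ≤ CohB1.genLocus L (σ i) :=
  le_of_eq (gU σ i).ι_image_top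

/-- The ratio `σ l / σ i` as a global function on `X_{σ i}`. -/
noncomputable def aFn (i l : Fin (n + 1)) : Γ((gU σ i : Scheme.{u}), ⊤) :=
  ratio (σ i) (σ l) ((gU σ i).ι ''ᵁ ⊤) (image_top_le σ i)

noncomputable def rho (i : Fin (n + 1)) : R →+* Γ((gU σ i : Scheme.{u}), ⊤) :=
  ((gU σ i).ι ≫ q).appTop.hom.comp (Scheme.ΓSpecIso (CommRingCat.of R)).inv.hom

noncomputable def psi (i : Fin (n + 1)) :
    MvPolynomial (Fin (n + 1)) R →+* Γ((gU σ i : Scheme.{u}), ⊤) :=
  MvPolynomial.eval₂Hom (rho q σ i) (aFn σ i)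

theorem psi_X (i l : Fin (n + 1)) : psi q σ i (MvPolynomial.X l) = aFn σ i l :=
  MvPolynomial.eval₂_X _ _ _

theorem psi_C (i : Fin (n + 1)) (c : R) : psi q σ i (MvPolynomial.C c) = rho q σ i c :=
  MvPolynomial.eval₂_C _ _ _

theorem aFn_self (i : Fin (n + 1)) : aFn σ i i = 1 := ratio_self _ _ _

theorem isUnit_psi (i : Fin (n + 1)) : IsUnit (psi q σ i (MvPolynomial.X i)) := by
  rw [psi_X, aFn_self]; exact isUnit_one

theorem X_mem (i : Fin (n + 1)) :
    (MvPolynomial.X i : MvPolynomial (Fin (n + 1)) R) ∈ CohB1.polyGrading n R 1 :=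
  MvPolynomial.isHomogeneous_X R i

theorem psi_compat (i j : Fin (n + 1)) (k : ℕ) (p : MvPolynomial (Fin (n + 1)) R)
    (hp : p ∈ CohB1.polyGrading n R k) :
    (X.homOfLE (inf_le_right : gU σ i ⊓ gU σ j ≤ gU σ j)).appTop.hom (psi q σ j p) =
      ((X.homOfLE (inf_le_right : gU σ i ⊓ gU σ j ≤ gU σ j)).appTop.hom
        (psi q σ j (MvPolynomial.X i))) ^ k *
      (X.homOfLE (inf_le_left : gU σ i ⊓ gU σ j ≤ gU σ i)).appTop.hom (psi q σ i p) := by
  set gi := X.homOfLE (inf_le_left : gU σ i ⊓ gU σ j ≤ gU σ i) with hgi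
  set gj := X.homOfLE (inf_le_right : gU σ i ⊓ gU σ j ≤ gU σ j) with hgj
  have hρ : gj.appTop.hom.comp (rho q σ j) = gi.appTop.hom.comp (rho q σ i) := by
    unfold rho
    rw [← RingHom.comp_assoc, ← RingHom.comp_assoc]
    congr 1
    rw [← CommRingCat.hom_comp, ← CommRingCat.hom_comp, ← Scheme.Hom.comp_appTop,
      ← Scheme.Hom.comp_appTop, hgi, hgj, Scheme.homOfLE_ι_assoc, Scheme.homOfLE_ι_assoc]
  have ha : ∀ l, gj.appTop.hom (aFn σ j l) = gj.appTop.hom (aFn σ j i) * gi.appTop.hom (aFn σ i l) := by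
    intro l
    have hWj : (gU σ i ⊓ gU σ j).ι ''ᵁ ⊤ ≤ (gU σ j).ι ''ᵁ ⊤ := by
      rw [Scheme.Opens.ι_image_top, Scheme.Opens.ι_image_top]; exact inf_le_right
    have hWi : (gU σ i ⊓ gU σ j).ι ''ᵁ ⊤ ≤ (gU σ i).ι ''ᵁ ⊤ := by
      rw [Scheme.Opens.ι_image_top, Scheme.Opens.ι_image_top]; exact inf_le_left
    have hj : ∀ l', gj.appTop.hom (aFn σ j l') =
        ratio (σ j) (σ l') ((gU σ i ⊓ gU σ j).ι ''ᵁ ⊤) (hWj.trans (image_top_le σ j)) := by
      intro l'
      rw [hgj, Scheme.homOfLE_appTop]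
      exact ratio_res (σ j) (σ l') hWj (image_top_le σ j)
    have hi : ∀ l', gi.appTop.hom (aFn σ i l') =
        ratio (σ i) (σ l') ((gU σ i ⊓ gU σ j).ι ''ᵁ ⊤) (hWi.trans (image_top_le σ i)) := by
      intro l'
      rw [hgi, Scheme.homOfLE_appTop]
      exact ratio_res (σ i) (σ l') hWi (image_top_le σ i)
    rw [hj l, hj i, hi l, mul_comm]
    exact (ratio_mul (σ j) (σ i) (σ l) _ _ _).symm
  have e1 : gj.appTop.hom (psi q σ j p) = MvPolynomial.eval₂ (gj.appTop.hom.comp (rho q σ j))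
      (gj.appTop.hom ∘ aFn σ j) p :=
    MvPolynomial.eval₂_comp_left gj.appTop.hom (rho q σ j) (aFn σ j) p
  have e2 : gi.appTop.hom (psi q σ i p) = MvPolynomial.eval₂ (gi.appTop.hom.comp (rho q σ i))
      (gi.appTop.hom ∘ aFn σ i) p :=
    MvPolynomial.eval₂_comp_left gi.appTop.hom (rho q σ i) (aFn σ i) p
  have h2 : (gj.appTop.hom ∘ aFn σ j) =
      fun l => gj.appTop.hom (aFn σ j i) * (gi.appTop.hom ∘ aFn σ i) l := by
    funext l
    exact ha l
  rw [e1, e2, psi_X, hρ, h2]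
  exact eval₂_scale _ _ _ hp

/-- The morphism to projective space defined by the sections `σ`. -/
theorem exists_toProj (hcov : ⨆ i, gU σ i = ⊤) :
    ∃ r : X ⟶ Proj (CohB1.polyGrading n R), ∀ i, (gU σ i).ι ≫ r =
      chart (psi q σ i) (X_mem i) one_pos (isUnit_psi q σ i) := by
  refine exists_glue_chart (gU σ) ?_ (psi q σ) (fun i => MvPolynomial.X i) one_pos X_mem
    (isUnit_psi q σ) (fun i j k p hp => psi_compat q σ i j k p hp)
  exact TopologicalSpace.IsOpenCover.mk hcov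

theorem toProj_toSpec (hcov : ⨆ i, gU σ i = ⊤) (r : X ⟶ Proj (CohB1.polyGrading n R))
    (hr : ∀ i, (gU σ i).ι ≫ r = chart (psi q σ i) (X_mem i) one_pos (isUnit_psi q σ i)) :
    (show X ⟶ CohB1.ProjSpace n R from r) ≫ CohB1.ProjSpace.toSpec n R = q := by
  refine (X.openCoverOfIsOpenCover (gU σ) (TopologicalSpace.IsOpenCover.mk hcov)).hom_ext _ _
    fun (i : Fin (n + 1)) => ?_
  change (gU σ i).ι ≫ r ≫ CohB1.ProjSpace.toSpec n R = (gU σ i).ι ≫ q
  rw [← Category.assoc, hr i]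
  change chart (psi q σ i) (X_mem i) one_pos (isUnit_psi q σ i) ≫
    (Proj.toSpecZero (CohB1.polyGrading n R) ≫
      Spec.map (CommRingCat.ofHom (algebraMap R (CohB1.polyGrading n R 0)))) = _
  rw [← Category.assoc, chart_toSpecZero, Category.assoc, ← Spec.map_comp]
  have h1 : CommRingCat.ofHom (algebraMap R (CohB1.polyGrading n R 0)) ≫
      CommRingCat.ofHom ((psi q σ i).comp (algebraMap (CohB1.polyGrading n R 0)
        (MvPolynomial (Fin (n + 1)) R))) =
      (Scheme.ΓSpecIso (CommRingCat.of R)).inv ≫ ((gU σ i).ι ≫ q).appTop := by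
    ext c
    exact psi_C q σ i c
  rw [h1]
  exact toSpecΓ_SpecMap_appTop _

end Concrete

end Groth.Agent.Lib.helper12.ProjUP3
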