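import Mathlib
import Groth.Agent.Lib.Helper12.TensorSec
import Groth.Agent.Lib.Lead.ModTensor
import Groth.Agent.Lib.Helper11.InvPullback

/-!
# Pullback of `O`-modules and the tensor product (helper12, LT22)

For a morphism of schemes `h : Y ⟶ X`:

* `pushPre h : Y.PresheafOfModules ⥤ X.PresheafOfModules`, `pushTensorHom` (lax structure, sectionwise),
  `laxHom h P Q : h_*P ⊗ h_*Q ⟶ h_*(P ⊗ Q)` with `laxHom_tmul`.
* `pullTensorHom h M N : h^*(M ⊗ N) ⟶ h^*M ⊗ h^*N` (the oplax comparison), `pullTensorHom_unit_tmul`,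
  naturality.
-/

set_option autoImplicit false
universe u

open CategoryTheory AlgebraicGeometry Opposite TopologicalSpace MonoidalCategory

namespace Groth.Agent.Lib.helper12.PullTensor

open Groth.Agent.Lib.helper12.TensorRestrict Groth.Agent.Lib.helper12.TensorSec
open Scheme.Modules

variable {X Y : Scheme.{u}} (h : Y ⟶ X)

/-- Pushforward of presheaves of modules along a morphism of schemes. -/
noncomputable def pushPre : Y.PresheafOfModules ⥤ X.PresheafOfModules :=
  PresheafOfModules.pushforward h.toRingCatSheafHom.hom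

theorem pushforward_val (P : Y.Modules) :
    ((Scheme.Modules.pushforward h).obj P).val = (pushPre h).obj P.val := rfl

theorem pushforward_map_val {P Q : Y.Modules} (φ : P ⟶ Q) :
    ((Scheme.Modules.pushforward h).map φ).val = (pushPre h).map φ.val := rfl

/-- The same functor, typed between the categories on which the monoidal structure lives. -/
noncomputable abbrev pushPMod : CohB1.PMod Y ⥤ CohB1.PMod X := pushPre h

/-- The (sectionwise) lax monoidal structure of the pushforward of presheaves of modules. -/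
noncomputable def pushTensorHom (A B : CohB1.PMod Y) :
    (pushPMod h).obj A ⊗ (pushPMod h).obj B ⟶ (pushPMod h).obj (A ⊗ B) where
  app V := μR (h.app V.unop).hom
    (A.obj (op (h ⁻¹ᵁ V.unop))) (B.obj (op (h ⁻¹ᵁ V.unop)))
  naturality {V V'} i := by
    apply ModuleCat.MonoidalCategory.tensor_ext
    intro a b
    rfl

theorem pushTensorHom_naturality {A A' B B' : CohB1.PMod Y} (g : A ⟶ A') (k : B ⟶ B') :
    ((pushPMod h).map g ⊗ₘ (pushPMod h).map k) ≫ pushTensorHom h A' B' =
      pushTensorHom h A B ≫ (pushPMod h).map (g ⊗ₘ k) := by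
  ext V : 1
  apply ModuleCat.MonoidalCategory.tensor_ext
  intro a b
  rfl

/-- The presheaf-level map underlying `laxHom`. -/
noncomputable def laxPre (P Q : Y.Modules) :
    (CohB1.tensorPre ((Scheme.Modules.pushforward h).obj P) ((Scheme.Modules.pushforward h).obj Q) :
      X.PresheafOfModules) ⟶ ((Scheme.Modules.pushforward h).obj (CohB1.tensorMod P Q)).val :=
  pushTensorHom h (CohB1.toPMod P) (CohB1.toPMod Q) ≫
    (pushPre h).map (toSheafify (CohB1.tensorPre P Q : Y.PresheafOfModules))

/-- The lax monoidal structure of the pushforward of `O`-modules: `h_*P ⊗ h_*Q ⟶ h_*(P ⊗ Q)`. -/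
noncomputable def laxHom (P Q : Y.Modules) :
    CohB1.tensorMod ((Scheme.Modules.pushforward h).obj P) ((Scheme.Modules.pushforward h).obj Q) ⟶
      (Scheme.Modules.pushforward h).obj (CohB1.tensorMod P Q) :=
  ((adj X).homEquiv _ _).symm (laxPre h P Q)

theorem toSheafify_laxHom (P Q : Y.Modules) :
    toSheafify (CohB1.tensorPre ((Scheme.Modules.pushforward h).obj P)
      ((Scheme.Modules.pushforward h).obj Q) : X.PresheafOfModules) ≫ (laxHom h P Q).val =
      laxPre h P Q := by
  have h1 : (adj X).homEquiv _ _ (laxHom h P Q) = laxPre h P Q := Equiv.apply_symm_apply _ _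
  rw [Adjunction.homEquiv_unit] at h1
  exact h1

/-- Section formula for `laxHom`: `p ⊗ q ↦ p ⊗ q`. -/
theorem laxHom_tmul (P Q : Y.Modules) (U : X.Opens) (p : P.val.obj (op (h ⁻¹ᵁ U)))
    (q : Q.val.obj (op (h ⁻¹ᵁ U))) :
    ((laxHom h P Q).val.app (op U)).hom
      (SecTwist.tmul ((Scheme.Modules.pushforward h).obj P) ((Scheme.Modules.pushforward h).obj Q) U p q) =
      SecTwist.tmul P Q (h ⁻¹ᵁ U) p q :=
  congrArg (fun φ => (PresheafOfModules.Hom.app φ (op U)).hom
    (p ⊗ₜ q : ↥((CohB1.tensorPre ((Scheme.Modules.pushforward h).obj P)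
      ((Scheme.Modules.pushforward h).obj Q)).obj (op U)))) (toSheafify_laxHom h P Q)

/-- Two morphisms out of `M ⊗ N` that agree on all sections `m ⊗ n` are equal. -/
theorem tensorMod_hom_ext {A B Q : X.Modules} {f g : CohB1.tensorMod A B ⟶ Q}
    (H : ∀ (U : X.Opens) (a : A.val.obj (op U)) (b : B.val.obj (op U)),
      (f.val.app (op U)).hom (SecTwist.tmul A B U a b) =
        (g.val.app (op U)).hom (SecTwist.tmul A B U a b)) : f = g := by
  apply ((adj X).homEquiv _ _).injective
  rw [Adjunction.homEquiv_unit, Adjunction.homEquiv_unit]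
  ext V : 1
  apply ModuleCat.MonoidalCategory.tensor_ext
  intro a b
  exact H V.unop a b

/-- Section formula for the lead's `tensorMap`. -/
theorem tensorMap_tmul {M M' N N' : X.Modules} (f : M ⟶ M') (g : N ⟶ N') (U : X.Opens)
    (m : M.val.obj (op U)) (n : N.val.obj (op U)) :
    ((Groth.Agent.Lib.Lead.ModTensor.tensorMap f g).val.app (op U)).hom (SecTwist.tmul M N U m n) =
      SecTwist.tmul M' N' U ((f.val.app (op U)).hom m) ((g.val.app (op U)).hom n) := by
  rw [tmul_eq]
  unfold Groth.Agent.Lib.Lead.ModTensor.tensorMap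
  erw [sheafifyMap_toSheafify_apply]
  rfl

/-- The pullback–pushforward adjunction. -/
noncomputable abbrev pbAdj := Scheme.Modules.pullbackPushforwardAdjunction h

/-- The unit `M ⟶ h_* h^* M` on sections: `M(U) → (h^*M)(h⁻¹U)`. -/
noncomputable def unitSec (M : X.Modules) (U : X.Opens) (m : M.val.obj (op U)) :
    ((Scheme.Modules.pullback h).obj M).val.obj (op (h ⁻¹ᵁ U)) :=
  (((pbAdj h).unit.app M).val.app (op U)).hom m

theorem unitSec_naturality {M N : X.Modules} (φ : M ⟶ N) (U : X.Opens) (m : M.val.obj (op U)) :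
    (((Scheme.Modules.pullback h).map φ).val.app (op (h ⁻¹ᵁ U))).hom (unitSec h M U m) =
      unitSec h N U ((φ.val.app (op U)).hom m) :=
  (congrArg (fun ψ : M ⟶ (Scheme.Modules.pushforward h).obj ((Scheme.Modules.pullback h).obj N) =>
    (ψ.val.app (op U)).hom m) ((pbAdj h).unit.naturality φ)).symm

/-- Two morphisms out of `h^* M` that agree on all sections `unitSec m` are equal. -/
theorem pullback_hom_ext {M : X.Modules} {Q : Y.Modules}
    {f g : (Scheme.Modules.pullback h).obj M ⟶ Q}
    (H : ∀ (U : X.Opens) (m : M.val.obj (op U)),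
      (f.val.app (op (h ⁻¹ᵁ U))).hom (unitSec h M U m) =
        (g.val.app (op (h ⁻¹ᵁ U))).hom (unitSec h M U m)) : f = g := by
  apply ((pbAdj h).homEquiv _ _).injective
  rw [Adjunction.homEquiv_unit, Adjunction.homEquiv_unit]
  ext V : 2
  ext m
  exact H V m

/-- The adjoint of the comparison map: `M ⊗ N ⟶ h_*(h^*M ⊗ h^*N)`. -/
noncomputable def pullTensorPush (M N : X.Modules) :
    CohB1.tensorMod M N ⟶ (Scheme.Modules.pushforward h).obj
      (CohB1.tensorMod ((Scheme.Modules.pullback h).obj M) ((Scheme.Modules.pullback h).obj N)) :=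
  Groth.Agent.Lib.Lead.ModTensor.tensorMap ((pbAdj h).unit.app M) ((pbAdj h).unit.app N) ≫
    laxHom h ((Scheme.Modules.pullback h).obj M) ((Scheme.Modules.pullback h).obj N)

theorem pullTensorPush_tmul (M N : X.Modules) (U : X.Opens) (m : M.val.obj (op U))
    (n : N.val.obj (op U)) :
    ((pullTensorPush h M N).val.app (op U)).hom (SecTwist.tmul M N U m n) =
      SecTwist.tmul ((Scheme.Modules.pullback h).obj M) ((Scheme.Modules.pullback h).obj N) (h ⁻¹ᵁ U)
        (unitSec h M U m) (unitSec h N U n) := by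
  unfold pullTensorPush
  change ((laxHom h _ _).val.app (op U)).hom
    (((Groth.Agent.Lib.Lead.ModTensor.tensorMap ((pbAdj h).unit.app M)
      ((pbAdj h).unit.app N)).val.app (op U)).hom _) = _
  exact (congrArg _ (tensorMap_tmul ((pbAdj h).unit.app M) ((pbAdj h).unit.app N) U m n)).trans
    (laxHom_tmul h _ _ U _ _)

/-- The oplax comparison map `h^*(M ⊗ N) ⟶ h^*M ⊗ h^*N`. -/
noncomputable def pullTensorHom (M N : X.Modules) :
    (Scheme.Modules.pullback h).obj (CohB1.tensorMod M N) ⟶
      CohB1.tensorMod ((Scheme.Modules.pullback h).obj M) ((Scheme.Modules.pullback h).obj N) :=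
  ((pbAdj h).homEquiv _ _).symm (pullTensorPush h M N)

theorem unit_pullTensorHom (M N : X.Modules) :
    (pbAdj h).unit.app (CohB1.tensorMod M N) ≫
      (Scheme.Modules.pushforward h).map (pullTensorHom h M N) = pullTensorPush h M N := by
  have h1 : (pbAdj h).homEquiv _ _ (pullTensorHom h M N) = pullTensorPush h M N :=
    Equiv.apply_symm_apply _ _
  rw [Adjunction.homEquiv_unit] at h1
  exact h1

/-- Section formula for `pullTensorHom`: `η(m ⊗ n) ↦ η m ⊗ η n`. -/
theorem pullTensorHom_unitSec_tmul (M N : X.Modules) (U : X.Opens) (m : M.val.obj (op U))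
    (n : N.val.obj (op U)) :
    ((pullTensorHom h M N).val.app (op (h ⁻¹ᵁ U))).hom
      (unitSec h (CohB1.tensorMod M N) U (SecTwist.tmul M N U m n)) =
      SecTwist.tmul ((Scheme.Modules.pullback h).obj M) ((Scheme.Modules.pullback h).obj N) (h ⁻¹ᵁ U)
        (unitSec h M U m) (unitSec h N U n) := by
  rw [← pullTensorPush_tmul, ← unit_pullTensorHom]
  rfl

theorem pullTensorPush_naturality {M M' N N' : X.Modules} (a : M ⟶ M') (b : N ⟶ N') :
    Groth.Agent.Lib.Lead.ModTensor.tensorMap a b ≫ pullTensorPush h M' N' =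
      pullTensorPush h M N ≫ (Scheme.Modules.pushforward h).map
        (Groth.Agent.Lib.Lead.ModTensor.tensorMap ((Scheme.Modules.pullback h).map a)
          ((Scheme.Modules.pullback h).map b)) := by
  apply tensorMod_hom_ext
  intro U m n
  change ((pullTensorPush h M' N').val.app (op U)).hom
      (((Groth.Agent.Lib.Lead.ModTensor.tensorMap a b).val.app (op U)).hom _) =
    ((Groth.Agent.Lib.Lead.ModTensor.tensorMap ((Scheme.Modules.pullback h).map a)
          ((Scheme.Modules.pullback h).map b)).val.app (op (h ⁻¹ᵁ U))).hom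
      (((pullTensorPush h M N).val.app (op U)).hom _)
  refine (congrArg _ (tensorMap_tmul a b U m n)).trans ?_
  refine (pullTensorPush_tmul h M' N' U _ _).trans ?_
  refine Eq.trans ?_ (congrArg _ (pullTensorPush_tmul h M N U m n)).symm
  refine Eq.trans ?_ (tensorMap_tmul _ _ (h ⁻¹ᵁ U) _ _).symm
  rw [unitSec_naturality, unitSec_naturality]

/-- Naturality of the comparison map `h^*(M ⊗ N) ⟶ h^*M ⊗ h^*N`. -/
theorem pullTensorHom_naturality {M M' N N' : X.Modules} (a : M ⟶ M') (b : N ⟶ N') :
    (Scheme.Modules.pullback h).map (Groth.Agent.Lib.Lead.ModTensor.tensorMap a b) ≫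
        pullTensorHom h M' N' =
      pullTensorHom h M N ≫
        Groth.Agent.Lib.Lead.ModTensor.tensorMap ((Scheme.Modules.pullback h).map a)
          ((Scheme.Modules.pullback h).map b) := by
  have h1 := (pbAdj h).homEquiv_naturality_left_symm
    (Groth.Agent.Lib.Lead.ModTensor.tensorMap a b) (pullTensorPush h M' N')
  have h2 := (pbAdj h).homEquiv_naturality_right_symm (pullTensorPush h M N)
    (Groth.Agent.Lib.Lead.ModTensor.tensorMap ((Scheme.Modules.pullback h).map a)
          ((Scheme.Modules.pullback h).map b))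
  unfold pullTensorHom
  rw [← h1, ← h2, pullTensorPush_naturality]

open Groth.Agent.Lib.helper11.InvMod Groth.Agent.Lib.helper11.InvPullback in
/-- `h^* O_X ≅ O_Y` on sections: `η(a) ↦ h^♯ a`. -/
theorem pullbackUnitIso_hom_unitSec (U : X.Opens) (a : Γ(X, U)) :
    ((pullbackUnitIso h).hom.val.app (op (h ⁻¹ᵁ U))).hom
      (unitSec h (Coh.structureModule X) U (a : (Coh.structureModule X).val.obj (op U))) =
      (h.app U a : Γ(Y, h ⁻¹ᵁ U)) := by
  have h1 : (pbAdj h).homEquiv _ _ (pullbackUnitHom h) = unitToPush h := by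
    rw [pullbackUnitHom_eq]
    exact Equiv.apply_symm_apply _ _
  rw [Adjunction.homEquiv_unit] at h1
  exact congrArg (fun φ : Coh.structureModule X ⟶
      (Scheme.Modules.pushforward h).obj (Coh.structureModule Y) =>
      (φ.val.app (op U)).hom (a : (Coh.structureModule X).val.obj (op U))) h1

theorem unitorR_inv_apply (M : X.Modules) (U : X.Opens) (m : M.val.obj (op U)) :
    ((SecTwist.unitorR M).inv.val.app (op U)).hom m =
      SecTwist.tmul M (Coh.structureModule X) U m
        ((1 : X.ringCatSheaf.obj.obj (op U)) : (Coh.structureModule X).val.obj (op U)) := by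
  have h1 := SecTwist.unitorR_tmul M U m 1
  rw [one_smul] at h1
  conv_lhs => rw [← h1]
  exact iso_inv_hom_apply (SecTwist.unitorR M) U _

open Groth.Agent.Lib.helper11.InvMod in
/-- The unit case: `h^*(M ⊗ O) ⟶ h^*M ⊗ h^*O` is the canonical identification. -/
theorem pullTensorHom_unit (M : X.Modules) :
    (Scheme.Modules.pullback h).map (SecTwist.unitorR M).inv ≫
      pullTensorHom h M (Coh.structureModule X) ≫
        Groth.Agent.Lib.Lead.ModTensor.tensorMap (𝟙 _) (pullbackUnitIso h).hom ≫
          (SecTwist.unitorR ((Scheme.Modules.pullback h).obj M)).hom = 𝟙 _ := by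
  apply pullback_hom_ext
  intro U m
  change ((SecTwist.unitorR ((Scheme.Modules.pullback h).obj M)).hom.val.app (op (h ⁻¹ᵁ U))).hom
    (((Groth.Agent.Lib.Lead.ModTensor.tensorMap (𝟙 _) (pullbackUnitIso h).hom).val.app
        (op (h ⁻¹ᵁ U))).hom
      (((pullTensorHom h M (Coh.structureModule X)).val.app (op (h ⁻¹ᵁ U))).hom
        ((((Scheme.Modules.pullback h).map (SecTwist.unitorR M).inv).val.app (op (h ⁻¹ᵁ U))).hom
          (unitSec h M U m)))) = unitSec h M U m
  rw [unitSec_naturality, unitorR_inv_apply, pullTensorHom_unitSec_tmul]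
  refine (congrArg _ (tensorMap_tmul _ _ (h ⁻¹ᵁ U) _ _)).trans ?_
  erw [pullbackUnitIso_hom_unitSec h U 1]
  rw [map_one]
  exact (SecTwist.unitorR_tmul _ (h ⁻¹ᵁ U) _ 1).trans (one_smul _ _)

open Groth.Agent.Lib.helper11.InvMod in
instance isIso_pullTensorHom_unit (M : X.Modules) :
    IsIso (pullTensorHom h M (Coh.structureModule X)) := by
  have h1 := pullTensorHom_unit h M
  have hb : IsIso (Groth.Agent.Lib.Lead.ModTensor.tensorMap (𝟙 ((Scheme.Modules.pullback h).obj M))
      (pullbackUnitIso h).hom) :=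
    (Groth.Agent.Lib.Lead.ModTensor.tensorIso (Iso.refl _) (pullbackUnitIso h)).isIso_hom
  have h2 : pullTensorHom h M (Coh.structureModule X) =
      inv ((Scheme.Modules.pullback h).map (SecTwist.unitorR M).inv) ≫
        inv (Groth.Agent.Lib.Lead.ModTensor.tensorMap (𝟙 _) (pullbackUnitIso h).hom ≫
          (SecTwist.unitorR ((Scheme.Modules.pullback h).obj M)).hom) := by
    rw [IsIso.eq_inv_comp]
    apply IsIso.eq_inv_of_inv_hom_id
    simpa using h1
  rw [h2]
  infer_instance

section IsoLocus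

open Groth.Agent.Lib.helper11.IsoLocus Groth.Agent.Lib.helper11.InvPullback

/-- Pullback of a morphism that is an isomorphism over `U` is an isomorphism over `h⁻¹ U`. -/
theorem preimage_isoLocus_le {A B : X.Modules} (φ : A ⟶ B) :
    h ⁻¹ᵁ isoLocus φ ≤ isoLocus ((Scheme.Modules.pullback h).map φ) := by
  rw [le_isoLocus_iff]
  have h1 : IsIso ((restrictFunctor (isoLocus φ).ι).map φ) := isIso_restrict_isoLocus φ
  have h2 : IsIso ((restrictFunctor (isoLocus φ).ι ⋙
      Scheme.Modules.pullback (h ∣_ isoLocus φ)).map φ) := by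
    change IsIso ((Scheme.Modules.pullback (h ∣_ isoLocus φ)).map
      ((restrictFunctor (isoLocus φ).ι).map φ))
    infer_instance
  exact (NatIso.isIso_map_iff (pullbackRestrictNatIso h (isoLocus φ)) φ).mpr h2

/-- Naturality of `restrictTensorIso` (inverse direction). -/
theorem restrictTensorIso_inv_naturality {Z : Scheme.{u}} (j : Z ⟶ X) [IsOpenImmersion j]
    {M M' N N' : X.Modules} (a : M ⟶ M') (b : N ⟶ N') :
    Groth.Agent.Lib.Lead.ModTensor.tensorMap ((restrictFunctor j).map a) ((restrictFunctor j).map b) ≫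
        (restrictTensorIso j M' N').inv =
      (restrictTensorIso j M N).inv ≫
        (restrictFunctor j).map (Groth.Agent.Lib.Lead.ModTensor.tensorMap a b) := by
  apply tensorMod_hom_ext
  intro V m n
  change ((restrictTensorIso j M' N').inv.val.app (op V)).hom
      (((Groth.Agent.Lib.Lead.ModTensor.tensorMap ((restrictFunctor j).map a)
        ((restrictFunctor j).map b)).val.app (op V)).hom _) =
    ((Groth.Agent.Lib.Lead.ModTensor.tensorMap a b).val.app (op (j ''ᵁ V))).hom
      (((restrictTensorIso j M N).inv.val.app (op V)).hom _)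
  refine (congrArg _ (tensorMap_tmul _ _ V m n)).trans ?_
  refine (restrictTensorIso_inv_tmul j M' N' V _ _).trans ?_
  refine Eq.trans ?_ (congrArg _ (restrictTensorIso_inv_tmul j M N V m n)).symm
  exact (tensorMap_tmul a b (j ''ᵁ V) m n).symm

theorem isIso_tensorMap {M M' N N' : X.Modules} (a : M ⟶ M') (b : N ⟶ N') [IsIso a] [IsIso b] :
    IsIso (Groth.Agent.Lib.Lead.ModTensor.tensorMap a b) :=
  (Groth.Agent.Lib.Lead.ModTensor.tensorIso (asIso a) (asIso b)).isIso_hom

/-- A tensor product of morphisms is an isomorphism where both factors are. -/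
theorem isoLocus_inf_le_tensorMap {M M' N N' : X.Modules} (a : M ⟶ M') (b : N ⟶ N') :
    isoLocus a ⊓ isoLocus b ≤ isoLocus (Groth.Agent.Lib.Lead.ModTensor.tensorMap a b) := by
  rw [le_isoLocus_iff]
  set U := isoLocus a ⊓ isoLocus b
  have ha : IsIso ((restrictFunctor U.ι).map a) :=
    isIso_restrict_of_le a inf_le_left (isIso_restrict_isoLocus a)
  have hb : IsIso ((restrictFunctor U.ι).map b) :=
    isIso_restrict_of_le b inf_le_right (isIso_restrict_isoLocus b)
  have h1 := restrictTensorIso_inv_naturality U.ι a b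
  have h2 : IsIso (Groth.Agent.Lib.Lead.ModTensor.tensorMap ((restrictFunctor U.ι).map a)
      ((restrictFunctor U.ι).map b)) := isIso_tensorMap _ _
  have h3 : (restrictFunctor U.ι).map (Groth.Agent.Lib.Lead.ModTensor.tensorMap a b) =
      (restrictTensorIso U.ι M N).hom ≫
        Groth.Agent.Lib.Lead.ModTensor.tensorMap ((restrictFunctor U.ι).map a)
          ((restrictFunctor U.ι).map b) ≫ (restrictTensorIso U.ι M' N').inv := by
    rw [h1, Iso.hom_inv_id_assoc]
  rw [h3]
  infer_instance

end IsoLocus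

section Zigzag

open Groth.Agent.Lib.helper11.IsoLocus Groth.Agent.Lib.helper11.InvPullback

/-- The unit `N ⟶ j_*(N|_U)` is an isomorphism over `U`. -/
theorem le_isoLocus_restrictAdjunction_unit (N : X.Modules) (U : X.Opens) :
    U ≤ isoLocus ((restrictAdjunction U.ι).unit.app N) := by
  rw [le_isoLocus_iff]
  have h1 := (restrictAdjunction U.ι).left_triangle_components N
  have h2 : IsIso ((restrictAdjunction U.ι).counit.app ((restrictFunctor U.ι).obj N)) :=
    inferInstance
  have h3 : IsIso ((restrictFunctor U.ι).map ((restrictAdjunction U.ι).unit.app N) ≫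
      (restrictAdjunction U.ι).counit.app ((restrictFunctor U.ι).obj N)) := by
    rw [h1]; infer_instance
  exact IsIso.of_isIso_comp_right _
    ((restrictAdjunction U.ι).counit.app ((restrictFunctor U.ι).obj N))

theorem isIso_stalkMap_of_le {A B : X.Modules} (φ : A ⟶ B) {U : X.Opens} (hU : U ≤ isoLocus φ)
    {x : X} (hx : x ∈ U) : IsIso (stalkMap φ x) :=
  isIso_stalkMap_of_mem_isoLocus φ (hU hx)

/-- In a commutative square with three sides isomorphisms on stalks at `y`, so is the fourth. -/
theorem isIso_stalkMap_of_square {A B C D : Y.Modules} (f : A ⟶ B) (g : B ⟶ D) (f' : A ⟶ C)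
    (g' : C ⟶ D) (w : f ≫ g = f' ≫ g') (y : Y) (hf : IsIso (stalkMap f y))
    (hg : IsIso (stalkMap g y)) (hg' : IsIso (stalkMap g' y)) : IsIso (stalkMap f' y) := by
  have h1 : stalkMap f y ≫ stalkMap g y = stalkMap f' y ≫ stalkMap g' y := by
    rw [← stalkMap_comp, ← stalkMap_comp, w]
  have h2 : stalkMap f' y = (stalkMap f y ≫ stalkMap g y) ≫ inv (stalkMap g' y) := by
    rw [h1, Category.assoc, IsIso.hom_inv_id, Category.comp_id]
  rw [h2]
  infer_instance

theorem isIso_stalkMap_of_square' {A B C D : Y.Modules} (f : A ⟶ B) (g : B ⟶ D) (f' : A ⟶ C)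
    (g' : C ⟶ D) (w : f ≫ g = f' ≫ g') (y : Y) (hf : IsIso (stalkMap f y))
    (hf' : IsIso (stalkMap f' y)) (hg' : IsIso (stalkMap g' y)) : IsIso (stalkMap g y) := by
  have h1 : stalkMap f y ≫ stalkMap g y = stalkMap f' y ≫ stalkMap g' y := by
    rw [← stalkMap_comp, ← stalkMap_comp, w]
  have h2 : stalkMap g y = inv (stalkMap f y) ≫ stalkMap f' y ≫ stalkMap g' y := by
    rw [← h1, IsIso.inv_hom_id_assoc]
  rw [h2]
  infer_instance

theorem isoLocus_id {Z : Scheme.{u}} (A : Z.Modules) : isoLocus (𝟙 A) = ⊤ := by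
  rw [isoLocus_eq_top_iff]; infer_instance

/-- **The comparison map `h^*(M ⊗ N) ⟶ h^*M ⊗ h^*N` is an isomorphism when `N` is invertible.** -/
theorem isIso_pullTensorHom (M N : X.Modules) (hN : PicF.IsInvertible N) :
    IsIso (pullTensorHom h M N) := by
  rw [isIso_iff_stalk]
  intro y
  obtain ⟨U, hxU, ⟨e⟩⟩ := hN (h y)
  have hyV : y ∈ h ⁻¹ᵁ U := hxU
  -- the zigzag `N ⟶ Ñ ⟵ O`
  let Nt : X.Modules := (Scheme.Modules.pushforward U.ι).obj ((restrictFunctor U.ι).obj N)
  let a : N ⟶ Nt := (restrictAdjunction U.ι).unit.app N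
  let c : (restrictFunctor U.ι).obj (Coh.structureModule X) ⟶ (restrictFunctor U.ι).obj N :=
    (restrictUnitIso U.ι).hom ≫ e.inv
  let b : Coh.structureModule X ⟶ Nt :=
    (restrictAdjunction U.ι).unit.app (Coh.structureModule X) ≫
      (Scheme.Modules.pushforward U.ι).map c
  have ha : U ≤ isoLocus a := le_isoLocus_restrictAdjunction_unit N U
  have hb : U ≤ isoLocus b := by
    rw [le_isoLocus_iff]
    have h1 : IsIso ((restrictFunctor U.ι).map
        ((restrictAdjunction U.ι).unit.app (Coh.structureModule X))) :=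
      (le_isoLocus_iff _ _).mp (le_isoLocus_restrictAdjunction_unit (Coh.structureModule X) U)
    change IsIso ((restrictFunctor U.ι).map (_ ≫ _))
    rw [Functor.map_comp]
    infer_instance
  -- tensoring with `M`
  have hta : U ≤ isoLocus (Groth.Agent.Lib.Lead.ModTensor.tensorMap (𝟙 M) a) :=
    le_trans (by rw [isoLocus_id, top_inf_eq]; exact ha) (isoLocus_inf_le_tensorMap (𝟙 M) a)
  have htb : U ≤ isoLocus (Groth.Agent.Lib.Lead.ModTensor.tensorMap (𝟙 M) b) :=
    le_trans (by rw [isoLocus_id, top_inf_eq]; exact hb) (isoLocus_inf_le_tensorMap (𝟙 M) b)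
  have hpa : h ⁻¹ᵁ U ≤ isoLocus ((Scheme.Modules.pullback h).map
      (Groth.Agent.Lib.Lead.ModTensor.tensorMap (𝟙 M) a)) :=
    le_trans (fun z hz => hta hz) (preimage_isoLocus_le h _)
  have hpb : h ⁻¹ᵁ U ≤ isoLocus ((Scheme.Modules.pullback h).map
      (Groth.Agent.Lib.Lead.ModTensor.tensorMap (𝟙 M) b)) :=
    le_trans (fun z hz => htb hz) (preimage_isoLocus_le h _)
  have hqa : h ⁻¹ᵁ U ≤ isoLocus (Groth.Agent.Lib.Lead.ModTensor.tensorMap
      ((Scheme.Modules.pullback h).map (𝟙 M)) ((Scheme.Modules.pullback h).map a)) := by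
    refine le_trans ?_ (isoLocus_inf_le_tensorMap _ _)
    rw [CategoryTheory.Functor.map_id, isoLocus_id, top_inf_eq]
    exact le_trans (fun z hz => ha hz) (preimage_isoLocus_le h a)
  have hqb : h ⁻¹ᵁ U ≤ isoLocus (Groth.Agent.Lib.Lead.ModTensor.tensorMap
      ((Scheme.Modules.pullback h).map (𝟙 M)) ((Scheme.Modules.pullback h).map b)) := by
    refine le_trans ?_ (isoLocus_inf_le_tensorMap _ _)
    rw [CategoryTheory.Functor.map_id, isoLocus_id, top_inf_eq]
    exact le_trans (fun z hz => hb hz) (preimage_isoLocus_le h b)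
  -- `θ_{M,Ñ}` is an isomorphism at `y`
  have h1 : IsIso (stalkMap (pullTensorHom h M Nt) y) :=
    isIso_stalkMap_of_square' _ _ _ _ (pullTensorHom_naturality h (𝟙 M) b) y
      (isIso_stalkMap_of_le _ hpb hyV) inferInstance (isIso_stalkMap_of_le _ hqb hyV)
  exact isIso_stalkMap_of_square _ _ _ _ (pullTensorHom_naturality h (𝟙 M) a) y
    (isIso_stalkMap_of_le _ hpa hyV) h1 (isIso_stalkMap_of_le _ hqa hyV)

/-- `h^*(M ⊗ N) ≅ h^*M ⊗ h^*N` for `N` invertible. -/
noncomputable def pullTensorIso (M N : X.Modules) (hN : PicF.IsInvertible N) :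
    (Scheme.Modules.pullback h).obj (CohB1.tensorMod M N) ≅
      CohB1.tensorMod ((Scheme.Modules.pullback h).obj M) ((Scheme.Modules.pullback h).obj N) :=
  haveI := isIso_pullTensorHom h M N hN
  asIso (pullTensorHom h M N)

end Zigzag

end Groth.Agent.Lib.helper12.PullTensor
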