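import Mathlib
import Groth.Agent.Lib.Helper12.AmpleQAff

/-
helper12: restriction of ample modules to quasi-compact opens; relative ampleness over an affine base.

* `resSec j s`, `genLocus_resSec` (restriction of sections of `L^{⊗ n}` along an open immersion).
* `isAmple_restrict j hL` (`j` open immersion with quasi-compact source), `isAmple_restrict_opens`,
  `isAmple_restrict_iff_of_isIso` (invariance under isomorphisms of schemes).
* `isRelAmple_iff_isAmple_of_isAffine` (= S4381).
-/

set_option autoImplicit false
universe u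

open CategoryTheory AlgebraicGeometry Opposite TopologicalSpace MonoidalCategory

namespace Groth.Agent.Lib.helper12.AmpleRestrict

open Groth.Agent.Lib.helper12.TensorRestrict Groth.Agent.Lib.helper11.InvMod
open Groth.Agent.Lib.helper11.GenLocus Groth.Agent.Lib.helper12.TensorInv
open Groth.Agent.Lib.helper12.TensorSec Groth.Agent.Lib.helper12.TwistLocal
open Groth.Agent.Lib.helper11.IsoLocus Groth.Agent.Lib.helper12.TwistKill
open Groth.Agent.Lib.helper12.TensorAssoc Groth.Agent.Lib.helper12.AmplePow
open Groth.Agent.Lib.helper12.TensorPowAdd Groth.Agent.Lib.helper12.AmpleBasis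
open Groth.Agent.Lib.helper12.TwistExtend Groth.Agent.Lib.helper12.AmpleBasis2
open Scheme.Modules

variable {X U : Scheme.{u}}

/-- Restriction of a section of `L^{⊗ n}` along an open immersion, as a section of `(L|_U)^{⊗ n}`. -/
noncomputable def resSec (j : U ⟶ X) [IsOpenImmersion j] {L : X.Modules} {n : ℕ}
    (s : Coh.structureModule X ⟶ CohB1.tensorPow L n) :
    Coh.structureModule U ⟶ CohB1.tensorPow (L.restrict j) n :=
  ((restrictUnitIso j).inv ≫ (restrictFunctor j).map s) ≫ (restrictTensorPowIso j L n).hom

theorem genLocus_resSec (j : U ⟶ X) [IsOpenImmersion j] {L : X.Modules} {n : ℕ}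
    (s : Coh.structureModule X ⟶ CohB1.tensorPow L n) :
    CohB1.genLocus _ (resSec j s) = j ⁻¹ᵁ CohB1.genLocus _ s := by
  unfold resSec
  rw [genLocus_comp_iso]
  exact genLocus_restrict j _ s

/-- The restriction of an ample invertible module to a quasi-compact open subscheme is ample
(EGA II 4.5.? / Stacks 01PS consequence). -/
theorem isAmple_restrict (j : U ⟶ X) [IsOpenImmersion j] [CompactSpace U] {L : X.Modules}
    (hL : CohB1.IsAmple L) : CohB1.IsAmple (L.restrict j) := by
  refine isAmple_of_isBasis (isInvertible_restrict j hL.1) ?_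
  have hB := isBasis_of_isAmple hL
  rw [Opens.isBasis_iff_nbhd] at hB ⊢
  intro W x hxW
  obtain ⟨_, ⟨n, s, rfl⟩, hxs, hsW⟩ := hB (show j x ∈ j ''ᵁ W from ⟨x, hxW, rfl⟩)
  refine ⟨_, ⟨n, resSec j s, rfl⟩, ?_, ?_⟩
  · rw [genLocus_resSec]; exact hxs
  · rw [genLocus_resSec]
    intro y hy
    obtain ⟨z, hzW, hz⟩ := hsW hy
    rwa [← j.isOpenEmbedding.injective hz]

/-- Ampleness is invariant under isomorphisms of schemes. -/
theorem isAmple_restrict_iff_of_isIso (j : U ⟶ X) [IsIso j] {L : X.Modules} :
    CohB1.IsAmple (L.restrict j) ↔ CohB1.IsAmple L := by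
  constructor
  · intro h
    have : CompactSpace U := h.2.1
    have : CompactSpace X := (Scheme.homeoOfIso (asIso j)).compactSpace
    have h2 := isAmple_restrict (inv j) h
    refine isAmple_of_iso ?_ h2
    exact ((restrictFunctorComp (inv j) j).app L).symm ≪≫
      (restrictFunctorCongr (IsIso.inv_hom_id j)).app L ≪≫ restrictFunctorId.app L
  · intro h
    have : CompactSpace X := h.2.1
    have : CompactSpace U := (Scheme.homeoOfIso (asIso j)).symm.compactSpace
    exact isAmple_restrict j h

/-- The restriction of an ample module to a quasi-compact open is ample. -/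
theorem isAmple_restrict_opens {L : X.Modules} (hL : CohB1.IsAmple L) (V : X.Opens)
    (hV : IsCompact (V : Set X)) : CohB1.IsAmple (L.restrict V.ι) := by
  have : CompactSpace (↑V : Scheme.{u}) := isCompact_iff_compactSpace.mp hV
  exact isAmple_restrict V.ι hL

/-- EGA II 4.6.6: over an affine base, relatively ample = ample. -/
theorem isRelAmple_iff_isAmple_of_isAffine {Y : Scheme.{u}} [IsAffine Y] (f : X ⟶ Y)
    [QuasiCompact f] (L : X.Modules) :
    RelAmple.IsRelAmple f L ↔ CohB1.IsAmple L := by
  constructor
  · rintro ⟨-, h⟩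
    have h1 := h ⟨⊤, isAffineOpen_top Y⟩
    have : IsIso (f ⁻¹ᵁ (⊤ : Y.Opens)).ι := (inferInstance : IsIso X.topIso.hom)
    exact (isAmple_restrict_iff_of_isIso _).mp h1
  · intro h
    refine ⟨inferInstance, fun V => ?_⟩
    exact isAmple_restrict_opens h _ (QuasiCompact.isCompact_preimage (f := f) _ V.1.2 V.2.isCompact)

end Groth.Agent.Lib.helper12.AmpleRestrict
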