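import Mathlib
import Groth.Agent.Lib.Helper12.AmpleRestrict

/-
helper12: extension of sections of invertible modules with control of the locus (EGA I 9.3.1 globalised),
and consequences for quasi-affine schemes.

* `hom_ext_val_top`, `resHom j a`, `genLocus_resHom`, `val_resHom`.
* `exists_extend_section`: qcqs `X`, invertible `N`, `M`, `s` a section of `M`, `t` a section of `N` over
  `A = X_s` ⇒ a global section `w` of `(N ⊗ M^{⊗ k}) ⊗ M` with `X_w = A_t`.
* `exists_extend_section_basicOpen`: the same for `A = D(h)`, `h` a global function, with `w` a section of `N`.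
* `isAmple_of_isQuasiAffine` (= S4373), `isRelAmple_id` (= S4427).
-/

set_option autoImplicit false
universe u

open CategoryTheory AlgebraicGeometry Opposite TopologicalSpace MonoidalCategory

namespace Groth.Agent.Lib.helper12.SecExtend

open Groth.Agent.Lib.helper12.TensorRestrict Groth.Agent.Lib.helper11.InvMod
open Groth.Agent.Lib.helper11.GenLocus Groth.Agent.Lib.helper12.TensorInv
open Groth.Agent.Lib.helper12.TensorSec Groth.Agent.Lib.helper12.TwistLocal
open Groth.Agent.Lib.helper11.IsoLocus Groth.Agent.Lib.helper12.TwistKill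
open Groth.Agent.Lib.helper12.TensorAssoc Groth.Agent.Lib.helper12.AmplePow
open Groth.Agent.Lib.helper12.TensorPowAdd Groth.Agent.Lib.helper12.AmpleBasis
open Groth.Agent.Lib.helper12.TwistExtend Groth.Agent.Lib.helper12.AmpleBasis2
open Groth.Agent.Lib.helper12.AmpleQAff Groth.Agent.Lib.helper12.AmpleRestrict
open Scheme.Modules

variable {X : Scheme.{u}}

/-- A morphism `O ⟶ N` is determined by the global section it names. -/
theorem hom_ext_val_top {N : X.Modules} {a b : Coh.structureModule X ⟶ N}
    (h : SecTwist.val a ⊤ = SecTwist.val b ⊤) : a = b := by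
  apply N.unitHomEquiv.injective
  apply Subtype.ext
  funext V
  change SecTwist.val a V.unop = SecTwist.val b V.unop
  rw [← SecTwist.map_val a (homOfLE (le_top : V.unop ≤ ⊤)),
    ← SecTwist.map_val b (homOfLE (le_top : V.unop ≤ ⊤)), h]

/-- Restriction of a section (as a morphism) to an open subscheme. -/
noncomputable def resHom {U : Scheme.{u}} (j : U ⟶ X) [IsOpenImmersion j] {N : X.Modules}
    (a : Coh.structureModule X ⟶ N) : Coh.structureModule U ⟶ N.restrict j :=
  (restrictUnitIso j).inv ≫ (restrictFunctor j).map a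

theorem genLocus_resHom {U : Scheme.{u}} (j : U ⟶ X) [IsOpenImmersion j] {N : X.Modules}
    (a : Coh.structureModule X ⟶ N) :
    CohB1.genLocus _ (resHom j a) = j ⁻¹ᵁ CohB1.genLocus N a :=
  genLocus_restrict j N a

theorem val_resHom {U : Scheme.{u}} (j : U ⟶ X) [IsOpenImmersion j] {N : X.Modules}
    (a : Coh.structureModule X ⟶ N) (V : U.Opens) :
    SecTwist.val (resHom j a) V = SecTwist.val a (j ''ᵁ V) := by
  unfold resHom
  change (a.val.app (op (j ''ᵁ V))).hom
    (((restrictUnitIso j).inv.val.app (op V)).hom (1 : U.ringCatSheaf.obj.obj (op V))) = _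
  rw [restrictUnitIso_inv_apply]
  congr 1
  exact map_one ((j.appIso V).inv).hom

/-- **Extension of sections with control of the locus** (EGA I 9.3.1 globalised): on a qcqs scheme,
for invertible `N`, `M`, a section `s` of `M` and a section `t` of `N` over `A = X_s`, there are
`k` and a global section `w` of `(N ⊗ M^{⊗ k}) ⊗ M` with `X_w = A_t`. -/
theorem exists_extend_section [CompactSpace X] [QuasiSeparatedSpace X] {N M : X.Modules}
    (hN : PicF.IsInvertible N) (hM : PicF.IsInvertible M) (s : Coh.structureModule X ⟶ M)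
    (A : X.Opens) (hA : A = CohB1.genLocus M s)
    (t : Coh.structureModule (↑A : Scheme.{u}) ⟶ N.restrict A.ι) :
    ∃ (k : ℕ) (w : Coh.structureModule X ⟶
        CohB1.tensorMod (CohB1.tensorMod N (CohB1.tensorPow M k)) M),
      CohB1.genLocus _ w = A.ι ''ᵁ CohB1.genLocus _ t := by
  subst hA
  have hNq : N.IsQuasicoherent := isQuasicoherent_of_isInvertible hN
  have hA' : (CohB1.genLocus M s).ι ''ᵁ ⊤ = CohB1.genLocus M s := (CohB1.genLocus M s).ι_image_top
  let τ₀ : N.val.obj (op ((CohB1.genLocus M s).ι ''ᵁ ⊤)) := SecTwist.val t ⊤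
  let τ : N.val.obj (op (CohB1.genLocus M s)) := res N hA'.ge τ₀
  obtain ⟨k, hk, t', ht'⟩ := @extend_top X _ _ N hNq M hM s τ
  let u := homOfSec _ t'
  let pA := resHom (CohB1.genLocus M s).ι (SecTwist.powHom s k)
  have hpA : CohB1.genLocus _ pA = ⊤ := by
    rw [genLocus_resHom, genLocus_powHom' hM s k hk]
    exact (CohB1.genLocus M s).ι_preimage_self
  have key : resHom (CohB1.genLocus M s).ι u = SecTwist.tmulHom t pA ≫
      (restrictTensorIso (CohB1.genLocus M s).ι N (CohB1.tensorPow M k)).inv := by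
    apply hom_ext_val_top
    rw [val_resHom, val_comp, SecTwist.val_tmulHom, val_resHom, SecTwist.val_powHom]
    rw [restrictTensorIso_inv_tmul]
    change SecTwist.val (homOfSec _ t') _ = SecTwist.twist s k N _ τ₀
    rw [val_homOfSec]
    have h1 : res _ hA'.ge (res _ (le_top : (CohB1.genLocus M s).ι ''ᵁ ⊤ ≤ ⊤) t') =
        res _ hA'.ge (SecTwist.twist s k N _ τ₀) := by
      rw [res_res, res_twist]; exact ht'
    have h2 := congrArg (res _ hA'.le) h1
    have e2 : ∀ y : (CohB1.tensorMod N (CohB1.tensorPow M k)).val.obj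
        (op ((CohB1.genLocus M s).ι ''ᵁ ⊤)), res _ hA'.le (res _ hA'.ge y) = y := by
      intro y
      rw [res_res]
      exact res_self _ _ _
    rw [e2, e2] at h2
    exact h2
  have h3 : (CohB1.genLocus M s).ι ⁻¹ᵁ CohB1.genLocus _ u = CohB1.genLocus _ t := by
    rw [← genLocus_resHom, key]
    have := genLocus_comp_iso (SecTwist.tmulHom t pA)
      (restrictTensorIso (CohB1.genLocus M s).ι N (CohB1.tensorPow M k)).symm
    rw [Iso.symm_hom] at this
    rw [this, genLocus_tmulHom (isInvertible_restrict _ hN)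
      (isInvertible_restrict _ (isInvertible_tensorPow hM k)), hpA, inf_top_eq]
  refine ⟨k, SecTwist.tmulHom u s, ?_⟩
  rw [genLocus_tmulHom (isInvertible_tensorMod hN (isInvertible_tensorPow hM k)) hM, ← h3,
    Scheme.Hom.image_preimage_eq_opensRange_inf, Scheme.Opens.opensRange_ι, inf_comm]

/-- Extension of sections from a basic open `D(h)`, `h` a global function: for an invertible `N` on a
qcqs scheme and a section `t` of `N` over `D(h)`, there is a global section `w` of `N` with
`X_w = D(h)_t`. -/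
theorem exists_extend_section_basicOpen [CompactSpace X] [QuasiSeparatedSpace X] {N : X.Modules}
    (hN : PicF.IsInvertible N) (h : Γ(X, ⊤))
    (t : Coh.structureModule (↑(X.basicOpen h) : Scheme.{u}) ⟶ N.restrict (X.basicOpen h).ι) :
    ∃ w : Coh.structureModule X ⟶ N,
      CohB1.genLocus N w = (X.basicOpen h).ι ''ᵁ CohB1.genLocus _ t := by
  obtain ⟨k, w, hw⟩ := exists_extend_section hN (isInvertible_structureModule X) (fnHom h)
    (X.basicOpen h) (genLocus_fnHom h).symm t
  let e : CohB1.tensorMod (CohB1.tensorMod N (CohB1.tensorPow (Coh.structureModule X) k))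
      (Coh.structureModule X) ≅ N :=
    Groth.Agent.Lib.Lead.ModTensor.rightUnitor _ ≪≫
      Groth.Agent.Lib.Lead.ModTensor.tensorIso (Iso.refl N)
        (Groth.Agent.Lib.Lead.ModTensor.tensorPowUnit k) ≪≫
      Groth.Agent.Lib.Lead.ModTensor.rightUnitor N
  exact ⟨w ≫ e.hom, by rw [genLocus_comp_iso, hw]⟩

/-- On a quasi-affine scheme every invertible module is ample (EGA II 5.1.2 / 4.5.?). -/
theorem isAmple_of_isQuasiAffine [X.IsQuasiAffine] {L : X.Modules} (hL : PicF.IsInvertible L) :
    CohB1.IsAmple L := by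
  refine ⟨hL, inferInstance, fun x => ?_⟩
  obtain ⟨U, hU, hxU, -, hT⟩ := exists_affine_isTrivOn hL x ⊤ trivial
  obtain ⟨_, ⟨_, ⟨h, hh, rfl⟩, rfl⟩, hxh, hhU⟩ :=
    (Scheme.IsQuasiAffine.isBasis_basicOpen X).exists_subset_of_mem_open hxU U.2
  obtain ⟨e⟩ := IsTrivOn.of_le (show X.basicOpen h ≤ U from hhU) hT
  obtain ⟨w, hw⟩ := exists_extend_section_basicOpen hL h e.inv
  have h1 : CohB1.genLocus _ e.inv = ⊤ := by
    rw [genLocus_eq_top_iff]; infer_instance
  rw [h1, Scheme.Opens.ι_image_top] at hw
  refine ⟨0, SecTwist.powHom w 1, ?_, ?_⟩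
  · rw [genLocus_powHom hL, hw]; exact hxh
  · rw [genLocus_powHom hL, hw]; exact hh

/-- An invertible module is ample relative to the identity (EGA II 4.6.? / 5.1.?). -/
theorem isRelAmple_id {Y : Scheme.{u}} {L : Y.Modules} (hL : PicF.IsInvertible L) :
    RelAmple.IsRelAmple (𝟙 Y) L := by
  refine ⟨inferInstance, fun V => ?_⟩
  have h1 : IsAffineOpen ((𝟙 Y) ⁻¹ᵁ V.1) := V.2.preimage (𝟙 Y)
  have : IsAffine (↑((𝟙 Y) ⁻¹ᵁ V.1) : Scheme.{u}) := h1
  exact isAmple_of_isQuasiAffine (isInvertible_restrict _ hL)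

end Groth.Agent.Lib.helper12.SecExtend
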