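import Mathlib
import Groth.Agent.Lib.Helper12.ProjUP3
import Groth.Agent.Lib.Helper12.TwistKill
import Groth.Agent.Lib.Helper12.TensorSec
import Groth.Agent.Lib.Helper12.SecExtend
import Groth.Agent.Lib.Helper12.PullTensor

/-
helper12: tools for the universal property of projective space (S3572), part 4.

* `germ_smul''`, `restrict_smul` (module structure on a restriction to an open subscheme).
* `exists_mem_genLocus_of_span`: if the germs at `x` of finitely many sections of an invertible module span the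
  stalk, one of the sections generates at `x`.
* `fn_ratioEnd`, `restrict_comp_inv_eq`: comparison of `t'/t` and `w'/w` through the ratio functions.
* `pullHom h t` (pullback of a section, as a morphism `O_Y ⟶ h^*M`), `unitSec_smul`, `sec_pullHom`,
  `le_genLocus_pullHom`, `ratio_pullHom`.
-/

set_option autoImplicit false
universe u

open CategoryTheory CategoryTheory.Limits AlgebraicGeometry Opposite TopologicalSpace

namespace Groth.Agent.Lib.helper12.ProjUP4

open Groth.Agent.Lib.helper11.IsoLocus Groth.Agent.Lib.helper11.InvHom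
open Groth.Agent.Lib.helper11.GenLocus Groth.Agent.Lib.helper11.InvMod
open Groth.Agent.Lib.helper12.TwistKill Groth.Agent.Lib.helper12.TensorSec
open Groth.Agent.Lib.helper12.TwistExtend Groth.Agent.Lib.helper12.SecExtend
open Groth.Agent.Lib.helper12.ProjUP3 Groth.Agent.Lib.helper12.PullTensor
open Groth.Agent.Lib.helper11.InvPullback
open Scheme.Modules

section

variable {X : Scheme.{u}}

theorem germ_smul'' (F : X.Modules) (U : X.Opens) (x : X) (hx : x ∈ U) (r : Γ(X, U)) (m : Γ(F, U)) :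
    (F.presheaf.germ U x hx).hom (r • m) =
      (X.presheaf.germ U x hx).hom r • (F.presheaf.germ U x hx).hom m :=
  PresheafOfModules.germ_smul (R := X.presheaf)
    (show PresheafOfModules (X.presheaf ⋙ forget₂ CommRingCat RingCat) from F.val) x U hx r m

theorem restrict_smul (A : X.Opens) (L : X.Modules) (V' : (↑A : Scheme.{u}).Opens)
    (c : Γ(X, A.ι ''ᵁ V')) (m : Γ(L, A.ι ''ᵁ V')) :
    @HSMul.hSMul Γ((↑A : Scheme.{u}), V') Γ(L.restrict A.ι, V') Γ(L.restrict A.ι, V') _ c m =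
      c • m := by
  have h : @HSMul.hSMul Γ((↑A : Scheme.{u}), V') Γ(L.restrict A.ι, V') Γ(L.restrict A.ι, V') _ c m =
      ((A.ι.appIso V').inv.hom c : Γ(X, A.ι ''ᵁ V')) • m := rfl
  rw [h, Scheme.Opens.ι_appIso]
  rfl

theorem exists_mem_genLocus_of_span {L : X.Modules} (hL : PicF.IsInvertible L) {k : ℕ}
    (σ : Fin k → (Coh.structureModule X ⟶ L)) (x : X)
    (hs : Submodule.span (X.presheaf.stalk x)
      (Set.range fun i => (L.presheaf.germ ⊤ x trivial).hom (sec (σ i) ⊤)) = ⊤) :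
    ∃ i, x ∈ CohB1.genLocus L (σ i) := by
  obtain ⟨A, hA, hxA, -, ⟨e⟩⟩ := exists_affine_isTrivOn hL x ⊤ trivial
  have hxV : x ∈ A.ι ''ᵁ ⊤ := by rw [Scheme.Opens.ι_image_top]; exact hxA
  let t₀ : Γ(L, A.ι ''ᵁ ⊤) := (e.inv.app ⊤).hom (1 : Γ((↑A : Scheme.{u}), ⊤))
  let f : Fin k → Γ(X, A.ι ''ᵁ ⊤) := fun i => fn (localEnd (σ i) (restrictUnitIso A.ι) e) ⊤
  have h1 : ∀ i, sec (σ i) (A.ι ''ᵁ ⊤) = f i • t₀ := by
    intro i
    have e1 : localEnd (σ i) (restrictUnitIso A.ι) e ≫ e.inv =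
        (restrictUnitIso A.ι).inv ≫ (restrictFunctor A.ι).map (σ i) := by
      simp [localEnd]
    have e2 : sec (localEnd (σ i) (restrictUnitIso A.ι) e ≫ e.inv) ⊤ =
        sec ((restrictUnitIso A.ι).inv ≫ (restrictFunctor A.ι).map (σ i)) ⊤ := by rw [e1]
    rw [sec_comp, sec_comp] at e2
    have e3 : (e.inv.app ⊤).hom (sec (localEnd (σ i) (restrictUnitIso A.ι) e) ⊤) = f i • t₀ := by
      have h := Hom.app_smul e.inv (fn (localEnd (σ i) (restrictUnitIso A.ι) e) ⊤)
        ((1 : Γ((↑A : Scheme.{u}), ⊤)) : Γ(Coh.structureModule (↑A : Scheme.{u}), ⊤))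
      have e4 : fn (localEnd (σ i) (restrictUnitIso A.ι) e) ⊤ •
          ((1 : Γ((↑A : Scheme.{u}), ⊤)) : Γ(Coh.structureModule (↑A : Scheme.{u}), ⊤)) =
          sec (localEnd (σ i) (restrictUnitIso A.ι) e) ⊤ := mul_one _
      exact ((congrArg (e.inv.app ⊤).hom e4).symm.trans h).trans (restrict_smul A L ⊤ _ _)
    have e5 : (((restrictFunctor A.ι).map (σ i)).app ⊤).hom (sec (restrictUnitIso A.ι).inv ⊤) =
        sec (σ i) (A.ι ''ᵁ ⊤) := by
      have h6 : @Eq Γ(X, A.ι ''ᵁ ⊤) (sec (restrictUnitIso A.ι).inv ⊤) 1 := by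
        change ((A.ι.appIso ⊤).inv.hom (1 : Γ((↑A : Scheme.{u}), ⊤)) : Γ(X, A.ι ''ᵁ ⊤)) = 1
        exact map_one _
      exact congrArg ((σ i).app (A.ι ''ᵁ ⊤)).hom h6
    rw [← e5, ← e2, e3]
  let g := (L.presheaf.germ (A.ι ''ᵁ ⊤) x hxV).hom t₀
  have h2 : ∀ i, (L.presheaf.germ ⊤ x trivial).hom (sec (σ i) ⊤) =
      (X.presheaf.germ (A.ι ''ᵁ ⊤) x hxV).hom (f i) • g := by
    intro i
    rw [← germ_smul'', ← h1, ← res_sec (σ i) (homOfLE le_top : A.ι ''ᵁ ⊤ ⟶ ⊤)]
    exact (TopCat.Presheaf.germ_res_apply L.presheaf (homOfLE le_top : A.ι ''ᵁ ⊤ ⟶ ⊤) x hxV _).symm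
  have hg : g ≠ 0 := by
    intro hg0
    obtain ⟨W, hxW, iU, iV, hW⟩ := TopCat.Presheaf.germ_eq L.presheaf x hxV hxV t₀ 0
      (by rw [map_zero]; exact hg0)
    rw [map_zero] at hW
    let x' : (↑A : Scheme.{u}) := ⟨x, hxA⟩
    let W' : (↑A : Scheme.{u}).Opens := A.ι ⁻¹ᵁ W
    have hx' : x' ∈ W' := hxW
    have hle : A.ι ''ᵁ W' ≤ W := by
      rw [Scheme.Hom.image_preimage_eq_opensRange_inf]
      exact inf_le_right
    have h3 : L.presheaf.map (homOfLE (hle.trans iU.le)).op t₀ = 0 := by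
      have h' : L.presheaf.map (homOfLE hle).op (L.presheaf.map iU.op t₀) = 0 := by
        rw [hW, map_zero]
      rw [← h', ← ConcreteCategory.comp_apply, ← Functor.map_comp]
      rfl
    have h4 := naturality_apply' e.hom (le_top : W' ≤ ⊤) t₀
    have h5 : (e.hom.val.app (op ⊤)).hom t₀ = (1 : Γ((↑A : Scheme.{u}), ⊤)) := by
      have h6 : sec (e.inv ≫ e.hom) ⊤ = (1 : Γ((↑A : Scheme.{u}), ⊤)) := by
        rw [e.inv_hom_id]; rfl
      exact h6
    have h7 : (L.restrict A.ι).val.map (homOfLE (le_top : W' ≤ ⊤)).op t₀ = 0 := h3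
    have h4' := h4.trans ((congrArg (e.hom.val.app (op W')).hom h7).trans (map_zero _))
    have h8 : (1 : Γ((↑A : Scheme.{u}), W')) = 0 := by
      refine Eq.trans ?_ h4'
      refine Eq.trans ?_ (congrArg ((Coh.structureModule (↑A : Scheme.{u})).val.map
        (homOfLE (le_top : W' ≤ ⊤)).op).hom h5.symm)
      exact (map_one ((↑A : Scheme.{u}).presheaf.map (homOfLE (le_top : W' ≤ ⊤)).op).hom).symm
    have h9 := congrArg ((↑A : Scheme.{u}).presheaf.germ W' x' hx').hom h8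
    rw [map_one, map_zero] at h9
    exact one_ne_zero h9
  by_contra hcon
  push Not at hcon
  have h3 : ∀ i, (X.presheaf.germ (A.ι ''ᵁ ⊤) x hxV).hom (f i) ∈
      IsLocalRing.maximalIdeal (X.presheaf.stalk x) := by
    intro i
    rw [IsLocalRing.mem_maximalIdeal, mem_nonunits_iff]
    intro hu
    apply hcon i
    have hb : x ∈ X.basicOpen (f i) := (X.mem_basicOpen (f i) x hxV).mpr hu
    have hb' : x ∈ A.ι ''ᵁ ((↑A : Scheme.{u}).basicOpen
        (fn (localEnd (σ i) (restrictUnitIso A.ι) e) ⊤)) := by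
      rw [Scheme.Opens.ι_image_basicOpen]
      exact hb
    obtain ⟨y, hy, hyx⟩ := hb'
    rw [basicOpen_fn_localEnd] at hy
    have hy' : A.ι y ∈ CohB1.genLocus L (σ i) := hy
    have hyx' : A.ι y = x := hyx
    rwa [hyx'] at hy'
  have h4 : g ∈ Submodule.span (X.presheaf.stalk x)
      (Set.range fun i => (L.presheaf.germ ⊤ x trivial).hom (sec (σ i) ⊤)) := by
    rw [hs]; trivial
  obtain ⟨a, ha⟩ := (Submodule.mem_span_range_iff_exists_fun _).mp h4
  simp_rw [h2, smul_smul] at ha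
  rw [← Finset.sum_smul] at ha
  have hu : (∑ i, a i * (X.presheaf.germ (A.ι ''ᵁ ⊤) x hxV).hom (f i)) ∈
      IsLocalRing.maximalIdeal (X.presheaf.stalk x) :=
    Ideal.sum_mem _ fun i _ => Ideal.mul_mem_left _ _ (h3 i)
  have h5 : (1 - ∑ i, a i * (X.presheaf.germ (A.ι ''ᵁ ⊤) x hxV).hom (f i)) • g = 0 := by
    rw [sub_smul, one_smul, ha, sub_self]
  have h6 : IsUnit (1 - ∑ i, a i * (X.presheaf.germ (A.ι ''ᵁ ⊤) x hxV).hom (f i)) :=
    IsLocalRing.isUnit_one_sub_self_of_mem_nonunits _ hu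
  exact hg (h6.smul_eq_zero.mp h5)




/-- The endomorphism of `O_U` describing `t' / t` is the ratio function. -/
theorem fn_ratioEnd {M : X.Modules} (t t' : Coh.structureModule X ⟶ M) (U : X.Opens)
    (hU : U.ι ''ᵁ ⊤ ≤ CohB1.genLocus M t)
    (E : Coh.structureModule (↑U : Scheme.{u}) ⟶ Coh.structureModule (↑U : Scheme.{u}))
    (hE : E ≫ resHom U.ι t = resHom U.ι t') :
    fn E ⊤ = ratio t t' (U.ι ''ᵁ ⊤) hU := by
  refine eq_ratio t t' (U.ι ''ᵁ ⊤) hU (show Γ(X, U.ι ''ᵁ ⊤) from fn E ⊤) ?_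
  have h1 : sec (E ≫ resHom U.ι t) ⊤ = sec (resHom U.ι t') ⊤ := by rw [hE]
  rw [sec_comp] at h1
  have h3 : sec (resHom U.ι t') ⊤ = sec t' (U.ι ''ᵁ ⊤) := val_resHom U.ι t' ⊤
  have h4 : sec (resHom U.ι t) ⊤ = sec t (U.ι ''ᵁ ⊤) := val_resHom U.ι t ⊤
  have h2 := app_apply (resHom U.ι t) ⊤ (fn E ⊤)
  rw [h4] at h2
  exact ((restrict_smul U M ⊤ _ _).symm.trans h2.symm).trans (h1.trans h3)

theorem restrict_comp_inv_eq {M M' : X.Modules} (t t' : Coh.structureModule X ⟶ M)
    (w w' : Coh.structureModule X ⟶ M') (U : X.Opens)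
    (hU : U.ι ''ᵁ ⊤ ≤ CohB1.genLocus M t) (hU' : U.ι ''ᵁ ⊤ ≤ CohB1.genLocus M' w)
    (e : (Coh.structureModule X).restrict U.ι ≅ M.restrict U.ι)
    (he : e.hom = (restrictFunctor U.ι).map t)
    (e' : (Coh.structureModule X).restrict U.ι ≅ M'.restrict U.ι)
    (he' : e'.hom = (restrictFunctor U.ι).map w)
    (hratio : ratio t t' (U.ι ''ᵁ ⊤) hU = ratio w w' (U.ι ''ᵁ ⊤) hU') :
    (restrictFunctor U.ι).map t' ≫ e.inv = (restrictFunctor U.ι).map w' ≫ e'.inv := by
  have key : (restrictUnitIso U.ι).inv ≫ ((restrictFunctor U.ι).map t' ≫ e.inv) ≫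
        (restrictUnitIso U.ι).hom =
      (restrictUnitIso U.ι).inv ≫ ((restrictFunctor U.ι).map w' ≫ e'.inv) ≫
        (restrictUnitIso U.ι).hom := by
    apply hom_ext_val_top
    have h1 := fn_ratioEnd t t' U hU ((restrictUnitIso U.ι).inv ≫
        ((restrictFunctor U.ι).map t' ≫ e.inv) ≫ (restrictUnitIso U.ι).hom) (by
      unfold resHom
      simp only [Category.assoc, Iso.hom_inv_id_assoc]
      rw [← he, Iso.inv_hom_id, Category.comp_id])
    have h2 := fn_ratioEnd w w' U hU' ((restrictUnitIso U.ι).inv ≫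
        ((restrictFunctor U.ι).map w' ≫ e'.inv) ≫ (restrictUnitIso U.ι).hom) (by
      unfold resHom
      simp only [Category.assoc, Iso.hom_inv_id_assoc]
      rw [← he', Iso.inv_hom_id, Category.comp_id])
    exact h1.trans (hratio.trans h2.symm)
  have k2 := (cancel_epi (restrictUnitIso U.ι).inv).mp key
  exact (cancel_mono (restrictUnitIso U.ι).hom).mp k2


end

section

variable {X Y : Scheme.{u}} (h : Y ⟶ X)

/-- The pullback of a section (as a morphism). -/
noncomputable def pullHom {M : X.Modules} (t : Coh.structureModule X ⟶ M) :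
    Coh.structureModule Y ⟶ (Scheme.Modules.pullback h).obj M :=
  (pullbackUnitIso h).inv ≫ (Scheme.Modules.pullback h).map t

theorem unitSec_smul (M : X.Modules) (U : X.Opens) (a : Γ(X, U)) (m : Γ(M, U)) :
    unitSec h M U (a • m) =
      ((h.app U a : Γ(Y, h ⁻¹ᵁ U)) • unitSec h M U m :
        Γ((Scheme.Modules.pullback h).obj M, h ⁻¹ᵁ U)) := by
  exact Hom.app_smul ((pbAdj h).unit.app M) a m

theorem sec_pullHom {M : X.Modules} (t : Coh.structureModule X ⟶ M) (U : X.Opens) :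
    sec (pullHom h t) (h ⁻¹ᵁ U) = unitSec h M U (sec t U) := by
  unfold pullHom
  rw [sec_comp]
  have h1 : sec (pullbackUnitIso h).inv (h ⁻¹ᵁ U) =
      unitSec h (Coh.structureModule X) U ((1 : Γ(X, U)) : Γ(Coh.structureModule X, U)) := by
    have h2 := pullbackUnitIso_hom_unitSec h U 1
    rw [map_one] at h2
    have h3 := congrArg ((pullbackUnitIso h).inv.val.app (op (h ⁻¹ᵁ U))).hom h2
    have h4 : ∀ y, ((pullbackUnitIso h).inv.val.app (op (h ⁻¹ᵁ U))).hom
        (((pullbackUnitIso h).hom.val.app (op (h ⁻¹ᵁ U))).hom y) = y := by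
      intro y
      have h5 : (pullbackUnitIso h).hom ≫ (pullbackUnitIso h).inv = 𝟙 _ := Iso.hom_inv_id _
      exact congrArg (fun φ : (Scheme.Modules.pullback h).obj (Coh.structureModule X) ⟶
        (Scheme.Modules.pullback h).obj (Coh.structureModule X) =>
        (φ.val.app (op (h ⁻¹ᵁ U))).hom y) h5
    rw [h4] at h3
    exact h3.symm
  rw [h1]
  exact unitSec_naturality h t U _

theorem le_genLocus_pullHom {M : X.Modules} (hM : PicF.IsInvertible M)
    (t : Coh.structureModule X ⟶ M) :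
    h ⁻¹ᵁ CohB1.genLocus M t ≤ CohB1.genLocus _ (pullHom h t) := by
  unfold pullHom
  exact (genLocus_pullback h M hM t (pullbackUnitIso h).symm).ge

theorem ratio_pullHom {M : X.Modules} (t t' : Coh.structureModule X ⟶ M) (U : X.Opens)
    (hU : U ≤ CohB1.genLocus M t) (hV : h ⁻¹ᵁ U ≤ CohB1.genLocus _ (pullHom h t)) :
    ratio (pullHom h t) (pullHom h t') (h ⁻¹ᵁ U) hV = h.app U (ratio t t' U hU) := by
  symm
  apply eq_ratio
  rw [sec_pullHom, sec_pullHom]
  refine (unitSec_smul h M U (ratio t t' U hU) (sec t U)).symm.trans ?_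
  rw [ratio_smul]


end

end Groth.Agent.Lib.helper12.ProjUP4
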