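import Mathlib
import Groth.Agent.Lib.Helper12.ProjUP4
import Groth.Agent.Lib.Helper28.TwistPn

/-
helper12: tools for the universal property of projective space (S3572), part 5: the coordinate sections of
`O(1)` on `P^n_R`.

* `xl`, `tP l : O ⟶ O(1)` (the section `x_l`), `Dp i = D₊(x_i)`, `genLocus_tP`, `cP i l = x_l / x_i` on `D₊(x_i)`,
  `cP_smul`, `cP_eq` (in terms of `Proj.awayToSection`), `chart_appLE_cP` (pullback of `x_l / x_i` along the
  chart defined by sections `σ` is `σ_l / σ_i`).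
-/

set_option autoImplicit false
universe u

open CategoryTheory CategoryTheory.Limits AlgebraicGeometry Opposite TopologicalSpace

namespace Groth.Agent.Lib.helper12.ProjUP5

open Groth.Agent.Lib.helper11.IsoLocus Groth.Agent.Lib.helper11.InvHom
open Groth.Agent.Lib.helper11.GenLocus Groth.Agent.Lib.helper11.InvMod
open Groth.Agent.Lib.helper12.ProjUP1 Groth.Agent.Lib.helper12.ProjUP3
open Groth.Agent.Lib.helper12.ProjUP4
open Groth.Agent.Lib.helper28.TwistSecHom Groth.Agent.Lib.helper28.TwistFree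
open Scheme.Modules HomogeneousLocalization

variable (R : Type u) [CommRing R] (n : ℕ)

/-- The coordinate `x_l` as a homogeneous element of degree one. -/
noncomputable def xl (l : Fin (n + 1)) : CohB1.polyGrading n R 1 :=
  ⟨MvPolynomial.X l, Groth.Agent.Lib.helper28.TwistPn.X_mem n R l⟩

/-- The section `x_l` of `O(1)`, as a morphism. -/
noncomputable def tP (l : Fin (n + 1)) :
    Coh.structureModule (Proj (CohB1.polyGrading n R)) ⟶
      Twist.twist (CohB1.polyGrading n R) ((1 : ℕ) : ℤ) :=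
  secHom (CohB1.polyGrading n R) (xl R n l)

/-- `D₊(x_i)`. -/
noncomputable abbrev Dp (i : Fin (n + 1)) : (Proj (CohB1.polyGrading n R)).Opens :=
  Proj.basicOpen (CohB1.polyGrading n R) (MvPolynomial.X i : MvPolynomial (Fin (n + 1)) R)

theorem genLocus_tP (i : Fin (n + 1)) :
    CohB1.genLocus _ (tP R n i) = Dp R n i :=
  genLocus_secHom (CohB1.polyGrading n R) one_pos (xl R n i)
    (Groth.Agent.Lib.helper28.TwistPn.hcov n R)

theorem notMem_Dp (i : Fin (n + 1)) (x : Dp R n i) :
    (xl R n i).1 ∉ x.1.asHomogeneousIdeal :=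
  (ProjectiveSpectrum.mem_basicOpen (CohB1.polyGrading n R) _ x.1).mp x.2

/-- The function `x_l / x_i` on `D₊(x_i)`. -/
noncomputable def cP (i l : Fin (n + 1)) : Γ(Proj (CohB1.polyGrading n R), Dp R n i) :=
  fracSectO (CohB1.polyGrading n R) (Dp R n i) (xl R n l) (xl R n i) (notMem_Dp R n i)

theorem sec_tP (l : Fin (n + 1)) (W : (Proj (CohB1.polyGrading n R)).Opens) :
    sec (tP R n l) W = globalOfOn (CohB1.polyGrading n R) (xl R n l) W := by
  have h := secHom_app (CohB1.polyGrading n R) (xl R n l) W 1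
  rw [one_smul] at h
  exact h

theorem cP_smul (i l : Fin (n + 1)) :
    cP R n i l • sec (tP R n i) (Dp R n i) = sec (tP R n l) (Dp R n i) := by
  rw [sec_tP, sec_tP]
  refine sectN_ext' (CohB1.polyGrading n R) _ _ fun x => ?_
  have h1 := smul_val (CohB1.polyGrading n R) (n := ((1 : ℕ) : ℤ))
    (show Twist.O (𝒜 := CohB1.polyGrading n R) (op (Dp R n i)) from cP R n i l)
    (globalOfOn (CohB1.polyGrading n R) (xl R n i) (Dp R n i)) x
  refine h1.trans ?_
  unfold cP globalOfOn
  rw [fracSectO_val, fracSectN_val, fracSectN_val, Localization.mk_mul,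
    Localization.mk_eq_mk_iff, Localization.r_iff_exists]
  refine ⟨1, ?_⟩
  simp only [OneMemClass.coe_one, one_mul, Submonoid.coe_mul, mul_one]
  ring

theorem Xl_mem (_i l : Fin (n + 1)) :
    (MvPolynomial.X l : MvPolynomial (Fin (n + 1)) R) ∈ CohB1.polyGrading n R (1 • 1) :=
  Groth.Agent.Lib.helper28.TwistPn.X_mem n R l

theorem cP_eq (i l : Fin (n + 1)) :
    cP R n i l = (Proj.awayToSection (CohB1.polyGrading n R)
      (MvPolynomial.X i : MvPolynomial (Fin (n + 1)) R)).hom
      (Away.mk (CohB1.polyGrading n R) (Groth.Agent.Lib.helper28.TwistPn.X_mem n R i) 1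
        (MvPolynomial.X l) (Xl_mem R n i l)) := by
  refine O_ext' (CohB1.polyGrading n R) _ _ fun x => ?_
  unfold cP
  rw [fracSectO_val]
  change _ = (HomogeneousLocalization.mapId (CohB1.polyGrading n R) _
    (Away.mk (CohB1.polyGrading n R) (Groth.Agent.Lib.helper28.TwistPn.X_mem n R i) 1
        (MvPolynomial.X l) (Xl_mem R n i l))).val
  rw [Away.mk, HomogeneousLocalization.mapId, HomogeneousLocalization.map_mk,
    HomogeneousLocalization.val_mk]
  rw [Localization.mk_eq_mk_iff, Localization.r_iff_exists]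
  refine ⟨1, ?_⟩
  simp only [OneMemClass.coe_one, one_mul, GradedRingHom.id_apply, pow_one]
  rfl

section Concrete

variable {R n}
variable {X : Scheme.{u}} (q : X ⟶ Spec (CommRingCat.of R))
  {L : X.Modules} (σ : Fin (n + 1) → (Coh.structureModule X ⟶ L))

theorem chart_appLE_cP (i l : Fin (n + 1))
    (e : (⊤ : (↑(gU σ i) : Scheme.{u}).Opens) ≤
      (chart (psi q σ i) (ProjUP3.X_mem i) one_pos (isUnit_psi q σ i)) ⁻¹ᵁ Dp R n i) :
    ((chart (psi q σ i) (ProjUP3.X_mem i) one_pos (isUnit_psi q σ i)).appLE (Dp R n i) ⊤ e).hom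
      (cP R n i l) = aFn σ i l := by
  have h1 := chart_appLE (psi q σ i) (ProjUP3.X_mem i) one_pos (isUnit_psi q σ i)
  have h2 : (chart (psi q σ i) (ProjUP3.X_mem i) one_pos (isUnit_psi q σ i)).appLE (Dp R n i) ⊤ e =
      (Proj.basicOpenIsoAway (CohB1.polyGrading n R) _ (ProjUP3.X_mem i) one_pos).inv ≫
        CommRingCat.ofHom (awayHom (CohB1.polyGrading n R) (psi q σ i) _ (isUnit_psi q σ i)) := h1
  rw [h2, cP_eq]
  have h3 : (Proj.basicOpenIsoAway (CohB1.polyGrading n R) _ (ProjUP3.X_mem i) one_pos).inv.hom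
      ((Proj.awayToSection (CohB1.polyGrading n R)
        (MvPolynomial.X i : MvPolynomial (Fin (n + 1)) R)).hom
        (Away.mk (CohB1.polyGrading n R) (Groth.Agent.Lib.helper28.TwistPn.X_mem n R i) 1
          (MvPolynomial.X l) (Xl_mem R n i l))) =
      Away.mk (CohB1.polyGrading n R) (Groth.Agent.Lib.helper28.TwistPn.X_mem n R i) 1
          (MvPolynomial.X l) (Xl_mem R n i l) := by
    rw [← Proj.basicOpenIsoAway_hom (CohB1.polyGrading n R) _ (ProjUP3.X_mem i) one_pos]
    exact ConcreteCategory.congr_hom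
      (Proj.basicOpenIsoAway (CohB1.polyGrading n R) _ (ProjUP3.X_mem i) one_pos).hom_inv_id _
  change awayHom (CohB1.polyGrading n R) (psi q σ i) _ (isUnit_psi q σ i)
    ((Proj.basicOpenIsoAway (CohB1.polyGrading n R) _ (ProjUP3.X_mem i) one_pos).inv.hom _) = _
  rw [h3]
  rw [awayHom_mk (CohB1.polyGrading n R) (psi q σ i) (isUnit_psi q σ i)
    (Groth.Agent.Lib.helper28.TwistPn.X_mem n R i) 1 _ _ 1 (by rw [mul_one, psi_X, aFn_self]),
    one_pow, mul_one, psi_X]

end Concrete

end Groth.Agent.Lib.helper12.ProjUP5
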