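import Mathlib
import Groth.Agent.Lib.Helper12.ProjUP5
import Groth.Agent.Lib.Helper12.ProjUP2

/-
helper12: tools for the universal property of projective space (S3572), part 6: the comparison isomorphism
`r^*O(1) ≅ L` for the morphism `r : X ⟶ P^n_R` glued from the charts of sections `σ`.

* `nu r l` (pulled-back coordinate sections), `image_le_preimage`, `image_le_genLocus_nu`, `ratio_nu`,
  `epi_desc_nu`, `exists_iso_nu`.
-/

set_option autoImplicit false
universe u

open CategoryTheory CategoryTheory.Limits AlgebraicGeometry Opposite TopologicalSpace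

namespace Groth.Agent.Lib.helper12.ProjUP6

open Groth.Agent.Lib.helper11.IsoLocus Groth.Agent.Lib.helper11.InvHom
open Groth.Agent.Lib.helper11.GenLocus Groth.Agent.Lib.helper11.InvMod
open Groth.Agent.Lib.helper12.ProjUP1 Groth.Agent.Lib.helper12.ProjUP3
open Groth.Agent.Lib.helper12.ProjUP4 Groth.Agent.Lib.helper12.ProjUP5
open Groth.Agent.Lib.helper12.ProjUP2
open Groth.Agent.Lib.helper28.TwistSecHom Groth.Agent.Lib.helper28.TwistFree
open Scheme.Modules HomogeneousLocalization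

variable {R : Type u} [CommRing R] {n : ℕ}
variable {X : Scheme.{u}} (q : X ⟶ Spec (CommRingCat.of R))
  {L : X.Modules} (σ : Fin (n + 1) → (Coh.structureModule X ⟶ L))
  (r : X ⟶ Proj (CohB1.polyGrading n R))
  (hr : ∀ i, (gU σ i).ι ≫ r = chart (psi q σ i) (ProjUP3.X_mem i) one_pos (isUnit_psi q σ i))

/-- The pulled-back coordinate sections. -/
noncomputable def nu (l : Fin (n + 1)) :
    Coh.structureModule X ⟶
      (Scheme.Modules.pullback r).obj (Twist.twist (CohB1.polyGrading n R) ((1 : ℕ) : ℤ)) :=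
  pullHom r (tP R n l)

include hr in
theorem image_le_preimage (i : Fin (n + 1)) : (gU σ i).ι ''ᵁ ⊤ ≤ r ⁻¹ᵁ Dp R n i := by
  rintro _ ⟨x', -, rfl⟩
  change r ((gU σ i).ι x') ∈ Dp R n i
  have h1 : r ((gU σ i).ι x') = ((gU σ i).ι ≫ r) x' := rfl
  rw [h1, hr i]
  exact chart_le (psi q σ i) (ProjUP3.X_mem i) one_pos (isUnit_psi q σ i) (Set.mem_univ x')

theorem isInvertible_twist_one :
    PicF.IsInvertible (Twist.twist (CohB1.polyGrading n R) ((1 : ℕ) : ℤ)) :=
  Groth.Agent.Lib.helper28.TwistPn.isInvertible n R 1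

include hr in
theorem image_le_genLocus_nu (i : Fin (n + 1)) :
    (gU σ i).ι ''ᵁ ⊤ ≤ CohB1.genLocus _ (nu r i) := by
  refine (image_le_preimage q σ r hr i).trans ?_
  rw [← genLocus_tP R n i]
  exact le_genLocus_pullHom r isInvertible_twist_one (tP R n i)

theorem ratio_tP (i l : Fin (n + 1)) (hD : Dp R n i ≤ CohB1.genLocus _ (tP R n i)) :
    ratio (tP R n i) (tP R n l) (Dp R n i) hD = cP R n i l :=
  (eq_ratio (tP R n i) (tP R n l) (Dp R n i) hD (cP R n i l) (cP_smul R n i l)).symm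

theorem appLE_eq_of_eq {T P : Scheme.{u}} {g g' : T ⟶ P} (hg : g = g') (D : P.Opens) (W : T.Opens)
    (e : W ≤ g ⁻¹ᵁ D) (e' : W ≤ g' ⁻¹ᵁ D) : g.appLE D W e = g'.appLE D W e' := by
  subst hg
  rfl

include hr in
theorem ratio_nu (i l : Fin (n + 1)) :
    ratio (nu r i) (nu r l) ((gU σ i).ι ''ᵁ ⊤) (image_le_genLocus_nu q σ r hr i) = aFn σ i l := by
  have hD : Dp R n i ≤ CohB1.genLocus _ (tP R n i) := (genLocus_tP R n i).ge
  have hV : r ⁻¹ᵁ Dp R n i ≤ CohB1.genLocus _ (nu r i) := by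
    rw [← genLocus_tP R n i]
    exact le_genLocus_pullHom r isInvertible_twist_one (tP R n i)
  have h1 : ratio (nu r i) (nu r l) (r ⁻¹ᵁ Dp R n i) hV = r.app (Dp R n i) (cP R n i l) := by
    unfold nu
    rw [ratio_pullHom r (tP R n i) (tP R n l) (Dp R n i) hD, ratio_tP]
  have h2 := ratio_res (nu r i) (nu r l) (image_le_preimage q σ r hr i) hV
  rw [← h2, h1]
  have e : (⊤ : (↑(gU σ i) : Scheme.{u}).Opens) ≤ ((gU σ i).ι ≫ r) ⁻¹ᵁ Dp R n i := by
    intro x' _
    exact image_le_preimage q σ r hr i ⟨x', trivial, rfl⟩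
  have h3 : ((gU σ i).ι ≫ r).appLE (Dp R n i) ⊤ e =
      r.app (Dp R n i) ≫ X.presheaf.map (homOfLE (image_le_preimage q σ r hr i)).op := by
    rw [Scheme.Hom.comp_appLE, Scheme.Opens.ι_appLE]
    rfl
  have h4 := appLE_eq_of_eq (hr i) (Dp R n i) ⊤ e
    (chart_le (psi q σ i) (ProjUP3.X_mem i) one_pos (isUnit_psi q σ i))
  have h5 := chart_appLE_cP q σ i l
    (chart_le (psi q σ i) (ProjUP3.X_mem i) one_pos (isUnit_psi q σ i))
  rw [← h4, h3] at h5
  exact h5

include hr in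
theorem epi_desc_nu (hcov : ⨆ i, gU σ i = ⊤) :
    Epi (Sigma.desc (nu r) : FlatMod.freeMod X (n + 1) ⟶ _) := by
  refine Groth.Agent.Lib.helper28.TwistEpi.epi_desc_of_locally_generated (nu r) fun V s y hy => ?_
  have hy' : y ∈ ⨆ i, gU σ i := hcov ▸ trivial
  obtain ⟨i, hyi⟩ := Opens.mem_iSup.mp hy'
  have hW : V ⊓ gU σ i ≤ CohB1.genLocus _ (nu r i) := by
    refine le_trans ?_ (image_le_genLocus_nu q σ r hr i)
    rw [Scheme.Opens.ι_image_top]
    exact inf_le_right
  have hiso : IsIso ((nu r i).app (V ⊓ gU σ i)) := isIso_app_of_le_isoLocus (nu r i) hW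
  have hsurj := (ConcreteCategory.bijective_of_isIso ((nu r i).app (V ⊓ gU σ i))).2
  obtain ⟨c, hc⟩ := hsurj (((Scheme.Modules.pullback r).obj
    (Twist.twist (CohB1.polyGrading n R) ((1 : ℕ) : ℤ))).presheaf.map
      (homOfLE (inf_le_left : V ⊓ gU σ i ≤ V)).op s)
  exact ⟨V ⊓ gU σ i, inf_le_left, ⟨hy, hyi⟩, i, c, hc⟩

include hr in
theorem exists_iso_nu (hcov : ⨆ i, gU σ i = ⊤) :
    ∃ τ : (Scheme.Modules.pullback r).obj (Twist.twist (CohB1.polyGrading n R) ((1 : ℕ) : ℤ)) ≅ L,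
      ∀ l, nu r l ≫ τ.hom = σ l := by
  have hν : ∀ i, IsIso ((restrictFunctor (gU σ i).ι).map (nu r i)) := fun i => by
    rw [← le_genLocus_iff]
    have := image_le_genLocus_nu q σ r hr i
    rwa [Scheme.Opens.ι_image_top] at this
  have hσ : ∀ i, IsIso ((restrictFunctor (gU σ i).ι).map (σ i)) := fun i =>
    isIso_restrict_genLocus L (σ i)
  refine exists_iso_of_sections (nu r) σ (epi_desc_nu q σ r hr hcov) (gU σ) hcov
    (fun i => @asIso _ _ _ _ _ (hν i)) (fun i => rfl)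
    (fun i => @asIso _ _ _ _ _ (hσ i)) (fun i => rfl) fun i l => ?_
  refine restrict_comp_inv_eq (nu r i) (nu r l) (σ i) (σ l) (gU σ i)
    (image_le_genLocus_nu q σ r hr i) (image_top_le σ i) _ rfl _ rfl ?_
  rw [ratio_nu q σ r hr i l]
  rfl

end Groth.Agent.Lib.helper12.ProjUP6
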