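import Mathlib
import Groth.Agent.Lib.Helper12.ProjUP6

/-
helper12: general-index versions of the tools for maps to `Proj` (towards S3591 / S3592 / S3573).

* `exists_iso_of_sectionsI`, `epi_desc_of_locally_generatedI`, `exists_mem_genLocus_of_spanI`: versions of
  `ProjUP2.exists_iso_of_sections`, helper28 `epi_desc_of_locally_generated`, `ProjUP4.exists_mem_genLocus_of_span`
  for an arbitrary index type.
-/

set_option autoImplicit false
universe u

open CategoryTheory CategoryTheory.Limits AlgebraicGeometry Opposite TopologicalSpace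

namespace Groth.Agent.Lib.helper12.ProjG

open Groth.Agent.Lib.helper11.IsoLocus Groth.Agent.Lib.helper11.InvHom
open Groth.Agent.Lib.helper11.GenLocus Groth.Agent.Lib.helper11.InvMod
open Groth.Agent.Lib.helper12.ProjUP1 Groth.Agent.Lib.helper12.ProjUP2
open Groth.Agent.Lib.helper12.ProjUP3 Groth.Agent.Lib.helper12.ProjUP4
open Groth.Agent.Lib.helper12.TwistKill Groth.Agent.Lib.helper12.TensorSec
open Groth.Agent.Lib.helper12.TwistExtend
open Scheme.Modules

variable {X : Scheme.{u}}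

/-- `exists_iso_of_sections` for an arbitrary index type. -/
theorem exists_iso_of_sectionsI {N L : X.Modules} {I : Type u}
    (ν : I → (Coh.structureModule X ⟶ N)) (σ : I → (Coh.structureModule X ⟶ L))
    (hepi : Epi (Sigma.desc ν))
    (U : I → X.Opens) (hU : ⨆ i, U i = ⊤)
    (eν : ∀ i, (Coh.structureModule X).restrict (U i).ι ≅ N.restrict (U i).ι)
    (heν : ∀ i, (eν i).hom = (restrictFunctor (U i).ι).map (ν i))
    (eσ : ∀ i, (Coh.structureModule X).restrict (U i).ι ≅ L.restrict (U i).ι)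
    (heσ : ∀ i, (eσ i).hom = (restrictFunctor (U i).ι).map (σ i))
    (hr : ∀ i l, (restrictFunctor (U i).ι).map (ν l) ≫ (eν i).inv =
      (restrictFunctor (U i).ι).map (σ l) ≫ (eσ i).inv) :
    ∃ τ : N ≅ L, ∀ l, ν l ≫ τ.hom = σ l := by
  let f : I → X.Modules := fun _ => Coh.structureModule X
  let νF : ∐ f ⟶ N := Sigma.desc ν
  let σF : ∐ f ⟶ L := Sigma.desc σ
  have : Epi νF := hepi
  -- local factorisation
  have h1 : ∀ i, (restrictFunctor (U i).ι).map σF =
      (restrictFunctor (U i).ι).map νF ≫ (eν i).inv ≫ (eσ i).hom := by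
    intro i
    refine hom_ext_of_preserves f (restrictFunctor (U i).ι) fun l => ?_
    rw [← Functor.map_comp, ← Functor.map_comp_assoc]
    have e1 : Sigma.ι f l ≫ σF = σ l := Sigma.ι_desc σ l
    have e2 : Sigma.ι f l ≫ νF = ν l := Sigma.ι_desc ν l
    rw [e1, e2, ← Category.assoc, hr i l, Category.assoc, Iso.inv_hom_id, Category.comp_id]
  -- the kernel of νF is killed by σF
  have hK : kernel.ι νF ≫ σF = 0 := by
    refine eq_zero_of_forall_exists_isZeroOn _ fun x => ?_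
    have hx : x ∈ ⨆ i, U i := hU ▸ trivial
    obtain ⟨i, hxi⟩ := Opens.mem_iSup.mp hx
    refine ⟨U i, hxi, isZeroOn_of_restrict_eq_zero ?_⟩
    rw [Functor.map_comp, h1 i, ← Category.assoc, ← Functor.map_comp, kernel.condition,
      Functor.map_zero, zero_comp]
  let τ : N ⟶ L := Abelian.epiDesc νF σF hK
  have hτ : νF ≫ τ = σF := Abelian.comp_epiDesc νF σF hK
  have hτl : ∀ l, ν l ≫ τ = σ l := by
    intro l
    have e1 : Sigma.ι f l ≫ σF = σ l := Sigma.ι_desc σ l
    have e2 : Sigma.ι f l ≫ νF = ν l := Sigma.ι_desc ν l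
    rw [← e2, Category.assoc, hτ, e1]
  -- τ is an isomorphism locally
  have hiso : IsIso τ := by
    refine isIso_of_forall_restrict τ fun x => ?_
    have hx : x ∈ ⨆ i, U i := hU ▸ trivial
    obtain ⟨i, hxi⟩ := Opens.mem_iSup.mp hx
    refine ⟨U i, hxi, ?_⟩
    have h2 : (restrictFunctor (U i).ι).map τ = (eν i).inv ≫ (eσ i).hom := by
      rw [← cancel_epi (eν i).hom, Iso.hom_inv_id_assoc, heν, heσ, ← Functor.map_comp, hτl i]
    rw [h2]
    infer_instance
  exact ⟨asIso τ, hτl⟩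

/-- Sections `O ⟶ L` (any index type) which locally generate `L` give an epimorphism from the
free module. -/
theorem epi_desc_of_locally_generatedI {Y : Scheme.{u}} {L : Y.Modules} {I : Type u}
    (φ : I → (Coh.structureModule Y ⟶ L))
    (H : ∀ (V : Y.Opens) (s : Γ(L, V)) (y : Y), y ∈ V →
      ∃ (W : Y.Opens) (hW : W ≤ V), y ∈ W ∧ ∃ (j : I) (c : Γ(Coh.structureModule Y, W)),
        (φ j).app W c = L.presheaf.map (homOfLE hW).op s) :
    Epi (Sigma.desc φ : (∐ fun _ : I => Coh.structureModule Y) ⟶ L) := by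
  refine Groth.Agent.Lib.helper28.SecEpi.epi_of_locally_surjective _ fun V s y hy => ?_
  obtain ⟨W, hW, hyW, j, c, hc⟩ := H V s y hy
  refine ⟨W, hW, hyW, (Sigma.ι (fun _ : I => Coh.structureModule Y) j).app W c, ?_⟩
  have h1 : (Sigma.ι (fun _ : I => Coh.structureModule Y) j ≫ Sigma.desc φ).app W c =
      (φ j).app W c := by rw [Sigma.ι_desc]
  exact h1.trans hc

theorem exists_mem_genLocus_of_spanI {L : X.Modules} (hL : PicF.IsInvertible L) {I : Type*}
    (σ : I → (Coh.structureModule X ⟶ L)) (x : X)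
    (hs : Submodule.span (X.presheaf.stalk x)
      (Set.range fun i => (L.presheaf.germ ⊤ x trivial).hom (sec (σ i) ⊤)) = ⊤) :
    ∃ i, x ∈ CohB1.genLocus L (σ i) := by
  obtain ⟨A, hA, hxA, -, ⟨e⟩⟩ := exists_affine_isTrivOn hL x ⊤ trivial
  have hxV : x ∈ A.ι ''ᵁ ⊤ := by rw [Scheme.Opens.ι_image_top]; exact hxA
  let t₀ : Γ(L, A.ι ''ᵁ ⊤) := (e.inv.app ⊤).hom (1 : Γ((↑A : Scheme.{u}), ⊤))
  let f : I → Γ(X, A.ι ''ᵁ ⊤) := fun i => fn (localEnd (σ i) (restrictUnitIso A.ι) e) ⊤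
  have h1 : ∀ i, sec (σ i) (A.ι ''ᵁ ⊤) = f i • t₀ := by
    intro i
    have e1 : localEnd (σ i) (restrictUnitIso A.ι) e ≫ e.inv =
        (restrictUnitIso A.ι).inv ≫ (restrictFunctor A.ι).map (σ i) := by
      simp [localEnd]
    have e2 : sec (localEnd (σ i) (restrictUnitIso A.ι) e ≫ e.inv) ⊤ =
        sec ((restrictUnitIso A.ι).inv ≫ (restrictFunctor A.ι).map (σ i)) ⊤ := by rw [e1]
    rw [sec_comp, sec_comp] at e2
    have e3 : (e.inv.app ⊤).hom (sec (localEnd (σ i) (restrictUnitIso A.ι) e) ⊤) = f i • t₀ := by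
      have h := Hom.app_smul e.inv (fn (localEnd (σ i) (restrictUnitIso A.ι) e) ⊤)
        ((1 : Γ((↑A : Scheme.{u}), ⊤)) : Γ(Coh.structureModule (↑A : Scheme.{u}), ⊤))
      have e4 : fn (localEnd (σ i) (restrictUnitIso A.ι) e) ⊤ •
          ((1 : Γ((↑A : Scheme.{u}), ⊤)) : Γ(Coh.structureModule (↑A : Scheme.{u}), ⊤)) =
          sec (localEnd (σ i) (restrictUnitIso A.ι) e) ⊤ := mul_one _
      exact ((congrArg (e.inv.app ⊤).hom e4).symm.trans h).trans (restrict_smul A L ⊤ _ _)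
    have e5 : (((restrictFunctor A.ι).map (σ i)).app ⊤).hom (sec (restrictUnitIso A.ι).inv ⊤) =
        sec (σ i) (A.ι ''ᵁ ⊤) := by
      have h6 : @Eq Γ(X, A.ι ''ᵁ ⊤) (sec (restrictUnitIso A.ι).inv ⊤) 1 := by
        change ((A.ι.appIso ⊤).inv.hom (1 : Γ((↑A : Scheme.{u}), ⊤)) : Γ(X, A.ι ''ᵁ ⊤)) = 1
        exact map_one _
      exact congrArg ((σ i).app (A.ι ''ᵁ ⊤)).hom h6
    rw [← e5, ← e2, e3]
  let g := (L.presheaf.germ (A.ι ''ᵁ ⊤) x hxV).hom t₀
  have h2 : ∀ i, (L.presheaf.germ ⊤ x trivial).hom (sec (σ i) ⊤) =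
      (X.presheaf.germ (A.ι ''ᵁ ⊤) x hxV).hom (f i) • g := by
    intro i
    rw [← germ_smul'', ← h1, ← res_sec (σ i) (homOfLE le_top : A.ι ''ᵁ ⊤ ⟶ ⊤)]
    exact (TopCat.Presheaf.germ_res_apply L.presheaf (homOfLE le_top : A.ι ''ᵁ ⊤ ⟶ ⊤) x hxV _).symm
  have hg : g ≠ 0 := by
    intro hg0
    obtain ⟨W, hxW, iU, iV, hW⟩ := TopCat.Presheaf.germ_eq L.presheaf x hxV hxV t₀ 0
      (by rw [map_zero]; exact hg0)
    rw [map_zero] at hW
    let x' : (↑A : Scheme.{u}) := ⟨x, hxA⟩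
    let W' : (↑A : Scheme.{u}).Opens := A.ι ⁻¹ᵁ W
    have hx' : x' ∈ W' := hxW
    have hle : A.ι ''ᵁ W' ≤ W := by
      rw [Scheme.Hom.image_preimage_eq_opensRange_inf]
      exact inf_le_right
    have h3 : L.presheaf.map (homOfLE (hle.trans iU.le)).op t₀ = 0 := by
      have h' : L.presheaf.map (homOfLE hle).op (L.presheaf.map iU.op t₀) = 0 := by
        rw [hW, map_zero]
      rw [← h', ← ConcreteCategory.comp_apply, ← Functor.map_comp]
      rfl
    have h4 := naturality_apply' e.hom (le_top : W' ≤ ⊤) t₀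
    have h5 : (e.hom.val.app (op ⊤)).hom t₀ = (1 : Γ((↑A : Scheme.{u}), ⊤)) := by
      have h6 : sec (e.inv ≫ e.hom) ⊤ = (1 : Γ((↑A : Scheme.{u}), ⊤)) := by
        rw [e.inv_hom_id]; rfl
      exact h6
    have h7 : (L.restrict A.ι).val.map (homOfLE (le_top : W' ≤ ⊤)).op t₀ = 0 := h3
    have h4' := h4.trans ((congrArg (e.hom.val.app (op W')).hom h7).trans (map_zero _))
    have h8 : (1 : Γ((↑A : Scheme.{u}), W')) = 0 := by
      refine Eq.trans ?_ h4'
      refine Eq.trans ?_ (congrArg ((Coh.structureModule (↑A : Scheme.{u})).val.map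
        (homOfLE (le_top : W' ≤ ⊤)).op).hom h5.symm)
      exact (map_one ((↑A : Scheme.{u}).presheaf.map (homOfLE (le_top : W' ≤ ⊤)).op).hom).symm
    have h9 := congrArg ((↑A : Scheme.{u}).presheaf.germ W' x' hx').hom h8
    rw [map_one, map_zero] at h9
    exact one_ne_zero h9
  by_contra hcon
  push Not at hcon
  have h3 : ∀ i, (X.presheaf.germ (A.ι ''ᵁ ⊤) x hxV).hom (f i) ∈
      IsLocalRing.maximalIdeal (X.presheaf.stalk x) := by
    intro i
    rw [IsLocalRing.mem_maximalIdeal, mem_nonunits_iff]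
    intro hu
    apply hcon i
    have hb : x ∈ X.basicOpen (f i) := (X.mem_basicOpen (f i) x hxV).mpr hu
    have hb' : x ∈ A.ι ''ᵁ ((↑A : Scheme.{u}).basicOpen
        (fn (localEnd (σ i) (restrictUnitIso A.ι) e) ⊤)) := by
      rw [Scheme.Opens.ι_image_basicOpen]
      exact hb
    obtain ⟨y, hy, hyx⟩ := hb'
    rw [basicOpen_fn_localEnd] at hy
    have hy' : A.ι y ∈ CohB1.genLocus L (σ i) := hy
    have hyx' : A.ι y = x := hyx
    rwa [hyx'] at hy'
  have h4 : g ∈ Submodule.span (X.presheaf.stalk x)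
      (Set.range fun i => (L.presheaf.germ ⊤ x trivial).hom (sec (σ i) ⊤)) := by
    rw [hs]; trivial
  obtain ⟨a, ha⟩ := (Finsupp.mem_span_range_iff_exists_finsupp).mp h4
  have ha' : (a.sum fun i c => c * (X.presheaf.germ (A.ι ''ᵁ ⊤) x hxV).hom (f i)) • g = g := by
    rw [Finsupp.sum, Finset.sum_smul]
    rw [Finsupp.sum] at ha
    refine Eq.trans (Finset.sum_congr rfl fun i _ => ?_) ha
    rw [mul_smul, h2]
  have hu : (a.sum fun i c => c * (X.presheaf.germ (A.ι ''ᵁ ⊤) x hxV).hom (f i)) ∈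
      IsLocalRing.maximalIdeal (X.presheaf.stalk x) :=
    Ideal.sum_mem _ fun i _ => Ideal.mul_mem_left _ _ (h3 i)
  have h5 : (1 - a.sum fun i c => c * (X.presheaf.germ (A.ι ''ᵁ ⊤) x hxV).hom (f i)) • g = 0 := by
    rw [sub_smul, one_smul, ha', sub_self]
  have h6 : IsUnit (1 - a.sum fun i c => c * (X.presheaf.germ (A.ι ''ᵁ ⊤) x hxV).hom (f i)) :=
    IsLocalRing.isUnit_one_sub_self_of_mem_nonunits _ hu
  exact hg (h6.smul_eq_zero.mp h5)


end Groth.Agent.Lib.helper12.ProjG
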