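import Mathlib
import Groth.Agent.Lib.Helper12.ProjG1

/-
helper12: maps to `Proj 𝒜` from sections of an invertible module, for a general graded algebra `𝒜` and a family
`f : I → 𝒜 1` with `D₊(f i)` covering `Proj 𝒜` (generalisation of ProjUP3/5/6; towards S3591).

* `gUI σ i`, `aFnI σ i l`, `aFnI_res`.
* `ChartData 𝒜 f σ` (ring maps `ψ i : A → Γ(X_{σ i}, O)` with `ψ i (f l) = σ l / σ i`, compatible up to unit
  twists), `exists_toProjG`.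
* `tPG`, `DpG`, `cPG`, `cPG_smul`, `cPG_eq`, `chart_appLE_cPG`.
* `nuG`, `ratio_nuG`, `epi_desc_nuG`, `exists_iso_nuG`.
-/

set_option autoImplicit false
set_option linter.unusedSectionVars false
universe u

open CategoryTheory CategoryTheory.Limits AlgebraicGeometry Opposite TopologicalSpace

namespace Groth.Agent.Lib.helper12.ProjG

open Groth.Agent.Lib.helper11.IsoLocus Groth.Agent.Lib.helper11.InvHom
open Groth.Agent.Lib.helper11.GenLocus Groth.Agent.Lib.helper11.InvMod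
open Groth.Agent.Lib.helper12.ProjUP1 Groth.Agent.Lib.helper12.ProjUP2
open Groth.Agent.Lib.helper12.ProjUP3 Groth.Agent.Lib.helper12.ProjUP4
open Groth.Agent.Lib.helper28.TwistSecHom Groth.Agent.Lib.helper28.TwistFree
open Scheme.Modules HomogeneousLocalization

section Sections

variable {X : Scheme.{u}} {L : X.Modules} {I : Type*} (σ : I → (Coh.structureModule X ⟶ L))

/-- The open `X_{σ i}`. -/
noncomputable def gUI (i : I) : X.Opens := CohB1.genLocus L (σ i)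

theorem image_top_leI (i : I) : (gUI σ i).ι ''ᵁ ⊤ ≤ CohB1.genLocus L (σ i) :=
  le_of_eq (gUI σ i).ι_image_top

/-- The ratio `σ l / σ i` as a global function on `X_{σ i}`. -/
noncomputable def aFnI (i l : I) : Γ((gUI σ i : Scheme.{u}), ⊤) :=
  ratio (σ i) (σ l) ((gUI σ i).ι ''ᵁ ⊤) (image_top_leI σ i)

theorem aFnI_self (i : I) : aFnI σ i i = 1 := ratio_self _ _ _

theorem aFnI_res (i j l : I) :
    (X.homOfLE (inf_le_right : gUI σ i ⊓ gUI σ j ≤ gUI σ j)).appTop.hom (aFnI σ j l) =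
      (X.homOfLE (inf_le_right : gUI σ i ⊓ gUI σ j ≤ gUI σ j)).appTop.hom (aFnI σ j i) *
      (X.homOfLE (inf_le_left : gUI σ i ⊓ gUI σ j ≤ gUI σ i)).appTop.hom (aFnI σ i l) := by
  have hWj : (gUI σ i ⊓ gUI σ j).ι ''ᵁ ⊤ ≤ (gUI σ j).ι ''ᵁ ⊤ := by
    rw [Scheme.Opens.ι_image_top, Scheme.Opens.ι_image_top]; exact inf_le_right
  have hWi : (gUI σ i ⊓ gUI σ j).ι ''ᵁ ⊤ ≤ (gUI σ i).ι ''ᵁ ⊤ := by
    rw [Scheme.Opens.ι_image_top, Scheme.Opens.ι_image_top]; exact inf_le_left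
  have hj : ∀ l', (X.homOfLE (inf_le_right : gUI σ i ⊓ gUI σ j ≤ gUI σ j)).appTop.hom (aFnI σ j l') =
      ratio (σ j) (σ l') ((gUI σ i ⊓ gUI σ j).ι ''ᵁ ⊤) (hWj.trans (image_top_leI σ j)) := by
    intro l'
    rw [Scheme.homOfLE_appTop]
    exact ratio_res (σ j) (σ l') hWj (image_top_leI σ j)
  have hi : ∀ l', (X.homOfLE (inf_le_left : gUI σ i ⊓ gUI σ j ≤ gUI σ i)).appTop.hom (aFnI σ i l') =
      ratio (σ i) (σ l') ((gUI σ i ⊓ gUI σ j).ι ''ᵁ ⊤) (hWi.trans (image_top_leI σ i)) := by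
    intro l'
    rw [Scheme.homOfLE_appTop]
    exact ratio_res (σ i) (σ l') hWi (image_top_leI σ i)
  rw [hj l, hj i, hi l, mul_comm]
  exact (ratio_mul (σ j) (σ i) (σ l) _ _ _).symm

end Sections

section Graded

variable {R₀ A : Type u} [CommRing R₀] [CommRing A] [Algebra R₀ A] (𝒜 : ℕ → Submodule R₀ A)
  [GradedAlgebra 𝒜] {I : Type u} (f : I → A) (hf : ∀ i, f i ∈ 𝒜 1)
  {X : Scheme.{u}} {L : X.Modules} (σ : I → (Coh.structureModule X ⟶ L))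

/-- Ring maps `A → Γ(X_{σ i}, O)` sending `f l` to `σ l / σ i`, compatible on overlaps up to the
unit twist. -/
structure ChartData where
  ψ : ∀ i, A →+* Γ((gUI σ i : Scheme.{u}), ⊤)
  hψ : ∀ i l, ψ i (f l) = aFnI σ i l
  compat : ∀ i j (k : ℕ) (a : A), a ∈ 𝒜 k →
    (X.homOfLE (inf_le_right : gUI σ i ⊓ gUI σ j ≤ gUI σ j)).appTop.hom (ψ j a) =
      ((X.homOfLE (inf_le_right : gUI σ i ⊓ gUI σ j ≤ gUI σ j)).appTop.hom (ψ j (f i))) ^ k *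
      (X.homOfLE (inf_le_left : gUI σ i ⊓ gUI σ j ≤ gUI σ i)).appTop.hom (ψ i a)

variable {𝒜 f σ}

theorem ChartData.isUnit (c : ChartData 𝒜 f σ) (i : I) : IsUnit (c.ψ i (f i)) := by
  rw [c.hψ, aFnI_self]; exact isUnit_one

include hf in
theorem exists_toProjG (c : ChartData 𝒜 f σ) (hcov : ⨆ i, gUI σ i = ⊤) :
    ∃ r : X ⟶ Proj 𝒜, ∀ i, (gUI σ i).ι ≫ r = chart (c.ψ i) (hf i) one_pos (c.isUnit i) := by
  refine exists_glue_chart (gUI σ) ?_ c.ψ f one_pos hf c.isUnit c.compat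
  exact TopologicalSpace.IsOpenCover.mk hcov

end Graded

section Coord

variable {R₀ A : Type u} [CommRing R₀] [CommRing A] [Algebra R₀ A] (𝒜 : ℕ → Submodule R₀ A)
  [GradedAlgebra 𝒜] {I : Type u} (f : I → A) (hf : ∀ i, f i ∈ 𝒜 1)

/-- `f l` as a homogeneous element of degree one. -/
noncomputable def xlG (l : I) : 𝒜 1 := ⟨f l, hf l⟩

/-- The section `f l` of `O(1)`, as a morphism. -/
noncomputable def tPG (l : I) :
    Coh.structureModule (Proj 𝒜) ⟶ Twist.twist 𝒜 ((1 : ℕ) : ℤ) :=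
  secHom 𝒜 (xlG 𝒜 f hf l)

/-- `D₊(f i)`. -/
noncomputable abbrev DpG (i : I) : (Proj 𝒜).Opens := Proj.basicOpen 𝒜 (f i)

include hf in
theorem hcov_of (hcovP : ∀ x : ProjectiveSpectrum 𝒜, ∃ i, f i ∉ x.asHomogeneousIdeal)
    (x : ProjectiveSpectrum 𝒜) : ∃ g ∈ 𝒜 1, g ∉ x.asHomogeneousIdeal := by
  obtain ⟨i, hi⟩ := hcovP x
  exact ⟨f i, hf i, hi⟩

theorem genLocus_tPG (hcovP : ∀ x : ProjectiveSpectrum 𝒜, ∃ i, f i ∉ x.asHomogeneousIdeal)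
    (i : I) : CohB1.genLocus _ (tPG 𝒜 f hf i) = DpG 𝒜 f i :=
  genLocus_secHom 𝒜 one_pos (xlG 𝒜 f hf i) (hcov_of 𝒜 f hf hcovP)

theorem notMem_DpG (i : I) (x : DpG 𝒜 f i) :
    (xlG 𝒜 f hf i).1 ∉ x.1.asHomogeneousIdeal :=
  (ProjectiveSpectrum.mem_basicOpen 𝒜 _ x.1).mp x.2

/-- The function `f l / f i` on `D₊(f i)`. -/
noncomputable def cPG (i l : I) : Γ(Proj 𝒜, DpG 𝒜 f i) :=
  fracSectO 𝒜 (DpG 𝒜 f i) (xlG 𝒜 f hf l) (xlG 𝒜 f hf i) (notMem_DpG 𝒜 f hf i)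

theorem sec_tPG (l : I) (W : (Proj 𝒜).Opens) :
    sec (tPG 𝒜 f hf l) W = globalOfOn 𝒜 (xlG 𝒜 f hf l) W := by
  have h := secHom_app 𝒜 (xlG 𝒜 f hf l) W 1
  rw [one_smul] at h
  exact h

theorem cPG_smul (i l : I) :
    cPG 𝒜 f hf i l • sec (tPG 𝒜 f hf i) (DpG 𝒜 f i) = sec (tPG 𝒜 f hf l) (DpG 𝒜 f i) := by
  rw [sec_tPG, sec_tPG]
  refine sectN_ext' 𝒜 _ _ fun x => ?_
  have h1 := smul_val 𝒜 (n := ((1 : ℕ) : ℤ))
    (show Twist.O (𝒜 := 𝒜) (op (DpG 𝒜 f i)) from cPG 𝒜 f hf i l)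
    (globalOfOn 𝒜 (xlG 𝒜 f hf i) (DpG 𝒜 f i)) x
  refine h1.trans ?_
  unfold cPG globalOfOn
  rw [fracSectO_val, fracSectN_val, fracSectN_val, Localization.mk_mul,
    Localization.mk_eq_mk_iff, Localization.r_iff_exists]
  refine ⟨1, ?_⟩
  simp only [OneMemClass.coe_one, one_mul, Submonoid.coe_mul, mul_one]
  ring

include hf in
theorem fl_mem (l : I) : f l ∈ 𝒜 (1 • 1) := hf l

theorem cPG_eq (i l : I) :
    cPG 𝒜 f hf i l = (Proj.awayToSection 𝒜 (f i)).hom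
      (Away.mk 𝒜 (hf i) 1 (f l) (fl_mem 𝒜 f hf l)) := by
  refine O_ext' 𝒜 _ _ fun x => ?_
  unfold cPG
  rw [fracSectO_val]
  change _ = (HomogeneousLocalization.mapId 𝒜 _
    (Away.mk 𝒜 (hf i) 1 (f l) (fl_mem 𝒜 f hf l))).val
  rw [Away.mk, HomogeneousLocalization.mapId, HomogeneousLocalization.map_mk,
    HomogeneousLocalization.val_mk]
  rw [Localization.mk_eq_mk_iff, Localization.r_iff_exists]
  refine ⟨1, ?_⟩
  simp only [OneMemClass.coe_one, one_mul, GradedRingHom.id_apply, pow_one]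
  rfl

variable {𝒜 f}
variable {X : Scheme.{u}} {L : X.Modules} {σ : I → (Coh.structureModule X ⟶ L)}

theorem chart_appLE_cPG (c : ChartData 𝒜 f σ) (i l : I)
    (e : (⊤ : (↑(gUI σ i) : Scheme.{u}).Opens) ≤
      (chart (c.ψ i) (hf i) one_pos (c.isUnit i)) ⁻¹ᵁ DpG 𝒜 f i) :
    ((chart (c.ψ i) (hf i) one_pos (c.isUnit i)).appLE (DpG 𝒜 f i) ⊤ e).hom
      (cPG 𝒜 f hf i l) = aFnI σ i l := by
  have h1 := chart_appLE (c.ψ i) (hf i) one_pos (c.isUnit i)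
  have h2 : (chart (c.ψ i) (hf i) one_pos (c.isUnit i)).appLE (DpG 𝒜 f i) ⊤ e =
      (Proj.basicOpenIsoAway 𝒜 _ (hf i) one_pos).inv ≫
        CommRingCat.ofHom (awayHom 𝒜 (c.ψ i) _ (c.isUnit i)) := h1
  rw [h2, cPG_eq]
  have h3 : (Proj.basicOpenIsoAway 𝒜 _ (hf i) one_pos).inv.hom
      ((Proj.awayToSection 𝒜 (f i)).hom (Away.mk 𝒜 (hf i) 1 (f l) (fl_mem 𝒜 f hf l))) =
      Away.mk 𝒜 (hf i) 1 (f l) (fl_mem 𝒜 f hf l) := by
    rw [← Proj.basicOpenIsoAway_hom 𝒜 _ (hf i) one_pos]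
    exact ConcreteCategory.congr_hom
      (Proj.basicOpenIsoAway 𝒜 _ (hf i) one_pos).hom_inv_id _
  change awayHom 𝒜 (c.ψ i) _ (c.isUnit i)
    ((Proj.basicOpenIsoAway 𝒜 _ (hf i) one_pos).inv.hom _) = _
  rw [h3]
  rw [awayHom_mk 𝒜 (c.ψ i) (c.isUnit i) (hf i) 1 _ _ 1 (by rw [mul_one, c.hψ, aFnI_self]),
    one_pow, mul_one, c.hψ]

end Coord

section Iso

variable {R₀ A : Type u} [CommRing R₀] [CommRing A] [Algebra R₀ A] {𝒜 : ℕ → Submodule R₀ A}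
  [GradedAlgebra 𝒜] {I : Type u} {f : I → A} (hf : ∀ i, f i ∈ 𝒜 1)
  (hcovP : ∀ x : ProjectiveSpectrum 𝒜, ∃ i, f i ∉ x.asHomogeneousIdeal)
  {X : Scheme.{u}} {L : X.Modules} {σ : I → (Coh.structureModule X ⟶ L)}
  (c : ChartData 𝒜 f σ) (r : X ⟶ Proj 𝒜)
  (hr : ∀ i, (gUI σ i).ι ≫ r = chart (c.ψ i) (hf i) one_pos (c.isUnit i))

/-- The pulled-back coordinate sections. -/
noncomputable def nuG (l : I) :
    Coh.structureModule X ⟶ (Scheme.Modules.pullback r).obj (Twist.twist 𝒜 ((1 : ℕ) : ℤ)) :=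
  pullHom r (tPG 𝒜 f hf l)

include hr in
theorem image_le_preimageG (i : I) : (gUI σ i).ι ''ᵁ ⊤ ≤ r ⁻¹ᵁ DpG 𝒜 f i := by
  rintro _ ⟨x', -, rfl⟩
  change r ((gUI σ i).ι x') ∈ DpG 𝒜 f i
  have h1 : r ((gUI σ i).ι x') = ((gUI σ i).ι ≫ r) x' := rfl
  rw [h1, hr i]
  exact chart_le (c.ψ i) (hf i) one_pos (c.isUnit i) (Set.mem_univ x')

include hf hcovP in
theorem isInvertible_twist_oneG : PicF.IsInvertible (Twist.twist 𝒜 ((1 : ℕ) : ℤ)) :=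
  Groth.Agent.Lib.helper28.TwistAll.isInvertible_twist 𝒜 (hcov_of 𝒜 f hf hcovP) _

include hr hcovP in
theorem image_le_genLocus_nuG (i : I) :
    (gUI σ i).ι ''ᵁ ⊤ ≤ CohB1.genLocus _ (nuG hf r i) := by
  refine (image_le_preimageG hf c r hr i).trans ?_
  rw [← genLocus_tPG 𝒜 f hf hcovP i]
  exact le_genLocus_pullHom r (isInvertible_twist_oneG hf hcovP) (tPG 𝒜 f hf i)

theorem ratio_tPG (i l : I) (hD : DpG 𝒜 f i ≤ CohB1.genLocus _ (tPG 𝒜 f hf i)) :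
    ratio (tPG 𝒜 f hf i) (tPG 𝒜 f hf l) (DpG 𝒜 f i) hD = cPG 𝒜 f hf i l :=
  (eq_ratio (tPG 𝒜 f hf i) (tPG 𝒜 f hf l) (DpG 𝒜 f i) hD (cPG 𝒜 f hf i l)
    (cPG_smul 𝒜 f hf i l)).symm

include hr in
theorem ratio_nuG (i l : I) :
    ratio (nuG hf r i) (nuG hf r l) ((gUI σ i).ι ''ᵁ ⊤)
      (image_le_genLocus_nuG hf hcovP c r hr i) = aFnI σ i l := by
  have hD : DpG 𝒜 f i ≤ CohB1.genLocus _ (tPG 𝒜 f hf i) := (genLocus_tPG 𝒜 f hf hcovP i).ge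
  have hV : r ⁻¹ᵁ DpG 𝒜 f i ≤ CohB1.genLocus _ (nuG hf r i) := by
    rw [← genLocus_tPG 𝒜 f hf hcovP i]
    exact le_genLocus_pullHom r (isInvertible_twist_oneG hf hcovP) (tPG 𝒜 f hf i)
  have h1 : ratio (nuG hf r i) (nuG hf r l) (r ⁻¹ᵁ DpG 𝒜 f i) hV =
      r.app (DpG 𝒜 f i) (cPG 𝒜 f hf i l) := by
    unfold nuG
    rw [ratio_pullHom r (tPG 𝒜 f hf i) (tPG 𝒜 f hf l) (DpG 𝒜 f i) hD, ratio_tPG]
  have h2 := ratio_res (nuG hf r i) (nuG hf r l) (image_le_preimageG hf c r hr i) hV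
  rw [← h2, h1]
  have e : (⊤ : (↑(gUI σ i) : Scheme.{u}).Opens) ≤ ((gUI σ i).ι ≫ r) ⁻¹ᵁ DpG 𝒜 f i := by
    intro x' _
    exact image_le_preimageG hf c r hr i ⟨x', trivial, rfl⟩
  have h3 : ((gUI σ i).ι ≫ r).appLE (DpG 𝒜 f i) ⊤ e =
      r.app (DpG 𝒜 f i) ≫ X.presheaf.map (homOfLE (image_le_preimageG hf c r hr i)).op := by
    rw [Scheme.Hom.comp_appLE, Scheme.Opens.ι_appLE]
    rfl
  have h4 := Groth.Agent.Lib.helper12.ProjUP6.appLE_eq_of_eq (hr i) (DpG 𝒜 f i) ⊤ e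
    (chart_le (c.ψ i) (hf i) one_pos (c.isUnit i))
  have h5 := chart_appLE_cPG hf c i l (chart_le (c.ψ i) (hf i) one_pos (c.isUnit i))
  rw [← h4, h3] at h5
  exact h5

include hr hcovP c in
theorem epi_desc_nuG (hcov : ⨆ i, gUI σ i = ⊤) :
    Epi (Sigma.desc (nuG hf r) : (∐ fun _ : I => Coh.structureModule X) ⟶ _) := by
  refine epi_desc_of_locally_generatedI (nuG hf r) fun V s y hy => ?_
  have hy' : y ∈ ⨆ i, gUI σ i := hcov ▸ trivial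
  obtain ⟨i, hyi⟩ := Opens.mem_iSup.mp hy'
  have hW : V ⊓ gUI σ i ≤ CohB1.genLocus _ (nuG hf r i) := by
    refine le_trans ?_ (image_le_genLocus_nuG hf hcovP c r hr i)
    rw [Scheme.Opens.ι_image_top]
    exact inf_le_right
  have hiso : IsIso ((nuG hf r i).app (V ⊓ gUI σ i)) := isIso_app_of_le_isoLocus (nuG hf r i) hW
  have hsurj := (ConcreteCategory.bijective_of_isIso ((nuG hf r i).app (V ⊓ gUI σ i))).2
  obtain ⟨a, ha⟩ := hsurj (((Scheme.Modules.pullback r).obj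
    (Twist.twist 𝒜 ((1 : ℕ) : ℤ))).presheaf.map
      (homOfLE (inf_le_left : V ⊓ gUI σ i ≤ V)).op s)
  exact ⟨V ⊓ gUI σ i, inf_le_left, ⟨hy, hyi⟩, i, a, ha⟩

include hr hcovP c in
theorem exists_iso_nuG (hcov : ⨆ i, gUI σ i = ⊤) :
    ∃ τ : (Scheme.Modules.pullback r).obj (Twist.twist 𝒜 ((1 : ℕ) : ℤ)) ≅ L,
      ∀ l, nuG hf r l ≫ τ.hom = σ l := by
  have hν : ∀ i, IsIso ((restrictFunctor (gUI σ i).ι).map (nuG hf r i)) := fun i => by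
    rw [← le_genLocus_iff]
    have := image_le_genLocus_nuG hf hcovP c r hr i
    rwa [Scheme.Opens.ι_image_top] at this
  have hσ : ∀ i, IsIso ((restrictFunctor (gUI σ i).ι).map (σ i)) := fun i =>
    isIso_restrict_genLocus L (σ i)
  refine exists_iso_of_sectionsI (nuG hf r) σ (epi_desc_nuG hf hcovP c r hr hcov) (gUI σ) hcov
    (fun i => @asIso _ _ _ _ _ (hν i)) (fun i => rfl)
    (fun i => @asIso _ _ _ _ _ (hσ i)) (fun i => rfl) fun i l => ?_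
  refine restrict_comp_inv_eq (nuG hf r i) (nuG hf r l) (σ i) (σ l) (gUI σ i)
    (image_le_genLocus_nuG hf hcovP c r hr i) (image_top_leI σ i) _ rfl _ rfl ?_
  rw [ratio_nuG hf hcovP c r hr i l]
  rfl

end Iso

end Groth.Agent.Lib.helper12.ProjG
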