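import Mathlib
import Groth.Agent.Lib.Helper12.ProjUP1

/-
helper12: dehomogenisation and the chart form of morphisms to `Proj` (towards uniqueness S3573 / S3592).

* `dehom 𝒜 hf : A →+* A_(f)` (`a ↦ Σ a_k / f^k`, `deg f = 1`), `dehom_apply_of_mem`, `dehom_zero`,
  `away_hom_ext_of_dehom`.
* `eq_chart_of_le`: a morphism `g : T ⟶ Proj 𝒜` landing in `D₊(f)` equals
  `T.toSpecΓ ≫ Spec.map (A_(f) ≅ Γ(D₊(f)) → Γ(T)) ≫ awayι`.
-/

set_option autoImplicit false
universe u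

open CategoryTheory CategoryTheory.Limits AlgebraicGeometry HomogeneousLocalization

namespace Groth.Agent.Lib.helper12.ProjUP1

variable {σ A : Type u} [CommRing A] [SetLike σ A] [AddSubgroupClass σ A]
variable (𝒜 : ℕ → σ) [GradedRing 𝒜]

omit [CommRing A] [AddSubgroupClass σ A] [GradedRing 𝒜] in
theorem mem_smul_one {k : ℕ} {a : A} (ha : a ∈ 𝒜 k) : a ∈ 𝒜 (k • 1) := by
  rwa [smul_eq_mul, mul_one]

/-- The components of the dehomogenisation map. -/
noncomputable def dehomComp {f : A} (hf : f ∈ 𝒜 1) (k : ℕ) : 𝒜 k →+ Away 𝒜 f where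
  toFun a := Away.mk 𝒜 hf k a (mem_smul_one 𝒜 a.2)
  map_zero' := by
    apply HomogeneousLocalization.val_injective
    rw [Away.val_mk, HomogeneousLocalization.val_zero]
    exact Localization.mk_zero _
  map_add' a b := by
    apply HomogeneousLocalization.val_injective
    rw [HomogeneousLocalization.val_add, Away.val_mk, Away.val_mk, Away.val_mk,
      Localization.add_mk_self]
    rfl

/-- Dehomogenisation `A → A_(f)`, `a ↦ Σ a_k / f^k`, for `f` of degree one. -/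
noncomputable def dehom {f : A} (hf : f ∈ 𝒜 1) : A →+* Away 𝒜 f :=
  (DirectSum.toSemiring (dehomComp 𝒜 hf)
    (by
      apply HomogeneousLocalization.val_injective
      change (Away.mk 𝒜 hf 0 (1 : A) _).val = _
      rw [Away.val_mk, HomogeneousLocalization.val_one]
      simp)
    (by
      intro i j ai aj
      apply HomogeneousLocalization.val_injective
      change (Away.mk 𝒜 hf (i + j) ((ai : A) * (aj : A)) _).val =
        ((Away.mk 𝒜 hf i (ai : A) _) * (Away.mk 𝒜 hf j (aj : A) _)).val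
      rw [HomogeneousLocalization.val_mul, Away.val_mk, Away.val_mk, Away.val_mk,
        Localization.mk_mul]
      congr 1
      exact Subtype.ext (pow_add f i j))).comp
    (DirectSum.decomposeRingEquiv 𝒜).toRingHom

theorem dehom_apply_of_mem {f : A} (hf : f ∈ 𝒜 1) {k : ℕ} {a : A} (ha : a ∈ 𝒜 k) :
    dehom 𝒜 hf a = Away.mk 𝒜 hf k a (mem_smul_one 𝒜 ha) := by
  unfold dehom
  rw [RingHom.comp_apply]
  change (DirectSum.toSemiring _ _ _) (DirectSum.decompose 𝒜 a) = _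
  rw [DirectSum.decompose_of_mem 𝒜 ha, DirectSum.toSemiring_of]
  rfl

theorem away_hom_ext_of_dehom {B : Type u} [CommRing B] {f : A} (hf : f ∈ 𝒜 1)
    (θ θ' : Away 𝒜 f →+* B) (h : θ.comp (dehom 𝒜 hf) = θ'.comp (dehom 𝒜 hf)) : θ = θ' := by
  refine awayHom_ext 𝒜 hf θ θ' fun n a ha => ?_
  have ha' : a ∈ 𝒜 n := by rwa [smul_eq_mul, mul_one] at ha
  have h1 := congrArg (fun φ : A →+* B => φ a) h
  simp only [RingHom.comp_apply] at h1
  rw [dehom_apply_of_mem 𝒜 hf ha'] at h1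
  exact h1

theorem dehom_zero {f : A} (hf : f ∈ 𝒜 1) (z : 𝒜 0) :
    dehom 𝒜 hf z = fromZeroRingHom 𝒜 _ z := by
  rw [dehom_apply_of_mem 𝒜 hf z.2]
  apply HomogeneousLocalization.val_injective
  rw [Away.val_mk]
  change _ = Localization.mk (z : A) 1
  congr 1
  exact Subtype.ext (pow_zero f)

variable {𝒜}

/-- A morphism to `Proj 𝒜` landing in `D₊(f)` is the chart of its ring map. -/
theorem eq_chart_of_le {T : Scheme.{u}} (g : T ⟶ Proj 𝒜) {f : A} {d : ℕ} (hf : f ∈ 𝒜 d)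
    (hd : 0 < d) (e : (⊤ : T.Opens) ≤ g ⁻¹ᵁ Proj.basicOpen 𝒜 f) :
    g = T.toSpecΓ ≫ Spec.map ((Proj.basicOpenIsoAway 𝒜 f hf hd).hom ≫
      g.appLE (Proj.basicOpen 𝒜 f) ⊤ e) ≫ Proj.awayι 𝒜 f hf hd := by
  have hrange : Set.range g ⊆ Set.range (Proj.basicOpen 𝒜 f).ι := by
    rintro _ ⟨x, rfl⟩
    rw [Scheme.Opens.range_ι]
    exact e (Set.mem_univ x)
  let lift : T ⟶ (↑(Proj.basicOpen 𝒜 f) : Scheme.{u}) :=
    IsOpenImmersion.lift (Proj.basicOpen 𝒜 f).ι g hrange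
  have hlift : lift ≫ (Proj.basicOpen 𝒜 f).ι = g := IsOpenImmersion.lift_fac _ _ _
  have key : ∀ (g' : T ⟶ Proj 𝒜) (hg : g' = lift ≫ (Proj.basicOpen 𝒜 f).ι)
      (e' : (⊤ : T.Opens) ≤ g' ⁻¹ᵁ Proj.basicOpen 𝒜 f),
      g' = T.toSpecΓ ≫ Spec.map ((Proj.basicOpenIsoAway 𝒜 f hf hd).hom ≫
        g'.appLE (Proj.basicOpen 𝒜 f) ⊤ e') ≫ Proj.awayι 𝒜 f hf hd := by
    rintro _ rfl e'
    rw [appLE_comp_ι]
    have h1 : lift ≫ (Proj.basicOpenIsoSpec 𝒜 f hf hd).hom =
        T.toSpecΓ ≫ Spec.map ((Proj.basicOpenIsoAway 𝒜 f hf hd).hom ≫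
          (Proj.basicOpen 𝒜 f).topIso.inv ≫ lift.appTop) := by
      have h2 := toSpecΓ_SpecMap_appTop (lift ≫ (Proj.basicOpenIsoSpec 𝒜 f hf hd).hom)
      rw [← h2]
      congr 2
      have h3 : (Proj.basicOpenToSpec 𝒜 f).appTop = _ := Proj.basicOpenToSpec_app_top 𝒜 f
      rw [Scheme.Hom.comp_appTop, Proj.basicOpenIsoSpec_hom, h3, Proj.basicOpenIsoAway_hom]
      simp only [Category.assoc, Iso.inv_hom_id_assoc]
    rw [Proj.awayι, ← Category.assoc, ← Category.assoc]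
    congr 1
    rw [← h1, Category.assoc, Iso.hom_inv_id, Category.comp_id]
  exact key g hlift.symm e

end Groth.Agent.Lib.helper12.ProjUP1
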