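import Mathlib
import Groth.Agent.Lib.Helper12.ProjG2
import Groth.Agent.Lib.Helper12.ProjUP7

/-
helper12: uniqueness in the universal property of `Proj 𝒜` for a graded algebra generated in degree one
(towards S3573 / S3592).

* `ratio_comp_iso`, `genLocus_nuG`, `appLE_cPG_eq_ratio`, `ΓSpecIso_inv_toSpecΓ_SpecMap`.
* `toProj_ext`: `r, r' : X ⟶ Proj 𝒜` over the base with `τ : r^*O(1) ≅ r'^*O(1)` matching the pulled-back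
  coordinate sections are equal (given that `A` is generated over `R₀` by the `f l`, in the form of a ring-hom
  extensionality hypothesis).
-/

set_option autoImplicit false
set_option linter.unusedSectionVars false
universe u

open CategoryTheory CategoryTheory.Limits AlgebraicGeometry Opposite TopologicalSpace

namespace Groth.Agent.Lib.helper12.ProjG

open Groth.Agent.Lib.helper11.IsoLocus Groth.Agent.Lib.helper11.InvHom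
open Groth.Agent.Lib.helper11.GenLocus Groth.Agent.Lib.helper11.InvMod
open Groth.Agent.Lib.helper11.InvPullback
open Groth.Agent.Lib.helper12.ProjUP1 Groth.Agent.Lib.helper12.ProjUP2
open Groth.Agent.Lib.helper12.ProjUP3 Groth.Agent.Lib.helper12.ProjUP4
open Scheme.Modules HomogeneousLocalization

section RatioIso

variable {X : Scheme.{u}} {L L' : X.Modules}

theorem ratio_comp_iso (t t' : Coh.structureModule X ⟶ L) (τ : L ≅ L') (V : X.Opens)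
    (hV : V ≤ CohB1.genLocus L t) (hV' : V ≤ CohB1.genLocus L' (t ≫ τ.hom)) :
    ratio (t ≫ τ.hom) (t' ≫ τ.hom) V hV' = ratio t t' V hV := by
  symm
  apply eq_ratio
  rw [sec_comp, sec_comp, ← Hom.app_smul, ratio_smul]

end RatioIso

section Uniq

variable {R₀ A : Type u} [CommRing R₀] [CommRing A] [Algebra R₀ A] {𝒜 : ℕ → Submodule R₀ A}
  [GradedAlgebra 𝒜] {I : Type u} {f : I → A} (hf : ∀ i, f i ∈ 𝒜 1)
  (hcovP : ∀ x : ProjectiveSpectrum 𝒜, ∃ i, f i ∉ x.asHomogeneousIdeal)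
  {X : Scheme.{u}}

include hcovP in
theorem genLocus_nuG (r : X ⟶ Proj 𝒜) (i : I) :
    CohB1.genLocus _ (nuG hf r i) = r ⁻¹ᵁ DpG 𝒜 f i := by
  rw [← genLocus_tPG 𝒜 f hf hcovP i]
  exact genLocus_pullback r _ (isInvertible_twist_oneG hf hcovP) (tPG 𝒜 f hf i)
    (pullbackUnitIso r).symm

include hcovP in
theorem appLE_cPG_eq_ratio (r : X ⟶ Proj 𝒜) (i l : I) (W : X.Opens)
    (hW : W.ι ''ᵁ ⊤ ≤ r ⁻¹ᵁ DpG 𝒜 f i)
    (e : (⊤ : (↑W : Scheme.{u}).Opens) ≤ (W.ι ≫ r) ⁻¹ᵁ DpG 𝒜 f i)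
    (hW' : W.ι ''ᵁ ⊤ ≤ CohB1.genLocus _ (nuG hf r i)) :
    ((W.ι ≫ r).appLE (DpG 𝒜 f i) ⊤ e).hom (cPG 𝒜 f hf i l) =
      ratio (nuG hf r i) (nuG hf r l) (W.ι ''ᵁ ⊤) hW' := by
  have hD : DpG 𝒜 f i ≤ CohB1.genLocus _ (tPG 𝒜 f hf i) := (genLocus_tPG 𝒜 f hf hcovP i).ge
  have hV : r ⁻¹ᵁ DpG 𝒜 f i ≤ CohB1.genLocus _ (nuG hf r i) :=
    (genLocus_nuG hf hcovP r i).ge
  have h1 : ratio (nuG hf r i) (nuG hf r l) (r ⁻¹ᵁ DpG 𝒜 f i) hV =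
      r.app (DpG 𝒜 f i) (cPG 𝒜 f hf i l) := by
    unfold nuG
    rw [ratio_pullHom r (tPG 𝒜 f hf i) (tPG 𝒜 f hf l) (DpG 𝒜 f i) hD, ratio_tPG]
  have h2 := ratio_res (nuG hf r i) (nuG hf r l) hW hV
  rw [← h2, h1]
  have h3 : (W.ι ≫ r).appLE (DpG 𝒜 f i) ⊤ e =
      r.app (DpG 𝒜 f i) ≫ X.presheaf.map (homOfLE hW).op := by
    rw [Scheme.Hom.comp_appLE, Scheme.Opens.ι_appLE]
    rfl
  rw [h3]
  rfl

/-- `ΓSpecIso.inv ≫ (T.toSpecΓ ≫ Spec.map α).appTop = α`. -/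
theorem ΓSpecIso_inv_toSpecΓ_SpecMap {T : Scheme.{u}} {B : CommRingCat.{u}} (α : B ⟶ Γ(T, ⊤)) :
    (Scheme.ΓSpecIso B).inv ≫ (T.toSpecΓ ≫ Spec.map α).appTop = α := by
  rw [Scheme.Hom.comp_appTop, Scheme.toSpecΓ_appTop, ← Category.assoc,
    ← Scheme.ΓSpecIso_inv_naturality, Category.assoc, Iso.inv_hom_id, Category.comp_id]

include hcovP in
theorem toProj_ext
    (hext : ∀ (B : Type u) [CommRing B] (φ φ' : A →+* B),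
      φ.comp (algebraMap R₀ A) = φ'.comp (algebraMap R₀ A) → (∀ l, φ (f l) = φ' (f l)) → φ = φ')
    (r r' : X ⟶ Proj 𝒜)
    (hbase : r ≫ Proj.toSpecZero 𝒜 ≫ Spec.map (CommRingCat.ofHom (algebraMap R₀ (𝒜 0))) =
      r' ≫ Proj.toSpecZero 𝒜 ≫ Spec.map (CommRingCat.ofHom (algebraMap R₀ (𝒜 0))))
    (τ : (Scheme.Modules.pullback r).obj (Twist.twist 𝒜 ((1 : ℕ) : ℤ)) ≅
      (Scheme.Modules.pullback r').obj (Twist.twist 𝒜 ((1 : ℕ) : ℤ)))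
    (hτ : ∀ l, nuG hf r l ≫ τ.hom = nuG hf r' l) : r = r' := by
  have hVV : ∀ i, r ⁻¹ᵁ DpG 𝒜 f i = r' ⁻¹ᵁ DpG 𝒜 f i := fun i => by
    rw [← genLocus_nuG hf hcovP r i, ← genLocus_nuG hf hcovP r' i, ← hτ i, genLocus_comp_iso]
  have hcov : ⨆ i, r ⁻¹ᵁ DpG 𝒜 f i = ⊤ := by
    rw [eq_top_iff]
    intro x _
    obtain ⟨i, hi⟩ := hcovP (r x)
    exact Opens.mem_iSup.mpr ⟨i, (ProjectiveSpectrum.mem_basicOpen 𝒜 _ _).mpr hi⟩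
  refine (X.openCoverOfIsOpenCover (fun i => r ⁻¹ᵁ DpG 𝒜 f i)
    (TopologicalSpace.IsOpenCover.mk hcov)).hom_ext _ _ fun (i : I) => ?_
  change (r ⁻¹ᵁ DpG 𝒜 f i).ι ≫ r = (r ⁻¹ᵁ DpG 𝒜 f i).ι ≫ r'
  set W : X.Opens := r ⁻¹ᵁ DpG 𝒜 f i with hWdef
  have hW : W.ι ''ᵁ ⊤ ≤ r ⁻¹ᵁ DpG 𝒜 f i := le_of_eq W.ι_image_top
  have hW2 : W.ι ''ᵁ ⊤ ≤ r' ⁻¹ᵁ DpG 𝒜 f i := hW.trans (hVV i).le
  have e : (⊤ : (↑W : Scheme.{u}).Opens) ≤ (W.ι ≫ r) ⁻¹ᵁ DpG 𝒜 f i := fun x _ =>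
    hW ⟨x, trivial, rfl⟩
  have e' : (⊤ : (↑W : Scheme.{u}).Opens) ≤ (W.ι ≫ r') ⁻¹ᵁ DpG 𝒜 f i := fun x _ =>
    hW2 ⟨x, trivial, rfl⟩
  have hG : W.ι ''ᵁ ⊤ ≤ CohB1.genLocus _ (nuG hf r i) := hW.trans (genLocus_nuG hf hcovP r i).ge
  have hG' : W.ι ''ᵁ ⊤ ≤ CohB1.genLocus _ (nuG hf r' i) :=
    hW2.trans (genLocus_nuG hf hcovP r' i).ge
  -- the two ring maps out of `A_(f i)`
  set θ : CommRingCat.of (Away 𝒜 (f i)) ⟶ Γ((↑W : Scheme.{u}), ⊤) :=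
    (Proj.basicOpenIsoAway 𝒜 (f i) (hf i) one_pos).hom ≫ (W.ι ≫ r).appLE (DpG 𝒜 f i) ⊤ e with hθ
  set θ' : CommRingCat.of (Away 𝒜 (f i)) ⟶ Γ((↑W : Scheme.{u}), ⊤) :=
    (Proj.basicOpenIsoAway 𝒜 (f i) (hf i) one_pos).hom ≫ (W.ι ≫ r').appLE (DpG 𝒜 f i) ⊤ e'
    with hθ'
  have h1 : W.ι ≫ r = (↑W : Scheme.{u}).toSpecΓ ≫ Spec.map θ ≫ Proj.awayι 𝒜 (f i) (hf i) one_pos :=
    eq_chart_of_le (W.ι ≫ r) (hf i) one_pos e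
  have h1' : W.ι ≫ r' =
      (↑W : Scheme.{u}).toSpecΓ ≫ Spec.map θ' ≫ Proj.awayι 𝒜 (f i) (hf i) one_pos :=
    eq_chart_of_le (W.ι ≫ r') (hf i) one_pos e'
  suffices hθθ : θ = θ' by rw [h1, h1', hθθ]
  -- agreement on the base ring
  have hb : ∀ (g : (↑W : Scheme.{u}) ⟶ Proj 𝒜)
      (ϑ : CommRingCat.of (Away 𝒜 (f i)) ⟶ Γ((↑W : Scheme.{u}), ⊤))
      (hg : g = (↑W : Scheme.{u}).toSpecΓ ≫ Spec.map ϑ ≫ Proj.awayι 𝒜 (f i) (hf i) one_pos),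
      CommRingCat.ofHom (algebraMap R₀ (𝒜 0)) ≫ CommRingCat.ofHom (fromZeroRingHom 𝒜 _) ≫ ϑ =
        (Scheme.ΓSpecIso _).inv ≫
          (g ≫ Proj.toSpecZero 𝒜 ≫ Spec.map (CommRingCat.ofHom (algebraMap R₀ (𝒜 0)))).appTop := by
    intro g ϑ hg
    rw [hg]
    simp only [Category.assoc]
    rw [Proj.awayι_toSpecZero_assoc, ← Spec.map_comp, ← Spec.map_comp,
      ΓSpecIso_inv_toSpecΓ_SpecMap]
    simp only [Category.assoc]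
  have hbb : CommRingCat.ofHom (algebraMap R₀ (𝒜 0)) ≫ CommRingCat.ofHom (fromZeroRingHom 𝒜 _) ≫ θ =
      CommRingCat.ofHom (algebraMap R₀ (𝒜 0)) ≫ CommRingCat.ofHom (fromZeroRingHom 𝒜 _) ≫ θ' := by
    rw [hb _ θ h1, hb _ θ' h1', Category.assoc, Category.assoc, hbase]
  have hl : ∀ l, θ.hom (dehom 𝒜 (hf i) (f l)) = θ'.hom (dehom 𝒜 (hf i) (f l)) := by
    intro l
    rw [dehom_apply_of_mem 𝒜 (hf i) (hf l)]
    have e1 : θ.hom (Away.mk 𝒜 (hf i) 1 (f l) (mem_smul_one 𝒜 (hf l))) =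
        ((W.ι ≫ r).appLE (DpG 𝒜 f i) ⊤ e).hom (cPG 𝒜 f hf i l) := by
      rw [cPG_eq]; rfl
    have e2 : θ'.hom (Away.mk 𝒜 (hf i) 1 (f l) (mem_smul_one 𝒜 (hf l))) =
        ((W.ι ≫ r').appLE (DpG 𝒜 f i) ⊤ e').hom (cPG 𝒜 f hf i l) := by
      rw [cPG_eq]; rfl
    rw [e1, e2, appLE_cPG_eq_ratio hf hcovP r i l W hW e hG,
      appLE_cPG_eq_ratio hf hcovP r' i l W hW2 e' hG']
    have key : ∀ (u u' : Coh.structureModule X ⟶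
        (Scheme.Modules.pullback r').obj (Twist.twist 𝒜 ((1 : ℕ) : ℤ)))
        (hu : u = nuG hf r i ≫ τ.hom) (hu' : u' = nuG hf r l ≫ τ.hom)
        (hG'' : W.ι ''ᵁ ⊤ ≤ CohB1.genLocus _ u),
        ratio (nuG hf r i) (nuG hf r l) (W.ι ''ᵁ ⊤) hG = ratio u u' (W.ι ''ᵁ ⊤) hG'' := by
      rintro _ _ rfl rfl hG''
      exact (ratio_comp_iso (nuG hf r i) (nuG hf r l) τ (W.ι ''ᵁ ⊤) hG hG'').symm
    exact key _ _ (hτ i).symm (hτ l).symm hG'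
  apply CommRingCat.hom_ext
  refine away_hom_ext_of_dehom 𝒜 (hf i) θ.hom θ'.hom (hext _ _ _ ?_ hl)
  ext c
  have h2 := congrArg (fun φ : CommRingCat.of R₀ ⟶ Γ((↑W : Scheme.{u}), ⊤) => φ.hom c) hbb
  simp only [RingHom.comp_apply]
  have h3 : dehom 𝒜 (hf i) (algebraMap R₀ A c) =
      fromZeroRingHom 𝒜 _ (algebraMap R₀ (𝒜 0) c) := dehom_zero 𝒜 (hf i) (algebraMap R₀ (𝒜 0) c)
  rw [h3]
  exact h2


end Uniq

end Groth.Agent.Lib.helper12.ProjG
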