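import Mathlib
import Groth.Agent.Lib.Helper12.ProjG4

/-
helper12: extensionality for morphisms to `Proj 𝒜` by ratios on an open cover.

* `toProj_ext_of_appLE`: `r, r' : X ⟶ Proj 𝒜` over the base, an open cover `W c` of `X` with `W c` mapped into
  `D₊(f (a c))` by both, and `r^♯(f l / f (a c)) = r'^♯(f l / f (a c))` on `W c` for all `l` ⇒ `r = r'`.
-/

set_option autoImplicit false
set_option linter.unusedSectionVars false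
universe u

open CategoryTheory CategoryTheory.Limits AlgebraicGeometry Opposite TopologicalSpace

namespace Groth.Agent.Lib.helper12.ProjG

open Groth.Agent.Lib.helper11.IsoLocus Groth.Agent.Lib.helper11.InvHom
open Groth.Agent.Lib.helper11.GenLocus Groth.Agent.Lib.helper11.InvMod
open Groth.Agent.Lib.helper11.InvPullback
open Groth.Agent.Lib.helper12.ProjUP1 Groth.Agent.Lib.helper12.ProjUP2
open Groth.Agent.Lib.helper12.ProjUP3 Groth.Agent.Lib.helper12.ProjUP4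
open Scheme.Modules HomogeneousLocalization

section Uniq2

variable {R₀ A : Type u} [CommRing R₀] [CommRing A] [Algebra R₀ A] {𝒜 : ℕ → Submodule R₀ A}
  [GradedAlgebra 𝒜] {I : Type u} {f : I → A} (hf : ∀ i, f i ∈ 𝒜 1)
  {X : Scheme.{u}}

theorem toProj_ext_of_appLE
    (hext : ∀ (B : Type u) [CommRing B] (φ φ' : A →+* B),
      φ.comp (algebraMap R₀ A) = φ'.comp (algebraMap R₀ A) → (∀ l, φ (f l) = φ' (f l)) → φ = φ')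
    (r r' : X ⟶ Proj 𝒜)
    (hbase : r ≫ Proj.toSpecZero 𝒜 ≫ Spec.map (CommRingCat.ofHom (algebraMap R₀ (𝒜 0))) =
      r' ≫ Proj.toSpecZero 𝒜 ≫ Spec.map (CommRingCat.ofHom (algebraMap R₀ (𝒜 0))))
    {K : Type*} (W : K → X.Opens) (hcov : ⨆ c, W c = ⊤) (a : K → I)
    (hW : ∀ c, W c ≤ r ⁻¹ᵁ DpG 𝒜 f (a c)) (hW' : ∀ c, W c ≤ r' ⁻¹ᵁ DpG 𝒜 f (a c))
    (hrat : ∀ c l, (r.appLE (DpG 𝒜 f (a c)) (W c) (hW c)).hom (cPG 𝒜 f hf (a c) l) =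
      (r'.appLE (DpG 𝒜 f (a c)) (W c) (hW' c)).hom (cPG 𝒜 f hf (a c) l)) : r = r' := by
  refine (X.openCoverOfIsOpenCover W (TopologicalSpace.IsOpenCover.mk hcov)).hom_ext _ _
    fun (c : K) => ?_
  change (W c).ι ≫ r = (W c).ι ≫ r'
  set i := a c with hi
  set Wc : X.Opens := W c with hWdef
  have hWi : Wc.ι ''ᵁ ⊤ ≤ r ⁻¹ᵁ DpG 𝒜 f i := (le_of_eq Wc.ι_image_top).trans (hW c)
  have hWi' : Wc.ι ''ᵁ ⊤ ≤ r' ⁻¹ᵁ DpG 𝒜 f i := (le_of_eq Wc.ι_image_top).trans (hW' c)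
  have e : (⊤ : (↑Wc : Scheme.{u}).Opens) ≤ (Wc.ι ≫ r) ⁻¹ᵁ DpG 𝒜 f i := fun x _ =>
    hWi ⟨x, trivial, rfl⟩
  have e' : (⊤ : (↑Wc : Scheme.{u}).Opens) ≤ (Wc.ι ≫ r') ⁻¹ᵁ DpG 𝒜 f i := fun x _ =>
    hWi' ⟨x, trivial, rfl⟩
  set θ : CommRingCat.of (Away 𝒜 (f i)) ⟶ Γ((↑Wc : Scheme.{u}), ⊤) :=
    (Proj.basicOpenIsoAway 𝒜 (f i) (hf i) one_pos).hom ≫ (Wc.ι ≫ r).appLE (DpG 𝒜 f i) ⊤ e with hθ
  set θ' : CommRingCat.of (Away 𝒜 (f i)) ⟶ Γ((↑Wc : Scheme.{u}), ⊤) :=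
    (Proj.basicOpenIsoAway 𝒜 (f i) (hf i) one_pos).hom ≫ (Wc.ι ≫ r').appLE (DpG 𝒜 f i) ⊤ e'
    with hθ'
  have h1 : Wc.ι ≫ r =
      (↑Wc : Scheme.{u}).toSpecΓ ≫ Spec.map θ ≫ Proj.awayι 𝒜 (f i) (hf i) one_pos :=
    eq_chart_of_le (Wc.ι ≫ r) (hf i) one_pos e
  have h1' : Wc.ι ≫ r' =
      (↑Wc : Scheme.{u}).toSpecΓ ≫ Spec.map θ' ≫ Proj.awayι 𝒜 (f i) (hf i) one_pos :=
    eq_chart_of_le (Wc.ι ≫ r') (hf i) one_pos e'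
  suffices hθθ : θ = θ' by rw [h1, h1', hθθ]
  have hb : ∀ (g : (↑Wc : Scheme.{u}) ⟶ Proj 𝒜)
      (ϑ : CommRingCat.of (Away 𝒜 (f i)) ⟶ Γ((↑Wc : Scheme.{u}), ⊤))
      (hg : g = (↑Wc : Scheme.{u}).toSpecΓ ≫ Spec.map ϑ ≫ Proj.awayι 𝒜 (f i) (hf i) one_pos),
      CommRingCat.ofHom (algebraMap R₀ (𝒜 0)) ≫ CommRingCat.ofHom (fromZeroRingHom 𝒜 _) ≫ ϑ =
        (Scheme.ΓSpecIso _).inv ≫
          (g ≫ Proj.toSpecZero 𝒜 ≫ Spec.map (CommRingCat.ofHom (algebraMap R₀ (𝒜 0)))).appTop := by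
    intro g ϑ hg
    rw [hg]
    simp only [Category.assoc]
    rw [Proj.awayι_toSpecZero_assoc, ← Spec.map_comp, ← Spec.map_comp,
      ΓSpecIso_inv_toSpecΓ_SpecMap]
    simp only [Category.assoc]
  have hbb : CommRingCat.ofHom (algebraMap R₀ (𝒜 0)) ≫ CommRingCat.ofHom (fromZeroRingHom 𝒜 _) ≫ θ =
      CommRingCat.ofHom (algebraMap R₀ (𝒜 0)) ≫ CommRingCat.ofHom (fromZeroRingHom 𝒜 _) ≫ θ' := by
    rw [hb _ θ h1, hb _ θ' h1', Category.assoc, Category.assoc, hbase]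
  have h3 : ∀ (ρ : X ⟶ Proj 𝒜) (hρ : Wc ≤ ρ ⁻¹ᵁ DpG 𝒜 f i)
      (eρ : (⊤ : (↑Wc : Scheme.{u}).Opens) ≤ (Wc.ι ≫ ρ) ⁻¹ᵁ DpG 𝒜 f i),
      (Wc.ι ≫ ρ).appLE (DpG 𝒜 f i) ⊤ eρ =
        ρ.appLE (DpG 𝒜 f i) Wc hρ ≫ X.presheaf.map (homOfLE (le_of_eq Wc.ι_image_top)).op := by
    intro ρ hρ eρ
    rw [Scheme.Hom.comp_appLE, Scheme.Opens.ι_appLE, Scheme.Hom.appLE, Category.assoc,
      ← Functor.map_comp]
    rfl
  have hl : ∀ l, θ.hom (dehom 𝒜 (hf i) (f l)) = θ'.hom (dehom 𝒜 (hf i) (f l)) := by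
    intro l
    rw [dehom_apply_of_mem 𝒜 (hf i) (hf l)]
    have e1 : θ.hom (Away.mk 𝒜 (hf i) 1 (f l) (mem_smul_one 𝒜 (hf l))) =
        ((Wc.ι ≫ r).appLE (DpG 𝒜 f i) ⊤ e).hom (cPG 𝒜 f hf i l) := by
      rw [cPG_eq]; rfl
    have e2 : θ'.hom (Away.mk 𝒜 (hf i) 1 (f l) (mem_smul_one 𝒜 (hf l))) =
        ((Wc.ι ≫ r').appLE (DpG 𝒜 f i) ⊤ e').hom (cPG 𝒜 f hf i l) := by
      rw [cPG_eq]; rfl
    rw [e1, e2, h3 r (hW c) e, h3 r' (hW' c) e']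
    exact congrArg (X.presheaf.map (homOfLE (le_of_eq Wc.ι_image_top)).op).hom (hrat c l)
  apply CommRingCat.hom_ext
  refine away_hom_ext_of_dehom 𝒜 (hf i) θ.hom θ'.hom (hext _ _ _ ?_ hl)
  ext z
  have h2 := congrArg (fun φ : CommRingCat.of R₀ ⟶ Γ((↑Wc : Scheme.{u}), ⊤) => φ.hom z) hbb
  simp only [RingHom.comp_apply]
  have h4 : dehom 𝒜 (hf i) (algebraMap R₀ A z) =
      fromZeroRingHom 𝒜 _ (algebraMap R₀ (𝒜 0) z) := dehom_zero 𝒜 (hf i) (algebraMap R₀ (𝒜 0) z)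
  rw [h4]
  exact h2

end Uniq2

end Groth.Agent.Lib.helper12.ProjG
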