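import Mathlib

/-!
# Immersions detected on affine charts (helper12)

* `isImmersion_of_charts`: a morphism `i : X ⟶ Y` with a family of affine opens `W j` of `Y` such that
  `i ⁻¹ᵁ W j` is affine, `Γ(Y, W j) → Γ(X, i ⁻¹ᵁ W j)` is surjective and the `i ⁻¹ᵁ W j` cover `X`, is an immersion.
* `isAffineOpen_pullback_inf`: over an affine base, `fst ⁻¹ᵁ U ⊓ snd ⁻¹ᵁ V` is affine for affine opens `U`, `V`.
-/

set_option autoImplicit false
universe u

open CategoryTheory CategoryTheory.Limits AlgebraicGeometry Opposite TopologicalSpace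

namespace Groth.Agent.Lib.helper12.ImmCharts

instance respectsRight_isImmersion :
    MorphismProperty.RespectsRight @IsImmersion @IsOpenImmersion where
  postcomp i hi f hf := by
    have := hi
    have : IsImmersion f := hf
    exact (inferInstance : IsImmersion (f ≫ i))

theorem isImmersion_of_charts {X Y : Scheme.{u}} (i : X ⟶ Y) {ι : Type*} (W : ι → Y.Opens)
    (hW : ∀ j, IsAffineOpen (W j)) (hZ : ∀ j, IsAffineOpen (i ⁻¹ᵁ W j))
    (hsurj : ∀ j, Function.Surjective (i.app (W j)).hom)
    (hcov : ⨆ j, i ⁻¹ᵁ W j = ⊤) : IsImmersion i := by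
  refine IsZariskiLocalAtTarget.of_range_subset_iSup (P := @IsImmersion) W ?_ fun j => ?_
  · rintro _ ⟨x, rfl⟩
    have hx : x ∈ (⨆ j, i ⁻¹ᵁ W j) := hcov ▸ trivial
    obtain ⟨j, hj⟩ := Opens.mem_iSup.mp hx
    exact Opens.mem_iSup.mpr ⟨j, hj⟩
  · haveI : IsAffine ↑(W j) := hW j
    have : IsAffine ↑(i ⁻¹ᵁ W j) := hZ j
    have key : ∀ (V : Y.Opens) (_ : V = W j), Function.Surjective (i.app V).hom := by
      rintro V rfl; exact hsurj j
    have : IsClosedImmersion (i ∣_ W j) := by
      refine IsClosedImmersion.of_surjective_of_isAffine _ ?_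
      rw [morphismRestrict_appTop]
      have h1 := key ((W j).ι ''ᵁ ⊤) (W j).ι_image_top
      have h2 : Function.Bijective (X.presheaf.map
          (eqToHom (image_morphismRestrict_preimage i (W j) ⊤)).op).hom :=
        (ConcreteCategory.isIso_iff_bijective _).mp inferInstance
      exact h2.surjective.comp h1
    infer_instance

theorem isAffineOpen_pullback_inf {P S B : Scheme.{u}} [IsAffine B] (π : P ⟶ B) (t : S ⟶ B)
    {U : P.Opens} {V : S.Opens} (hU : IsAffineOpen U) (hV : IsAffineOpen V) :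
    IsAffineOpen (pullback.fst π t ⁻¹ᵁ U ⊓ pullback.snd π t ⁻¹ᵁ V) := by
  have : IsAffine ↑U := hU
  have : IsAffine ↑V := hV
  let m := pullback.map (U.ι ≫ π) (V.ι ≫ t) π t U.ι V.ι (𝟙 B) (by simp) (by simp)
  have h : m.opensRange = pullback.fst π t ⁻¹ᵁ U ⊓ pullback.snd π t ⁻¹ᵁ V := by
    ext1
    change Set.range m = _
    rw [Scheme.Pullback.range_map]
    simp [Scheme.Opens.range_ι]
  rw [← h]
  exact isAffineOpen_opensRange m

end Groth.Agent.Lib.helper12.ImmCharts
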