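import Mathlib
import Groth.Agent.Lib.Helper12.ProjUP6
import Groth.Agent.Lib.Helper12.ProjG4
import Groth.Agent.Lib.Helper12.ImmCharts

/-!
# Immersions into `P^n ×_R S` from sections (helper12)

For `r : X ⟶ P^n_R` with `τ : r^*O(1) ≅ L` carrying the pulled-back coordinates `nu r l` to sections `σ l`:

* `genLocus_nu`, `ratio_nu_app`, `preimage_Dp_eq`, `ratio_sigma_app`;
* `isImmersion_lift`: if the "good" loci `X_{σ j}` are affine, cover `X`, map into affine opens `V j` of `S`, and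
  `Γ(X_{σ j})` is generated as a ring by the image of `Γ(S, V j)` and the ratios `σ l / σ j`, then
  `(r, f) : X ⟶ P^n_R ×_R S` is an immersion.
-/

set_option autoImplicit false
universe u

open CategoryTheory CategoryTheory.Limits AlgebraicGeometry Opposite TopologicalSpace

namespace Groth.Agent.Lib.helper12.VAmple1

open Groth.Agent.Lib.helper11.IsoLocus Groth.Agent.Lib.helper11.InvHom
open Groth.Agent.Lib.helper11.GenLocus Groth.Agent.Lib.helper11.InvMod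
open Groth.Agent.Lib.helper11.InvPullback
open Groth.Agent.Lib.helper12.ProjUP1 Groth.Agent.Lib.helper12.ProjUP3
open Groth.Agent.Lib.helper12.ProjUP4 Groth.Agent.Lib.helper12.ProjUP5
open Groth.Agent.Lib.helper12.ProjUP6 Groth.Agent.Lib.helper12.ImmCharts
open Scheme.Modules

variable {R : Type u} [CommRing R] {n : ℕ} {X : Scheme.{u}}
  (r : X ⟶ Proj (CohB1.polyGrading n R))

theorem genLocus_nu (i : Fin (n + 1)) : CohB1.genLocus _ (nu r i) = r ⁻¹ᵁ Dp R n i := by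
  rw [← genLocus_tP R n i]
  exact genLocus_pullback r _ isInvertible_twist_one (tP R n i) (pullbackUnitIso r).symm

theorem ratio_nu_app (i l : Fin (n + 1)) (hV : r ⁻¹ᵁ Dp R n i ≤ CohB1.genLocus _ (nu r i)) :
    ratio (nu r i) (nu r l) (r ⁻¹ᵁ Dp R n i) hV = (r.app (Dp R n i)).hom (cP R n i l) := by
  have hD : Dp R n i ≤ CohB1.genLocus _ (tP R n i) := (genLocus_tP R n i).ge
  refine (ratio_pullHom r (tP R n i) (tP R n l) (Dp R n i) hD hV).trans ?_
  rw [ratio_tP]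

theorem ratio_congr {L : X.Modules} {t₁ t₂ t₁' t₂' : Coh.structureModule X ⟶ L} (h : t₁ = t₂)
    (h' : t₁' = t₂') (V : X.Opens) (hV : V ≤ CohB1.genLocus L t₁) (hV2 : V ≤ CohB1.genLocus L t₂) :
    ratio t₁ t₁' V hV = ratio t₂ t₂' V hV2 := by
  subst h h'; rfl

variable {L : X.Modules} (σ : Fin (n + 1) → (Coh.structureModule X ⟶ L))
  (τ : (Scheme.Modules.pullback r).obj (Twist.twist (CohB1.polyGrading n R) ((1 : ℕ) : ℤ)) ≅ L)
  (hτ : ∀ l, nu r l ≫ τ.hom = σ l)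

include hτ in
theorem preimage_Dp_eq (i : Fin (n + 1)) : r ⁻¹ᵁ Dp R n i = CohB1.genLocus L (σ i) := by
  rw [← hτ i, genLocus_comp_iso, genLocus_nu]

include hτ in
theorem ratio_sigma_app (i l : Fin (n + 1)) (hV : r ⁻¹ᵁ Dp R n i ≤ CohB1.genLocus L (σ i)) :
    ratio (σ i) (σ l) (r ⁻¹ᵁ Dp R n i) hV = (r.app (Dp R n i)).hom (cP R n i l) := by
  have hV1 : r ⁻¹ᵁ Dp R n i ≤ CohB1.genLocus _ (nu r i) := (genLocus_nu r i).ge
  have hV2 : r ⁻¹ᵁ Dp R n i ≤ CohB1.genLocus L (nu r i ≫ τ.hom) := by rw [hτ i]; exact hV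
  rw [← ratio_nu_app r i l hV1, ← Groth.Agent.Lib.helper12.ProjG.ratio_comp_iso (nu r i) (nu r l) τ _ hV1 hV2]
  exact ratio_congr (hτ i).symm (hτ l).symm _ _ _

include hτ in
/-- **Immersion criterion.**  `(r, f) : X ⟶ P^n_R ×_R S` is an immersion as soon as the good loci `X_{σ j}` are
affine, cover `X`, map into affine opens `V j ⊆ S` and have coordinate rings generated by `Γ(S, V j)` and the
ratios `σ l / σ j`. -/
theorem isImmersion_lift {S : Scheme.{u}} (t : S ⟶ Spec (CommRingCat.of R)) (f : X ⟶ S)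
    (π : Proj (CohB1.polyGrading n R) ⟶ Spec (CommRingCat.of R))
    (hrf : r ≫ π = f ≫ t)
    (good : Fin (n + 1) → Prop) (V : Fin (n + 1) → S.Opens)
    (hV : ∀ j, good j → IsAffineOpen (V j))
    (hZ : ∀ j, good j → IsAffineOpen (CohB1.genLocus L (σ j)))
    (hle : ∀ j, good j → CohB1.genLocus L (σ j) ≤ f ⁻¹ᵁ V j)
    (hgen : ∀ j (hj : good j), Subring.closure
      (Set.range (f.appLE (V j) (CohB1.genLocus L (σ j)) (hle j hj)).hom ∪
        Set.range (fun l => ratio (σ j) (σ l) (CohB1.genLocus L (σ j)) le_rfl)) = ⊤)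
    (hcov : ∀ x : X, ∃ j, good j ∧ x ∈ CohB1.genLocus L (σ j)) :
    IsImmersion (pullback.lift r f hrf) := by
  set i := pullback.lift r f hrf with hi
  have hi1 : i ≫ pullback.fst π t = r := pullback.lift_fst _ _ _
  have hi2 : i ≫ pullback.snd π t = f := pullback.lift_snd _ _ _
  let W : {j // good j} → (pullback π t).Opens := fun j =>
    pullback.fst π t ⁻¹ᵁ Dp R n j.1 ⊓ pullback.snd π t ⁻¹ᵁ V j.1
  have hpre : ∀ j : {j // good j}, i ⁻¹ᵁ W j = CohB1.genLocus L (σ j.1) := by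
    intro j
    change (i ≫ pullback.fst π t) ⁻¹ᵁ Dp R n j.1 ⊓ (i ≫ pullback.snd π t) ⁻¹ᵁ V j.1 = _
    rw [hi1, hi2, preimage_Dp_eq r σ τ hτ]
    exact inf_eq_left.mpr (hle j.1 j.2)
  refine isImmersion_of_charts i W (fun j => isAffineOpen_pullback_inf π t
    (Proj.isAffineOpen_basicOpen _ _ (ProjUP3.X_mem j.1) one_pos) (hV j.1 j.2))
    (fun j => (hpre j).symm ▸ hZ j.1 j.2) (fun j => ?_) ?_
  · have key : ∀ (Z' : X.Opens) (_ : i ⁻¹ᵁ W j = Z') (hle' : Z' ≤ f ⁻¹ᵁ V j.1)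
        (hg' : Z' ≤ CohB1.genLocus L (σ j.1)),
        Subring.closure (Set.range (f.appLE (V j.1) Z' hle').hom ∪
          Set.range (fun l => ratio (σ j.1) (σ l) Z' hg')) = ⊤ →
        Function.Surjective (i.app (W j)).hom := by
      rintro Z' rfl hle' hg' hcl
      rw [← RingHom.range_eq_top, eq_top_iff, ← hcl, Subring.closure_le]
      rintro _ (⟨c, rfl⟩ | ⟨l, rfl⟩)
      · have e' : i ⁻¹ᵁ W j ≤ (i ≫ pullback.snd π t) ⁻¹ᵁ V j.1 := by rw [hi2]; exact hle'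
        have e1 : (pullback.snd π t).app (V j.1) ≫
            (pullback π t).presheaf.map (homOfLE (inf_le_right : W j ≤ _)).op ≫ i.app (W j) =
            f.appLE (V j.1) (i ⁻¹ᵁ W j) hle' := by
          rw [appLE_eq_of_eq hi2.symm (V j.1) (i ⁻¹ᵁ W j) hle' e', Scheme.Hom.comp_appLE,
            Scheme.Hom.app_eq_appLE (f := i), Scheme.Hom.map_appLE]
        rw [← e1]
        exact ⟨_, rfl⟩
      · have e' : i ⁻¹ᵁ W j ≤ (i ≫ pullback.fst π t) ⁻¹ᵁ Dp R n j.1 := by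
          rw [hi1, preimage_Dp_eq r σ τ hτ]; exact hg'
        have e'' : i ⁻¹ᵁ W j ≤ r ⁻¹ᵁ Dp R n j.1 := by
          rw [preimage_Dp_eq r σ τ hτ]; exact hg'
        have e1 : (pullback.fst π t).app (Dp R n j.1) ≫
            (pullback π t).presheaf.map (homOfLE (inf_le_left : W j ≤ _)).op ≫ i.app (W j) =
            r.appLE (Dp R n j.1) (i ⁻¹ᵁ W j) e'' := by
          rw [appLE_eq_of_eq hi1.symm (Dp R n j.1) (i ⁻¹ᵁ W j) e'' e', Scheme.Hom.comp_appLE,
            Scheme.Hom.app_eq_appLE (f := i), Scheme.Hom.map_appLE]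
        have e2 : ratio (σ j.1) (σ l) (i ⁻¹ᵁ W j) hg' =
            (r.appLE (Dp R n j.1) (i ⁻¹ᵁ W j) e'').hom (cP R n j.1 l) := by
          have hV0 : r ⁻¹ᵁ Dp R n j.1 ≤ CohB1.genLocus L (σ j.1) :=
            (preimage_Dp_eq r σ τ hτ j.1).le
          rw [← ratio_res (σ j.1) (σ l) e'' hV0, ratio_sigma_app r σ τ hτ j.1 l hV0]
          rfl
        change ratio (σ j.1) (σ l) (i ⁻¹ᵁ W j) hg' ∈ _
        rw [e2, ← e1]
        exact ⟨_, rfl⟩
    exact key _ (hpre j) (hle j.1 j.2) le_rfl (hgen j.1 j.2)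
  · rw [eq_top_iff]
    intro x _
    obtain ⟨j, hj, hx⟩ := hcov x
    refine Opens.mem_iSup.mpr ⟨⟨j, hj⟩, ?_⟩
    rw [hpre]
    exact hx

end Groth.Agent.Lib.helper12.VAmple1
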