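import Mathlib
import Groth.Agent.Lib.Helper12.VAmple1
import Groth.Agent.Lib.Helper12.ProjG5
import Groth.Agent.Lib.Helper11.TensorEpi

/-!
# Segre maps (helper12), part 1

* `ratio_tmulHom`: the ratio of tensor products of sections is the product of the ratios.
* `cP_self`.
* `toProjSpace_ext_of_appLE`: extensionality of maps to `P^n_R` by ratios on an open cover.
* `exists_segre`: for `u : T ⟶ P^n_R`, `v : T ⟶ P^m_R` over `q : T ⟶ Spec R` and an enumeration
  `e : Fin (N + 1) ≃ Fin (n + 1) × Fin (m + 1)`, the map `r : T ⟶ P^N_R` with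
  `r^*(x_c / x_c') = u^*(x_a / x_a') · v^*(y_b / y_b')`.
-/

set_option autoImplicit false
universe u

open CategoryTheory CategoryTheory.Limits AlgebraicGeometry Opposite TopologicalSpace

namespace Groth.Agent.Lib.helper12.Segre

open Groth.Agent.Lib.helper11.IsoLocus Groth.Agent.Lib.helper11.InvHom
open Groth.Agent.Lib.helper11.GenLocus Groth.Agent.Lib.helper11.InvMod
open Groth.Agent.Lib.helper11.InvPullback
open Groth.Agent.Lib.helper12.ProjUP1 Groth.Agent.Lib.helper12.ProjUP3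
open Groth.Agent.Lib.helper12.ProjUP4 Groth.Agent.Lib.helper12.ProjUP5
open Groth.Agent.Lib.helper12.ProjUP6 Groth.Agent.Lib.helper12.VAmple1
open Groth.Agent.Lib.helper12.TensorSec Groth.Agent.Lib.helper12.TensorInv
open Scheme.Modules

variable {X : Scheme.{u}}

theorem ratio_tmulHom {M N : X.Modules} (a a' : Coh.structureModule X ⟶ M)
    (b b' : Coh.structureModule X ⟶ N) (V : X.Opens) (ha : V ≤ CohB1.genLocus M a)
    (hb : V ≤ CohB1.genLocus N b)
    (hab : V ≤ CohB1.genLocus _ (SecTwist.tmulHom a b)) :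
    ratio (SecTwist.tmulHom a b) (SecTwist.tmulHom a' b') V hab =
      ratio a a' V ha * ratio b b' V hb := by
  symm
  apply eq_ratio
  change ((ratio a a' V ha * ratio b b' V hb : Γ(X, V)) : X.ringCatSheaf.obj.obj (op V)) •
    SecTwist.val (SecTwist.tmulHom a b) V = SecTwist.val (SecTwist.tmulHom a' b') V
  rw [SecTwist.val_tmulHom, SecTwist.val_tmulHom]
  have h1 := ratio_smul a a' V ha
  have h2 := ratio_smul b b' V hb
  have h3 : SecTwist.tmul M N V (SecTwist.val a' V) (SecTwist.val b' V) =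
      SecTwist.tmul M N V
        ((ratio a a' V ha : X.ringCatSheaf.obj.obj (op V)) • SecTwist.val a V)
        ((ratio b b' V hb : X.ringCatSheaf.obj.obj (op V)) • SecTwist.val b V) := by
    congr 1
    · exact h1.symm
    · exact h2.symm
  rw [h3]
  refine Eq.trans ?_ (Groth.Agent.Lib.helper12.AmpleBasis.tmul_smul_left M N V
    (ratio a a' V ha) (SecTwist.val a V)
    ((ratio b b' V hb : X.ringCatSheaf.obj.obj (op V)) • SecTwist.val b V)).symm
  refine Eq.trans ?_ (congrArg (fun z => (ratio a a' V ha : X.ringCatSheaf.obj.obj (op V)) • z)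
    (Groth.Agent.Lib.helper11.TensorEpi.tmul_smul_right M N V
      (ratio b b' V hb) (SecTwist.val a V) (SecTwist.val b V)).symm)
  exact mul_smul _ _ _

theorem cP_self (R : Type u) [CommRing R] (n : ℕ) (i : Fin (n + 1)) : cP R n i i = 1 := by
  have hD : Dp R n i ≤ CohB1.genLocus _ (tP R n i) := (genLocus_tP R n i).ge
  rw [← ratio_tP i i hD]
  exact ratio_self _ _ _

/-- Extensionality of maps to `P^n_R` by ratios on an open cover. -/
theorem toProjSpace_ext_of_appLE {R : Type u} [CommRing R] {n : ℕ}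
    (r r' : X ⟶ Proj (CohB1.polyGrading n R))
    (hbase : (show X ⟶ CohB1.ProjSpace n R from r) ≫ CohB1.ProjSpace.toSpec n R =
      (show X ⟶ CohB1.ProjSpace n R from r') ≫ CohB1.ProjSpace.toSpec n R)
    {K : Type*} (W : K → X.Opens) (hcov : ⨆ c, W c = ⊤) (a : K → Fin (n + 1))
    (hW : ∀ c, W c ≤ r ⁻¹ᵁ Dp R n (a c)) (hW' : ∀ c, W c ≤ r' ⁻¹ᵁ Dp R n (a c))
    (hrat : ∀ c l, (r.appLE (Dp R n (a c)) (W c) (hW c)).hom (cP R n (a c) l) =
      (r'.appLE (Dp R n (a c)) (W c) (hW' c)).hom (cP R n (a c) l)) : r = r' := by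
  have hfX : ∀ i : ULift.{u} (Fin (n + 1)),
      (MvPolynomial.X i.down : MvPolynomial (Fin (n + 1)) R) ∈ CohB1.polyGrading n R 1 :=
    fun i => Groth.Agent.Lib.helper28.TwistPn.X_mem n R i.down
  refine Groth.Agent.Lib.helper12.ProjG.toProj_ext_of_appLE (𝒜 := CohB1.polyGrading n R)
    (f := fun i : ULift.{u} (Fin (n + 1)) => (MvPolynomial.X i.down : MvPolynomial (Fin (n + 1)) R))
    hfX ?_ r r' hbase W hcov (fun c => ⟨a c⟩) hW hW' (fun c l => hrat c l.down)
  intro B _ φ φ' h1 h2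
  refine MvPolynomial.ringHom_ext (fun c => ?_) (fun l => h2 ⟨l⟩)
  exact congrArg (fun ψ : R →+* B => ψ c) h1

/-- **Segre map on `T`-points.** -/
theorem exists_segre {R : Type u} [CommRing R] {n m N : ℕ}
    (e : Fin (N + 1) ≃ Fin (n + 1) × Fin (m + 1))
    {T : Scheme.{u}} (q : T ⟶ Spec (CommRingCat.of R))
    (u : T ⟶ Proj (CohB1.polyGrading n R)) (v : T ⟶ Proj (CohB1.polyGrading m R)) :
    ∃ r : T ⟶ Proj (CohB1.polyGrading N R),
      (show T ⟶ CohB1.ProjSpace N R from r) ≫ CohB1.ProjSpace.toSpec N R = q ∧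
      (∀ c, r ⁻¹ᵁ Dp R N c = u ⁻¹ᵁ Dp R n (e c).1 ⊓ v ⁻¹ᵁ Dp R m (e c).2) ∧
      ∀ (c c' : Fin (N + 1)) (W : T.Opens) (hW : W ≤ r ⁻¹ᵁ Dp R N c)
        (hu : W ≤ u ⁻¹ᵁ Dp R n (e c).1) (hv : W ≤ v ⁻¹ᵁ Dp R m (e c).2),
        (r.appLE (Dp R N c) W hW).hom (cP R N c c') =
          (u.appLE (Dp R n (e c).1) W hu).hom (cP R n (e c).1 (e c').1) *
          (v.appLE (Dp R m (e c).2) W hv).hom (cP R m (e c).2 (e c').2) := by
  have hMu : PicF.IsInvertible ((Scheme.Modules.pullback u).obj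
      (Twist.twist (CohB1.polyGrading n R) ((1 : ℕ) : ℤ))) :=
    isInvertible_pullback u isInvertible_twist_one
  have hMv : PicF.IsInvertible ((Scheme.Modules.pullback v).obj
      (Twist.twist (CohB1.polyGrading m R) ((1 : ℕ) : ℤ))) :=
    isInvertible_pullback v isInvertible_twist_one
  let σ : Fin (N + 1) → (Coh.structureModule T ⟶ CohB1.tensorMod
      ((Scheme.Modules.pullback u).obj (Twist.twist (CohB1.polyGrading n R) ((1 : ℕ) : ℤ)))
      ((Scheme.Modules.pullback v).obj (Twist.twist (CohB1.polyGrading m R) ((1 : ℕ) : ℤ)))) :=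
    fun c => SecTwist.tmulHom (nu u (e c).1) (nu v (e c).2)
  have hloc : ∀ c, CohB1.genLocus _ (σ c) = u ⁻¹ᵁ Dp R n (e c).1 ⊓ v ⁻¹ᵁ Dp R m (e c).2 := by
    intro c
    rw [← genLocus_nu u (e c).1, ← genLocus_nu v (e c).2]
    exact genLocus_tmulHom hMu hMv _ _
  have hcov : ⨆ c, gU σ c = ⊤ := by
    rw [eq_top_iff]
    intro x _
    obtain ⟨a, ha⟩ := Groth.Agent.Lib.helper28.TwistPn.exists_X_notMem n R (u x)
    obtain ⟨b, hb⟩ := Groth.Agent.Lib.helper28.TwistPn.exists_X_notMem m R (v x)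
    refine Opens.mem_iSup.mpr ⟨e.symm (a, b), ?_⟩
    change x ∈ CohB1.genLocus _ (σ (e.symm (a, b)))
    rw [hloc, Equiv.apply_symm_apply]
    exact ⟨(ProjectiveSpectrum.mem_basicOpen _ _ _).mpr ha,
      (ProjectiveSpectrum.mem_basicOpen _ _ _).mpr hb⟩
  obtain ⟨r, hr⟩ := exists_toProj q σ hcov
  obtain ⟨τ, hτ⟩ := exists_iso_nu q σ r hr hcov
  refine ⟨r, toProj_toSpec q σ hcov r hr, fun c => ?_, fun c c' W hW hu hv => ?_⟩
  · rw [preimage_Dp_eq r σ τ hτ c, hloc]
  · have hV0 : r ⁻¹ᵁ Dp R N c ≤ CohB1.genLocus _ (σ c) := (preimage_Dp_eq r σ τ hτ c).le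
    have h1 : (r.appLE (Dp R N c) W hW).hom (cP R N c c') =
        ratio (σ c) (σ c') W (hW.trans hV0) := by
      rw [← ratio_res (σ c) (σ c') hW hV0, ratio_sigma_app r σ τ hτ c c' hV0]
      rfl
    have hgu : u ⁻¹ᵁ Dp R n (e c).1 ≤ CohB1.genLocus _ (nu u (e c).1) := (genLocus_nu u _).ge
    have hgv : v ⁻¹ᵁ Dp R m (e c).2 ≤ CohB1.genLocus _ (nu v (e c).2) := (genLocus_nu v _).ge
    have h2 : (u.appLE (Dp R n (e c).1) W hu).hom (cP R n (e c).1 (e c').1) =
        ratio (nu u (e c).1) (nu u (e c').1) W (hu.trans hgu) := by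
      rw [← ratio_res (nu u (e c).1) (nu u (e c').1) hu hgu, ratio_nu_app u _ _ hgu]
      rfl
    have h3 : (v.appLE (Dp R m (e c).2) W hv).hom (cP R m (e c).2 (e c').2) =
        ratio (nu v (e c).2) (nu v (e c').2) W (hv.trans hgv) := by
      rw [← ratio_res (nu v (e c).2) (nu v (e c').2) hv hgv, ratio_nu_app v _ _ hgv]
      rfl
    rw [h1, h2, h3]
    exact ratio_tmulHom _ _ _ _ W _ _ _

end Groth.Agent.Lib.helper12.Segre
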