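import Mathlib
import Groth.Agent.Lib.Helper12.Segre1
import Groth.Agent.Lib.Helper19.ProjSpaceProper

/-!
# Segre maps (helper12), part 2: injectivity on points and the Segre embedding

* `segre_comp_eq`: if `g₁ ≫ r = g₂ ≫ r` for a Segre map `r` of `(u, v)` then `g₁ ≫ u = g₂ ≫ u`.
* `exists_segre_embedding` (= S1616): the closed immersion `P^n_S ×_S P^m_S ⟶ P^{nm+n+m}_S`.
-/

set_option autoImplicit false
universe u

open CategoryTheory CategoryTheory.Limits AlgebraicGeometry Opposite TopologicalSpace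

namespace Groth.Agent.Lib.helper12.Segre

open Groth.Agent.Lib.helper12.ProjUP5 Groth.Agent.Lib.helper12.ProjUP6

variable {R : Type u} [CommRing R] {n m N : ℕ}

theorem iSup_preimage_Dp {T : Scheme.{u}} (ρ : T ⟶ Proj (CohB1.polyGrading N R)) :
    ⨆ c, ρ ⁻¹ᵁ Dp R N c = ⊤ := by
  rw [eq_top_iff]
  intro x _
  obtain ⟨a, ha⟩ := Groth.Agent.Lib.helper28.TwistPn.exists_X_notMem N R (ρ x)
  exact Opens.mem_iSup.mpr ⟨a, (ProjectiveSpectrum.mem_basicOpen _ _ _).mpr ha⟩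

/-- First component of the injectivity of the Segre map on `T`-points. -/
theorem segre_comp_eq_left (e : Fin (N + 1) ≃ Fin (n + 1) × Fin (m + 1))
    {Z T : Scheme.{u}} (q : Z ⟶ Spec (CommRingCat.of R))
    (u : Z ⟶ Proj (CohB1.polyGrading n R)) (v : Z ⟶ Proj (CohB1.polyGrading m R))
    (hu : (show Z ⟶ CohB1.ProjSpace n R from u) ≫ CohB1.ProjSpace.toSpec n R = q)
    (r : Z ⟶ Proj (CohB1.polyGrading N R))
    (hr : (show Z ⟶ CohB1.ProjSpace N R from r) ≫ CohB1.ProjSpace.toSpec N R = q)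
    (h2 : ∀ c, r ⁻¹ᵁ Dp R N c = u ⁻¹ᵁ Dp R n (e c).1 ⊓ v ⁻¹ᵁ Dp R m (e c).2)
    (h3 : ∀ (c c' : Fin (N + 1)) (W : Z.Opens) (hW : W ≤ r ⁻¹ᵁ Dp R N c)
        (hu : W ≤ u ⁻¹ᵁ Dp R n (e c).1) (hv : W ≤ v ⁻¹ᵁ Dp R m (e c).2),
        (r.appLE (Dp R N c) W hW).hom (cP R N c c') =
          (u.appLE (Dp R n (e c).1) W hu).hom (cP R n (e c).1 (e c').1) *
          (v.appLE (Dp R m (e c).2) W hv).hom (cP R m (e c).2 (e c').2))
    (g₁ g₂ : T ⟶ Z) (hg : g₁ ≫ r = g₂ ≫ r) : g₁ ≫ u = g₂ ≫ u := by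
  have hq : g₁ ≫ q = g₂ ≫ q := by
    rw [← hr]
    change (g₁ ≫ r) ≫ CohB1.ProjSpace.toSpec N R = (g₂ ≫ r) ≫ CohB1.ProjSpace.toSpec N R
    rw [hg]
  have hYu : ∀ c, r ⁻¹ᵁ Dp R N c ≤ u ⁻¹ᵁ Dp R n (e c).1 := fun c => by
    rw [h2]; exact inf_le_left
  have hYv : ∀ c, r ⁻¹ᵁ Dp R N c ≤ v ⁻¹ᵁ Dp R m (e c).2 := fun c => by
    rw [h2]; exact inf_le_right
  have hW : ∀ c, (g₁ ≫ r) ⁻¹ᵁ Dp R N c ≤ (g₁ ≫ u) ⁻¹ᵁ Dp R n (e c).1 := fun c =>
    Scheme.Hom.preimage_mono g₁ (hYu c)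
  have hW' : ∀ c, (g₁ ≫ r) ⁻¹ᵁ Dp R N c ≤ (g₂ ≫ u) ⁻¹ᵁ Dp R n (e c).1 := fun c => by
    rw [hg]
    exact Scheme.Hom.preimage_mono g₂ (hYu c)
  refine toProjSpace_ext_of_appLE (g₁ ≫ u) (g₂ ≫ u) ?_
    (fun c : Fin (N + 1) => (g₁ ≫ r) ⁻¹ᵁ Dp R N c) (iSup_preimage_Dp _) (fun c => (e c).1)
    hW hW' fun c l => ?_
  · change g₁ ≫ ((show Z ⟶ CohB1.ProjSpace n R from u) ≫ CohB1.ProjSpace.toSpec n R) =
      g₂ ≫ ((show Z ⟶ CohB1.ProjSpace n R from u) ≫ CohB1.ProjSpace.toSpec n R)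
    rw [hu, hq]
  · -- the key ratio identity on `Y = r⁻¹ D₊(x_c)`
    set Y : Z.Opens := r ⁻¹ᵁ Dp R N c with hY
    have key : (u.appLE (Dp R n (e c).1) Y (hYu c)).hom (cP R n (e c).1 l) =
        (r.appLE (Dp R N c) Y le_rfl).hom (cP R N c (e.symm (l, (e c).2))) := by
      rw [h3 c (e.symm (l, (e c).2)) Y le_rfl (hYu c) (hYv c)]
      simp only [Equiv.apply_symm_apply]
      rw [cP_self, map_one, mul_one]
    have e1 : ∀ (g : T ⟶ Z) (hgW : (g₁ ≫ r) ⁻¹ᵁ Dp R N c ≤ g ⁻¹ᵁ Y)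
        (hgu : (g₁ ≫ r) ⁻¹ᵁ Dp R N c ≤ (g ≫ u) ⁻¹ᵁ Dp R n (e c).1)
        (hgr : (g₁ ≫ r) ⁻¹ᵁ Dp R N c ≤ (g ≫ r) ⁻¹ᵁ Dp R N c),
        ((g ≫ u).appLE (Dp R n (e c).1) ((g₁ ≫ r) ⁻¹ᵁ Dp R N c) hgu).hom (cP R n (e c).1 l) =
          ((g ≫ r).appLE (Dp R N c) ((g₁ ≫ r) ⁻¹ᵁ Dp R N c) hgr).hom
            (cP R N c (e.symm (l, (e c).2))) := by
      intro g hgW hgu hgr
      rw [← Scheme.Hom.appLE_comp_appLE g u (Dp R n (e c).1) Y _ (hYu c) hgW,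
        ← Scheme.Hom.appLE_comp_appLE g r (Dp R N c) Y _ le_rfl hgW]
      exact congrArg (g.appLE Y _ hgW).hom key
    rw [e1 g₁ le_rfl (hW c) le_rfl, e1 g₂ (by rw [hg]; exact le_rfl) (hW' c) (by rw [hg])]
    exact congrArg (fun φ => φ.hom (cP R N c (e.symm (l, (e c).2))))
      (appLE_eq_of_eq hg (Dp R N c) _ le_rfl (by rw [hg]))

/-- Second component of the injectivity of the Segre map on `T`-points. -/
theorem segre_comp_eq_right (e : Fin (N + 1) ≃ Fin (n + 1) × Fin (m + 1))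
    {Z T : Scheme.{u}} (q : Z ⟶ Spec (CommRingCat.of R))
    (u : Z ⟶ Proj (CohB1.polyGrading n R)) (v : Z ⟶ Proj (CohB1.polyGrading m R))
    (hv : (show Z ⟶ CohB1.ProjSpace m R from v) ≫ CohB1.ProjSpace.toSpec m R = q)
    (r : Z ⟶ Proj (CohB1.polyGrading N R))
    (hr : (show Z ⟶ CohB1.ProjSpace N R from r) ≫ CohB1.ProjSpace.toSpec N R = q)
    (h2 : ∀ c, r ⁻¹ᵁ Dp R N c = u ⁻¹ᵁ Dp R n (e c).1 ⊓ v ⁻¹ᵁ Dp R m (e c).2)
    (h3 : ∀ (c c' : Fin (N + 1)) (W : Z.Opens) (hW : W ≤ r ⁻¹ᵁ Dp R N c)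
        (hu : W ≤ u ⁻¹ᵁ Dp R n (e c).1) (hv : W ≤ v ⁻¹ᵁ Dp R m (e c).2),
        (r.appLE (Dp R N c) W hW).hom (cP R N c c') =
          (u.appLE (Dp R n (e c).1) W hu).hom (cP R n (e c).1 (e c').1) *
          (v.appLE (Dp R m (e c).2) W hv).hom (cP R m (e c).2 (e c').2))
    (g₁ g₂ : T ⟶ Z) (hg : g₁ ≫ r = g₂ ≫ r) : g₁ ≫ v = g₂ ≫ v := by
  refine segre_comp_eq_left (e.trans (Equiv.prodComm _ _)) q v u hv r hr (fun c => ?_)
    (fun c c' W hW hv' hu' => ?_) g₁ g₂ hg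
  · rw [h2 c, inf_comm]
    rfl
  · rw [h3 c c' W hW hu' hv', mul_comm]
    rfl

/-- **Segre embedding** (= S1616): a closed immersion `P^n_S ×_S P^m_S ⟶ P^{nm+n+m}_S` over `S`. -/
theorem exists_segre_embedding (S : Scheme.{u}) (n m : ℕ) :
    ∃ φ : pullback (CohB1.ProjSpaceOver.toBase n S) (CohB1.ProjSpaceOver.toBase m S) ⟶
        CohB1.ProjSpaceOver (n * m + n + m) S,
      IsClosedImmersion φ ∧ φ ≫ CohB1.ProjSpaceOver.toBase (n * m + n + m) S =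
        pullback.fst (CohB1.ProjSpaceOver.toBase n S) (CohB1.ProjSpaceOver.toBase m S) ≫
          CohB1.ProjSpaceOver.toBase n S := by
  have := Groth.Agent.Lib.helper19.ProjSpaceProper.proper_toBase n S
  have := Groth.Agent.Lib.helper19.ProjSpaceProper.proper_toBase m S
  have := Groth.Agent.Lib.helper19.ProjSpaceProper.proper_toBase (n * m + n + m) S
  let p1 : pullback (CohB1.ProjSpaceOver.toBase n S) (CohB1.ProjSpaceOver.toBase m S) ⟶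
    CohB1.ProjSpaceOver n S := pullback.fst _ _
  let p2 : pullback (CohB1.ProjSpaceOver.toBase n S) (CohB1.ProjSpaceOver.toBase m S) ⟶
    CohB1.ProjSpaceOver m S := pullback.snd _ _
  let f1 : CohB1.ProjSpaceOver n S ⟶ CohB1.ProjSpace n (ULift.{u} ℤ) :=
    pullback.fst (CohB1.ProjSpace.toSpec n (ULift.{u} ℤ)) (specULiftZIsTerminal.from S)
  let f2 : CohB1.ProjSpaceOver m S ⟶ CohB1.ProjSpace m (ULift.{u} ℤ) :=
    pullback.fst (CohB1.ProjSpace.toSpec m (ULift.{u} ℤ)) (specULiftZIsTerminal.from S)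
  let u : pullback (CohB1.ProjSpaceOver.toBase n S) (CohB1.ProjSpaceOver.toBase m S) ⟶
    Proj (CohB1.polyGrading n (ULift.{u} ℤ)) := p1 ≫ f1
  let v : pullback (CohB1.ProjSpaceOver.toBase n S) (CohB1.ProjSpaceOver.toBase m S) ⟶
    Proj (CohB1.polyGrading m (ULift.{u} ℤ)) := p2 ≫ f2
  let h : pullback (CohB1.ProjSpaceOver.toBase n S) (CohB1.ProjSpaceOver.toBase m S) ⟶ S :=
    p1 ≫ CohB1.ProjSpaceOver.toBase n S
  have hN : n * m + n + m + 1 = (n + 1) * (m + 1) := by ring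
  let e : Fin (n * m + n + m + 1) ≃ Fin (n + 1) × Fin (m + 1) :=
    (finCongr hN).trans finProdFinEquiv.symm
  obtain ⟨r, hr, h2, h3⟩ := exists_segre e (specULiftZIsTerminal.from _) u v
  have hrh : (show pullback (CohB1.ProjSpaceOver.toBase n S) (CohB1.ProjSpaceOver.toBase m S) ⟶
      CohB1.ProjSpace (n * m + n + m) (ULift.{u} ℤ) from r) ≫
      CohB1.ProjSpace.toSpec (n * m + n + m) (ULift.{u} ℤ) = h ≫ specULiftZIsTerminal.from S :=
    specULiftZIsTerminal.hom_ext _ _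
  let f3 : CohB1.ProjSpaceOver (n * m + n + m) S ⟶ CohB1.ProjSpace (n * m + n + m) (ULift.{u} ℤ) :=
    pullback.fst (CohB1.ProjSpace.toSpec (n * m + n + m) (ULift.{u} ℤ)) (specULiftZIsTerminal.from S)
  let φ : pullback (CohB1.ProjSpaceOver.toBase n S) (CohB1.ProjSpaceOver.toBase m S) ⟶
      CohB1.ProjSpaceOver (n * m + n + m) S := pullback.lift _ h hrh
  have hφ2 : φ ≫ CohB1.ProjSpaceOver.toBase (n * m + n + m) S = h := pullback.lift_snd _ _ _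
  have hφ1 : φ ≫ f3 = r := pullback.lift_fst _ _ _
  refine ⟨φ, ?_, hφ2⟩
  rw [IsClosedImmersion.iff_isProper_and_mono]
  constructor
  · have hp : IsProper (φ ≫ CohB1.ProjSpaceOver.toBase (n * m + n + m) S) := by
      rw [hφ2]
      exact (inferInstance : IsProper (p1 ≫ CohB1.ProjSpaceOver.toBase n S))
    exact IsProper.of_comp φ (CohB1.ProjSpaceOver.toBase (n * m + n + m) S)
  · constructor
    intro T g₁ g₂ hg
    have hgr : g₁ ≫ r = g₂ ≫ r := by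
      have h1 : (g₁ ≫ φ) ≫ f3 = (g₂ ≫ φ) ≫ f3 := congrArg (· ≫ f3) hg
      rw [Category.assoc, Category.assoc] at h1
      exact (congrArg (g₁ ≫ ·) hφ1).symm.trans (h1.trans (congrArg (g₂ ≫ ·) hφ1))
    have hgh : g₁ ≫ h = g₂ ≫ h := by
      have h1 : (g₁ ≫ φ) ≫ CohB1.ProjSpaceOver.toBase (n * m + n + m) S =
          (g₂ ≫ φ) ≫ CohB1.ProjSpaceOver.toBase (n * m + n + m) S :=
        congrArg (· ≫ CohB1.ProjSpaceOver.toBase (n * m + n + m) S) hg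
      rw [Category.assoc, Category.assoc] at h1
      exact (congrArg (g₁ ≫ ·) hφ2).symm.trans (h1.trans (congrArg (g₂ ≫ ·) hφ2))
    have hgu : g₁ ≫ u = g₂ ≫ u :=
      segre_comp_eq_left e (specULiftZIsTerminal.from _) u v (specULiftZIsTerminal.hom_ext _ _)
        r hr h2 h3 g₁ g₂ hgr
    have hgv : g₁ ≫ v = g₂ ≫ v :=
      segre_comp_eq_right e (specULiftZIsTerminal.from _) u v (specULiftZIsTerminal.hom_ext _ _)
        r hr h2 h3 g₁ g₂ hgr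
    have hc : p1 ≫ CohB1.ProjSpaceOver.toBase n S = p2 ≫ CohB1.ProjSpaceOver.toBase m S :=
      pullback.condition
    have hgh' : g₁ ≫ p2 ≫ CohB1.ProjSpaceOver.toBase m S =
        g₂ ≫ p2 ≫ CohB1.ProjSpaceOver.toBase m S := by
      rw [← hc]; exact hgh
    apply pullback.hom_ext
    · apply pullback.hom_ext
      · exact (Category.assoc g₁ p1 f1).trans (hgu.trans (Category.assoc g₂ p1 f1).symm)
      · exact (Category.assoc g₁ p1 (CohB1.ProjSpaceOver.toBase n S)).trans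
          (hgh.trans (Category.assoc g₂ p1 (CohB1.ProjSpaceOver.toBase n S)).symm)
    · apply pullback.hom_ext
      · exact (Category.assoc g₁ p2 f2).trans (hgv.trans (Category.assoc g₂ p2 f2).symm)
      · exact (Category.assoc g₁ p2 (CohB1.ProjSpaceOver.toBase m S)).trans
          (hgh'.trans (Category.assoc g₂ p2 (CohB1.ProjSpaceOver.toBase m S)).symm)

end Groth.Agent.Lib.helper12.Segre
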