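import Mathlib
import Groth.Agent.Lib.Helper12.Chow3
import Groth.Agent.Lib.Helper12.Segre2

/-
helper12: Chow's lemma, part 4 — a weak product of finitely many projective spaces over `S`, closed in a projective
space (iterated Segre embedding).
-/

set_option autoImplicit false
universe u

open CategoryTheory CategoryTheory.Limits AlgebraicGeometry Opposite TopologicalSpace

namespace Groth.Agent.Lib.helper12.Chow4

/-- A weak product over `S` of `P^{n_0}_S, …, P^{n_m}_S` which is a closed subscheme of some `P^N_S`. -/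
theorem exists_weak_product (S : Scheme.{u}) : ∀ (m : ℕ) (n : Fin (m + 1) → ℕ),
    ∃ (P : Scheme.{u}) (q : P ⟶ S) (p : ∀ i, P ⟶ CohB1.ProjSpaceOver (n i) S) (N : ℕ)
      (c : P ⟶ CohB1.ProjSpaceOver N S),
      IsClosedImmersion c ∧ c ≫ CohB1.ProjSpaceOver.toBase N S = q ∧
      (∀ i, p i ≫ CohB1.ProjSpaceOver.toBase (n i) S = q) ∧
      ∀ (T : Scheme.{u}) (t : T ⟶ S) (a : ∀ i, T ⟶ CohB1.ProjSpaceOver (n i) S),
        (∀ i, a i ≫ CohB1.ProjSpaceOver.toBase (n i) S = t) →
        ∃ b : T ⟶ P, b ≫ q = t ∧ ∀ i, b ≫ p i = a i := by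
  intro m
  induction m with
  | zero =>
    intro n
    refine ⟨CohB1.ProjSpaceOver (n 0) S, CohB1.ProjSpaceOver.toBase (n 0) S,
      Fin.cases (motive := fun i => CohB1.ProjSpaceOver (n 0) S ⟶ CohB1.ProjSpaceOver (n i) S)
        (𝟙 _) (fun i => i.elim0), n 0, 𝟙 _, inferInstance,
      Category.id_comp _, ?_, ?_⟩
    · intro i
      refine Fin.cases ?_ (fun i => i.elim0) i
      exact Category.id_comp _
    · intro T t a ha
      refine ⟨a 0, ha 0, fun i => ?_⟩
      refine Fin.cases ?_ (fun i => i.elim0) i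
      exact Category.comp_id _
  | succ m ih =>
    intro n
    obtain ⟨P', q', p', N', c', hc', hcq', hp', huniv'⟩ := ih (fun i => n i.succ)
    obtain ⟨φ, hφ, hφb⟩ := Groth.Agent.Lib.helper12.Segre.exists_segre_embedding S (n 0) N'
    let A := CohB1.ProjSpaceOver (n 0) S
    let qA : A ⟶ S := CohB1.ProjSpaceOver.toBase (n 0) S
    let c₁ : pullback qA q' ⟶ pullback qA (CohB1.ProjSpaceOver.toBase N' S) :=
      pullback.map qA q' qA (CohB1.ProjSpaceOver.toBase N' S) (𝟙 _) c' (𝟙 _)
        ((Category.comp_id _).trans (Category.id_comp _).symm)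
        ((Category.comp_id _).trans hcq'.symm)
    have hc₁ : IsClosedImmersion c₁ :=
      MorphismProperty.pullbackMap (P := @IsClosedImmersion) (inferInstance : IsClosedImmersion (𝟙 A))
        hc' (Category.id_comp _).symm hcq'.symm
    refine ⟨pullback qA q', pullback.fst qA q' ≫ qA,
      Fin.cases (motive := fun i => pullback qA q' ⟶ CohB1.ProjSpaceOver (n i) S)
        (pullback.fst qA q') (fun i => pullback.snd qA q' ≫ p' i),
      n 0 * N' + n 0 + N', c₁ ≫ φ, inferInstance, ?_, ?_, ?_⟩
    · rw [Category.assoc, hφb, ← Category.assoc, pullback.lift_fst, Category.comp_id]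
    · intro i
      refine Fin.cases ?_ (fun i => ?_) i
      · rfl
      · change (pullback.snd qA q' ≫ p' i) ≫ _ = _
        rw [Category.assoc, hp' i, pullback.condition]
    · intro T t a ha
      obtain ⟨b', hb', hb'p⟩ := huniv' T t (fun i => a i.succ) (fun i => ha i.succ)
      refine ⟨pullback.lift (a 0) b' ((ha 0).trans hb'.symm), ?_, fun i => ?_⟩
      · rw [pullback.lift_fst_assoc]; exact ha 0
      · refine Fin.cases ?_ (fun i => ?_) i
        · exact pullback.lift_fst _ _ _
        · change _ ≫ (pullback.snd qA q' ≫ p' i) = _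
          rw [pullback.lift_snd_assoc]; exact hb'p i

end Groth.Agent.Lib.helper12.Chow4
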