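import Mathlib
import Groth.Agent.Lib.Helper12.AmpleRestrict
import Groth.Prelude.Def_Mor2

/-
helper12: relative ampleness, first consequences.

* `isQuasiAffine_iff_isRelAmple_structureModule` (= S2337).
-/

set_option autoImplicit false
universe u

open CategoryTheory AlgebraicGeometry Opposite TopologicalSpace MonoidalCategory

namespace Groth.Agent.Lib.helper12.AmpleRel

open Groth.Agent.Lib.helper12.TensorRestrict Groth.Agent.Lib.helper11.InvMod
open Groth.Agent.Lib.helper11.GenLocus Groth.Agent.Lib.helper12.TensorInv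
open Groth.Agent.Lib.helper12.TensorSec Groth.Agent.Lib.helper12.TwistLocal
open Groth.Agent.Lib.helper11.IsoLocus Groth.Agent.Lib.helper12.TwistKill
open Groth.Agent.Lib.helper12.TensorAssoc Groth.Agent.Lib.helper12.AmplePow
open Groth.Agent.Lib.helper12.TensorPowAdd Groth.Agent.Lib.helper12.AmpleBasis
open Groth.Agent.Lib.helper12.TwistExtend Groth.Agent.Lib.helper12.AmpleBasis2
open Groth.Agent.Lib.helper12.AmpleQAff Groth.Agent.Lib.helper12.AmpleRestrict
open Scheme.Modules

variable {X Y : Scheme.{u}}

/-- EGA II 5.1.6: `f` is quasi-affine iff `O_X` is `f`-ample. -/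
theorem isQuasiAffine_iff_isRelAmple_structureModule (f : X ⟶ Y) :
    Mor2.IsQuasiAffine f ↔ RelAmple.IsRelAmple f (Coh.structureModule X) := by
  unfold Mor2.IsQuasiAffine RelAmple.IsRelAmple
  refine and_congr_right fun hqc => ?_
  constructor
  · intro h V
    have := h V.1 V.2
    exact isAmple_of_iso (restrictUnitIso (f ⁻¹ᵁ V.1).ι).symm
      isAmple_structureModule_of_isQuasiAffine
  · intro h V hV
    have h1 := isAmple_of_iso (restrictUnitIso (f ⁻¹ᵁ V).ι) (h ⟨V, hV⟩)
    have : CompactSpace (↑(f ⁻¹ᵁ V) : Scheme.{u}) := h1.2.1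
    exact isQuasiAffine_of_hasAffineCover_structureModule h1.2.2

end Groth.Agent.Lib.helper12.AmpleRel
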