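import Mathlib
import Groth.Agent.Lib.Helper12.SecExtend
import Groth.Agent.Lib.Helper12.AmpleRel

/-
helper12: ampleness is local (EGA II 4.6.4, 4.6.13 (v)).

* `restrictRangeIso`, `isAmple_restrict_iff_of_range_eq` (ampleness of `L|_U` depends only on the open set),
  `isAmple_restrict_restrict_iff`, `IsTrivOn.of_restrict`, `isInvertible_of_cover`.
* `isAmple_of_basicOpen_cover` (quasi-compact `X` covered by `D(h i)`, `h i` global functions, with
  `L|_{D(h i)}` ample ⇒ `L` ample), `isAmple_restrict_of_basicOpen_cover`,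
  `isAmple_restrict_preimage_of_cover`.
* `isRelAmple_of_comp` (= S2333), `isAmple_restrict_morphismRestrict_iff`,
  `isRelAmple_iff_of_openCover` (= S4380).
-/

set_option autoImplicit false
universe u

open CategoryTheory AlgebraicGeometry Opposite TopologicalSpace MonoidalCategory

namespace Groth.Agent.Lib.helper12.AmpleLocal

open Groth.Agent.Lib.helper12.TensorRestrict Groth.Agent.Lib.helper11.InvMod
open Groth.Agent.Lib.helper11.GenLocus Groth.Agent.Lib.helper12.TensorInv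
open Groth.Agent.Lib.helper12.TensorSec Groth.Agent.Lib.helper12.TwistLocal
open Groth.Agent.Lib.helper11.IsoLocus Groth.Agent.Lib.helper12.TwistKill
open Groth.Agent.Lib.helper12.TensorAssoc Groth.Agent.Lib.helper12.AmplePow
open Groth.Agent.Lib.helper12.TensorPowAdd Groth.Agent.Lib.helper12.AmpleBasis
open Groth.Agent.Lib.helper12.TwistExtend Groth.Agent.Lib.helper12.AmpleBasis2
open Groth.Agent.Lib.helper12.AmpleQAff Groth.Agent.Lib.helper12.AmpleRestrict
open Groth.Agent.Lib.helper12.SecExtend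
open Scheme.Modules

variable {X : Scheme.{u}}

/-- Restrictions along two open immersions with the same range agree up to the canonical
isomorphism of the sources. -/
noncomputable def restrictRangeIso {U U' : Scheme.{u}} (j : U ⟶ X) (j' : U' ⟶ X)
    [IsOpenImmersion j] [IsOpenImmersion j'] (h : Set.range j = Set.range j') (L : X.Modules) :
    L.restrict j ≅ (L.restrict j').restrict (IsOpenImmersion.isoOfRangeEq j j' h).hom :=
  (restrictFunctorCongr (IsOpenImmersion.isoOfRangeEq_hom_fac j j' h).symm).app L ≪≫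
    (restrictFunctorComp (IsOpenImmersion.isoOfRangeEq j j' h).hom j').app L

/-- Ampleness of `L|_U` depends only on the open subset `U`. -/
theorem isAmple_restrict_iff_of_range_eq {U U' : Scheme.{u}} (j : U ⟶ X) (j' : U' ⟶ X)
    [IsOpenImmersion j] [IsOpenImmersion j'] (h : Set.range j = Set.range j') (L : X.Modules) :
    CohB1.IsAmple (L.restrict j) ↔ CohB1.IsAmple (L.restrict j') := by
  rw [isAmple_iff_of_iso (restrictRangeIso j j' h L)]
  exact isAmple_restrict_iff_of_isIso _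

/-- Iterated restriction. -/
theorem isAmple_restrict_restrict_iff {U V : Scheme.{u}} (j : U ⟶ X) (i : V ⟶ U)
    [IsOpenImmersion j] [IsOpenImmersion i] (L : X.Modules) :
    CohB1.IsAmple ((L.restrict j).restrict i) ↔ CohB1.IsAmple (L.restrict (i ≫ j)) :=
  (isAmple_iff_of_iso ((restrictFunctorComp i j).app L)).symm

/-- Triviality on an open subset of an open subscheme. -/
theorem IsTrivOn.of_restrict {L : X.Modules} {U : X.Opens} {W : (↑U : Scheme.{u}).Opens}
    (h : IsTrivOn (L.restrict U.ι) W) : IsTrivOn L (U.ι ''ᵁ W) := by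
  obtain ⟨e⟩ := h
  have hr : Set.range (U.ι ''ᵁ W).ι = Set.range (W.ι ≫ U.ι) := by
    rw [Scheme.Opens.range_ι, Scheme.Hom.comp_base, TopCat.coe_comp, Set.range_comp,
      Scheme.Opens.range_ι]
    rfl
  let φ := IsOpenImmersion.isoOfRangeEq (U.ι ''ᵁ W).ι (W.ι ≫ U.ι) hr
  exact ⟨restrictRangeIso (U.ι ''ᵁ W).ι (W.ι ≫ U.ι) hr L ≪≫
    (restrictFunctor φ.hom).mapIso ((restrictFunctorComp W.ι U.ι).app L ≪≫ e) ≪≫
    restrictUnitIso φ.hom⟩

/-- Invertibility is local. -/
theorem isInvertible_of_cover {L : X.Modules} {ι : Type*} (U : ι → X.Opens)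
    (hU : ⨆ i, U i = ⊤) (h : ∀ i, PicF.IsInvertible (L.restrict (U i).ι)) :
    PicF.IsInvertible L := by
  intro x
  have hx : x ∈ ⨆ i, U i := hU ▸ trivial
  obtain ⟨i, hxi⟩ := Opens.mem_iSup.mp hx
  obtain ⟨W, hxW, hW⟩ := h i ⟨x, hxi⟩
  exact ⟨(U i).ι ''ᵁ W, ⟨⟨x, hxi⟩, hxW, rfl⟩, IsTrivOn.of_restrict hW⟩

/-- **Ampleness is local for covers by basic opens of global functions** (core of EGA II 4.6.4). -/
theorem isAmple_of_basicOpen_cover [CompactSpace X] {L : X.Modules} {ι : Type*}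
    (h : ι → Γ(X, ⊤)) (hcov : ⨆ i, X.basicOpen (h i) = ⊤)
    (hL : ∀ i, CohB1.IsAmple (L.restrict (X.basicOpen (h i)).ι)) : CohB1.IsAmple L := by
  have hinv : PicF.IsInvertible L := isInvertible_of_cover _ hcov (fun i => (hL i).1)
  have hqs : QuasiSeparatedSpace X := by
    refine QuasiSeparatedSpace.of_isOpenCover (U := fun i => X.basicOpen (h i)) hcov
      (fun i => isRetrocompact_basicOpen _) (fun i => ?_)
    refine (isQuasiSeparated_iff_quasiSeparatedSpace _ (X.basicOpen (h i)).2).mpr ?_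
    exact quasiSeparatedSpace_of_hasAffineCover (hL i).1 (hL i).2.2
  refine ⟨hinv, inferInstance, fun x => ?_⟩
  have hx : x ∈ ⨆ i, X.basicOpen (h i) := by rw [hcov]; trivial
  obtain ⟨i, hxi⟩ := Opens.mem_iSup.mp hx
  obtain ⟨n, t, hxt, haff⟩ := (hL i).2.2 ⟨x, hxi⟩
  let t' := t ≫ (restrictTensorPowIso (X.basicOpen (h i)).ι L (n + 1)).inv
  have ht' : CohB1.genLocus _ t' = CohB1.genLocus _ t :=
    genLocus_comp_iso t (restrictTensorPowIso (X.basicOpen (h i)).ι L (n + 1)).symm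
  obtain ⟨w, hw⟩ := exists_extend_section_basicOpen (isInvertible_tensorPow hinv (n + 1)) (h i) t'
  refine ⟨n, w, ?_, ?_⟩
  · rw [hw, ht']; exact ⟨⟨x, hxi⟩, hxt, rfl⟩
  · rw [hw, ht']; exact haff.image_of_isOpenImmersion _

/-- Version for a quasi-compact open `A` covered by basic opens `D(r i)`, `r i ∈ Γ(X, A)`. -/
theorem isAmple_restrict_of_basicOpen_cover {L : X.Modules} (A : X.Opens)
    (hA : IsCompact (A : Set X)) {ι : Type*} (r : ι → Γ(X, A))
    (hcov : A ≤ ⨆ i, X.basicOpen (r i))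
    (hL : ∀ i, CohB1.IsAmple (L.restrict (X.basicOpen (r i)).ι)) :
    CohB1.IsAmple (L.restrict A.ι) := by
  have : CompactSpace (↑A : Scheme.{u}) := isCompact_iff_compactSpace.mp hA
  refine isAmple_of_basicOpen_cover (fun i => A.topIso.inv (r i)) ?_ (fun i => ?_)
  · rw [eq_top_iff]
    rintro ⟨x, hx⟩ -
    obtain ⟨i, hxi⟩ := Opens.mem_iSup.mp (hcov hx)
    refine Opens.mem_iSup.mpr ⟨i, ?_⟩
    rw [← Scheme.Opens.ι_image_basicOpen_topIso_inv] at hxi
    obtain ⟨y, hy, hyx⟩ := hxi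
    have : y = ⟨x, hx⟩ := Subtype.ext hyx
    exact this ▸ hy
  · rw [isAmple_restrict_restrict_iff]
    have hr : Set.range (((↑A : Scheme.{u}).basicOpen (A.topIso.inv (r i))).ι ≫ A.ι) =
        Set.range (X.basicOpen (r i)).ι := by
      rw [Scheme.Hom.comp_base, TopCat.coe_comp, Set.range_comp, Scheme.Opens.range_ι,
        Scheme.Opens.range_ι]
      exact congrArg (fun W : X.Opens => (W : Set X))
        (Scheme.Opens.ι_image_basicOpen_topIso_inv A (r i))
    rw [isAmple_restrict_iff_of_range_eq _ (X.basicOpen (r i)).ι hr L]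
    exact hL i

/-- Relative version: to check ampleness of `L|_{f⁻¹ V}` (`V` affine) it suffices to check it over
basic opens of `V` covering `V`. -/
theorem isAmple_restrict_preimage_of_cover {Y : Scheme.{u}} (f : X ⟶ Y) [QuasiCompact f]
    {L : X.Modules} {V : Y.Opens} (hV : IsAffineOpen V)
    (H : ∀ y ∈ V, ∃ h : Γ(Y, V), y ∈ Y.basicOpen h ∧
      CohB1.IsAmple (L.restrict (f ⁻¹ᵁ Y.basicOpen h).ι)) :
    CohB1.IsAmple (L.restrict (f ⁻¹ᵁ V).ι) := by
  choose h hy hh using H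
  refine isAmple_restrict_of_basicOpen_cover (f ⁻¹ᵁ V)
    (QuasiCompact.isCompact_preimage (f := f) _ V.2 hV.isCompact)
    (fun y : V => f.app V (h y.1 y.2)) ?_ ?_
  · intro x hx
    refine Opens.mem_iSup.mpr ⟨⟨f x, hx⟩, ?_⟩
    rw [← Scheme.preimage_basicOpen]
    exact hy _ _
  · intro y
    rw [← Scheme.preimage_basicOpen]
    exact hh _ _

/-- EGA II 4.6.13 (v): if `L` is ample relative to `f ≫ g` and `f` is quasi-compact, then `L` is
ample relative to `f`. -/
theorem isRelAmple_of_comp {Y Z : Scheme.{u}} (f : X ⟶ Y) (g : Y ⟶ Z) [QuasiCompact f]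
    {L : X.Modules} (hL : RelAmple.IsRelAmple (f ≫ g) L) : RelAmple.IsRelAmple f L := by
  refine ⟨inferInstance, fun V => ?_⟩
  refine isAmple_restrict_preimage_of_cover f V.2 fun y hyV => ?_
  obtain ⟨W, hW, hyW, -⟩ := (Opens.isBasis_iff_nbhd.mp Z.isBasis_affineOpens)
    (show g y ∈ (⊤ : Z.Opens) from trivial)
  obtain ⟨h, hle, hyh⟩ := V.2.exists_basicOpen_le (V := g ⁻¹ᵁ W) ⟨y, hyW⟩ hyV
  refine ⟨h, hyh, ?_⟩
  have hle' : f ⁻¹ᵁ Y.basicOpen h ≤ (f ≫ g) ⁻¹ᵁ W := fun x hx => hle hx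
  have h1 := hL.2 ⟨W, hW⟩
  have hc : CompactSpace (↑(f ⁻¹ᵁ Y.basicOpen h) : Scheme.{u}) :=
    isCompact_iff_compactSpace.mp (QuasiCompact.isCompact_preimage (f := f) _
      (Y.basicOpen h).2 (V.2.basicOpen h).isCompact)
  have h2 := isAmple_restrict (X.homOfLE hle') h1
  exact (isAmple_iff_of_iso (restrictRestrictIso L hle')).mp h2

theorem isAmple_restrict_morphismRestrict_iff {Y : Scheme.{u}} (f : X ⟶ Y) (L : X.Modules)
    (U : Y.Opens) (V' : (↑U : Scheme.{u}).Opens) :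
    CohB1.IsAmple ((L.restrict (f ⁻¹ᵁ U).ι).restrict ((f ∣_ U) ⁻¹ᵁ V').ι) ↔
      CohB1.IsAmple (L.restrict (f ⁻¹ᵁ (U.ι ''ᵁ V')).ι) := by
  rw [isAmple_restrict_restrict_iff]
  refine isAmple_restrict_iff_of_range_eq _ _ ?_ L
  rw [Scheme.Hom.comp_base, TopCat.coe_comp, Set.range_comp, Scheme.Opens.range_ι,
    Scheme.Opens.range_ι]
  exact congrArg (fun W : X.Opens => (W : Set X)) (image_morphismRestrict_preimage f U V')

/-- **EGA II 4.6.4**: relative ampleness is local on the base. -/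
theorem isRelAmple_iff_of_openCover {Y : Scheme.{u}} (f : X ⟶ Y) [QuasiCompact f] (L : X.Modules)
    {ι : Type*} (U : ι → Y.Opens) (hU : ⨆ i, U i = ⊤) :
    RelAmple.IsRelAmple f L ↔
      ∀ i, RelAmple.IsRelAmple (f ∣_ (U i)) (L.restrict (f ⁻¹ᵁ (U i)).ι) := by
  constructor
  · intro h i
    refine ⟨inferInstance, fun V' => ?_⟩
    rw [isAmple_restrict_morphismRestrict_iff]
    exact h.2 ⟨(U i).ι ''ᵁ V'.1, V'.2.image_of_isOpenImmersion _⟩
  · intro h
    refine ⟨inferInstance, fun V => ?_⟩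
    refine isAmple_restrict_preimage_of_cover f V.2 fun y hyV => ?_
    have hy : y ∈ ⨆ i, U i := by rw [hU]; trivial
    obtain ⟨i, hyi⟩ := Opens.mem_iSup.mp hy
    obtain ⟨r, hle, hyr⟩ := V.2.exists_basicOpen_le (V := U i) ⟨y, hyi⟩ hyV
    refine ⟨r, hyr, ?_⟩
    have haff : IsAffineOpen ((U i).ι ⁻¹ᵁ Y.basicOpen r) := by
      rw [← Scheme.Hom.isAffineOpen_iff_of_isOpenImmersion (U i).ι,
        Scheme.Hom.image_preimage_eq_opensRange_inf, Scheme.Opens.opensRange_ι,
        inf_eq_right.mpr hle]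
      exact V.2.basicOpen r
    have h1 := (h i).2 ⟨_, haff⟩
    rw [isAmple_restrict_morphismRestrict_iff] at h1
    have e : (U i).ι ''ᵁ ((U i).ι ⁻¹ᵁ Y.basicOpen r) = Y.basicOpen r := by
      rw [Scheme.Hom.image_preimage_eq_opensRange_inf, Scheme.Opens.opensRange_ι,
        inf_eq_right.mpr hle]
    rw [e] at h1
    exact h1

end Groth.Agent.Lib.helper12.AmpleLocal
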