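import Mathlib
import Groth.Agent.Lib.Helper12.PullTensor
import Groth.Agent.Lib.Helper12.AmpleBasis2

/-!
# Pullback of tensor powers, of sections, and of ample modules (helper12, LT22 part 2)

* `pullTensorPowIso h L hL n : h^*(L^{⊗ n}) ≅ (h^*L)^{⊗ n}` for `L` invertible.
* `pullSec h hL n s : O_Y ⟶ (h^*L)^{⊗ n}` for `s : O_X ⟶ L^{⊗ n}`, with
  `genLocus_pullSec : Y_{pullSec s} = h⁻¹ X_s`.
* `preimage_mem_genLocusFamily`.
* `isAmple_pullback_of_isAffineHom`, `isAmple_pullback_of_isEmbedding`.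
-/

set_option autoImplicit false
universe u

open CategoryTheory AlgebraicGeometry Opposite TopologicalSpace MonoidalCategory

namespace Groth.Agent.Lib.helper12.PullAmple

open Groth.Agent.Lib.helper12.PullTensor Groth.Agent.Lib.helper12.TensorInv
open Groth.Agent.Lib.helper12.AmpleBasis Groth.Agent.Lib.helper12.AmpleBasis2
open Groth.Agent.Lib.helper11.InvMod Groth.Agent.Lib.helper11.GenLocus
open Groth.Agent.Lib.helper11.InvPullback Groth.Agent.Lib.helper11.IsoLocus
open Scheme.Modules

variable {X Y : Scheme.{u}} (h : Y ⟶ X)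

/-- `h^*(L^{⊗ n}) ≅ (h^*L)^{⊗ n}` for an invertible module `L`. -/
noncomputable def pullTensorPowIso {L : X.Modules} (hL : PicF.IsInvertible L) :
    (n : ℕ) → ((Scheme.Modules.pullback h).obj (CohB1.tensorPow L n) ≅
      CohB1.tensorPow ((Scheme.Modules.pullback h).obj L) n)
  | 0 => pullbackUnitIso h
  | n + 1 => pullTensorIso h (CohB1.tensorPow L n) L hL ≪≫
      Groth.Agent.Lib.Lead.ModTensor.tensorIso (pullTensorPowIso hL n) (Iso.refl _)

/-- The pullback of a section of `L^{⊗ n}`, as a section of `(h^*L)^{⊗ n}`. -/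
noncomputable def pullSec {L : X.Modules} (hL : PicF.IsInvertible L) (n : ℕ)
    (s : Coh.structureModule X ⟶ CohB1.tensorPow L n) :
    Coh.structureModule Y ⟶ CohB1.tensorPow ((Scheme.Modules.pullback h).obj L) n :=
  (pullbackUnitIso h).inv ≫ (Scheme.Modules.pullback h).map s ≫ (pullTensorPowIso h hL n).hom

/-- `Y_{h^* s} = h⁻¹ (X_s)`. -/
theorem genLocus_pullSec {L : X.Modules} (hL : PicF.IsInvertible L) (n : ℕ)
    (s : Coh.structureModule X ⟶ CohB1.tensorPow L n) :
    CohB1.genLocus _ (pullSec h hL n s) = h ⁻¹ᵁ CohB1.genLocus _ s := by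
  unfold pullSec
  rw [← Category.assoc, genLocus_comp_iso]
  exact genLocus_pullback h (CohB1.tensorPow L n) (isInvertible_tensorPow hL n) s
    (pullbackUnitIso h).symm

theorem preimage_mem_genLocusFamily {L : X.Modules} (hL : PicF.IsInvertible L) {U : X.Opens}
    (hU : U ∈ genLocusFamily L) :
    h ⁻¹ᵁ U ∈ genLocusFamily ((Scheme.Modules.pullback h).obj L) := by
  obtain ⟨n, s, rfl⟩ := hU
  exact ⟨n, pullSec h hL (n + 1) s, (genLocus_pullSec h hL (n + 1) s).symm⟩

/-- Ample modules pull back to ample modules along affine morphisms. -/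
theorem isAmple_pullback_of_isAffineHom [IsAffineHom h] {L : X.Modules} (hL : CohB1.IsAmple L) :
    CohB1.IsAmple ((Scheme.Modules.pullback h).obj L) := by
  obtain ⟨hinv, hc, hcov⟩ := hL
  have := hc
  refine ⟨isInvertible_pullback h hinv, QuasiCompact.compactSpace_of_compactSpace h, fun y => ?_⟩
  obtain ⟨n, s, hxs, haff⟩ := hcov (h y)
  refine ⟨n, pullSec h hinv (n + 1) s, ?_, ?_⟩
  · rw [genLocus_pullSec]
    exact hxs
  · rw [genLocus_pullSec]
    exact haff.preimage h

/-- Ample modules pull back to ample modules along morphisms from a quasi-compact scheme that are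
topological embeddings. -/
theorem isAmple_pullback_of_isEmbedding [CompactSpace Y] (hh : Topology.IsEmbedding h)
    {L : X.Modules} (hL : CohB1.IsAmple L) :
    CohB1.IsAmple ((Scheme.Modules.pullback h).obj L) := by
  have hinv := hL.1
  refine isAmple_of_isBasis (isInvertible_pullback h hinv) ?_
  have hB := isBasis_of_isAmple hL
  rw [Opens.isBasis_iff_nbhd] at hB ⊢
  intro W y hyW
  obtain ⟨W₀, hW₀, hWeq⟩ := hh.isInducing.isOpen_iff.mp W.2
  have hy0 : h y ∈ (⟨W₀, hW₀⟩ : X.Opens) := by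
    have : y ∈ (h ⁻¹' W₀ : Set Y) := by rw [hWeq]; exact hyW
    exact this
  obtain ⟨U', hU', hxU', hle⟩ := hB hy0
  refine ⟨h ⁻¹ᵁ U', preimage_mem_genLocusFamily h hinv hU', hxU', ?_⟩
  intro z hz
  have : z ∈ (h ⁻¹' W₀ : Set Y) := hle hz
  rw [hWeq] at this
  exact this

end Groth.Agent.Lib.helper12.PullAmple
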