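import Mathlib
import Groth.Agent.Lib.Helper12.PullAmple
import Groth.Agent.Lib.Helper12.AmpleLocal

/-!
# Pullback of (relatively) ample modules: restricted versions (helper12, LT22 part 3)

* `pullRestrictIso`: `(p^*L)|_T ≅ q^*(L|_U)` for a commutative square `m ≫ p = q ≫ j` with `m`, `j`
  open immersions.
* `isAmple_of_quasiAffine_cover`: on a qcqs scheme, `L` invertible is ample as soon as the quasi-affine
  opens of the form `X_s` cover `X`.
* `isAmple_pullback_of_quasiAffine`.
* `isAmple_restrict_pullback_of_isAffineHom` / `_of_isEmbedding` / `_of_quasiAffine`.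
-/

set_option autoImplicit false
universe u

open CategoryTheory AlgebraicGeometry Opposite TopologicalSpace MonoidalCategory

namespace Groth.Agent.Lib.helper12.PullAmpleRel

open Groth.Agent.Lib.helper12.PullTensor Groth.Agent.Lib.helper12.PullAmple
open Groth.Agent.Lib.helper12.TensorInv Groth.Agent.Lib.helper12.AmplePow
open Groth.Agent.Lib.helper12.AmpleBasis Groth.Agent.Lib.helper12.AmpleBasis2
open Groth.Agent.Lib.helper11.InvMod Groth.Agent.Lib.helper11.GenLocus
open Groth.Agent.Lib.helper11.InvPullback Groth.Agent.Lib.helper11.IsoLocus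
open Scheme.Modules

variable {X : Scheme.{u}}

/-- `(p^*L)|_T ≅ q^*(L|_U)` for a commutative square `m ≫ p = q ≫ j` with `m`, `j` open immersions. -/
noncomputable def pullRestrictIso {P T U : Scheme.{u}} (m : T ⟶ P) [IsOpenImmersion m] (p : P ⟶ X)
    (q : T ⟶ U) (j : U ⟶ X) [IsOpenImmersion j] (w : m ≫ p = q ≫ j) (L : X.Modules) :
    ((Scheme.Modules.pullback p).obj L).restrict m ≅ (Scheme.Modules.pullback q).obj (L.restrict j) :=
  (restrictFunctorIsoPullback m).app _ ≪≫ (pullbackComp m p).app L ≪≫ (pullbackCongr w).app L ≪≫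
    ((pullbackComp q j).app L).symm ≪≫
    (Scheme.Modules.pullback q).mapIso ((restrictFunctorIsoPullback j).app L).symm

/-- On a quasi-compact quasi-separated scheme, an invertible module is ample as soon as the
quasi-affine opens of the form `X_s` (`s` a section of a positive power) cover `X`. -/
theorem isAmple_of_quasiAffine_cover [CompactSpace X] [QuasiSeparatedSpace X] {L : X.Modules}
    (hL : PicF.IsInvertible L)
    (H : ∀ x : X, ∃ U ∈ genLocusFamily L, x ∈ U ∧ Scheme.IsQuasiAffine (↑U : Scheme.{u})) :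
    CohB1.IsAmple L := by
  refine isAmple_of_isBasis hL ?_
  rw [Opens.isBasis_iff_nbhd]
  intro W x hxW
  obtain ⟨_, ⟨n, s, rfl⟩, hxU, hq⟩ := H x
  set U := CohB1.genLocus _ s with hU
  obtain ⟨_, ⟨r, hr, rfl⟩, hxr, hrW⟩ :=
    (Opens.isBasis_iff_nbhd.mp (Scheme.IsQuasiAffine.isBasis_basicOpen (↑U : Scheme.{u})))
      (show (⟨x, hxU⟩ : (↑U : Scheme.{u})) ∈ (U.ι ⁻¹ᵁ W : (↑U : Scheme.{u}).Opens) from hxW)
  let g : Γ(X, U) := U.topIso.hom r
  have hg : U.ι ''ᵁ ((↑U : Scheme.{u}).basicOpen r) = X.basicOpen g := by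
    have := Scheme.Opens.ι_image_basicOpen_topIso_inv U g
    rw [← this]
    congr 2
    change r = (U.topIso.hom ≫ U.topIso.inv) r
    rw [Iso.hom_inv_id]
    rfl
  obtain ⟨m, w, hw⟩ := exists_genLocus_eq_basicOpen (isInvertible_tensorPow hL (n + 1)) s g
  refine ⟨X.basicOpen g, ?_, ?_, ?_⟩
  · apply genLocusFamily_tensorPow_subset L (n + 1) (Nat.succ_pos n)
    exact ⟨m, w, hw.symm⟩
  · rw [← hg]
    exact ⟨⟨x, hxU⟩, hxr, rfl⟩
  · rw [← hg]
    rintro _ ⟨z, hz, rfl⟩
    exact hrW hz

/-- Ample modules pull back to ample modules along "quasi-affine" morphisms (source qcqs, preimages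
of affine opens quasi-affine). -/
theorem isAmple_pullback_of_quasiAffine {T : Scheme.{u}} (q : T ⟶ X) [CompactSpace T]
    [QuasiSeparatedSpace T] {L : X.Modules} (hL : CohB1.IsAmple L)
    (hq : ∀ B : X.Opens, IsAffineOpen B → Scheme.IsQuasiAffine (↑(q ⁻¹ᵁ B) : Scheme.{u})) :
    CohB1.IsAmple ((Scheme.Modules.pullback q).obj L) := by
  obtain ⟨hinv, hc, hcov⟩ := hL
  refine isAmple_of_quasiAffine_cover (isInvertible_pullback q hinv) fun y => ?_
  obtain ⟨n, s, hxs, haff⟩ := hcov (q y)
  exact ⟨q ⁻¹ᵁ CohB1.genLocus _ s, preimage_mem_genLocusFamily q hinv ⟨n, s, rfl⟩, hxs,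
    hq _ haff⟩

section Restricted

variable {P T U : Scheme.{u}} (m : T ⟶ P) [IsOpenImmersion m] (p : P ⟶ X)
  (q : T ⟶ U) (j : U ⟶ X) [IsOpenImmersion j] (w : m ≫ p = q ≫ j)

include w in
theorem isAmple_restrict_pullback_of_isAffineHom [IsAffineHom q] {L : X.Modules}
    (hL : CohB1.IsAmple (L.restrict j)) :
    CohB1.IsAmple (((Scheme.Modules.pullback p).obj L).restrict m) :=
  isAmple_of_iso (pullRestrictIso m p q j w L).symm (isAmple_pullback_of_isAffineHom q hL)

include w in
theorem isAmple_restrict_pullback_of_isEmbedding [CompactSpace T] (hq : Topology.IsEmbedding q)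
    {L : X.Modules} (hL : CohB1.IsAmple (L.restrict j)) :
    CohB1.IsAmple (((Scheme.Modules.pullback p).obj L).restrict m) :=
  isAmple_of_iso (pullRestrictIso m p q j w L).symm (isAmple_pullback_of_isEmbedding q hq hL)

include w in
theorem isAmple_restrict_pullback_of_quasiAffine [CompactSpace T] [QuasiSeparatedSpace T]
    {L : X.Modules} (hL : CohB1.IsAmple (L.restrict j))
    (hq : ∀ B : U.Opens, IsAffineOpen B → Scheme.IsQuasiAffine (↑(q ⁻¹ᵁ B) : Scheme.{u})) :
    CohB1.IsAmple (((Scheme.Modules.pullback p).obj L).restrict m) :=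
  isAmple_of_iso (pullRestrictIso m p q j w L).symm (isAmple_pullback_of_quasiAffine q hL hq)

end Restricted

end Groth.Agent.Lib.helper12.PullAmpleRel
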