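import Mathlib
import Groth.Agent.Lib.Helper12.VAmple1

/-!
# Very ampleness relative to `P^n_S` from sections (helper12)

* `isRelVeryAmplePn_of_sections`: sections `σ : Fin (n+1) → (O ⟶ L)` whose good loci are affine, cover `X`, map
  into affine opens `V j` of `S` with `Γ(X_{σ j})` generated by `Γ(S, V j)` and the ratios `σ l / σ j`, exhibit
  `L` as very ample relative to `f : X ⟶ S` (prelude `RelAmple.IsRelVeryAmplePn`).
-/

set_option autoImplicit false
universe u

open CategoryTheory CategoryTheory.Limits AlgebraicGeometry Opposite TopologicalSpace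

namespace Groth.Agent.Lib.helper12.VAmple2

open Groth.Agent.Lib.helper11.IsoLocus Groth.Agent.Lib.helper11.InvHom
open Groth.Agent.Lib.helper11.GenLocus Groth.Agent.Lib.helper11.InvMod
open Groth.Agent.Lib.helper12.ProjUP1 Groth.Agent.Lib.helper12.ProjUP3
open Groth.Agent.Lib.helper12.ProjUP4 Groth.Agent.Lib.helper12.ProjUP5
open Groth.Agent.Lib.helper12.ProjUP6 Groth.Agent.Lib.helper12.VAmple1
open Scheme.Modules

theorem isRelVeryAmplePn_of_sections {X S : Scheme.{u}} (f : X ⟶ S) {L : X.Modules} {n : ℕ}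
    (σ : Fin (n + 1) → (Coh.structureModule X ⟶ L))
    (good : Fin (n + 1) → Prop) (V : Fin (n + 1) → S.Opens)
    (hV : ∀ j, good j → IsAffineOpen (V j))
    (hZ : ∀ j, good j → IsAffineOpen (CohB1.genLocus L (σ j)))
    (hle : ∀ j, good j → CohB1.genLocus L (σ j) ≤ f ⁻¹ᵁ V j)
    (hgen : ∀ j (hj : good j), Subring.closure
      (Set.range (f.appLE (V j) (CohB1.genLocus L (σ j)) (hle j hj)).hom ∪
        Set.range (fun l => ratio (σ j) (σ l) (CohB1.genLocus L (σ j)) le_rfl)) = ⊤)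
    (hcov : ∀ x : X, ∃ j, good j ∧ x ∈ CohB1.genLocus L (σ j)) :
    RelAmple.IsRelVeryAmplePn f L := by
  have hcov' : ⨆ i, gU σ i = ⊤ := by
    rw [eq_top_iff]
    intro x _
    obtain ⟨j, -, hx⟩ := hcov x
    exact Opens.mem_iSup.mpr ⟨j, hx⟩
  let q : X ⟶ Spec (CommRingCat.of (ULift.{u} ℤ)) := specULiftZIsTerminal.from X
  obtain ⟨r, hr⟩ := exists_toProj q σ hcov'
  obtain ⟨τ, hτ⟩ := exists_iso_nu q σ r hr hcov'
  have hrf : (show X ⟶ CohB1.ProjSpace n (ULift.{u} ℤ) from r) ≫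
      CohB1.ProjSpace.toSpec n (ULift.{u} ℤ) = f ≫ specULiftZIsTerminal.from S :=
    specULiftZIsTerminal.hom_ext _ _
  refine ⟨n, pullback.lift (show X ⟶ CohB1.ProjSpace n (ULift.{u} ℤ) from r) f hrf, ?_,
    pullback.lift_snd _ _ _, ⟨?_⟩⟩
  · exact isImmersion_lift r σ τ hτ (specULiftZIsTerminal.from S) f
      (CohB1.ProjSpace.toSpec n (ULift.{u} ℤ)) hrf good V hV hZ hle hgen hcov
  · refine τ.symm ≪≫ ?_
    exact (Scheme.Modules.pullbackCongr (pullback.lift_fst _ _ _).symm).app _ ≪≫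
      ((Scheme.Modules.pullbackComp _ _).app _).symm

end Groth.Agent.Lib.helper12.VAmple2
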