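import Mathlib
import Groth.Agent.Lib.Lead.ModTensor

/-!
# Monomial calculus for two modules (helper12)

`IsMon L N M p q`: `M ≅ L^{⊗ p} ⊗ N^{⊗ q}`.  Closure under `⊗`, tensor powers and isomorphisms, so that
two "monomial expressions" in `L`, `N` with the same exponents are isomorphic by arithmetic.
-/

set_option autoImplicit false
universe u

open CategoryTheory AlgebraicGeometry Opposite TopologicalSpace MonoidalCategory

namespace Groth.Agent.Lib.helper12.MonCalc

open Groth.Agent.Lib.Lead.ModTensor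

variable {X : Scheme.{u}} (L N : X.Modules)

/-- The monomial `L^{⊗ p} ⊗ N^{⊗ q}`. -/
noncomputable abbrev Mon (p q : ℕ) : X.Modules :=
  CohB1.tensorMod (CohB1.tensorPow L p) (CohB1.tensorPow N q)

/-- `M ≅ L^{⊗ p} ⊗ N^{⊗ q}`. -/
def IsMon (M : X.Modules) (p q : ℕ) : Prop := Nonempty (M ≅ Mon L N p q)

variable {L N}

theorem IsMon.of_iso {M M' : X.Modules} {p q : ℕ} (h : IsMon L N M p q) (e : M' ≅ M) :
    IsMon L N M' p q := ⟨e ≪≫ h.some⟩

theorem IsMon.congr {M : X.Modules} {p q p' q' : ℕ} (h : IsMon L N M p q) (hp : p = p')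
    (hq : q = q') : IsMon L N M p' q' := by
  subst hp; subst hq; exact h

theorem IsMon.iso {M M' : X.Modules} {p q : ℕ} (h : IsMon L N M p q) (h' : IsMon L N M' p q) :
    Nonempty (M ≅ M') := ⟨h.some ≪≫ h'.some.symm⟩

variable (L N) in
theorem isMon_left : IsMon L N L 1 0 :=
  ⟨(tensorPowOne L).symm ≪≫ (rightUnitor (CohB1.tensorPow L 1)).symm⟩

variable (L N) in
theorem isMon_right : IsMon L N N 0 1 :=
  ⟨(tensorPowOne N).symm ≪≫ (leftUnitor (CohB1.tensorPow N 1)).symm⟩

variable (L N) in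
theorem isMon_unit : IsMon L N (Coh.structureModule X) 0 0 :=
  ⟨(rightUnitor (Coh.structureModule X)).symm⟩

theorem IsMon.tensor {M M' : X.Modules} {p q p' q' : ℕ} (h : IsMon L N M p q)
    (h' : IsMon L N M' p' q') : IsMon L N (CohB1.tensorMod M M') (p + p') (q + q') :=
  ⟨tensorIso h.some h'.some ≪≫ tensorTensorTensorComm _ _ _ _ ≪≫
    tensorIso (tensorPowAdd L p p') (tensorPowAdd N q q')⟩

theorem IsMon.pow {M : X.Modules} {p q : ℕ} (h : IsMon L N M p q) (e : ℕ) :
    IsMon L N (CohB1.tensorPow M e) (p * e) (q * e) :=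
  ⟨tensorPowIso h.some e ≪≫ tensorPowTensor _ _ e ≪≫
    tensorIso (tensorPowMul L p e) (tensorPowMul N q e)⟩

end Groth.Agent.Lib.helper12.MonCalc
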