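import Mathlib
import Groth.Agent.Lib.Helper12.SecExtend
import Groth.Agent.Lib.Helper12.ProjUP3

/-!
# Extension of sections with control of values (helper12)

* `extend_top_ge`: EGA I 9.3.1 (ii) for all large exponents.
* `genLocus_tmulHom_of_extension`: locus of `t' ⊗ s` for an extension `t'` of `t ⊗ s^k`.
* `exists_sections_ratio`: for a generator `t₀` of `N|_{X_s}` and functions `c i` on `X_s`, for all large `k`
  there are global sections `w₀, w i` of `(N ⊗ M^k) ⊗ M` with `X_{w₀} = X_s` and `w i / w₀ = c i`.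
-/

set_option autoImplicit false
universe u

open CategoryTheory AlgebraicGeometry Opposite TopologicalSpace MonoidalCategory

namespace Groth.Agent.Lib.helper12.SecExtend2

open Groth.Agent.Lib.helper12.TensorRestrict Groth.Agent.Lib.helper11.InvMod
open Groth.Agent.Lib.helper11.GenLocus Groth.Agent.Lib.helper12.TensorInv
open Groth.Agent.Lib.helper12.TensorSec Groth.Agent.Lib.helper12.TwistLocal
open Groth.Agent.Lib.helper11.IsoLocus Groth.Agent.Lib.helper12.TwistKill
open Groth.Agent.Lib.helper12.TensorAssoc Groth.Agent.Lib.helper12.AmplePow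
open Groth.Agent.Lib.helper12.TensorPowAdd Groth.Agent.Lib.helper12.AmpleBasis
open Groth.Agent.Lib.helper12.TwistExtend Groth.Agent.Lib.helper12.AmpleBasis2
open Groth.Agent.Lib.helper12.AmpleQAff Groth.Agent.Lib.helper12.AmpleRestrict
open Groth.Agent.Lib.helper12.SecExtend Groth.Agent.Lib.helper12.ProjUP3
open Scheme.Modules

variable {X : Scheme.{u}}

/-- EGA I 9.3.1 (ii) for all large exponents. -/
theorem extend_top_ge [CompactSpace X] [QuasiSeparatedSpace X] (F : X.Modules) [F.IsQuasicoherent]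
    {L : X.Modules} (hL : PicF.IsInvertible L) (s : Coh.structureModule X ⟶ L)
    (t : F.val.obj (op (CohB1.genLocus L s))) :
    ∃ n₀ : ℕ, 0 < n₀ ∧ ∀ n, n₀ ≤ n →
      ∃ t' : (CohB1.tensorMod F (CohB1.tensorPow L n)).val.obj (op ⊤),
        res (CohB1.tensorMod F (CohB1.tensorPow L n)) (le_top : CohB1.genLocus L s ≤ ⊤) t' =
          SecTwist.twist s n F (CohB1.genLocus L s) t := by
  obtain ⟨n₁, hn₁, t', ht'⟩ := extend_top F hL s t
  refine ⟨n₁, hn₁, fun n hn => ?_⟩
  have key : ∀ m : ℕ, ∃ t'' : (CohB1.tensorMod F (CohB1.tensorPow L (n₁ + m))).val.obj (op ⊤),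
      res (CohB1.tensorMod F (CohB1.tensorPow L (n₁ + m))) (le_top : CohB1.genLocus L s ≤ ⊤) t'' =
        SecTwist.twist s (n₁ + m) F (CohB1.genLocus L s) t := by
    intro m
    refine ⟨((twistAddIso F L n₁ m).hom.val.app (op ⊤)).hom
      (SecTwist.twist s m (CohB1.tensorMod F (CohB1.tensorPow L n₁)) ⊤ t'), ?_⟩
    rw [res_app, res_twist, ht', twistAddIso_hom_twist]
  have h := key (n - n₁)
  rwa [Nat.add_sub_cancel' hn] at h

/-- The section over `A` named by a morphism `O_A ⟶ N|_A`. -/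
noncomputable def topSec {N : X.Modules} (A : X.Opens)
    (t : Coh.structureModule (↑A : Scheme.{u}) ⟶ N.restrict A.ι) : N.val.obj (op A) :=
  res N A.ι_image_top.ge (show N.val.obj (op (A.ι ''ᵁ ⊤)) from SecTwist.val t ⊤)

/-- If `t'` extends `t ⊗ s^k` (`t` a section of `N` over `X_s`), then `X_{t' ⊗ s} = (X_s)_t`. -/
theorem genLocus_tmulHom_of_extension {N M : X.Modules}
    (hN : PicF.IsInvertible N) (hM : PicF.IsInvertible M) (s : Coh.structureModule X ⟶ M)
    (t : Coh.structureModule (↑(CohB1.genLocus M s) : Scheme.{u}) ⟶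
      N.restrict (CohB1.genLocus M s).ι)
    (k : ℕ) (hk : 0 < k) (t' : (CohB1.tensorMod N (CohB1.tensorPow M k)).val.obj (op ⊤))
    (ht' : res (CohB1.tensorMod N (CohB1.tensorPow M k)) (le_top : CohB1.genLocus M s ≤ ⊤) t' =
      SecTwist.twist s k N (CohB1.genLocus M s) (topSec (CohB1.genLocus M s) t)) :
    CohB1.genLocus _ (SecTwist.tmulHom (homOfSec _ t') s) =
      (CohB1.genLocus M s).ι ''ᵁ CohB1.genLocus _ t := by
  have hA' : (CohB1.genLocus M s).ι ''ᵁ ⊤ = CohB1.genLocus M s := (CohB1.genLocus M s).ι_image_top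
  let τ₀ : N.val.obj (op ((CohB1.genLocus M s).ι ''ᵁ ⊤)) := SecTwist.val t ⊤
  let u := homOfSec _ t'
  let pA := resHom (CohB1.genLocus M s).ι (SecTwist.powHom s k)
  have hpA : CohB1.genLocus _ pA = ⊤ := by
    rw [genLocus_resHom, genLocus_powHom' hM s k hk]
    exact (CohB1.genLocus M s).ι_preimage_self
  have key : resHom (CohB1.genLocus M s).ι u = SecTwist.tmulHom t pA ≫
      (restrictTensorIso (CohB1.genLocus M s).ι N (CohB1.tensorPow M k)).inv := by
    apply hom_ext_val_top
    rw [val_resHom, val_comp, SecTwist.val_tmulHom, val_resHom, SecTwist.val_powHom]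
    rw [restrictTensorIso_inv_tmul]
    change SecTwist.val (homOfSec _ t') _ = SecTwist.twist s k N _ τ₀
    rw [val_homOfSec]
    have h1 : res _ hA'.ge (res _ (le_top : (CohB1.genLocus M s).ι ''ᵁ ⊤ ≤ ⊤) t') =
        res _ hA'.ge (SecTwist.twist s k N _ τ₀) := by
      rw [res_res, res_twist]; exact ht'
    have h2 := congrArg (res _ hA'.le) h1
    have e2 : ∀ y : (CohB1.tensorMod N (CohB1.tensorPow M k)).val.obj
        (op ((CohB1.genLocus M s).ι ''ᵁ ⊤)), res _ hA'.le (res _ hA'.ge y) = y := by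
      intro y
      rw [res_res]
      exact res_self _ _ _
    rw [e2, e2] at h2
    exact h2
  have h3 : (CohB1.genLocus M s).ι ⁻¹ᵁ CohB1.genLocus _ u = CohB1.genLocus _ t := by
    rw [← genLocus_resHom, key]
    have := genLocus_comp_iso (SecTwist.tmulHom t pA)
      (restrictTensorIso (CohB1.genLocus M s).ι N (CohB1.tensorPow M k)).symm
    rw [Iso.symm_hom] at this
    rw [this, genLocus_tmulHom (isInvertible_restrict _ hN)
      (isInvertible_restrict _ (isInvertible_tensorPow hM k)), hpA, inf_top_eq]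
  rw [genLocus_tmulHom (isInvertible_tensorMod hN (isInvertible_tensorPow hM k)) hM, ← h3,
    Scheme.Hom.image_preimage_eq_opensRange_inf, Scheme.Opens.opensRange_ι, inf_comm]

/-- **Extension with prescribed ratios.** For a generator `t₀` of `N` over `A = X_s` and finitely many functions
`c i` on `A`, for every large `k` there are global sections `w₀`, `w i` of `(N ⊗ M^{⊗ k}) ⊗ M` with
`X_{w₀} = A` and `w i / w₀ = c i` on `A`. -/
theorem exists_sections_ratio [CompactSpace X] [QuasiSeparatedSpace X] {N M : X.Modules}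
    (hN : PicF.IsInvertible N) (hM : PicF.IsInvertible M) (s : Coh.structureModule X ⟶ M)
    (t₀ : Coh.structureModule (↑(CohB1.genLocus M s) : Scheme.{u}) ⟶
      N.restrict (CohB1.genLocus M s).ι)
    (ht₀ : CohB1.genLocus _ t₀ = ⊤) {g : ℕ} (c : Fin g → Γ(X, CohB1.genLocus M s)) :
    ∃ k₀ : ℕ, ∀ k, k₀ ≤ k →
      ∃ (w₀ : Coh.structureModule X ⟶
          CohB1.tensorMod (CohB1.tensorMod N (CohB1.tensorPow M k)) M)
        (w : Fin g → (Coh.structureModule X ⟶
          CohB1.tensorMod (CohB1.tensorMod N (CohB1.tensorPow M k)) M))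
        (h : CohB1.genLocus _ w₀ = CohB1.genLocus M s),
        ∀ i, ratio w₀ (w i) (CohB1.genLocus M s) h.ge = c i := by
  classical
  have hNq : N.IsQuasicoherent := isQuasicoherent_of_isInvertible hN
  let τ₀ : N.val.obj (op (CohB1.genLocus M s)) := topSec (CohB1.genLocus M s) t₀
  let τ : Fin g → N.val.obj (op (CohB1.genLocus M s)) := fun i =>
    (c i : X.ringCatSheaf.obj.obj (op (CohB1.genLocus M s))) • τ₀
  obtain ⟨n₀, hn₀, h₀⟩ := extend_top_ge N hM s τ₀
  have hi := fun i => extend_top_ge N hM s (τ i)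
  choose n hn hext using hi
  refine ⟨max n₀ (Finset.univ.sup n), fun k hk => ?_⟩
  have hk₀ : n₀ ≤ k := (le_max_left _ _).trans hk
  have hki : ∀ i, n i ≤ k := fun i =>
    (Finset.le_sup (f := n) (Finset.mem_univ i)).trans ((le_max_right _ _).trans hk)
  obtain ⟨t'₀, ht'₀⟩ := h₀ k hk₀
  have hi' := fun i => hext i k (hki i)
  choose t' ht' using hi'
  have hloc : CohB1.genLocus _ (SecTwist.tmulHom (homOfSec _ t'₀) s) = CohB1.genLocus M s := by
    rw [genLocus_tmulHom_of_extension hN hM s t₀ k (hn₀.trans_le hk₀) t'₀ ht'₀, ht₀]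
    exact (CohB1.genLocus M s).ι_image_top
  refine ⟨SecTwist.tmulHom (homOfSec _ t'₀) s, fun i => SecTwist.tmulHom (homOfSec _ (t' i)) s,
    hloc, fun i => ?_⟩
  symm
  apply eq_ratio
  change (c i : X.ringCatSheaf.obj.obj (op (CohB1.genLocus M s))) •
    SecTwist.val (SecTwist.tmulHom (homOfSec _ t'₀) s) (CohB1.genLocus M s) =
      SecTwist.val (SecTwist.tmulHom (homOfSec _ (t' i)) s) (CohB1.genLocus M s)
  rw [SecTwist.val_tmulHom, SecTwist.val_tmulHom, val_homOfSec, val_homOfSec, ht'₀, ht' i]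
  refine (tmul_smul_left (CohB1.tensorMod N (CohB1.tensorPow M k)) M (CohB1.genLocus M s) (c i)
    (SecTwist.twist s k N (CohB1.genLocus M s) τ₀) (SecTwist.val s (CohB1.genLocus M s))).symm.trans ?_
  congr 1
  exact (tmul_smul_left N (CohB1.tensorPow M k) (CohB1.genLocus M s) (c i) τ₀
    (SecTwist.pow s k (CohB1.genLocus M s))).symm

end Groth.Agent.Lib.helper12.SecExtend2
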