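import Mathlib
import Groth.Agent.Lib.Helper12.SecExtend2
import Groth.Agent.Lib.Helper12.MonCalc
import Groth.Agent.Lib.Helper12.ProjG4

/-!
# Sections of `L^{⊗ n} ⊗ L'` with prescribed ratios on a chart `X_s` (helper12)

* `exists_sections_chart`: `s` a section of `L^{⊗ d}` (`d > 0`), `L`, `L'` trivial on `Z = X_s`, `c i` functions on
  `Z`: for all large `n` there are global sections `w₀`, `w i` of `L^{⊗ n} ⊗ L'` with `X_{w₀} = Z` and
  `w i / w₀ = c i`.
-/

set_option autoImplicit false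
universe u

open CategoryTheory AlgebraicGeometry Opposite TopologicalSpace MonoidalCategory

namespace Groth.Agent.Lib.helper12.VAmple3

open Groth.Agent.Lib.helper11.InvMod Groth.Agent.Lib.helper11.GenLocus
open Groth.Agent.Lib.helper11.IsoLocus Groth.Agent.Lib.helper12.TensorInv
open Groth.Agent.Lib.helper12.SecExtend2 Groth.Agent.Lib.helper12.ProjUP3
open Groth.Agent.Lib.helper12.MonCalc
open Scheme.Modules

variable {X : Scheme.{u}}

theorem exists_sections_chart [CompactSpace X] [QuasiSeparatedSpace X] {L L' : X.Modules}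
    (hL : PicF.IsInvertible L) (hL' : PicF.IsInvertible L') {d : ℕ} (hd : 0 < d)
    (s : Coh.structureModule X ⟶ CohB1.tensorPow L d)
    (hT : IsTrivOn L (CohB1.genLocus _ s)) (hT' : IsTrivOn L' (CohB1.genLocus _ s))
    {g : ℕ} (c : Fin g → Γ(X, CohB1.genLocus _ s)) :
    ∃ n₀ : ℕ, ∀ n, n₀ ≤ n →
      ∃ (w₀ : Coh.structureModule X ⟶ CohB1.tensorMod (CohB1.tensorPow L n) L')
        (w : Fin g → (Coh.structureModule X ⟶ CohB1.tensorMod (CohB1.tensorPow L n) L'))
        (h : CohB1.genLocus _ w₀ = CohB1.genLocus _ s),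
        ∀ i, ratio w₀ (w i) (CohB1.genLocus _ s) h.ge = c i := by
  classical
  have hM : PicF.IsInvertible (CohB1.tensorPow L d) := isInvertible_tensorPow hL d
  have hN : ∀ r : ℕ, PicF.IsInvertible (CohB1.tensorMod (CohB1.tensorPow L r) L') := fun r =>
    isInvertible_tensorMod (isInvertible_tensorPow hL r) hL'
  have hTN : ∀ r : ℕ, IsTrivOn (CohB1.tensorMod (CohB1.tensorPow L r) L') (CohB1.genLocus _ s) :=
    fun r => isTrivOn_tensorMod (isTrivOn_tensorPow hT r) hT'
  have hstep : ∀ r : ℕ, ∃ k₀ : ℕ, ∀ k, k₀ ≤ k →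
      ∃ (w₀ : Coh.structureModule X ⟶ CohB1.tensorMod (CohB1.tensorMod
          (CohB1.tensorMod (CohB1.tensorPow L r) L') (CohB1.tensorPow (CohB1.tensorPow L d) k))
          (CohB1.tensorPow L d))
        (w : Fin g → (Coh.structureModule X ⟶ CohB1.tensorMod (CohB1.tensorMod
          (CohB1.tensorMod (CohB1.tensorPow L r) L') (CohB1.tensorPow (CohB1.tensorPow L d) k))
          (CohB1.tensorPow L d)))
        (h : CohB1.genLocus _ w₀ = CohB1.genLocus _ s),
        ∀ i, ratio w₀ (w i) (CohB1.genLocus _ s) h.ge = c i := by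
    intro r
    obtain ⟨e⟩ := hTN r
    haveI : IsIso e.inv := inferInstance
    exact exists_sections_ratio (hN r) hM s e.inv ((genLocus_eq_top_iff _ _).mpr inferInstance) c
  choose k₀ hk₀ using hstep
  refine ⟨d * ((Finset.range d).sup k₀ + 1), fun n hn => ?_⟩
  have hq : (Finset.range d).sup k₀ + 1 ≤ n / d := (Nat.le_div_iff_mul_le hd).mpr (by
    rw [mul_comm]; exact hn)
  obtain ⟨k, hk⟩ : ∃ k, n / d = k + 1 := ⟨n / d - 1, by omega⟩
  have hr : n % d < d := Nat.mod_lt n hd
  have hkr : k₀ (n % d) ≤ k := by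
    have := Finset.le_sup (f := k₀) (Finset.mem_range.mpr hr)
    omega
  obtain ⟨w₀, w, h, hw⟩ := hk₀ (n % d) k hkr
  have hn' : n % d + d * k + d = n := by
    have h1 := Nat.div_add_mod n d
    rw [hk, mul_add, mul_one] at h1
    omega
  have hmon1 : IsMon L L' (CohB1.tensorMod (CohB1.tensorMod
      (CohB1.tensorMod (CohB1.tensorPow L (n % d)) L')
      (CohB1.tensorPow (CohB1.tensorPow L d) k)) (CohB1.tensorPow L d)) n 1 := by
    refine (((((isMon_left L L').pow (n % d)).tensor (isMon_right L L')).tensor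
      (((isMon_left L L').pow d).pow k)).tensor ((isMon_left L L').pow d)).congr ?_ ?_
    · simp only [one_mul, zero_mul, add_zero]
      exact hn'
    · simp
  have hmon2 : IsMon L L' (CohB1.tensorMod (CohB1.tensorPow L n) L') n 1 := by
    refine (((isMon_left L L').pow n).tensor (isMon_right L L')).congr ?_ ?_ <;> simp
  obtain ⟨φ⟩ := hmon1.iso hmon2
  have h' : CohB1.genLocus _ (w₀ ≫ φ.hom) = CohB1.genLocus _ s := by
    rw [genLocus_comp_iso]; exact h
  refine ⟨w₀ ≫ φ.hom, fun i => w i ≫ φ.hom, h', fun i => ?_⟩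
  rw [Groth.Agent.Lib.helper12.ProjG.ratio_comp_iso w₀ (w i) φ _ h.ge h'.ge]
  exact hw i

end Groth.Agent.Lib.helper12.VAmple3
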