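import Mathlib
import Groth.Agent.Lib.Helper12.VAmple2
import Groth.Agent.Lib.Helper12.VAmple3
import Groth.Agent.Lib.Helper12.AmpleBasis2

/-!
# Ample ⇒ `L^{⊗ n} ⊗ L'` very ample relative to `P^N_S` for all large `n` (helper12; EGA II 4.6.11 / 4.6.13)

* `exists_generators_of_finiteType`;
* `isRelVeryAmplePn_of_sections'`: the sections criterion for an arbitrary finite index type;
* `isRelVeryAmplePn_eventually`: `f : X ⟶ S` locally of finite type, `L` ample on `X`, `L'` invertible ⇒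
  `∃ n₀, ∀ n ≥ n₀, RelAmple.IsRelVeryAmplePn f (L^{⊗ n} ⊗ L')`.
-/

set_option autoImplicit false
universe u

open CategoryTheory CategoryTheory.Limits AlgebraicGeometry Opposite TopologicalSpace

namespace Groth.Agent.Lib.helper12.VAmple4

open Groth.Agent.Lib.helper11.InvMod Groth.Agent.Lib.helper11.GenLocus
open Groth.Agent.Lib.helper11.IsoLocus Groth.Agent.Lib.helper12.TensorInv
open Groth.Agent.Lib.helper12.ProjUP3 Groth.Agent.Lib.helper12.VAmple2
open Groth.Agent.Lib.helper12.VAmple3 Groth.Agent.Lib.helper12.AmpleBasis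
open Groth.Agent.Lib.helper12.AmpleBasis2
open Scheme.Modules

theorem exists_generators_of_finiteType {A B : Type*} [CommRing A] [CommRing B] (φ : A →+* B)
    (h : φ.FiniteType) :
    ∃ (g : ℕ) (b : Fin g → B), Subring.closure (Set.range φ ∪ Set.range b) = ⊤ := by
  classical
  let _ := φ.toAlgebra
  obtain ⟨s, hs⟩ := (h : Algebra.FiniteType A B).out
  refine ⟨s.card, fun i => (s.equivFin.symm i : B), ?_⟩
  have h1 := Algebra.adjoin_eq_ring_closure (R := A) (s : Set B)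
  rw [hs] at h1
  have h2 : Set.range (fun i => (s.equivFin.symm i : B)) = (s : Set B) := by
    ext y
    constructor
    · rintro ⟨i, rfl⟩
      exact (s.equivFin.symm i).2
    · intro hy
      exact ⟨s.equivFin ⟨y, hy⟩, by simp⟩
  rw [h2]
  exact h1.symm.trans rfl

variable {X S : Scheme.{u}}

theorem isRelVeryAmplePn_of_sections' (f : X ⟶ S) {L : X.Modules} {T : Type*} [Fintype T]
    [Nonempty T] (σ : T → (Coh.structureModule X ⟶ L))
    (good : T → Prop) (V : T → S.Opens) (Z : T → X.Opens)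
    (hZeq : ∀ j, good j → CohB1.genLocus L (σ j) = Z j)
    (hV : ∀ j, good j → IsAffineOpen (V j))
    (hZ : ∀ j, good j → IsAffineOpen (Z j))
    (hle : ∀ j, good j → Z j ≤ f ⁻¹ᵁ V j)
    (hgen : ∀ j (hj : good j), Subring.closure
      (Set.range (f.appLE (V j) (Z j) (hle j hj)).hom ∪
        Set.range (fun l => ratio (σ j) (σ l) (Z j) (hZeq j hj).ge)) = ⊤)
    (hcov : ∀ x : X, ∃ j, good j ∧ x ∈ Z j) :
    RelAmple.IsRelVeryAmplePn f L := by
  classical
  obtain ⟨n, hn⟩ : ∃ n, Fintype.card T = n + 1 :=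
    ⟨Fintype.card T - 1, by have := Fintype.card_pos (α := T); omega⟩
  let e : Fin (n + 1) ≃ T := (Fintype.equivFinOfCardEq hn).symm
  have key : ∀ (j : T) (Z' : X.Opens) (h : CohB1.genLocus L (σ j) = Z') (hle' : Z' ≤ f ⁻¹ᵁ V j),
      Subring.closure (Set.range (f.appLE (V j) Z' hle').hom ∪
        Set.range (fun l => ratio (σ j) (σ l) Z' h.ge)) = ⊤ →
      ∀ (hle'' : CohB1.genLocus L (σ j) ≤ f ⁻¹ᵁ V j),
      Subring.closure (Set.range (f.appLE (V j) (CohB1.genLocus L (σ j)) hle'').hom ∪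
        Set.range (fun l' : Fin (n + 1) =>
          ratio (σ j) (σ (e l')) (CohB1.genLocus L (σ j)) le_rfl)) = ⊤ := by
    rintro j Z' rfl hle' h hle''
    rw [← h]
    congr 2
    exact e.surjective.range_comp (fun l => ratio (σ j) (σ l) (CohB1.genLocus L (σ j)) le_rfl)
  refine isRelVeryAmplePn_of_sections f (fun a => σ (e a)) (fun a => good (e a))
    (fun a => V (e a)) (fun a ha => hV _ ha) (fun a ha => (hZeq _ ha) ▸ hZ _ ha)
    (fun a ha => (hZeq _ ha) ▸ hle _ ha) (fun a ha => ?_) (fun x => ?_)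
  · exact key (e a) (Z (e a)) (hZeq _ ha) (hle _ ha) (hgen _ ha) _
  · obtain ⟨j, hj, hx⟩ := hcov x
    refine ⟨e.symm j, by simpa using hj, ?_⟩
    simp only [Equiv.apply_symm_apply]
    rw [hZeq j hj]
    exact hx

/-- **EGA II 4.6.11 / 4.6.13 (ii).**  For `f : X ⟶ S` locally of finite type, `L` ample on `X` and `L'` invertible,
`L^{⊗ n} ⊗ L'` is very ample relative to `f` (and some `P^N_S`) for all large `n`. -/
theorem isRelVeryAmplePn_eventually (f : X ⟶ S) [LocallyOfFiniteType f] {L L' : X.Modules}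
    (hL : CohB1.IsAmple L) (hL' : PicF.IsInvertible L') :
    ∃ n₀ : ℕ, ∀ n, n₀ ≤ n →
      RelAmple.IsRelVeryAmplePn f (CohB1.tensorMod (CohB1.tensorPow L n) L') := by
  classical
  have hB := isBasis_of_isAmple hL
  obtain ⟨hLi, hc, hcovL⟩ := hL
  have := hc
  have : QuasiSeparatedSpace X := quasiSeparatedSpace_of_hasAffineCover hLi hcovL
  rw [Opens.isBasis_iff_nbhd] at hB
  have hloc : ∀ x : X, ∃ (V : S.Opens) (d : ℕ)
      (s : Coh.structureModule X ⟶ CohB1.tensorPow L (d + 1)),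
      IsAffineOpen V ∧ x ∈ CohB1.genLocus _ s ∧ IsAffineOpen (CohB1.genLocus _ s) ∧
        CohB1.genLocus _ s ≤ f ⁻¹ᵁ V ∧ IsTrivOn L (CohB1.genLocus _ s) ∧
        IsTrivOn L' (CohB1.genLocus _ s) := by
    intro x
    obtain ⟨V, hV, hxV, -⟩ := exists_isAffineOpen_mem_and_subset
      (show f x ∈ (⊤ : S.Opens) from trivial)
    obtain ⟨A, hA, hxA, hAV, hT⟩ := exists_affine_isTrivOn hLi x (f ⁻¹ᵁ V) hxV
    obtain ⟨A', hA', hxA', hA'A, hT'⟩ := exists_affine_isTrivOn hL' x A hxA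
    obtain ⟨U, ⟨d, s, rfl⟩, hxU, hUA'⟩ := hB hxA'
    refine ⟨V, d, s, hV, hxU, ?_, (hUA'.trans hA'A).trans hAV, hT.of_le (hUA'.trans hA'A),
      hT'.of_le hUA'⟩
    exact isAffineOpen_genLocus_of_le s hA' (isTrivOn_tensorPow (hT.of_le hA'A) (d + 1)) hUA'
  choose V d s hV hxs hZaff hZle hTL hTL' using hloc
  have hgens : ∀ x, ∃ (g : ℕ) (b : Fin g → Γ(X, CohB1.genLocus _ (s x))),
      Subring.closure (Set.range (f.appLE (V x) (CohB1.genLocus _ (s x)) (hZle x)).hom ∪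
        Set.range b) = ⊤ := fun x =>
    exists_generators_of_finiteType _ (f.finiteType_appLE (hV x) (hZaff x) (hZle x))
  choose g b hb using hgens
  have hch := fun x => exists_sections_chart hLi hL' (Nat.succ_pos (d x)) (s x) (hTL x) (hTL' x)
    (b x)
  choose n₀ hn₀ using hch
  obtain ⟨F, hF⟩ := isCompact_univ.elim_finite_subcover
    (fun x => ((CohB1.genLocus _ (s x) : X.Opens) : Set X))
    (fun x => (CohB1.genLocus _ (s x)).isOpen) (fun x _ => Set.mem_iUnion.mpr ⟨x, hxs x⟩)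
  refine ⟨F.sup n₀, fun n hn => ?_⟩
  have hxn : ∀ x ∈ F, n₀ x ≤ n := fun x hx => (Finset.le_sup hx).trans hn
  have hsec := fun x : F => hn₀ x.1 n (hxn x.1 x.2)
  choose w₀ w hw₀ hw using hsec
  let T := Option (Σ x : F, Option (Fin (g x.1)))
  let σ : T → (Coh.structureModule X ⟶ CohB1.tensorMod (CohB1.tensorPow L n) L') := fun t =>
    match t with
    | none => 0
    | some ⟨x, none⟩ => w₀ x
    | some ⟨x, some i⟩ => w x i
  refine isRelVeryAmplePn_of_sections' f σ (fun t => ∃ x : F, t = some ⟨x, none⟩)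
    (fun t => match t with
      | some ⟨x, _⟩ => V x.1
      | none => ⊤)
    (fun t => match t with
      | some ⟨x, _⟩ => CohB1.genLocus _ (s x.1)
      | none => ⊤) ?_ ?_ ?_ ?_ ?_ ?_
  · rintro _ ⟨x, rfl⟩; exact hw₀ x
  · rintro _ ⟨x, rfl⟩; exact hV x.1
  · rintro _ ⟨x, rfl⟩; exact hZaff x.1
  · rintro _ ⟨x, rfl⟩; exact hZle x.1
  · rintro _ ⟨x, rfl⟩
    rw [eq_top_iff, ← hb x.1]
    apply Subring.closure_mono
    rintro y (hy | ⟨i, rfl⟩)
    · exact Or.inl hy
    · exact Or.inr ⟨some ⟨x, some i⟩, hw x i⟩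
  · intro y
    obtain ⟨x, hx⟩ := Set.mem_iUnion.mp (hF (Set.mem_univ y))
    obtain ⟨hxF, hy⟩ := Set.mem_iUnion.mp hx
    exact ⟨some ⟨⟨x, hxF⟩, none⟩, ⟨_, rfl⟩, hy⟩

theorem isRelVeryAmplePn_of_iso (f : X ⟶ S) {L L' : X.Modules} (e : L ≅ L')
    (h : RelAmple.IsRelVeryAmplePn f L) : RelAmple.IsRelVeryAmplePn f L' := by
  obtain ⟨n, i, hi, hif, ⟨τ⟩⟩ := h
  exact ⟨n, i, hi, hif, ⟨e.symm ≪≫ τ⟩⟩

/-- The case `L' = O`: `L^{⊗ n}` is very ample relative to `f` for all large `n`. -/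
theorem isRelVeryAmplePn_tensorPow_eventually (f : X ⟶ S) [LocallyOfFiniteType f] {L : X.Modules}
    (hL : CohB1.IsAmple L) :
    ∃ n₀ : ℕ, ∀ n, n₀ ≤ n → RelAmple.IsRelVeryAmplePn f (CohB1.tensorPow L n) := by
  obtain ⟨n₀, h⟩ := isRelVeryAmplePn_eventually f hL (isInvertible_structureModule X)
  exact ⟨n₀, fun n hn => isRelVeryAmplePn_of_iso f
    (Groth.Agent.Lib.Lead.ModTensor.rightUnitor _) (h n hn)⟩

end Groth.Agent.Lib.helper12.VAmple4
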