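import Mathlib
import Groth.Agent.Lib.Helper12.VAmple4
import Groth.Agent.Lib.Helper12.PullAmpleRel

/-!
# Very ample relative to `P^n_S` ⇒ relatively ample (helper12; EGA II 4.6.2)

* `isAmple_twistOver_restrict`: `O(1)|_{P^m_W}` is ample for `W ⊆ B` affine open.
* `isRelAmple_of_isRelVeryAmplePn`.
-/

set_option autoImplicit false
universe u

open CategoryTheory CategoryTheory.Limits AlgebraicGeometry Opposite TopologicalSpace

namespace Groth.Agent.Lib.helper12.VAmple5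

open Groth.Agent.Lib.helper12.ImmCharts Groth.Agent.Lib.helper12.PullAmple
open Groth.Agent.Lib.helper12.PullAmpleRel Groth.Agent.Lib.helper12.AmplePow
open Scheme.Modules

variable {X B : Scheme.{u}}

theorem isAmple_twistOver_restrict (m : ℕ) (W : B.Opens) (hW : IsAffineOpen W) :
    CohB1.IsAmple ((Twist.twistOver m B 1).restrict
      (CohB1.ProjSpaceOver.toBase m B ⁻¹ᵁ W).ι) := by
  set π := CohB1.ProjSpace.toSpec m (ULift.{u} ℤ)
  set t := specULiftZIsTerminal.from B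
  set U : (CohB1.ProjSpaceOver m B).Opens := CohB1.ProjSpaceOver.toBase m B ⁻¹ᵁ W
  let fst : CohB1.ProjSpaceOver m B ⟶ CohB1.ProjSpace m (ULift.{u} ℤ) := pullback.fst π t
  have h1 : CohB1.IsAmple (Twist.twistProjSpace m (ULift.{u} ℤ) ((1 : ℕ) : ℤ)) :=
    Groth.Agent.Lib.helper28.TwistPn.isAmple (n := m) (R := ULift.{u} ℤ) 1 one_pos
  have haff : IsAffineHom (U.ι ≫ fst) := by
    refine ⟨fun A hA => ?_⟩
    rw [← U.ι.isAffineOpen_iff_of_isOpenImmersion]
    change IsAffineOpen (U.ι ''ᵁ (U.ι ⁻¹ᵁ (fst ⁻¹ᵁ A)))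
    rw [Scheme.Hom.image_preimage_eq_opensRange_inf, Scheme.Opens.opensRange_ι, inf_comm]
    exact isAffineOpen_pullback_inf π t hA hW
  have h2 := isAmple_pullback_of_isAffineHom (U.ι ≫ fst) h1
  refine isAmple_of_iso ?_ h2
  exact ((restrictFunctorIsoPullback U.ι).app _ ≪≫ (pullbackComp U.ι fst).app _).symm

theorem isRelAmple_of_isRelVeryAmplePn (g : X ⟶ B) [QuasiCompact g] {M : X.Modules}
    (h : RelAmple.IsRelVeryAmplePn g M) : RelAmple.IsRelAmple g M := by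
  obtain ⟨m, i, hi, rfl, ⟨τ⟩⟩ := h
  refine ⟨inferInstance, fun W => ?_⟩
  let snd : CohB1.ProjSpaceOver m B ⟶ B := CohB1.ProjSpaceOver.toBase m B
  have hN := isAmple_twistOver_restrict (B := B) m W.1 W.2
  have hqc : QuasiCompact (i ≫ snd) := by assumption
  have hc : CompactSpace (↑(i ⁻¹ᵁ (snd ⁻¹ᵁ W.1)) : Scheme.{u}) :=
    isCompact_iff_compactSpace.mp
      ((i ≫ snd).isCompact_preimage W.2.isCompact)
  have h3 := isAmple_restrict_pullback_of_isEmbedding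
    (i ⁻¹ᵁ (snd ⁻¹ᵁ W.1)).ι i (i ∣_ (snd ⁻¹ᵁ W.1))
    (snd ⁻¹ᵁ W.1).ι (morphismRestrict_ι i _).symm
    (i ∣_ (snd ⁻¹ᵁ W.1)).isEmbedding hN
  exact isAmple_of_iso ((restrictFunctor _).mapIso τ.symm) h3

end Groth.Agent.Lib.helper12.VAmple5
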