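import Mathlib
import Groth.Agent.Lib.Helper12.VAmple5
import Groth.Agent.Lib.Helper19.ProjSpaceProper
import Groth.Prelude.Def_RelProj

/-!
# H-quasi-projective morphisms (helper12)

* `isHQuasiProjective_of_arrow_iso`: `RelProj.IsHQuasiProjective` is invariant under isomorphisms of arrows.
* `isQuasiProjective_of_isHQuasiProjective`.
* `isHQuasiProjective_of_isAmple`: `g` locally of finite type and quasi-compact, with an ample module on the source
  ⇒ `g` is H-quasi-projective.
-/

set_option autoImplicit false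
universe u

open CategoryTheory CategoryTheory.Limits AlgebraicGeometry Opposite TopologicalSpace

namespace Groth.Agent.Lib.helper12.VAmple6

open Groth.Agent.Lib.helper19.ProjSpaceProper

theorem isHQuasiProjective_of_arrow_iso {X B X' B' : Scheme.{u}} {g : X ⟶ B} {g' : X' ⟶ B'}
    (e : Arrow.mk g ≅ Arrow.mk g') (h : RelProj.IsHQuasiProjective g) :
    RelProj.IsHQuasiProjective g' := by
  obtain ⟨n, i, hi, hqc, hig⟩ := h
  have hα : IsIso e.hom.left := inferInstance
  have hβ : IsIso e.hom.right := inferInstance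
  have hw : e.hom.left ≫ g' = g ≫ e.hom.right := e.hom.w
  have hk : IsIso (pullback.map (CohB1.ProjSpace.toSpec n (ULift.{u} ℤ))
      (specULiftZIsTerminal.from B)
      (CohB1.ProjSpace.toSpec n (ULift.{u} ℤ)) (specULiftZIsTerminal.from B') (𝟙 _) e.hom.right
      (𝟙 _) (by simp) (specULiftZIsTerminal.hom_ext _ _)) :=
    pullback.map_isIso _ _ _ _ _ _ _ _ _
  let k : CohB1.ProjSpaceOver n B ⟶ CohB1.ProjSpaceOver n B' :=
    pullback.map (CohB1.ProjSpace.toSpec n (ULift.{u} ℤ)) (specULiftZIsTerminal.from B)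
      (CohB1.ProjSpace.toSpec n (ULift.{u} ℤ)) (specULiftZIsTerminal.from B') (𝟙 _) e.hom.right
      (𝟙 _) (by simp) (specULiftZIsTerminal.hom_ext _ _)
  have hk' : IsIso k := hk
  have hks : k ≫ CohB1.ProjSpaceOver.toBase n B' =
      CohB1.ProjSpaceOver.toBase n B ≫ e.hom.right :=
    pullback.lift_snd _ _ _
  refine ⟨n, inv e.hom.left ≫ i ≫ k, inferInstance, inferInstance, ?_⟩
  rw [Category.assoc, Category.assoc, hks, ← Category.assoc i, hig, IsIso.inv_comp_eq, hw]

theorem isQuasiProjective_of_isHQuasiProjective {X B : Scheme.{u}} {g : X ⟶ B}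
    (h : RelProj.IsHQuasiProjective g) : RelProj.IsQuasiProjective g := by
  obtain ⟨n, i, hi, hqc, hig⟩ := h
  have hft : LocallyOfFiniteType g := by rw [← hig]; infer_instance
  have hqc' : QuasiCompact g := by rw [← hig]; infer_instance
  refine ⟨hft, hqc', (Scheme.Modules.pullback i).obj (Twist.twistOver n B 1), ?_⟩
  exact Groth.Agent.Lib.helper12.VAmple5.isRelAmple_of_isRelVeryAmplePn g
    ⟨n, i, hi, hig, ⟨Iso.refl _⟩⟩

theorem isHQuasiProjective_of_isAmple {X B : Scheme.{u}} (g : X ⟶ B) [LocallyOfFiniteType g]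
    [QuasiCompact g] {L : X.Modules} (hL : CohB1.IsAmple L) : RelProj.IsHQuasiProjective g := by
  obtain ⟨k₀, hk⟩ := Groth.Agent.Lib.helper12.VAmple4.isRelVeryAmplePn_tensorPow_eventually g hL
  obtain ⟨n, i, hi, hig, -⟩ := hk k₀ le_rfl
  have hig' : i ≫ CohB1.ProjSpaceOver.toBase n B = g := hig
  have : QuasiCompact (i ≫ CohB1.ProjSpaceOver.toBase n B) := by rw [hig']; infer_instance
  exact ⟨n, i, hi, QuasiCompact.of_comp i (CohB1.ProjSpaceOver.toBase n B), hig'⟩

end Groth.Agent.Lib.helper12.VAmple6
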