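import Mathlib
import Groth.Agent.Lib.Helper12.Chow5

/-
helper12: Chow's lemma, part 6 — schemes with finitely many irreducible components (no coproducts needed):
a dense affine open `U` and affine opens `U_i ⊇ U` covering `X`.
-/

set_option autoImplicit false
universe u

open CategoryTheory CategoryTheory.Limits AlgebraicGeometry Opposite TopologicalSpace

namespace Groth.Agent.Lib.helper12.Chow6

open scoped Function in
/-- If `X` has finitely many irreducible components, every finite family of affine opens `V_i` can be enlarged to affine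
opens `U_i ⊇ V_i` all containing one dense affine open `U`. -/
theorem exists_good_opens {X : Scheme.{u}} (hfin : (irreducibleComponents X).Finite) {m : ℕ}
    (V : Fin m → X.Opens) (hV : ∀ i, IsAffineOpen (V i)) :
    ∃ (U : X.Opens) (Ui : Fin m → X.Opens), IsAffineOpen U ∧ Dense (U : Set X) ∧
      (∀ i, IsAffineOpen (Ui i)) ∧ (∀ i, U ≤ Ui i) ∧ (∀ i, V i ≤ Ui i) := by
  classical
  let σ := {Z : Set X // Z ∈ irreducibleComponents X}
  have : Finite σ := hfin.to_subtype
  let Xo : σ → X.Opens := fun Z => ⟨(⋃₀ (irreducibleComponents X \ {Z.1}))ᶜ, by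
    rw [Set.sUnion_eq_biUnion, isOpen_compl_iff]
    exact hfin.sdiff.isClosed_biUnion fun W hW ↦ isClosed_of_mem_irreducibleComponents W hW.1⟩
  have hcl : ∀ Z : σ, closure (Xo Z : Set X) = Z.1 := fun Z =>
    closure_sUnion_irreducibleComponents_sdiff_singleton hfin Z.1 Z.2
  have hsub : ∀ Z : σ, (Xo Z : Set X) ⊆ Z.1 := fun Z => by
    rw [← hcl Z]; exact subset_closure
  have hirr : ∀ Z : σ, IsIrreducible (Xo Z : Set X) := fun Z => by
    rw [← isIrreducible_iff_closure, hcl Z]; exact Z.2.1
  have hdisjo : ∀ Z Z' : σ, Z ≠ Z' → Disjoint (Xo Z) (Xo Z') := by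
    intro Z Z' hne
    rw [disjoint_iff_inf_le]
    rintro x ⟨hx, hx'⟩
    exact hx' (Set.mem_sUnion.mpr ⟨Z.1, ⟨Z.2, fun h => hne (Subtype.ext h)⟩, hsub Z hx⟩)
  -- choose the opens `W_Z`
  have hW : ∀ Z : σ, ∃ W : X.Opens, IsAffineOpen W ∧ (W : Set X).Nonempty ∧ W ≤ Xo Z ∧
      ∀ i, W ≤ V i ∨ Disjoint W (V i) := by
    intro Z
    let I : Finset (Fin m) := Finset.univ.filter fun i => ((Xo Z : Set X) ∩ (V i : Set X)).Nonempty
    obtain ⟨x, hxo, hx⟩ := isIrreducible_iff_sInter.mp (hirr Z) (I.image fun i => (V i : Set X))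
      (by
        intro u hu
        obtain ⟨i, -, rfl⟩ := Finset.mem_image.mp hu
        exact (V i).isOpen)
      (by
        intro u hu
        obtain ⟨i, hi, rfl⟩ := Finset.mem_image.mp hu
        exact (Finset.mem_filter.mp hi).2)
    let T : X.Opens := Xo Z ⊓ ⟨⋂₀ ↑(I.image fun i => (V i : Set X)),
      (Finset.finite_toSet _).isOpen_sInter (by
        intro u hu
        obtain ⟨i, -, rfl⟩ := Finset.mem_image.mp (Finset.mem_coe.mp hu)
        exact (V i).isOpen)⟩
    have hxT : x ∈ T := ⟨hxo, hx⟩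
    obtain ⟨W, hWaff, hxW, hWT⟩ := exists_isAffineOpen_mem_and_subset hxT
    refine ⟨W, hWaff, ⟨x, hxW⟩, fun y hy => (hWT hy).1, fun i => ?_⟩
    by_cases hi : i ∈ I
    · left
      intro y hy
      exact Set.mem_sInter.mp (hWT hy).2 _
        (Finset.mem_coe.mpr (Finset.mem_image.mpr ⟨i, hi, rfl⟩))
    · right
      rw [disjoint_iff_inf_le]
      rintro y ⟨hyW, hyV⟩
      exact hi (Finset.mem_filter.mpr ⟨Finset.mem_univ _, ⟨y, (hWT hyW).1, hyV⟩⟩)
  choose W hWaff hWne hWle hWV using hW
  have hWdisj : Pairwise (Disjoint on W) := fun Z Z' hne =>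
    (hdisjo Z Z' hne).mono (hWle Z) (hWle Z')
  -- the dense affine open
  refine ⟨⨆ Z, W Z, fun i => ⨆ o : Option σ, o.elim (V i)
    (fun Z => if Disjoint (W Z) (V i) then W Z else ⊥), ?_, ?_, ?_, ?_, ?_⟩
  · exact IsAffineOpen.iSup_of_disjoint hWaff hWdisj
  · rw [dense_iff_closure_eq, Set.eq_univ_iff_forall]
    intro x
    have hx : x ∈ ⋃₀ irreducibleComponents X := by rw [sUnion_irreducibleComponents]; trivial
    obtain ⟨Z, hZ, hxZ⟩ := Set.mem_sUnion.mp hx
    let Z' : σ := ⟨Z, hZ⟩
    have h1 : (Xo Z' : Set X) ⊆ closure ((Xo Z' : Set X) ∩ (W Z' : Set X)) :=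
      subset_closure_inter_of_isPreirreducible_of_isOpen (hirr Z').2 (W Z').isOpen (by
        obtain ⟨y, hy⟩ := hWne Z'
        exact ⟨y, hWle Z' hy, hy⟩)
    have h2 : Z ⊆ closure ((W Z' : X.Opens) : Set X) := by
      have h3 : Z = closure (Xo Z' : Set X) := (hcl Z').symm
      rw [h3]
      refine closure_minimal (h1.trans (closure_mono Set.inter_subset_right)) isClosed_closure
    refine closure_mono ?_ (h2 hxZ)
    exact fun y hy => Opens.mem_iSup.mpr ⟨Z', hy⟩
  · intro i
    refine IsAffineOpen.iSup_of_disjoint ?_ ?_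
    · rintro (_ | Z)
      · exact hV i
      · change IsAffineOpen (if Disjoint (W Z) (V i) then W Z else ⊥)
        split_ifs
        · exact hWaff Z
        · exact isAffineOpen_bot X
    · rintro (_ | Z) (_ | Z') hne
      · exact absurd rfl hne
      · change Disjoint (V i) (if Disjoint (W Z') (V i) then W Z' else ⊥)
        split_ifs with h
        · exact h.symm
        · exact disjoint_bot_right
      · change Disjoint (if Disjoint (W Z) (V i) then W Z else ⊥) (V i)
        split_ifs with h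
        · exact h
        · exact disjoint_bot_left
      · change Disjoint (if Disjoint (W Z) (V i) then W Z else ⊥)
          (if Disjoint (W Z') (V i) then W Z' else ⊥)
        have hZZ' : Z ≠ Z' := fun h => hne (by rw [h])
        split_ifs
        · exact hWdisj hZZ'
        · exact disjoint_bot_right
        · exact disjoint_bot_left
        · exact disjoint_bot_left
  · intro i
    refine iSup_le fun Z => ?_
    rcases hWV Z i with h | h
    · exact h.trans (le_iSup (fun o : Option σ => o.elim (V i)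
        (fun Z => if Disjoint (W Z) (V i) then W Z else ⊥)) none)
    · refine le_trans ?_ (le_iSup (fun o : Option σ => o.elim (V i)
        (fun Z => if Disjoint (W Z) (V i) then W Z else ⊥)) (some Z))
      change W Z ≤ if Disjoint (W Z) (V i) then W Z else ⊥
      rw [if_pos h]
  · intro i
    exact le_iSup (fun o : Option σ => o.elim (V i)
      (fun Z => if Disjoint (W Z) (V i) then W Z else ⊥)) none

/-- **Chow's lemma** for `X` with finitely many irreducible components over a quasi-compact quasi-separated base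
(Stacks 0200 for Noetherian `S`; = S7410). -/
theorem chow_finite_components {X S : Scheme.{u}} (f : X ⟶ S) [IsSeparated f] [LocallyOfFiniteType f]
    [QuasiCompact f] [CompactSpace S] [QuasiSeparatedSpace S]
    (hfin : (irreducibleComponents X).Finite) :
    ∃ (n : ℕ) (X'' : Scheme.{u}) (π : X'' ⟶ X) (j : X'' ⟶ CohB1.ProjSpaceOver n S),
      IsImmersion j ∧ j ≫ CohB1.ProjSpaceOver.toBase n S = π ≫ f ∧ IsProper π ∧ Surjective π ∧
      ∃ U : X.Opens, Dense (U : Set X) ∧ IsIso (π ∣_ U) := by
  classical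
  by_cases hemp : IsEmpty X
  · refine ⟨0, X, 𝟙 X, isInitialOfIsEmpty.to _, inferInstance, isInitialOfIsEmpty.hom_ext _ _,
      inferInstance, inferInstance, ⊤, ?_, inferInstance⟩
    intro x
    exact (hemp.false x).elim
  rw [not_isEmpty_iff] at hemp
  have : CompactSpace X := QuasiCompact.compactSpace_of_compactSpace f
  have : QuasiSeparatedSpace X := quasiSeparatedSpace_of_quasiSeparated f
  have hnb : ∀ x : X, ∃ V : X.Opens, IsAffineOpen V ∧ x ∈ V := fun x => by
    obtain ⟨V, hV, hxV, -⟩ := exists_isAffineOpen_mem_and_subset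
      (show x ∈ (⊤ : X.Opens) from trivial)
    exact ⟨V, hV, hxV⟩
  choose V hV hxV using hnb
  obtain ⟨s, hs⟩ := isCompact_univ.elim_finite_subcover (fun x => (V x : Set X))
    (fun x => (V x).isOpen) (fun x _ => Set.mem_iUnion.mpr ⟨x, hxV x⟩)
  have hsne : s.Nonempty := by
    obtain ⟨x0⟩ := hemp
    have h1 := hs (Set.mem_univ x0)
    simp only [Set.mem_iUnion] at h1
    obtain ⟨x, hx, -⟩ := h1
    exact ⟨x, hx⟩
  obtain ⟨m, hm⟩ : ∃ m, s.card = m + 1 :=
    Nat.exists_eq_succ_of_ne_zero (Finset.card_ne_zero.mpr hsne)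
  let e : Fin (m + 1) ≃ s := (Finset.equivFinOfCardEq hm).symm
  obtain ⟨U, Ui, hUaff, hUdense, hUi, hU, hVUi⟩ :=
    exists_good_opens hfin (fun i : Fin (m + 1) => V (e i)) (fun i => hV _)
  have hcov : ⨆ i, Ui i = ⊤ := by
    rw [eq_top_iff]
    intro x _
    have h1 := hs (Set.mem_univ x)
    simp only [Set.mem_iUnion] at h1
    obtain ⟨y, hy, hxy⟩ := h1
    refine Opens.mem_iSup.mpr ⟨e.symm ⟨y, hy⟩, hVUi _ ?_⟩
    change x ∈ V (e (e.symm ⟨y, hy⟩))
    rw [Equiv.apply_symm_apply]
    exact hxy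
  have himm := fun i => Chow5.exists_immersion_of_isAffineOpen f (Ui i) (hUi i)
  choose n φ hφimm hφ using himm
  obtain ⟨P, q, p, N, c, hc, hcq, hp, huniv⟩ := Chow4.exists_weak_product S m n
  have : IsProper q := by rw [← hcq]; infer_instance
  have : CompactSpace (U : Scheme.{u}) := isCompact_iff_compactSpace.mp hUaff.isCompact
  have : QuasiCompact U.ι := inferInstance
  obtain ⟨g, hgq, hgp⟩ := huniv U (U.ι ≫ f) (fun i => X.homOfLE (hU i) ≫ φ i) (fun i => by
    rw [Category.assoc, hφ i, X.homOfLE_ι_assoc])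
  have hg : U.ι ≫ f = g ≫ q := hgq.symm
  have hρ : IsImmersion (Chow2.ρ f q U g hg) :=
    Chow3.isImmersion_ρ f q U g hg Ui hU hcov (fun i => CohB1.ProjSpaceOver (n i) S)
      (fun i => CohB1.ProjSpaceOver.toBase (n i) S) p hp φ hφ hgp
  refine ⟨N, Chow2.X' f q U g hg, Chow2.π f q U g hg, Chow2.ρ f q U g hg ≫ c, inferInstance, ?_,
    inferInstance, Chow2.surjective_π f q U g hg hUdense,
    ⟨U, hUdense, Chow2.isIso_π_restrict f q U g hg⟩⟩
  rw [Category.assoc, hcq, Chow2.π_f]

end Groth.Agent.Lib.helper12.Chow6
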