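import Mathlib
import Groth.Prelude.Def_EtRam
set_option linter.style.haveILetI false
set_option linter.unusedSectionVars false

namespace Groth.Agent.Lib.helper12.TameTower

open IsLocalRing

section Ram

variable {R : Type*} [CommRing R] {S : Type*} [CommRing S] [Algebra R S]

/-- If the (junk-valued) ramification index is nonzero, the defining set is bounded and the
index is its maximum. -/
lemma not_le_pow_succ {p : Ideal R} {P : Ideal S} (h : Ideal.ramificationIdx' p P ≠ 0) :
    ¬ Ideal.map (algebraMap R S) p ≤ P ^ (Ideal.ramificationIdx' p P + 1) := by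
  intro hle
  by_cases hb : ∃ n, ∀ k, Ideal.map (algebraMap R S) p ≤ P ^ k → k ≤ n
  · classical
    rw [Ideal.ramificationIdx'_eq_find hb] at hle
    have := Nat.find_spec hb _ hle
    omega
  · apply h
    apply Ideal.ramificationIdx'_eq_zero
    push Not at hb
    intro n
    obtain ⟨k, hk, hnk⟩ := hb n
    exact ⟨k, hk, hnk⟩

end Ram

section Unif

variable {V : Type*} [CommRing V] [IsDomain V] [ValuationRing V]

/-- In a valuation ring, an element lying in `m ^ e` but not in `m ^ (e+1)` (`e ≠ 0`) forces the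
maximal ideal to be principal, and the element is a unit times the `e`-th power of a generator. -/
lemma exists_uniformizer {x : V} {e : ℕ} (he : e ≠ 0)
    (h1 : Ideal.span {x} ≤ maximalIdeal V ^ e) (h2 : ¬ Ideal.span {x} ≤ maximalIdeal V ^ (e + 1)) :
    ∃ ϖ : V, ϖ ≠ 0 ∧ maximalIdeal V = Ideal.span {ϖ} ∧ ∃ u : Vˣ, x = u * ϖ ^ e := by
  -- the maximal ideal is not idempotent
  have hne : maximalIdeal V ^ 2 ≠ maximalIdeal V := by
    intro hidem
    have hall : ∀ n : ℕ, maximalIdeal V ^ (n + 1) = maximalIdeal V := by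
      intro n
      induction n with
      | zero => simp
      | succ n ih => rw [pow_succ, ih, ← pow_two, hidem]
    obtain ⟨e', rfl⟩ := Nat.exists_eq_succ_of_ne_zero he
    apply h2
    rw [hall] at h1
    rw [hall]
    exact h1
  have hlt : ¬ maximalIdeal V ≤ maximalIdeal V ^ 2 := fun hle =>
    hne (le_antisymm (Ideal.pow_le_self (by norm_num)) hle)
  obtain ⟨ϖ, hϖm, hϖ2⟩ := SetLike.not_le_iff_exists.mp hlt
  have hspan : maximalIdeal V = Ideal.span {ϖ} := by
    apply le_antisymm
    · intro y hy
      rw [Ideal.mem_span_singleton]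
      rcases ValuationRing.dvd_total y ϖ with hyϖ | hϖy
      · obtain ⟨z, hz⟩ := hyϖ
        by_cases hzu : IsUnit z
        · obtain ⟨u, rfl⟩ := hzu
          exact ⟨(↑u⁻¹ : V), by rw [hz, mul_assoc, Units.mul_inv, mul_one]⟩
        · exfalso
          apply hϖ2
          rw [hz, pow_two]
          exact Ideal.mul_mem_mul hy ((mem_maximalIdeal z).mpr hzu)
      · exact hϖy
    · rw [Ideal.span_singleton_le_iff_mem]
      exact hϖm
  have hx : x ∈ Ideal.span {ϖ ^ e} := by
    have := h1 (Ideal.mem_span_singleton_self x)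
    rwa [hspan, Ideal.span_singleton_pow] at this
  obtain ⟨u, hu⟩ := Ideal.mem_span_singleton'.mp hx
  have hx0 : x ≠ 0 := by
    rintro rfl
    apply h2
    simp
  have hϖ0 : ϖ ≠ 0 := by
    rintro rfl
    apply hx0
    rw [← hu, zero_pow he, mul_zero]
  have huu : IsUnit u := by
    by_contra hnu
    have hum : u ∈ Ideal.span {ϖ} := hspan ▸ (mem_maximalIdeal u).mpr hnu
    obtain ⟨c, hc⟩ := Ideal.mem_span_singleton'.mp hum
    apply h2
    rw [Ideal.span_singleton_le_iff_mem, hspan, Ideal.span_singleton_pow,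
      Ideal.mem_span_singleton']
    exact ⟨c, by rw [← hu, ← hc]; ring⟩
  obtain ⟨u, rfl⟩ := huu
  exact ⟨ϖ, hϖ0, hspan, u, hu.symm⟩

end Unif

section Spec

variable {R : Type*} [CommRing R] {S : Type*} [CommRing S] [IsDomain S] [IsLocalRing S]
  [Algebra R S]

/-- Computing the ramification index from a uniformizer. -/
lemma ramIdx_eq {p : Ideal R} {x ϖ : S} (hp : Ideal.map (algebraMap R S) p = Ideal.span {x})
    (hϖ0 : ϖ ≠ 0) (hϖ : maximalIdeal S = Ideal.span {ϖ}) {n : ℕ} (u : Sˣ) (hx : x = u * ϖ ^ n) :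
    Ideal.ramificationIdx' p (maximalIdeal S) = n := by
  apply Ideal.ramificationIdx'_spec
  · rw [hp, hϖ, Ideal.span_singleton_pow, Ideal.span_singleton_le_iff_mem,
      Ideal.mem_span_singleton']
    exact ⟨u, hx.symm⟩
  · rw [hp, hϖ, Ideal.span_singleton_pow, Ideal.span_singleton_le_iff_mem,
      Ideal.mem_span_singleton']
    rintro ⟨c, hc⟩
    have hnu : ¬ IsUnit ϖ := by
      have : ϖ ∈ maximalIdeal S := by rw [hϖ]; exact Ideal.mem_span_singleton_self ϖ
      exact (mem_maximalIdeal ϖ).mp this
    apply hnu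
    have h1 : ϖ ^ n * (c * ϖ) = ϖ ^ n * u := by rw [← mul_comm (u : S), ← hx, ← hc]; ring
    have h2 := mul_left_cancel₀ (pow_ne_zero n hϖ0) h1
    exact isUnit_of_mul_isUnit_right (h2 ▸ u.isUnit)

/-- If `y ∣ ϖ ^ e` in a local domain with maximal ideal `(ϖ)`, then `y` is a unit times a
power of `ϖ`. -/
lemma eq_unit_mul_pow_of_dvd {ϖ : S} (hϖ0 : ϖ ≠ 0) (hϖ : maximalIdeal S = Ideal.span {ϖ})
    (e : ℕ) (y : S) (hy : y ∣ ϖ ^ e) : ∃ (j : ℕ) (u : Sˣ), y = u * ϖ ^ j := by
  induction e generalizing y with
  | zero =>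
    rw [pow_zero] at hy
    obtain ⟨u, rfl⟩ := isUnit_of_dvd_one hy
    exact ⟨0, u, by simp⟩
  | succ e ih =>
    by_cases hyu : IsUnit y
    · obtain ⟨u, rfl⟩ := hyu
      exact ⟨0, u, by simp⟩
    · have hym : y ∈ Ideal.span {ϖ} := hϖ ▸ (mem_maximalIdeal y).mpr hyu
      obtain ⟨y', rfl⟩ := Ideal.mem_span_singleton'.mp hym
      obtain ⟨c, hc⟩ := hy
      have h1 : ϖ * ϖ ^ e = ϖ * (y' * c) := by rw [← pow_succ', hc]; ring
      have h2 := mul_left_cancel₀ hϖ0 h1
      obtain ⟨j, u, hj⟩ := ih y' ⟨c, h2⟩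
      exact ⟨j + 1, u, by rw [hj]; ring⟩

end Spec


section Tower

variable {A V W : Type*} [CommRing A] [IsLocalRing A]
  [CommRing V] [IsDomain V] [ValuationRing V]
  [CommRing W] [IsDomain W] [ValuationRing W]
  [Algebra A V] [Algebra V W] [Algebra A W] [IsScalarTower A V W]

lemma map_maximalIdeal_eq_span {B : Type*} [CommRing B] [Algebra A B] {π : A}
    (hπ : maximalIdeal A = Ideal.span {π}) :
    Ideal.map (algebraMap A B) (maximalIdeal A) = Ideal.span {algebraMap A B π} := by
  rw [hπ, Ideal.map_span, Set.image_singleton]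

/-- Multiplicativity of the ramification index in a tower of valuation rings, when both
indices are nonzero. -/
lemma ramIdx_mul {π : A} (hπ : maximalIdeal A = Ideal.span {π})
    (h1 : Ideal.ramificationIdx' (maximalIdeal A) (maximalIdeal V) ≠ 0)
    (h2 : Ideal.ramificationIdx' (maximalIdeal V) (maximalIdeal W) ≠ 0) :
    Ideal.ramificationIdx' (maximalIdeal A) (maximalIdeal W) =
      Ideal.ramificationIdx' (maximalIdeal A) (maximalIdeal V) *
      Ideal.ramificationIdx' (maximalIdeal V) (maximalIdeal W) := by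
  have hmapV := map_maximalIdeal_eq_span (B := V) hπ
  obtain ⟨ϖV, hϖV0, hϖV, u, hu⟩ := exists_uniformizer h1
    (by rw [← hmapV]; exact Ideal.le_pow_ramificationIdx')
    (by rw [← hmapV]; exact not_le_pow_succ h1)
  have hmapW := map_maximalIdeal_eq_span (B := W) hϖV
  obtain ⟨ϖW, hϖW0, hϖW, u', hu'⟩ := exists_uniformizer h2
    (by rw [← hmapW]; exact Ideal.le_pow_ramificationIdx')
    (by rw [← hmapW]; exact not_le_pow_succ h2)
  have hmapAW := map_maximalIdeal_eq_span (B := W) hπ
  refine ramIdx_eq hmapAW hϖW0 hϖW (Units.map (algebraMap V W : V →* W) u *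
    u' ^ Ideal.ramificationIdx' (maximalIdeal A) (maximalIdeal V)) ?_
  rw [IsScalarTower.algebraMap_apply A V W, hu, map_mul, map_pow, hu']
  push_cast
  simp only [Units.coe_map, MonoidHom.coe_coe]
  ring

/-- Divisibility of ramification indices in a tower of valuation rings. -/
lemma ramIdx_dvd [IsLocalHom (algebraMap V W)]
    {π : A} (hπ : maximalIdeal A = Ideal.span {π})
    (h : Ideal.ramificationIdx' (maximalIdeal A) (maximalIdeal W) ≠ 0) :
    Ideal.ramificationIdx' (maximalIdeal A) (maximalIdeal V) ∣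
      Ideal.ramificationIdx' (maximalIdeal A) (maximalIdeal W) := by
  have hmapAW := map_maximalIdeal_eq_span (B := W) hπ
  have hmapV := map_maximalIdeal_eq_span (B := V) hπ
  obtain ⟨ϖ, hϖ0, hϖ, u, hu⟩ := exists_uniformizer h
    (by rw [← hmapAW]; exact Ideal.le_pow_ramificationIdx')
    (by rw [← hmapAW]; exact not_le_pow_succ h)
  set e := Ideal.ramificationIdx' (maximalIdeal A) (maximalIdeal W) with he
  set x := algebraMap A V π with hx
  have hxW : algebraMap V W x = u * ϖ ^ e := by
    rw [hx, ← IsScalarTower.algebraMap_apply A V W, hu]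
  have hϖnu : ¬ IsUnit ϖ := by
    have : ϖ ∈ maximalIdeal W := by rw [hϖ]; exact Ideal.mem_span_singleton_self ϖ
    exact (mem_maximalIdeal ϖ).mp this
  have hmVW : Ideal.map (algebraMap V W) (maximalIdeal V) ≤ maximalIdeal W :=
    ((local_hom_TFAE (algebraMap V W)).out 0 2).mp (inferInstance : IsLocalHom (algebraMap V W))
  -- the bound
  have hbound : ∀ n : ℕ, Ideal.span {x} ≤ maximalIdeal V ^ n → n ≤ e := by
    intro n hn
    by_contra hlt
    push Not at hlt
    have h1 : x ∈ maximalIdeal V ^ (e + 1) :=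
      Ideal.pow_le_pow_right hlt (hn (Ideal.mem_span_singleton_self x))
    have h2 : algebraMap V W x ∈ maximalIdeal W ^ (e + 1) := by
      have := Ideal.mem_map_of_mem (algebraMap V W) h1
      rw [Ideal.map_pow] at this
      exact Ideal.pow_right_mono hmVW _ this
    rw [hϖ, Ideal.span_singleton_pow, Ideal.mem_span_singleton', hxW] at h2
    obtain ⟨c, hc⟩ := h2
    apply hϖnu
    have h3 : ϖ ^ e * (c * ϖ) = ϖ ^ e * u := by rw [mul_comm _ (u : W), ← hc]; ring
    have h4 := mul_left_cancel₀ (pow_ne_zero e hϖ0) h3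
    exact isUnit_of_mul_isUnit_right (h4 ▸ u.isUnit)
  have hxm : x ∈ maximalIdeal V := by
    rw [mem_maximalIdeal]
    intro hxu
    have := hxu.map (algebraMap V W)
    rw [hxW] at this
    have h5 : IsUnit (ϖ ^ e) := isUnit_of_mul_isUnit_right this
    exact hϖnu ((isUnit_pow_iff h).mp h5)
  classical
  set k := Nat.findGreatest (fun n => Ideal.span {x} ≤ maximalIdeal V ^ n) e with hk
  have he1 : 1 ≤ e := Nat.one_le_iff_ne_zero.mpr h
  have hP1 : Ideal.span {x} ≤ maximalIdeal V ^ 1 := by
    rw [pow_one, Ideal.span_singleton_le_iff_mem]; exact hxm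
  have hPk : Ideal.span {x} ≤ maximalIdeal V ^ k :=
    Nat.findGreatest_spec (P := fun n => Ideal.span {x} ≤ maximalIdeal V ^ n) he1 hP1
  have hk1 : 1 ≤ k := Nat.le_findGreatest he1 hP1
  have hPk' : ¬ Ideal.span {x} ≤ maximalIdeal V ^ (k + 1) := by
    intro hle
    have hke := hbound _ hle
    exact Nat.findGreatest_is_greatest (P := fun n => Ideal.span {x} ≤ maximalIdeal V ^ n)
      (Nat.lt_succ_self k) hke hle
  have hkV : Ideal.ramificationIdx' (maximalIdeal A) (maximalIdeal V) = k :=
    Ideal.ramificationIdx'_spec (by rw [hmapV]; exact hPk) (by rw [hmapV]; exact hPk')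
  obtain ⟨ϖV, hϖV0, hϖV, uV, huV⟩ := exists_uniformizer (by omega) hPk hPk'
  -- image of the uniformizer of `V`
  have hdvd : algebraMap V W ϖV ∣ ϖ ^ e := by
    have h1 : algebraMap V W ϖV ∣ algebraMap V W x := by
      rw [huV, map_mul, map_pow]
      exact Dvd.dvd.mul_left (dvd_pow_self _ (by omega)) _
    rw [hxW] at h1
    exact (Units.dvd_mul_left).mp h1
  obtain ⟨j, u'', hj⟩ := eq_unit_mul_pow_of_dvd hϖ0 hϖ e _ hdvd
  have hfin : algebraMap A W π =
      ((Units.map (algebraMap V W : V →* W) uV * u'' ^ k : Wˣ) : W) * ϖ ^ (j * k) := by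
    rw [IsScalarTower.algebraMap_apply A V W, ← hx, huV, map_mul, map_pow, hj]
    push_cast
    simp only [Units.coe_map, MonoidHom.coe_coe]
    ring
  have := ramIdx_eq hmapAW hϖ0 hϖ _ hfin
  rw [hkV]
  exact ⟨j, by rw [he, this, mul_comm]⟩

end Tower


section Abstract

variable {A V W : Type*} [CommRing A] [IsLocalRing A]
  [CommRing V] [IsDomain V] [ValuationRing V]
  [CommRing W] [IsDomain W] [ValuationRing W]
  [Algebra A V] [Algebra V W] [Algebra A W] [IsScalarTower A V W]
  [IsLocalHom (algebraMap A V)] [IsLocalHom (algebraMap V W)] [IsLocalHom (algebraMap A W)]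

theorem tame_bot {π : A} (hπ : maximalIdeal A = Ideal.span {π})
    (hsep : Algebra.IsSeparable (ResidueField A) (ResidueField W))
    (hram : ∀ p : ℕ, p.Prime → CharP (ResidueField A) p →
      ¬ p ∣ Ideal.ramificationIdx' (maximalIdeal A) (maximalIdeal W)) :
    Algebra.IsSeparable (ResidueField A) (ResidueField V) ∧
    ∀ p : ℕ, p.Prime → CharP (ResidueField A) p →
      ¬ p ∣ Ideal.ramificationIdx' (maximalIdeal A) (maximalIdeal V) := by
  refine ⟨Algebra.isSeparable_tower_bot_of_isSeparable (ResidueField A) (ResidueField V)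
    (ResidueField W), ?_⟩
  intro p hp hchar hdvd
  have h1 := hram p hp hchar
  have h0 : Ideal.ramificationIdx' (maximalIdeal A) (maximalIdeal W) ≠ 0 := by
    intro h0; rw [h0] at h1; exact h1 (dvd_zero p)
  exact h1 (hdvd.trans (ramIdx_dvd (V := V) hπ h0))

theorem tame_trans {π : A} (hπ : maximalIdeal A = Ideal.span {π})
    (hsep1 : Algebra.IsSeparable (ResidueField A) (ResidueField V))
    (hram1 : ∀ p : ℕ, p.Prime → CharP (ResidueField A) p →
      ¬ p ∣ Ideal.ramificationIdx' (maximalIdeal A) (maximalIdeal V))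
    (hsep2 : Algebra.IsSeparable (ResidueField V) (ResidueField W))
    (hram2 : ∀ p : ℕ, p.Prime → CharP (ResidueField V) p →
      ¬ p ∣ Ideal.ramificationIdx' (maximalIdeal V) (maximalIdeal W)) :
    Algebra.IsSeparable (ResidueField A) (ResidueField W) ∧
    ∀ p : ℕ, p.Prime → CharP (ResidueField A) p →
      ¬ p ∣ Ideal.ramificationIdx' (maximalIdeal A) (maximalIdeal W) := by
  refine ⟨Algebra.IsSeparable.trans (ResidueField A) (ResidueField V) (ResidueField W), ?_⟩
  intro p hp hchar hdvd
  haveI := hchar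
  haveI : CharP (ResidueField V) p :=
    charP_of_injective_algebraMap (algebraMap (ResidueField A) (ResidueField V)).injective p
  have h1 := hram1 p hp hchar
  have h2 := hram2 p hp inferInstance
  have h10 : Ideal.ramificationIdx' (maximalIdeal A) (maximalIdeal V) ≠ 0 := by
    intro h0; rw [h0] at h1; exact h1 (dvd_zero p)
  have h20 : Ideal.ramificationIdx' (maximalIdeal V) (maximalIdeal W) ≠ 0 := by
    intro h0; rw [h0] at h2; exact h2 (dvd_zero p)
  rw [ramIdx_mul hπ h10 h20] at hdvd
  rcases (Nat.Prime.dvd_mul hp).mp hdvd with h | h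
  · exact h1 h
  · exact h2 h

omit [IsLocalHom (algebraMap A V)] [IsLocalHom (algebraMap A W)] [IsLocalHom (algebraMap V W)] in
theorem unram_bot {π : A} (hπ : maximalIdeal A = Ideal.span {π})
    (hdvd : ∀ x y : V, algebraMap V W y ∣ algebraMap V W x → y ∣ x)
    (hAV : Ideal.map (algebraMap A V) (maximalIdeal A) ≤ maximalIdeal V)
    (hVW : Ideal.map (algebraMap V W) (maximalIdeal V) ≤ maximalIdeal W)
    (h : Ideal.map (algebraMap A W) (maximalIdeal A) = maximalIdeal W) :
    Ideal.map (algebraMap A V) (maximalIdeal A) = maximalIdeal V := by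
  apply le_antisymm hAV
  intro y hy
  have h1 : algebraMap V W y ∈ maximalIdeal W := hVW (Ideal.mem_map_of_mem _ hy)
  rw [← h, map_maximalIdeal_eq_span hπ, Ideal.mem_span_singleton,
    IsScalarTower.algebraMap_apply A V W] at h1
  rw [map_maximalIdeal_eq_span hπ, Ideal.mem_span_singleton]
  exact hdvd _ _ h1

omit [IsLocalHom (algebraMap A V)] [IsLocalHom (algebraMap A W)] [IsLocalHom (algebraMap V W)] in
theorem unram_trans
    (h1 : Ideal.map (algebraMap A V) (maximalIdeal A) = maximalIdeal V)
    (h2 : Ideal.map (algebraMap V W) (maximalIdeal V) = maximalIdeal W) :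
    Ideal.map (algebraMap A W) (maximalIdeal A) = maximalIdeal W := by
  rw [← h2, ← h1, Ideal.map_map, ← IsScalarTower.algebraMap_eq]

end Abstract


section Concrete

universe u

variable {L M : Type u} [Field L] [Field M]

/-- Every valuation subring of `L` is the restriction of a valuation subring of `M`. -/
lemma exists_comap_eq (f : L →+* M) (V : ValuationSubring L) :
    ∃ W : ValuationSubring M, W.comap f = V := by
  obtain ⟨W, h, hloc⟩ := IsLocalRing.exists_factor_valuationRing (f.comp V.subtype)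
  refine ⟨W, ?_⟩
  ext x
  rw [ValuationSubring.mem_comap]
  constructor
  · intro hx
    rcases V.mem_or_inv_mem x with hxV | hxV
    · exact hxV
    · by_cases hx0 : x = 0
      · rw [hx0]; exact V.zero_mem
      have hfx0 : f x ≠ 0 := fun h0 => hx0 ((map_eq_zero f).mp h0)
      have hu : IsUnit ((f.comp V.subtype).codRestrict W.toSubring h ⟨x⁻¹, hxV⟩) := by
        rw [isUnit_iff_exists_inv]
        refine ⟨⟨f x, hx⟩, Subtype.ext ?_⟩
        change f (x⁻¹) * f x = 1
        rw [map_inv₀, inv_mul_cancel₀ hfx0]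
      have hu' := hloc.map_nonunit _ hu
      obtain ⟨z, hz⟩ := isUnit_iff_exists_inv.mp hu'
      have hz' : x⁻¹ * (z : L) = 1 := congrArg Subtype.val hz
      have : (z : L) = x := by
        have := eq_inv_of_mul_eq_one_right hz'
        rwa [inv_inv] at this
      rw [← this]; exact z.2
  · intro hx
    exact h ⟨x, hx⟩

lemma comap_nonunits (f : L →+* M) (W : ValuationSubring M) (x : L) :
    x ∈ (W.comap f).nonunits ↔ f x ∈ W.nonunits := by
  rw [ValuationSubring.mem_nonunits_iff_or, ValuationSubring.mem_nonunits_iff_or,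
    ValuationSubring.mem_comap, map_inv₀, map_eq_zero]

variable {A : Type u} [CommRing A] [IsLocalRing A]

lemma dominates_comap_iff (gL : A →+* L) (f : L →+* M) (W : ValuationSubring M) :
    EtRam.Dominates A gL (W.comap f) ↔ EtRam.Dominates A (f.comp gL) W := by
  unfold EtRam.Dominates
  simp only [← ValuationSubring.mem_nonunits_iff, comap_nonunits, ValuationSubring.mem_comap,
    RingHom.comp_apply]

lemma dominates_incl (f : L →+* M) (W : ValuationSubring M) :
    EtRam.Dominates (W.comap f) (f.comp (W.comap f).subtype) W := by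
  refine ⟨fun a => a.2, fun a ha => ?_⟩
  rw [← ValuationSubring.mem_nonunits_iff]
  rw [RingHom.comp_apply, ← comap_nonunits]
  exact ValuationSubring.coe_mem_nonunits_iff.mpr ha

end Concrete


section Main

universe u

variable {L M : Type u} [Field L] [Field M] {A : Type u} [CommRing A] [IsLocalRing A]

lemma isLocalHom_of_dominates {F : Type u} [Field F] (g : A →+* F) (V : ValuationSubring F)
    (h : EtRam.Dominates A g V) : IsLocalHom (RingHom.codRestrict g V h.1) := by
  constructor
  intro a ha
  by_contra hna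
  have hm : a ∈ maximalIdeal A := (mem_maximalIdeal a).mpr hna
  have h1 := h.2 a hm
  have h2 := (ValuationSubring.valuation_eq_one_iff V _).mp ha
  change V.valuation (g a) = 1 at h2
  rw [h2] at h1
  exact lt_irrefl _ h1

theorem tame_bot_concrete {π : A} (hπ : maximalIdeal A = Ideal.span {π}) (gL : A →+* L)
    (f : L →+* M) (hM : EtRam.IsTamelyRamified A (f.comp gL)) :
    EtRam.IsTamelyRamified A gL := by
  intro V h
  obtain ⟨W, rfl⟩ := exists_comap_eq f V
  have hW : EtRam.Dominates A (f.comp gL) W := (dominates_comap_iff gL f W).mp h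
  letI algAV : Algebra A (W.comap f) := (RingHom.codRestrict gL (W.comap f) h.1).toAlgebra
  letI algAW : Algebra A W := (RingHom.codRestrict (f.comp gL) W hW.1).toAlgebra
  letI algVW : Algebra (W.comap f) W := (EtRam.inclOfComap W f).toAlgebra
  haveI : IsScalarTower A (W.comap f) W := IsScalarTower.of_algebraMap_eq (fun x => rfl)
  haveI : IsLocalHom (algebraMap (W.comap f) W) := EtRam.isLocalHom_inclOfComap W f
  haveI : IsLocalHom (algebraMap A W) := isLocalHom_of_dominates _ _ hW
  change ∀ [IsLocalHom (algebraMap A (W.comap f))], _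
  intro hloc
  have := hM W hW
  exact tame_bot hπ this.1 this.2


lemma dvd_of_map_dvd (f : L →+* M) (W : ValuationSubring M) (x y : W.comap f)
    (h : (⟨f y, y.2⟩ : W) ∣ (⟨f x, x.2⟩ : W)) : y ∣ x := by
  obtain ⟨c, hc⟩ := h
  have hc' : f x = f y * c := congrArg Subtype.val hc
  by_cases hy : (y : L) = 0
  · have hx : (x : L) = 0 := by
      rw [hy, map_zero, zero_mul] at hc'
      exact (map_eq_zero f).mp hc'
    exact ⟨0, Subtype.ext (by simp [hx])⟩
  · have hfy : f y ≠ 0 := fun h0 => hy ((map_eq_zero f).mp h0)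
    have hcq : (c : M) = f ((x : L) / y) := by
      rw [map_div₀, hc', mul_div_cancel_left₀ _ hfy]
    refine ⟨⟨(x : L) / y, ?_⟩, Subtype.ext ?_⟩
    · rw [ValuationSubring.mem_comap, ← hcq]; exact c.2
    · change (x : L) = y * ((x : L) / y)
      rw [mul_div_cancel₀ _ hy]

theorem unram_bot_concrete {π : A} (hπ : maximalIdeal A = Ideal.span {π}) (gL : A →+* L)
    (f : L →+* M) (hM : EtRam.IsUnramifiedExt A (f.comp gL)) :
    EtRam.IsUnramifiedExt A gL := by
  intro V h
  obtain ⟨W, rfl⟩ := exists_comap_eq f V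
  have hW : EtRam.Dominates A (f.comp gL) W := (dominates_comap_iff gL f W).mp h
  letI algAV : Algebra A (W.comap f) := (RingHom.codRestrict gL (W.comap f) h.1).toAlgebra
  letI algAW : Algebra A W := (RingHom.codRestrict (f.comp gL) W hW.1).toAlgebra
  letI algVW : Algebra (W.comap f) W := (EtRam.inclOfComap W f).toAlgebra
  haveI : IsScalarTower A (W.comap f) W := IsScalarTower.of_algebraMap_eq (fun x => rfl)
  haveI hlocVW : IsLocalHom (algebraMap (W.comap f) W) := EtRam.isLocalHom_inclOfComap W f
  haveI : IsLocalHom (algebraMap A W) := isLocalHom_of_dominates _ _ hW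
  change ∀ [IsLocalHom (algebraMap A (W.comap f))], _
  intro hloc
  have hMW := hM W hW
  haveI := hMW.2
  refine ⟨unram_bot hπ (fun x y hxy => dvd_of_map_dvd f W x y hxy)
    (((local_hom_TFAE (algebraMap A (W.comap f))).out 0 2).mp hloc)
    (((local_hom_TFAE (algebraMap (W.comap f) W)).out 0 2).mp hlocVW) hMW.1,
    Algebra.isSeparable_tower_bot_of_isSeparable (ResidueField A) (ResidueField (W.comap f))
      (ResidueField W)⟩

theorem tame_trans_concrete {π : A} (hπ : maximalIdeal A = Ideal.span {π}) (gL : A →+* L)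
    (f : L →+* M) (hL : EtRam.IsTamelyRamified A gL)
    (hML : ∀ V : ValuationSubring L, EtRam.Dominates A gL V →
      EtRam.IsTamelyRamified V (f.comp V.subtype)) :
    EtRam.IsTamelyRamified A (f.comp gL) := by
  intro W hW
  have h : EtRam.Dominates A gL (W.comap f) := (dominates_comap_iff gL f W).mpr hW
  letI algAV : Algebra A (W.comap f) := (RingHom.codRestrict gL (W.comap f) h.1).toAlgebra
  letI algAW : Algebra A W := (RingHom.codRestrict (f.comp gL) W hW.1).toAlgebra
  letI algVW : Algebra (W.comap f) W :=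
    (RingHom.codRestrict (f.comp (W.comap f).subtype) W (dominates_incl f W).1).toAlgebra
  haveI : IsScalarTower A (W.comap f) W := IsScalarTower.of_algebraMap_eq (fun x => rfl)
  haveI hlocVW : IsLocalHom (algebraMap (W.comap f) W) :=
    isLocalHom_of_dominates _ _ (dominates_incl f W)
  haveI : IsLocalHom (algebraMap A (W.comap f)) := isLocalHom_of_dominates _ _ h
  change ∀ [IsLocalHom (algebraMap A W)], _
  intro hloc
  have h1 := hL (W.comap f) h
  have h2 := hML (W.comap f) h W (dominates_incl f W)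
  exact tame_trans hπ h1.1 h1.2 h2.1 h2.2

theorem unram_trans_concrete (gL : A →+* L)
    (f : L →+* M) (hL : EtRam.IsUnramifiedExt A gL)
    (hML : ∀ V : ValuationSubring L, EtRam.Dominates A gL V →
      EtRam.IsUnramifiedExt V (f.comp V.subtype)) :
    EtRam.IsUnramifiedExt A (f.comp gL) := by
  intro W hW
  have h : EtRam.Dominates A gL (W.comap f) := (dominates_comap_iff gL f W).mpr hW
  letI algAV : Algebra A (W.comap f) := (RingHom.codRestrict gL (W.comap f) h.1).toAlgebra
  letI algAW : Algebra A W := (RingHom.codRestrict (f.comp gL) W hW.1).toAlgebra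
  letI algVW : Algebra (W.comap f) W :=
    (RingHom.codRestrict (f.comp (W.comap f).subtype) W (dominates_incl f W).1).toAlgebra
  haveI : IsScalarTower A (W.comap f) W := IsScalarTower.of_algebraMap_eq (fun x => rfl)
  haveI hlocVW : IsLocalHom (algebraMap (W.comap f) W) :=
    isLocalHom_of_dominates _ _ (dominates_incl f W)
  haveI : IsLocalHom (algebraMap A (W.comap f)) := isLocalHom_of_dominates _ _ h
  change ∀ [IsLocalHom (algebraMap A W)], _
  intro hloc
  have h1 := hL (W.comap f) h
  have h2 := hML (W.comap f) h W (dominates_incl f W)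
  haveI := h1.2
  haveI := h2.2
  exact ⟨unram_trans h1.1 h2.1,
    Algebra.IsSeparable.trans (ResidueField A) (ResidueField (W.comap f)) (ResidueField W)⟩

end Main

end Groth.Agent.Lib.helper12.TameTower
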