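import Mathlib
import Groth.Prelude.Def_EtRam
import Groth.Agent.Lib.Helper12.TameTower
set_option linter.style.haveILetI false
set_option linter.unusedSectionVars false

namespace Groth.Agent.Lib.helper12.SolDown

open IsLocalRing TensorProduct
open Groth.Agent.Lib.helper12

universe u

section Gen

variable {M M' : Type u} [Field M] [Field M']

/-- A valuation subring dominated (along a field map) by another one is its restriction. -/
lemma comap_eq_of_local (f : M →+* M') (W : ValuationSubring M) (W' : ValuationSubring M')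
    (h1 : ∀ x ∈ W, f x ∈ W') (h2 : ∀ x ∈ W.nonunits, f x ∈ W'.nonunits) : W'.comap f = W := by
  ext x
  rw [ValuationSubring.mem_comap]
  refine ⟨fun hx => ?_, h1 x⟩
  by_contra hxW
  have hx0 : x ≠ 0 := fun h0 => hxW (h0 ▸ W.zero_mem)
  have h3 : x⁻¹ ∈ W.nonunits := W.inv_mem_nonunits_iff.mpr (Or.inr hxW)
  have h4 := h2 _ h3
  rw [map_inv₀, ValuationSubring.inv_mem_nonunits_iff] at h4
  rcases h4 with h4 | h4
  · exact hx0 ((map_eq_zero f).mp h4)
  · exact h4 hx

end Gen

section Nzd

variable {B W C : Type u} [CommRing B] [CommRing W] [CommRing C] [Algebra B W] [Algebra B C]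

lemma tmul_one_mem_nonZeroDivisors [IsDomain W] [Module.Flat B C] {w : W} (hw : w ≠ 0) :
    (w ⊗ₜ[B] (1 : C)) ∈ nonZeroDivisors (W ⊗[B] C) := by
  rw [mem_nonZeroDivisors_iff_right]
  intro x hx
  have hinj : Function.Injective (LinearMap.mulLeft B w) := by
    intro a b hab
    exact mul_left_cancel₀ hw hab
  have h2 := Module.Flat.rTensor_preserves_injective_linearMap (M := C) _ hinj
  have h3 : ∀ y : W ⊗[B] C, (LinearMap.mulLeft B w).rTensor C y = y * (w ⊗ₜ[B] (1 : C)) := by
    intro y
    induction y using TensorProduct.induction_on with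
    | zero => simp
    | tmul a c =>
      simp only [LinearMap.rTensor_tmul, LinearMap.mulLeft_apply,
        Algebra.TensorProduct.tmul_mul_tmul, mul_one]
      rw [mul_comm]
    | add a b ha hb => rw [map_add, ha, hb, add_mul]
  apply h2
  rw [h3, hx, map_zero]

lemma one_tmul_mem_nonZeroDivisors [IsDomain C] [Module.Flat B W] {c : C} (hc : c ≠ 0) :
    ((1 : W) ⊗ₜ[B] c) ∈ nonZeroDivisors (W ⊗[B] C) := by
  rw [mem_nonZeroDivisors_iff_right]
  intro x hx
  have hinj : Function.Injective (LinearMap.mulLeft B c) := by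
    intro a b hab
    exact mul_left_cancel₀ hc hab
  have h2 := Module.Flat.lTensor_preserves_injective_linearMap (M := W) _ hinj
  have h3 : ∀ y : W ⊗[B] C, (LinearMap.mulLeft B c).lTensor W y = y * ((1 : W) ⊗ₜ[B] c) := by
    intro y
    induction y using TensorProduct.induction_on with
    | zero => simp
    | tmul a c' =>
      simp only [LinearMap.lTensor_tmul, LinearMap.mulLeft_apply,
        Algebra.TensorProduct.tmul_mul_tmul, mul_one]
      rw [mul_comm]
    | add a b ha hb => rw [map_add, ha, hb, add_mul]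
  apply h2
  rw [h3, hx, map_zero]

end Nzd


section Compositum

variable {B C : Type u} [CommRing B] [IsDomain B] [IsDiscreteValuationRing B]
  [CommRing C] [IsDomain C] [IsDiscreteValuationRing C] [Algebra B C]
  [IsLocalHom (algebraMap B C)]

/-- Abstract form: a local domain `Wt` over `B` and the discrete valuation ring `C` over `B` are
simultaneously dominated by a valuation ring of a common overfield generated by them. -/
theorem exists_common_valuationSubring (hinj : Function.Injective (algebraMap B C))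
    (Wt : Type u) [CommRing Wt] [IsDomain Wt] [IsLocalRing Wt] [Algebra B Wt]
    (hinjBW : Function.Injective (algebraMap B Wt))
    (hBW : ∀ b ∈ maximalIdeal B, algebraMap B Wt b ∈ maximalIdeal Wt) :
    ∃ (M' : Type u) (_ : Field M') (ψW : Wt →+* M') (ψC : C →+* M') (W' : ValuationSubring M'),
      Function.Injective ψW ∧ Function.Injective ψC ∧
      ψW.comp (algebraMap B Wt) = ψC.comp (algebraMap B C) ∧
      (∀ w, ψW w ∈ W') ∧ (∀ w ∈ maximalIdeal Wt, ψW w ∈ W'.nonunits) ∧
      (∀ c, ψC c ∈ W') ∧ (∀ c ∈ maximalIdeal C, ψC c ∈ W'.nonunits) ∧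
      ∀ E : Subfield M', (∀ x, ψW x ∈ E) → (∀ x, ψC x ∈ E) → E = ⊤ := by
  classical
  haveI : Module.IsTorsionFree B Wt := (Module.isTorsionFree_iff_algebraMap_injective).mpr hinjBW
  haveI : Module.IsTorsionFree B C := (Module.isTorsionFree_iff_algebraMap_injective).mpr hinj
  haveI : Module.Flat B Wt := inferInstance
  haveI : Module.Flat B C := inferInstance
  haveI : Module.FaithfullyFlat B C := Module.FaithfullyFlat.of_flat_of_isLocalHom
  -- the prime `Q` over the maximal ideal of `Wt`
  obtain ⟨Q, hQp, hQl⟩ := Ideal.exists_isPrime_liesOver_of_faithfullyFlat (B := Wt ⊗[B] C)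
    (maximalIdeal Wt)
  have hQW : ∀ w : Wt, w ∈ maximalIdeal Wt ↔ (w ⊗ₜ[B] (1 : C)) ∈ Q := by
    intro w
    have := hQl.over
    rw [this]
    rfl
  -- `Q` lies over the maximal ideal of `C`
  obtain ⟨π, hπm, hπ0⟩ := Submodule.exists_mem_ne_zero_of_ne_bot
    (IsDiscreteValuationRing.not_a_field B)
  have hπW : algebraMap B Wt π ∈ maximalIdeal Wt := hBW π hπm
  have hπQ : ((1 : Wt) ⊗ₜ[B] (algebraMap B C π)) ∈ Q := by
    have h1 := (hQW _).mp hπW
    have h2 : (algebraMap B Wt π) ⊗ₜ[B] (1 : C) = (1 : Wt) ⊗ₜ[B] (algebraMap B C π) := by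
      rw [Algebra.algebraMap_eq_smul_one, Algebra.algebraMap_eq_smul_one, TensorProduct.smul_tmul]
    rwa [h2] at h1
  have hQC : ∀ c : C, c ∈ maximalIdeal C → ((1 : Wt) ⊗ₜ[B] c) ∈ Q := by
    set QC : Ideal C := Q.comap (Algebra.TensorProduct.includeRight : C →ₐ[B] Wt ⊗[B] C)
      with hQCdef
    haveI : QC.IsPrime := Ideal.comap_isPrime _ Q
    have hne : QC ≠ ⊥ := by
      intro hbot
      have : algebraMap B C π ∈ QC := hπQ
      rw [hbot, Ideal.mem_bot] at this
      exact hπ0 (hinj (this.trans (map_zero _).symm))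
    have hmax : QC.IsMaximal := Ring.DimensionLEOne.maximalOfPrime hne inferInstance
    have heq : QC = maximalIdeal C := IsLocalRing.eq_maximalIdeal hmax
    intro c hc
    rw [← heq] at hc
    exact hc
  -- a minimal prime below `Q`
  obtain ⟨q₀, hq₀min, hq₀Q⟩ := Ideal.exists_minimalPrimes_le (I := ⊥) (J := Q) bot_le
  haveI hq₀p : q₀.IsPrime := hq₀min.1.1
  have hdisj := Ideal.disjoint_nonZeroDivisors_of_mem_minimalPrimes (p := q₀) hq₀min
  have hnzd : ∀ x ∈ nonZeroDivisors (Wt ⊗[B] C), x ∉ q₀ := fun x hx hxq =>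
    Set.disjoint_left.mp hdisj hxq hx
  -- the field
  let M' := FractionRing ((Wt ⊗[B] C) ⧸ q₀)
  let ψ : (Wt ⊗[B] C) →+* M' :=
    (algebraMap ((Wt ⊗[B] C) ⧸ q₀) (FractionRing ((Wt ⊗[B] C) ⧸ q₀))).comp (Ideal.Quotient.mk q₀)
  have hψker : ∀ x, ψ x = 0 ↔ x ∈ q₀ := by
    intro x
    change algebraMap ((Wt ⊗[B] C) ⧸ q₀) (FractionRing ((Wt ⊗[B] C) ⧸ q₀))
      (Ideal.Quotient.mk q₀ x) = 0 ↔ _
    rw [map_eq_zero_iff _ (IsFractionRing.injective ((Wt ⊗[B] C) ⧸ q₀)
      (FractionRing ((Wt ⊗[B] C) ⧸ q₀))), Ideal.Quotient.eq_zero_iff_mem]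
  let ψW : Wt →+* M' := ψ.comp (Algebra.TensorProduct.includeLeftRingHom)
  let ψC : C →+* M' := ψ.comp (Algebra.TensorProduct.includeRight : C →ₐ[B] Wt ⊗[B] C).toRingHom
  have hψW : Function.Injective ψW := by
    rw [injective_iff_map_eq_zero]
    intro w hw
    by_contra hw0
    exact hnzd _ (tmul_one_mem_nonZeroDivisors hw0) ((hψker _).mp hw)
  have hψC : Function.Injective ψC := by
    rw [injective_iff_map_eq_zero]
    intro c hc
    by_contra hc0
    exact hnzd _ (one_tmul_mem_nonZeroDivisors hc0) ((hψker _).mp hc)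
  -- the valuation ring
  have hunit : ∀ y : Q.primeCompl, IsUnit (ψ y) := by
    intro y
    rw [isUnit_iff_ne_zero, Ne, hψker]
    exact fun hy => y.2 (hq₀Q hy)
  let f : Localization.AtPrime Q →+* M' := IsLocalization.lift hunit
  have hf : ∀ r, f (algebraMap _ (Localization.AtPrime Q) r) = ψ r := fun r =>
    IsLocalization.lift_eq hunit r
  obtain ⟨W', hW'mem, hW'loc⟩ := IsLocalRing.exists_factor_valuationRing f
  have hψW' : ∀ r, ψ r ∈ W' := fun r => hf r ▸ hW'mem _
  have hψQ : ∀ r ∈ Q, ψ r ∈ W'.nonunits := by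
    intro r hr
    have h1 : algebraMap _ (Localization.AtPrime Q) r ∈ maximalIdeal (Localization.AtPrime Q) :=
      (IsLocalization.AtPrime.to_map_mem_maximal_iff (Localization.AtPrime Q) Q r).mpr hr
    have h2 : ¬ IsUnit (⟨f (algebraMap _ (Localization.AtPrime Q) r), hW'mem _⟩ : W') := by
      intro hu
      exact (mem_maximalIdeal _).mp h1 (hW'loc.map_nonunit _ hu)
    have h3 : (⟨f (algebraMap _ (Localization.AtPrime Q) r), hW'mem _⟩ : W')
        ∈ maximalIdeal W' := (mem_maximalIdeal _).mpr h2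
    rw [ValuationSubring.valuation_lt_one_iff] at h3
    rw [ValuationSubring.mem_nonunits_iff, ← hf r]
    exact h3
  refine ⟨M', inferInstance, ψW, ψC, W', hψW, hψC, ?_, fun w => hψW' _,
    fun w hw => hψQ _ ((hQW w).mp hw), fun c => hψW' _, fun c hc => hψQ _ (hQC c hc), ?_⟩
  · -- compatibility
    ext b
    change ψ ((algebraMap B Wt b) ⊗ₜ[B] (1 : C)) = ψ ((1 : Wt) ⊗ₜ[B] (algebraMap B C b))
    rw [Algebra.algebraMap_eq_smul_one, Algebra.algebraMap_eq_smul_one, TensorProduct.smul_tmul]
  · intro E hE1 hE2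
    rw [eq_top_iff]
    intro z _
    have hψE : ∀ r, ψ r ∈ E := by
      intro r
      induction r using TensorProduct.induction_on with
      | zero => rw [map_zero]; exact E.zero_mem
      | tmul w c =>
        have h1 : w ⊗ₜ[B] c = (w ⊗ₜ[B] (1 : C)) * ((1 : Wt) ⊗ₜ[B] c) := by
          rw [Algebra.TensorProduct.tmul_mul_tmul, mul_one, one_mul]
        rw [h1, map_mul]
        exact E.mul_mem (hE1 w) (hE2 c)
      | add a b ha hb => rw [map_add]; exact E.add_mem ha hb
    obtain ⟨a, b, _, rfl⟩ := IsFractionRing.div_surjective (A := (Wt ⊗[B] C) ⧸ q₀) z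
    obtain ⟨ra, rfl⟩ := Ideal.Quotient.mk_surjective a
    obtain ⟨rb, rfl⟩ := Ideal.Quotient.mk_surjective b
    exact E.div_mem (hψE ra) (hψE rb)

end Compositum


section Compositum2

variable {B C : Type u} [CommRing B] [IsDomain B] [IsDiscreteValuationRing B]
  [CommRing C] [IsDomain C] [IsDiscreteValuationRing C] [Algebra B C]
  [IsLocalHom (algebraMap B C)]
  {L M₀ M : Type u} [Field L] [Field M₀] [Field M] [Algebra B L] [IsFractionRing B L]
  [Algebra C M₀] [IsFractionRing C M₀]

theorem exists_compositum (hinj : Function.Injective (algebraMap B C)) (jL : L →+* M₀)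
    (hjL : jL.comp (algebraMap B L) = (algebraMap C M₀).comp (algebraMap B C))
    (gM : L →+* M) (W : ValuationSubring M)
    (hW : EtRam.Dominates B (gM.comp (algebraMap B L)) W) :
    ∃ (M' : Type u) (_ : Field M') (iM : M →+* M') (i₀ : M₀ →+* M') (W' : ValuationSubring M'),
      iM.comp gM = i₀.comp jL ∧ W'.comap iM = W ∧
      EtRam.Dominates C (i₀.comp (algebraMap C M₀)) W' ∧
      ∀ E : Subfield M', (∀ x, iM x ∈ E) → (∀ x, i₀ x ∈ E) → E = ⊤ := by
  classical
  letI algBW : Algebra B W := (RingHom.codRestrict (gM.comp (algebraMap B L)) W hW.1).toAlgebra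
  have hinjBW : Function.Injective (algebraMap B W) := by
    intro x y hxy
    have h1 : gM (algebraMap B L x) = gM (algebraMap B L y) := congrArg Subtype.val hxy
    exact IsFractionRing.injective B L (gM.injective h1)
  have hBW : ∀ b ∈ maximalIdeal B, algebraMap B W b ∈ maximalIdeal W := by
    intro b hb
    rw [ValuationSubring.valuation_lt_one_iff]
    exact hW.2 b hb
  obtain ⟨M', instM', ψW, ψC, W', hψW, hψC, hcomp, h1, h2, h3, h4, hgen⟩ :=
    exists_common_valuationSubring hinj W hinjBW hBW
  let iM : M →+* M' := IsFractionRing.lift hψW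
  let i₀ : M₀ →+* M' := IsFractionRing.lift hψC
  have hiM : ∀ w : W, iM (w : M) = ψW w := fun w => IsFractionRing.lift_algebraMap hψW w
  have hi₀ : ∀ c : C, i₀ (algebraMap C M₀ c) = ψC c := fun c =>
    IsFractionRing.lift_algebraMap hψC c
  refine ⟨M', instM', iM, i₀, W', ?_, ?_, ?_, ?_⟩
  · apply IsLocalization.ringHom_ext (nonZeroDivisors B)
    ext b
    simp only [RingHom.comp_apply]
    have e1 : gM (algebraMap B L b) = ((algebraMap B W b : W) : M) := rfl
    have e2 : jL (algebraMap B L b) = algebraMap C M₀ (algebraMap B C b) := by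
      have := congrArg (fun φ => φ b) hjL
      simpa using this
    rw [e1, hiM, e2, hi₀]
    exact congrArg (fun φ => φ b) hcomp
  · apply comap_eq_of_local
    · intro x hx
      have := hiM ⟨x, hx⟩
      rw [show ((⟨x, hx⟩ : W) : M) = x from rfl] at this
      rw [this]
      exact h1 _
    · intro x hx
      have hxW : x ∈ W := ValuationSubring.nonunits_subset hx
      have hm : (⟨x, hxW⟩ : W) ∈ maximalIdeal W :=
        ValuationSubring.coe_mem_nonunits_iff.mp hx
      have := hiM ⟨x, hxW⟩
      rw [show ((⟨x, hxW⟩ : W) : M) = x from rfl] at this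
      rw [this]
      exact h2 _ hm
  · refine ⟨fun c => ?_, fun c hc => ?_⟩
    · rw [RingHom.comp_apply, hi₀]
      exact h3 _
    · rw [RingHom.comp_apply, hi₀, ← ValuationSubring.mem_nonunits_iff]
      exact h4 _ hc
  · intro E hE1 hE2
    apply hgen E
    · intro w
      rw [← hiM]
      exact hE1 _
    · intro c
      rw [← hi₀]
      exact hE2 _

end Compositum2


section Descent

lemma exists_dvd_of_mem_map {V S : Type*} [CommRing V] [IsDomain V] [ValuationRing V] [CommRing S]
    (φ : V →+* S) (I : Ideal V) {y : S} (hy : y ∈ I.map φ) : ∃ a ∈ I, φ a ∣ y := by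
  induction hy using Submodule.span_induction with
  | mem y hy =>
    obtain ⟨a, ha, rfl⟩ := hy
    exact ⟨a, ha, dvd_rfl⟩
  | zero => exact ⟨0, I.zero_mem, by simp⟩
  | add y₁ y₂ _ _ h₁ h₂ =>
    obtain ⟨a₁, ha₁, hd₁⟩ := h₁
    obtain ⟨a₂, ha₂, hd₂⟩ := h₂
    rcases ValuationRing.dvd_total a₁ a₂ with h | h
    · exact ⟨a₁, ha₁, dvd_add hd₁ ((map_dvd φ h).trans hd₂)⟩
    · exact ⟨a₂, ha₂, dvd_add ((map_dvd φ h).trans hd₁) hd₂⟩
  | smul s y _ h =>
    obtain ⟨a, ha, hd⟩ := h
    exact ⟨a, ha, Dvd.dvd.mul_left hd s⟩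

variable {K₁ M M' : Type u} [Field K₁] [Field M] [Field M']

/-- Weak unramifiedness of `W' ∩ K₁ → W'` descends to `W ∩ K₁ → W` for `W = W' ∩ M`. -/
theorem weaklyUnramified_descent (f : K₁ →+* M) (g : M →+* M') (W' : ValuationSubring M')
    (h : letI : Algebra (W'.comap (g.comp f)) W' := (EtRam.inclOfComap W' (g.comp f)).toAlgebra
      EtRam.IsWeaklyUnramified (W'.comap (g.comp f)) W') :
    letI : Algebra ((W'.comap g).comap f) (W'.comap g) :=
      (EtRam.inclOfComap (W'.comap g) f).toAlgebra
    EtRam.IsWeaklyUnramified ((W'.comap g).comap f) (W'.comap g) := by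
  have h' : (maximalIdeal (W'.comap (g.comp f))).map (EtRam.inclOfComap W' (g.comp f)) =
      maximalIdeal W' := h
  change (maximalIdeal ((W'.comap g).comap f)).map (EtRam.inclOfComap (W'.comap g) f) =
      maximalIdeal (W'.comap g)
  apply le_antisymm
  · exact ((local_hom_TFAE (EtRam.inclOfComap (W'.comap g) f)).out 0 2).mp
      (EtRam.isLocalHom_inclOfComap (W'.comap g) f)
  · intro x hx
    have hle : (maximalIdeal (W'.comap g)).map (EtRam.inclOfComap W' g) ≤ maximalIdeal W' :=
      ((local_hom_TFAE (EtRam.inclOfComap W' g)).out 0 2).mp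
        (EtRam.isLocalHom_inclOfComap W' g)
    have hy : EtRam.inclOfComap W' g x ∈ maximalIdeal W' := hle (Ideal.mem_map_of_mem _ hx)
    rw [← h'] at hy
    obtain ⟨a, ha, c, hc⟩ := exists_dvd_of_mem_map _ _ hy
    have hc' : g (x : M) = g (f (a : K₁)) * (c : M') := congrArg Subtype.val hc
    by_cases ha0 : (a : K₁) = 0
    · have hx0 : (x : M) = 0 := by
        rw [ha0, map_zero, map_zero, zero_mul] at hc'
        exact (map_eq_zero g).mp hc'
      have : x = 0 := Subtype.ext hx0
      rw [this]
      exact Ideal.zero_mem _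
    · have hfa : f (a : K₁) ≠ 0 := fun h0 => ha0 ((map_eq_zero f).mp h0)
      have hgfa : g (f (a : K₁)) ≠ 0 := fun h0 => hfa ((map_eq_zero g).mp h0)
      have hcq : (c : M') = g ((x : M) / f (a : K₁)) := by
        rw [map_div₀, hc', mul_div_cancel_left₀ _ hgfa]
      have hmem : (x : M) / f (a : K₁) ∈ W'.comap g := by
        rw [ValuationSubring.mem_comap, ← hcq]; exact c.2
      have hx_eq : x = EtRam.inclOfComap (W'.comap g) f a * ⟨(x : M) / f (a : K₁), hmem⟩ := by
        apply Subtype.ext
        change (x : M) = f (a : K₁) * ((x : M) / f (a : K₁))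
        rw [mul_div_cancel₀ _ hfa]
      rw [hx_eq]
      exact Ideal.mul_mem_right _ _ (Ideal.mem_map_of_mem _ ha)

/-- Geometric reducedness of the residue field extension descends as well. -/
theorem geomReduced_descent (f : K₁ →+* M) (g : M →+* M') (W' : ValuationSubring M')
    (h : @Algebra.IsGeometricallyReduced (ResidueField (W'.comap (g.comp f))) (ResidueField W') _ _
      (ResidueField.map (EtRam.inclOfComap W' (g.comp f))).toAlgebra) :
    @Algebra.IsGeometricallyReduced (ResidueField ((W'.comap g).comap f))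
      (ResidueField (W'.comap g)) _ _
      (ResidueField.map (EtRam.inclOfComap (W'.comap g) f)).toAlgebra := by
  letI a1 : Algebra (ResidueField ((W'.comap g).comap f)) (ResidueField W') :=
    (ResidueField.map (EtRam.inclOfComap W' (g.comp f))).toAlgebra
  letI a2 : Algebra (ResidueField ((W'.comap g).comap f)) (ResidueField (W'.comap g)) :=
    (ResidueField.map (EtRam.inclOfComap (W'.comap g) f)).toAlgebra
  haveI h2 : Algebra.IsGeometricallyReduced (ResidueField ((W'.comap g).comap f))
    (ResidueField W') := h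
  let φ : ResidueField (W'.comap g) →ₐ[ResidueField ((W'.comap g).comap f)] ResidueField W' :=
    { ResidueField.map (EtRam.inclOfComap W' g) with
      commutes' := by
        intro x
        obtain ⟨x, rfl⟩ := residue_surjective x
        rfl }
  exact Algebra.IsGeometricallyReduced.of_injective φ (RingHom.injective _)

end Descent


section Main

variable (B C K L M₀ K₁ : Type u) [CommRing B] [IsDomain B] [IsDiscreteValuationRing B]
  [CommRing C] [IsDomain C] [IsDiscreteValuationRing C] [Algebra B C]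
  [IsLocalHom (algebraMap B C)]
  [Field K] [Field L] [Field M₀] [Field K₁] [Algebra K L] [Algebra K M₀] [Algebra L M₀]
  [IsScalarTower K L M₀] [Algebra K K₁] [Algebra.IsAlgebraic K K₁]
  [Algebra B L] [IsFractionRing B L] [Algebra C M₀] [IsFractionRing C M₀] [Algebra B M₀]
  [IsScalarTower B C M₀] [IsScalarTower B L M₀]

theorem forallLocalExt_down (hinj : Function.Injective (algebraMap B C))
    (P : ∀ (M : Type u) [Field M], ValuationSubring M → (K₁ →+* M) → Prop)
    (hP : ∀ (M M' : Type u) [Field M] [Field M'] (f : K₁ →+* M) (g : M →+* M')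
      (W' : ValuationSubring M'), P M' W' (g.comp f) → P M (W'.comap g) f)
    (h : EtRam.ForallLocalExt C K M₀ K₁ P) : EtRam.ForallLocalExt B K L K₁ P := by
  intro M _ _ _ _ _ _ hadj W hW
  have hjL : (algebraMap L M₀).comp (algebraMap B L) = (algebraMap C M₀).comp (algebraMap B C) := by
    rw [← IsScalarTower.algebraMap_eq B L M₀, ← IsScalarTower.algebraMap_eq B C M₀]
  obtain ⟨M', instM', iM, i₀, W', hcomp, hWeq, hdom, hgen⟩ :=
    exists_compositum hinj (algebraMap L M₀) hjL (algebraMap L M) W hW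
  letI : Algebra M₀ M' := i₀.toAlgebra
  letI : Algebra K M' := (i₀.comp (algebraMap K M₀)).toAlgebra
  letI : Algebra K₁ M' := (iM.comp (algebraMap K₁ M)).toAlgebra
  haveI : IsScalarTower K M₀ M' := IsScalarTower.of_algebraMap_eq (fun x => rfl)
  have hcomp' : ∀ l : L, iM (algebraMap L M l) = i₀ (algebraMap L M₀ l) := fun l =>
    congrArg (fun φ => φ l) hcomp
  haveI : IsScalarTower K K₁ M' := IsScalarTower.of_algebraMap_eq (fun x => by
    change i₀ (algebraMap K M₀ x) = iM (algebraMap K₁ M (algebraMap K K₁ x))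
    rw [← IsScalarTower.algebraMap_apply K K₁ M, IsScalarTower.algebraMap_apply K L M, hcomp',
      ← IsScalarTower.algebraMap_apply K L M₀])
  have hadj' : Algebra.adjoin M₀ (Set.range (algebraMap K₁ M')) = ⊤ := by
    set E := Algebra.adjoin M₀ (Set.range (algebraMap K₁ M')) with hE
    have hint : ∀ x ∈ Set.range (algebraMap K₁ M'), IsIntegral M₀ x := by
      rintro _ ⟨y, rfl⟩
      have h1 : IsIntegral K y := (Algebra.IsAlgebraic.isAlgebraic y).isIntegral
      have h2 : IsIntegral K (algebraMap K₁ M' y) := h1.map (IsScalarTower.toAlgHom K K₁ M')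
      exact h2.tower_top
    haveI : Algebra.IsIntegral M₀ E := Algebra.IsIntegral.adjoin hint
    have hfield : IsField E := isField_of_isIntegral_of_isField' (Field.toIsField M₀)
    have hiM : ∀ m : M, iM m ∈ E := by
      intro m
      have hm : m ∈ Algebra.adjoin L (Set.range (algebraMap K₁ M)) := by rw [hadj]; trivial
      induction hm using Algebra.adjoin_induction with
      | mem x hx =>
        obtain ⟨y, rfl⟩ := hx
        exact Algebra.subset_adjoin ⟨y, rfl⟩
      | algebraMap l =>
        rw [hcomp']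
        exact E.algebraMap_mem _
      | add x y _ _ hx hy => rw [map_add]; exact E.add_mem hx hy
      | mul x y _ _ hx hy => rw [map_mul]; exact E.mul_mem hx hy
    have hi₀ : ∀ x : M₀, i₀ x ∈ E := fun x => E.algebraMap_mem x
    have htop := hgen (Subalgebra.toIntermediateField' E hfield).toSubfield hiM hi₀
    rw [eq_top_iff]
    intro z _
    have : z ∈ (Subalgebra.toIntermediateField' E hfield).toSubfield := by rw [htop]; trivial
    exact this
  have hfin := h M' hadj' W' hdom
  subst hWeq
  exact hP M M' (algebraMap K₁ M) iM W' hfin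

end Main

end Groth.Agent.Lib.helper12.SolDown
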