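import Groth.Agent.Lib.Helper11.TensorEpi
import Groth.Agent.Lib.Helper11.InvHom
import Groth.Agent.Lib.Helper12.PullTensor
import Groth.Agent.Lib.Helper12.AmpleBasis

/-!
# A module with a tensor inverse is invertible (helper12)

* `braid_tmul`: section formula for the lead's `ModTensor.braid`.
* `hom_ext_val`: morphisms `O ⟶ M` are determined by the sections they name.
* `nonempty_iso_of_tmulHom_isIso`: if `e : L ⊗ N ≅ O` and global sections `s`, `t` of `L`, `N`
  with `e (s ⊗ t)` invertible, then `L ≅ O`.
* `isInvertible_of_tensor_iso`: if `L ⊗ N ≅ O` then `L` is invertible.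
-/

set_option autoImplicit false
universe u

open CategoryTheory CategoryTheory.Limits AlgebraicGeometry Opposite TopologicalSpace MonoidalCategory

namespace Groth.Agent.Lib.helper12.TensorInvLocal

open Groth.Agent.Lib.helper12.TwistExtend Groth.Agent.Lib.helper11.IsoLocus
open Groth.Agent.Lib.helper12.TensorRestrict Groth.Agent.Lib.helper12.TensorSec
open Groth.Agent.Lib.helper12.PullTensor
open Groth.Agent.Lib.Lead.ModTensor

variable {X : Scheme.{u}}

/-- Section formula for the symmetry isomorphism. -/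
theorem braid_tmul (A B : X.Modules) (U : X.Opens) (a : A.val.obj (op U)) (b : B.val.obj (op U)) :
    ((braid A B).hom.val.app (op U)).hom (SecTwist.tmul A B U a b) = SecTwist.tmul B A U b a := by
  rw [tmul_eq]
  unfold braid
  erw [sheafifyMap_toSheafify_apply]
  rfl

theorem res_self' (G : X.Modules) {V : X.Opens} (h : V ≤ V) (x : G.val.obj (op V)) :
    res G h x = x := by
  unfold res
  have : (homOfLE h).op = 𝟙 (op V) := rfl
  rw [this, G.val.map_id]
  rfl

/-- Morphisms `O ⟶ M` are determined by the sections they name. -/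
theorem hom_ext_val {M : X.Modules} {a b : Coh.structureModule X ⟶ M}
    (H : ∀ U : X.Opens, SecTwist.val a U = SecTwist.val b U) : a = b := by
  apply M.unitHomEquiv.injective
  apply Subtype.ext
  funext U
  exact H U.unop

/-- The map `L ⟶ O`, `l ↦ e (l ⊗ t)`. -/
noncomputable def pairHom {L N : X.Modules} (e : CohB1.tensorMod L N ≅ Coh.structureModule X)
    (t : Coh.structureModule X ⟶ N) : L ⟶ Coh.structureModule X :=
  (SecTwist.unitorR L).inv ≫ tensorMap (𝟙 L) t ≫ e.hom

theorem pairHom_apply {L N : X.Modules} (e : CohB1.tensorMod L N ≅ Coh.structureModule X)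
    (t : Coh.structureModule X ⟶ N) (U : X.Opens) (l : L.val.obj (op U)) :
    ((pairHom e t).val.app (op U)).hom l =
      (e.hom.val.app (op U)).hom (SecTwist.tmul L N U l (SecTwist.val t U)) := by
  unfold pairHom
  change (e.hom.val.app (op U)).hom (((tensorMap (𝟙 L) t).val.app (op U)).hom
    (((SecTwist.unitorR L).inv.val.app (op U)).hom l)) = _
  rw [unitorR_inv_apply]
  refine (congrArg _ (tensorMap_tmul (𝟙 L) t U l _)).trans ?_
  rfl

theorem comp_pairHom {L N : X.Modules} (e : CohB1.tensorMod L N ≅ Coh.structureModule X)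
    (s : Coh.structureModule X ⟶ L) (t : Coh.structureModule X ⟶ N) :
    s ≫ pairHom e t = SecTwist.tmulHom s t ≫ e.hom := by
  apply hom_ext_val
  intro U
  rw [val_comp, val_comp, pairHom_apply, SecTwist.val_tmulHom]

/-- **Key lemma**: if `e : L ⊗ N ≅ O` and `s`, `t` are global sections of `L`, `N` such that
`e (s ⊗ t)` is invertible, then `L ≅ O`. -/
theorem isIso_pairHom {L N : X.Modules} (e : CohB1.tensorMod L N ≅ Coh.structureModule X)
    (s : Coh.structureModule X ⟶ L) (t : Coh.structureModule X ⟶ N)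
    [hυ : IsIso (SecTwist.tmulHom s t ≫ e.hom)] : IsIso (pairHom e t) := by
  set υ := SecTwist.tmulHom s t ≫ e.hom with hυdef
  -- the symmetric pairing
  let e' : CohB1.tensorMod N L ≅ Coh.structureModule X := braid N L ≪≫ e
  have h1 : s ≫ pairHom e t = υ := comp_pairHom e s t
  have h2 : t ≫ pairHom e' s = υ := by
    rw [comp_pairHom]
    apply hom_ext_val
    intro U
    rw [val_comp, val_comp, SecTwist.val_tmulHom, SecTwist.val_tmulHom]
    change (e.hom.val.app (op U)).hom (((braid N L).hom.val.app (op U)).hom _) = _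
    rw [braid_tmul]
  -- `tensorMap (𝟙 L) t` is a split monomorphism
  have h3 : tensorMap (𝟙 L) t ≫ tensorMap (𝟙 L) (pairHom e' s) = tensorMap (𝟙 L) υ := by
    rw [← tensorMap_comp, Category.comp_id, h2]
  have : IsIso (tensorMap (𝟙 L) υ) := isIso_tensorMap _ _
  have : Mono (tensorMap (𝟙 L) t) := by
    have : Mono (tensorMap (𝟙 L) t ≫ tensorMap (𝟙 L) (pairHom e' s)) := by
      rw [h3]; infer_instance
    exact mono_of_mono _ (tensorMap (𝟙 L) (pairHom e' s))
  have : Mono (pairHom e t) := by
    unfold pairHom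
    infer_instance
  have : IsSplitEpi (pairHom e t) :=
    ⟨⟨{ section_ := inv υ ≫ s
        id := by rw [Category.assoc, h1, IsIso.inv_hom_id] }⟩⟩
  exact isIso_of_mono_of_isSplitEpi _

open Groth.Agent.Lib.helper11.TensorEpi Groth.Agent.Lib.helper12.AmpleBasis in
/-- Local step: near every point some pure tensor `l ⊗ n` is sent by `e` to a function invertible
at the point. -/
theorem exists_tmul_mem_basicOpen {L N : X.Modules}
    (e : CohB1.tensorMod L N ≅ Coh.structureModule X) (y : X) :
    ∃ (W : X.Opens) (l : L.val.obj (op W)) (n : N.val.obj (op W)),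
      y ∈ X.basicOpen (show Γ(X, W) from (e.hom.val.app (op W)).hom (SecTwist.tmul L N W l n)) := by
  by_contra hcon
  push Not at hcon
  let σ : (CohB1.tensorMod L N).val.obj (op ⊤) :=
    (e.inv.val.app (op ⊤)).hom ((1 : Γ(X, ⊤)) : (Coh.structureModule X).val.obj (op ⊤))
  obtain ⟨W, hW, hyW, hmem⟩ := exists_local_mem_tspan L N ⊤ σ y trivial
  have key : ∀ z ∈ tspan L N W,
      y ∉ X.basicOpen (show Γ(X, W) from (e.hom.val.app (op W)).hom z) := by
    intro z hz
    unfold tspan at hz
    induction hz using Submodule.span_induction with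
    | mem z hz =>
      obtain ⟨l, n, rfl⟩ := hz
      exact hcon W l n
    | zero =>
      have h0 : (e.hom.val.app (op W)).hom 0 = 0 := map_zero _
      rw [h0]
      erw [Scheme.basicOpen_zero]
      exact fun h => h
    | add a b _ _ ha hb =>
      have h0 : (e.hom.val.app (op W)).hom (a + b) =
        (e.hom.val.app (op W)).hom a + (e.hom.val.app (op W)).hom b := map_add _ _ _
      rw [h0]
      intro h
      have h1 := Scheme.basicOpen_add_le (X := X) (U := W)
        (show Γ(X, W) from (e.hom.val.app (op W)).hom a)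
        (show Γ(X, W) from (e.hom.val.app (op W)).hom b) h
      rcases h1 with h1 | h1
      · exact ha h1
      · exact hb h1
    | smul r a _ ha =>
      have h0 : (e.hom.val.app (op W)).hom (r • a) = r • (e.hom.val.app (op W)).hom a :=
        map_smul _ _ _
      rw [h0]
      intro h
      have h1 : y ∈ X.basicOpen ((show Γ(X, W) from r) *
          (show Γ(X, W) from (e.hom.val.app (op W)).hom a)) := h
      rw [Scheme.basicOpen_mul] at h1
      exact ha h1.2
  have h1 := key _ hmem
  apply h1
  have h2 : (e.hom.val.app (op W)).hom (res (CohB1.tensorMod L N) hW σ) =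
      res (Coh.structureModule X) hW ((e.hom.val.app (op ⊤)).hom σ) := (res_app e.hom hW σ).symm
  have h3 : (e.hom.val.app (op ⊤)).hom σ =
      ((1 : Γ(X, ⊤)) : (Coh.structureModule X).val.obj (op ⊤)) := iso_hom_inv_apply e ⊤ _
  have h4 : res (Coh.structureModule X) hW
      ((1 : Γ(X, ⊤)) : (Coh.structureModule X).val.obj (op ⊤)) =
      ((1 : Γ(X, W)) : (Coh.structureModule X).val.obj (op W)) :=
    PresheafOfModules.unit_map_one _ _
  rw [h2, h3, h4]
  erw [Scheme.basicOpen_one]
  exact hyW

open Groth.Agent.Lib.helper12.AmpleBasis Groth.Agent.Lib.helper11.InvHom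
  Groth.Agent.Lib.helper11.GenLocus in
/-- **A module with a tensor inverse is invertible**: if `L ⊗ N ≅ O_X` then `L` is locally
isomorphic to `O_X`. -/
theorem isInvertible_of_tensor_iso (L N : X.Modules)
    (e : CohB1.tensorMod L N ≅ Coh.structureModule X) : PicF.IsInvertible L := by
  intro y
  obtain ⟨W, l, n, hy⟩ := exists_tmul_mem_basicOpen e y
  set u : Γ(X, W) := (e.hom.val.app (op W)).hom (SecTwist.tmul L N W l n) with hu
  let U : X.Opens := X.basicOpen u
  refine ⟨U, hy, ?_⟩
  have hUW : U ≤ W := X.basicOpen_le u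
  have himg : U.ι ''ᵁ ⊤ = U := U.ι_image_top
  have h : U.ι ''ᵁ ⊤ ≤ W := himg.le.trans hUW
  let L' : (↑U : Scheme.{u}).Modules := (Scheme.Modules.restrictFunctor U.ι).obj L
  let N' : (↑U : Scheme.{u}).Modules := (Scheme.Modules.restrictFunctor U.ι).obj N
  let l' : L'.val.obj (op ⊤) := res L h l
  let n' : N'.val.obj (op ⊤) := res N h n
  let s' := homOfSec L' l'
  let t' := homOfSec N' n'
  let e' : CohB1.tensorMod L' N' ≅ Coh.structureModule (↑U : Scheme.{u}) :=
    (restrictTensorIso U.ι L N).symm ≪≫ (Scheme.Modules.restrictFunctor U.ι).mapIso e ≪≫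
      Scheme.Modules.restrictUnitIso U.ι
  have hiso : IsIso (SecTwist.tmulHom s' t' ≫ e'.hom) := by
    rw [isIso_iff_isUnit_fn_top]
    have h1 : fn (SecTwist.tmulHom s' t' ≫ e'.hom) ⊤ =
        (e'.hom.val.app (op ⊤)).hom (SecTwist.tmul L' N' ⊤ l' n') := by
      change (e'.hom.val.app (op ⊤)).hom (SecTwist.val (SecTwist.tmulHom s' t') ⊤) = _
      rw [SecTwist.val_tmulHom, val_homOfSec, val_homOfSec, res_self', res_self']
    have h2 : (e'.hom.val.app (op ⊤)).hom (SecTwist.tmul L' N' ⊤ l' n') =
        ((U.ι.appIso ⊤).hom (show Γ(X, U.ι ''ᵁ ⊤) from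
          (e.hom.val.app (op (U.ι ''ᵁ ⊤))).hom (SecTwist.tmul L N (U.ι ''ᵁ ⊤) l' n')) :
          Γ((↑U : Scheme.{u}), ⊤)) := by
      change ((Scheme.Modules.restrictUnitIso U.ι).hom.val.app (op ⊤)).hom
        ((((Scheme.Modules.restrictFunctor U.ι).map e.hom).val.app (op ⊤)).hom
          (((restrictTensorIso U.ι L N).inv.val.app (op ⊤)).hom
            (SecTwist.tmul L' N' ⊤ l' n'))) = _
      refine (congrArg (fun z => ((Scheme.Modules.restrictUnitIso U.ι).hom.val.app (op ⊤)).hom
        ((((Scheme.Modules.restrictFunctor U.ι).map e.hom).val.app (op ⊤)).hom z))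
        (restrictTensorIso_inv_tmul U.ι L N ⊤ l' n')).trans ?_
      rfl
    have h3 : (e.hom.val.app (op (U.ι ''ᵁ ⊤))).hom (SecTwist.tmul L N (U.ι ''ᵁ ⊤) l' n') =
        res (Coh.structureModule X) h u := by
      rw [hu, res_app]
      congr 1
      exact (SecTwist.map_tmul L N (homOfLE h) l n).symm
    rw [h1, h2, h3]
    have hunit : IsUnit (X.presheaf.map (homOfLE hUW).op u) :=
      RingedSpace.isUnit_res_basicOpen X.toRingedSpace u
    have hunit2 : IsUnit (X.presheaf.map (homOfLE h).op u) := by
      have h4 := hunit.map (X.presheaf.map (homOfLE himg.le).op).hom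
      have h5 : (X.presheaf.map (homOfLE himg.le).op).hom ((X.presheaf.map (homOfLE hUW).op) u) =
          X.presheaf.map (homOfLE h).op u := by
        rw [← CommRingCat.comp_apply, ← X.presheaf.map_comp]
        rfl
      rw [h5] at h4
      exact h4
    exact hunit2.map (U.ι.appIso ⊤).hom.hom
  have := isIso_pairHom e' s' t'
  exact ⟨asIso (pairHom e' t')⟩

end Groth.Agent.Lib.helper12.TensorInvLocal
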