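import Mathlib
import Groth.Agent.Lib.Helper21.ExtZeroHom
import Groth.Agent.Lib.Helper21.TensorMon

/-!
# The dual of a module on a ringed site and the evaluation map (helper12)

On a ringed site `(C, J, O)`: `dual L = ℋom(L, O)`, `ev L : dual L ⊗ L ⟶ O` (the counit of
`- ⊗ L ⊣ ℋom(L, -)` at `O`).

* `restrDualIso`: if `L|_U ≅ O_U` then `(dual L)|_U ≅ O|_U`.
* `restr_map_eq_of_ev_comp_eq`: if `ev L ≫ g = ev L ≫ g'` and there is an epimorphism
  `L|_U ⟶ O|_U`, then `g|_U = g'|_U`.
-/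

set_option autoImplicit false
universe u
open CategoryTheory CategoryTheory.Limits Opposite

namespace Groth.Agent.Lib.helper12.InvDual

open Groth.Agent.Lib.Helper21.TensorAdj Groth.Agent.Lib.Helper21.TensorMon
  Groth.Agent.Lib.Helper21.ExtZeroT Groth.Agent.Lib.Helper21.ExtZeroHom

variable {C : Type u} [SmallCategory C] {J : GrothendieckTopology C} (O : Sheaf J CommRingCat.{u})

instance hasSheafHom (M : ModSite.Mod O) : ModSite.HasSheafHom M := isLeftAdjoint_tens O M

/-- The dual `ℋom(L, O)`. -/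
noncomputable def dual (L : ModSite.Mod O) : ModSite.Mod O :=
  (ModSite.sheafHom L).obj (ModSite.unit O)

/-- The evaluation map `ℋom(L, O) ⊗ L ⟶ O`. -/
noncomputable def ev (L : ModSite.Mod O) : (tens O L).obj (dual O L) ⟶ ModSite.unit O :=
  (ModSite.sheafHomAdj L).counit.app (ModSite.unit O)

/-- `ℋom(O, -) ≅ id`. -/
noncomputable def sheafHomUnitIso : ModSite.sheafHom (ModSite.unit O) ≅ 𝟭 (ModSite.Mod O) :=
  conjugateIsoEquiv (ModSite.sheafHomAdj (ModSite.unit O)) Adjunction.id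
    (((braidIso O (ModSite.unit O)).symm ≪≫ unitIso O).symm)

/-- Isomorphic modules have isomorphic internal homs. -/
noncomputable def sheafHomCongr {M M' : ModSite.Mod O} (e : M ≅ M') :
    ModSite.sheafHom M ≅ ModSite.sheafHom M' :=
  conjugateIsoEquiv (ModSite.sheafHomAdj M) (ModSite.sheafHomAdj M')
    ((ModSite.tensorBi O).flip.mapIso e).symm

/-- If `L|_U ≅ O_U` then `(dual L)|_U ≅ O|_U`. -/
noncomputable def restrDualIso (L : ModSite.Mod O) (U : C)
    (τ : (ModSite.restr O U).obj L ≅ ModSite.unit (O.over U)) :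
    (ModSite.restr O U).obj (dual O L) ≅ (ModSite.restr O U).obj (ModSite.unit O) :=
  (restrSheafHomIso O U L).app (ModSite.unit O) ≪≫
    (sheafHomCongr (O.over U) τ).app _ ≪≫ (sheafHomUnitIso (O.over U)).app _

theorem map_eq_of_counit_comp_eq {C₁ D₁ : Type*} [Category C₁] [Category D₁] {F : C₁ ⥤ D₁}
    {G : D₁ ⥤ C₁} (adj : F ⊣ G) {Y Z : D₁} (g g' : Y ⟶ Z)
    (h : adj.counit.app Y ≫ g = adj.counit.app Y ≫ g') : G.map g = G.map g' := by
  have h2 := congrArg (adj.homEquiv _ _) h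
  simpa [Adjunction.homEquiv_unit] using h2

theorem sheafHom_map_eq_of_ev_comp_eq (L : ModSite.Mod O) {N : ModSite.Mod O}
    (g g' : ModSite.unit O ⟶ N) (h : ev O L ≫ g = ev O L ≫ g') :
    (ModSite.sheafHom L).map g = (ModSite.sheafHom L).map g' :=
  map_eq_of_counit_comp_eq (ModSite.sheafHomAdj L) g g' h

theorem comp_restr_map_eq (L : ModSite.Mod O) {N₀ N : ModSite.Mod O} (g g' : N₀ ⟶ N)
    (hg : (ModSite.sheafHom L).map g = (ModSite.sheafHom L).map g') (U : C)
    (φ : (ModSite.restr O U).obj L ⟶ (ModSite.restr O U).obj N₀) :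
    φ ≫ (ModSite.restr O U).map g = φ ≫ (ModSite.restr O U).map g' := by
  let φb : (ModSite.extZero O U).obj ((ModSite.restr O U).obj L) ⟶ N₀ :=
    ((ModSite.extZeroAdj O U).homEquiv _ _).symm φ
  let ψ : (tens O L).obj (ModSite.freeOn O U) ⟶ N₀ := (freeOnTensorIso O U L).hom ≫ φb
  let ψs : ModSite.freeOn O U ⟶ (ModSite.sheafHom L).obj N₀ :=
    (ModSite.sheafHomAdj L).homEquiv _ _ ψ
  have h1 : ψs ≫ (ModSite.sheafHom L).map g = ψs ≫ (ModSite.sheafHom L).map g' := by rw [hg]
  have h2 := congrArg ((ModSite.sheafHomAdj L).homEquiv _ _).symm h1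
  rw [Adjunction.homEquiv_naturality_right_symm, Adjunction.homEquiv_naturality_right_symm,
    Equiv.symm_apply_apply] at h2
  have h3 : φb ≫ g = φb ≫ g' := by
    have : (freeOnTensorIso O U L).hom ≫ (φb ≫ g) = (freeOnTensorIso O U L).hom ≫ (φb ≫ g') := by
      simpa only [Category.assoc, ψ] using h2
    exact (cancel_epi _).mp this
  have h4 := congrArg ((ModSite.extZeroAdj O U).homEquiv _ _) h3
  rw [Adjunction.homEquiv_naturality_right, Adjunction.homEquiv_naturality_right,
    Equiv.apply_symm_apply] at h4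
  exact h4

theorem restr_map_eq_of_ev_comp_eq (L : ModSite.Mod O) {N : ModSite.Mod O}
    (g g' : ModSite.unit O ⟶ N) (h : ev O L ≫ g = ev O L ≫ g') (U : C)
    (φ : (ModSite.restr O U).obj L ⟶ (ModSite.restr O U).obj (ModSite.unit O)) [Epi φ] :
    (ModSite.restr O U).map g = (ModSite.restr O U).map g' :=
  (cancel_epi φ).mp
    (comp_restr_map_eq O L g g' (sheafHom_map_eq_of_ev_comp_eq O L g g' h) U φ)

end Groth.Agent.Lib.helper12.InvDual
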