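import Mathlib
import Groth.Agent.Lib.Helper12.InvDual1
import Groth.Agent.Lib.Helper21.LocFreeBridge
import Groth.Agent.Lib.Helper11.GenLocus
import Groth.Agent.Lib.Helper11.InvHom
import Groth.Agent.Lib.Helper25.StalkEpi
import Groth.Agent.Lib.Helper12.TensorInv

/-!
# Every invertible module on a scheme has a tensor inverse (helper12)

`dualMod L = ℋom(L, O_X)`, `evMod L : dualMod L ⊗ L ⟶ O_X`.  For `L` invertible (locally trivial),
`dualMod L` is invertible and `evMod L` is an isomorphism.

Main results: `isInvertible_dualMod`, `isIso_evMod`, `exists_inverse`, `isInverseOf_dualMod`.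
-/

set_option autoImplicit false
universe u
open CategoryTheory CategoryTheory.Limits Opposite AlgebraicGeometry TopologicalSpace
open Scheme.Modules

namespace Groth.Agent.Lib.helper12.InvDual

open Groth.Agent.Lib.helper21.LocFreeBridge Groth.Agent.Lib.helper11.InvMod
  Groth.Agent.Lib.helper11.IsoLocus Groth.Agent.Lib.helper11.GenLocus
  Groth.Agent.Lib.helper11.InvHom

variable {X : Scheme.{u}}

/-- Over-site trivialization from a scheme-level trivialization. -/
noncomputable def overTriv (M : X.Modules) (U : X.Opens)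
    (e : M.restrict U.ι ≅ Coh.structureModule (↑U : Scheme.{u})) :
    (ModSite.restr X.sheaf U).obj M ≅ ModSite.unit (X.sheaf.over U) :=
  (Scheme.Modules.overEquiv U).unitIso.app _ ≪≫
    (Scheme.Modules.overEquiv U).inverse.mapIso ((Scheme.Modules.overFunctorEquiv U).app M ≪≫ e) ≪≫
    overEquivInverseUnit U

/-- Scheme-level trivialization from an over-site trivialization. -/
noncomputable def schemeTriv (M : X.Modules) (U : X.Opens)
    (τ : (ModSite.restr X.sheaf U).obj M ≅ ModSite.unit (X.sheaf.over U)) :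
    M.restrict U.ι ≅ Coh.structureModule (↑U : Scheme.{u}) :=
  ((Scheme.Modules.overFunctorEquiv U).app M).symm ≪≫
    (Scheme.Modules.overEquiv U).functor.mapIso (τ ≪≫ (overEquivInverseUnit U).symm) ≪≫
    (Scheme.Modules.overEquiv U).counitIso.app _

/-- The restriction of the unit to the over-site is the unit. -/
noncomputable def restrUnit (U : X.Opens) :
    (ModSite.restr X.sheaf U).obj (ModSite.unit X.sheaf) ≅ ModSite.unit (X.sheaf.over U) :=
  overTriv (Coh.structureModule X) U (restrictUnitIso U.ι)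

/-- The dual `ℋom(L, O_X)` of an `O_X`-module. -/
noncomputable def dualMod (L : X.Modules) : X.Modules := dual X.sheaf L

/-- The evaluation `ℋom(L, O_X) ⊗ L ⟶ O_X`. -/
noncomputable def evMod (L : X.Modules) :
    CohB1.tensorMod (dualMod L) L ⟶ Coh.structureModule X := ev X.sheaf L

theorem isTrivOn_dualMod {L : X.Modules} {U : X.Opens} (hU : IsTrivOn L U) :
    IsTrivOn (dualMod L) U := by
  obtain ⟨e⟩ := hU
  exact ⟨schemeTriv (dualMod L) U
    (restrDualIso X.sheaf L U (overTriv L U e) ≪≫ restrUnit U)⟩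

theorem isInvertible_dualMod {L : X.Modules} (hL : PicF.IsInvertible L) :
    PicF.IsInvertible (dualMod L) := by
  intro x
  obtain ⟨U, hxU, hU⟩ := hL x
  exact ⟨U, hxU, isTrivOn_dualMod hU⟩

/-- The evaluation map of an invertible module is an epimorphism. -/
theorem epi_evMod {L : X.Modules} (hL : PicF.IsInvertible L) : Epi (evMod L) := by
  refine ⟨fun {N} g g' h => ?_⟩
  rw [← sub_eq_zero]
  refine eq_zero_of_forall_exists_isZeroOn (g - g') fun x => ?_
  obtain ⟨U, hxU, ⟨e⟩⟩ := hL x
  refine ⟨U, hxU, fun W hW => ?_⟩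
  let φ : (ModSite.restr X.sheaf U).obj L ≅
      (ModSite.restr X.sheaf U).obj (ModSite.unit X.sheaf) :=
    overTriv L U e ≪≫ (restrUnit U).symm
  have key := restr_map_eq_of_ev_comp_eq X.sheaf L g g' h U φ.hom
  have h2 := congrArg (fun m => m.val.app (op (Over.mk (homOfLE hW)))) key
  rw [Hom.sub_app, sub_eq_zero]
  exact congrArg (fun m => (forget₂ _ _).map m) h2

open Groth.Agent.Lib.helper17.FlatOver7 in
/-- An epimorphic endomorphism of the structure sheaf is an isomorphism. -/
theorem isIso_of_epi_end {Y : Scheme.{u}}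
    (σ : Coh.structureModule Y ⟶ Coh.structureModule Y) [Epi σ] : IsIso σ := by
  rw [← isoLocus_eq_top_iff, ← top_le_iff]
  intro y _
  obtain ⟨m, hm⟩ := Groth.Agent.Lib.helper25.StalkEpi.stalkAdd_surjective_of_epi σ y
    (((Coh.structureModule Y).presheaf.germ ⊤ y trivial).hom
      ((1 : Γ(Y, ⊤)) : Γ(Coh.structureModule Y, ⊤)))
  obtain ⟨V, hyV, s, rfl⟩ := TopCat.Presheaf.exists_germ_eq _ m
  rw [stalkAdd_germ] at hm
  obtain ⟨W, hyW, iV, iT, hW⟩ := TopCat.Presheaf.germ_eq _ y hyV (show y ∈ (⊤ : Y.Opens) from trivial) _ _ hm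
  have hunit : IsUnit (fn σ W) := by
    have h1 : (σ.app V).hom s = (show Γ(Y, V) from s) • sec σ V := app_apply σ V s
    rw [h1, Scheme.Modules.map_smul, res_sec] at hW
    have h2 : (Y.presheaf.map iV.op (show Γ(Y, V) from s)) * fn σ W = 1 := by
      refine Eq.trans ?_ (hW.trans ?_)
      · rfl
      · exact map_one (Y.presheaf.map iT.op).hom
    exact IsUnit.of_mul_eq_one_right _ h2
  exact (le_isoLocus_iff_isUnit σ W).mpr hunit hyW

/-- An epimorphism from an invertible module onto the structure sheaf is an isomorphism. -/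
theorem isIso_of_epi_of_isInvertible {M : X.Modules} (hM : PicF.IsInvertible M)
    (φ : M ⟶ Coh.structureModule X) [Epi φ] : IsIso φ := by
  refine isIso_of_forall_restrict φ fun x => ?_
  obtain ⟨U, hxU, ⟨eM⟩⟩ := hM x
  refine ⟨U, hxU, ?_⟩
  rw [← isIso_localEnd_iff φ eM (restrictUnitIso U.ι)]
  have : Epi ((restrictFunctor U.ι).map φ) := inferInstance
  have : Epi (localEnd φ eM (restrictUnitIso U.ι)) := by
    unfold localEnd
    infer_instance
  exact isIso_of_epi_end _

/-- The evaluation map of an invertible module is an isomorphism. -/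
theorem isIso_evMod {L : X.Modules} (hL : PicF.IsInvertible L) : IsIso (evMod L) :=
  haveI := epi_evMod hL
  isIso_of_epi_of_isInvertible
    (Groth.Agent.Lib.helper12.TensorInv.isInvertible_tensorMod (isInvertible_dualMod hL) hL) _

/-- Symmetry of the tensor product of `O_X`-modules. -/
noncomputable def tensorModComm (A B : X.Modules) :
    CohB1.tensorMod A B ≅ CohB1.tensorMod B A :=
  (Groth.Agent.Lib.Helper21.TensorMon.braidIso X.sheaf A).app B

theorem isInverseOf_dualMod {L : X.Modules} (hL : PicF.IsInvertible L) :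
    ClSub.IsInverseOf (dualMod L) L :=
  haveI := isIso_evMod hL
  ⟨asIso (evMod L)⟩

theorem isInverseOf_dualMod' {L : X.Modules} (hL : PicF.IsInvertible L) :
    ClSub.IsInverseOf L (dualMod L) :=
  haveI := isIso_evMod hL
  ⟨tensorModComm L (dualMod L) ≪≫ asIso (evMod L)⟩

/-- **Every invertible module has a tensor inverse.** -/
theorem exists_inverse {L : X.Modules} (hL : PicF.IsInvertible L) :
    ∃ L' : X.Modules, PicF.IsInvertible L' ∧ ClSub.IsInverseOf L L' ∧ ClSub.IsInverseOf L' L :=
  ⟨dualMod L, isInvertible_dualMod hL, isInverseOf_dualMod' hL, isInverseOf_dualMod hL⟩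

end Groth.Agent.Lib.helper12.InvDual
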