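import Mathlib
import Groth.Agent.Lib.Helper20.TensorEquiv

/-!
# `− ⊗ N` preserves colimits (helper12)

For an arbitrary `O_X`-module `N`, the functor `tensorRight N : M ↦ CohB1.tensorMod M N` (helper20's
`TensorEquiv.tensorRight`) preserves all (small) colimits: it is `V ⋙ (− ⊗ V N) ⋙ L` with `L` the
sheafification, and `L ⋙ tensorRight N ≅ (− ⊗ V N) ⋙ L` because maps inverted by sheafification are
stable under tensoring with a presheaf (lead's `isIso_L_whiskerRight`).

* `preservesColimits_tensorRight`, `preservesEpimorphisms_tensorRight`, `epi_tensorMap_right`.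
* `additive_tensorRight`, `map_exact_and_epi` (right exactness on short exact sequences).
* `tensorRightSigmaIso : (∐ f) ⊗ N ≅ ∐ (f i ⊗ N)`.
-/

set_option backward.isDefEq.respectTransparency false

universe u

open CategoryTheory MonoidalCategory AlgebraicGeometry Opposite Limits

namespace Groth.Agent.Lib.helper12.TensorCocont

open Groth.Agent.Lib.Lead.ModTensor Groth.Agent.Lib.Helper20.TensorEquiv

variable {X : Scheme.{u}} (N : X.Modules)

/-- presheaf level: `P ↦ L (P ⊗ V N)`. -/
noncomputable def G : CohB1.PMod X ⥤ X.Modules :=
  MonoidalCategory.tensorRight (CohB1.toPMod N) ⋙ L X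

instance preservesColimits_L : PreservesColimitsOfSize.{u, u} (L X) :=
  (adj X).leftAdjoint_preservesColimits

instance preservesColimits_G : PreservesColimitsOfSize.{u, u} (G N) := by
  unfold G
  infer_instance

/-- `tensorRight N ≅ V ⋙ G N` (definitionally on objects). -/
noncomputable def tensorRightIso : tensorRight N ≅ V X ⋙ G N :=
  NatIso.ofComponents (fun M => Iso.refl _) (by
    intro M M' f
    simp only [Iso.refl_hom, Category.comp_id, Category.id_comp, tensorRight_map,
      tensorMap_eq_whiskerRight]
    rfl)

/-- `G N ≅ L ⋙ tensorRight N`. -/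
noncomputable def GIso : G N ≅ L X ⋙ tensorRight N :=
  NatIso.ofComponents
    (fun P => @asIso _ _ _ _ ((L X).map (η P ▷ CohB1.toPMod N))
      (isIso_L_whiskerRight (η P) (CohB1.toPMod N)))
    (by
      intro P Q g
      change (L X).map (g ▷ CohB1.toPMod N) ≫ (L X).map (η Q ▷ CohB1.toPMod N) =
        (L X).map (η P ▷ CohB1.toPMod N) ≫ tensorMap ((L X).map g) (𝟙 N)
      rw [tensorMap_eq_whiskerRight, ← Functor.map_comp, ← Functor.map_comp,
        ← MonoidalCategory.comp_whiskerRight, ← MonoidalCategory.comp_whiskerRight, η_naturality])

instance preservesColimits_L_tensorRight : PreservesColimitsOfSize.{u, u} (L X ⋙ tensorRight N) :=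
  preservesColimits_of_natIso (GIso N)

/-- **`− ⊗ N` preserves colimits**, for an arbitrary `O_X`-module `N`. -/
instance preservesColimits_tensorRight : PreservesColimitsOfSize.{u, u} (tensorRight N) where
  preservesColimitsOfShape {J} _ :=
    { preservesColimit := fun {K} => by
        -- a colimit cocone of `K ⋙ V` in presheaves of modules
        let c' : Cocone (K ⋙ V X) := colimit.cocone (K ⋙ V X)
        have hc' : IsColimit c' := colimit.isColimit _
        have h1 : IsColimit ((L X).mapCocone c') := isColimitOfPreserves (L X) hc'
        have h2 : IsColimit ((L X ⋙ tensorRight N).mapCocone c') :=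
          isColimitOfPreserves (L X ⋙ tensorRight N) hc'
        -- `(K ⋙ V) ⋙ L ≅ K`
        let e : (K ⋙ V X) ⋙ L X ≅ K :=
          NatIso.ofComponents (fun j => counitIso (K.obj j))
            (fun {j j'} f => counit_naturality (K.map f))
        let c₀ : Cocone K := (Cocone.precompose e.inv).obj ((L X).mapCocone c')
        have hc₀ : IsColimit c₀ := (IsColimit.precomposeInvEquiv e _).symm h1
        refine preservesColimit_of_preserves_colimit_cocone hc₀ ?_
        let e' : ((K ⋙ V X) ⋙ L X) ⋙ tensorRight N ≅ K ⋙ tensorRight N :=
          Functor.isoWhiskerRight e (tensorRight N)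
        have h3 : IsColimit ((tensorRight N).mapCocone ((L X).mapCocone c')) := h2
        have h4 : IsColimit ((Cocone.precompose e'.inv).obj
            ((tensorRight N).mapCocone ((L X).mapCocone c'))) :=
          (IsColimit.precomposeInvEquiv e' _).symm h3
        refine IsColimit.ofIsoColimit h4 (Cocone.ext (Iso.refl _) ?_)
        intro j
        simp only [Cocone.precompose_obj_ι, NatTrans.comp_app, Functor.mapCocone_ι_app,
          Iso.refl_hom, Category.comp_id, c₀, e', Functor.isoWhiskerRight_inv,
          Functor.whiskerRight_app, Functor.map_comp] }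

instance preservesFiniteColimits_tensorRight : PreservesFiniteColimits (tensorRight N) :=
  PreservesColimitsOfSize.preservesFiniteColimits (tensorRight N)

instance preservesEpimorphisms_tensorRight : (tensorRight N).PreservesEpimorphisms :=
  inferInstance

/-- `f ⊗ N` is an epimorphism when `f` is (no hypothesis on `N`). -/
theorem epi_tensorMap_right {M M' : X.Modules} (f : M ⟶ M') [Epi f] :
    Epi (tensorMap f (𝟙 N)) :=
  (tensorRight N).map_epi f

instance preservesZeroMorphisms_tensorRight : (tensorRight N).PreservesZeroMorphisms :=
  Functor.preservesZeroMorphisms_of_preserves_initial_object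

instance additive_tensorRight : (tensorRight N).Additive := by
  have : PreservesBinaryBiproducts (tensorRight N) :=
    preservesBinaryBiproducts_of_preservesBinaryCoproducts _
  exact Functor.additive_of_preservesBinaryBiproducts _

/-- right exactness of `− ⊗ N` on short exact sequences. -/
theorem map_exact_and_epi {S : ShortComplex X.Modules} (hS : S.ShortExact) :
    (S.map (tensorRight N)).Exact ∧ Epi (tensorMap S.g (𝟙 N)) :=
  ((tensorRight N).preservesFiniteColimits_iff_forall_exact_map_and_epi).1 inferInstance S hS

/-- `(∐ f) ⊗ N ≅ ∐ (f i ⊗ N)`. -/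
noncomputable def tensorRightSigmaIso {ι : Type u} (f : ι → X.Modules) :
    CohB1.tensorMod (∐ f) N ≅ ∐ fun i => CohB1.tensorMod (f i) N :=
  PreservesCoproduct.iso (tensorRight N) f

theorem ι_tensorRightSigmaIso_inv {ι : Type u} (f : ι → X.Modules) (i : ι) :
    Sigma.ι (fun i => CohB1.tensorMod (f i) N) i ≫ (tensorRightSigmaIso N f).inv =
      tensorMap (Sigma.ι f i) (𝟙 N) := by
  unfold tensorRightSigmaIso
  rw [PreservesCoproduct.inv_hom]
  exact ι_comp_sigmaComparison (tensorRight N) f i

end Groth.Agent.Lib.helper12.TensorCocont
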