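import Mathlib

/-
helper12: a criterion for separatedness over an affine base (Mathlib only).

* `appLE_of_eq`, `id_appLE`, `surj_comp`, `appTop_morphismRestrict_surjective`, `presheaf_map_map`,
  `presheaf_map_self`.
* `isSeparated_of_affine_cover`: `f : X ⟶ S`, `S` affine, affine open cover `U i` of `X` with `U i ∩ U j`
  affine and `Γ(U i) × Γ(U j) → Γ(U i ∩ U j)`, `(a, b) ↦ a|·b|` surjective ⇒ `f` separated
  (cf. Stacks 01KP).
-/

set_option autoImplicit false
universe u

open CategoryTheory CategoryTheory.Limits AlgebraicGeometry Opposite TopologicalSpace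

namespace Groth.Agent.Lib.helper12.SepCrit

variable {X P : Scheme.{u}}

theorem appLE_of_eq {Y : Scheme.{u}} {f g : X ⟶ Y} (h : f = g) (U : Y.Opens) (V : X.Opens)
    (e : V ≤ f ⁻¹ᵁ U) : f.appLE U V e = g.appLE U V (h ▸ e) := by
  subst h; rfl

theorem id_appLE (U V : X.Opens) (e : V ≤ (𝟙 X) ⁻¹ᵁ U) :
    (𝟙 X : X ⟶ X).appLE U V e = X.presheaf.map (homOfLE e).op := by
  unfold Scheme.Hom.appLE
  rw [Scheme.Hom.id_app]
  exact Category.id_comp _

theorem surj_comp {A B C : CommRingCat.{u}} (f : A ⟶ B) (g : B ⟶ C)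
    (hf : Function.Surjective f) (hg : Function.Surjective g) : Function.Surjective (f ≫ g) := by
  intro z
  obtain ⟨y, rfl⟩ := hg z
  obtain ⟨x, rfl⟩ := hf y
  exact ⟨x, ConcreteCategory.comp_apply f g x⟩

/-- Surjectivity of `(Δ ∣_ W).appTop` from surjectivity of `Δ.app W`. -/
theorem appTop_morphismRestrict_surjective (Δ : X ⟶ P) (W : P.Opens)
    (h : Function.Surjective (Δ.app W)) : Function.Surjective ((Δ ∣_ W).appTop) := by
  have hiso : ∀ {A B : X.Opens} (e : A = B),
      Function.Surjective (X.presheaf.map (eqToHom e).op) :=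
    fun e => (ConcreteCategory.bijective_of_isIso _).2
  have hiso' : ∀ {A B : P.Opens} (e : A = B),
      Function.Surjective (P.presheaf.map (eqToHom e).op) :=
    fun e => (ConcreteCategory.bijective_of_isIso _).2
  rw [morphismRestrict_appTop, Scheme.Hom.app_eq Δ W.ι_image_top]
  exact surj_comp _ _ (surj_comp _ _ (hiso' _) (surj_comp _ _ h (hiso _))) (hiso _)

theorem presheaf_map_map {A B C : X.Opens} (h₁ : B ≤ A) (h₂ : C ≤ B) (x : Γ(X, A)) :
    X.presheaf.map (homOfLE h₂).op (X.presheaf.map (homOfLE h₁).op x) =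
      X.presheaf.map (homOfLE (h₂.trans h₁)).op x := by
  rw [← ConcreteCategory.comp_apply, ← Functor.map_comp]
  rfl

theorem presheaf_map_self {A : X.Opens} (h : A ≤ A) (x : Γ(X, A)) :
    X.presheaf.map (homOfLE h).op x = x := by
  have : (homOfLE h).op = 𝟙 (op A) := rfl
  rw [this, X.presheaf.map_id]
  rfl

/-- A criterion for separatedness over an affine base: an affine open cover `U i` of `X` such that
all `U i ∩ U j` are affine and every function on `U i ∩ U j` is a product of (restrictions of) a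
function on `U i` and a function on `U j`. -/
theorem isSeparated_of_affine_cover {S : Scheme.{u}} [IsAffine S] (f : X ⟶ S) {ι : Type*}
    (U : ι → X.Opens) (hU : ⨆ i, U i = ⊤) (haff : ∀ i, IsAffineOpen (U i))
    (H : ∀ i j, IsAffineOpen (U i ⊓ U j) ∧ ∀ g : Γ(X, U i ⊓ U j),
      ∃ (a : Γ(X, U i)) (b : Γ(X, U j)),
        g = X.presheaf.map (homOfLE (inf_le_left : U i ⊓ U j ≤ U i)).op a *
          X.presheaf.map (homOfLE (inf_le_right : U i ⊓ U j ≤ U j)).op b) :
    IsSeparated f := by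
  constructor
  let W : ι × ι → (pullback f f).Opens := fun p =>
    pullback.fst f f ⁻¹ᵁ U p.1 ⊓ pullback.snd f f ⁻¹ᵁ U p.2
  have hWaff : ∀ p, IsAffineOpen (W p) := by
    intro p
    have h1 : IsAffine (↑(U p.1) : Scheme.{u}) := haff p.1
    have h2 : IsAffine (↑(U p.2) : Scheme.{u}) := haff p.2
    let m := pullback.map ((U p.1).ι ≫ f) ((U p.2).ι ≫ f) f f (U p.1).ι (U p.2).ι (𝟙 S)
      (by simp) (by simp)
    have hm : m.opensRange = W p := by
      apply SetLike.coe_injective
      change Set.range m = _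
      rw [Scheme.Pullback.range_map, Scheme.Opens.range_ι, Scheme.Opens.range_ι]
      rfl
    rw [← hm]
    exact isAffineOpen_opensRange m
  have hW : ⨆ p, W p = ⊤ := by
    rw [eq_top_iff]
    intro z _
    have h1 : pullback.fst f f z ∈ ⨆ i, U i := by rw [hU]; trivial
    have h2 : pullback.snd f f z ∈ ⨆ i, U i := by rw [hU]; trivial
    obtain ⟨i, hi⟩ := Opens.mem_iSup.mp h1
    obtain ⟨j, hj⟩ := Opens.mem_iSup.mp h2
    exact Opens.mem_iSup.mpr ⟨(i, j), hi, hj⟩
  refine HasAffineProperty.of_iSup_eq_top (P := @IsClosedImmersion)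
    (fun p => ⟨W p, hWaff p⟩) hW (fun p => ?_)
  have hpre : pullback.diagonal f ⁻¹ᵁ W p = U p.1 ⊓ U p.2 := by
    change (pullback.diagonal f ⁻¹ᵁ (pullback.fst f f ⁻¹ᵁ U p.1)) ⊓
      (pullback.diagonal f ⁻¹ᵁ (pullback.snd f f ⁻¹ᵁ U p.2)) = _
    rw [← Scheme.Hom.comp_preimage, ← Scheme.Hom.comp_preimage, pullback.diagonal_fst,
      pullback.diagonal_snd]
    rfl
  refine ⟨?_, ?_⟩
  · have : IsAffineOpen (pullback.diagonal f ⁻¹ᵁ W p) := hpre ▸ (H p.1 p.2).1
    exact this
  · apply appTop_morphismRestrict_surjective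
    intro y
    obtain ⟨a, b, hab⟩ := (H p.1 p.2).2 (X.presheaf.map (homOfLE hpre.ge).op y)
    have hy : y = X.presheaf.map (homOfLE hpre.le).op
        (X.presheaf.map (homOfLE hpre.ge).op y) := by
      rw [presheaf_map_map, presheaf_map_self]
    have e1 : W p ≤ pullback.fst f f ⁻¹ᵁ U p.1 := inf_le_left
    have e2 : W p ≤ pullback.snd f f ⁻¹ᵁ U p.2 := inf_le_right
    refine ⟨(pullback.fst f f).appLE (U p.1) (W p) e1 a *
      (pullback.snd f f).appLE (U p.2) (W p) e2 b, ?_⟩
    rw [map_mul, Scheme.Hom.app_eq_appLE, ← ConcreteCategory.comp_apply,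
      ← ConcreteCategory.comp_apply, Scheme.Hom.appLE_comp_appLE, Scheme.Hom.appLE_comp_appLE,
      appLE_of_eq (pullback.diagonal_fst f), appLE_of_eq (pullback.diagonal_snd f),
      id_appLE, id_appLE, hy, hab, map_mul, presheaf_map_map, presheaf_map_map]
    rfl

end Groth.Agent.Lib.helper12.SepCrit
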