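import Mathlib
import Groth.Agent.Lib.Helper12.AmpleLocal
import Groth.Agent.Lib.Helper12.SepCrit

/-
helper12: schemes with an ample invertible module are separated.

* `exists_smul_eq`, `smul_sec_injective`, `sec_res_smul` (ratios of sections where the denominator generates).
* `pair_lemma`: `X_S` affine ⇒ `X_S ∩ X_{S'}` affine and `Γ(X_S) × Γ(X_{S'}) → Γ(X_S ∩ X_{S'})` surjective.
* `isSeparated_of_hasAffineCover` (= S9813), `isSeparated_of_isAmple`, `isSeparated_of_isRelAmple` (= S9691).
-/

set_option autoImplicit false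
universe u

open CategoryTheory AlgebraicGeometry Opposite TopologicalSpace MonoidalCategory

namespace Groth.Agent.Lib.helper12.AmpleSep

open Groth.Agent.Lib.helper12.TensorRestrict Groth.Agent.Lib.helper11.InvMod
open Groth.Agent.Lib.helper11.GenLocus Groth.Agent.Lib.helper12.TensorInv
open Groth.Agent.Lib.helper12.TensorSec Groth.Agent.Lib.helper12.TwistLocal
open Groth.Agent.Lib.helper11.IsoLocus Groth.Agent.Lib.helper12.TwistKill
open Groth.Agent.Lib.helper12.TensorAssoc Groth.Agent.Lib.helper12.AmplePow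
open Groth.Agent.Lib.helper12.TensorPowAdd Groth.Agent.Lib.helper12.AmpleBasis
open Groth.Agent.Lib.helper12.TwistExtend Groth.Agent.Lib.helper12.AmpleBasis2
open Groth.Agent.Lib.helper12.AmpleQAff Groth.Agent.Lib.helper12.AmpleRestrict
open Groth.Agent.Lib.helper12.SecExtend
open Scheme.Modules

variable {X : Scheme.{u}}

/-- On an open where `p` generates, every section is a unique multiple of `p`. -/
theorem exists_smul_eq {N : X.Modules} (p : Coh.structureModule X ⟶ N) {A : X.Opens}
    (hA : A ≤ CohB1.genLocus N p) (q : Γ(N, A)) : ∃ φ : Γ(X, A), q = φ • sec p A := by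
  have h : IsIso (p.app A) := isIso_app_of_le_isoLocus p hA
  rw [ConcreteCategory.isIso_iff_bijective] at h
  obtain ⟨a, ha⟩ := h.2 q
  exact ⟨a, ha.symm.trans (app_apply p A a)⟩

theorem smul_sec_injective {N : X.Modules} (p : Coh.structureModule X ⟶ N) {A : X.Opens}
    (hA : A ≤ CohB1.genLocus N p) {a b : Γ(X, A)} (h : a • sec p A = b • sec p A) : a = b := by
  have h1 : IsIso (p.app A) := isIso_app_of_le_isoLocus p hA
  rw [ConcreteCategory.isIso_iff_bijective] at h1
  apply h1.1
  exact (app_apply p A a).trans (h.trans (app_apply p A b).symm)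

theorem sec_res_smul {N : X.Modules} (p q : Coh.structureModule X ⟶ N) {A W : X.Opens}
    (φ : Γ(X, A)) (h : sec q A = φ • sec p A) (hW : W ≤ A) :
    sec q W = X.presheaf.map (homOfLE hW).op φ • sec p W := by
  rw [← res_sec q (homOfLE hW), ← res_sec p (homOfLE hW), h, Scheme.Modules.map_smul]

theorem presheaf_map_map {A B C : X.Opens} (h₁ : B ≤ A) (h₂ : C ≤ B) (x : Γ(X, A)) :
    X.presheaf.map (homOfLE h₂).op (X.presheaf.map (homOfLE h₁).op x) =
      X.presheaf.map (homOfLE (h₂.trans h₁)).op x := by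
  rw [← ConcreteCategory.comp_apply, ← Functor.map_comp]
  rfl

theorem presheaf_map_self {A : X.Opens} (h : A ≤ A) (x : Γ(X, A)) :
    X.presheaf.map (homOfLE h).op x = x := by
  have : (homOfLE h).op = 𝟙 (op A) := rfl
  rw [this, X.presheaf.map_id]
  rfl

/-- The key computation for separatedness: for two sections `S`, `S'` of the same module with
`X_S` affine, `X_S ∩ X_{S'}` is affine and every function on it is a product of a function on
`X_S` and a function on `X_{S'}`. -/
theorem pair_lemma {N : X.Modules} (S S' : Coh.structureModule X ⟶ N) (U U' : X.Opens)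
    (hU : U = CohB1.genLocus N S) (hU' : U' = CohB1.genLocus N S') (haff : IsAffineOpen U) :
    IsAffineOpen (U ⊓ U') ∧ ∀ g : Γ(X, U ⊓ U'), ∃ (a : Γ(X, U)) (b : Γ(X, U')),
      g = X.presheaf.map (homOfLE (inf_le_left : U ⊓ U' ≤ U)).op a *
        X.presheaf.map (homOfLE (inf_le_right : U ⊓ U' ≤ U')).op b := by
  subst hU hU'
  obtain ⟨φ, hφ⟩ := exists_smul_eq S (le_refl _) (sec S' (CohB1.genLocus N S))
  obtain ⟨ψ, hψ⟩ := exists_smul_eq S' (le_refl _) (sec S (CohB1.genLocus N S'))
  have hD : CohB1.genLocus N S' ⊓ CohB1.genLocus N S = X.basicOpen φ :=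
    genLocus_inf_eq_basicOpen_of_smul S' S le_rfl φ hφ
  have hD' : CohB1.genLocus N S ⊓ CohB1.genLocus N S' = X.basicOpen φ := by
    rw [inf_comm]; exact hD
  refine ⟨hD' ▸ haff.basicOpen φ, fun g => ?_⟩
  have hone : X.presheaf.map (homOfLE (inf_le_left :
        CohB1.genLocus N S ⊓ CohB1.genLocus N S' ≤ CohB1.genLocus N S)).op φ *
      X.presheaf.map (homOfLE (inf_le_right :
        CohB1.genLocus N S ⊓ CohB1.genLocus N S' ≤ CohB1.genLocus N S')).op ψ = 1 := by
    apply smul_sec_injective S' (inf_le_right :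
      CohB1.genLocus N S ⊓ CohB1.genLocus N S' ≤ CohB1.genLocus N S')
    rw [one_smul, mul_smul, ← sec_res_smul S' S ψ hψ inf_le_right,
      ← sec_res_smul S S' φ hφ inf_le_left]
  have hloc := haff.isLocalization_basicOpen φ
  obtain ⟨k, a, hka⟩ := IsLocalization.Away.surj φ
    (X.presheaf.map (homOfLE hD'.ge).op g : Γ(X, X.basicOpen φ))
  refine ⟨a, ψ ^ k, ?_⟩
  have h2 := congrArg (X.presheaf.map (homOfLE hD'.le).op) hka
  change X.presheaf.map (homOfLE hD'.le).op
      (X.presheaf.map (homOfLE hD'.ge).op g *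
        (X.presheaf.map (homOfLE (X.basicOpen_le φ)).op φ) ^ k) =
    X.presheaf.map (homOfLE hD'.le).op (X.presheaf.map (homOfLE (X.basicOpen_le φ)).op a) at h2
  rw [map_mul, map_pow, presheaf_map_map, presheaf_map_map, presheaf_map_map,
    presheaf_map_self] at h2
  rw [map_pow, ← h2, mul_assoc, ← mul_pow, hone, one_pow, mul_one]

/-- **A scheme covered by affine opens of the form `X_s` is separated** (Stacks 01PY/09MP,
EGA II 4.5.? ); in particular a scheme with an ample invertible module is separated. -/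
theorem isSeparated_of_hasAffineCover {L : X.Modules} (hL : PicF.IsInvertible L)
    (h : HasAffineCover L) : X.IsSeparated := by
  choose n s hx haff using h
  refine ⟨Groth.Agent.Lib.helper12.SepCrit.isSeparated_of_affine_cover
    (Limits.terminal.from X) (fun x => CohB1.genLocus _ (s x)) ?_ haff (fun x y => ?_)⟩
  · rw [eq_top_iff]
    intro x _
    exact Opens.mem_iSup.mpr ⟨x, hx x⟩
  · refine pair_lemma (powSec (s x) (n y + 1))
      (castSec (Nat.mul_comm (n y + 1) (n x + 1)) (powSec (s y) (n x + 1))) _ _ ?_ ?_ (haff x)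
    · exact (genLocus_powSec hL (s x) (n y)).symm
    · rw [genLocus_castSec, genLocus_powSec hL]

theorem isSeparated_of_isAmple {L : X.Modules} (hL : CohB1.IsAmple L) : X.IsSeparated :=
  isSeparated_of_hasAffineCover hL.1 hL.2.2

/-- A morphism carrying a relatively ample module is separated (EGA II 4.6.1). -/
theorem isSeparated_of_isRelAmple {S : Scheme.{u}} (f : X ⟶ S) {L : X.Modules}
    (hL : RelAmple.IsRelAmple f L) : IsSeparated f := by
  rw [IsZariskiLocalAtTarget.iff_of_iSup_eq_top (P := @IsSeparated)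
    (fun V : S.affineOpens => V.1) (by
      rw [eq_top_iff]
      intro y _
      obtain ⟨V, hV, hyV, -⟩ := (Opens.isBasis_iff_nbhd.mp S.isBasis_affineOpens)
        (show y ∈ (⊤ : S.Opens) from trivial)
      exact Opens.mem_iSup.mpr ⟨⟨V, hV⟩, hyV⟩)]
  intro V
  have : (↑(f ⁻¹ᵁ V.1) : Scheme.{u}).IsSeparated := isSeparated_of_isAmple (hL.2 V)
  infer_instance

end Groth.Agent.Lib.helper12.AmpleSep
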