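import Mathlib
import Groth.Agent.Lib.Helper12.AmpleSep
import Groth.Agent.Lib.Helper11.InvPullback
import Groth.Prelude.Def_Curv2

/-
helper12: globally generated invertible modules.

* `exists_mem_genLocus_of_epi`: an invertible quotient of a free module is generated at every point by one
  of the basis sections.
* `PG L` (pointwise generated by global sections), `pg_of_isGloballyGenerated`, `pg_structureModule`,
  `pg_tensorMod`.
* `exists_isAmple_of_cover` (= S1664).
-/

set_option autoImplicit false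
universe u

open CategoryTheory CategoryTheory.Limits AlgebraicGeometry Opposite TopologicalSpace MonoidalCategory

namespace Groth.Agent.Lib.helper12.GlobGen

open Groth.Agent.Lib.helper12.TensorRestrict Groth.Agent.Lib.helper11.InvMod
open Groth.Agent.Lib.helper11.GenLocus Groth.Agent.Lib.helper12.TensorInv
open Groth.Agent.Lib.helper12.TensorSec Groth.Agent.Lib.helper12.TwistLocal
open Groth.Agent.Lib.helper11.IsoLocus Groth.Agent.Lib.helper12.TwistKill
open Groth.Agent.Lib.helper12.TensorAssoc Groth.Agent.Lib.helper12.AmplePow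
open Groth.Agent.Lib.helper12.TensorPowAdd Groth.Agent.Lib.helper12.AmpleBasis
open Groth.Agent.Lib.helper12.TwistExtend Groth.Agent.Lib.helper12.AmpleBasis2
open Groth.Agent.Lib.helper12.AmpleQAff Groth.Agent.Lib.helper12.AmpleRestrict
open Groth.Agent.Lib.helper12.SecExtend
open Groth.Agent.Lib.helper11.InvHom Groth.Agent.Lib.helper11.InvPullback
open Scheme.Modules

variable {X : Scheme.{u}}

/-- If an invertible module is a quotient of a free module, then at every point one of the basis
sections generates. -/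
theorem exists_mem_genLocus_of_epi {L : X.Modules} (hL : PicF.IsInvertible L) {ι : Type u}
    (p : (SheafOfModules.free ι : X.Modules) ⟶ L) [Epi p] (x : X) :
    ∃ i, x ∈ CohB1.genLocus L (SheafOfModules.ιFree i ≫ p) := by
  obtain ⟨A, hA, hxA, -, ⟨e⟩⟩ := exists_affine_isTrivOn hL x ⊤ trivial
  by_contra hcon
  push Not at hcon
  let x' : (↑A : Scheme.{u}) := ⟨x, hxA⟩
  let g := (↑A : Scheme.{u}).fromSpecResidueField x'
  let c := unitToPush g
  let adj := restrictAdjunction A.ι
  let ψ : L ⟶ (pushforward A.ι).obj ((pushforward g).obj (Coh.structureModule _)) :=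
    adj.homEquiv _ _ (e.hom ≫ c)
  have hz : ∀ (M : X.Modules) (N : (↑A : Scheme.{u}).Modules),
      adj.homEquiv M N 0 = 0 := by
    intro M N
    rw [adj.homEquiv_unit, Functor.map_zero, comp_zero]
  have h0 : ∀ i, (SheafOfModules.ιFree i ≫ p) ≫ ψ = 0 := by
    intro i
    have h1 : (SheafOfModules.ιFree i ≫ p) ≫ ψ =
        adj.homEquiv _ _ ((restrictFunctor A.ι).map (SheafOfModules.ιFree i ≫ p) ≫ e.hom ≫ c) :=
      (adj.homEquiv_naturality_left _ _).symm
    rw [h1]
    have h2 : (restrictFunctor A.ι).map (SheafOfModules.ιFree i ≫ p) ≫ e.hom ≫ c = 0 := by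
      have h3 : localEnd (SheafOfModules.ιFree i ≫ p) (restrictUnitIso A.ι) e ≫ c = 0 := by
        refine (isZeroOn_top_iff _).mp ((isZeroOn_iff_sec _ ⊤).mpr ?_)
        have e1 : sec (localEnd (SheafOfModules.ιFree i ≫ p) (restrictUnitIso A.ι) e ≫ c) ⊤ =
            g.app ⊤ (fn (localEnd (SheafOfModules.ιFree i ≫ p) (restrictUnitIso A.ι) e) ⊤) := rfl
        refine e1.trans ?_
        have hb : (Spec ((↑A : Scheme.{u}).residueField x')).basicOpen
            (g.app ⊤ (fn (localEnd (SheafOfModules.ιFree i ≫ p) (restrictUnitIso A.ι) e) ⊤)) = ⊥ := by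
          rw [← Scheme.preimage_basicOpen, basicOpen_fn_localEnd]
          ext y
          simp only [TopologicalSpace.Opens.coe_bot, Set.mem_empty_iff_false, iff_false]
          intro hy
          have hy' : A.ι (g y) ∈ CohB1.genLocus L (SheafOfModules.ιFree i ≫ p) := hy
          rw [Scheme.fromSpecResidueField_apply] at hy'
          exact hcon i hy'
        exact (AlgebraicGeometry.basicOpen_eq_bot_iff _).mp hb
      have h4 : (restrictUnitIso A.ι).inv ≫
          ((restrictFunctor A.ι).map (SheafOfModules.ιFree i ≫ p) ≫ e.hom ≫ c) = 0 := by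
        simpa [localEnd, Category.assoc] using h3
      exact (cancel_epi (restrictUnitIso A.ι).inv).mp (h4.trans comp_zero.symm)
    rw [h2]
    exact hz _ _
  have h1 : p ≫ ψ = 0 := by
    refine Cofan.IsColimit.hom_ext (SheafOfModules.isColimitFreeCofan ι) _ _ (fun i => ?_)
    rw [SheafOfModules.freeCofan_inj]
    exact ((Category.assoc _ _ _).symm.trans (h0 i)).trans comp_zero.symm
  have h2 : ψ = 0 := (cancel_epi p).mp (h1.trans comp_zero.symm)
  have h3 : e.hom ≫ c = 0 := by
    apply (adj.homEquiv _ _).injective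
    exact h2.trans (hz _ _).symm
  have h4 : c = 0 := (cancel_epi e.hom).mp (h3.trans comp_zero.symm)
  have h5 : ((c.app ⊤).hom (1 : Γ((↑A : Scheme.{u}), ⊤))) = g.app ⊤ 1 := rfl
  rw [h4] at h5
  have h6 : (1 : Γ(Spec ((↑A : Scheme.{u}).residueField x'), g ⁻¹ᵁ ⊤)) = 0 := by
    rw [← map_one (g.app ⊤).hom]
    exact h5.symm
  have h7 : g ⁻¹ᵁ (⊤ : (↑A : Scheme.{u}).Opens) = ⊥ := by
    rw [← (Spec ((↑A : Scheme.{u}).residueField x')).basicOpen_of_isUnit
      (isUnit_one : IsUnit (1 : Γ(Spec ((↑A : Scheme.{u}).residueField x'), g ⁻¹ᵁ ⊤))), h6,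
      Scheme.basicOpen_zero]
  obtain ⟨y⟩ : Nonempty (Spec ((↑A : Scheme.{u}).residueField x')) := inferInstance
  have hy : y ∈ g ⁻¹ᵁ (⊤ : (↑A : Scheme.{u}).Opens) := trivial
  rw [h7] at hy
  exact hy

/-- Pointwise generation by global sections. -/
def PG (L : X.Modules) : Prop := ∀ x : X, ∃ t : Coh.structureModule X ⟶ L, x ∈ CohB1.genLocus L t

theorem pg_of_isGloballyGenerated {L : X.Modules} (hL : PicF.IsInvertible L)
    (h : Curv2.IsGloballyGenerated L) : PG L := by
  obtain ⟨ι, p, hp⟩ := h
  intro x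
  obtain ⟨i, hi⟩ := exists_mem_genLocus_of_epi hL p x
  exact ⟨_, hi⟩

theorem pg_structureModule : PG (Coh.structureModule X) := fun x =>
  ⟨𝟙 _, by
    have : CohB1.genLocus (Coh.structureModule X) (𝟙 _) = ⊤ := by
      rw [genLocus_eq_top_iff]; infer_instance
    rw [this]; trivial⟩

theorem pg_tensorMod {L L' : X.Modules} (hL : PicF.IsInvertible L) (hL' : PicF.IsInvertible L')
    (h : PG L) (h' : PG L') : PG (CohB1.tensorMod L L') := by
  intro x
  obtain ⟨t, ht⟩ := h x
  obtain ⟨t', ht'⟩ := h' x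
  exact ⟨SecTwist.tmulHom t t', by rw [genLocus_tmulHom hL hL']; exact ⟨ht, ht'⟩⟩

/-- Stacks 0FXS-type statement: a quasi-compact scheme covered by affine opens `X_s`, `s` a section
of a globally generated invertible module (depending on the point), has an ample invertible
module. -/
theorem exists_isAmple_of_cover [CompactSpace X]
    (h : ∀ x : X, ∃ (L : X.Modules) (s : Coh.structureModule X ⟶ L), PicF.IsInvertible L ∧
      Curv2.IsGloballyGenerated L ∧ x ∈ CohB1.genLocus L s ∧ IsAffineOpen (CohB1.genLocus L s)) :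
    ∃ M : X.Modules, CohB1.IsAmple M := by
  classical
  choose L s hinv hgg hx haff using h
  obtain ⟨T, hT⟩ := isCompact_univ.elim_finite_subcover
    (fun x : X => ((CohB1.genLocus (L x) (s x) : X.Opens) : Set X))
    (fun x => (CohB1.genLocus (L x) (s x)).isOpen)
    (fun x _ => Set.mem_iUnion.mpr ⟨x, hx x⟩)
  have key : ∀ T : Finset X, ∃ M : X.Modules, PicF.IsInvertible M ∧ PG M ∧
      ∀ x ∈ T, ∀ z ∈ CohB1.genLocus (L x) (s x), ∃ σ : Coh.structureModule X ⟶ M,
        z ∈ CohB1.genLocus M σ ∧ IsAffineOpen (CohB1.genLocus M σ) := by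
    intro T
    induction T using Finset.induction_on with
    | empty =>
      exact ⟨Coh.structureModule X, isInvertible_structureModule X, pg_structureModule,
        fun x hx => absurd hx (Finset.notMem_empty x)⟩
    | insert a T _ ih =>
      obtain ⟨M, hM, hpg, hcov⟩ := ih
      have hpga : PG (L a) := pg_of_isGloballyGenerated (hinv a) (hgg a)
      refine ⟨CohB1.tensorMod M (L a), isInvertible_tensorMod hM (hinv a),
        pg_tensorMod hM (hinv a) hpg hpga, ?_⟩
      intro x hxT z hz
      rcases Finset.mem_insert.mp hxT with rfl | hxT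
      · obtain ⟨τ, hτ⟩ := hpg z
        refine ⟨SecTwist.tmulHom τ (s x), ?_, ?_⟩
        · rw [genLocus_tmulHom hM (hinv x)]; exact ⟨hτ, hz⟩
        · rw [genLocus_tmulHom hM (hinv x), inf_comm]
          exact isAffineOpen_inf_genLocus hM τ (haff x)
      · obtain ⟨σ, hσ, hσaff⟩ := hcov x hxT z hz
        obtain ⟨t, ht⟩ := hpga z
        refine ⟨SecTwist.tmulHom σ t, ?_, ?_⟩
        · rw [genLocus_tmulHom hM (hinv a)]; exact ⟨hσ, ht⟩
        · rw [genLocus_tmulHom hM (hinv a)]
          exact isAffineOpen_inf_genLocus (hinv a) t hσaff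
  obtain ⟨M, hM, -, hcov⟩ := key T
  refine ⟨M, hM, inferInstance, fun z => ?_⟩
  obtain ⟨x, hxT, hzx⟩ := Set.mem_iUnion₂.mp (hT (Set.mem_univ z))
  obtain ⟨σ, hσ, hσaff⟩ := hcov x hxT z hzx
  refine ⟨0, SecTwist.powHom σ 1, ?_, ?_⟩
  · rw [genLocus_powHom hM]; exact hσ
  · rw [genLocus_powHom hM]; exact hσaff

end Groth.Agent.Lib.helper12.GlobGen
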