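import Mathlib
import Groth.Agent.Lib.Helper12.PullAmple
import Groth.Prelude.Def_PicGrp
import Groth.Prelude.Def_ClSub2

/-!
# Pullback and the Picard group law (helper12, LT22 part 4)

* `pullMul g : PicGrp.PullMul g` for every morphism of schemes `g` (the Prelude's hypothesis is a theorem).
* `isInverseOf_pullback`: pullback preserves `ClSub.IsInverseOf` (second module invertible).
* `pullTensorIso'`: the variant with the FIRST factor invertible.
-/

set_option autoImplicit false
universe u

open CategoryTheory AlgebraicGeometry Opposite TopologicalSpace MonoidalCategory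

namespace Groth.Agent.Lib.helper12.PullPic

open Groth.Agent.Lib.helper12.PullTensor Groth.Agent.Lib.helper12.PullAmple
open Groth.Agent.Lib.helper11.InvMod

variable {X Y : Scheme.{u}} (h : Y ⟶ X)

/-- The Prelude's hypothesis `PicGrp.PullMul` holds for every morphism. -/
theorem pullMul : PicGrp.PullMul h := by
  intro c d hc hd
  obtain ⟨L, rfl, -⟩ := hc
  obtain ⟨M, rfl, hM⟩ := hd
  exact Quot.sound ⟨pullTensorIso h L M hM⟩

/-- `h^*(M ⊗ N) ≅ h^*M ⊗ h^*N` for `M` invertible (first factor). -/
noncomputable def pullTensorIso' (M N : X.Modules) (hM : PicF.IsInvertible M) :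
    (Scheme.Modules.pullback h).obj (CohB1.tensorMod M N) ≅
      CohB1.tensorMod ((Scheme.Modules.pullback h).obj M) ((Scheme.Modules.pullback h).obj N) :=
  (Scheme.Modules.pullback h).mapIso (Groth.Agent.Lib.Lead.ModTensor.braid M N) ≪≫
    pullTensorIso h N M hM ≪≫ Groth.Agent.Lib.Lead.ModTensor.braid _ _

/-- Pullback preserves inverses for the tensor product. -/
theorem isInverseOf_pullback {L M : X.Modules} (hM : PicF.IsInvertible M)
    (hLM : ClSub.IsInverseOf L M) :
    ClSub.IsInverseOf ((Scheme.Modules.pullback h).obj L) ((Scheme.Modules.pullback h).obj M) := by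
  obtain ⟨e⟩ := hLM
  exact ⟨(pullTensorIso h L M hM).symm ≪≫ (Scheme.Modules.pullback h).mapIso e ≪≫ pullbackUnitIso h⟩

theorem isInverseOf_pullback' {L M : X.Modules} (hL : PicF.IsInvertible L)
    (hLM : ClSub.IsInverseOf L M) :
    ClSub.IsInverseOf ((Scheme.Modules.pullback h).obj L) ((Scheme.Modules.pullback h).obj M) := by
  obtain ⟨e⟩ := hLM
  exact ⟨(pullTensorIso' h L M hL).symm ≪≫ (Scheme.Modules.pullback h).mapIso e ≪≫ pullbackUnitIso h⟩

end Groth.Agent.Lib.helper12.PullPic
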