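import Mathlib
import Groth.Agent.Lib.Helper12.TensorCocont
import Groth.Agent.Lib.Helper18.HHConseq
import Groth.Agent.Lib.Helper18.HHZero
import Groth.Agent.Lib.Helper11.CoprodVan
import Groth.Agent.Lib.Helper11.RelSerre
import Groth.Agent.Lib.Lead.GrothVanish

/-!
# Global generation, tensor products and `H¹` on one-dimensional schemes (helper12)

* `gg_of_epi`, `gg_of_iso`, `gg_sigma`, `gg_tensorMod`: `Curv2.IsGloballyGenerated` is stable under
  quotients, isomorphisms, coproducts and tensor products.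
* `freeTensorIso : free ι ⊗ A ≅ ∐_ι A`.
* `subsingleton_HH_of_epi`: `H^p(M) = 0` and `H^{p+1}(ker q) = 0` give `H^p(M') = 0` for an
  epimorphism `q : M ⟶ M'`.
* `subsingleton_H1_tensor_of_gg`: on a qcqs scheme of dimension `≤ 1`, `H¹(M) = 0` and `A` globally
  generated give `H¹(A ⊗ M) = 0`.
-/

set_option autoImplicit false
set_option backward.isDefEq.respectTransparency false

universe u

open CategoryTheory MonoidalCategory AlgebraicGeometry Opposite Limits

namespace Groth.Agent.Lib.helper12.GGTensor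

open Groth.Agent.Lib.Lead.ModTensor Groth.Agent.Lib.Helper20.TensorEquiv
open Groth.Agent.Lib.helper12.TensorCocont

variable {X : Scheme.{u}}

theorem gg_of_epi {M M' : X.Modules} (f : M ⟶ M') [Epi f] (h : Curv2.IsGloballyGenerated M) :
    Curv2.IsGloballyGenerated M' := by
  obtain ⟨ι, p, hp⟩ := h
  exact ⟨ι, p ≫ f, epi_comp _ _⟩

theorem gg_of_iso {M M' : X.Modules} (e : M ≅ M') (h : Curv2.IsGloballyGenerated M) :
    Curv2.IsGloballyGenerated M' :=
  gg_of_epi e.hom h

theorem gg_free (ι : Type u) : Curv2.IsGloballyGenerated (SheafOfModules.free ι : X.Modules) :=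
  ⟨ι, 𝟙 _, inferInstance⟩

/-- a coproduct of globally generated modules is globally generated -/
theorem gg_sigma {ι : Type u} (f : ι → X.Modules) (h : ∀ i, Curv2.IsGloballyGenerated (f i)) :
    Curv2.IsGloballyGenerated (∐ f) := by
  choose κ p hp using h
  let J := Σ i, κ i
  let q : (SheafOfModules.free J : X.Modules) ⟶ ∐ f :=
    Sigma.desc (fun j : J => (SheafOfModules.ιFree j.2 : _ ⟶ SheafOfModules.free (κ j.1)) ≫
      p j.1 ≫ Sigma.ι f j.1)
  refine ⟨J, q, ?_⟩
  refine Preadditive.epi_of_cancel_zero _ (fun {Z} g hg => ?_)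
  refine Sigma.hom_ext _ _ (fun i => ?_)
  rw [comp_zero]
  have := hp i
  refine (cancel_epi (p i)).mp ?_
  rw [comp_zero]
  refine Sigma.hom_ext _ _ (fun k => ?_)
  rw [comp_zero]
  have h1 : Sigma.ι (fun _ : J => SheafOfModules.unit X.ringCatSheaf) ⟨i, k⟩ ≫ q =
      (SheafOfModules.ιFree k : _ ⟶ SheafOfModules.free (κ i)) ≫ p i ≫ Sigma.ι f i :=
    Sigma.ι_desc _ _
  have h2 : (Sigma.ι (fun _ : J => SheafOfModules.unit X.ringCatSheaf) ⟨i, k⟩ ≫ q) ≫ g = 0 := by
    rw [Category.assoc, hg, comp_zero]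
  rw [h1] at h2
  have h3 : (SheafOfModules.ιFree k : _ ⟶ SheafOfModules.free (κ i)) ≫ p i ≫ Sigma.ι f i ≫ g =
      0 := by
    simpa only [Category.assoc] using h2
  exact h3

/-- `free ι ⊗ A ≅ ∐_ι A`. -/
noncomputable def freeTensorIso (ι : Type u) (A : X.Modules) :
    CohB1.tensorMod (SheafOfModules.free ι : X.Modules) A ≅ ∐ fun _ : ι => A :=
  tensorRightSigmaIso A (fun _ : ι => SheafOfModules.unit X.ringCatSheaf) ≪≫
    Sigma.mapIso (fun _ => leftUnitor A)

/-- a tensor product of globally generated modules is globally generated -/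
theorem gg_tensorMod {M A : X.Modules} (hM : Curv2.IsGloballyGenerated M)
    (hA : Curv2.IsGloballyGenerated A) : Curv2.IsGloballyGenerated (CohB1.tensorMod M A) := by
  obtain ⟨ι, p, hp⟩ := hM
  have h1 : Epi (tensorMap p (𝟙 A)) := epi_tensorMap_right A p
  refine gg_of_epi (tensorMap p (𝟙 A)) ?_
  exact gg_of_iso (freeTensorIso ι A).symm (gg_sigma _ (fun _ => hA))

/-- `H^p` of a quotient vanishes if `H^p` of the source and `H^{p+1}` of the kernel do. -/
theorem subsingleton_HH_of_epi {M M' : X.Modules} (q : M ⟶ M') [Epi q] (p : ℕ)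
    (h : Subsingleton (Coh.HH X M p)) (hk : Subsingleton (Coh.HH X (kernel q) (p + 1))) :
    Subsingleton (Coh.HH X M' p) := by
  have hS : (ShortComplex.mk (kernel.ι q) q (kernel.condition q)).ShortExact :=
    { exact := ShortComplex.exact_of_f_is_kernel _ (kernelIsKernel q) }
  exact Groth.Agent.Lib.Helper18.HH.subsingleton_X₃ hS p h hk

/-- On a qcqs scheme of dimension `≤ 1`: `H¹(M) = 0` and `A` globally generated give
`H¹(A ⊗ M) = 0`. -/
theorem subsingleton_H1_tensor_of_gg [CompactSpace X] [QuasiSeparatedSpace X]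
    (hd : topologicalKrullDim X ≤ 1) {A M : X.Modules} (hA : Curv2.IsGloballyGenerated A)
    (hM : Subsingleton (Coh.HH X M 1)) : Subsingleton (Coh.HH X (CohB1.tensorMod A M) 1) := by
  obtain ⟨ι, p, hp⟩ := hA
  have h1 : Epi (tensorMap p (𝟙 M)) := epi_tensorMap_right M p
  have h2 : Subsingleton (Coh.HH X (CohB1.tensorMod (SheafOfModules.free ι : X.Modules) M) 1) :=
    Groth.Agent.Lib.helper11.RelSerre.subsingleton_HH_of_iso (freeTensorIso ι M).symm 1
      (Groth.Agent.Lib.helper11.CoprodVan.subsingleton_HH_sigma (G := fun _ : ι => M) (p := 1) (h := fun _ => hM))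
  have hd' : topologicalKrullDim X ≤ ((1 : ℕ) : WithBot ℕ∞) := by simpa using hd
  exact subsingleton_HH_of_epi (tensorMap p (𝟙 M)) 1 h2
    (Groth.Agent.Lib.Lead.GrothVanish.subsingleton_HH_of_dim_le X 1 hd' _ 2 (by norm_num))

/-- On a qcqs scheme of dimension `≤ 1` with `H¹(O) = 0`, globally generated modules have
`H¹ = 0`. -/
theorem subsingleton_H1_of_gg [CompactSpace X] [QuasiSeparatedSpace X]
    (hd : topologicalKrullDim X ≤ 1) (hO : Subsingleton (Coh.HH X (Coh.structureModule X) 1))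
    {A : X.Modules} (hA : Curv2.IsGloballyGenerated A) : Subsingleton (Coh.HH X A 1) :=
  Groth.Agent.Lib.helper11.RelSerre.subsingleton_HH_of_iso (rightUnitor A) 1
    (subsingleton_H1_tensor_of_gg hd hA hO)

end Groth.Agent.Lib.helper12.GGTensor
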