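import Mathlib
import Groth.Agent.Lib.Helper12.GGTensor
import Groth.Agent.Lib.Helper12.AmpleBasis

/-!
# Global generation and `H¹(− ⊗ ω)` in short exact sequences (helper12)

* `exists_lift_unit`: a morphism `O ⟶ M'` lifts along `g : M ⟶ M'` surjective on global sections.
* `surjective_app_top_of_H1`: `H¹(S.X₁) = 0` makes `Γ(S.X₂) → Γ(S.X₃)` surjective.
* `gg_of_shortExact`: an extension of globally generated modules, `H¹` of the sub vanishing, is
  globally generated.
* `subsingleton_H1_tensorRight_of_shortExact`: `H¹(S.X₂ ⊗ ω) = 0` from the ends, on a qcqs scheme of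
  dimension `≤ 1` (any module `ω`, only right exactness of `− ⊗ ω` is used).
-/

set_option autoImplicit false
set_option backward.isDefEq.respectTransparency false

universe u

open CategoryTheory MonoidalCategory AlgebraicGeometry Opposite Limits

namespace Groth.Agent.Lib.helper12.GGExt

open Groth.Agent.Lib.Lead.ModTensor Groth.Agent.Lib.Helper20.TensorEquiv
open Groth.Agent.Lib.helper12.TensorCocont Groth.Agent.Lib.helper12.GGTensor
open Groth.Agent.Lib.helper12.TwistExtend Groth.Agent.Lib.helper12.AmpleBasis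

variable {X : Scheme.{u}}

/-- lifting morphisms from the structure sheaf along a morphism surjective on global sections -/
theorem exists_lift_unit {M M' : X.Modules} (g : M ⟶ M')
    (hsurj : Function.Surjective (g.val.app (op ⊤)).hom) (t : Coh.structureModule X ⟶ M') :
    ∃ t' : Coh.structureModule X ⟶ M, t' ≫ g = t := by
  let s₃ : M'.sections := M'.unitHomEquiv t
  obtain ⟨τ, hτ⟩ := hsurj (s₃.val (op ⊤))
  refine ⟨M.unitHomEquiv.symm (secFamily M τ), ?_⟩
  rw [SheafOfModules.unitHomEquiv_symm_comp]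
  apply M'.unitHomEquiv.injective
  rw [Equiv.apply_symm_apply]
  refine PresheafOfModules.sections_ext _ _ (fun V => ?_)
  change (g.val.app V).hom (res M (le_top : V.unop ≤ ⊤) τ) = s₃.val V
  rw [← res_app g (le_top : V.unop ≤ ⊤) τ, hτ]
  exact PresheafOfModules.sections_property s₃ (homOfLE (le_top : V.unop ≤ ⊤)).op

/-- `H¹(S.X₁) = 0` makes `Γ(S.X₂) → Γ(S.X₃)` surjective. -/
theorem surjective_app_top_of_H1 {S : ShortComplex X.Modules} (hS : S.ShortExact)
    (hH : Subsingleton (Coh.HH X S.X₁ 1)) : Function.Surjective (S.g.val.app (op ⊤)).hom := by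
  intro σ
  obtain ⟨y, hy⟩ := Groth.Agent.Lib.Helper18.HH.surjective_map_g hS 0 hH
    ((Groth.Agent.Lib.Helper18.HH.equiv₀ S.X₃).symm σ)
  refine ⟨Groth.Agent.Lib.Helper18.HH.equiv₀ S.X₂ y, ?_⟩
  rw [← Groth.Agent.Lib.Helper18.HH.equiv₀_naturality, hy, LinearEquiv.apply_symm_apply]

/-- an extension of globally generated modules is globally generated when `H¹` of the sub
vanishes. -/
theorem gg_of_shortExact {S : ShortComplex X.Modules} (hS : S.ShortExact)
    (h₁ : Curv2.IsGloballyGenerated S.X₁) (h₃ : Curv2.IsGloballyGenerated S.X₃)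
    (hH : Subsingleton (Coh.HH X S.X₁ 1)) : Curv2.IsGloballyGenerated S.X₂ := by
  obtain ⟨ι, p₁, hp₁⟩ := h₁
  obtain ⟨κ, p₃, hp₃⟩ := h₃
  have hsurj := surjective_app_top_of_H1 hS hH
  have hlift : ∀ k : κ, ∃ t' : Coh.structureModule X ⟶ S.X₂,
      t' ≫ S.g = (SheafOfModules.ιFree k : _ ⟶ SheafOfModules.free κ) ≫ p₃ :=
    fun k => exists_lift_unit S.g hsurj _
  choose t' ht' using hlift
  let pl₃ : (SheafOfModules.free κ : X.Modules) ⟶ S.X₂ := Sigma.desc t'
  have hpl₃ : pl₃ ≫ S.g = p₃ := by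
    refine Sigma.hom_ext _ _ (fun k => ?_)
    rw [Sigma.ι_desc_assoc, ht' k]
    rfl
  let q : (SheafOfModules.free ι : X.Modules) ⨿ (SheafOfModules.free κ : X.Modules) ⟶ S.X₂ :=
    coprod.desc (p₁ ≫ S.f) pl₃
  have hq : Epi q := by
    refine Preadditive.epi_of_cancel_zero _ (fun {Z} h hh => ?_)
    have e1 : (p₁ ≫ S.f) ≫ h = 0 := by
      have : coprod.inl ≫ q ≫ h = 0 := by rw [hh, comp_zero]
      rwa [coprod.inl_desc_assoc] at this
    have e2 : pl₃ ≫ h = 0 := by
      have : coprod.inr ≫ q ≫ h = 0 := by rw [hh, comp_zero]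
      rwa [coprod.inr_desc_assoc] at this
    have e3 : S.f ≫ h = 0 := by
      refine (cancel_epi p₁).mp ?_
      rw [comp_zero, ← Category.assoc]
      exact e1
    -- `h` factors through `S.g`
    have hepi : Epi S.g := hS.epi_g
    obtain ⟨h', rfl⟩ : ∃ h' : S.X₃ ⟶ Z, S.g ≫ h' = h :=
      ⟨hS.exact.desc h e3, hS.exact.g_desc h e3⟩
    have e4 : p₃ ≫ h' = 0 := by
      rw [← hpl₃, Category.assoc]
      exact e2
    have e5 : h' = 0 := by
      refine (cancel_epi p₃).mp ?_
      rw [comp_zero]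
      exact e4
    rw [e5, comp_zero]
  have e : (SheafOfModules.free ι : X.Modules) ⨿ (SheafOfModules.free κ : X.Modules) ≅
      (SheafOfModules.free (ι ⊕ κ) : X.Modules) := SheafOfModules.freeSumIso ι κ
  exact gg_of_epi q (gg_of_iso e.symm (gg_free _))

/-- `H¹(S.X₂ ⊗ ω) = 0` from `H¹(S.X₁ ⊗ ω) = 0` and `H¹(S.X₃ ⊗ ω) = 0`, on a qcqs scheme of
dimension `≤ 1`, for an arbitrary module `ω`. -/
theorem subsingleton_H1_tensorRight_of_shortExact [CompactSpace X] [QuasiSeparatedSpace X]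
    (hd : topologicalKrullDim X ≤ 1) {S : ShortComplex X.Modules} (hS : S.ShortExact)
    (ω : X.Modules) (h₁ : Subsingleton (Coh.HH X (CohB1.tensorMod S.X₁ ω) 1))
    (h₃ : Subsingleton (Coh.HH X (CohB1.tensorMod S.X₃ ω) 1)) :
    Subsingleton (Coh.HH X (CohB1.tensorMod S.X₂ ω) 1) := by
  obtain ⟨hex, hepi⟩ := map_exact_and_epi ω hS
  let S' := S.map (tensorRight ω)
  have hepi' : Epi S'.g := hepi
  have htc : Epi S'.toCycles := S'.exact_iff_epi_toCycles.mp hex
  have hd' : topologicalKrullDim X ≤ ((1 : ℕ) : WithBot ℕ∞) := by simpa using hd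
  have hcyc : Subsingleton (Coh.HH X S'.cycles 1) :=
    subsingleton_HH_of_epi S'.toCycles 1 h₁
      (Groth.Agent.Lib.Lead.GrothVanish.subsingleton_HH_of_dim_le X 1 hd' _ 2 (by norm_num))
  have hSE : (ShortComplex.mk S'.iCycles S'.g S'.iCycles_g).ShortExact :=
    { exact := ShortComplex.exact_of_f_is_kernel _ S'.cyclesIsKernel }
  exact Groth.Agent.Lib.Helper18.HH.subsingleton_X₂ hSE 1 hcyc h₃

end Groth.Agent.Lib.helper12.GGExt
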