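import Mathlib
import Groth.Agent.Lib.Helper12.AmpleLocal
import Groth.Agent.Lib.Helper12.AmpleRestrict
import Groth.Agent.Lib.Helper12.PullAmpleRel

/-
helper12: ampleness on disjoint unions (EGA II 4.6.17 / 4.5.? coproduct case).

* `genLocus_zero` (the zero section generates nowhere), `res_self`, `subsingleton_bot`.
* `exists_extend_zero`: if `Z = U ⊔ V` with `U ⊓ V = ⊥`, a section of `N|_U` extends to a global section
  of `N` vanishing on `V`.
* `exists_affine_genLocus_of_clopen`, `isAmple_of_clopen_cover`: `L|_U`, `L|_V` ample ⇒ `L` ample.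
* `isAmple_restrict_pullback_iff`, `quasiCompact_desc`, `isRelAmple_pullback_openImmersion`,
  `isRelAmple_coprod_iff` (= S4385).
* `isRelAmple_of_iso`, `isZero_of_subsingleton`, `isZero_restrict_pushforward`, `restrictGlueIso`,
  `locallyOfFiniteType_desc`, `glueMod` (+ `pullbackInlGlueIso`, `pullbackInrGlueIso`),
  used for S4417 (disjoint union of quasi-projective morphisms).
-/

set_option autoImplicit false
universe u

open CategoryTheory CategoryTheory.Limits AlgebraicGeometry Opposite TopologicalSpace MonoidalCategory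

namespace Groth.Agent.Lib.helper12.AmpleCoprod

open Groth.Agent.Lib.helper12.TensorRestrict Groth.Agent.Lib.helper11.InvMod
open Groth.Agent.Lib.helper11.GenLocus Groth.Agent.Lib.helper12.TensorInv
open Groth.Agent.Lib.helper11.IsoLocus
open Groth.Agent.Lib.helper12.AmplePow Groth.Agent.Lib.helper12.SecExtend
open Groth.Agent.Lib.helper12.AmpleRestrict Groth.Agent.Lib.helper12.AmpleLocal
open Groth.Agent.Lib.helper12.TwistExtend Groth.Agent.Lib.helper12.AmpleBasis
open Groth.Agent.Lib.helper12.PullAmpleRel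
open Scheme.Modules

variable {Z : Scheme.{u}}

/-- The locus where the zero section generates is empty. -/
theorem genLocus_zero (N : Z.Modules) :
    CohB1.genLocus N (0 : Coh.structureModule Z ⟶ N) = ⊥ := by
  rw [eq_bot_iff]
  intro x hx
  obtain ⟨U, hxU, hU⟩ := (mem_genLocus_iff N 0 x).mp hx
  have h := (isIso_restrict_iff_app (0 : Coh.structureModule Z ⟶ N) U).mp hU U le_rfl
  exfalso
  have hb := (ConcreteCategory.isIso_iff_bijective _).mp h
  have h1 : (1 : Γ(Z, U)) = 0 := hb.1 (by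
    show ((0 : Coh.structureModule Z ⟶ N).app U).hom (1 : Γ(Z, U)) = ((0 : Coh.structureModule Z ⟶ N).app U).hom (0 : Γ(Z, U))
    rfl)
  have : Z.basicOpen (1 : Γ(Z, U)) = ⊥ := by rw [h1]; exact Scheme.basicOpen_zero Z U
  rw [Scheme.basicOpen_of_isUnit _ isUnit_one] at this
  rw [this] at hxU
  exact hxU

theorem res_self (G : Z.Modules) {V : Z.Opens} (h : V ≤ V) (x : G.val.obj (op V)) :
    res G h x = x := by
  unfold res
  have : (homOfLE h).op = 𝟙 (op V) := rfl
  rw [this, G.val.map_id]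
  rfl

theorem subsingleton_bot (G : Z.Modules) {V : Z.Opens} (hV : V = ⊥) (x y : G.val.obj (op V)) :
    x = y :=
  eq_of_cover G (fun i : Empty => i.elim) V (fun i => i.elim)
    (by rw [hV]; exact bot_le) x y (fun i => i.elim)

/-- **Extension by zero**: on a scheme which is the disjoint union of two opens `U`, `V`, a
section over `U` extends to a global section vanishing on `V`. -/
theorem exists_extend_zero (U V : Z.Opens) (hUV : U ⊔ V = ⊤) (hdisj : U ⊓ V = ⊥)
    {N : Z.Modules} (a : Coh.structureModule (↑U : Scheme.{u}) ⟶ N.restrict U.ι) :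
    ∃ b : Coh.structureModule Z ⟶ N, resHom U.ι b = a ∧ resHom V.ι b = 0 := by
  let a₀ : N.val.obj (op (U.ι ''ᵁ ⊤)) := SecTwist.val a ⊤
  let mU : N.val.obj (op U) := res N (le_of_eq U.ι_image_top.symm) a₀
  let W : Bool → Z.Opens := fun i => cond i U V
  let sf : ∀ i, N.val.obj (op (W i)) := fun i =>
    match i with
    | true => mU
    | false => (0 : N.val.obj (op V))
  have hcover : (⊤ : Z.Opens) ≤ ⨆ i, W i := by
    rw [← hUV]
    exact sup_le (le_iSup W true) (le_iSup W false)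
  obtain ⟨T, hT⟩ := exists_glue N W hcover sf (fun i j => by
    cases i <;> cases j
    · rfl
    · exact subsingleton_bot N (by change V ⊓ U = ⊥; rw [inf_comm]; exact hdisj) _ _
    · exact subsingleton_bot N hdisj _ _
    · rfl)
  have hTU : res N (le_top : U ≤ ⊤) T = mU := hT true
  have hTV : res N (le_top : V ≤ ⊤) T = 0 := hT false
  refine ⟨homOfSec N T, ?_, ?_⟩
  · apply hom_ext_val_top
    rw [val_resHom, val_homOfSec]
    have h1 : res N (le_top : U.ι ''ᵁ ⊤ ≤ ⊤) T =
        res N (le_of_eq U.ι_image_top) (res N (le_top : U ≤ ⊤) T) := (res_res _ _ _ _).symm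
    rw [h1, hTU]
    change res N _ (res N _ a₀) = a₀
    rw [res_res, res_self]
  · apply hom_ext_val_top
    rw [val_resHom, val_homOfSec]
    have h1 : res N (le_top : V.ι ''ᵁ ⊤ ≤ ⊤) T =
        res N (le_of_eq V.ι_image_top) (res N (le_top : V ≤ ⊤) T) := (res_res _ _ _ _).symm
    rw [h1, hTV]
    exact map_zero (N.presheaf.map (homOfLE (le_of_eq V.ι_image_top)).op).hom

theorem exists_affine_genLocus_of_clopen (U V : Z.Opens) (hUV : U ⊔ V = ⊤) (hdisj : U ⊓ V = ⊥)
    {L : Z.Modules} (hU : CohB1.IsAmple (L.restrict U.ι)) (x : Z) (hx : x ∈ U) :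
    ∃ (n : ℕ) (s : Coh.structureModule Z ⟶ CohB1.tensorPow L (n + 1)),
      x ∈ CohB1.genLocus _ s ∧ IsAffineOpen (CohB1.genLocus _ s) := by
  obtain ⟨n, s, hxs, haff⟩ := hU.2.2 ⟨x, hx⟩
  obtain ⟨b, hbU, hbV⟩ := exists_extend_zero U V hUV hdisj
    (N := CohB1.tensorPow L (n + 1)) (s ≫ (restrictTensorPowIso U.ι L (n + 1)).inv)
  have h1 : U.ι ⁻¹ᵁ CohB1.genLocus _ b = CohB1.genLocus _ s := by
    rw [← genLocus_resHom, hbU]
    exact genLocus_comp_iso s (restrictTensorPowIso U.ι L (n + 1)).symm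
  have h2 : V.ι ⁻¹ᵁ CohB1.genLocus _ b = ⊥ := by
    rw [← genLocus_resHom, hbV, genLocus_zero]
  have hle : CohB1.genLocus _ b ≤ U := by
    intro y hy
    have hyUV : y ∈ U ⊔ V := hUV ▸ trivial
    rcases hyUV with hyU | hyV
    · exact hyU
    · exfalso
      have : (⟨y, hyV⟩ : (↑V : Scheme.{u})) ∈ V.ι ⁻¹ᵁ CohB1.genLocus _ b := hy
      rw [h2] at this
      exact this
  have h3 : CohB1.genLocus _ b = U.ι ''ᵁ CohB1.genLocus _ s := by
    rw [← h1, Scheme.Hom.image_preimage_eq_opensRange_inf, Scheme.Opens.opensRange_ι]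
    exact (inf_eq_right.mpr hle).symm
  refine ⟨n, b, ?_, ?_⟩
  · rw [h3]
    exact ⟨⟨x, hx⟩, hxs, rfl⟩
  · rw [h3]
    exact haff.image_of_isOpenImmersion U.ι

/-- If `Z` is the disjoint union of two opens on which `L` is ample, then `L` is ample. -/
theorem isAmple_of_clopen_cover (U V : Z.Opens) (hUV : U ⊔ V = ⊤) (hdisj : U ⊓ V = ⊥)
    {L : Z.Modules} (hU : CohB1.IsAmple (L.restrict U.ι)) (hV : CohB1.IsAmple (L.restrict V.ι)) :
    CohB1.IsAmple L := by
  refine ⟨?_, ?_, fun x => ?_⟩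
  · refine isInvertible_of_cover (fun i : Bool => cond i U V) ?_ (fun i => ?_)
    · rw [eq_top_iff, ← hUV]
      exact sup_le (le_iSup (fun i : Bool => cond i U V) true)
        (le_iSup (fun i : Bool => cond i U V) false)
    · cases i
      · exact hV.1
      · exact hU.1
  · have hcU : IsCompact (U : Set Z) :=
      isCompact_iff_compactSpace.mpr (show CompactSpace (U : Set Z) from hU.2.1)
    have hcV : IsCompact (V : Set Z) :=
      isCompact_iff_compactSpace.mpr (show CompactSpace (V : Set Z) from hV.2.1)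
    refine ⟨?_⟩
    have : (Set.univ : Set Z) = (U : Set Z) ∪ (V : Set Z) := by
      have := congrArg (fun W : Z.Opens => (W : Set Z)) hUV
      simpa using this.symm
    rw [this]
    exact hcU.union hcV
  · have hxUV : x ∈ U ⊔ V := hUV ▸ trivial
    rcases hxUV with hxU | hxV
    · exact exists_affine_genLocus_of_clopen U V hUV hdisj hU x hxU
    · exact exists_affine_genLocus_of_clopen V U (by rw [sup_comm]; exact hUV)
        (by rw [inf_comm]; exact hdisj) hV x hxV

theorem isAmple_restrict_pullback_iff {X Z Y : Scheme.{u}} (i : X ⟶ Z) [IsOpenImmersion i]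
    (g : Z ⟶ Y) (f : X ⟶ Y) (hf : i ≫ g = f) (L : Z.Modules) (V : Y.Opens) :
    CohB1.IsAmple (((Scheme.Modules.pullback i).obj L).restrict (f ⁻¹ᵁ V).ι) ↔
      CohB1.IsAmple ((L.restrict (g ⁻¹ᵁ V).ι).restrict ((g ⁻¹ᵁ V).ι ⁻¹ᵁ i.opensRange).ι) := by
  subst hf
  rw [isAmple_restrict_restrict_iff,
    ← isAmple_iff_of_iso ((restrictFunctor ((i ≫ g) ⁻¹ᵁ V).ι).mapIso
      ((restrictFunctorIsoPullback i).app L)), isAmple_restrict_restrict_iff]
  refine isAmple_restrict_iff_of_range_eq _ _ ?_ L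
  ext z
  constructor
  · rintro ⟨⟨x, hx⟩, rfl⟩
    exact ⟨⟨⟨i x, hx⟩, ⟨x, rfl⟩⟩, rfl⟩
  · rintro ⟨⟨⟨z', hz'⟩, ⟨x, hx⟩⟩, rfl⟩
    have hx' : i x = z' := hx
    subst hx'
    exact ⟨⟨x, hz'⟩, rfl⟩

variable {X X' Y : Scheme.{u}}

theorem quasiCompact_desc (f : X ⟶ Y) (f' : X' ⟶ Y) [QuasiCompact f] [QuasiCompact f'] :
    QuasiCompact (coprod.desc f f') := by
  refine ⟨fun W hWo hWc => ?_⟩
  have e : (coprod.desc f f') ⁻¹' W =
      (coprod.inl : X ⟶ X ⨿ X') '' (f ⁻¹' W) ∪ (coprod.inr : X' ⟶ X ⨿ X') '' (f' ⁻¹' W) := by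
    ext z
    have hz : z ∈ Set.range (coprod.inl : X ⟶ X ⨿ X') ∪ Set.range (coprod.inr : X' ⟶ X ⨿ X') := by
      have h := (isCompl_range_inl_inr X X').sup_eq_top
      change Set.range (coprod.inl : X ⟶ X ⨿ X') ∪ Set.range (coprod.inr : X' ⟶ X ⨿ X') = Set.univ at h
      rw [h]; trivial
    constructor
    · intro hzW
      rcases hz with ⟨x, rfl⟩ | ⟨x, rfl⟩
      · left
        refine ⟨x, ?_, rfl⟩
        have : (coprod.desc f f') ((coprod.inl : X ⟶ X ⨿ X') x) = f x := by
          rw [← Scheme.Hom.comp_apply, coprod.inl_desc]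
        rw [Set.mem_preimage, ← this]; exact hzW
      · right
        refine ⟨x, ?_, rfl⟩
        have : (coprod.desc f f') ((coprod.inr : X' ⟶ X ⨿ X') x) = f' x := by
          rw [← Scheme.Hom.comp_apply, coprod.inr_desc]
        rw [Set.mem_preimage, ← this]; exact hzW
    · rintro (⟨x, hx, rfl⟩ | ⟨x, hx, rfl⟩)
      · have : (coprod.desc f f') ((coprod.inl : X ⟶ X ⨿ X') x) = f x := by
          rw [← Scheme.Hom.comp_apply, coprod.inl_desc]
        rw [Set.mem_preimage, this]; exact hx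
      · have : (coprod.desc f f') ((coprod.inr : X' ⟶ X ⨿ X') x) = f' x := by
          rw [← Scheme.Hom.comp_apply, coprod.inr_desc]
        rw [Set.mem_preimage, this]; exact hx
  rw [e]
  exact ((QuasiCompact.isCompact_preimage (f := f) W hWo hWc).image
      (coprod.inl : X ⟶ X ⨿ X').continuous).union
    ((QuasiCompact.isCompact_preimage (f := f') W hWo hWc).image
      (coprod.inr : X' ⟶ X ⨿ X').continuous)

/-- If `L` on `Z` is ample relative to `g`, then its pullback along an open immersion `i` is ample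
relative to `i ≫ g`, provided the latter is quasi-compact. -/
theorem isRelAmple_pullback_openImmersion {Z : Scheme.{u}} (i : X ⟶ Z) [IsOpenImmersion i]
    (g : Z ⟶ Y) (f : X ⟶ Y) (hf : i ≫ g = f) [QuasiCompact f] {L : Z.Modules}
    (h : RelAmple.IsRelAmple g L) :
    RelAmple.IsRelAmple f ((Scheme.Modules.pullback i).obj L) := by
  refine ⟨inferInstance, fun V => ?_⟩
  have hle : f ⁻¹ᵁ V.1 ≤ i ⁻¹ᵁ (g ⁻¹ᵁ V.1) := by
    subst hf; exact le_rfl
  have : CompactSpace (↑(f ⁻¹ᵁ V.1) : Scheme.{u}) :=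
    isCompact_iff_compactSpace.mp (QuasiCompact.isCompact_preimage (f := f) _ V.1.2 V.2.isCompact)
  have hw : (f ⁻¹ᵁ V.1).ι ≫ i = i.resLE (g ⁻¹ᵁ V.1) (f ⁻¹ᵁ V.1) hle ≫ (g ⁻¹ᵁ V.1).ι := by
    rw [Scheme.Hom.resLE_comp_ι]
  have : IsOpenImmersion (i.resLE (g ⁻¹ᵁ V.1) (f ⁻¹ᵁ V.1) hle ≫ (g ⁻¹ᵁ V.1).ι) := by
    rw [← hw]; infer_instance
  have : IsOpenImmersion (i.resLE (g ⁻¹ᵁ V.1) (f ⁻¹ᵁ V.1) hle) :=
    IsOpenImmersion.of_comp _ (g ⁻¹ᵁ V.1).ι
  refine isAmple_restrict_pullback_of_isEmbedding (f ⁻¹ᵁ V.1).ι i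
    (i.resLE (g ⁻¹ᵁ V.1) (f ⁻¹ᵁ V.1) hle) (g ⁻¹ᵁ V.1).ι ?_ ?_ (h.2 V)
  · exact hw
  · exact (Scheme.Hom.isOpenEmbedding (i.resLE (g ⁻¹ᵁ V.1) (f ⁻¹ᵁ V.1) hle)).isEmbedding

/-- **EGA II 4.6.17**: relative ampleness on a disjoint union. -/
theorem isRelAmple_coprod_iff (f : X ⟶ Y) (f' : X' ⟶ Y) [QuasiCompact f] [QuasiCompact f']
    (L'' : (X ⨿ X').Modules) :
    RelAmple.IsRelAmple (coprod.desc f f') L'' ↔
      RelAmple.IsRelAmple f ((Scheme.Modules.pullback (coprod.inl : X ⟶ X ⨿ X')).obj L'') ∧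
        RelAmple.IsRelAmple f' ((Scheme.Modules.pullback (coprod.inr : X' ⟶ X ⨿ X')).obj L'') := by
  constructor
  · intro h
    exact ⟨isRelAmple_pullback_openImmersion coprod.inl _ f (coprod.inl_desc f f') h,
      isRelAmple_pullback_openImmersion coprod.inr _ f' (coprod.inr_desc f f') h⟩
  · rintro ⟨h1, h2⟩
    refine ⟨quasiCompact_desc f f', fun V => ?_⟩
    refine isAmple_of_clopen_cover
      (((coprod.desc f f') ⁻¹ᵁ V.1).ι ⁻¹ᵁ (coprod.inl : X ⟶ X ⨿ X').opensRange)
      (((coprod.desc f f') ⁻¹ᵁ V.1).ι ⁻¹ᵁ (coprod.inr : X' ⟶ X ⨿ X').opensRange) ?_ ?_ ?_ ?_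
    · rw [← Scheme.Hom.preimage_sup, (isCompl_opensRange_inl_inr X X').sup_eq_top]; rfl
    · rw [← Scheme.Hom.preimage_inf, (isCompl_opensRange_inl_inr X X').inf_eq_bot]; rfl
    · exact (isAmple_restrict_pullback_iff coprod.inl (coprod.desc f f') f
        (coprod.inl_desc f f') L'' V.1).mp (h1.2 V)
    · exact (isAmple_restrict_pullback_iff coprod.inr (coprod.desc f f') f'
        (coprod.inr_desc f f') L'' V.1).mp (h2.2 V)

variable {Z : Scheme.{u}}

theorem isRelAmple_of_iso (f : X ⟶ Y) {L L' : X.Modules} (e : L ≅ L')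
    (h : RelAmple.IsRelAmple f L) : RelAmple.IsRelAmple f L' :=
  ⟨h.1, fun V => isAmple_of_iso ((restrictFunctor (f ⁻¹ᵁ V.1).ι).mapIso e) (h.2 V)⟩

/-- A module all of whose sections are trivial is a zero object. -/
theorem isZero_of_subsingleton {M : X.Modules} (h : ∀ U : X.Opens, Subsingleton (M.val.obj (op U))) :
    IsZero M := by
  rw [IsZero.iff_id_eq_zero]
  ext U x
  exact (h _).elim _ _

/-- The restriction to `X` of the pushforward of a module from `X'` vanishes when the two open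
immersions have disjoint ranges. -/
theorem isZero_restrict_pushforward {Z : Scheme.{u}} (i : X ⟶ Z) (i' : X' ⟶ Z) [IsOpenImmersion i]
    (hd : Disjoint (Set.range i) (Set.range i')) (M : X'.Modules) :
    IsZero (((Scheme.Modules.pushforward i').obj M).restrict i) := by
  apply isZero_of_subsingleton
  intro U
  have hU : i' ⁻¹ᵁ (i ''ᵁ U) = ⊥ := by
    rw [eq_bot_iff]
    rintro x ⟨y, -, hy⟩
    exact (Set.disjoint_iff_forall_ne.mp hd ⟨y, rfl⟩ ⟨x, rfl⟩ hy).elim
  exact ⟨fun a b => subsingleton_bot M hU a b⟩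

noncomputable def restrictGlueIso (i : X ⟶ Z) (i' : X' ⟶ Z) [IsOpenImmersion i]
    (hd : Disjoint (Set.range i) (Set.range i')) (L : X.Modules) (L' : X'.Modules) :
    (restrictFunctor i).obj ((pushforward i).obj L ⊞ (pushforward i').obj L') ≅ L :=
  haveI : PreservesBinaryBiproduct ((pushforward i).obj L) ((pushforward i').obj L')
      (restrictFunctor i) := preservesBinaryBiproduct_of_preservesBinaryCoproduct _
  (restrictFunctor i).mapBiprod _ _ ≪≫
    biprod.mapIso ((restrictFunctorAdjCounitIso i).app L) (Iso.refl _) ≪≫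
    (isoBiprodZero (isZero_restrict_pushforward i i' hd L')).symm

theorem locallyOfFiniteType_desc (f : X ⟶ Y) (f' : X' ⟶ Y) [LocallyOfFiniteType f]
    [LocallyOfFiniteType f'] : LocallyOfFiniteType (coprod.desc f f') := by
  rw [IsZariskiLocalAtSource.iff_of_openCover (P := @LocallyOfFiniteType) (coprodOpenCover.{u, 0} X X')]
  rintro (⟨⟩ | ⟨⟩)
  · change LocallyOfFiniteType ((coprod.inl : X ⟶ X ⨿ X') ≫ coprod.desc f f')
    rw [coprod.inl_desc]; infer_instance
  · change LocallyOfFiniteType ((coprod.inr : X' ⟶ X ⨿ X') ≫ coprod.desc f f')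
    rw [coprod.inr_desc]; infer_instance

/-- A module on `X ⨿ X'` restricting to `L` on `X` and to `L'` on `X'`. -/
noncomputable def glueMod (L : X.Modules) (L' : X'.Modules) : (X ⨿ X').Modules :=
  (pushforward (coprod.inl : X ⟶ X ⨿ X')).obj L ⊞ (pushforward (coprod.inr : X' ⟶ X ⨿ X')).obj L'

noncomputable def pullbackInlGlueIso (L : X.Modules) (L' : X'.Modules) :
    (Scheme.Modules.pullback (coprod.inl : X ⟶ X ⨿ X')).obj (glueMod L L') ≅ L :=
  (restrictFunctorIsoPullback (coprod.inl : X ⟶ X ⨿ X')).symm.app _ ≪≫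
    restrictGlueIso coprod.inl coprod.inr (isCompl_range_inl_inr X X').disjoint L L'

noncomputable def pullbackInrGlueIso (L : X.Modules) (L' : X'.Modules) :
    (Scheme.Modules.pullback (coprod.inr : X' ⟶ X ⨿ X')).obj (glueMod L L') ≅ L' :=
  (restrictFunctorIsoPullback (coprod.inr : X' ⟶ X ⨿ X')).symm.app _ ≪≫
    (restrictFunctor (coprod.inr : X' ⟶ X ⨿ X')).mapIso (biprod.braiding _ _) ≪≫
    restrictGlueIso coprod.inr coprod.inl (isCompl_range_inl_inr X X').disjoint.symm L' L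

end Groth.Agent.Lib.helper12.AmpleCoprod
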