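import Mathlib

/-!
# fpqc descent of quasi-affineness over an affine base (helper12)

* `isQuasiAffine_of_isPullback_Spec`: `X ⟶ Spec R`, `R ⟶ R'` faithfully flat, `X ×_R R'` quasi-affine ⇒
  `X` quasi-affine.
* `isQuasiAffine_of_isPullback`: the same over arbitrary affine schemes `Y' ⟶ Y`.
* `quasiSeparatedSpace_of_isAffineHom_surjective`: `X' ⟶ X` affine surjective, `X'` quasi-separated ⇒
  `X` quasi-separated.
-/

set_option autoImplicit false
set_option linter.style.haveILetI false
universe u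
open CategoryTheory CategoryTheory.Limits AlgebraicGeometry

namespace Groth.Agent.Lib.helper12.QAffDescent

theorem appLE_top_top {X Y : Scheme.{u}} (f : X ⟶ Y) (h : (⊤ : X.Opens) ≤ f ⁻¹ᵁ ⊤) :
    f.appLE ⊤ ⊤ h = f.appTop := by
  change f.appLE ⊤ ⊤ h = f.app ⊤
  rw [Scheme.Hom.app_eq_appLE]
  rfl

/-- quasi-separatedness descends along affine surjective morphisms -/
theorem quasiSeparatedSpace_of_isAffineHom_surjective {X X' : Scheme.{u}} (g : X' ⟶ X)
    [IsAffineHom g] [Surjective g] [QuasiSeparatedSpace X'] : QuasiSeparatedSpace X := by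
  rw [quasiSeparatedSpace_iff_forall_affineOpens]
  intro U V
  have hU : IsAffineOpen (g ⁻¹ᵁ U.1) := U.2.preimage g
  have hV : IsAffineOpen (g ⁻¹ᵁ V.1) := V.2.preimage g
  have h1 : IsCompact ((g ⁻¹ᵁ U.1 : Set X') ∩ (g ⁻¹ᵁ V.1 : Set X')) :=
    QuasiSeparatedSpace.inter_isCompact _ _ (g ⁻¹ᵁ U.1).2 hU.isCompact (g ⁻¹ᵁ V.1).2 hV.isCompact
  have h2 := h1.image g.continuous
  have h3 : g '' ((g ⁻¹ᵁ U.1 : Set X') ∩ (g ⁻¹ᵁ V.1 : Set X')) = (U : Set X) ∩ (V : Set X) := by
    change g '' (g ⁻¹' (U : Set X) ∩ g ⁻¹' (V : Set X)) = _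
    rw [← Set.preimage_inter, Set.image_preimage_eq _ g.surjective]
  rwa [h3] at h2

set_option backward.isDefEq.respectTransparency.types false in
/-- fpqc descent of quasi-affineness along a flat surjective base change of affine bases -/
theorem isQuasiAffine_of_isPullback_Spec {X Y : Scheme.{u}} {R R' : CommRingCat.{u}}
    (f : X ⟶ Spec R) (φ : R ⟶ R') [Flat (Spec.map φ)] [Surjective (Spec.map φ)]
    (g : Y ⟶ X) (iY : Y ⟶ Spec R') (H : IsPullback g iY f (Spec.map φ)) [Y.IsQuasiAffine] :
    X.IsQuasiAffine := by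
  haveI : Surjective g := MorphismProperty.of_isPullback (P := @Surjective) H.flip inferInstance
  haveI : Flat g := MorphismProperty.of_isPullback (P := @Flat) H.flip inferInstance
  haveI : IsAffineHom g := MorphismProperty.of_isPullback (P := @IsAffineHom) H.flip inferInstance
  haveI : CompactSpace X := g.surjective.compactSpace g.continuous
  haveI : QuasiSeparatedSpace X := quasiSeparatedSpace_of_isAffineHom_surjective g
  -- flat base change of global sections
  have hUY : (⊤ : Y.Opens) = g ⁻¹ᵁ ⊤ ⊓ iY ⁻¹ᵁ ⊤ := by simp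
  have hiso := isIso_pushoutSection_of_isQuasiSeparated_of_flat_right H
    (US := ⊤) (UT := ⊤) (UX := ⊤) le_top le_top hUY (isAffineOpen_top _) (isAffineOpen_top _)
    isCompact_univ isQuasiSeparated_univ
  have hpo := (isIso_pushoutSection_iff H le_top le_top hUY).mp hiso
  rw [appLE_top_top, appLE_top_top, appLE_top_top, appLE_top_top] at hpo
  have hbot := isPullback_SpecMap_of_isPushout _ _ _ _ hpo
  -- the iso square
  have hsq : IsPullback (Spec R').toSpecΓ (Spec.map φ) (Spec.map (Spec.map φ).appTop)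
      (Spec R).toSpecΓ :=
    IsPullback.of_horiz_isIso ⟨(Scheme.toSpecΓ_naturality (Spec.map φ)).symm⟩
  have houter := H.flip.paste_horiz hsq
  rw [Scheme.toSpecΓ_naturality iY, Scheme.toSpecΓ_naturality f] at houter
  have htop : IsPullback Y.toSpecΓ g (Spec.map g.appTop) X.toSpecΓ :=
    IsPullback.of_right houter (Scheme.toSpecΓ_naturality g).symm hbot.flip
  -- the base change morphism is fpqc
  have hQ0 : (@Surjective ⊓ @Flat ⊓ @QuasiCompact : MorphismProperty Scheme.{u})
      (Spec.map (Spec.map φ).appTop) := by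
    have h0 : (@Surjective ⊓ @Flat ⊓ @QuasiCompact : MorphismProperty Scheme.{u}) (Spec.map φ) :=
      ⟨⟨inferInstance, inferInstance⟩, inferInstance⟩
    have h1 := (MorphismProperty.cancel_right_of_respectsIso
      (@Surjective ⊓ @Flat ⊓ @QuasiCompact : MorphismProperty Scheme.{u})
      (Spec.map φ) (Spec R).toSpecΓ).mpr h0
    rw [Scheme.toSpecΓ_naturality] at h1
    exact (MorphismProperty.cancel_left_of_respectsIso
      (@Surjective ⊓ @Flat ⊓ @QuasiCompact : MorphismProperty Scheme.{u}) _ _).mp h1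
  have hQ : (@Surjective ⊓ @Flat ⊓ @QuasiCompact : MorphismProperty Scheme.{u})
      (Spec.map g.appTop) :=
    MorphismProperty.of_isPullback hbot.flip hQ0
  have hopen : IsOpenImmersion X.toSpecΓ :=
    MorphismProperty.of_isPullback_of_descendsAlong (P := @IsOpenImmersion)
      (Q := @Surjective ⊓ @Flat ⊓ @QuasiCompact) htop hQ inferInstance
  exact { toCompactSpace := inferInstance, toIsImmersion := inferInstance }

/-- fpqc descent of quasi-affineness: `Y' ⟶ Y` flat surjective between affine schemes,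
`X' = X ×_Y Y'` quasi-affine ⇒ `X` quasi-affine. -/
theorem isQuasiAffine_of_isPullback {X Y X' Y' : Scheme.{u}} [IsAffine Y] [IsAffine Y']
    (f : X ⟶ Y) (g : Y' ⟶ Y) [Flat g] [Surjective g] (p : X' ⟶ X) (q : X' ⟶ Y')
    (H : IsPullback p q f g) [X'.IsQuasiAffine] : X.IsQuasiAffine := by
  have hsq : IsPullback g Y'.isoSpec.hom Y.isoSpec.hom (Spec.map g.appTop) :=
    IsPullback.of_vert_isIso ⟨(Scheme.isoSpec_hom_naturality g).symm⟩
  have H2 := H.paste_vert hsq
  have e : Spec.map g.appTop = Y'.isoSpec.inv ≫ g ≫ Y.isoSpec.hom := by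
    rw [← Scheme.isoSpec_hom_naturality, Iso.inv_hom_id_assoc]
  haveI : Flat (Spec.map g.appTop) := by rw [e]; infer_instance
  haveI : Surjective (Spec.map g.appTop) := by rw [e]; infer_instance
  exact isQuasiAffine_of_isPullback_Spec (f ≫ Y.isoSpec.hom) g.appTop p (q ≫ Y'.isoSpec.hom) H2

end Groth.Agent.Lib.helper12.QAffDescent
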