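import Mathlib
import Groth.Agent.Lib.Helper8.FlatBC
import Groth.Agent.Lib.Helper12.PullAmple
import Groth.Agent.Lib.Helper11.FiniteAffine
import Groth.Agent.Lib.Helper12.AmpleSep
import Groth.Agent.Lib.Helper12.QAffDescent

/-!
# fpqc descent of ampleness over an affine base (helper12)

* `ρ_naturality`, `sec_pullback_map`: the section named by `p^* t` is `ρ` of the section named by `t`.
* `exists_generating_section`: for a cartesian square `X' = X ×_Y Y'` with `Y' ⟶ Y` flat between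
  affines, `X` qcqs and `M` invertible on `X`: if a section of `p^* M` generates at `x'`, then some
  section of `M` generates at `p x'` (flat base change of global sections).
* `isAmple_of_isAmple_pullback`: if moreover `Y' ⟶ Y` is surjective and `p^* L` is ample, then `L`
  is ample (Stacks 0D2P-type statement; EGA IV 2.7.2).
-/

set_option autoImplicit false
set_option linter.style.haveILetI false
universe u
open CategoryTheory CategoryTheory.Limits AlgebraicGeometry TopologicalSpace Opposite TensorProduct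
open Scheme.Modules
open Groth.Agent.Lib.helper11.GenLocus Groth.Agent.Lib.helper11.IsoLocus
open Groth.Agent.Lib.helper11.InvMod Groth.Agent.Lib.helper11.InvPullback
open Groth.Agent.Lib.helper8.PullbackUnit Groth.Agent.Lib.helper8.FlatBC
open Groth.Agent.Lib.helper12.AmpleBasis Groth.Agent.Lib.helper12.AmpleBasis2
open Groth.Agent.Lib.helper12.AmpleSep Groth.Agent.Lib.helper12.QAffDescent
open Groth.Agent.Lib.helper12.AmplePow Groth.Agent.Lib.helper12.PullAmple
open Groth.Agent.Lib.helper12.TensorInv Groth.Agent.Lib.helper11.FiniteAffine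

namespace Groth.Agent.Lib.helper12.AmpleDescent

variable {X X' : Scheme.{u}} (p : X' ⟶ X)

/-- naturality of `ρ` in the module -/
theorem ρ_naturality {A B : X.Modules} (t : A ⟶ B) {U : X.Opens} {V : X'.Opens}
    (e : V ≤ p ⁻¹ᵁ U) (a : Γ(A, U)) :
    (((Scheme.Modules.pullback p).map t).app V).hom (ρ p e A a) = ρ p e B ((t.app U).hom a) := by
  rw [ρ_apply, ρ_apply]
  have h1 := Groth.Agent.Lib.helper16.QCohEpi.app_map ((Scheme.Modules.pullback p).map t) e
    ((((pullbackPushforwardAdjunction p).unit.app A).app U).hom a)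
  rw [h1]
  congr 1
  have h2 := (pullbackPushforwardAdjunction p).unit.naturality t
  exact congrArg (fun φ : A ⟶ (pushforward p).obj ((Scheme.Modules.pullback p).obj B) =>
    (φ.app U).hom a) h2.symm

theorem pullbackUnitIso_hom_ρ_one {U : X.Opens} {V : X'.Opens} (e : V ≤ p ⁻¹ᵁ U) :
    ((pullbackUnitIso p).hom.app V).hom
      (ρ p e (Coh.structureModule X) ((1 : Γ(X, U)) : Γ(Coh.structureModule X, U))) =
      ((1 : Γ(X', V)) : Γ(Coh.structureModule X', V)) := by
  have h := app_ρ p e (A := Coh.structureModule X) (B := Coh.structureModule X') (unitToPush p)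
    ((1 : Γ(X, U)) : Γ(Coh.structureModule X, U))
  refine h.trans ?_
  change (X'.presheaf.map (homOfLE e).op).hom ((p.app U).hom (1 : Γ(X, U))) = 1
  rw [map_one, map_one]

/-- the section named by the pullback of `t : O_X ⟶ M` is `ρ` of the section named by `t` -/
theorem sec_pullback_map {M : X.Modules} (t : Coh.structureModule X ⟶ M) {U : X.Opens}
    {V : X'.Opens} (e : V ≤ p ⁻¹ᵁ U) :
    sec ((pullbackUnitIso p).inv ≫ (Scheme.Modules.pullback p).map t) V = ρ p e M (sec t U) := by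
  have h1 : ρ p e (Coh.structureModule X) ((1 : Γ(X, U)) : Γ(Coh.structureModule X, U)) =
      ((pullbackUnitIso p).inv.app V).hom ((1 : Γ(X', V)) : Γ(Coh.structureModule X', V)) := by
    rw [← pullbackUnitIso_hom_ρ_one p e]
    change _ = ((((pullbackUnitIso p).hom ≫ (pullbackUnitIso p).inv).app V).hom _)
    rw [Iso.hom_inv_id]
    rfl
  have h2 := ρ_naturality p t e ((1 : Γ(X, U)) : Γ(Coh.structureModule X, U))
  rw [h1] at h2
  exact h2

variable {p}
variable {Y Y' : Scheme.{u}} {f : X ⟶ Y} {g : Y' ⟶ Y} {q : X' ⟶ Y'}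

theorem exists_generating_section [IsAffine Y] [IsAffine Y'] [Flat g] [CompactSpace X]
    [QuasiSeparatedSpace X] (H : IsPullback p q f g) {M : X.Modules} (hM : PicF.IsInvertible M)
    (s' : Coh.structureModule X' ⟶ (Scheme.Modules.pullback p).obj M) (x' : X')
    (hx' : x' ∈ CohB1.genLocus _ s') :
    ∃ t : Coh.structureModule X ⟶ M, p x' ∈ CohB1.genLocus M t := by
  by_contra hcon
  rw [not_exists] at hcon
  haveI : M.IsQuasicoherent := isQuasicoherent_of_isInvertible hM
  have hW : (⊤ : X.Opens) ≤ f ⁻¹ᵁ ⊤ := le_top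
  have e : (⊤ : Y'.Opens) ≤ g ⁻¹ᵁ ⊤ := le_top
  letI : Algebra Γ(Y, ⊤) Γ(Y', ⊤) := (g.appLE ⊤ ⊤ e).hom.toAlgebra
  have halg : algebraMap Γ(Y, ⊤) Γ(Y', ⊤) = (g.appLE ⊤ ⊤ e).hom := rfl
  haveI : Module.Flat Γ(Y, ⊤) Γ(Y', ⊤) := by
    have h0 := Scheme.Hom.flat_appTop g
    rw [← appLE_top_top g e] at h0
    exact h0
  let N := (Scheme.Modules.pullback p).obj M
  let S : X'.Opens := sharp p q ⊤ ⊤
  let W : X'.Opens := CohB1.genLocus N s' ⊓ S
  have hWS : W ≤ S := inf_le_right
  have hWG : W ≤ CohB1.genLocus N s' := inf_le_left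
  have hbij := κ_bijective_of_isQuasiSeparated M ⊤ hW H e halg (isAffineOpen_top Y)
    (isAffineOpen_top Y') isCompact_univ isQuasiSeparated_univ
  let P : Γ(N, S) → Prop := fun τ => ∀ φ : Γ(X', W),
    N.presheaf.map (homOfLE hWS).op τ = φ • sec s' W → x' ∉ X'.basicOpen φ
  have hP0 : P 0 := by
    intro φ hφ hx
    rw [map_zero] at hφ
    have h1 : φ = 0 := by
      apply smul_sec_injective s' hWG
      rw [← hφ, zero_smul]
    rw [h1, X'.basicOpen_zero] at hx
    exact hx
  have hPadd : ∀ τ₁ τ₂, P τ₁ → P τ₂ → P (τ₁ + τ₂) := by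
    intro τ₁ τ₂ h₁ h₂ φ hφ hx
    obtain ⟨φ₁, hφ₁⟩ := exists_smul_eq s' hWG (N.presheaf.map (homOfLE hWS).op τ₁)
    obtain ⟨φ₂, hφ₂⟩ := exists_smul_eq s' hWG (N.presheaf.map (homOfLE hWS).op τ₂)
    have h3 : φ = φ₁ + φ₂ := by
      apply smul_sec_injective s' hWG
      rw [← hφ, map_add, hφ₁, hφ₂, add_smul]
    rw [h3] at hx
    rcases X'.basicOpen_add_le φ₁ φ₂ hx with h | h
    · exact h₁ φ₁ hφ₁ h
    · exact h₂ φ₂ hφ₂ h
  have hPsmul : ∀ (a : Γ(X', S)) (τ : Γ(N, S)), P τ → P (a • τ) := by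
    intro a τ hτ φ hφ hx
    obtain ⟨φ₀, hφ₀⟩ := exists_smul_eq s' hWG (N.presheaf.map (homOfLE hWS).op τ)
    have h3 : φ = X'.presheaf.map (homOfLE hWS).op a * φ₀ := by
      apply smul_sec_injective s' hWG
      rw [← hφ, Scheme.Modules.map_smul, hφ₀, mul_smul]
    rw [h3, X'.basicOpen_mul] at hx
    exact hτ φ₀ hφ₀ hx.2
  have hPρ : ∀ σ : Γ(M, ⊤), P (ρ p (inf_le_left : S ≤ p ⁻¹ᵁ ⊤) M σ) := by
    intro σ φ hφ hx
    let t := homOfSec M σ
    have ht : sec t ⊤ = σ := by
      have h8 := val_homOfSec M σ ⊤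
      refine h8.trans ?_
      change M.val.map (𝟙 _) σ = σ
      rw [M.val.map_id]
      rfl
    let t' := (pullbackUnitIso p).inv ≫ (Scheme.Modules.pullback p).map t
    have hgl : CohB1.genLocus N t' = p ⁻¹ᵁ CohB1.genLocus M t :=
      genLocus_pullback p M hM t (pullbackUnitIso p).symm
    have hsec : sec t' S = ρ p (inf_le_left : S ≤ p ⁻¹ᵁ ⊤) M σ := by
      rw [← ht]
      exact sec_pullback_map p t _
    have hsecW : sec t' W = φ • sec s' W := by
      rw [← res_sec t' (homOfLE hWS), hsec]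
      exact hφ
    have h5 := genLocus_inf_eq_basicOpen_of_smul t' s' hWG φ hsecW
    rw [← h5, hgl] at hx
    exact hcon t hx.1
  have hall : ∀ z, P (κ M ⊤ hW H e halg z) := by
    intro z
    induction z using TensorProduct.induction_on with
    | zero => rw [map_zero]; exact hP0
    | tmul a n =>
      have h7 : κ M ⊤ hW H e halg (a ⊗ₜ n) =
          a • kW (g' := p) (f' := q) (V' := ⊤) M ⊤ hW n := tlift_tmul _ _ a n
      rw [h7]
      exact hPsmul ((q.appLE ⊤ S inf_le_right).hom a) _ (hPρ n)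
    | add z₁ z₂ h₁ h₂ => rw [map_add]; exact hPadd _ _ h₁ h₂
  obtain ⟨z, hz⟩ := hbij.2 (sec s' S)
  have h6 := hall z
  rw [hz] at h6
  refine h6 1 ?_ ?_
  · rw [one_smul]; exact res_sec s' (homOfLE hWS)
  · rw [X'.basicOpen_of_isUnit isUnit_one]
    exact ⟨hx', ⟨trivial, trivial⟩⟩

/-- **fpqc descent of ampleness over an affine base** -/
theorem isAmple_of_isAmple_pullback [IsAffine Y] [IsAffine Y'] [Flat g] [Surjective g]
    [QuasiCompact f] (H : IsPullback p q f g) {L : X.Modules} (hL : PicF.IsInvertible L)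
    (h : CohB1.IsAmple ((Scheme.Modules.pullback p).obj L)) : CohB1.IsAmple L := by
  haveI : CompactSpace X := QuasiCompact.compactSpace_of_compactSpace f
  haveI : Surjective p := MorphismProperty.of_isPullback (P := @Surjective) H.flip inferInstance
  haveI : IsAffineHom p := MorphismProperty.of_isPullback (P := @IsAffineHom) H.flip inferInstance
  haveI : QuasiSeparatedSpace X' := quasiSeparatedSpace_of_hasAffineCover h.1 h.2.2
  haveI : QuasiSeparatedSpace X := quasiSeparatedSpace_of_isAffineHom_surjective p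
  refine ⟨hL, inferInstance, fun x => ?_⟩
  obtain ⟨x', rfl⟩ := p.surjective x
  obtain ⟨n, s', hx's', -⟩ := h.2.2 x'
  let M := CohB1.tensorPow L (n + 1)
  have hM : PicF.IsInvertible M := isInvertible_tensorPow hL (n + 1)
  let E := pullTensorPowIso p hL (n + 1)
  let N := (Scheme.Modules.pullback p).obj M
  have hN : CohB1.IsAmple N :=
    isAmple_of_iso E.symm ((isAmple_tensorPow_iff h.1 (n + 1) (Nat.succ_pos n)).mp h)
  obtain ⟨t, ht⟩ := exists_generating_section H hM (s' ≫ E.inv) x'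
    ((genLocus_comp_iso s' E.symm).ge hx's')
  let G := CohB1.genLocus M t
  let t' := (pullbackUnitIso p).inv ≫ (Scheme.Modules.pullback p).map t
  have hgl : CohB1.genLocus N t' = p ⁻¹ᵁ G := genLocus_pullback p M hM t (pullbackUnitIso p).symm
  haveI hqa' : (p ⁻¹ᵁ G : Scheme.{u}).IsQuasiAffine := by
    rw [← hgl]
    exact isQuasiAffine_genLocus hN t'
  have Hsq : IsPullback (p ∣_ G) ((p ⁻¹ᵁ G).ι ≫ q) (G.ι ≫ f) g :=
    (isPullback_morphismRestrict p G).paste_vert H
  haveI hqa : (G : Scheme.{u}).IsQuasiAffine :=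
    isQuasiAffine_of_isPullback (G.ι ≫ f) g (p ∣_ G) ((p ⁻¹ᵁ G).ι ≫ q) Hsq
  -- an affine basic open of `G` containing the point
  obtain ⟨_, ⟨r, hr, rfl⟩, hxr, -⟩ := Opens.isBasis_iff_nbhd.mp
    (Scheme.IsQuasiAffine.isBasis_basicOpen (G : Scheme.{u})) (U := ⊤) (x := ⟨p x', ht⟩) trivial
  let g₀ : Γ(X, G) := G.topIso.hom r
  have hb : X.basicOpen g₀ = G.ι ''ᵁ ((G : Scheme.{u}).basicOpen r) := by
    have h1 := Scheme.Opens.ι_image_basicOpen_topIso_inv (U := G) g₀
    have h2 : G.topIso.inv g₀ = r := by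
      change (G.topIso.hom ≫ G.topIso.inv) r = r
      rw [Iso.hom_inv_id]
      rfl
    rw [h2] at h1
    exact h1.symm
  have haff : IsAffineOpen (X.basicOpen g₀) := by
    rw [hb]
    exact hr.image_of_isOpenImmersion G.ι
  have hx0 : p x' ∈ X.basicOpen g₀ := by
    rw [hb]
    exact ⟨⟨p x', ht⟩, hxr, rfl⟩
  obtain ⟨m, w, hw⟩ := exists_genLocus_eq_basicOpen hM t g₀
  obtain ⟨k, w', hw'⟩ := genLocusFamily_tensorPow_subset L (n + 1) (Nat.succ_pos n)
    ⟨m, w, hw.symm⟩
  refine ⟨k, w', ?_, ?_⟩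
  · rw [← hw']; exact hx0
  · rw [← hw']; exact haff

end Groth.Agent.Lib.helper12.AmpleDescent
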