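import Mathlib
import Groth.Agent.Lib.Helper12.AmpleDescent
import Groth.Agent.Lib.Helper12.AmpleCoprod
import Groth.Agent.Lib.Helper12.AmpleLocal

/-!
# fpqc descent of relative ampleness (helper12)

* `isAmple_of_finite_clopen_cover`: ampleness on a finite disjoint open cover.
* `isAmple_of_finite_family`: `f : X ⟶ Y` quasi-compact, `Y` affine, a finite jointly surjective family
  of flat maps `V'_i ⟶ Y` from affine schemes, with `L` pulled back to each `X ×_Y V'_i` ample ⇒ `L` ample.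
* `restrictPullbackIso`: `(P^* L)|_{U'} ≅ P'^* (L|_U)` for a commutative square of restrictions.
* `isRelAmple_of_isRelAmple_baseChange`: EGA IV 2.7.2 / Stacks 0D2P: relative ampleness descends along
  quasi-compact flat surjective base change.
-/

set_option autoImplicit false
set_option linter.style.haveILetI false
universe u
open CategoryTheory CategoryTheory.Limits AlgebraicGeometry TopologicalSpace Opposite
open Scheme.Modules
open Groth.Agent.Lib.helper12.AmpleCoprod Groth.Agent.Lib.helper12.AmpleLocal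
open Groth.Agent.Lib.helper12.AmplePow Groth.Agent.Lib.helper12.PullAmple
open Groth.Agent.Lib.helper12.AmpleDescent Groth.Agent.Lib.helper11.InvMod

namespace Groth.Agent.Lib.helper12.AmpleDescentRel

/-- ampleness on a finite disjoint open cover -/
theorem isAmple_of_finite_clopen_cover {Z : Scheme.{u}} {ι : Type*} [Finite ι] (U : ι → Z.Opens)
    (hcov : ⨆ i, U i = ⊤) (hdisj : ∀ i j, i ≠ j → U i ⊓ U j = ⊥) {L : Z.Modules}
    (h : ∀ i, CohB1.IsAmple (L.restrict (U i).ι)) : CohB1.IsAmple L := by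
  refine ⟨isInvertible_of_cover U hcov (fun i => (h i).1), ?_, fun x => ?_⟩
  · rw [← isCompact_univ_iff]
    have h1 : (Set.univ : Set Z) = ⋃ i, (U i : Set Z) := by
      have := congrArg (fun W : Z.Opens => (W : Set Z)) hcov
      simp only [Opens.coe_iSup, Opens.coe_top] at this
      exact this.symm
    rw [h1]
    exact isCompact_iUnion (fun i => isCompact_iff_compactSpace.mpr (h i).2.1)
  · have hx : x ∈ ⨆ i, U i := hcov ▸ trivial
    obtain ⟨i, hxi⟩ := Opens.mem_iSup.mp hx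
    let V : Z.Opens := ⨆ j : {j : ι // j ≠ i}, U j.1
    have hUV : U i ⊔ V = ⊤ := by
      rw [eq_top_iff, ← hcov]
      refine iSup_le fun j => ?_
      by_cases hji : j = i
      · rw [hji]; exact le_sup_left
      · exact le_sup_of_le_right (le_iSup (fun j : {j : ι // j ≠ i} => U j.1) ⟨j, hji⟩)
    have hd : U i ⊓ V = ⊥ := by
      rw [eq_bot_iff]
      rintro y ⟨hy1, hy2⟩
      obtain ⟨j, hyj⟩ := Opens.mem_iSup.mp hy2
      have := hdisj i j.1 (Ne.symm j.2)
      rw [← this]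
      exact ⟨hy1, hyj⟩
    exact exists_affine_genLocus_of_clopen (U i) V hUV hd (h i) x hxi

/-- ampleness of a pullback along a morphism isomorphic to a given one -/
theorem isAmple_restrict_of_iso_pullback {X Z X' : Scheme.{u}} (P : Z ⟶ X) (U : Z.Opens)
    (p : X' ⟶ X) (e : (U : Scheme.{u}) ≅ X') (he : e.hom ≫ p = U.ι ≫ P) {L : X.Modules}
    (h : CohB1.IsAmple ((Scheme.Modules.pullback p).obj L)) :
    CohB1.IsAmple (((Scheme.Modules.pullback P).obj L).restrict U.ι) := by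
  have h1 : CohB1.IsAmple ((Scheme.Modules.pullback e.hom).obj ((Scheme.Modules.pullback p).obj L)) :=
    isAmple_pullback_of_isAffineHom e.hom h
  let φ : ((Scheme.Modules.pullback P).obj L).restrict U.ι ≅
      (Scheme.Modules.pullback e.hom).obj ((Scheme.Modules.pullback p).obj L) :=
    (restrictFunctorIsoPullback U.ι).app _ ≪≫ (pullbackComp U.ι P).app L ≪≫
      (pullbackCongr he.symm).app L ≪≫ ((pullbackComp e.hom p).app L).symm
  exact isAmple_of_iso φ.symm h1

/-- **fpqc descent of ampleness over an affine base, finite affine flat covering family** -/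
theorem isAmple_of_finite_family {X Y : Scheme.{u}} [IsAffine Y] (f : X ⟶ Y) [QuasiCompact f]
    {L : X.Modules} (hL : PicF.IsInvertible L)
    {ι : Type u} [Finite ι] (V' : ι → Scheme.{u}) [∀ i, IsAffine (V' i)] (g : ∀ i, V' i ⟶ Y)
    [∀ i, Flat (g i)] (hsurj : ∀ y : Y, ∃ i, y ∈ Set.range (g i))
    (X' : ι → Scheme.{u}) (p : ∀ i, X' i ⟶ X) (q : ∀ i, X' i ⟶ V' i)
    (H : ∀ i, IsPullback (p i) (q i) f (g i))
    (h : ∀ i, CohB1.IsAmple ((Scheme.Modules.pullback (p i)).obj L)) : CohB1.IsAmple L := by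
  let g' : (∐ V') ⟶ Y := Sigma.desc g
  haveI : Surjective g' := by
    refine ⟨fun y => ?_⟩
    obtain ⟨i, z, hz⟩ := hsurj y
    refine ⟨Sigma.ι V' i z, ?_⟩
    rw [← hz, ← Scheme.Hom.comp_apply, Sigma.ι_desc]
  let P := pullback.fst f g'
  let Q := pullback.snd f g'
  refine isAmple_of_isAmple_pullback (IsPullback.of_hasPullback f g') hL ?_
  refine isAmple_of_finite_clopen_cover (fun i => Q ⁻¹ᵁ (Sigma.ι V' i).opensRange) ?_ ?_ ?_
  · rw [eq_top_iff]
    intro x _
    have hx : Q x ∈ ⨆ i, (Sigma.ι V' i).opensRange := by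
      have h0 := (sigmaOpenCover V').iSup_opensRange
      change ⨆ i, (Sigma.ι V' i).opensRange = ⊤ at h0
      rw [h0]; trivial
    obtain ⟨i, hi⟩ := Opens.mem_iSup.mp hx
    exact Opens.mem_iSup.mpr ⟨i, hi⟩
  · intro i j hij
    rw [eq_bot_iff]
    rintro x ⟨h1, h2⟩
    have := (disjoint_opensRange_sigmaι V' i j hij).le_bot ⟨h1, h2⟩
    exact this.elim
  · intro i
    let U : (pullback f g').Opens := Q ⁻¹ᵁ (Sigma.ι V' i).opensRange
    have hr : Set.range (U.ι ≫ Q) ⊆ Set.range (Sigma.ι V' i) := by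
      rintro _ ⟨x, rfl⟩
      exact x.2
    let b : (U : Scheme.{u}) ⟶ V' i := IsOpenImmersion.lift (Sigma.ι V' i) (U.ι ≫ Q) hr
    have hb : b ≫ Sigma.ι V' i = U.ι ≫ Q := IsOpenImmersion.lift_fac _ _ _
    have sq1 : IsPullback b U.ι (Sigma.ι V' i) Q :=
      IsOpenImmersion.isPullback b U.ι (Sigma.ι V' i) Q hb.symm (by rw [Scheme.Opens.opensRange_ι])
    have sq2 : IsPullback (U.ι ≫ P) b f (g i) := by
      have := (sq1.paste_vert (IsPullback.of_hasPullback f g').flip).flip
      rwa [Sigma.ι_desc] at this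
    let e : (U : Scheme.{u}) ≅ X' i := sq2.isoIsPullback _ _ (H i)
    exact isAmple_restrict_of_iso_pullback P U (p i) e (IsPullback.isoIsPullback_hom_fst _ _ _ _) (h i)

/-- base change of a restriction: for a commutative square `j' ≫ P = P' ≫ j` of an open immersion
`j' : U' ⟶ Z` and `j : U ⟶ X`, `(P^* L)|_{U'} ≅ P'^* (L|_U)`. -/
noncomputable def restrictPullbackIso {X Z U U' : Scheme.{u}} (P : Z ⟶ X) (j : U ⟶ X) (j' : U' ⟶ Z)
    [IsOpenImmersion j] [IsOpenImmersion j'] (P' : U' ⟶ U) (hsq : j' ≫ P = P' ≫ j)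
    (L : X.Modules) :
    ((Scheme.Modules.pullback P).obj L).restrict j' ≅
      (Scheme.Modules.pullback P').obj (L.restrict j) :=
  (restrictFunctorIsoPullback j').app _ ≪≫ (pullbackComp j' P).app L ≪≫
    (pullbackCongr hsq).app L ≪≫ ((pullbackComp P' j).app L).symm ≪≫
    (Scheme.Modules.pullback P').mapIso ((restrictFunctorIsoPullback j).app L).symm

/-- **fpqc descent of relative ampleness** (EGA IV 2.7.2, Stacks 0D2P) -/
theorem isRelAmple_of_isRelAmple_baseChange {X S S' : Scheme.{u}} (f : X ⟶ S) (L : X.Modules)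
    (hL : PicF.IsInvertible L) (g : S' ⟶ S) [QuasiCompact g] [Flat g] [Surjective g]
    (h : RelAmple.IsRelAmple (pullback.snd f g)
      ((Scheme.Modules.pullback (pullback.fst f g)).obj L)) :
    RelAmple.IsRelAmple f L := by
  let p := pullback.fst f g
  let q := pullback.snd f g
  haveI : QuasiCompact q := h.1
  haveI : Surjective p := inferInstance
  have hpq : ∀ V : S.Opens, p ⁻¹ᵁ (f ⁻¹ᵁ V) = q ⁻¹ᵁ (g ⁻¹ᵁ V) := by
    intro V
    rw [← Scheme.Hom.comp_preimage, ← Scheme.Hom.comp_preimage, pullback.condition]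
  have hqc : QuasiCompact f := by
    rw [quasiCompact_iff_forall_isAffineOpen]
    intro V hV
    have h1 : IsCompact ((q ⁻¹ᵁ (g ⁻¹ᵁ V) : (Limits.pullback f g).Opens) : Set ↑(Limits.pullback f g)) :=
      q.isCompact_preimage (g.isCompact_preimage hV.isCompact)
    rw [← hpq V] at h1
    have h2 := h1.image p.continuous
    have h3 : p '' ((p ⁻¹ᵁ (f ⁻¹ᵁ V) : (Limits.pullback f g).Opens) : Set ↑(Limits.pullback f g)) =
        ((f ⁻¹ᵁ V : X.Opens) : Set X) := by
      change p '' (p ⁻¹' ((f ⁻¹ᵁ V : X.Opens) : Set X)) = _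
      exact Set.image_preimage_eq _ p.surjective
    rwa [h3] at h2
  refine ⟨hqc, fun V => ?_⟩
  haveI := hqc
  haveI : IsAffine (V.1 : Scheme.{u}) := V.2
  obtain ⟨I, hI, eI⟩ := isCompact_iff_finite_and_eq_biUnion_affineOpens.mp
    (g.isCompact_preimage V.2.isCompact)
  haveI : Finite I := hI.to_subtype
  have hle : ∀ i : I, (i.1 : S'.Opens) ≤ g ⁻¹ᵁ V.1 := fun i => by
    rw [eI]
    exact le_iSup₂ (f := fun (i : S'.affineOpens) (_ : i ∈ I) => (i : S'.Opens)) i.1 i.2
  haveI : ∀ i : I, IsAffine ((i.1.1 : S'.Opens) : Scheme.{u}) := fun i => i.1.2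
  haveI : QuasiCompact (f.resLE V.1 (f ⁻¹ᵁ V.1) le_rfl) := by
    rw [Scheme.Hom.resLE_eq_morphismRestrict]; infer_instance
  let UY : I → (Limits.pullback f g).Opens := fun i => p ⁻¹ᵁ (f ⁻¹ᵁ V.1) ⊓ q ⁻¹ᵁ i.1.1
  refine isAmple_of_finite_family (f.resLE V.1 (f ⁻¹ᵁ V.1) le_rfl)
    (isInvertible_restrict (f ⁻¹ᵁ V.1).ι hL) (fun i : I => ((i.1.1 : S'.Opens) : Scheme.{u}))
    (fun i => g.resLE V.1 i.1.1 (hle i)) ?_ (fun i => ((UY i : (Limits.pullback f g).Opens) : Scheme.{u}))
    (fun i => p.resLE (f ⁻¹ᵁ V.1) (UY i) inf_le_left) (fun i => q.resLE i.1.1 (UY i) inf_le_right)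
    (fun i => Scheme.Hom.isPullback_resLE (IsPullback.of_hasPullback f g) (hle i) le_rfl rfl) ?_
  · intro y
    obtain ⟨y', hy'⟩ := g.surjective y.1
    have hy'V : y' ∈ g ⁻¹ᵁ V.1 := by
      change g y' ∈ V.1
      rw [hy']; exact y.2
    rw [eI] at hy'V
    obtain ⟨i, hi⟩ := Opens.mem_iSup.mp hy'V
    obtain ⟨hiI, hy'i⟩ := Opens.mem_iSup.mp hi
    refine ⟨⟨i, hiI⟩, ⟨y', hy'i⟩, ?_⟩
    apply Subtype.ext
    rw [Scheme.Hom.coe_resLE_apply]
    exact hy'
  · intro i
    have h1 : CohB1.IsAmple (((Scheme.Modules.pullback p).obj L).restrict (q ⁻¹ᵁ i.1.1).ι) :=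
      h.2 i.1
    have hUY : UY i = q ⁻¹ᵁ i.1.1 := by
      apply le_antisymm inf_le_right
      refine le_inf ?_ le_rfl
      rw [hpq]
      exact q.preimage_mono (hle i)
    have h2 : CohB1.IsAmple (((Scheme.Modules.pullback p).obj L).restrict (UY i).ι) := by
      rw [isAmple_restrict_iff_of_range_eq (UY i).ι (q ⁻¹ᵁ i.1.1).ι ?_ _]
      · exact h1
      · rw [Scheme.Opens.range_ι, Scheme.Opens.range_ι, hUY]
    exact isAmple_of_iso (restrictPullbackIso p (f ⁻¹ᵁ V.1).ι (UY i).ι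
      (p.resLE (f ⁻¹ᵁ V.1) (UY i) inf_le_left) (Scheme.Hom.resLE_comp_ι _ _).symm L) h2

end Groth.Agent.Lib.helper12.AmpleDescentRel
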