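import Mathlib
import Groth.Agent.Lib.Helper12.AmpleCoprod
import Groth.Agent.S0052

/-!
# Ampleness and finite covers by finite morphisms (helper12)

* `isAmple_coprod`: a module on `X ⨿ X'` (both quasi-compact) whose pullbacks to `X` and `X'` are ample
  is ample.
* `exists_finite_cover`: for a nonempty finite family of finite morphisms `q k : Y k ⟶ X` with all
  `q k ^* L` ample there is one finite morphism `t : T ⟶ X` with range the union of the ranges and
  `t^* L` ample.
* `isAmple_of_finite_family`: `X` proper over a Noetherian ring, `L` invertible, a finite jointly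
  surjective family of finite morphisms with `q k ^* L` ample: then `L` is ample (via S0052).
-/

set_option autoImplicit false
universe u

open CategoryTheory CategoryTheory.Limits AlgebraicGeometry Opposite TopologicalSpace

namespace Groth.Agent.Lib.helper12.AmpleFinCover

open Groth.Agent.Lib.helper12.AmpleCoprod Groth.Agent.Lib.helper12.AmpleRestrict
open Groth.Agent.Lib.helper12.AmplePow

variable {X X' : Scheme.{u}}

theorem isAmple_coprod (L'' : (X ⨿ X').Modules)
    (h1 : CohB1.IsAmple ((Scheme.Modules.pullback (coprod.inl : X ⟶ X ⨿ X')).obj L''))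
    (h2 : CohB1.IsAmple ((Scheme.Modules.pullback (coprod.inr : X' ⟶ X ⨿ X')).obj L'')) :
    CohB1.IsAmple L'' := by
  have hc1 : CompactSpace X := h1.2.1
  have hc2 : CompactSpace X' := h2.2.1
  have q1 : QuasiCompact (terminal.from X) := (compactSpace_iff_quasiCompact X).mp hc1
  have q2 : QuasiCompact (terminal.from X') := (compactSpace_iff_quasiCompact X').mp hc2
  have := quasiCompact_desc (terminal.from X) (terminal.from X')
  rw [← isRelAmple_iff_isAmple_of_isAffine (coprod.desc (terminal.from X) (terminal.from X')),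
    isRelAmple_coprod_iff]
  exact ⟨(isRelAmple_iff_isAmple_of_isAffine _ _).mpr h1,
    (isRelAmple_iff_isAmple_of_isAffine _ _).mpr h2⟩

theorem isAmple_pullback_coprod_desc {Z : Scheme.{u}} (a : X ⟶ Z) (b : X' ⟶ Z) (L : Z.Modules)
    (h1 : CohB1.IsAmple ((Scheme.Modules.pullback a).obj L))
    (h2 : CohB1.IsAmple ((Scheme.Modules.pullback b).obj L)) :
    CohB1.IsAmple ((Scheme.Modules.pullback (coprod.desc a b)).obj L) := by
  refine isAmple_coprod _ ?_ ?_
  · exact (isAmple_iff_of_iso ((Scheme.Modules.pullbackComp coprod.inl (coprod.desc a b)).app L ≪≫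
      (Scheme.Modules.pullbackCongr (coprod.inl_desc a b)).app L)).mpr h1
  · exact (isAmple_iff_of_iso ((Scheme.Modules.pullbackComp coprod.inr (coprod.desc a b)).app L ≪≫
      (Scheme.Modules.pullbackCongr (coprod.inr_desc a b)).app L)).mpr h2

theorem range_coprod_desc {Z : Scheme.{u}} (a : X ⟶ Z) (b : X' ⟶ Z) :
    Set.range (coprod.desc a b) = Set.range a ∪ Set.range b := by
  ext z
  constructor
  · rintro ⟨w, rfl⟩
    have hw : w ∈ Set.range (coprod.inl : X ⟶ X ⨿ X') ∪ Set.range (coprod.inr : X' ⟶ X ⨿ X') := by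
      have h := (isCompl_range_inl_inr X X').sup_eq_top
      change Set.range (coprod.inl : X ⟶ X ⨿ X') ∪ Set.range (coprod.inr : X' ⟶ X ⨿ X') =
        Set.univ at h
      rw [h]; trivial
    rcases hw with ⟨x, rfl⟩ | ⟨x, rfl⟩
    · left
      refine ⟨x, ?_⟩
      rw [← Scheme.Hom.comp_apply, coprod.inl_desc]
    · right
      refine ⟨x, ?_⟩
      rw [← Scheme.Hom.comp_apply, coprod.inr_desc]
  · rintro (⟨x, rfl⟩ | ⟨x, rfl⟩)
    · exact ⟨(coprod.inl : X ⟶ X ⨿ X') x, by rw [← Scheme.Hom.comp_apply, coprod.inl_desc]⟩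
    · exact ⟨(coprod.inr : X' ⟶ X ⨿ X') x, by rw [← Scheme.Hom.comp_apply, coprod.inr_desc]⟩

/-- Glue a nonempty finite family of finite morphisms with ample pullbacks into one. -/
theorem exists_finite_cover {Z : Scheme.{u}} (L : Z.Modules) {κ : Type*} (Y : κ → Scheme.{u})
    (q : ∀ k, Y k ⟶ Z) (hq : ∀ k, IsFinite (q k)) (s : Finset κ) (hs : s.Nonempty)
    (hamp : ∀ k ∈ s, CohB1.IsAmple ((Scheme.Modules.pullback (q k)).obj L)) :
    ∃ (T : Scheme.{u}) (t : T ⟶ Z), IsFinite t ∧ Set.range t = ⋃ k ∈ s, Set.range (q k) ∧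
      CohB1.IsAmple ((Scheme.Modules.pullback t).obj L) := by
  classical
  induction hs using Finset.Nonempty.cons_induction with
  | singleton k =>
    refine ⟨Y k, q k, hq k, ?_, hamp k (Finset.mem_singleton_self k)⟩
    simp
  | cons k s hk hs ih =>
    obtain ⟨T, t, ht, hrange, hT⟩ := ih (fun j hj => hamp j (Finset.mem_cons_of_mem hj))
    have := hq k
    refine ⟨Y k ⨿ T, coprod.desc (q k) t, inferInstance, ?_, ?_⟩
    · rw [range_coprod_desc, hrange, Finset.cons_eq_insert, Finset.set_biUnion_insert]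
    · exact isAmple_pullback_coprod_desc (q k) t L (hamp k (Finset.mem_cons_self k s)) hT

/-- `X` proper over a Noetherian ring, `L` invertible: if a finite jointly surjective family of finite
morphisms `q k : Y k ⟶ X` has all `q k ^* L` ample, then `L` is ample. -/
theorem isAmple_of_finite_family (R : Type u) [CommRing R] [IsNoetherianRing R]
    {Z : Scheme.{u}} (g : Z ⟶ Spec (CommRingCat.of R)) [IsProper g] (L : Z.Modules)
    (hL : PicF.IsInvertible L) {κ : Type*} (Y : κ → Scheme.{u})
    (q : ∀ k, Y k ⟶ Z) (hq : ∀ k, IsFinite (q k)) (s : Finset κ)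
    (hsurj : ∀ z : Z, ∃ k ∈ s, z ∈ Set.range (q k))
    (hamp : ∀ k ∈ s, CohB1.IsAmple ((Scheme.Modules.pullback (q k)).obj L)) :
    CohB1.IsAmple L := by
  by_cases hs : s.Nonempty
  · obtain ⟨T, t, ht, hrange, hT⟩ := exists_finite_cover L Y q hq s hs hamp
    have : Surjective t := by
      refine ⟨fun z => ?_⟩
      have hz : z ∈ Set.range t := by
        rw [hrange]
        obtain ⟨k, hk, hz⟩ := hsurj z
        exact Set.mem_biUnion hk hz
      exact hz
    exact (Groth.Agent.S0052.result R g (t ≫ g) t rfl L hL).mpr hT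
  · have hempty : IsEmpty Z := by
      refine ⟨fun z => ?_⟩
      obtain ⟨k, hk, -⟩ := hsurj z
      exact hs ⟨k, hk⟩
    refine ⟨hL, ?_, fun x => isEmptyElim x⟩
    exact Finite.compactSpace

end Groth.Agent.Lib.helper12.AmpleFinCover
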