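import Mathlib
import Groth.Agent.Lib.Helper12.Chow6
import Groth.Agent.Lib.Helper12.AmpleFinCover

/-
helper12: Chow's lemma, part 8 — Chow's lemma for an affine cover whose intersection is dense;
`ChowData f`; properness and ranges of `coprod.desc`.
-/

set_option autoImplicit false
universe u

open CategoryTheory CategoryTheory.Limits AlgebraicGeometry Opposite TopologicalSpace

namespace Groth.Agent.Lib.helper12.Chow8

/-- The conclusion of Chow's lemma (without the birationality part). -/
def ChowData {X S : Scheme.{u}} (f : X ⟶ S) : Prop :=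
  ∃ (n : ℕ) (X' : Scheme.{u}) (π : X' ⟶ X) (j : X' ⟶ CohB1.ProjSpaceOver n S),
    IsImmersion j ∧ j ≫ CohB1.ProjSpaceOver.toBase n S = π ≫ f ∧ IsProper π ∧ Surjective π

theorem chowData_of_isEmpty {X S : Scheme.{u}} (f : X ⟶ S) [IsEmpty X] : ChowData f :=
  ⟨0, X, 𝟙 X, isInitialOfIsEmpty.to _, inferInstance, isInitialOfIsEmpty.hom_ext _ _,
    inferInstance, inferInstance⟩

/-- finite intersections of quasi-compact opens in a quasi-compact quasi-separated space -/
theorem isCompact_iInter_fin {α : Type*} [TopologicalSpace α] [CompactSpace α]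
    [QuasiSeparatedSpace α] : ∀ (k : ℕ) (V : Fin k → Set α), (∀ i, IsOpen (V i)) →
      (∀ i, IsCompact (V i)) → IsCompact (⋂ i, V i) ∧ IsOpen (⋂ i, V i) := by
  intro k
  induction k with
  | zero =>
    intro V _ _
    have : (⋂ i, V i) = Set.univ := by
      ext x
      simp only [Set.mem_iInter, Set.mem_univ, iff_true]
      intro i
      exact i.elim0
    rw [this]
    exact ⟨isCompact_univ, isOpen_univ⟩
  | succ k ih =>
    intro V hVo hVc
    obtain ⟨h1, h2⟩ := ih (fun i => V i.succ) (fun i => hVo _) (fun i => hVc _)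
    have : (⋂ i, V i) = V 0 ∩ ⋂ i : Fin k, V i.succ := by
      ext x
      simp only [Set.mem_iInter, Set.mem_inter_iff]
      constructor
      · intro h
        exact ⟨h 0, fun i => h i.succ⟩
      · rintro ⟨h0, hs⟩ i
        exact Fin.cases h0 hs i
    rw [this]
    exact ⟨QuasiSeparatedSpace.inter_isCompact _ _ (hVo 0) (hVc 0) h2 h1, (hVo 0).inter h2⟩

/-- **Chow's lemma** for a finite affine open cover whose intersection is dense. -/
theorem chowData_of_dense_inter {X S : Scheme.{u}} (f : X ⟶ S) [IsSeparated f]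
    [LocallyOfFiniteType f] [QuasiCompact f] [CompactSpace S] [QuasiSeparatedSpace S] {m : ℕ}
    (Ui : Fin (m + 1) → X.Opens) (hUi : ∀ i, IsAffineOpen (Ui i)) (hcov : ⨆ i, Ui i = ⊤)
    (hdense : Dense ((⨅ i, Ui i : X.Opens) : Set X)) : ChowData f := by
  classical
  have : CompactSpace X := QuasiCompact.compactSpace_of_compactSpace f
  have : QuasiSeparatedSpace X := quasiSeparatedSpace_of_quasiSeparated f
  let U : X.Opens := ⨅ i, Ui i
  have hU : ∀ i, U ≤ Ui i := fun i => iInf_le _ i
  have hUc : IsCompact (U : Set X) := by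
    have h1 := (isCompact_iInter_fin (α := X) (m + 1) (fun i => (Ui i : Set X))
      (fun i => (Ui i).isOpen) (fun i => (hUi i).isCompact)).1
    have h2 : (U : Set X) = ⋂ i, (Ui i : Set X) := Opens.coe_iInf _
    rw [h2]
    exact h1
  have himm := fun i => Chow5.exists_immersion_of_isAffineOpen f (Ui i) (hUi i)
  choose n φ hφimm hφ using himm
  obtain ⟨P, q, p, N, c, hc, hcq, hp, huniv⟩ := Chow4.exists_weak_product S m n
  have : IsProper q := by rw [← hcq]; infer_instance
  have : CompactSpace (U : Scheme.{u}) := isCompact_iff_compactSpace.mp hUc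
  have : QuasiCompact U.ι := inferInstance
  obtain ⟨g, hgq, hgp⟩ := huniv U (U.ι ≫ f) (fun i => X.homOfLE (hU i) ≫ φ i) (fun i => by
    rw [Category.assoc, hφ i, X.homOfLE_ι_assoc])
  have hg : U.ι ≫ f = g ≫ q := hgq.symm
  have hρ : IsImmersion (Chow2.ρ f q U g hg) :=
    Chow3.isImmersion_ρ f q U g hg Ui hU hcov (fun i => CohB1.ProjSpaceOver (n i) S)
      (fun i => CohB1.ProjSpaceOver.toBase (n i) S) p hp φ hφ hgp
  refine ⟨N, Chow2.X' f q U g hg, Chow2.π f q U g hg, Chow2.ρ f q U g hg ≫ c, inferInstance, ?_,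
    inferInstance, Chow2.surjective_π f q U g hg hdense⟩
  rw [Category.assoc, hcq, Chow2.π_f]

/-- `coprod.desc` of two proper morphisms is proper. -/
theorem isProper_coprod_desc {A B X : Scheme.{u}} (a : A ⟶ X) (b : B ⟶ X) [IsProper a]
    [IsProper b] : IsProper (coprod.desc a b) := by
  have h1 : IsProper (coprod.map a b) :=
    IsZariskiLocalAtTarget.coprodMap (P := @IsProper) a b inferInstance inferInstance
  have h2 : coprod.desc a b = coprod.map a b ≫ coprod.desc (𝟙 X) (𝟙 X) := by
    apply coprod.hom_ext <;> simp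
  rw [h2]
  infer_instance

end Groth.Agent.Lib.helper12.Chow8
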