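import Mathlib
import Groth.Agent.Lib.Helper12.Chow8
import Groth.Agent.Lib.Helper12.AmpleCoprod
import Groth.Agent.Lib.Helper12.AmplePow
import Groth.Agent.Lib.Helper12.VAmple6
import Groth.Agent.Lib.Helper28.TwistPn
import Groth.Agent.Lib.Helper19.ProjSpaceProper

/-
helper12: Chow's lemma, part 9 — an immersion of a coproduct `Y₁ ⨿ Y₂` of two schemes immersed in
projective spaces over `S` into one projective space over `S`.
-/

set_option autoImplicit false
universe u

open CategoryTheory CategoryTheory.Limits AlgebraicGeometry Opposite TopologicalSpace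

namespace Groth.Agent.Lib.helper12.Chow9

/-- `Spec ℤ` (in universe `u`). -/
noncomputable abbrev T : Scheme.{u} := Spec (CommRingCat.of (ULift.{u} ℤ))

/-- `P^a_ℤ`. -/
noncomputable abbrev Pn (a : ℕ) : Scheme.{u} := CohB1.ProjSpace a (ULift.{u} ℤ)

/-- `P^a_ℤ ⟶ Spec ℤ`. -/
noncomputable abbrev pn (a : ℕ) : Pn.{u} a ⟶ T.{u} := CohB1.ProjSpace.toSpec a (ULift.{u} ℤ)

/-- `P^a_ℤ ⨿ P^b_ℤ` immerses into some `P^N_ℤ`. -/
theorem exists_immersion_coprod_Z (a b : ℕ) :
    ∃ (N : ℕ) (c : Pn.{u} a ⨿ Pn.{u} b ⟶ Pn.{u} N), IsImmersion c ∧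
      c ≫ pn.{u} N = coprod.desc (pn.{u} a) (pn.{u} b) := by
  let gW : Pn.{u} a ⨿ Pn.{u} b ⟶ T.{u} := coprod.desc (pn.{u} a) (pn.{u} b)
  have h1 : LocallyOfFiniteType gW :=
    Groth.Agent.Lib.helper12.AmpleCoprod.locallyOfFiniteType_desc _ _
  have h2 : QuasiCompact gW := Groth.Agent.Lib.helper12.AmpleCoprod.quasiCompact_desc _ _
  let LW := Groth.Agent.Lib.helper12.AmpleCoprod.glueMod
    (Twist.twistProjSpace a (ULift.{u} ℤ) 1) (Twist.twistProjSpace b (ULift.{u} ℤ) 1)
  have ha : CohB1.IsAmple (Twist.twistProjSpace a (ULift.{u} ℤ) 1) := by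
    have := Groth.Agent.Lib.helper28.TwistPn.isAmple a (ULift.{u} ℤ) 1 one_pos
    simpa using this
  have hb : CohB1.IsAmple (Twist.twistProjSpace b (ULift.{u} ℤ) 1) := by
    have := Groth.Agent.Lib.helper28.TwistPn.isAmple b (ULift.{u} ℤ) 1 one_pos
    simpa using this
  have hLW : CohB1.IsAmple LW :=
    Groth.Agent.Lib.helper12.AmpleFinCover.isAmple_coprod LW
      (Groth.Agent.Lib.helper12.AmplePow.isAmple_of_iso
        (Groth.Agent.Lib.helper12.AmpleCoprod.pullbackInlGlueIso _ _).symm ha)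
      (Groth.Agent.Lib.helper12.AmplePow.isAmple_of_iso
        (Groth.Agent.Lib.helper12.AmpleCoprod.pullbackInrGlueIso _ _).symm hb)
  obtain ⟨N, i, hi, -, -⟩ :=
    Groth.Agent.Lib.helper12.VAmple6.isHQuasiProjective_of_isAmple gW hLW
  have hiso : IsIso (specULiftZIsTerminal.{u}.from T.{u}) := by
    rw [show specULiftZIsTerminal.{u}.from T.{u} = 𝟙 _ from specULiftZIsTerminal.hom_ext _ _]
    infer_instance
  have : IsIso (pullback.fst (pn.{u} N) (specULiftZIsTerminal.{u}.from T.{u})) := inferInstance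
  refine ⟨N, i ≫ pullback.fst (pn.{u} N) (specULiftZIsTerminal.{u}.from T.{u}), ?_,
    specULiftZIsTerminal.hom_ext _ _⟩
  have h3 : IsImmersion (pullback.fst (pn.{u} N) (specULiftZIsTerminal.{u}.from T.{u})) :=
    inferInstance
  exact @IsImmersion.comp _ _ _ i (pullback.fst (pn.{u} N) (specULiftZIsTerminal.{u}.from T.{u}))
    hi h3

/-- **Immersion of a coproduct**, stated with explicit pullbacks. -/
theorem exists_immersion_coprod_aux {S Y₁ Y₂ : Scheme.{u}} {a b : ℕ}
    (j₁ : Y₁ ⟶ pullback (pn.{u} a) (specULiftZIsTerminal.{u}.from S))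
    (j₂ : Y₂ ⟶ pullback (pn.{u} b) (specULiftZIsTerminal.{u}.from S))
    [IsImmersion j₁] [IsImmersion j₂] :
    ∃ (N : ℕ) (j : Y₁ ⨿ Y₂ ⟶ pullback (pn.{u} N) (specULiftZIsTerminal.{u}.from S)),
      IsImmersion j ∧
      j ≫ pullback.snd (pn.{u} N) (specULiftZIsTerminal.{u}.from S) =
        coprod.desc (j₁ ≫ pullback.snd (pn.{u} a) (specULiftZIsTerminal.{u}.from S))
          (j₂ ≫ pullback.snd (pn.{u} b) (specULiftZIsTerminal.{u}.from S)) := by
  obtain ⟨N, c, hc, hcN⟩ := exists_immersion_coprod_Z.{u} a b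
  let tS : S ⟶ T.{u} := specULiftZIsTerminal.{u}.from S
  let gW : Pn.{u} a ⨿ Pn.{u} b ⟶ T.{u} := coprod.desc (pn.{u} a) (pn.{u} b)
  let θ : pullback gW tS ⟶ pullback (pn.{u} N) tS :=
    pullback.map gW tS (pn.{u} N) tS c (𝟙 S) (𝟙 _) ((Category.comp_id _).trans hcN.symm)
      ((Category.comp_id _).trans (Category.id_comp _).symm)
  have hcomp : MorphismProperty.IsStableUnderComposition @IsImmersion.{u} :=
    (inferInstance : MorphismProperty.IsMultiplicative @IsImmersion.{u}).toIsStableUnderComposition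
  have hθ : IsImmersion θ :=
    MorphismProperty.pullbackMap (P := @IsImmersion) hc (inferInstance : IsImmersion (𝟙 S))
      hcN.symm (Category.id_comp _).symm
  let inlS : pullback (pn.{u} a) tS ⟶ pullback gW tS :=
    pullback.lift (pullback.fst (pn.{u} a) tS ≫ coprod.inl) (pullback.snd (pn.{u} a) tS)
      (by rw [Category.assoc, coprod.inl_desc, pullback.condition])
  let inrS : pullback (pn.{u} b) tS ⟶ pullback gW tS :=
    pullback.lift (pullback.fst (pn.{u} b) tS ≫ coprod.inr) (pullback.snd (pn.{u} b) tS)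
      (by rw [Category.assoc, coprod.inr_desc, pullback.condition])
  have sq₁ : IsPullback inlS (pullback.fst (pn.{u} a) tS) (pullback.fst gW tS) coprod.inl := by
    refine IsPullback.of_right ?_ (pullback.lift_fst _ _ _) (IsPullback.of_hasPullback gW tS).flip
    have e1 : inlS ≫ pullback.snd gW tS = pullback.snd (pn.{u} a) tS := pullback.lift_snd _ _ _
    have e2 : (coprod.inl : Pn.{u} a ⟶ _) ≫ gW = pn.{u} a := coprod.inl_desc _ _
    rw [e1, e2]
    exact (IsPullback.of_hasPullback (pn.{u} a) tS).flip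
  have sq₂ : IsPullback inrS (pullback.fst (pn.{u} b) tS) (pullback.fst gW tS) coprod.inr := by
    refine IsPullback.of_right ?_ (pullback.lift_fst _ _ _) (IsPullback.of_hasPullback gW tS).flip
    have e1 : inrS ≫ pullback.snd gW tS = pullback.snd (pn.{u} b) tS := pullback.lift_snd _ _ _
    have e2 : (coprod.inr : Pn.{u} b ⟶ _) ≫ gW = pn.{u} b := coprod.inr_desc _ _
    rw [e1, e2]
    exact (IsPullback.of_hasPullback (pn.{u} b) tS).flip
  have hcol : Nonempty (IsColimit (BinaryCofan.mk inlS inrS)) :=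
    ((BinaryCofan.isVanKampen_iff _).mp
      (FinitaryExtensive.vanKampen _ (coprodIsCoprod (Pn.{u} a) (Pn.{u} b)))
      (BinaryCofan.mk inlS inrS) (pullback.fst (pn.{u} a) tS) (pullback.fst (pn.{u} b) tS)
      (pullback.fst gW tS) (pullback.lift_fst _ _ _).symm (pullback.lift_fst _ _ _).symm).mpr
      ⟨sq₁, sq₂⟩
  have hiso : IsIso (coprod.desc inlS inrS) := by
    let e : pullback (pn.{u} a) tS ⨿ pullback (pn.{u} b) tS ≅ pullback gW tS :=
      IsColimit.coconePointUniqueUpToIso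
        (coprodIsCoprod (pullback (pn.{u} a) tS) (pullback (pn.{u} b) tS)) hcol.some
    have h : e.hom = coprod.desc inlS inrS := by
      apply coprod.hom_ext
      · refine Eq.trans ?_ (coprod.inl_desc _ _).symm
        exact IsColimit.comp_coconePointUniqueUpToIso_hom (coprodIsCoprod _ _) hcol.some
          ⟨WalkingPair.left⟩
      · refine Eq.trans ?_ (coprod.inr_desc _ _).symm
        exact IsColimit.comp_coconePointUniqueUpToIso_hom (coprodIsCoprod _ _) hcol.some
          ⟨WalkingPair.right⟩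
    rw [← h]; infer_instance
  have hmap : IsImmersion (coprod.map j₁ j₂) :=
    IsZariskiLocalAtTarget.coprodMap (P := @IsImmersion) j₁ j₂ inferInstance inferInstance
  have h4 : IsImmersion (coprod.desc inlS inrS) := inferInstance
  have h5 : IsImmersion (coprod.desc inlS inrS ≫ θ) := IsImmersion.comp _ _
  refine ⟨N, coprod.map j₁ j₂ ≫ coprod.desc inlS inrS ≫ θ, IsImmersion.comp _ _, ?_⟩
  have hθs : θ ≫ pullback.snd (pn.{u} N) tS = pullback.snd gW tS := by
    simp only [θ, pullback.map, pullback.lift_snd, Category.comp_id]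
  have h6 : (coprod.desc inlS inrS ≫ θ) ≫ pullback.snd (pn.{u} N) tS =
      coprod.desc (pullback.snd (pn.{u} a) tS) (pullback.snd (pn.{u} b) tS) := by
    rw [Category.assoc, hθs]
    apply coprod.hom_ext
    · rw [coprod.inl_desc_assoc, coprod.inl_desc]; exact pullback.lift_snd _ _ _
    · rw [coprod.inr_desc_assoc, coprod.inr_desc]; exact pullback.lift_snd _ _ _
  have h7 : (coprod.map j₁ j₂ ≫ coprod.desc inlS inrS ≫ θ) ≫ pullback.snd (pn.{u} N) tS =
      coprod.map j₁ j₂ ≫ (coprod.desc inlS inrS ≫ θ) ≫ pullback.snd (pn.{u} N) tS := by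
    simp only [Category.assoc]
  refine h7.trans ?_
  rw [h6]
  apply coprod.hom_ext
  · rw [coprod.inl_map_assoc, coprod.inl_desc, coprod.inl_desc]
  · rw [coprod.inr_map_assoc, coprod.inr_desc, coprod.inr_desc]

/-- **Immersion of a coproduct**: two schemes immersed in projective spaces over `S` have their
coproduct immersed in a projective space over `S`. -/
theorem exists_immersion_coprod {S Y₁ Y₂ : Scheme.{u}} {a b : ℕ}
    (j₁ : Y₁ ⟶ CohB1.ProjSpaceOver a S) (j₂ : Y₂ ⟶ CohB1.ProjSpaceOver b S)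
    [h₁ : IsImmersion j₁] [h₂ : IsImmersion j₂] :
    ∃ (N : ℕ) (j : Y₁ ⨿ Y₂ ⟶ CohB1.ProjSpaceOver N S), IsImmersion j ∧
      j ≫ CohB1.ProjSpaceOver.toBase N S =
        coprod.desc (j₁ ≫ CohB1.ProjSpaceOver.toBase a S)
          (j₂ ≫ CohB1.ProjSpaceOver.toBase b S) :=
  @exists_immersion_coprod_aux S Y₁ Y₂ a b j₁ j₂ h₁ h₂

end Groth.Agent.Lib.helper12.Chow9
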