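import Mathlib
import Groth.Agent.Lib.Helper12.Chow9

/-
helper12: Chow's lemma, part 10 — glueing Chow data along finite families of proper morphisms, and
Chow's lemma (weak form) for separated morphisms of finite type over a qcqs base, by induction on
the number of affine opens in a cover.
-/

set_option autoImplicit false
universe u

open CategoryTheory CategoryTheory.Limits AlgebraicGeometry Opposite TopologicalSpace

namespace Groth.Agent.Lib.helper12.Chow10

open Groth.Agent.Lib.helper12.Chow8

theorem chowData_of_comp_proper {X X₁ S : Scheme.{u}} (f : X ⟶ S) (p : X₁ ⟶ X) [IsProper p]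
    [Surjective p] (h : ChowData (p ≫ f)) : ChowData f := by
  obtain ⟨n, X', π, j, hj, hjπ, hπ, hs⟩ := h
  exact ⟨n, X', π ≫ p, j, hj, by rw [hjπ, Category.assoc], inferInstance, inferInstance⟩

theorem chowData_coprod_desc {X₁ X₂ S : Scheme.{u}} (f₁ : X₁ ⟶ S) (f₂ : X₂ ⟶ S)
    (h₁ : ChowData f₁) (h₂ : ChowData f₂) : ChowData (coprod.desc f₁ f₂) := by
  obtain ⟨n₁, X'₁, π₁, j₁, hj₁, hjπ₁, hπ₁, hs₁⟩ := h₁
  obtain ⟨n₂, X'₂, π₂, j₂, hj₂, hjπ₂, hπ₂, hs₂⟩ := h₂
  obtain ⟨N, j, hj, hjN⟩ := Groth.Agent.Lib.helper12.Chow9.exists_immersion_coprod j₁ j₂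
  refine ⟨N, X'₁ ⨿ X'₂, coprod.map π₁ π₂, j, hj, ?_,
    IsZariskiLocalAtTarget.coprodMap (P := @IsProper) π₁ π₂ hπ₁ hπ₂,
    IsZariskiLocalAtTarget.coprodMap (P := @Surjective) π₁ π₂ hs₁ hs₂⟩
  rw [hjN, hjπ₁, hjπ₂]
  apply coprod.hom_ext
  · rw [coprod.inl_desc, coprod.inl_map_assoc, coprod.inl_desc]
  · rw [coprod.inr_desc, coprod.inr_map_assoc, coprod.inr_desc]

/-- Glue a nonempty finite family of proper morphisms with Chow data into one. -/
theorem exists_proper_cover {X S : Scheme.{u}} (f : X ⟶ S) {κ : Type*} (Z : κ → Scheme.{u})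
    (p : ∀ k, Z k ⟶ X) (hp : ∀ k, IsProper (p k)) (s : Finset κ) (hs : s.Nonempty)
    (h : ∀ k ∈ s, ChowData (p k ≫ f)) :
    ∃ (T : Scheme.{u}) (t : T ⟶ X), IsProper t ∧ Set.range t = ⋃ k ∈ s, Set.range (p k) ∧
      ChowData (t ≫ f) := by
  classical
  induction hs using Finset.Nonempty.cons_induction with
  | singleton k =>
    refine ⟨Z k, p k, hp k, ?_, h k (Finset.mem_singleton_self k)⟩
    simp
  | cons k s hk hs ih =>
    obtain ⟨T, t, ht, hrange, hT⟩ := ih (fun j hj => h j (Finset.mem_cons_of_mem hj))
    have := hp k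
    refine ⟨Z k ⨿ T, coprod.desc (p k) t, isProper_coprod_desc _ _, ?_, ?_⟩
    · rw [Groth.Agent.Lib.helper12.AmpleFinCover.range_coprod_desc, hrange,
        Finset.cons_eq_insert, Finset.set_biUnion_insert]
    · have e : coprod.desc (p k) t ≫ f = coprod.desc (p k ≫ f) (t ≫ f) := by
        apply coprod.hom_ext
        · rw [coprod.inl_desc_assoc, coprod.inl_desc]
        · rw [coprod.inr_desc_assoc, coprod.inr_desc]
      rw [e]
      exact chowData_coprod_desc _ _ (h k (Finset.mem_cons_self k s)) hT

/-- Chow data for a finite jointly surjective family of proper morphisms give Chow data. -/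
theorem chowData_of_finite_family {X S : Scheme.{u}} (f : X ⟶ S) {κ : Type*}
    (Z : κ → Scheme.{u}) (p : ∀ k, Z k ⟶ X) (hp : ∀ k, IsProper (p k)) (s : Finset κ)
    (hsurj : ∀ x : X, ∃ k ∈ s, x ∈ Set.range (p k))
    (h : ∀ k ∈ s, ChowData (p k ≫ f)) : ChowData f := by
  by_cases hs : s.Nonempty
  · obtain ⟨T, t, ht, hrange, hT⟩ := exists_proper_cover f Z p hp s hs h
    have : Surjective t := by
      refine ⟨fun z => ?_⟩
      have hz : z ∈ Set.range t := by
        rw [hrange]
        obtain ⟨k, hk, hz⟩ := hsurj z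
        exact Set.mem_biUnion hk hz
      exact hz
    exact chowData_of_comp_proper f t hT
  · have hempty : IsEmpty X := by
      refine ⟨fun z => ?_⟩
      obtain ⟨k, hk, -⟩ := hsurj z
      exact hs ⟨k, hk⟩
    exact chowData_of_isEmpty f

/-- The preimage of a subset of the range under an inducing map with range `closure W` is dense
when ... : density of `ι ⁻¹' W` for a closed immersion `ι` with range `closure W`. -/
theorem dense_preimage_of_range_eq_closure {A B : Type*} [TopologicalSpace A] [TopologicalSpace B]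
    {i : A → B} (hi : Topology.IsInducing i) (W : Set B) (hr : Set.range i = closure W) :
    Dense (i ⁻¹' W) := by
  rw [hi.dense_iff]
  intro x
  have h1 : i '' (i ⁻¹' W) = W := by
    rw [Set.image_preimage_eq_inter_range, hr]
    exact Set.inter_eq_left.mpr subset_closure
  rw [h1, ← hr]
  exact Set.mem_range_self x

/-- **Chow's lemma** (weak form, no birationality) for a scheme with a finite affine open cover,
separated of finite type over a qcqs base; by induction on the number of affine opens. -/
theorem chowData_of_affine_cover : ∀ (k : ℕ) {X S : Scheme.{u}} (f : X ⟶ S) [IsSeparated f]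
    [LocallyOfFiniteType f] [QuasiCompact f] [CompactSpace S] [QuasiSeparatedSpace S]
    (Ui : Fin k → X.Opens) (_ : ∀ i, IsAffineOpen (Ui i)) (_ : ⨆ i, Ui i = ⊤), ChowData f := by
  intro k
  induction k with
  | zero =>
    intro X S f _ _ _ _ _ Ui hUi hcov
    have : IsEmpty X := by
      refine ⟨fun x => ?_⟩
      have hx : x ∈ (⨆ i, Ui i : X.Opens) := by rw [hcov]; trivial
      rw [Opens.mem_iSup] at hx
      obtain ⟨i, -⟩ := hx
      exact i.elim0
    exact chowData_of_isEmpty f
  | succ k ih =>
    intro X S f _ _ _ _ _ Ui hUi hcov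
    classical
    let U : X.Opens := ⨅ i, Ui i
    let C : Option (Fin (k + 1)) → Closeds X := fun o =>
      o.elim (Closeds.closure (U : Set X)) (fun i => (Ui i).compl)
    let p : ∀ o, (Scheme.IdealSheafData.vanishingIdeal (C o)).subscheme ⟶ X := fun o =>
      (Scheme.IdealSheafData.vanishingIdeal (C o)).subschemeι
    have hrange : ∀ o, Set.range (p o) = C o := fun o => by
      rw [Scheme.IdealSheafData.range_subschemeι,
        Scheme.IdealSheafData.coe_support_vanishingIdeal]
    have hmemU : ∀ x : X, x ∈ U ↔ ∀ i, x ∈ Ui i := by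
      intro x
      have h2 : (U : Set X) = ⋂ i, (Ui i : Set X) := Opens.coe_iInf _
      change x ∈ (U : Set X) ↔ _
      rw [h2, Set.mem_iInter]
      rfl
    refine chowData_of_finite_family f _ p (fun o => inferInstance) Finset.univ ?_ ?_
    · intro x
      by_cases hx : x ∈ U
      · refine ⟨none, Finset.mem_univ _, ?_⟩
        rw [hrange]
        exact subset_closure hx
      · rw [hmemU, not_forall] at hx
        obtain ⟨i, hi⟩ := hx
        refine ⟨some i, Finset.mem_univ _, ?_⟩
        rw [hrange]
        exact hi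
    · rintro (_ | i) -
      · -- the closure of the intersection: the dense case
        refine chowData_of_dense_inter (p none ≫ f) (fun i => p none ⁻¹ᵁ Ui i)
          (fun i => (hUi i).preimage _) ?_ ?_
        · rw [← Scheme.Hom.preimage_iSup, hcov]
          rfl
        · have h3 : ((⨅ i, p none ⁻¹ᵁ Ui i : Opens _) : Set _) = (p none) ⁻¹' (U : Set X) := by
            ext z
            rw [Opens.coe_iInf, Set.mem_iInter, Set.mem_preimage]
            exact (hmemU _).symm
          rw [h3]
          exact dense_preimage_of_range_eq_closure (p none).isEmbedding.isInducing _ (hrange none)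
      · -- the complement of `Ui i`: covered by the other `k` affine opens
        refine ih (p (some i) ≫ f) (fun j' => p (some i) ⁻¹ᵁ Ui (i.succAbove j'))
          (fun j' => (hUi _).preimage _) ?_
        rw [eq_top_iff]
        intro z _
        have hz : (p (some i)) z ∉ Ui i := by
          have h4 : (p (some i)) z ∈ Set.range (p (some i)) := Set.mem_range_self z
          rw [hrange] at h4
          exact h4
        have hz2 : (p (some i)) z ∈ (⨆ j, Ui j : X.Opens) := by rw [hcov]; trivial
        rw [Opens.mem_iSup] at hz2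
        obtain ⟨j, hj⟩ := hz2
        have hji : j ≠ i := fun h => hz (h ▸ hj)
        obtain ⟨j', rfl⟩ := Fin.exists_succAbove_eq hji
        exact Opens.mem_iSup.mpr ⟨j', hj⟩

end Groth.Agent.Lib.helper12.Chow10
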