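import Mathlib
import Groth.Agent.Lib.Helper12.AmpleBasis2
import Groth.Agent.Lib.Helper12.ProjUP3

/-!
# Local generators of modules (helper12), part 1 of the norm construction

* `rs`, `rf`: restriction of sections of a module / of functions, with `Γ(-, -)` types.
* `IsGen H U γ`: the local section `γ ∈ H(U)` is a basis of `H(W)` over `O(W)` for all opens `W ≤ U`.
* `genLocus_inf_eq_basicOpen_of_isGen`: if a global section `t` is `f • γ` over `U`, then `X_t ∩ U = D(f)`.
-/

set_option autoImplicit false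
universe u

open CategoryTheory AlgebraicGeometry Opposite TopologicalSpace

namespace Groth.Agent.Lib.Helper12.NormSec

open Groth.Agent.Lib.helper11.InvMod Groth.Agent.Lib.helper11.GenLocus
open Groth.Agent.Lib.helper11.IsoLocus
open Scheme.Modules

variable {X : Scheme.{u}}

/-- restriction of sections of a module. -/
noncomputable def rs (H : X.Modules) {W U : X.Opens} (h : W ≤ U) (γ : Γ(H, U)) : Γ(H, W) :=
  H.presheaf.map (homOfLE h).op γ

/-- restriction of functions. -/
noncomputable def rf {W U : X.Opens} (h : W ≤ U) (a : Γ(X, U)) : Γ(X, W) :=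
  X.presheaf.map (homOfLE h).op a

theorem rs_rs (H : X.Modules) {U₁ U₂ U₃ : X.Opens} (h₁ : U₂ ≤ U₁) (h₂ : U₃ ≤ U₂) (γ : Γ(H, U₁)) :
    rs H h₂ (rs H h₁ γ) = rs H (h₂.trans h₁) γ := by
  unfold rs
  rw [← ConcreteCategory.comp_apply, ← Functor.map_comp]
  rfl

theorem rf_rf {U₁ U₂ U₃ : X.Opens} (h₁ : U₂ ≤ U₁) (h₂ : U₃ ≤ U₂) (a : Γ(X, U₁)) :
    rf h₂ (rf h₁ a) = rf (h₂.trans h₁) a := by
  unfold rf
  rw [← ConcreteCategory.comp_apply, ← Functor.map_comp]
  rfl

theorem rs_self (H : X.Modules) {U : X.Opens} (γ : Γ(H, U)) : rs H le_rfl γ = γ := by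
  unfold rs
  have : (homOfLE (le_refl U)).op = 𝟙 (op U) := rfl
  rw [this, H.presheaf.map_id]
  rfl

theorem rf_self {U : X.Opens} (a : Γ(X, U)) : rf le_rfl a = a := by
  unfold rf
  have : (homOfLE (le_refl U)).op = 𝟙 (op U) := rfl
  rw [this, X.presheaf.map_id]
  rfl

theorem rs_smul (H : X.Modules) {W U : X.Opens} (h : W ≤ U) (a : Γ(X, U)) (γ : Γ(H, U)) :
    rs H h (a • γ) = rf h a • rs H h γ :=
  Groth.Agent.Lib.helper12.ProjUP3.map_smul' H h a γ

theorem rs_add (H : X.Modules) {W U : X.Opens} (h : W ≤ U) (γ γ' : Γ(H, U)) :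
    rs H h (γ + γ') = rs H h γ + rs H h γ' :=
  map_add (H.presheaf.map (homOfLE h).op).hom γ γ'

theorem rs_zero (H : X.Modules) {W U : X.Opens} (h : W ≤ U) : rs H h (0 : Γ(H, U)) = 0 :=
  map_zero (H.presheaf.map (homOfLE h).op).hom

theorem rf_mul {W U : X.Opens} (h : W ≤ U) (a b : Γ(X, U)) : rf h (a * b) = rf h a * rf h b :=
  map_mul (X.presheaf.map (homOfLE h).op).hom a b

theorem rf_one {W U : X.Opens} (h : W ≤ U) : rf h (1 : Γ(X, U)) = 1 :=
  map_one (X.presheaf.map (homOfLE h).op).hom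

theorem rf_pow {W U : X.Opens} (h : W ≤ U) (a : Γ(X, U)) (n : ℕ) : rf h (a ^ n) = rf h a ^ n :=
  map_pow (X.presheaf.map (homOfLE h).op).hom a n

theorem rs_sec {H : X.Modules} (s : Coh.structureModule X ⟶ H) {W U : X.Opens} (h : W ≤ U) :
    rs H h (sec s U) = sec s W :=
  res_sec s (homOfLE h)

theorem rs_app {H K : X.Modules} (φ : H ⟶ K) {W U : X.Opens} (h : W ≤ U) (γ : Γ(H, U)) :
    rs K h ((φ.app U).hom γ) = (φ.app W).hom (rs H h γ) := by
  have := φ.mapPresheaf.naturality (homOfLE h).op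
  exact (congrArg (fun ψ => ψ.hom γ) this).symm

/-- `γ ∈ H(U)` generates `H` over `U`: for every open `W ≤ U`, `a ↦ a • γ|_W` is bijective. -/
def IsGen (H : X.Modules) (U : X.Opens) (γ : Γ(H, U)) : Prop :=
  ∀ (W : X.Opens) (hW : W ≤ U), Function.Bijective (fun a : Γ(X, W) => a • rs H hW γ)

theorem IsGen.rs {H : X.Modules} {U : X.Opens} {γ : Γ(H, U)} (h : IsGen H U γ) {V : X.Opens}
    (hV : V ≤ U) : IsGen H V (rs H hV γ) := by
  intro W hW
  have := h W (hW.trans hV)
  simpa only [rs_rs] using this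

theorem isIso_app_iff_isUnit_of_bijective {H : X.Modules} (t : Coh.structureModule X ⟶ H)
    {W : X.Opens} (γ : Γ(H, W)) (hγ : Function.Bijective (fun a : Γ(X, W) => a • γ))
    (f : Γ(X, W)) (h : sec t W = f • γ) : IsIso (t.app W) ↔ IsUnit f := by
  rw [ConcreteCategory.isIso_iff_bijective]
  have key : ⇑(t.app W).hom = (fun a : Γ(X, W) => a • γ) ∘ (fun a : Γ(X, W) => a * f) := by
    funext a
    have e := app_apply t W (show Γ(X, W) from a)
    change (t.app W).hom a = ((show Γ(X, W) from a) * f) • γ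
    rw [mul_smul, ← h]
    exact e
  rw [IsUnit.isUnit_iff_mulRight_bijective, key]
  exact Function.Bijective.of_comp_iff' hγ _

/-- If a global section `t` of `H` equals `f • γ` over `U`, `γ` a generator of `H` over `U`, then
`X_t ∩ U = D(f)`. -/
theorem genLocus_inf_eq_basicOpen_of_isGen {H : X.Modules} (t : Coh.structureModule X ⟶ H)
    {U : X.Opens} (γ : Γ(H, U)) (hγ : IsGen H U γ) (f : Γ(X, U)) (h : sec t U = f • γ) :
    CohB1.genLocus H t ⊓ U = X.basicOpen f := by
  have hres : ∀ W : X.Opens, ∀ hW : W ≤ U, sec t W = rf hW f • rs H hW γ := by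
    intro W hW
    rw [← rs_sec t hW, h, rs_smul]
  have key : ∀ V : X.Opens, ∀ hV : V ≤ U,
      V ≤ CohB1.genLocus H t ↔ IsUnit (rf hV f) := by
    intro V hV
    rw [le_genLocus_iff, isIso_restrict_iff_app]
    constructor
    · intro hall
      exact (isIso_app_iff_isUnit_of_bijective t _ (hγ V hV) _ (hres V hV)).mp (hall V le_rfl)
    · intro hunit W hW
      rw [isIso_app_iff_isUnit_of_bijective t _ (hγ W (hW.trans hV)) _ (hres W (hW.trans hV))]
      rw [← rf_rf hV hW]
      exact hunit.map (X.presheaf.map (homOfLE hW).op).hom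
  refine le_antisymm ?_ ?_
  · have h1 := (key _ inf_le_right).mp inf_le_left
    have h2 := X.basicOpen_of_isUnit h1
    unfold rf at h2
    rw [Scheme.basicOpen_res] at h2
    exact inf_eq_left.mp h2
  · refine le_inf ?_ (X.basicOpen_le _)
    rw [key _ (X.basicOpen_le f)]
    exact RingedSpace.isUnit_res_basicOpen _ f

/-- sections of `H|_U` over `W'` are sections of `H` over the image of `W'`. -/
def castH (H : X.Modules) {U : X.Opens} {W' : U.toScheme.Opens} (m : Γ(H.restrict U.ι, W')) :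
    Γ(H, U.ι ''ᵁ W') := m

/-- functions on `W' ⊆ U` are functions on the image of `W'`. -/
def castX {U : X.Opens} {W' : U.toScheme.Opens} (a : Γ(U.toScheme, W')) : Γ(X, U.ι ''ᵁ W') := a

/-- the inverse of `castX`. -/
def castU {U : X.Opens} {W' : U.toScheme.Opens} (a : Γ(X, U.ι ''ᵁ W')) : Γ(U.toScheme, W') := a

theorem restrict_smul (H : X.Modules) (U : X.Opens) (V' : U.toScheme.Opens) (a : Γ(U.toScheme, V'))
    (m : Γ(H.restrict U.ι, V')) : castH H (a • m) = castX a • castH H m := by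
  change (((U.ι.appIso V').inv a : Γ(X, U.ι ''ᵁ V')) • castH H m) = _
  rw [Scheme.Opens.ι_appIso]
  rfl

theorem exists_image_eq {U W : X.Opens} (hW : W ≤ U) : ∃ W' : U.toScheme.Opens, U.ι ''ᵁ W' = W :=
  ⟨U.ι ⁻¹ᵁ W, by
    rw [Scheme.Hom.image_preimage_eq_opensRange_inf, Scheme.Opens.opensRange_ι]
    exact inf_eq_right.mpr hW⟩

/-- the generator given by a trivialisation `e : H|_U ≅ O_U`, over the image of `W'`. -/
noncomputable def trivGen {H : X.Modules} {U : X.Opens}
    (e : H.restrict U.ι ≅ Coh.structureModule (↑U : Scheme.{u})) (W' : U.toScheme.Opens) :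
    Γ(H, U.ι ''ᵁ W') :=
  castH H ((e.inv.app W').hom
    ((1 : Γ(U.toScheme, W')) : Γ(Coh.structureModule (↑U : Scheme.{u}), W')))

theorem smul_trivGen {H : X.Modules} {U : X.Opens}
    (e : H.restrict U.ι ≅ Coh.structureModule (↑U : Scheme.{u})) (W' : U.toScheme.Opens)
    (a : Γ(X, U.ι ''ᵁ W')) :
    a • trivGen e W' = castH H ((e.inv.app W').hom
      ((castU a : Γ(U.toScheme, W')) : Γ(Coh.structureModule (↑U : Scheme.{u}), W'))) := by
  have h1 := Hom.app_smul e.inv (castU a)
    ((1 : Γ(U.toScheme, W')) : Γ(Coh.structureModule (↑U : Scheme.{u}), W'))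
  have h3 : (e.inv.app W').hom
      ((castU a : Γ(U.toScheme, W')) : Γ(Coh.structureModule (↑U : Scheme.{u}), W')) =
      (castU a : Γ(U.toScheme, W')) • (e.inv.app W').hom
        ((1 : Γ(U.toScheme, W')) : Γ(Coh.structureModule (↑U : Scheme.{u}), W')) := by
    refine Eq.trans ?_ h1
    exact congrArg (e.inv.app W').hom (mul_one (castU a : Γ(U.toScheme, W'))).symm
  rw [h3, restrict_smul]
  rfl

theorem bijective_smul_trivGen {H : X.Modules} {U : X.Opens}
    (e : H.restrict U.ι ≅ Coh.structureModule (↑U : Scheme.{u})) (W' : U.toScheme.Opens) :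
    Function.Bijective (fun a : Γ(X, U.ι ''ᵁ W') => a • trivGen e W') := by
  have h1 : (fun a : Γ(X, U.ι ''ᵁ W') => a • trivGen e W') =
      fun a : Γ(X, U.ι ''ᵁ W') => castH H ((e.inv.app W').hom
      ((castU a : Γ(U.toScheme, W')) : Γ(Coh.structureModule (↑U : Scheme.{u}), W'))) := by
    funext a
    exact smul_trivGen e W' a
  rw [h1]
  exact (ConcreteCategory.isIso_iff_bijective (e.inv.app W')).mp inferInstance

theorem rs_trivGen {H : X.Modules} {U : X.Opens}
    (e : H.restrict U.ι ≅ Coh.structureModule (↑U : Scheme.{u})) {V' W' : U.toScheme.Opens}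
    (h : V' ≤ W') :
    rs H (U.ι.image_mono h) (trivGen e W') = trivGen e V' := by
  have h1 := rs_app e.inv h ((1 : Γ(U.toScheme, W')) : Γ(Coh.structureModule (↑U : Scheme.{u}), W'))
  have h2 : rs (Coh.structureModule (↑U : Scheme.{u})) h
      ((1 : Γ(U.toScheme, W')) : Γ(Coh.structureModule (↑U : Scheme.{u}), W')) =
      ((1 : Γ(U.toScheme, V')) : Γ(Coh.structureModule (↑U : Scheme.{u}), V')) :=
    map_one (U.toScheme.presheaf.map (homOfLE h).op).hom
  rw [h2] at h1
  exact h1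

theorem isGen_trivGen {H : X.Modules} {U : X.Opens}
    (e : H.restrict U.ι ≅ Coh.structureModule (↑U : Scheme.{u})) (W' : U.toScheme.Opens) :
    IsGen H (U.ι ''ᵁ W') (trivGen e W') := by
  intro V hV
  obtain ⟨V', rfl⟩ := exists_image_eq (hV.trans (U.ι_image_le W'))
  have hV' : V' ≤ W' := (Scheme.Hom.image_le_image_iff U.ι V' W').mp hV
  have : rs H hV (trivGen e W') = trivGen e V' := rs_trivGen e hV'
  rw [this]
  exact bijective_smul_trivGen e V'

/-- a trivialisation of `H` over `U` gives a generator over every smaller open. -/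
theorem exists_isGen_of_isTrivOn {H : X.Modules} {U : X.Opens} (hT : IsTrivOn H U)
    {W : X.Opens} (hW : W ≤ U) : ∃ γ : Γ(H, W), IsGen H W γ := by
  obtain ⟨e⟩ := hT
  obtain ⟨W', rfl⟩ := exists_image_eq hW
  exact ⟨trivGen e W', isGen_trivGen e W'⟩

/-- **Lemma G**: if `H` is trivial over `U` and `γ` is a basis of `H(W)` (`W ≤ U`), then `γ`
generates `H` over `W`. -/
theorem isGen_of_bijective {H : X.Modules} {U : X.Opens} (hT : IsTrivOn H U)
    {W : X.Opens} (hW : W ≤ U) (γ : Γ(H, W))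
    (hγ : Function.Bijective (fun a : Γ(X, W) => a • γ)) : IsGen H W γ := by
  obtain ⟨γ', hγ'⟩ := exists_isGen_of_isTrivOn hT hW
  have hb := hγ' W le_rfl
  rw [rs_self] at hb
  obtain ⟨u, hu⟩ := hb.2 γ
  obtain ⟨v, hv⟩ := hγ.2 γ'
  have hu' : u • γ' = γ := hu
  have hv' : v • γ = γ' := hv
  have huv : v * u = 1 := by
    apply hb.1
    change (v * u) • γ' = (1 : Γ(X, W)) • γ'
    rw [mul_smul, hu', hv', one_smul]
  have hunit : IsUnit u := IsUnit.of_mul_eq_one v (by rw [mul_comm]; exact huv)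
  intro V hV
  have h1 : rs H hV γ = rf hV u • rs H hV γ' := by rw [← hu', rs_smul]
  have h2 : (fun a : Γ(X, V) => a • rs H hV γ) =
      (fun a : Γ(X, V) => a • rs H hV γ') ∘ (fun a : Γ(X, V) => a * rf hV u) := by
    funext a
    change a • rs H hV γ = (a * rf hV u) • rs H hV γ'
    rw [h1, mul_smul]
  rw [h2]
  refine (hγ' V hV).comp ?_
  rw [← IsUnit.isUnit_iff_mulRight_bijective]
  exact hunit.map (X.presheaf.map (homOfLE hV).op).hom

end Groth.Agent.Lib.Helper12.NormSec
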