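import Mathlib
import Groth.Agent.Lib.Helper12.NormSec1
import Groth.Agent.Lib.Helper11.TensorASec2
import Groth.Agent.Lib.Helper12.TensorInv
import Groth.Agent.Lib.Helper12.AmpleBasis

/-!
# Local tensor powers of sections (helper12), part 2 of the norm construction

* `lpow M ε n ∈ (M^{⊗ n})(U)`: the `n`-th tensor power of a local section `ε ∈ M(U)`.
* `lpow_smul`, `lpow_rs`: scaling and restriction.
* `isGen_lpow`: if `M` is trivial on the affine open `U` with basis `ε`, then `ε^{⊗ n}` generates `M^{⊗ n}` on `U`.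
-/

set_option autoImplicit false
set_option linter.style.haveILetI false
set_option linter.unusedTactic false
universe u

open CategoryTheory AlgebraicGeometry Opposite TopologicalSpace TensorProduct

namespace Groth.Agent.Lib.Helper12.NormSec

open Groth.Agent.Lib.helper11.InvMod Groth.Agent.Lib.helper11.TensorASec
open Groth.Agent.Lib.helper12.TensorInv
open Scheme.Modules

variable {X : Scheme.{u}}

/-- the `n`-th tensor power of a local section. -/
noncomputable def lpow (M : X.Modules) {U : X.Opens} (ε : Γ(M, U)) :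
    (n : ℕ) → Γ(CohB1.tensorPow M n, U)
  | 0 => ((1 : Γ(X, U)) : Γ(Coh.structureModule X, U))
  | n + 1 => tm (CohB1.tensorPow M n) M U (lpow M ε n) ε

theorem lpow_smul (M : X.Modules) {U : X.Opens} (a : Γ(X, U)) (ε : Γ(M, U)) (n : ℕ) :
    lpow M (a • ε) n = a ^ n • lpow M ε n := by
  induction n with
  | zero =>
    change lpow M (a • ε) 0 = a ^ 0 • lpow M ε 0
    rw [pow_zero, one_smul]
    rfl
  | succ n ih =>
    change tm (CohB1.tensorPow M n) M U (lpow M (a • ε) n) (a • ε) =
      a ^ (n + 1) • tm (CohB1.tensorPow M n) M U (lpow M ε n) ε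
    rw [ih, tm_smul_left, tm_smul_right, smul_smul, pow_succ]

theorem lpow_rs (M : X.Modules) {W U : X.Opens} (h : W ≤ U) (ε : Γ(M, U)) (n : ℕ) :
    rs (CohB1.tensorPow M n) h (lpow M ε n) = lpow M (rs M h ε) n := by
  induction n with
  | zero =>
    exact map_one (X.presheaf.map (homOfLE h).op).hom
  | succ n ih =>
    change rs (CohB1.tensorMod (CohB1.tensorPow M n) M) h
      (tm (CohB1.tensorPow M n) M U (lpow M ε n) ε) =
      tm (CohB1.tensorPow M n) M W (lpow M (rs M h ε) n) (rs M h ε)
    rw [← ih]
    exact tm_res (CohB1.tensorPow M n) M (homOfLE h) (lpow M ε n) ε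

theorem bijective_smul_tmul {R M N : Type*} [CommRing R] [AddCommGroup M] [Module R M]
    [AddCommGroup N] [Module R N] (um : M) (un : N)
    (hm : Function.Bijective fun c : R => c • um) (hn : Function.Bijective fun c : R => c • un) :
    Function.Bijective fun c : R => c • (um ⊗ₜ[R] un) := by
  let eM : R ≃ₗ[R] M := LinearEquiv.ofBijective (LinearMap.toSpanSingleton R M um) hm
  let eN : R ≃ₗ[R] N := LinearEquiv.ofBijective (LinearMap.toSpanSingleton R N un) hn
  let E : R ≃ₗ[R] M ⊗[R] N := (TensorProduct.lid R R).symm.trans (TensorProduct.congr eM eN)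
  have hE : ∀ c : R, E c = c • (um ⊗ₜ[R] un) := by
    intro c
    change (TensorProduct.congr eM eN) ((TensorProduct.lid R R).symm c) = _
    rw [TensorProduct.lid_symm_apply, TensorProduct.congr_tmul]
    change ((1 : R) • um) ⊗ₜ[R] (c • un) = _
    rw [one_smul, TensorProduct.tmul_smul]
  have : (fun c : R => c • (um ⊗ₜ[R] un)) = E := by
    funext c
    exact (hE c).symm
  rw [this]
  exact E.bijective

theorem bijective_smul_lpow {M : X.Modules} (hM : PicF.IsInvertible M) {U : X.Opens}
    (hU : IsAffineOpen U) (ε : Γ(M, U)) (hε : Function.Bijective (fun a : Γ(X, U) => a • ε))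
    (n : ℕ) : Function.Bijective (fun a : Γ(X, U) => a • lpow M ε n) := by
  induction n with
  | zero =>
    have : (fun a : Γ(X, U) => (a • lpow M ε 0 : Γ(CohB1.tensorPow M 0, U))) = fun a => a := by
      funext a
      exact mul_one a
    rw [this]
    exact Function.bijective_id
  | succ n ih =>
    haveI : (CohB1.tensorPow M n).IsQuasicoherent :=
      Groth.Agent.Lib.helper12.AmpleBasis.isQuasicoherent_of_isInvertible
        (isInvertible_tensorPow hM n)
    haveI : M.IsQuasicoherent :=
      Groth.Agent.Lib.helper12.AmpleBasis.isQuasicoherent_of_isInvertible hM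
    have hc := bijective_cW (CohB1.tensorPow M n) M U hU
    have ht := bijective_smul_tmul (R := Γ(X, U)) (lpow M ε n) ε ih hε
    have : (fun a : Γ(X, U) => (a • lpow M ε (n + 1) : Γ(CohB1.tensorPow M (n + 1), U))) =
        (cW (CohB1.tensorPow M n) M U) ∘ (fun c : Γ(X, U) =>
          c • ((lpow M ε n : Γ(CohB1.tensorPow M n, U)) ⊗ₜ[Γ(X, U)] ε)) := by
      funext a
      change _ = cW (CohB1.tensorPow M n) M U (a • _)
      rw [LinearMap.map_smul]
      rfl
    rw [this]
    exact hc.comp ht

/-- `ε^{⊗ n}` generates `M^{⊗ n}` over the affine open `U` if `ε` is a basis of `M(U)` and `M` is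
trivial over `U`. -/
theorem isGen_lpow {M : X.Modules} (hM : PicF.IsInvertible M) {U : X.Opens}
    (hU : IsAffineOpen U) (hT : IsTrivOn M U) (ε : Γ(M, U))
    (hε : Function.Bijective (fun a : Γ(X, U) => a • ε)) (n : ℕ) :
    IsGen (CohB1.tensorPow M n) U (lpow M ε n) :=
  isGen_of_bijective (isTrivOn_tensorPow hT n) le_rfl _ (bijective_smul_lpow hM hU ε hε n)

end Groth.Agent.Lib.Helper12.NormSec
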