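import Mathlib
import Groth.Agent.Lib.Helper12.NormSec2
import Groth.Agent.Lib.Helper11.InvPullback
import Groth.Agent.Lib.Helper11.PullUnit2

/-!
# The unit `M ⟶ g_* g^* M` on sections (helper12), part 3 of the norm construction

* `eta g M U m ∈ (g^* M)(g⁻¹ U)`: the pullback of a local section; `eta_add`, `eta_smul`, `eta_rs`.
* `isGen_eta` **(P)**: if `M` is trivial on `U` and `ε` generates `M` over `W ≤ U`, then `eta ε` generates
  `g^* M` over `g⁻¹ W`.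
-/

set_option autoImplicit false
set_option linter.style.haveILetI false
set_option linter.unusedSimpArgs false
universe u
open CategoryTheory AlgebraicGeometry Opposite TopologicalSpace
open Scheme.Modules
namespace Groth.Agent.Lib.Helper12.NormSec
open Groth.Agent.Lib.helper11.InvMod Groth.Agent.Lib.helper11.InvPullback
open Groth.Agent.Lib.helper11.PullUnit
variable {X' X : Scheme.{u}} (g : X' ⟶ X) (M : X.Modules)

/-- the unit `M ⟶ g_* g^* M` on sections. -/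
noncomputable def eta (U : X.Opens) (m : Γ(M, U)) : Γ((Scheme.Modules.pullback g).obj M, g ⁻¹ᵁ U) :=
  (((pullbackPushforwardAdjunction g).unit.app M).app U).hom m

theorem eta_add (U : X.Opens) (m m' : Γ(M, U)) : eta g M U (m + m') = eta g M U m + eta g M U m' :=
  map_add _ m m'

theorem eta_smul (U : X.Opens) (a : Γ(X, U)) (m : Γ(M, U)) :
    eta g M U (a • m) = (g.app U a : Γ(X', g ⁻¹ᵁ U)) • eta g M U m :=
  Hom.app_smul ((pullbackPushforwardAdjunction g).unit.app M) a m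

theorem eta_rs {W U : X.Opens} (h : W ≤ U) (m : Γ(M, U)) :
    rs ((Scheme.Modules.pullback g).obj M) (g.preimage_mono h) (eta g M U m) = eta g M W (rs M h m) :=
  rs_app ((pullbackPushforwardAdjunction g).unit.app M) h m

variable {M} {U : X.Opens} (e : M.restrict U.ι ≅ Coh.structureModule (↑U : Scheme.{u}))

/-- auxiliary morphism `M ⟶ g_* (j_V)_* O_V`, `V = g⁻¹ U`, sending the generator to `1`. -/
noncomputable def muHom : M ⟶ (pushforward g).obj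
    ((pushforward (g ⁻¹ᵁ U).ι).obj (Coh.structureModule (↑(g ⁻¹ᵁ U) : Scheme.{u}))) :=
  (restrictAdjunction U.ι).unit.app M ≫ (pushforward U.ι).map (e.hom ≫ unitToPush (g ∣_ U)) ≫
    (pushRho g U).inv.app (Coh.structureModule (↑(g ⁻¹ᵁ U) : Scheme.{u}))

theorem muHom_trivGen (T' : U.toScheme.Opens) :
    ((muHom g e).app (U.ι ''ᵁ T')).hom (trivGen e T') =
      ((1 : Γ((↑(g ⁻¹ᵁ U) : Scheme.{u}), (g ⁻¹ᵁ U).ι ⁻¹ᵁ (g ⁻¹ᵁ (U.ι ''ᵁ T')))) :
        Γ(Coh.structureModule (↑(g ⁻¹ᵁ U) : Scheme.{u}), (g ⁻¹ᵁ U).ι ⁻¹ᵁ (g ⁻¹ᵁ (U.ι ''ᵁ T')))) := by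
  have hle : U.ι ⁻¹ᵁ (U.ι ''ᵁ T') ≤ T' := le_of_eq (U.ι.preimage_image_eq T')
  -- step 1: the unit of the restriction adjunction
  have h1 : (((restrictAdjunction U.ι).unit.app M).app (U.ι ''ᵁ T')).hom (trivGen e T') =
      castH M (U := U) (W' := U.ι ⁻¹ᵁ (U.ι ''ᵁ T')) (trivGen e (U.ι ⁻¹ᵁ (U.ι ''ᵁ T'))) := by
    rw [← rs_trivGen e hle]
    rfl
  -- step 2: `e.hom` sends the generator to `1`
  have h2 : ∀ W'' : U.toScheme.Opens, (e.hom.app W'').hom (trivGen e W'') =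
      ((1 : Γ(U.toScheme, W'')) : Γ(Coh.structureModule (↑U : Scheme.{u}), W'')) := by
    intro W''
    have := congrArg (fun φ : Coh.structureModule (↑U : Scheme.{u}) ⟶ Coh.structureModule (↑U : Scheme.{u}) =>
      (φ.app W'').hom ((1 : Γ(U.toScheme, W'')) : Γ(Coh.structureModule (↑U : Scheme.{u}), W''))) e.inv_hom_id
    exact this
  unfold muHom
  rw [Scheme.Modules.Hom.comp_app, Scheme.Modules.Hom.comp_app]
  change (((pushRho g U).inv.app (Coh.structureModule (↑(g ⁻¹ᵁ U) : Scheme.{u}))).app (U.ι ''ᵁ T')).hom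
    ((((pushforward U.ι).map (e.hom ≫ unitToPush (g ∣_ U))).app (U.ι ''ᵁ T')).hom
      ((((restrictAdjunction U.ι).unit.app M).app (U.ι ''ᵁ T')).hom (trivGen e T'))) = _
  rw [h1]
  change (((pushRho g U).inv.app (Coh.structureModule (↑(g ⁻¹ᵁ U) : Scheme.{u}))).app (U.ι ''ᵁ T')).hom
    (((unitToPush (g ∣_ U)).app (U.ι ⁻¹ᵁ (U.ι ''ᵁ T'))).hom
      ((e.hom.app (U.ι ⁻¹ᵁ (U.ι ''ᵁ T'))).hom (trivGen e (U.ι ⁻¹ᵁ (U.ι ''ᵁ T'))))) = _
  rw [h2, unitToPush_app_apply, map_one]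
  unfold pushRho
  simp only [Iso.trans_inv, Iso.symm_inv, NatTrans.comp_app, Scheme.Modules.Hom.comp_app]
  rw [pushforwardComp_hom_app_app, pushforwardComp_inv_app_app, pushforwardCongr_inv_app_app]
  simp only [Category.id_comp, Category.comp_id]
  exact map_one ((↑(g ⁻¹ᵁ U) : Scheme.{u}).presheaf.map _).hom

/-- the adjoint `g^* M ⟶ (j_V)_* O_V` of `muHom`. -/
noncomputable def muSharp : (Scheme.Modules.pullback g).obj M ⟶
    (pushforward (g ⁻¹ᵁ U).ι).obj (Coh.structureModule (↑(g ⁻¹ᵁ U) : Scheme.{u})) :=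
  ((pullbackPushforwardAdjunction g).homEquiv _ _).symm (muHom g e)

theorem muSharp_eta (T : X.Opens) (m : Γ(M, T)) :
    ((muSharp g e).app (g ⁻¹ᵁ T)).hom (eta g M T m) = ((muHom g e).app T).hom m := by
  have h : muHom g e = (pullbackPushforwardAdjunction g).unit.app M ≫
      (pushforward g).map (muSharp g e) := by
    have := (pullbackPushforwardAdjunction g).homEquiv_unit (f := muSharp g e)
    rw [← this]
    exact (Equiv.apply_symm_apply _ _).symm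
  rw [h]
  rfl

theorem pushforward_smul {Y Z : Scheme.{u}} (f : Y ⟶ Z) (K : Y.Modules) (T : Z.Opens)
    (b : Γ(Z, T)) (x : Γ((pushforward f).obj K, T)) :
    b • x = ((f.app T b : Γ(Y, f ⁻¹ᵁ T)) • (show Γ(K, f ⁻¹ᵁ T) from x) : Γ(K, f ⁻¹ᵁ T)) := rfl

theorem bijective_smul_eta_trivGen (T' : U.toScheme.Opens) :
    Function.Bijective (fun a : Γ(X', g ⁻¹ᵁ (U.ι ''ᵁ T')) =>
      a • eta g M (U.ι ''ᵁ T') (trivGen e T')) := by
  have hT : U.ι ''ᵁ T' ≤ U := U.ι_image_le T'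
  have hTV : g ⁻¹ᵁ (U.ι ''ᵁ T') ≤ g ⁻¹ᵁ U := g.preimage_mono hT
  obtain ⟨γ, hγ⟩ := exists_isGen_of_isTrivOn (IsTrivOn.pullback g ⟨e⟩) hTV
  have hb := hγ _ le_rfl
  rw [rs_self] at hb
  obtain ⟨c, hc⟩ := hb.2 (eta g M (U.ι ''ᵁ T') (trivGen e T'))
  have hc' : c • γ = eta g M (U.ι ''ᵁ T') (trivGen e T') := hc
  have h1 := muSharp_eta g e (U.ι ''ᵁ T') (trivGen e T')
  rw [muHom_trivGen, ← hc'] at h1
  have h2 := Hom.app_smul (muSharp g e) c γ
  rw [h1, pushforward_smul] at h2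
  have hunit' : IsUnit ((g ⁻¹ᵁ U).ι.app (g ⁻¹ᵁ (U.ι ''ᵁ T')) c) :=
    IsUnit.of_mul_eq_one _ h2.symm
  have hiso : IsIso ((g ⁻¹ᵁ U).ι.app (g ⁻¹ᵁ (U.ι ''ᵁ T'))) := by
    apply Scheme.Hom.isIso_app
    rw [Scheme.Opens.opensRange_ι]
    exact hTV
  have hunit : IsUnit c := by
    have hh := hunit'.map (inv ((g ⁻¹ᵁ U).ι.app (g ⁻¹ᵁ (U.ι ''ᵁ T')))).hom
    have hid : (inv ((g ⁻¹ᵁ U).ι.app (g ⁻¹ᵁ (U.ι ''ᵁ T')))).hom
        ((g ⁻¹ᵁ U).ι.app (g ⁻¹ᵁ (U.ι ''ᵁ T')) c) = c := by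
      have := congrArg (fun φ => φ.hom c) (IsIso.hom_inv_id ((g ⁻¹ᵁ U).ι.app (g ⁻¹ᵁ (U.ι ''ᵁ T'))))
      exact this
    rw [hid] at hh
    exact hh
  have hfun : (fun a : Γ(X', g ⁻¹ᵁ (U.ι ''ᵁ T')) => a • eta g M (U.ι ''ᵁ T') (trivGen e T')) =
      (fun a : Γ(X', g ⁻¹ᵁ (U.ι ''ᵁ T')) => a • γ) ∘ (fun a : Γ(X', g ⁻¹ᵁ (U.ι ''ᵁ T')) => a * c) := by
    funext a
    change a • eta g M (U.ι ''ᵁ T') (trivGen e T') = (a * c) • γ
    rw [← hc', mul_smul]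
  rw [hfun]
  refine hb.comp ?_
  rw [← IsUnit.isUnit_iff_mulRight_bijective]
  exact hunit

/-- **(P)**: the unit `M ⟶ g_* g^* M` sends local generators to local generators. -/
theorem isGen_eta (hT : IsTrivOn M U) {W : X.Opens} (hW : W ≤ U) (ε : Γ(M, W))
    (hε : IsGen M W ε) :
    IsGen ((Scheme.Modules.pullback g).obj M) (g ⁻¹ᵁ W) (eta g M W ε) := by
  obtain ⟨e⟩ := hT
  obtain ⟨W', rfl⟩ := exists_image_eq hW
  have hb := hε _ le_rfl
  rw [rs_self] at hb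
  have hb0 := bijective_smul_trivGen e W'
  obtain ⟨u, hu⟩ := hb0.2 ε
  obtain ⟨v, hv⟩ := hb.2 (trivGen e W')
  have hu' : u • trivGen e W' = ε := hu
  have hv' : v • ε = trivGen e W' := hv
  have huv : v * u = 1 := by
    apply hb0.1
    change (v * u) • trivGen e W' = (1 : Γ(X, U.ι ''ᵁ W')) • trivGen e W'
    rw [mul_smul, hu', hv', one_smul]
  have hunit : IsUnit u := IsUnit.of_mul_eq_one v (by rw [mul_comm]; exact huv)
  refine isGen_of_bijective (IsTrivOn.pullback g ⟨e⟩) (g.preimage_mono hW) _ ?_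
  have hfun : (fun a : Γ(X', g ⁻¹ᵁ (U.ι ''ᵁ W')) => a • eta g M (U.ι ''ᵁ W') ε) =
      (fun a : Γ(X', g ⁻¹ᵁ (U.ι ''ᵁ W')) => a • eta g M (U.ι ''ᵁ W') (trivGen e W')) ∘
        (fun a : Γ(X', g ⁻¹ᵁ (U.ι ''ᵁ W')) => a * g.app (U.ι ''ᵁ W') u) := by
    funext a
    change a • eta g M (U.ι ''ᵁ W') ε =
      (a * g.app (U.ι ''ᵁ W') u) • eta g M (U.ι ''ᵁ W') (trivGen e W')
    rw [← hu', eta_smul, mul_smul]
  rw [hfun]
  refine (bijective_smul_eta_trivGen g e W').comp ?_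
  rw [← IsUnit.isUnit_iff_mulRight_bijective]
  exact hunit.map (g.app (U.ι ''ᵁ W')).hom

end Groth.Agent.Lib.Helper12.NormSec
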