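import Mathlib
import Groth.Prelude.Def_MoreMor

set_option autoImplicit false
universe u

namespace Groth.Agent.Lib.helper12

open AlgebraicGeometry CategoryTheory Limits MorphismProperty

/-- A surjective closed immersion is a homeomorphism on underlying spaces. -/
theorem isHomeomorph_of_isClosedImmersion_of_surjective {X Y : Scheme.{u}} (i : X ⟶ Y)
    [IsClosedImmersion i] [Surjective i] : IsHomeomorph i :=
  isHomeomorph_iff_isEmbedding_surjective.mpr ⟨i.isClosedEmbedding.isEmbedding, i.surjective⟩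

/-- A surjective closed immersion is universally open. -/
theorem universallyOpen_of_isClosedImmersion_of_surjective {X Y : Scheme.{u}} (i : X ⟶ Y)
    [IsClosedImmersion i] [Surjective i] : UniversallyOpen i := by
  constructor
  intro X' Y' i₁ i₂ f' H
  have h1 : IsClosedImmersion f' := MorphismProperty.of_isPullback H.flip ‹_›
  have h2 : Surjective f' := MorphismProperty.of_isPullback H.flip ‹_›
  exact (isHomeomorph_of_isClosedImmersion_of_surjective f').isOpenMap

theorem isThickening_isHomeomorph {X Y : Scheme.{u}} {i : X ⟶ Y} (h : MoreMor.IsThickening i) :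
    IsHomeomorph i :=
  have := h.1
  have := h.2
  isHomeomorph_of_isClosedImmersion_of_surjective i

theorem isThickening_universallyOpen {X Y : Scheme.{u}} {i : X ⟶ Y} (h : MoreMor.IsThickening i) :
    UniversallyOpen i :=
  have := h.1
  have := h.2
  universallyOpen_of_isClosedImmersion_of_surjective i

/-- Thickenings are stable under base change. -/
theorem isThickening_of_isPullback {X Y X' Y' : Scheme.{u}} {i : X ⟶ Y} {i' : X' ⟶ Y'}
    {g' : X' ⟶ X} {g : Y' ⟶ Y} (H : IsPullback g' i' i g) (h : MoreMor.IsThickening i) :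
    MoreMor.IsThickening i' :=
  ⟨MorphismProperty.of_isPullback H h.1, MorphismProperty.of_isPullback H h.2⟩

theorem isThickening_comp {X Y Z : Scheme.{u}} {i : X ⟶ Y} {j : Y ⟶ Z}
    (hi : MoreMor.IsThickening i) (hj : MoreMor.IsThickening j) : MoreMor.IsThickening (i ≫ j) :=
  have := hi.1
  have := hi.2
  have := hj.1
  have := hj.2
  ⟨inferInstance, inferInstance⟩

theorem universallyOpen_of_comp_surjective {X Y Z : Scheme.{u}} (f : X ⟶ Y) (g : Y ⟶ Z)
    [UniversallyOpen (f ≫ g)] [Surjective f] : UniversallyOpen g := by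
  constructor
  intro X' Y' i₁ i₂ f' H
  have := UniversallyOpen.universally_isOpenMap _ _ _
    ((IsPullback.of_hasPullback i₁ f).paste_horiz H)
  have hs : Function.Surjective (pullback.fst i₁ f) :=
    (MorphismProperty.pullback_fst (P := @Surjective) _ _ ‹_›).1
  intro U hU
  have h2 := this _ (hU.preimage (pullback.fst i₁ f).continuous)
  have h3 : (⇑(pullback.fst i₁ f ≫ f') : _ → _) = ⇑f' ∘ ⇑(pullback.fst i₁ f) := by
    ext x; simp
  rwa [h3, Set.image_comp, Set.image_preimage_eq _ hs] at h2

theorem universallyInjective_of_comp_surjective {X Y Z : Scheme.{u}} (f : X ⟶ Y) (g : Y ⟶ Z)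
    [UniversallyInjective (f ≫ g)] [Surjective f] : UniversallyInjective g := by
  constructor
  intro X' Y' i₁ i₂ f' H
  have := UniversallyInjective.universally_injective _ _ _
    ((IsPullback.of_hasPullback i₁ f).paste_horiz H)
  have hs : Function.Surjective (pullback.fst i₁ f) :=
    (MorphismProperty.pullback_fst (P := @Surjective) _ _ ‹_›).1
  intro a b hab
  obtain ⟨a, rfl⟩ := hs a
  obtain ⟨b, rfl⟩ := hs b
  congr 1
  apply this
  simpa using hab

/-- If `g` is a monomorphism and `P` is stable under base change, `P (f ≫ g)` implies `P f`. -/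
theorem of_comp_mono (P : MorphismProperty Scheme.{u}) [P.IsStableUnderBaseChange]
    {X Y Z : Scheme.{u}} (f : X ⟶ Y) (g : Y ⟶ Z) [Mono g] (h : P (f ≫ g)) : P f :=
  MorphismProperty.of_postcomp (W := P)
      (W' := MorphismProperty.monomorphisms Scheme) f g (inferInstanceAs (Mono g)) h

theorem quasiCompact_of_comp_surjective {X Y Z : Scheme.{u}} (f : X ⟶ Y) (g : Y ⟶ Z)
    [QuasiCompact (f ≫ g)] [Surjective f] : QuasiCompact g := by
  constructor
  intro U hU hU'
  have h1 := QuasiCompact.isCompact_preimage (f := f ≫ g) U hU hU'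
  have h2 := h1.image f.continuous
  have h3 : (⇑(f ≫ g) : _ → _) = ⇑g ∘ ⇑f := by
    ext x; simp
  rwa [h3, Set.preimage_comp, Set.image_preimage_eq _ f.surjective] at h2

/-- If `f` is a surjective topological embedding and `f ≫ g` is quasi-separated, so is `g`. -/
theorem quasiSeparated_of_comp_surjective_isEmbedding {X Y Z : Scheme.{u}} (f : X ⟶ Y) (g : Y ⟶ Z)
    [QuasiSeparated (f ≫ g)] [Surjective f] (hf : Topology.IsEmbedding f) : QuasiSeparated g := by
  rw [HasAffineProperty.eq_targetAffineLocally (P := @QuasiSeparated)]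
  intro U
  show QuasiSeparatedSpace ↥(g ⁻¹ᵁ U.1)
  have h1 : IsQuasiSeparated (((f ≫ g) ⁻¹ᵁ U.1 : X.Opens) : Set X) :=
    (f ≫ g).isQuasiSeparated_preimage U.2.isQuasiSeparated
  have h2 := h1.image_of_isEmbedding hf
  have h3 : (⇑f '' (((f ≫ g) ⁻¹ᵁ U.1 : X.Opens) : Set X)) = ((g ⁻¹ᵁ U.1 : Y.Opens) : Set Y) := by
    have : (((f ≫ g) ⁻¹ᵁ U.1 : X.Opens) : Set X) = ⇑f ⁻¹' ((g ⁻¹ᵁ U.1 : Y.Opens) : Set Y) := by
      ext x; simp
    rw [this, Set.image_preimage_eq _ f.surjective]
  rw [h3] at h2
  exact (isQuasiSeparated_iff_quasiSeparatedSpace _ (g ⁻¹ᵁ U.1).2).mp h2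

end Groth.Agent.Lib.helper12
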