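import Mathlib
import Groth.Agent.Lib.Helper12.ProjUP4
import Groth.Agent.Lib.Helper28.QCohSupport
import Groth.Agent.Lib.Helper7.QCohAffineHom
import Groth.Prelude.Def_ProjUP

/-
helper12: global generation on affine schemes.

* `exists_smul_germ_of_mem_genLocus`: if `x ∈ X_σ` then every element of the stalk `L_x` is a multiple of the germ of `σ`.
* `span_eq_top_of_generatedBy`: on an affine scheme, global sections generating a quasi-coherent module (stalkwise)
  generate its module of global sections.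
-/

set_option autoImplicit false
universe u

open CategoryTheory CategoryTheory.Limits AlgebraicGeometry Opposite TopologicalSpace

namespace Groth.Agent.Lib.helper12.AffGen

open Groth.Agent.Lib.helper11.IsoLocus Groth.Agent.Lib.helper11.InvHom
open Groth.Agent.Lib.helper11.GenLocus Groth.Agent.Lib.helper11.InvMod
open Groth.Agent.Lib.helper12.ProjUP4
open Scheme.Modules

variable {X : Scheme.{u}}

theorem exists_smul_germ_of_mem_genLocus {L : X.Modules} (σ : Coh.structureModule X ⟶ L) (x : X)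
    (hx : x ∈ CohB1.genLocus L σ) (t : ToType (L.presheaf.stalk x)) :
    ∃ a : X.presheaf.stalk x, t = a • (L.presheaf.germ ⊤ x trivial).hom (sec σ ⊤) := by
  obtain ⟨W, hxW, m, rfl⟩ := L.presheaf.exists_germ_eq t
  let V : X.Opens := W ⊓ CohB1.genLocus L σ
  have hxV : x ∈ V := ⟨hxW, hx⟩
  have hV : V ≤ isoLocus σ := inf_le_right
  haveI : IsIso (σ.app V) := isIso_app_of_le_isoLocus σ hV
  have hbij := (ConcreteCategory.isIso_iff_bijective (σ.app V)).mp inferInstance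
  obtain ⟨a, ha⟩ := hbij.2 (L.presheaf.map (homOfLE (inf_le_left : V ≤ W)).op m)
  refine ⟨(X.presheaf.germ V x hxV).hom (show Γ(X, V) from a), ?_⟩
  have h1 : (L.presheaf.germ W x hxW).hom m =
      (L.presheaf.germ V x hxV).hom (L.presheaf.map (homOfLE (inf_le_left : V ≤ W)).op m) :=
    (TopCat.Presheaf.germ_res_apply L.presheaf (homOfLE (inf_le_left : V ≤ W)) x hxV m).symm
  have h2 : (L.presheaf.germ ⊤ x trivial).hom (sec σ ⊤) =
      (L.presheaf.germ V x hxV).hom (sec σ V) := by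
    rw [← res_sec σ (homOfLE (le_top : V ≤ ⊤))]
    exact (TopCat.Presheaf.germ_res_apply L.presheaf (homOfLE (le_top : V ≤ ⊤)) x hxV _).symm
  rw [h1, h2, ← ha]
  have h3 := app_apply σ V (show Γ(X, V) from a)
  rw [← germ_smul'' L V x hxV]
  exact congrArg _ h3

theorem exists_ratio_of_stalk [IsAffine X] (x : X) (a : X.presheaf.stalk x) :
    ∃ (g b : Γ(X, ⊤)), x ∈ X.basicOpen g ∧
      (X.presheaf.germ ⊤ x trivial).hom g * a = (X.presheaf.germ ⊤ x trivial).hom b := by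
  have hU := isAffineOpen_top X
  letI := X.presheaf.algebra_section_stalk (U := ⊤) ⟨x, trivial⟩
  haveI := hU.isLocalization_stalk ⟨x, trivial⟩
  obtain ⟨⟨b, g⟩, hbg⟩ := IsLocalization.surj (hU.primeIdealOf ⟨x, trivial⟩).asIdeal.primeCompl a
  refine ⟨g.1, b, ?_, ?_⟩
  · rw [Groth.Agent.Lib.helper28.mem_basicOpen_iff hU x trivial]
    exact g.2
  · rw [mul_comm]
    exact hbg

theorem exists_local_mem_span [IsAffine X] (L : X.Modules) {ι : Type*} (s : ι → Γ(L, ⊤)) (x : X)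
    (t : ToType (L.presheaf.stalk x))
    (ht : t ∈ Submodule.span (X.presheaf.stalk x)
      (Set.range fun i => (L.presheaf.germ ⊤ x trivial).hom (s i))) :
    ∃ (f : Γ(X, ⊤)) (m' : Γ(L, ⊤)), x ∈ X.basicOpen f ∧
      m' ∈ Submodule.span Γ(X, ⊤) (Set.range s) ∧
      (L.presheaf.germ ⊤ x trivial).hom m' = (X.presheaf.germ ⊤ x trivial).hom f • t := by
  induction ht using Submodule.span_induction with
  | mem t ht =>
    obtain ⟨i, rfl⟩ := ht
    refine ⟨1, s i, ?_, Submodule.subset_span ⟨i, rfl⟩, ?_⟩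
    · rw [Scheme.basicOpen_of_isUnit X isUnit_one]; trivial
    · rw [map_one, one_smul]
  | zero =>
    refine ⟨1, 0, ?_, Submodule.zero_mem _, ?_⟩
    · rw [Scheme.basicOpen_of_isUnit X isUnit_one]; trivial
    · rw [map_zero, smul_zero]
  | add t₁ t₂ _ _ h₁ h₂ =>
    obtain ⟨f₁, m₁, hx₁, hm₁, e₁⟩ := h₁
    obtain ⟨f₂, m₂, hx₂, hm₂, e₂⟩ := h₂
    refine ⟨f₁ * f₂, f₂ • m₁ + f₁ • m₂, ?_, ?_, ?_⟩
    · rw [Scheme.basicOpen_mul]; exact ⟨hx₁, hx₂⟩
    · exact Submodule.add_mem _ (Submodule.smul_mem _ _ hm₁) (Submodule.smul_mem _ _ hm₂)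
    · rw [map_add, germ_smul'', germ_smul'', e₁, e₂, map_mul, smul_add, smul_smul, smul_smul,
        mul_comm ((X.presheaf.germ ⊤ x trivial).hom f₂)]
  | smul a t _ h =>
    obtain ⟨f, m, hx, hm, e⟩ := h
    obtain ⟨g, b, hxg, hgb⟩ := exists_ratio_of_stalk x a
    refine ⟨g * f, b • m, ?_, Submodule.smul_mem _ _ hm, ?_⟩
    · rw [Scheme.basicOpen_mul]; exact ⟨hxg, hx⟩
    · rw [germ_smul'', e, ← hgb, map_mul, smul_smul, smul_smul]
      congr 1
      ring

/-- On an affine scheme, global sections which generate a quasi-coherent module stalkwise generate its module of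
global sections. -/
theorem span_eq_top_of_generatedBy [IsAffine X] (L : X.Modules) [L.IsQuasicoherent] {ι : Type*}
    (s : ι → Γ(L, ⊤)) (hs : ProjUP.GeneratedBy L s) :
    Submodule.span Γ(X, ⊤) (Set.range s) = ⊤ := by
  rw [eq_top_iff]
  intro m _
  have key : ∀ x : X, ∃ f : Γ(X, ⊤), x ∈ X.basicOpen f ∧
      f • m ∈ Submodule.span Γ(X, ⊤) (Set.range s) := by
    intro x
    have ht : (L.presheaf.germ ⊤ x trivial).hom m ∈ Submodule.span (X.presheaf.stalk x)
        (Set.range fun i => (L.presheaf.germ ⊤ x trivial).hom (s i)) := by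
      rw [hs x]; trivial
    obtain ⟨f, m', hxf, hm', e⟩ := exists_local_mem_span L s x _ ht
    have h0 : (L.presheaf.germ ⊤ x trivial).hom (f • m - m') = 0 := by
      rw [map_sub, germ_smul'', e, sub_self]
    obtain ⟨f₂, hxf₂, hf₂⟩ := Groth.Agent.Lib.helper28.exists_smul_eq_zero_of_germ_eq_zero L
      (isAffineOpen_top X) (f • m - m') x trivial h0
    refine ⟨f₂ * f, ?_, ?_⟩
    · rw [Scheme.basicOpen_mul]; exact ⟨hxf₂, hxf⟩
    · rw [smul_sub, sub_eq_zero] at hf₂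
      rw [mul_smul, hf₂]
      exact Submodule.smul_mem _ _ hm'
  choose f hxf hfm using key
  have hspan : Ideal.span (Set.range f) = ⊤ := by
    rw [← (isAffineOpen_top X).self_le_iSup_basicOpen_iff]
    intro x _
    exact Opens.mem_iSup.mpr ⟨⟨f x, x, rfl⟩, hxf x⟩
  have hall : ∀ a ∈ Ideal.span (Set.range f), a • m ∈ Submodule.span Γ(X, ⊤) (Set.range s) := by
    intro a ha
    induction ha using Submodule.span_induction with
    | mem a ha =>
      obtain ⟨x, rfl⟩ := ha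
      exact hfm x
    | zero => rw [zero_smul]; exact Submodule.zero_mem _
    | add a b _ _ ha hb => rw [add_smul]; exact Submodule.add_mem _ ha hb
    | smul c a _ ha => rw [smul_eq_mul, mul_smul]; exact Submodule.smul_mem _ _ ha
  have h1 := hall 1 (by rw [hspan]; trivial)
  rwa [one_smul] at h1

/-- On an affine scheme: a morphism out of a quasi-coherent module generated by finitely many global sections
`σ¹ i`, sending `σ¹ i` to prescribed sections `σ² i`, exists as soon as every relation among the `σ¹ i` also holds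
among the `σ² i`. -/
theorem exists_hom_of_relations [IsAffine X] (L₁ L₂ : X.Modules) [L₁.IsQuasicoherent] {k : ℕ}
    (σ₁ : Fin k → Γ(L₁, ⊤)) (σ₂ : Fin k → Γ(L₂, ⊤))
    (hspan : Submodule.span Γ(X, ⊤) (Set.range σ₁) = ⊤)
    (hker : ∀ c : Fin k → Γ(X, ⊤), ∑ i, c i • σ₁ i = 0 → ∑ i, c i • σ₂ i = 0) :
    ∃ φ : L₁ ⟶ L₂, ∀ c : Fin k → Γ(X, ⊤), φ.app ⊤ (∑ i, c i • σ₁ i) = ∑ i, c i • σ₂ i := by
  classical
  let π₁ : (Fin k → Γ(X, ⊤)) →ₗ[Γ(X, ⊤)] Γ(L₁, ⊤) := Fintype.linearCombination Γ(X, ⊤) σ₁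
  let π₂ : (Fin k → Γ(X, ⊤)) →ₗ[Γ(X, ⊤)] Γ(L₂, ⊤) := Fintype.linearCombination Γ(X, ⊤) σ₂
  have hsurj : Function.Surjective π₁ := by
    rw [← LinearMap.range_eq_top, Fintype.range_linearCombination]
    exact hspan
  have hle : LinearMap.ker π₁ ≤ LinearMap.ker π₂ := by
    intro c hc
    rw [LinearMap.mem_ker, Fintype.linearCombination_apply] at hc ⊢
    exact hker c hc
  let l : Γ(L₁, ⊤) →ₗ[Γ(X, ⊤)] Γ(L₂, ⊤) :=
    ((LinearMap.ker π₁).liftQ π₂ hle) ∘ₗ (π₁.quotKerEquivOfSurjective hsurj).symm.toLinearMap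
  have hl : ∀ c, l (π₁ c) = π₂ c := by
    intro c
    have h1 : (π₁.quotKerEquivOfSurjective hsurj).symm (π₁ c) = Submodule.Quotient.mk c := by
      rw [LinearEquiv.symm_apply_eq]
      rfl
    change ((LinearMap.ker π₁).liftQ π₂ hle) ((π₁.quotKerEquivOfSurjective hsurj).symm (π₁ c)) = _
    rw [h1]
    rfl
  obtain ⟨φ, hφ⟩ := Groth.Agent.Lib.helper7.QCohAffineHom.exists_hom_of_top L₁ L₂ l
  refine ⟨φ, fun c => ?_⟩
  rw [hφ]
  have h2 := hl c
  rw [Fintype.linearCombination_apply, Fintype.linearCombination_apply] at h2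
  exact h2

/-- On an affine scheme: two quasi-coherent modules generated by global sections `σ¹ i`, `σ² i` with the same
relations are isomorphic, by an isomorphism carrying `σ¹ i` to `σ² i`. -/
theorem exists_iso_of_relations [IsAffine X] (L₁ L₂ : X.Modules) [L₁.IsQuasicoherent]
    [L₂.IsQuasicoherent] {k : ℕ}
    (σ₁ : Fin k → Γ(L₁, ⊤)) (σ₂ : Fin k → Γ(L₂, ⊤))
    (hspan₁ : Submodule.span Γ(X, ⊤) (Set.range σ₁) = ⊤)
    (hspan₂ : Submodule.span Γ(X, ⊤) (Set.range σ₂) = ⊤)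
    (hker : ∀ c : Fin k → Γ(X, ⊤), ∑ i, c i • σ₁ i = 0 ↔ ∑ i, c i • σ₂ i = 0) :
    ∃ τ : L₁ ≅ L₂, ∀ i, τ.hom.app ⊤ (σ₁ i) = σ₂ i := by
  classical
  obtain ⟨φ, hφ⟩ := exists_hom_of_relations L₁ L₂ σ₁ σ₂ hspan₁ (fun c => (hker c).mp)
  obtain ⟨ψ, hψ⟩ := exists_hom_of_relations L₂ L₁ σ₂ σ₁ hspan₂ (fun c => (hker c).mpr)
  have hrep : ∀ {L : X.Modules} (σ : Fin k → Γ(L, ⊤)),
      Submodule.span Γ(X, ⊤) (Set.range σ) = ⊤ → ∀ m : Γ(L, ⊤), ∃ c : Fin k → Γ(X, ⊤),
        m = ∑ i, c i • σ i := by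
    intro L σ hσ m
    have hm : m ∈ Submodule.span Γ(X, ⊤) (Set.range σ) := by rw [hσ]; trivial
    rw [← Fintype.range_linearCombination, LinearMap.mem_range] at hm
    obtain ⟨c, hc⟩ := hm
    exact ⟨c, by rw [← hc, Fintype.linearCombination_apply]⟩
  have h1 : φ ≫ ψ = 𝟙 L₁ := by
    refine Groth.Agent.Lib.helper7.QCohAffineHom.hom_ext_of_top L₁ L₁ _ _ (fun m => ?_)
    obtain ⟨c, rfl⟩ := hrep σ₁ hspan₁ m
    change ψ.app ⊤ (φ.app ⊤ _) = _
    rw [hφ, hψ]
    rfl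
  have h2 : ψ ≫ φ = 𝟙 L₂ := by
    refine Groth.Agent.Lib.helper7.QCohAffineHom.hom_ext_of_top L₂ L₂ _ _ (fun m => ?_)
    obtain ⟨c, rfl⟩ := hrep σ₂ hspan₂ m
    change φ.app ⊤ (ψ.app ⊤ _) = _
    rw [hψ, hφ]
    rfl
  refine ⟨⟨φ, ψ, h1, h2⟩, fun i => ?_⟩
  have h3 := hφ (Pi.single i 1)
  simp only [Pi.single_apply, ite_smul, one_smul, zero_smul, Finset.sum_ite_eq',
    Finset.mem_univ, if_true] at h3
  exact h3

end Groth.Agent.Lib.helper12.AffGen
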