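import Mathlib

/-!
Henselian pairs (`HenselianRing`): Newton's method for nilpotent residuals, passing to smaller
ideals and to the radical.
-/

namespace Groth.Agent.Lib.helper12

open Polynomial

section

variable {R : Type*} [CommRing R]

theorem isUnit_eval_of_isNilpotent_sub (g : R[X]) (a b : R) (hab : IsNilpotent (b - a))
    (hu : IsUnit (g.eval a)) : IsUnit (g.eval b) := by
  obtain ⟨c, hc⟩ := Polynomial.sub_dvd_eval_sub b a g
  have hnil : IsNilpotent (g.eval b - g.eval a) := by
    rw [hc]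
    exact (Commute.all _ _).isNilpotent_mul_right hab
  have := hnil.isUnit_add_left_of_commute hu (Commute.all _ _)
  simpa using this

/-- Newton's method: a polynomial with nilpotent value and invertible derivative at `a`
has a root congruent to `a` modulo `(f a)`. -/
theorem newton_nilpotent_general (f : R[X]) (k : ℕ) :
    ∀ a : R, f.eval a ^ (2 ^ k) = 0 → IsUnit (f.derivative.eval a) →
      ∃ a' : R, f.IsRoot a' ∧ a' - a ∈ Ideal.span {f.eval a} := by
  induction k with
  | zero =>
    intro a h0 _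
    refine ⟨a, ?_, ?_⟩
    · simpa using h0
    · simp
  | succ k ih =>
    intro a h0 hu
    obtain ⟨u, hu'⟩ := hu.exists_right_inv
    set y : R := -(f.eval a * u) with hy
    obtain ⟨c, hc⟩ := Polynomial.exists_mul_sq_add_linear_part_eq_eval_add f a y
    have hym : y ∈ Ideal.span {f.eval a} := by
      rw [hy]
      exact Submodule.neg_mem _ (Ideal.mul_mem_right _ _ (Ideal.mem_span_singleton_self _))
    have hval : f.eval (a + y) = c * u ^ 2 * f.eval a ^ 2 := by
      rw [← hc, hy]
      have : c * (-(f.eval a * u)) ^ 2 + f.derivative.eval a * -(f.eval a * u) + f.eval a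
          = c * u ^ 2 * f.eval a ^ 2 + f.eval a * (1 - f.derivative.eval a * u) := by ring
      rw [this, hu', sub_self, mul_zero, add_zero]
    have h1 : f.eval (a + y) ^ (2 ^ k) = 0 := by
      rw [hval, mul_pow, ← pow_mul, ← pow_succ', h0, mul_zero]
    have hynil : IsNilpotent y := by
      rw [hy]
      exact ((Commute.all _ _).isNilpotent_mul_right ⟨_, h0⟩).neg
    have h3 : IsUnit (f.derivative.eval (a + y)) :=
      isUnit_eval_of_isNilpotent_sub _ a (a + y) (by simpa using hynil) hu
    obtain ⟨a', ha', ha''⟩ := ih (a + y) h1 h3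
    refine ⟨a', ha', ?_⟩
    have : a' - a = (a' - (a + y)) + y := by ring
    rw [this]
    refine (Ideal.span _).add_mem ?_ hym
    have hle : Ideal.span {f.eval (a + y)} ≤ Ideal.span {f.eval a} := by
      rw [Ideal.span_singleton_le_span_singleton, hval]
      exact ⟨c * u ^ 2 * f.eval a, by ring⟩
    exact hle ha''

theorem newton_isNilpotent (f : R[X]) (a : R) (hn : IsNilpotent (f.eval a))
    (hu : IsUnit (f.derivative.eval a)) :
    ∃ a' : R, f.IsRoot a' ∧ a' - a ∈ Ideal.span {f.eval a} := by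
  obtain ⟨n, hn⟩ := hn
  exact newton_nilpotent_general f n a (pow_eq_zero_of_le (Nat.lt_two_pow_self).le hn) hu

/-- If `I ≤ jacobson ⊥` then units modulo `I` are units. -/
theorem isUnit_of_isUnit_mk {I : Ideal R} (hI : I ≤ Ideal.jacobson ⊥) {x : R}
    (hx : IsUnit (Ideal.Quotient.mk I x)) : IsUnit x :=
  haveI := isLocalHom_of_le_jacobson_bot I hI
  isUnit_of_map_unit (Ideal.Quotient.mk I) x hx

theorem henselianRing_of_le {I J : Ideal R} (h : HenselianRing R I) (hJI : J ≤ I) :
    HenselianRing R J := by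
  refine ⟨hJI.trans h.jac, fun f hf a₀ h₁ h₂ => ?_⟩
  have hjac := h.jac
  have hu : IsUnit (f.derivative.eval a₀) := isUnit_of_isUnit_mk (hJI.trans hjac) h₂
  obtain ⟨a, ha, haI⟩ := h.is_henselian f hf a₀ (hJI h₁) (hu.map _)
  refine ⟨a, ha, ?_⟩
  obtain ⟨c, hc⟩ := Polynomial.exists_mul_sq_add_linear_part_eq_eval_add f a₀ (a - a₀)
  rw [add_sub_cancel, ha.eq_zero] at hc
  -- (a - a₀) * (c * (a - a₀) + f'(a₀)) = - f(a₀)
  have hunit : IsUnit (f.derivative.eval a₀ + c * (a - a₀)) := by
    have hmem : c * (a - a₀) ∈ Ideal.jacobson (⊥ : Ideal R) := hjac (Ideal.mul_mem_left _ _ haI)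
    obtain ⟨v, hv⟩ := hu.exists_right_inv
    have := Ideal.mem_jacobson_bot.1 hmem v
    have h2 : f.derivative.eval a₀ + c * (a - a₀)
        = f.derivative.eval a₀ * (c * (a - a₀) * v + 1) + c * (a - a₀) * (1 - f.derivative.eval a₀ * v) := by
      ring
    rw [h2, hv, sub_self, mul_zero, add_zero]
    exact hu.mul this
  obtain ⟨w, hw⟩ := hunit.exists_right_inv
  have hkey : a - a₀ = -(f.eval a₀) * w := by
    have e : (a - a₀) * (f.derivative.eval a₀ + c * (a - a₀)) = -(f.eval a₀) := by
      linear_combination hc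
    calc a - a₀ = (a - a₀) * ((f.derivative.eval a₀ + c * (a - a₀)) * w) := by rw [hw, mul_one]
      _ = ((a - a₀) * (f.derivative.eval a₀ + c * (a - a₀))) * w := by ring
      _ = -(f.eval a₀) * w := by rw [e]
  rw [hkey]
  exact Ideal.mul_mem_right _ _ (J.neg_mem h₁)

theorem radical_le_jacobson_bot {I : Ideal R} (hI : I ≤ Ideal.jacobson ⊥) :
    I.radical ≤ Ideal.jacobson ⊥ := by
  calc I.radical ≤ I.jacobson := Ideal.radical_le_jacobson
    _ ≤ (Ideal.jacobson ⊥).jacobson := Ideal.jacobson_mono hI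
    _ = Ideal.jacobson ⊥ := Ideal.jacobson_idem

theorem henselianRing_radical {I : Ideal R} (h : HenselianRing R I) :
    HenselianRing R I.radical := by
  have hjac := radical_le_jacobson_bot h.jac
  refine ⟨hjac, fun f hf a₀ h₁ h₂ => ?_⟩
  have hu : IsUnit (f.derivative.eval a₀) := isUnit_of_isUnit_mk hjac h₂
  -- work in R ⧸ I
  set π := Ideal.Quotient.mk I with hπ
  have hnil : IsNilpotent ((f.map π).eval (π a₀)) := by
    obtain ⟨n, hn⟩ := h₁
    refine ⟨n, ?_⟩
    rw [eval_map, eval₂_at_apply, ← map_pow]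
    exact Ideal.Quotient.eq_zero_iff_mem.2 hn
  have hu' : IsUnit ((f.map π).derivative.eval (π a₀)) := by
    rw [derivative_map, eval_map, eval₂_at_apply]
    exact hu.map π
  obtain ⟨b, hb, hb'⟩ := newton_isNilpotent (f.map π) (π a₀) hnil hu'
  obtain ⟨a₁, rfl⟩ := Ideal.Quotient.mk_surjective b
  -- a₁ - a₀ ∈ radical I
  have hrad : a₁ - a₀ ∈ I.radical := by
    obtain ⟨d, hd⟩ := Ideal.mem_span_singleton.1 hb'
    obtain ⟨d, rfl⟩ := Ideal.Quotient.mk_surjective d
    rw [eval_map, eval₂_at_apply, ← map_sub, ← map_mul, ← sub_eq_zero, ← map_sub,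
      Ideal.Quotient.eq_zero_iff_mem] at hd
    have h2 : f.eval a₀ * d ∈ I.radical := Ideal.mul_mem_right _ _ h₁
    have h3 : a₁ - a₀ - f.eval a₀ * d ∈ I.radical := Ideal.le_radical hd
    have := I.radical.add_mem h3 h2
    simpa using this
  have hfa₁ : f.eval a₁ ∈ I := by
    rw [← Ideal.Quotient.eq_zero_iff_mem, ← eval₂_at_apply, ← eval_map]
    exact hb
  have hu₁ : IsUnit (f.derivative.eval a₁) := by
    -- f'(a₁) - f'(a₀) ∈ radical I ≤ jacobson
    obtain ⟨c, hc⟩ := Polynomial.sub_dvd_eval_sub a₁ a₀ f.derivative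
    have hmem : f.derivative.eval a₁ - f.derivative.eval a₀ ∈ Ideal.jacobson (⊥ : Ideal R) := by
      rw [hc]
      exact hjac (Ideal.mul_mem_right _ _ hrad)
    obtain ⟨v, hv⟩ := hu.exists_right_inv
    have := Ideal.mem_jacobson_bot.1 hmem v
    have h2 : f.derivative.eval a₁ = f.derivative.eval a₀ *
        ((f.derivative.eval a₁ - f.derivative.eval a₀) * v + 1)
        + (f.derivative.eval a₁ - f.derivative.eval a₀) * (1 - f.derivative.eval a₀ * v) := by
      ring
    rw [h2, hv, sub_self, mul_zero, add_zero]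
    exact hu.mul this
  obtain ⟨a, ha, haI⟩ := h.is_henselian f hf a₁ hfa₁ (hu₁.map _)
  refine ⟨a, ha, ?_⟩
  have : a - a₀ = (a - a₁) + (a₁ - a₀) := by ring
  rw [this]
  exact I.radical.add_mem (Ideal.le_radical haI) hrad

theorem henselianRing_iff_radical {I : Ideal R} :
    HenselianRing R I ↔ HenselianRing R I.radical :=
  ⟨henselianRing_radical, fun h => henselianRing_of_le h Ideal.le_radical⟩

theorem henselianRing_of_radical_eq {I J : Ideal R} (hIJ : I.radical = J.radical)
    (h : HenselianRing R I) : HenselianRing R J :=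
  henselianRing_iff_radical.2 (hIJ ▸ henselianRing_radical h)

end

end Groth.Agent.Lib.helper12
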