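import Mathlib
import Groth.Prelude.Def_CohB1
import Groth.Agent.Lib.Helper28.ProjBaseChange
import Groth.Agent.Lib.Helper28.TwistPn
import Groth.Agent.Lib.Lead.ProjMapG

/-!
# `P^n_S` over an affine open of `S` is `Proj Γ(S,U)[T₀..T_n]` (helper12)

* `polyMap n φ`: `MvPolynomial.map φ` as a graded ring hom; `irrelevant_le_polyMap`, `isPushout_polyMap`,
  `isPullback_polyMap` (`P^n_{R'} = P^n_R ×_R R'`).
-/

set_option autoImplicit false
universe u

open CategoryTheory CategoryTheory.Limits AlgebraicGeometry Opposite TopologicalSpace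
open scoped HomogeneousIdeal

namespace Groth.Agent.Lib.helper12.PnLocal

section Ring

variable (n : ℕ) {R R' R'' : Type u} [CommRing R] [CommRing R'] [CommRing R'']

/-- `MvPolynomial.map φ` as a graded ring homomorphism. -/
noncomputable def polyMap (φ : R →+* R') : CohB1.polyGrading n R →+*ᵍ CohB1.polyGrading n R' where
  toRingHom := MvPolynomial.map φ
  map_mem := fun hx => MvPolynomial.IsHomogeneous.map hx φ

@[simp] theorem polyMap_apply (φ : R →+* R') (a : MvPolynomial (Fin (n + 1)) R) :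
    polyMap n φ a = MvPolynomial.map φ a := rfl

theorem irrelevant_le_polyMap (φ : R →+* R') :
    (CohB1.polyGrading n R')₊ ≤ ((CohB1.polyGrading n R)₊).map (polyMap n φ) := by
  change (HomogeneousIdeal.irrelevant (CohB1.polyGrading n R')).toIdeal ≤
    Ideal.map (polyMap n φ) (HomogeneousIdeal.irrelevant (CohB1.polyGrading n R)).toIdeal
  refine le_trans (Groth.Agent.Lib.helper28.TwistPn.irrelevant_le n R') ?_
  rw [Ideal.span_le]
  rintro _ ⟨k, rfl⟩
  have h1 : (MvPolynomial.X k : MvPolynomial (Fin (n + 1)) R') =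
      polyMap n φ (MvPolynomial.X k) := by
    rw [polyMap_apply, MvPolynomial.map_X]
  rw [h1]
  exact Ideal.mem_map_of_mem _ (HomogeneousIdeal.mem_irrelevant_of_mem _ Nat.one_pos
    (Groth.Agent.Lib.helper28.TwistPn.X_mem n R k))

theorem isPushout_polyMap (φ : R →+* R') :
    IsPushout (CommRingCat.ofHom φ)
      (CommRingCat.ofHom (MvPolynomial.C : R →+* MvPolynomial (Fin (n + 1)) R))
      (CommRingCat.ofHom (MvPolynomial.C : R' →+* MvPolynomial (Fin (n + 1)) R'))
      (CommRingCat.ofHom (MvPolynomial.map φ :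
        MvPolynomial (Fin (n + 1)) R →+* MvPolynomial (Fin (n + 1)) R')) := by
  let _ := φ.toAlgebra
  let _ : Algebra (MvPolynomial (Fin (n + 1)) R) (MvPolynomial (Fin (n + 1)) R') :=
    MvPolynomial.algebraMvPolynomial
  exact CommRingCat.isPushout_of_isPushout R R' (MvPolynomial (Fin (n + 1)) R)
    (MvPolynomial (Fin (n + 1)) R')

theorem C_mem_zero (r : R) :
    (MvPolynomial.C r : MvPolynomial (Fin (n + 1)) R) ∈ CohB1.polyGrading n R 0 :=
  MvPolynomial.isHomogeneous_C _ r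

/-- The structure morphism `P^n_R ⟶ Spec R`, with source written as a `Proj`. -/
noncomputable def toSpecP (R : Type u) [CommRing R] :
    Proj (CohB1.polyGrading n R) ⟶ Spec (CommRingCat.of R) :=
  CohB1.ProjSpace.toSpec n R

theorem toSpecP_eq :
    toSpecP n R = Proj.toSpecZero (CohB1.polyGrading n R) ≫
      Spec.map (CommRingCat.ofHom (algebraMap R (CohB1.polyGrading n R 0))) := rfl

theorem toSpec_eq :
    toSpecP n R = Proj.toSpecZero (CohB1.polyGrading n R) ≫
      Spec.map (CommRingCat.ofHom (Groth.Agent.Lib.helper28.AwayBaseChange.zeroHom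
        (CohB1.polyGrading n R) (MvPolynomial.C : R →+* MvPolynomial (Fin (n + 1)) R)
        (C_mem_zero n))) := rfl

/-- `P^n_{R'} = P^n_R ×_{Spec R} Spec R'`. -/
theorem isPullback_polyMap (φ : R →+* R') :
    IsPullback (Proj.map (polyMap n φ) (irrelevant_le_polyMap n φ))
      (toSpecP n R') (toSpecP n R)
      (Spec.map (CommRingCat.ofHom φ)) := by
  rw [toSpec_eq, toSpec_eq]
  exact Groth.Agent.Lib.helper28.ProjBaseChange.isPullback_proj_map
    (CohB1.polyGrading n R) (CohB1.polyGrading n R') φ MvPolynomial.C MvPolynomial.C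
    (polyMap n φ) (C_mem_zero n) (C_mem_zero n) (isPushout_polyMap n φ) (irrelevant_le_polyMap n φ)

theorem polyMap_comp (φ : R →+* R') (φ' : R' →+* R'') :
    (polyMap n φ').comp (polyMap n φ) = polyMap n (φ'.comp φ) := by
  refine GradedRingHom.ext fun a => ?_
  change MvPolynomial.map φ' (MvPolynomial.map φ a) = MvPolynomial.map (φ'.comp φ) a
  rw [MvPolynomial.map_map]

end Ring

section Sch

variable {𝒜σ ℬσ A B : Type u} [CommRing A] [CommRing B] [SetLike 𝒜σ A] [AddSubgroupClass 𝒜σ A]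
  [SetLike ℬσ B] [AddSubgroupClass ℬσ B] {𝒜 : ℕ → 𝒜σ} {ℬ : ℕ → ℬσ} [GradedRing 𝒜] [GradedRing ℬ]

theorem projMap_congr {φ φ' : 𝒜 →+*ᵍ ℬ} (h : φ = φ') (h1 : ℬ₊ ≤ (𝒜₊).map φ)
    (h2 : ℬ₊ ≤ (𝒜₊).map φ') : Proj.map φ h1 = Proj.map φ' h2 := by
  subst h
  rfl

end Sch

/-- The unique ring homomorphism `ULift ℤ →+* R`. -/
noncomputable def zHom (R : Type u) [CommRing R] : ULift.{u} ℤ →+* R :=
  (Int.castRingHom R).comp (ULift.ringEquiv : ULift.{u} ℤ ≃+* ℤ).toRingHom

theorem zHom_unique {R : Type u} [CommRing R] (f : ULift.{u} ℤ →+* R) : f = zHom R := by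
  ext x
  have hx : x = ((x.down : ℤ) : ULift.{u} ℤ) := by
    apply ULift.ext
    simp
  rw [hx, map_intCast, map_intCast]

variable (n : ℕ) (S : Scheme.{u})

/-- The projection `P^n_S ⟶ P^n_ℤ`. -/
noncomputable def pr1 : CohB1.ProjSpaceOver n S ⟶ Proj (CohB1.polyGrading n (ULift.{u} ℤ)) :=
  pullback.fst (CohB1.ProjSpace.toSpec n (ULift.{u} ℤ)) (specULiftZIsTerminal.from S)

/-- The structure morphism `P^n_S ⟶ S`. -/
noncomputable abbrev pr2 : CohB1.ProjSpaceOver n S ⟶ S := CohB1.ProjSpaceOver.toBase n S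

theorem isPullback_pr : IsPullback (pr1 n S) (pr2 n S) (toSpecP n (ULift.{u} ℤ))
    (specULiftZIsTerminal.from S) :=
  IsPullback.of_hasPullback (CohB1.ProjSpace.toSpec n (ULift.{u} ℤ))
    (specULiftZIsTerminal.from S)

variable {S}

theorem isPullback_restrict (U : S.Opens) (hU : IsAffineOpen U) :
    IsPullback ((pr2 n S ⁻¹ᵁ U).ι ≫ pr1 n S) (pr2 n S ∣_ U ≫ hU.isoSpec.hom)
      (toSpecP n (ULift.{u} ℤ)) (Spec.map (CommRingCat.ofHom (zHom Γ(S, U)))) := by
  have sq0 := isPullback_pr n S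
  have sq1 := (isPullback_morphismRestrict (pr2 n S) U).flip
  have sq2 := sq1.paste_horiz sq0
  refine sq2.of_iso (Iso.refl _) (Iso.refl _) hU.isoSpec (Iso.refl _) ?_ ?_ ?_ ?_
  · simp
  · simp
  · simp
  · exact specULiftZIsTerminal.hom_ext _ _

/-- `P^n_S` over an affine open `U` of `S` is `P^n_{Γ(S,U)}`. -/
noncomputable def theta (U : S.Opens) (hU : IsAffineOpen U) :
    ((pr2 n S ⁻¹ᵁ U : (CohB1.ProjSpaceOver n S).Opens) : Scheme.{u}) ≅
      Proj (CohB1.polyGrading n Γ(S, U)) :=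
  (isPullback_restrict n U hU).isoIsPullback _ _ (isPullback_polyMap n (zHom Γ(S, U)))

@[reassoc]
theorem theta_hom_map (U : S.Opens) (hU : IsAffineOpen U) :
    (theta n U hU).hom ≫ Proj.map (polyMap n (zHom Γ(S, U))) (irrelevant_le_polyMap n _) =
      (pr2 n S ⁻¹ᵁ U).ι ≫ pr1 n S :=
  IsPullback.isoIsPullback_hom_fst _ _ _ _

@[reassoc]
theorem theta_hom_toSpec (U : S.Opens) (hU : IsAffineOpen U) :
    (theta n U hU).hom ≫ toSpecP n Γ(S, U) = pr2 n S ∣_ U ≫ hU.isoSpec.hom :=
  IsPullback.isoIsPullback_hom_snd _ _ _ _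

/-- The restriction map `Γ(S,U) → Γ(S,V)`. -/
noncomputable abbrev resHom {U V : S.Opens} (hVU : V ≤ U) : Γ(S, U) →+* Γ(S, V) :=
  (S.presheaf.map (homOfLE hVU).op).hom

theorem toSpec_polyMap {R R' : Type u} [CommRing R] [CommRing R'] (φ : R →+* R') :
    Proj.map (polyMap n φ) (irrelevant_le_polyMap n φ) ≫ toSpecP n R =
      toSpecP n R' ≫ Spec.map (CommRingCat.ofHom φ) :=
  (isPullback_polyMap n φ).w

theorem theta_naturality {U V : S.Opens} (hU : IsAffineOpen U) (hV : IsAffineOpen V)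
    (hVU : V ≤ U) :
    (CohB1.ProjSpaceOver n S).homOfLE ((pr2 n S).preimage_mono hVU) ≫ (theta n U hU).hom =
      (theta n V hV).hom ≫ Proj.map (polyMap n (resHom hVU)) (irrelevant_le_polyMap n _) := by
  apply (isPullback_polyMap n (zHom Γ(S, U))).hom_ext
  · rw [Category.assoc, theta_hom_map, Scheme.homOfLE_ι_assoc, Category.assoc, ← Proj.map_comp,
      projMap_congr (show (polyMap n (resHom hVU)).comp (polyMap n (zHom Γ(S, U))) =
        polyMap n (zHom Γ(S, V)) by rw [polyMap_comp]; congr 1; exact zHom_unique _)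
        _ (irrelevant_le_polyMap n _), theta_hom_map]
  · rw [Category.assoc, theta_hom_toSpec, Category.assoc, toSpec_polyMap, theta_hom_toSpec_assoc,
      ← morphismRestrict_homOfLE_assoc, IsAffineOpen.isoSpec_hom, IsAffineOpen.isoSpec_hom]
    congr 1
    exact (Scheme.Opens.toSpecΓ_SpecMap_presheaf_map V U hVU).symm

end Groth.Agent.Lib.helper12.PnLocal
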