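import Mathlib
import Groth.Agent.Lib.Helper12.SpecPushout

/-!
# Ferrand pushouts, ring level (helper12)

Ring-level facts about the fibre product ring `Pr p q = B ×_A A'` (`p : A' → A` surjective):

* `IsAwayHom f r`: unbundled "`f` is a localization away from `r`".
* `mapPr`: functoriality of the fibre product ring.
* `isAwayHom_mapPr`: fibre products commute with localization away from an element.
* `isPushout_ring`: `A = A' ⊗_{Pr} B` (so the square of spectra is cartesian).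
* `φ₂_surjective`, `φ₂_isIntegral`.
-/

set_option autoImplicit false
universe u
open CategoryTheory AlgebraicGeometry Opposite TopologicalSpace PrimeSpectrum Limits

namespace Groth.Agent.Lib.Helper12.Ferrand1
open SpecPushout

/-- unbundled: `f : R → S` is a localization of `R` away from `r`. -/
structure IsAwayHom {R S : Type*} [CommRing R] [CommRing S] (f : R →+* S) (r : R) : Prop where
  unit : IsUnit (f r)
  surj : ∀ s : S, ∃ (n : ℕ) (a : R), s * f r ^ n = f a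
  eq : ∀ a b : R, f a = f b → ∃ n : ℕ, r ^ n * a = r ^ n * b

theorem isAwayHom_algebraMap {R S : Type*} [CommRing R] [CommRing S] [Algebra R S] (r : R)
    [IsLocalization.Away r S] : IsAwayHom (algebraMap R S) r where
  unit := IsLocalization.Away.algebraMap_isUnit r
  surj := IsLocalization.Away.surj r
  eq _ _ h := IsLocalization.Away.exists_of_eq r h

theorem IsAwayHom.isLocalization {R S : Type*} [CommRing R] [CommRing S] {f : R →+* S} {r : R}
    (h : IsAwayHom f r) : @IsLocalization.Away R _ r S _ f.toAlgebra := by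
  let _ := f.toAlgebra
  exact IsLocalization.Away.mk r h.unit h.surj h.eq

theorem IsAwayHom.isOpenImmersion {R S : Type u} [CommRing R] [CommRing S] {f : R →+* S} {r : R}
    (h : IsAwayHom f r) : IsOpenImmersion (Spec.map (CommRingCat.ofHom f)) := by
  let _ := f.toAlgebra
  have := h.isLocalization
  exact IsOpenImmersion.of_isLocalization (R := R) (S := S) r

theorem IsAwayHom.range_comap {R S : Type u} [CommRing R] [CommRing S] {f : R →+* S} {r : R}
    (h : IsAwayHom f r) : Set.range (comap f) = (PrimeSpectrum.basicOpen r : Set (PrimeSpectrum R)) := by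
  let _ := f.toAlgebra
  have := h.isLocalization
  exact PrimeSpectrum.localization_away_comap_range S r

section MapPr
variable {A A' B : Type u} [CommRing A] [CommRing A'] [CommRing B] (p : A' →+* A) (q : B →+* A)
  {A₁ A'₁ B₁ : Type u} [CommRing A₁] [CommRing A'₁] [CommRing B₁] (p₁ : A'₁ →+* A₁)
  (q₁ : B₁ →+* A₁)
  (α : A' →+* A'₁) (β : B →+* B₁) (γ : A →+* A₁)
  (hp : p₁.comp α = γ.comp p) (hq : q₁.comp β = γ.comp q)

include hp hq in
theorem mapPr_mem (x : Pr p q) : (β x.1.1, α x.1.2) ∈ Pr p₁ q₁ := by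
  rw [mem_Pr]
  have h1 : q₁ (β x.1.1) = γ (q x.1.1) := congrArg (fun f : B →+* A₁ => f x.1.1) hq
  have h2 : p₁ (α x.1.2) = γ (p x.1.2) := congrArg (fun f : A' →+* A₁ => f x.1.2) hp
  rw [h1, h2]
  exact congrArg γ x.2

/-- functoriality of the fibre product ring -/
def mapPr : Pr p q →+* Pr p₁ q₁ :=
  RingHom.codRestrict ((RingHom.prodMap β α).comp (Pr p q).subtype) (Pr p₁ q₁)
    (fun x => mapPr_mem p q p₁ q₁ α β γ hp hq x)

@[simp] theorem mapPr_fst (x : Pr p q) : (mapPr p q p₁ q₁ α β γ hp hq x).1.1 = β x.1.1 := rfl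
@[simp] theorem mapPr_snd (x : Pr p q) : (mapPr p q p₁ q₁ α β γ hp hq x).1.2 = α x.1.2 := rfl

theorem φ₁_mapPr (x : Pr p q) : φ₁ p₁ q₁ (mapPr p q p₁ q₁ α β γ hp hq x) = β (φ₁ p q x) := rfl
theorem φ₂_mapPr (x : Pr p q) : φ₂ p₁ q₁ (mapPr p q p₁ q₁ α β γ hp hq x) = α (φ₂ p q x) := rfl

theorem isAwayHom_mapPr (r : Pr p q) (hα : IsAwayHom α r.1.2) (hβ : IsAwayHom β r.1.1)
    (hγ : IsAwayHom γ (p r.1.2)) : IsAwayHom (mapPr p q p₁ q₁ α β γ hp hq) r := by
  have hq' : ∀ x, q₁ (β x) = γ (q x) := fun x => congrArg (fun f : B →+* A₁ => f x) hq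
  have hp' : ∀ x, p₁ (α x) = γ (p x) := fun x => congrArg (fun f : A' →+* A₁ => f x) hp
  have hr : q r.1.1 = p r.1.2 := r.2
  refine ⟨?_, ?_, ?_⟩
  · -- unit
    obtain ⟨ub, hub⟩ := hβ.unit
    obtain ⟨ua, hua⟩ := hα.unit
    have hw : q₁ (β r.1.1) = p₁ (α r.1.2) := by rw [hq', hp', hr]
    have h1 : q₁ ((ub⁻¹ : B₁ˣ) : B₁) * q₁ (β r.1.1) = 1 := by
      rw [← map_mul, ← hub, Units.inv_mul, map_one]
    have h2 : p₁ ((ua⁻¹ : A'₁ˣ) : A'₁) * p₁ (α r.1.2) = 1 := by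
      rw [← map_mul, ← hua, Units.inv_mul, map_one]
    have h3 : q₁ ((ub⁻¹ : B₁ˣ) : B₁) = p₁ ((ua⁻¹ : A'₁ˣ) : A'₁) := by
      calc q₁ ((ub⁻¹ : B₁ˣ) : B₁) = q₁ ((ub⁻¹ : B₁ˣ) : B₁) * (p₁ (α r.1.2) *
            p₁ ((ua⁻¹ : A'₁ˣ) : A'₁)) := by rw [mul_comm (p₁ (α r.1.2)), h2, mul_one]
        _ = (q₁ ((ub⁻¹ : B₁ˣ) : B₁) * q₁ (β r.1.1)) * p₁ ((ua⁻¹ : A'₁ˣ) : A'₁) := by
            rw [hw]; ring
        _ = p₁ ((ua⁻¹ : A'₁ˣ) : A'₁) := by rw [h1, one_mul]
    refine IsUnit.of_mul_eq_one (⟨(((ub⁻¹ : B₁ˣ) : B₁), ((ua⁻¹ : A'₁ˣ) : A'₁)), h3⟩ : Pr p₁ q₁) ?_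
    apply Subtype.ext
    apply Prod.ext
    · change β r.1.1 * ((ub⁻¹ : B₁ˣ) : B₁) = 1
      rw [← hub, Units.mul_inv]
    · change α r.1.2 * ((ua⁻¹ : A'₁ˣ) : A'₁) = 1
      rw [← hua, Units.mul_inv]
  · -- surj
    intro s
    obtain ⟨n₁, x₁, h₁⟩ := hβ.surj s.1.1
    obtain ⟨n₂, x₂, h₂⟩ := hα.surj s.1.2
    have hs : q₁ s.1.1 = p₁ s.1.2 := s.2
    -- common exponent
    have e₁ : s.1.1 * β r.1.1 ^ (n₁ + n₂) = β (x₁ * r.1.1 ^ n₂) := by
      rw [pow_add, ← mul_assoc, h₁, map_mul, map_pow]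
    have e₂ : s.1.2 * α r.1.2 ^ (n₁ + n₂) = α (x₂ * r.1.2 ^ n₁) := by
      rw [pow_add, mul_comm (α r.1.2 ^ n₁), ← mul_assoc, h₂, map_mul, map_pow]
    have hγe : γ (q (x₁ * r.1.1 ^ n₂)) = γ (p (x₂ * r.1.2 ^ n₁)) := by
      rw [← hq', ← hp', ← e₁, ← e₂, map_mul, map_mul, map_pow, map_pow, hs, hq', hp', hr]
    obtain ⟨l, hl⟩ := hγ.eq _ _ hγe
    have hmem : (r.1.1 ^ l * (x₁ * r.1.1 ^ n₂), r.1.2 ^ l * (x₂ * r.1.2 ^ n₁)) ∈ Pr p q := by
      rw [mem_Pr]
      change q (r.1.1 ^ l * (x₁ * r.1.1 ^ n₂)) = p (r.1.2 ^ l * (x₂ * r.1.2 ^ n₁))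
      rw [map_mul q, map_mul p, map_pow q, map_pow p, hr]
      exact hl
    refine ⟨n₁ + n₂ + l, ⟨_, hmem⟩, ?_⟩
    apply Subtype.ext
    apply Prod.ext
    · change s.1.1 * β r.1.1 ^ (n₁ + n₂ + l) = β (r.1.1 ^ l * (x₁ * r.1.1 ^ n₂))
      rw [pow_add, ← mul_assoc, e₁, map_mul β (r.1.1 ^ l), map_pow, mul_comm]
    · change s.1.2 * α r.1.2 ^ (n₁ + n₂ + l) = α (r.1.2 ^ l * (x₂ * r.1.2 ^ n₁))
      rw [pow_add, ← mul_assoc, e₂, map_mul α (r.1.2 ^ l), map_pow, mul_comm]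
  · -- eq
    intro x y hxy
    have h1 : β x.1.1 = β y.1.1 := congrArg (fun z : Pr p₁ q₁ => z.1.1) hxy
    have h2 : α x.1.2 = α y.1.2 := congrArg (fun z : Pr p₁ q₁ => z.1.2) hxy
    obtain ⟨n₁, hn₁⟩ := hβ.eq _ _ h1
    obtain ⟨n₂, hn₂⟩ := hα.eq _ _ h2
    refine ⟨n₁ + n₂, ?_⟩
    apply Subtype.ext
    apply Prod.ext
    · change r.1.1 ^ (n₁ + n₂) * x.1.1 = r.1.1 ^ (n₁ + n₂) * y.1.1
      rw [pow_add, mul_comm (r.1.1 ^ n₁), mul_assoc, hn₁, mul_assoc]
    · change r.1.2 ^ (n₁ + n₂) * x.1.2 = r.1.2 ^ (n₁ + n₂) * y.1.2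
      rw [pow_add, mul_assoc, hn₂, mul_assoc]

end MapPr

section Props
variable {A A' B : Type u} [CommRing A] [CommRing A'] [CommRing B] (p : A' →+* A) (q : B →+* A)

theorem φ₂_surjective (hq : Function.Surjective q) :
    Function.Surjective (φ₂ p q) := by
  intro a
  obtain ⟨b, hb⟩ := hq (p a)
  exact ⟨⟨(b, a), hb⟩, rfl⟩

variable {p} in
/-- `A` is the pushout `A' ⊗_{Pr} B` -/
theorem isPushout_ring (hp : Function.Surjective p) :
    IsPushout (CommRingCat.ofHom (φ₂ p q)) (CommRingCat.ofHom (φ₁ p q)) (CommRingCat.ofHom p)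
      (CommRingCat.ofHom q) := by
  have hw : CommRingCat.ofHom (φ₂ p q) ≫ CommRingCat.ofHom p =
      CommRingCat.ofHom (φ₁ p q) ≫ CommRingCat.ofHom q := by
    ext x
    exact (q_φ₁ p q x).symm
  have key : ∀ (s : PushoutCocone (CommRingCat.ofHom (φ₂ p q)) (CommRingCat.ofHom (φ₁ p q)))
      (a : A'), p a = 0 → s.inl.hom a = 0 := by
    intro s a ha
    have h1 := congrArg (fun f => f.hom (mkJ p q a ha)) s.condition
    simp only [CommRingCat.hom_comp, CommRingCat.hom_ofHom, RingHom.comp_apply, φ₂_mkJ,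
      φ₁_mkJ, map_zero] at h1
    exact h1
  refine ⟨⟨hw⟩, ⟨PushoutCocone.IsColimit.mk _
    (fun s => CommRingCat.ofHom (RingHom.liftOfSurjective p hp ⟨s.inl.hom, fun a ha =>
      RingHom.mem_ker.mpr (key s a (RingHom.mem_ker.mp ha))⟩))
    (fun s => ?_) (fun s => ?_) (fun s m hm₁ hm₂ => ?_)⟩⟩
  · ext a
    simp [RingHom.liftOfRightInverse_comp_apply]
  · ext b
    obtain ⟨a, ha⟩ := hp (q b)
    have h1 := congrArg (fun f => f.hom (⟨(b, a), ha.symm⟩ : Pr p q)) s.condition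
    simp only [CommRingCat.hom_comp, CommRingCat.hom_ofHom, RingHom.comp_apply] at h1
    change s.inl.hom a = s.inr.hom b at h1
    simp only [CommRingCat.hom_comp, CommRingCat.hom_ofHom, RingHom.comp_apply]
    rw [← ha, ← h1]
    exact RingHom.liftOfRightInverse_comp_apply _ _ _ _ a
  · ext c
    obtain ⟨a, rfl⟩ := hp c
    have h1 := congrArg (fun f => f.hom a) hm₁
    simp only [CommRingCat.hom_comp, CommRingCat.hom_ofHom, RingHom.comp_apply] at h1
    rw [h1]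
    symm
    exact RingHom.liftOfRightInverse_comp_apply _ _ _ _ a

variable {p} in
/-- the square of spectra is cartesian -/
theorem isPullback_Spec (hp : Function.Surjective p) :
    IsPullback (Spec.map (CommRingCat.ofHom p)) (Spec.map (CommRingCat.ofHom q))
      (Spec.map (CommRingCat.ofHom (φ₂ p q))) (Spec.map (CommRingCat.ofHom (φ₁ p q))) :=
  isPullback_SpecMap_of_isPushout _ _ _ _ (isPushout_ring q hp)

variable {p} in
/-- if `q` is integral so is the projection `Pr p q → A'` -/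
theorem φ₂_isIntegral (hp : Function.Surjective p) (hq : q.IsIntegral) : (φ₂ p q).IsIntegral := by
  intro a
  rcases subsingleton_or_nontrivial A' with h | h
  · exact ⟨Polynomial.X, Polynomial.monic_X, Subsingleton.elim _ _⟩
  have : Nontrivial (Pr p q) := (φ₂ p q).domain_nontrivial
  obtain ⟨f, hf, hfa⟩ := hq (p a)
  obtain ⟨g, hgf, -, hg⟩ := Polynomial.lifts_and_natDegree_eq_and_monic
    (Polynomial.mem_lifts_of_surjective (φ₁_surjective q hp) f) hf
  set ε := Polynomial.eval₂ (φ₂ p q) a g with hε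
  have hpε : p ε = 0 := by
    rw [hε, Polynomial.hom_eval₂]
    have : p.comp (φ₂ p q) = q.comp (φ₁ p q) := by
      ext x; exact (q_φ₁ p q x).symm
    rw [this, ← Polynomial.eval₂_map, hgf]
    exact hfa
  have hpεa : p (ε * a) = 0 := by rw [map_mul, hpε, zero_mul]
  refine ⟨g * Polynomial.X - Polynomial.C (mkJ p q (ε * a) hpεa), ?_, ?_⟩
  · apply (hg.mul Polynomial.monic_X).sub_of_left
    refine lt_of_le_of_lt Polynomial.degree_C_le ?_
    rw [Polynomial.degree_mul_X, Polynomial.degree_eq_natDegree hg.ne_zero]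
    exact_mod_cast Nat.succ_pos _
  · rw [Polynomial.eval₂_sub, Polynomial.eval₂_mul, Polynomial.eval₂_X, Polynomial.eval₂_C,
      φ₂_mkJ, sub_self]

end Props

end Groth.Agent.Lib.Helper12.Ferrand1
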