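import Mathlib
import Groth.Agent.Lib.Helper12.Ferrand1

/-!
# Ferrand pushouts: affine charts (helper12)

For a closed immersion `i : Z ⟶ X` and a morphism `j : Z ⟶ Y`, a *good pair* is a pair of affine opens
`U ⊆ X`, `V ⊆ Y` with `i⁻¹ U = j⁻¹ V`.  To a good pair `k` we attach the fibre product ring
`k.R = Γ(Y, V) ×_{Γ(Z, W)} Γ(X, U)` and the affine chart `Spec k.R`.

* `GoodPair`, `GoodPair.p`, `GoodPair.q`, `GoodPair.R`, `GoodPair.loc`
* `Refines`, `resR` (restriction maps), `isAwayHom_resR` (principal refinements are localizations)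
* the preorder of principal refinements and the chart functor `chart`.
-/

set_option autoImplicit false
universe u
open CategoryTheory AlgebraicGeometry Opposite TopologicalSpace PrimeSpectrum Limits

namespace Groth.Agent.Lib.Helper12.Ferrand
open SpecPushout Ferrand1

variable {X Y Z : Scheme.{u}} (i : Z ⟶ X) (j : Z ⟶ Y)

/-- a pair of affine opens of `X` and `Y` with the same preimage in `Z` -/
@[ext]
structure GoodPair where
  U : X.Opens
  V : Y.Opens
  hU : IsAffineOpen U
  hV : IsAffineOpen V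
  h : i ⁻¹ᵁ U = j ⁻¹ᵁ V

namespace GoodPair
variable {i j} (k : GoodPair i j)

/-- the common preimage in `Z` -/
abbrev W : Z.Opens := i ⁻¹ᵁ k.U

theorem W_le : k.W ≤ j ⁻¹ᵁ k.V := k.h.le

/-- restriction of functions from `U` to `W` -/
noncomputable def p : Γ(X, k.U) →+* Γ(Z, k.W) := (i.appLE k.U k.W le_rfl).hom
/-- restriction of functions from `V` to `W` -/
noncomputable def q : Γ(Y, k.V) →+* Γ(Z, k.W) := (j.appLE k.V k.W k.W_le).hom

theorem hW [IsAffineHom i] : IsAffineOpen k.W := k.hU.preimage i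

theorem p_surjective [IsClosedImmersion i] : Function.Surjective k.p := by
  have := i.app_surjective k.U k.hU
  rwa [Scheme.Hom.app_eq_appLE] at this

/-- the ring of the chart -/
noncomputable abbrev R : Subring (Γ(Y, k.V) × Γ(X, k.U)) := Pr k.p k.q

theorem basicOpen_p (a : Γ(X, k.U)) : Z.basicOpen (k.p a) = i ⁻¹ᵁ (X.basicOpen a) := by
  change Z.basicOpen (i.appLE k.U k.W le_rfl a) = _
  rw [Scheme.basicOpen_appLE]
  exact inf_eq_right.mpr (i.preimage_mono (X.basicOpen_le a))

theorem basicOpen_q (b : Γ(Y, k.V)) : Z.basicOpen (k.q b) = j ⁻¹ᵁ (Y.basicOpen b) := by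
  change Z.basicOpen (j.appLE k.V k.W k.W_le b) = _
  rw [Scheme.basicOpen_appLE]
  exact inf_eq_right.mpr ((j.preimage_mono (Y.basicOpen_le b)).trans k.h.ge)

/-- the principal good pair cut out by an element of the chart ring -/
noncomputable def loc (r : k.R) : GoodPair i j where
  U := X.basicOpen r.1.2
  V := Y.basicOpen r.1.1
  hU := k.hU.basicOpen _
  hV := k.hV.basicOpen _
  h := by
    rw [← basicOpen_p, ← basicOpen_q]
    exact congrArg Z.basicOpen r.2.symm

@[simp] theorem loc_U (r : k.R) : (k.loc r).U = X.basicOpen r.1.2 := rfl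
@[simp] theorem loc_V (r : k.R) : (k.loc r).V = Y.basicOpen r.1.1 := rfl

end GoodPair

variable {i j}

/-- `k` refines `k'`: both opens are smaller -/
def Refines (k k' : GoodPair i j) : Prop := k.U ≤ k'.U ∧ k.V ≤ k'.V

theorem Refines.refl (k : GoodPair i j) : Refines k k := ⟨le_rfl, le_rfl⟩
theorem Refines.trans {k k' k'' : GoodPair i j} (h : Refines k k') (h' : Refines k' k'') :
    Refines k k'' := ⟨h.1.trans h'.1, h.2.trans h'.2⟩

theorem Refines.W_le {k k' : GoodPair i j} (h : Refines k k') : k.W ≤ k'.W := i.preimage_mono h.1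

theorem refines_loc (k : GoodPair i j) (r : k.R) : Refines (k.loc r) k :=
  ⟨X.basicOpen_le _, Y.basicOpen_le _⟩

section Res
variable {k k' : GoodPair i j} (h : Refines k k')

/-- restriction `Γ(X, U') → Γ(X, U)` -/
noncomputable def resA : Γ(X, k'.U) →+* Γ(X, k.U) := (X.presheaf.map (homOfLE h.1).op).hom
/-- restriction `Γ(Y, V') → Γ(Y, V)` -/
noncomputable def resB : Γ(Y, k'.V) →+* Γ(Y, k.V) := (Y.presheaf.map (homOfLE h.2).op).hom
/-- restriction `Γ(Z, W') → Γ(Z, W)` -/
noncomputable def resC : Γ(Z, k'.W) →+* Γ(Z, k.W) := (Z.presheaf.map (homOfLE h.W_le).op).hom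

theorem p_resA : k.p.comp (resA h) = (resC h).comp k'.p := by
  have : X.presheaf.map (homOfLE h.1).op ≫ i.appLE k.U k.W le_rfl =
      i.appLE k'.U k'.W le_rfl ≫ Z.presheaf.map (homOfLE h.W_le).op := by
    rw [Scheme.Hom.map_appLE, Scheme.Hom.appLE_map]
  exact congrArg CommRingCat.Hom.hom this

theorem q_resB : k.q.comp (resB h) = (resC h).comp k'.q := by
  have : Y.presheaf.map (homOfLE h.2).op ≫ j.appLE k.V k.W k.W_le =
      j.appLE k'.V k'.W k'.W_le ≫ Z.presheaf.map (homOfLE h.W_le).op := by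
    rw [Scheme.Hom.map_appLE, Scheme.Hom.appLE_map]
  exact congrArg CommRingCat.Hom.hom this

/-- restriction of chart rings -/
noncomputable def resR : k'.R →+* k.R :=
  mapPr k'.p k'.q k.p k.q (resA h) (resB h) (resC h) (p_resA h) (q_resB h)

@[simp] theorem resR_fst (x : k'.R) : (resR h x).1.1 = resB h x.1.1 := rfl
@[simp] theorem resR_snd (x : k'.R) : (resR h x).1.2 = resA h x.1.2 := rfl

theorem basicOpen_resA (a : Γ(X, k'.U)) : X.basicOpen (resA h a) = k.U ⊓ X.basicOpen a :=
  Scheme.basicOpen_res _ _ _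

theorem basicOpen_resB (b : Γ(Y, k'.V)) : Y.basicOpen (resB h b) = k.V ⊓ Y.basicOpen b :=
  Scheme.basicOpen_res _ _ _

end Res

theorem resR_id (k : GoodPair i j) : resR (Refines.refl k) = RingHom.id _ := by
  ext x
  · change (Y.presheaf.map (homOfLE le_rfl).op).hom x.1.1 = x.1.1
    have : (homOfLE (le_refl k.V)).op = 𝟙 _ := rfl
    rw [this, Y.presheaf.map_id]; rfl
  · change (X.presheaf.map (homOfLE le_rfl).op).hom x.1.2 = x.1.2
    have : (homOfLE (le_refl k.U)).op = 𝟙 _ := rfl
    rw [this, X.presheaf.map_id]; rfl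

theorem resR_comp {k k' k'' : GoodPair i j} (h : Refines k k') (h' : Refines k' k'') :
    (resR h).comp (resR h') = resR (h.trans h') := by
  ext x
  · change (Y.presheaf.map (homOfLE h.2).op).hom ((Y.presheaf.map (homOfLE h'.2).op).hom x.1.1) =
      (Y.presheaf.map (homOfLE (h.trans h').2).op).hom x.1.1
    rw [← CommRingCat.comp_apply, ← Y.presheaf.map_comp]; rfl
  · change (X.presheaf.map (homOfLE h.1).op).hom ((X.presheaf.map (homOfLE h'.1).op).hom x.1.2) =
      (X.presheaf.map (homOfLE (h.trans h').1).op).hom x.1.2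
    rw [← CommRingCat.comp_apply, ← X.presheaf.map_comp]; rfl

/-- restriction to a basic open of an affine open is a localization -/
theorem isAwayHom_res {S : Scheme.{u}} {U : S.Opens} (hU : IsAffineOpen U) (f : Γ(S, U))
    (O : S.Opens) (hO : O = S.basicOpen f) (e : O ≤ U) :
    IsAwayHom (S.presheaf.map (homOfLE e).op).hom f := by
  subst hO
  have := hU.isLocalization_basicOpen f
  exact isAwayHom_algebraMap f

section Away
variable [IsClosedImmersion i]

/-- principal refinements induce localizations of chart rings -/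
theorem isAwayHom_resR {k k' : GoodPair i j} (h : Refines k k') (r : k'.R)
    (hU : k.U = X.basicOpen r.1.2) (hV : k.V = Y.basicOpen r.1.1) : IsAwayHom (resR h) r := by
  refine isAwayHom_mapPr _ _ _ _ _ _ _ _ _ r ?_ ?_ ?_
  · exact isAwayHom_res k'.hU r.1.2 k.U hU h.1
  · exact isAwayHom_res k'.hV r.1.1 k.V hV h.2
  · refine isAwayHom_res k'.hW (k'.p r.1.2) k.W ?_ h.W_le
    rw [GoodPair.basicOpen_p, ← hU]

end Away

/-- `k` is a principal refinement of `k'` -/
def PLE (k k' : GoodPair i j) : Prop :=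
  ∃ r : k'.R, k.U = X.basicOpen r.1.2 ∧ k.V = Y.basicOpen r.1.1

theorem PLE.refines {k k' : GoodPair i j} (h : PLE k k') : Refines k k' := by
  obtain ⟨r, hU, hV⟩ := h
  exact ⟨hU ▸ X.basicOpen_le _, hV ▸ Y.basicOpen_le _⟩

theorem PLE.refl (k : GoodPair i j) : PLE k k :=
  ⟨1, (X.basicOpen_one).symm, (Y.basicOpen_one).symm⟩

theorem ple_loc (k : GoodPair i j) (r : k.R) : PLE (k.loc r) k := ⟨r, rfl, rfl⟩

theorem PLE.trans [IsClosedImmersion i] {k k' k'' : GoodPair i j} (h : PLE k k') (h' : PLE k' k'') :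
    PLE k k'' := by
  obtain ⟨r, hU, hV⟩ := h
  obtain ⟨r', hU', hV'⟩ := id h'
  have hloc := isAwayHom_resR h'.refines r' hU' hV'
  obtain ⟨n, r₀, hr₀⟩ := hloc.surj r
  have hunit := hloc.unit
  have huA : IsUnit (resA h'.refines r'.1.2) := by
    obtain ⟨u, hu⟩ := hunit
    refine IsUnit.of_mul_eq_one ((u⁻¹ : (k'.R)ˣ) : k'.R).1.2 ?_
    have := congrArg (fun x : k'.R => x.1.2) (show resR h'.refines r' * ((u⁻¹ : (k'.R)ˣ) : k'.R) = 1 by
      rw [← hu, Units.mul_inv])
    exact this
  have huB : IsUnit (resB h'.refines r'.1.1) := by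
    obtain ⟨u, hu⟩ := hunit
    refine IsUnit.of_mul_eq_one ((u⁻¹ : (k'.R)ˣ) : k'.R).1.1 ?_
    have := congrArg (fun x : k'.R => x.1.1) (show resR h'.refines r' * ((u⁻¹ : (k'.R)ˣ) : k'.R) = 1 by
      rw [← hu, Units.mul_inv])
    exact this
  have eA : r.1.2 * resA h'.refines r'.1.2 ^ n = resA h'.refines r₀.1.2 :=
    congrArg (fun x : k'.R => x.1.2) hr₀
  have eB : r.1.1 * resB h'.refines r'.1.1 ^ n = resB h'.refines r₀.1.1 :=
    congrArg (fun x : k'.R => x.1.1) hr₀
  refine ⟨r₀ * r', ?_, ?_⟩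
  · change k.U = X.basicOpen (r₀.1.2 * r'.1.2)
    rw [Scheme.basicOpen_mul, ← hU', inf_comm, ← basicOpen_resA h'.refines, ← eA,
      Scheme.basicOpen_mul, Scheme.basicOpen_of_isUnit _ (huA.pow n), ← hU]
    exact (inf_eq_left.mpr (hU ▸ X.basicOpen_le _)).symm
  · change k.V = Y.basicOpen (r₀.1.1 * r'.1.1)
    rw [Scheme.basicOpen_mul, ← hV', inf_comm, ← basicOpen_resB h'.refines, ← eB,
      Scheme.basicOpen_mul, Scheme.basicOpen_of_isUnit _ (huB.pow n), ← hV]
    exact (inf_eq_left.mpr (hV ▸ Y.basicOpen_le _)).symm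

/-- if `l₃` is a principal refinement of `l₁` and `l₃ ⊑ l₂ ⊑ l₁` then `l₃` is a principal
refinement of `l₂` -/
theorem PLE.of_refines {l₁ l₂ l₃ : GoodPair i j} (h : PLE l₃ l₁) (h₂ : Refines l₂ l₁)
    (h₃ : Refines l₃ l₂) : PLE l₃ l₂ := by
  obtain ⟨r, hU, hV⟩ := h
  refine ⟨resR h₂ r, ?_, ?_⟩
  · rw [resR_snd, basicOpen_resA, ← hU]
    exact (inf_eq_right.mpr h₃.1).symm
  · rw [resR_fst, basicOpen_resB, ← hV]
    exact (inf_eq_right.mpr h₃.2).symm

section Chart
variable [IsClosedImmersion i]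

/-- the preorder of principal refinement on good pairs -/
instance : Preorder (GoodPair i j) where
  le := PLE
  le_refl := PLE.refl
  le_trans _ _ _ := PLE.trans

theorem le_iff {k k' : GoodPair i j} : k ≤ k' ↔ PLE k k' := Iff.rfl

variable (i j) in
/-- the diagram of affine charts `Spec (Γ(Y, V) ×_{Γ(Z, W)} Γ(X, U))` -/
noncomputable def chart : GoodPair i j ⥤ Scheme.{u} where
  obj k := Spec (CommRingCat.of k.R)
  map {k k'} f := Spec.map (CommRingCat.ofHom (resR (leOfHom f).refines))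
  map_id k := by
    rw [show resR (leOfHom (𝟙 k)).refines = RingHom.id _ from resR_id k]
    exact Spec.map_id _
  map_comp {k k' k''} f g := by
    rw [← Spec.map_comp, ← CommRingCat.ofHom_comp, resR_comp]

theorem chart_map {k k' : GoodPair i j} (f : k ⟶ k') :
    (chart i j).map f = Spec.map (CommRingCat.ofHom (resR (leOfHom f).refines)) := rfl

theorem exists_isAwayHom {k k' : GoodPair i j} (h : k ≤ k') :
    ∃ r : k'.R, k.U = X.basicOpen r.1.2 ∧ k.V = Y.basicOpen r.1.1 ∧ IsAwayHom (resR h.refines) r := by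
  obtain ⟨r, hU, hV⟩ := id h
  exact ⟨r, hU, hV, isAwayHom_resR h.refines r hU hV⟩

instance {k k' : GoodPair i j} (f : k ⟶ k') : IsOpenImmersion ((chart i j).map f) := by
  obtain ⟨r, -, -, hr⟩ := exists_isAwayHom (leOfHom f)
  exact hr.isOpenImmersion

theorem chart_map_apply {k k' : GoodPair i j} (f : k ⟶ k') (x : (chart i j).obj k) :
    ((chart i j).map f).base x = comap (resR (leOfHom f).refines) x := rfl

/-- a point in the image of a transition map does not contain the localizing element -/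
theorem not_mem_of_map_eq {k k' : GoodPair i j} (f : k ⟶ k') (r : k'.R)
    (hr : IsAwayHom (resR (leOfHom f).refines) r) (x : (chart i j).obj k) :
    r ∉ (show PrimeSpectrum k'.R from ((chart i j).map f).base x).asIdeal := by
  intro hmem
  have h1 : resR (leOfHom f).refines r ∈ (show PrimeSpectrum k.R from x).asIdeal := hmem
  exact (show PrimeSpectrum k.R from x).isPrime.ne_top (Ideal.eq_top_of_isUnit_mem _ h1 hr.unit)

/-- a point not containing the localizing element is in the image of the transition map -/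
theorem exists_map_eq {k k' : GoodPair i j} (f : k ⟶ k') (r : k'.R)
    (hr : IsAwayHom (resR (leOfHom f).refines) r) (y : (chart i j).obj k')
    (hy : r ∉ (show PrimeSpectrum k'.R from y).asIdeal) :
    ∃ x : (chart i j).obj k, ((chart i j).map f).base x = y := by
  have : (show PrimeSpectrum k'.R from y) ∈ Set.range (comap (resR (leOfHom f).refines)) := by
    rw [hr.range_comap]; exact hy
  obtain ⟨x, hx⟩ := this
  exact ⟨x, hx⟩

theorem loc_mul_le_left {k k₁ : GoodPair i j} (h₁ : k₁ ≤ k) (r₁ r₂ : k.R)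
    (hU₁ : k₁.U = X.basicOpen r₁.1.2) (hV₁ : k₁.V = Y.basicOpen r₁.1.1) :
    k.loc (r₁ * r₂) ≤ k₁ := by
  refine PLE.of_refines (ple_loc k _) h₁.refines ⟨?_, ?_⟩
  · change X.basicOpen (r₁.1.2 * r₂.1.2) ≤ k₁.U
    rw [Scheme.basicOpen_mul, ← hU₁]; exact inf_le_left
  · change Y.basicOpen (r₁.1.1 * r₂.1.1) ≤ k₁.V
    rw [Scheme.basicOpen_mul, ← hV₁]; exact inf_le_left

instance : ((chart i j) ⋙ Scheme.forget).IsLocallyDirected where
  cond {k₁ k₂ k} f₁ f₂ x₁ x₂ hx := by
    change ((chart i j).map f₁).base x₁ = ((chart i j).map f₂).base x₂ at hx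
    obtain ⟨r₁, hU₁, hV₁, hr₁⟩ := exists_isAwayHom (leOfHom f₁)
    obtain ⟨r₂, hU₂, hV₂, hr₂⟩ := exists_isAwayHom (leOfHom f₂)
    have hl₁ : k.loc (r₁ * r₂) ≤ k₁ := loc_mul_le_left (leOfHom f₁) r₁ r₂ hU₁ hV₁
    have hl₂ : k.loc (r₁ * r₂) ≤ k₂ := by
      rw [mul_comm]; exact loc_mul_le_left (leOfHom f₂) r₂ r₁ hU₂ hV₂
    have hl : k.loc (r₁ * r₂) ≤ k := ple_loc k _
    have hrl : IsAwayHom (resR (leOfHom (homOfLE hl)).refines) (r₁ * r₂) :=
      isAwayHom_resR _ _ rfl rfl
    have hy : r₁ * r₂ ∉ (show PrimeSpectrum k.R from ((chart i j).map f₁).base x₁).asIdeal := by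
      intro hmem
      rcases (show PrimeSpectrum k.R from ((chart i j).map f₁).base x₁).isPrime.mem_or_mem hmem
        with h | h
      · exact not_mem_of_map_eq f₁ r₁ hr₁ x₁ h
      · rw [hx] at h; exact not_mem_of_map_eq f₂ r₂ hr₂ x₂ h
    obtain ⟨x, hxy⟩ := exists_map_eq (homOfLE hl) (r₁ * r₂) hrl _ hy
    have e₁ : (chart i j).map (homOfLE hl₁) ≫ (chart i j).map f₁ = (chart i j).map (homOfLE hl) := by
      rw [← Functor.map_comp]; rfl
    have e₂ : (chart i j).map (homOfLE hl₂) ≫ (chart i j).map f₂ = (chart i j).map (homOfLE hl) := by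
      rw [← Functor.map_comp]; rfl
    refine ⟨k.loc (r₁ * r₂), homOfLE hl₁, homOfLE hl₂, x, ?_, ?_⟩
    · change ((chart i j).map (homOfLE hl₁)).base x = x₁
      apply ((chart i j).map f₁).isOpenEmbedding.injective
      have := congrArg (fun φ : (chart i j).obj _ ⟶ (chart i j).obj k => φ.base x) e₁
      simp only [Scheme.Hom.comp_apply] at this
      rw [this, hxy]
    · change ((chart i j).map (homOfLE hl₂)).base x = x₂
      apply ((chart i j).map f₂).isOpenEmbedding.injective
      have := congrArg (fun φ : (chart i j).obj _ ⟶ (chart i j).obj k => φ.base x) e₂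
      simp only [Scheme.Hom.comp_apply] at this
      rw [this, hxy, hx]

end Chart

end Groth.Agent.Lib.Helper12.Ferrand
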