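import Mathlib
import Groth.Agent.Lib.Helper12.Ferrand2

/-!
# Ferrand pushouts: shrinking good pairs (helper12)

* `shrink`: inside a good pair `k`, for `h ∈ Γ(Y, V)` and an open `O ⊆ X` containing the image of
  `j⁻¹ D(h)`, there is `r ∈ k.R` with `D(r.1) = D(h)` and `D(r.2) ≤ O`.
* `shrink₀`: the analogue at a point of `X` off the image of `Z`.
* `exists_le_le_of_mem_V`, `exists_le_le_of_mem_U`: any two good pairs through a point have a common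
  principal refinement through that point.
-/

set_option autoImplicit false
universe u
open CategoryTheory AlgebraicGeometry Opposite TopologicalSpace PrimeSpectrum Limits

namespace Groth.Agent.Lib.Helper12.Ferrand
open SpecPushout Ferrand1

theorem fromSpec_mem_basicOpen {S : Scheme.{u}} {U : S.Opens} (hU : IsAffineOpen U) (f : Γ(S, U))
    (y : Spec Γ(S, U)) : hU.fromSpec.base y ∈ S.basicOpen f ↔ f ∉ y.asIdeal := by
  have h1 : hU.fromSpec.base y ∈ S.basicOpen f ↔ y ∈ hU.fromSpec ⁻¹ᵁ S.basicOpen f := Iff.rfl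
  rw [h1, hU.fromSpec_preimage_basicOpen]
  rfl

theorem fromSpec_mem {S : Scheme.{u}} {U : S.Opens} (hU : IsAffineOpen U) (y : Spec Γ(S, U)) :
    hU.fromSpec.base y ∈ U := by
  have : hU.fromSpec.base y ∈ Set.range hU.fromSpec.base := ⟨y, rfl⟩
  rwa [hU.range_fromSpec] at this

theorem exists_fromSpec_eq {S : Scheme.{u}} {U : S.Opens} (hU : IsAffineOpen U) (x : S)
    (hx : x ∈ U) : ∃ y : Spec Γ(S, U), hU.fromSpec.base y = x := by
  have : x ∈ Set.range hU.fromSpec.base := by rw [hU.range_fromSpec]; exact hx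
  exact this

/-- the ideal of functions on `U` whose non-vanishing locus lies in `O` -/
def idealLE {S : Scheme.{u}} (U O : S.Opens) : Ideal Γ(S, U) where
  carrier := {f | S.basicOpen f ≤ O}
  add_mem' ha hb := (S.basicOpen_add_le _ _).trans (sup_le ha hb)
  zero_mem' := by
    change S.basicOpen (0 : Γ(S, U)) ≤ O
    rw [Scheme.basicOpen_zero]; exact bot_le
  smul_mem' c f hf := by
    change S.basicOpen (c * f) ≤ O
    rw [Scheme.basicOpen_mul]; exact inf_le_right.trans hf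

theorem mem_idealLE {S : Scheme.{u}} {U O : S.Opens} (f : Γ(S, U)) :
    f ∈ idealLE U O ↔ S.basicOpen f ≤ O := Iff.rfl

variable {X Y Z : Scheme.{u}} {i : Z ⟶ X} {j : Z ⟶ Y} [IsClosedImmersion i]

/-- points of `Spec Γ(X, U)` containing the kernel of `p` come from `Z` -/
theorem exists_of_ker_le (k : GoodPair i j) (y : Spec Γ(X, k.U))
    (hy : RingHom.ker k.p ≤ y.asIdeal) :
    ∃ y' : Spec Γ(Z, k.W), comap k.p y' = y ∧
      i.base (k.hW.fromSpec.base y') = k.hU.fromSpec.base y := by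
  have : y ∈ Set.range (comap k.p) := by
    rw [_root_.range_comap_of_surjective _ k.p k.p_surjective]
    exact hy
  obtain ⟨y', rfl⟩ := this
  refine ⟨y', rfl, ?_⟩
  have h1 := IsAffineOpen.SpecMap_appLE_fromSpec i k.hU k.hW le_rfl
  have h2 := congrArg (fun φ : Spec Γ(Z, k.W) ⟶ X => φ.base y') h1
  simp only [Scheme.Hom.comp_base] at h2
  exact h2.symm

theorem shrink (k : GoodPair i j) (h : Γ(Y, k.V)) (O : X.Opens)
    (hO : j ⁻¹ᵁ (Y.basicOpen h) ≤ i ⁻¹ᵁ O) :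
    ∃ r : k.R, Y.basicOpen r.1.1 = Y.basicOpen h ∧ X.basicOpen r.1.2 ≤ O := by
  obtain ⟨a', ha'⟩ := k.p_surjective (k.q h)
  have hrad : a' ∈ (RingHom.ker k.p ⊔ idealLE k.U O).radical := by
    rw [Ideal.radical_eq_sInf, Ideal.mem_sInf]
    rintro 𝔓 ⟨hle, hprime⟩
    let y : Spec Γ(X, k.U) := ⟨𝔓, hprime⟩
    obtain ⟨y', hy', hiy'⟩ := exists_of_ker_le k y (le_sup_left.trans hle)
    have hxO : k.hU.fromSpec.base y ∉ O := by
      intro hx
      obtain ⟨f, hf₁, hf₂⟩ := k.hU.exists_basicOpen_le ⟨_, hx⟩ (fromSpec_mem k.hU y)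
      have hf𝔓 : f ∈ 𝔓 := hle (Ideal.mem_sup_right ((mem_idealLE f).mpr hf₁))
      exact (fromSpec_mem_basicOpen k.hU f y).mp hf₂ hf𝔓
    have hz : k.hW.fromSpec.base y' ∉ Z.basicOpen (k.q h) := by
      intro hz
      rw [k.basicOpen_q] at hz
      have := hO hz
      change i.base (k.hW.fromSpec.base y') ∈ O at this
      rw [hiy'] at this
      exact hxO this
    have hc : k.q h ∈ y'.asIdeal := by
      by_contra hc
      exact hz ((fromSpec_mem_basicOpen k.hW (k.q h) y').mpr hc)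
    rw [← ha'] at hc
    have : a' ∈ (comap k.p y').asIdeal := hc
    rw [hy'] at this
    exact this
  obtain ⟨n, hn⟩ := hrad
  obtain ⟨ι₀, hι₀, κ, hκ, hsum⟩ := Submodule.mem_sup.mp hn
  have hκ' : X.basicOpen (a' * κ) ≤ O := by
    rw [Scheme.basicOpen_mul]; exact inf_le_right.trans hκ
  have hp : k.p (a' * κ) = k.q (h ^ (n + 1)) := by
    have h1 : a' * κ = a' ^ (n + 1) - a' * ι₀ := by
      rw [pow_succ, ← hsum]; ring
    rw [h1, map_sub, map_mul k.p a' ι₀, RingHom.mem_ker.mp hι₀, mul_zero, sub_zero, map_pow,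
      map_pow, ha']
  refine ⟨⟨(h ^ (n + 1), a' * κ), hp.symm⟩, ?_, hκ'⟩
  exact Scheme.basicOpen_pow _ _ (Nat.succ_pos n)

theorem shrink₀ (k : GoodPair i j) (x : X) (hxU : x ∈ k.U) (hx : x ∉ Set.range i.base)
    (O : X.Opens) (hxO : x ∈ O) :
    ∃ r : k.R, r.1.1 = 0 ∧ x ∈ X.basicOpen r.1.2 ∧ X.basicOpen r.1.2 ≤ O := by
  obtain ⟨y, rfl⟩ := exists_fromSpec_eq k.hU x hxU
  obtain ⟨f, hf₁, hf₂⟩ := k.hU.exists_basicOpen_le ⟨_, hxO⟩ hxU
  have : ∃ g ∈ RingHom.ker k.p, g ∉ y.asIdeal := by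
    by_contra hcon
    push Not at hcon
    obtain ⟨y', -, hiy'⟩ := exists_of_ker_le k y hcon
    exact hx ⟨_, hiy'⟩
  obtain ⟨g, hg, hgy⟩ := this
  have hmem : ((0 : Γ(Y, k.V)), f * g) ∈ k.R := by
    change k.q 0 = k.p (f * g)
    rw [map_zero, map_mul, RingHom.mem_ker.mp hg, mul_zero]
  refine ⟨⟨_, hmem⟩, rfl, ?_, ?_⟩
  · change _ ∈ X.basicOpen (f * g)
    rw [Scheme.basicOpen_mul]
    exact ⟨hf₂, (fromSpec_mem_basicOpen k.hU g y).mpr hgy⟩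
  · change X.basicOpen (f * g) ≤ O
    rw [Scheme.basicOpen_mul]; exact inf_le_left.trans hf₁

/-- two good pairs through a point of `Y` have a common principal refinement through it -/
theorem exists_le_le_of_mem_V (k₁ k₂ : GoodPair i j) (y : Y) (h₁ : y ∈ k₁.V) (h₂ : y ∈ k₂.V) :
    ∃ l : GoodPair i j, l ≤ k₁ ∧ l ≤ k₂ ∧ y ∈ l.V := by
  obtain ⟨g₁, g₂, hg, hy⟩ := exists_basicOpen_le_affine_inter k₁.hV k₂.hV y ⟨h₁, h₂⟩
  obtain ⟨r₁, hr₁V, -⟩ := shrink k₁ g₁ ⊤ le_top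
  have hl₁V : (k₁.loc r₁).V = Y.basicOpen g₁ := hr₁V
  obtain ⟨r₂, hr₂V, hr₂U⟩ := shrink k₂ g₂ (k₁.loc r₁).U (by
    rw [← hg, ← hl₁V]; exact (k₁.loc r₁).h.ge)
  have hl₂V : (k₂.loc r₂).V = (k₁.loc r₁).V := by rw [hl₁V, hg]; exact hr₂V
  obtain ⟨r₃, hr₃V, hr₃U⟩ := shrink (k₁.loc r₁) 1 (k₂.loc r₂).U (by
    rw [Scheme.basicOpen_one, ← hl₂V]; exact (k₂.loc r₂).h.ge)
  have hl₃V : ((k₁.loc r₁).loc r₃).V = (k₁.loc r₁).V := by
    change Y.basicOpen r₃.1.1 = _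
    rw [hr₃V, Scheme.basicOpen_one]
  refine ⟨(k₁.loc r₁).loc r₃, le_trans (ple_loc _ r₃) (ple_loc k₁ r₁), ?_, ?_⟩
  · have h32 : (k₁.loc r₁).loc r₃ ≤ k₂.loc r₂ :=
      PLE.of_refines (ple_loc _ r₃) ⟨hr₂U, hl₂V.le⟩ ⟨hr₃U, (hl₃V.trans hl₂V.symm).le⟩
    exact le_trans h32 (ple_loc k₂ r₂)
  · rw [hl₃V, hl₁V]; exact hy

/-- two good pairs through a point of `X` off `Z` have a common principal refinement through it -/
theorem exists_le_le_of_mem_U_off (k₁ k₂ : GoodPair i j) (x : X) (h₁ : x ∈ k₁.U) (h₂ : x ∈ k₂.U)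
    (hx : x ∉ Set.range i.base) :
    ∃ l : GoodPair i j, l ≤ k₁ ∧ l ≤ k₂ ∧ x ∈ l.U := by
  obtain ⟨r₁, hr₁V, hr₁x, -⟩ := shrink₀ k₁ x h₁ hx ⊤ trivial
  obtain ⟨r₂, hr₂V, hr₂x, hr₂U⟩ := shrink₀ k₂ x h₂ hx (k₁.loc r₁).U hr₁x
  obtain ⟨r₃, hr₃V, hr₃x, hr₃U⟩ := shrink₀ (k₁.loc r₁) x hr₁x hx (k₂.loc r₂).U hr₂x
  have hl₁V : (k₁.loc r₁).V = ⊥ := by
    change Y.basicOpen r₁.1.1 = ⊥; rw [hr₁V, Scheme.basicOpen_zero]
  have hl₂V : (k₂.loc r₂).V = ⊥ := by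
    change Y.basicOpen r₂.1.1 = ⊥; rw [hr₂V, Scheme.basicOpen_zero]
  have hl₃V : ((k₁.loc r₁).loc r₃).V = ⊥ := by
    change Y.basicOpen r₃.1.1 = ⊥; rw [hr₃V, Scheme.basicOpen_zero]
  refine ⟨(k₁.loc r₁).loc r₃, le_trans (ple_loc _ r₃) (ple_loc k₁ r₁), ?_, hr₃x⟩
  have h32 : (k₁.loc r₁).loc r₃ ≤ k₂.loc r₂ :=
    PLE.of_refines (ple_loc _ r₃) ⟨hr₂U, by rw [hl₂V]; exact bot_le⟩
      ⟨hr₃U, by rw [hl₃V]; exact bot_le⟩
  exact le_trans h32 (ple_loc k₂ r₂)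

/-- two good pairs through a point of `X` have a common principal refinement through it -/
theorem exists_le_le_of_mem_U (k₁ k₂ : GoodPair i j) (x : X) (h₁ : x ∈ k₁.U) (h₂ : x ∈ k₂.U) :
    ∃ l : GoodPair i j, l ≤ k₁ ∧ l ≤ k₂ ∧ x ∈ l.U := by
  by_cases hx : x ∈ Set.range i.base
  · obtain ⟨z, rfl⟩ := hx
    have hz₁ : j.base z ∈ k₁.V := by
      have : z ∈ i ⁻¹ᵁ k₁.U := h₁
      rw [k₁.h] at this; exact this
    have hz₂ : j.base z ∈ k₂.V := by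
      have : z ∈ i ⁻¹ᵁ k₂.U := h₂
      rw [k₂.h] at this; exact this
    obtain ⟨l, hl₁, hl₂, hl⟩ := exists_le_le_of_mem_V k₁ k₂ (j.base z) hz₁ hz₂
    refine ⟨l, hl₁, hl₂, ?_⟩
    have : z ∈ j ⁻¹ᵁ l.V := hl
    rw [← l.h] at this; exact this
  · exact exists_le_le_of_mem_U_off k₁ k₂ x h₁ h₂ hx

end Groth.Agent.Lib.Helper12.Ferrand
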