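import Mathlib

/-!
# Pushouts of schemes over `S` are local on `S` (helper12)

`isPushout_left_of_forall`: for a commutative square in `Over S` and a locally directed open cover
`𝒰` of `S` (e.g. all affine opens), if for every member `𝒰.f j : U_j ⟶ S` the base-changed square
(`Over.pullback (𝒰.f j)`) is a pushout of schemes, then the square is a pushout of schemes.
`isPushout_of_forall`: the same conclusion in `Over S`.
`specAffineCover S`: the locally directed open cover of `S` by `Spec Γ(S, U)`, `U` affine open.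
-/

set_option autoImplicit false
universe u
open CategoryTheory Limits AlgebraicGeometry

namespace Groth.Agent.Lib.Helper12.PushoutLocal

section
variable {S : Scheme.{u}} (𝒰 : Scheme.OpenCover.{u} S) [Category 𝒰.I₀] [𝒰.LocallyDirected]
  {Z X Y W : Over S} (i₁ : Z ⟶ X) (i₂ : Z ⟶ Y) (π₁ : X ⟶ W) (π₂ : Y ⟶ W)
  (w : i₁ ≫ π₁ = i₂ ≫ π₂)
  (h : ∀ j : 𝒰.I₀, IsPushout ((Over.pullback (𝒰.f j)).map i₁).left
      ((Over.pullback (𝒰.f j)).map i₂).left
      ((Over.pullback (𝒰.f j)).map π₁).left ((Over.pullback (𝒰.f j)).map π₂).left)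

section Desc
variable {T : Scheme.{u}} (a : X.left ⟶ T) (b : Y.left ⟶ T) (hab : i₁.left ≫ a = i₂.left ≫ b)

omit [Category 𝒰.I₀] [𝒰.LocallyDirected] in
include hab in
theorem cond (j : 𝒰.I₀) :
    ((Over.pullback (𝒰.f j)).map i₁).left ≫ pullback.fst X.hom (𝒰.f j) ≫ a =
      ((Over.pullback (𝒰.f j)).map i₂).left ≫ pullback.fst Y.hom (𝒰.f j) ≫ b := by
  simp only [Over.pullback_map_left, pullback.lift_fst_assoc, Category.assoc, hab]

/-- the local pieces of the descended morphism -/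
noncomputable def g (j : 𝒰.I₀) : pullback W.hom (𝒰.f j) ⟶ T :=
  (h j).desc (pullback.fst X.hom (𝒰.f j) ≫ a) (pullback.fst Y.hom (𝒰.f j) ≫ b)
    (cond 𝒰 i₁ i₂ a b hab j)

theorem inl_g (j : 𝒰.I₀) : ((Over.pullback (𝒰.f j)).map π₁).left ≫ g 𝒰 i₁ i₂ π₁ π₂ h a b hab j =
    pullback.fst X.hom (𝒰.f j) ≫ a :=
  (h j).inl_desc _ _ _

theorem inr_g (j : 𝒰.I₀) : ((Over.pullback (𝒰.f j)).map π₂).left ≫ g 𝒰 i₁ i₂ π₁ π₂ h a b hab j =
    pullback.fst Y.hom (𝒰.f j) ≫ b :=
  (h j).inr_desc _ _ _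

omit [Category 𝒰.I₀] [𝒰.LocallyDirected] in
theorem map_trans {X W : Over S} (π₁ : X ⟶ W) {i j : 𝒰.I₀} (c : 𝒰.X i ⟶ 𝒰.X j)
    (hc : c ≫ 𝒰.f j = 𝒰.f i) :
    ((Over.pullback (𝒰.f i)).map π₁).left ≫
        pullback.map W.hom (𝒰.f i) W.hom (𝒰.f j) (𝟙 _) c (𝟙 _) (by simp) (by simp [hc]) =
      pullback.map X.hom (𝒰.f i) X.hom (𝒰.f j) (𝟙 _) c (𝟙 _) (by simp) (by simp [hc]) ≫
        ((Over.pullback (𝒰.f j)).map π₁).left := by
  apply pullback.hom_ext
  · simp only [Category.assoc, pullback.lift_fst, Over.pullback_map_left, pullback.lift_fst_assoc,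
      Category.comp_id]
  · simp only [Category.assoc, pullback.lift_snd, Over.pullback_map_left, pullback.lift_snd_assoc]

theorem trans_eq (W : Over S) {i j : 𝒰.I₀} (hij : i ⟶ j) :
    Scheme.Cover.trans (𝒰.pullback₁ W.hom) hij =
      pullback.map W.hom (𝒰.f i) W.hom (𝒰.f j) (𝟙 _) (𝒰.trans hij) (𝟙 _) (by simp) (by simp) :=
  rfl

theorem g_compat' {i j : 𝒰.I₀} (hij : i ⟶ j) :
    pullback.map W.hom (𝒰.f i) W.hom (𝒰.f j) (𝟙 _) (𝒰.trans hij) (𝟙 _) (by simp) (by simp) ≫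
        g 𝒰 i₁ i₂ π₁ π₂ h a b hab j =
      g 𝒰 i₁ i₂ π₁ π₂ h a b hab i := by
  apply (h i).hom_ext
  · rw [inl_g, reassoc_of% (map_trans 𝒰 π₁ (𝒰.trans hij) (𝒰.trans_map hij)), inl_g,
      pullback.lift_fst_assoc, Category.comp_id]
  · rw [inr_g, reassoc_of% (map_trans 𝒰 π₂ (𝒰.trans hij) (𝒰.trans_map hij)), inr_g,
      pullback.lift_fst_assoc, Category.comp_id]

theorem g_compat {i j : 𝒰.I₀} (hij : i ⟶ j) :
    Scheme.Cover.trans (𝒰.pullback₁ W.hom) hij ≫ g 𝒰 i₁ i₂ π₁ π₂ h a b hab j =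
      g 𝒰 i₁ i₂ π₁ π₂ h a b hab i :=
  g_compat' 𝒰 i₁ i₂ π₁ π₂ h a b hab hij

/-- the descended morphism -/
noncomputable def desc : W.left ⟶ T :=
  Scheme.OpenCover.glueMorphismsOfLocallyDirected (𝒰.pullback₁ W.hom) (g 𝒰 i₁ i₂ π₁ π₂ h a b hab)
    (fun hij => g_compat 𝒰 i₁ i₂ π₁ π₂ h a b hab hij)

theorem f_desc (j : 𝒰.I₀) : pullback.fst W.hom (𝒰.f j) ≫ desc 𝒰 i₁ i₂ π₁ π₂ h a b hab =
    g 𝒰 i₁ i₂ π₁ π₂ h a b hab j :=
  Scheme.OpenCover.map_glueMorphismsOfLocallyDirected (𝒰.pullback₁ W.hom) _ _ j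

theorem inl_desc : π₁.left ≫ desc 𝒰 i₁ i₂ π₁ π₂ h a b hab = a := by
  apply Scheme.Cover.hom_ext (𝒰.pullback₁ X.hom)
  intro (j : 𝒰.I₀)
  change pullback.fst X.hom (𝒰.f j) ≫ _ = pullback.fst X.hom (𝒰.f j) ≫ _
  have e : pullback.fst X.hom (𝒰.f j) ≫ π₁.left =
      ((Over.pullback (𝒰.f j)).map π₁).left ≫ pullback.fst W.hom (𝒰.f j) := by
    simp only [Over.pullback_map_left, pullback.lift_fst]
  rw [reassoc_of% e, f_desc, inl_g]

theorem inr_desc : π₂.left ≫ desc 𝒰 i₁ i₂ π₁ π₂ h a b hab = b := by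
  apply Scheme.Cover.hom_ext (𝒰.pullback₁ Y.hom)
  intro (j : 𝒰.I₀)
  change pullback.fst Y.hom (𝒰.f j) ≫ _ = pullback.fst Y.hom (𝒰.f j) ≫ _
  have e : pullback.fst Y.hom (𝒰.f j) ≫ π₂.left =
      ((Over.pullback (𝒰.f j)).map π₂).left ≫ pullback.fst W.hom (𝒰.f j) := by
    simp only [Over.pullback_map_left, pullback.lift_fst]
  rw [reassoc_of% e, f_desc, inr_g]

end Desc

include h in
theorem hom_ext {T : Scheme.{u}} (m₁ m₂ : W.left ⟶ T) (h₁ : π₁.left ≫ m₁ = π₁.left ≫ m₂)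
    (h₂ : π₂.left ≫ m₁ = π₂.left ≫ m₂) : m₁ = m₂ := by
  apply Scheme.Cover.hom_ext (𝒰.pullback₁ W.hom)
  intro (j : 𝒰.I₀)
  change pullback.fst W.hom (𝒰.f j) ≫ _ = pullback.fst W.hom (𝒰.f j) ≫ _
  apply (h j).hom_ext
  · have e : ((Over.pullback (𝒰.f j)).map π₁).left ≫ pullback.fst W.hom (𝒰.f j) =
        pullback.fst X.hom (𝒰.f j) ≫ π₁.left := by
      simp only [Over.pullback_map_left, pullback.lift_fst]
    rw [reassoc_of% e, reassoc_of% e, h₁]
  · have e : ((Over.pullback (𝒰.f j)).map π₂).left ≫ pullback.fst W.hom (𝒰.f j) =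
        pullback.fst Y.hom (𝒰.f j) ≫ π₂.left := by
      simp only [Over.pullback_map_left, pullback.lift_fst]
    rw [reassoc_of% e, reassoc_of% e, h₂]

include w h in
/-- a square over `S` which is a pushout of schemes over each member of a locally directed open
cover of `S` is a pushout of schemes -/
theorem isPushout_left_of_forall : IsPushout i₁.left i₂.left π₁.left π₂.left := by
  have w' : i₁.left ≫ π₁.left = i₂.left ≫ π₂.left := by
    rw [← Over.comp_left, ← Over.comp_left, w]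
  refine ⟨⟨w'⟩, ⟨PushoutCocone.IsColimit.mk _
    (fun s => desc 𝒰 i₁ i₂ π₁ π₂ h s.inl s.inr s.condition)
    (fun s => inl_desc 𝒰 i₁ i₂ π₁ π₂ h s.inl s.inr s.condition)
    (fun s => inr_desc 𝒰 i₁ i₂ π₁ π₂ h s.inl s.inr s.condition)
    (fun s m hm₁ hm₂ => ?_)⟩⟩
  apply hom_ext 𝒰 i₁ i₂ π₁ π₂ h
  · rw [hm₁, inl_desc]
  · rw [hm₂, inr_desc]

include w h in
theorem isPushout_of_forall : IsPushout i₁ i₂ π₁ π₂ :=
  IsPushout.of_map (Over.forget S) w (isPushout_left_of_forall 𝒰 i₁ i₂ π₁ π₂ w h)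

end

section SpecCover
open TopologicalSpace

/-- The open cover of `S` by the spectra `Spec Γ(S, U)` of all affine opens `U`. -/
noncomputable def specAffineCover (S : Scheme.{u}) : Scheme.OpenCover.{u} S :=
  Scheme.Cover.mkOfCovers S.affineOpens (fun U => Spec Γ(S, U.1))
    (fun U => IsAffineOpen.fromSpec (U.2 : IsAffineOpen U.1))
    (fun x => by
      obtain ⟨U, hU, hxU, -⟩ := Opens.isBasis_iff_nbhd.mp S.isBasis_affineOpens (Opens.mem_top x)
      have hU' : IsAffineOpen U := hU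
      have : x ∈ Set.range hU'.fromSpec.base := by
        rw [IsAffineOpen.range_fromSpec]; exact hxU
      obtain ⟨y, hy⟩ := this
      exact ⟨⟨U, hU⟩, y, hy⟩)
    (fun U => IsAffineOpen.isOpenImmersion_fromSpec (U.2 : IsAffineOpen U.1))

theorem specAffineCover_f (S : Scheme.{u}) (U : S.affineOpens) :
    (specAffineCover S).f U = IsAffineOpen.fromSpec (U.2 : IsAffineOpen U.1) := rfl

theorem specAffineCover_X (S : Scheme.{u}) (U : S.affineOpens) :
    (specAffineCover S).X U = Spec Γ(S, U.1) := rfl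

noncomputable instance (S : Scheme.{u}) : Preorder (specAffineCover S).I₀ :=
  inferInstanceAs (Preorder S.affineOpens)

theorem specAffineCover_opensRange (S : Scheme.{u}) (U : (specAffineCover S).I₀) :
    ((specAffineCover S).f U).opensRange = (show S.affineOpens from U).1 :=
  IsAffineOpen.opensRange_fromSpec (U.2 : IsAffineOpen U.1)

noncomputable instance (S : Scheme.{u}) : Scheme.Cover.LocallyDirected (specAffineCover S) :=
  .ofIsBasisOpensRange
    (fun {i j} => by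
      rw [specAffineCover_opensRange, specAffineCover_opensRange]
      exact Iff.rfl)
    (by
      have : (Set.range fun i : (specAffineCover S).I₀ => ((specAffineCover S).f i).opensRange) =
          S.affineOpens := by
        ext V
        constructor
        · rintro ⟨U, rfl⟩
          change ((specAffineCover S).f U).opensRange ∈ S.affineOpens
          rw [specAffineCover_opensRange]; exact (show S.affineOpens from U).2
        · intro hV
          exact ⟨(⟨V, hV⟩ : S.affineOpens), specAffineCover_opensRange S (⟨V, hV⟩ : S.affineOpens)⟩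
      rw [this]
      exact S.isBasis_affineOpens)

end SpecCover

end Groth.Agent.Lib.Helper12.PushoutLocal
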