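import Mathlib
import Groth.Agent.Lib.Helper12.Ferrand3
import Groth.Agent.Lib.Helper12.PushoutLocal

/-!
# Ferrand pushouts: the glued scheme (helper12)

Given a closed immersion `i : Z ⟶ X`, a morphism `j : Z ⟶ Y` and good pairs covering `Y`, we glue the
affine charts `Spec (Γ(Y, V) ×_{Γ(Z, W)} Γ(X, U))` to a scheme `P i j` with morphisms
`a : X ⟶ P`, `b : Y ⟶ P`.
-/

set_option autoImplicit false
universe u
open CategoryTheory AlgebraicGeometry Opposite TopologicalSpace PrimeSpectrum Limits

namespace Groth.Agent.Lib.Helper12.Ferrand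
open SpecPushout Ferrand1

variable {X Y Z : Scheme.{u}} (i : Z ⟶ X) (j : Z ⟶ Y) [IsClosedImmersion i]

/-- the glued scheme -/
noncomputable def P : Scheme.{u} := colimit (chart i j)

/-- the chart inclusions -/
noncomputable def ιP (k : GoodPair i j) : (chart i j).obj k ⟶ P i j := colimit.ι (chart i j) k

instance (k : GoodPair i j) : IsOpenImmersion (ιP i j k) :=
  inferInstanceAs (IsOpenImmersion (colimit.ι (chart i j) k))

theorem chart_map_ιP {k k' : GoodPair i j} (f : k ⟶ k') : (chart i j).map f ≫ ιP i j k' = ιP i j k :=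
  colimit.w (chart i j) f

theorem isOpenImmersion_SpecMap_res {S : Scheme.{u}} {U U' : S.Opens} (hU : IsAffineOpen U)
    (hU' : IsAffineOpen U') (h : U ≤ U') :
    IsOpenImmersion (Spec.map (S.presheaf.map (homOfLE h).op)) := by
  have e : Spec.map (S.presheaf.map (homOfLE h).op) ≫ hU'.fromSpec = hU.fromSpec :=
    hU'.map_fromSpec hU (homOfLE h).op
  have : IsOpenImmersion (Spec.map (S.presheaf.map (homOfLE h).op) ≫ hU'.fromSpec) := by
    rw [e]; infer_instance
  exact IsOpenImmersion.of_comp _ hU'.fromSpec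

theorem isOpenImmersion_chart_map {k k' : GoodPair i j} (f : k ⟶ k') :
    IsOpenImmersion ((chart i j).map f) := inferInstance

/-- the cover of `P` by the charts -/
noncomputable def coverP : (P i j).OpenCover :=
  Scheme.Cover.mkOfCovers (GoodPair i j) (fun k => (chart i j).obj k) (fun k => ιP i j k)
    (fun x => by
      obtain ⟨k, xk, hk⟩ := Scheme.IsLocallyDirected.ι_jointly_surjective (chart i j) x
      exact ⟨k, xk, hk⟩)

noncomputable instance : Preorder (coverP i j).I₀ := inferInstanceAs (Preorder (GoodPair i j))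

theorem ιP_eq_iff {k k' : GoodPair i j} {x : (chart i j).obj k} {x' : (chart i j).obj k'} :
    (ιP i j k).base x = (ιP i j k').base x' ↔
      ∃ (l : GoodPair i j) (f : l ⟶ k) (f' : l ⟶ k') (w : (chart i j).obj l),
        ((chart i j).map f).base w = x ∧ ((chart i j).map f').base w = x' :=
  Scheme.IsLocallyDirected.ι_eq_ι_iff (chart i j)

theorem directedP (k k' : GoodPair i j) (x : ↑(pullback (ιP i j k) (ιP i j k'))) :
    ∃ (l : GoodPair i j) (f : l ⟶ k) (f' : l ⟶ k') (w : (chart i j).obj l),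
      (pullback.lift ((chart i j).map f) ((chart i j).map f')
        (by rw [chart_map_ιP, chart_map_ιP])).base w = x := by
  have hc : (ιP i j k).base ((pullback.fst (ιP i j k) (ιP i j k')).base x) =
      (ιP i j k').base ((pullback.snd (ιP i j k) (ιP i j k')).base x) := by
    rw [← Scheme.Hom.comp_apply, ← Scheme.Hom.comp_apply, pullback.condition]
  obtain ⟨l, f, f', w, hw, -⟩ := (ιP_eq_iff i j).mp hc
  refine ⟨l, f, f', w, ?_⟩
  apply (pullback.fst (ιP i j k) (ιP i j k') ≫ ιP i j k).isOpenEmbedding.injective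
  rw [← Scheme.Hom.comp_apply, pullback.lift_fst_assoc, Scheme.Hom.comp_apply, hw,
    Scheme.Hom.comp_apply]

noncomputable instance : (coverP i j).LocallyDirected where
  trans {k k'} f := (chart i j).map (X := k) (Y := k') f
  trans_id k := (chart i j).map_id k
  trans_comp {k k' k''} f g := (chart i j).map_comp (X := k) (Y := k') (Z := k'') f g
  w {k k'} f := chart_map_ιP i j (k := k) (k' := k') f
  directed {k k'} x := by
    obtain ⟨l, f, f', w, hw⟩ := directedP i j k k' x
    exact ⟨l, f, f', w, hw⟩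
  property_trans {k k'} f := isOpenImmersion_chart_map i j (k := k) (k' := k') f

section Cover
variable (hcov : ∀ y : Y, ∃ k : GoodPair i j, y ∈ k.V)
include hcov

theorem exists_mem_W (z : Z) : ∃ k : GoodPair i j, z ∈ k.W := by
  obtain ⟨k, hk⟩ := hcov (j.base z)
  refine ⟨k, ?_⟩
  have : z ∈ j ⁻¹ᵁ k.V := hk
  rw [← k.h] at this; exact this

theorem exists_mem_U (x : X) : ∃ k : GoodPair i j, x ∈ k.U := by
  by_cases hx : x ∈ Set.range i.base
  · obtain ⟨z, rfl⟩ := hx
    obtain ⟨k, hk⟩ := exists_mem_W i j hcov z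
    exact ⟨k, hk⟩
  · have hcl : IsClosed (Set.range i.base) := i.isClosedEmbedding.isClosed_range
    let O : X.Opens := ⟨(Set.range i.base)ᶜ, hcl.isOpen_compl⟩
    obtain ⟨U, hU, hxU, hUO⟩ := Opens.isBasis_iff_nbhd.mp X.isBasis_affineOpens (show x ∈ O from hx)
    refine ⟨⟨U, ⊥, hU, isAffineOpen_bot Y, ?_⟩, hxU⟩
    ext z
    simp only [Scheme.Hom.preimage_bot, Opens.coe_bot, Set.mem_empty_iff_false, iff_false]
    intro hz
    exact hUO hz ⟨z, rfl⟩

/-- the cover of `X` by the `Spec Γ(X, U)` for good pairs `(U, V)` -/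
noncomputable def coverX : X.OpenCover :=
  Scheme.Cover.mkOfCovers (GoodPair i j) (fun k => Spec Γ(X, k.U)) (fun k => k.hU.fromSpec)
    (fun x => by
      obtain ⟨k, hk⟩ := exists_mem_U i j hcov x
      obtain ⟨y, hy⟩ := exists_fromSpec_eq k.hU x hk
      exact ⟨k, y, hy⟩)

/-- the cover of `Y` by the `Spec Γ(Y, V)` for good pairs `(U, V)` -/
noncomputable def coverY : Y.OpenCover :=
  Scheme.Cover.mkOfCovers (GoodPair i j) (fun k => Spec Γ(Y, k.V)) (fun k => k.hV.fromSpec)
    (fun y => by
      obtain ⟨k, hk⟩ := hcov y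
      obtain ⟨y', hy'⟩ := exists_fromSpec_eq k.hV y hk
      exact ⟨k, y', hy'⟩)

/-- the cover of `Z` by the `Spec Γ(Z, W)` for good pairs `(U, V)` -/
noncomputable def coverZ : Z.OpenCover :=
  Scheme.Cover.mkOfCovers (GoodPair i j) (fun k => Spec Γ(Z, k.W)) (fun k => k.hW.fromSpec)
    (fun z => by
      obtain ⟨k, hk⟩ := exists_mem_W i j hcov z
      obtain ⟨y', hy'⟩ := exists_fromSpec_eq k.hW z hk
      exact ⟨k, y', hy'⟩)

noncomputable instance : Preorder (coverX i j hcov).I₀ := inferInstanceAs (Preorder (GoodPair i j))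
noncomputable instance : Preorder (coverY i j hcov).I₀ := inferInstanceAs (Preorder (GoodPair i j))

theorem coverX_f (k : GoodPair i j) : (coverX i j hcov).f k = k.hU.fromSpec := rfl
theorem coverY_f (k : GoodPair i j) : (coverY i j hcov).f k = k.hV.fromSpec := rfl
theorem coverZ_f (k : GoodPair i j) : (coverZ i j hcov).f k = k.hW.fromSpec := rfl

/-- transition maps of `coverX` -/
noncomputable def transX {k k' : GoodPair i j} (h : k ≤ k') : Spec Γ(X, k.U) ⟶ Spec Γ(X, k'.U) :=
  Spec.map (X.presheaf.map (homOfLE h.refines.1).op)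

/-- transition maps of `coverY` -/
noncomputable def transY {k k' : GoodPair i j} (h : k ≤ k') : Spec Γ(Y, k.V) ⟶ Spec Γ(Y, k'.V) :=
  Spec.map (Y.presheaf.map (homOfLE h.refines.2).op)

omit hcov in
theorem transX_fromSpec {k k' : GoodPair i j} (h : k ≤ k') :
    transX i j h ≫ k'.hU.fromSpec = k.hU.fromSpec :=
  k'.hU.map_fromSpec k.hU (homOfLE h.refines.1).op

omit hcov in
theorem transY_fromSpec {k k' : GoodPair i j} (h : k ≤ k') :
    transY i j h ≫ k'.hV.fromSpec = k.hV.fromSpec :=
  k'.hV.map_fromSpec k.hV (homOfLE h.refines.2).op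

omit hcov in
theorem directedX (k k' : GoodPair i j) (x : ↑(pullback k.hU.fromSpec k'.hU.fromSpec)) :
    ∃ (l : GoodPair i j) (hl₁ : l ≤ k) (hl₂ : l ≤ k') (y : Spec Γ(X, l.U)),
      (pullback.lift (transX i j hl₁) (transX i j hl₂)
        (by rw [transX_fromSpec, transX_fromSpec])).base y = x := by
  have hx₁ : (pullback.fst k.hU.fromSpec k'.hU.fromSpec ≫ k.hU.fromSpec).base x ∈ k.U := by
    rw [Scheme.Hom.comp_apply]
    exact fromSpec_mem _ _
  have hx₂ : (pullback.fst k.hU.fromSpec k'.hU.fromSpec ≫ k.hU.fromSpec).base x ∈ k'.U := by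
    rw [pullback.condition, Scheme.Hom.comp_apply]
    exact fromSpec_mem _ _
  obtain ⟨l, hl₁, hl₂, hl⟩ := exists_le_le_of_mem_U _ _ _ hx₁ hx₂
  obtain ⟨y, hy⟩ := exists_fromSpec_eq l.hU _ hl
  refine ⟨l, hl₁, hl₂, y, ?_⟩
  apply (pullback.fst k.hU.fromSpec k'.hU.fromSpec ≫ k.hU.fromSpec).isOpenEmbedding.injective
  rw [← Scheme.Hom.comp_apply, pullback.lift_fst_assoc, transX_fromSpec]
  exact hy

omit hcov in
theorem directedY (k k' : GoodPair i j) (x : ↑(pullback k.hV.fromSpec k'.hV.fromSpec)) :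
    ∃ (l : GoodPair i j) (hl₁ : l ≤ k) (hl₂ : l ≤ k') (y : Spec Γ(Y, l.V)),
      (pullback.lift (transY i j hl₁) (transY i j hl₂)
        (by rw [transY_fromSpec, transY_fromSpec])).base y = x := by
  have hx₁ : (pullback.fst k.hV.fromSpec k'.hV.fromSpec ≫ k.hV.fromSpec).base x ∈ k.V := by
    rw [Scheme.Hom.comp_apply]
    exact fromSpec_mem _ _
  have hx₂ : (pullback.fst k.hV.fromSpec k'.hV.fromSpec ≫ k.hV.fromSpec).base x ∈ k'.V := by
    rw [pullback.condition, Scheme.Hom.comp_apply]
    exact fromSpec_mem _ _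
  obtain ⟨l, hl₁, hl₂, hl⟩ := exists_le_le_of_mem_V _ _ _ hx₁ hx₂
  obtain ⟨y, hy⟩ := exists_fromSpec_eq l.hV _ hl
  refine ⟨l, hl₁, hl₂, y, ?_⟩
  apply (pullback.fst k.hV.fromSpec k'.hV.fromSpec ≫ k.hV.fromSpec).isOpenEmbedding.injective
  rw [← Scheme.Hom.comp_apply, pullback.lift_fst_assoc, transY_fromSpec]
  exact hy

noncomputable instance : (coverX i j hcov).LocallyDirected where
  trans {k k'} f := transX i j (k := k) (k' := k') (leOfHom f)
  trans_id k := by
    change Spec.map (X.presheaf.map (𝟙 _)) = 𝟙 _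
    rw [X.presheaf.map_id, Spec.map_id]
  trans_comp {k k' k''} f g := by
    change Spec.map (X.presheaf.map _) = Spec.map (X.presheaf.map _) ≫ Spec.map (X.presheaf.map _)
    rw [← Spec.map_comp, ← X.presheaf.map_comp]
    rfl
  w {k k'} f := transX_fromSpec i j (k := k) (k' := k') (leOfHom f)
  directed {k k'} x := by
    obtain ⟨l, hl₁, hl₂, y, hy⟩ := directedX i j k k' x
    exact ⟨l, homOfLE hl₁, homOfLE hl₂, y, hy⟩
  property_trans {k k'} f :=
    isOpenImmersion_SpecMap_res (show GoodPair i j from k).hU (show GoodPair i j from k').hU _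

noncomputable instance : (coverY i j hcov).LocallyDirected where
  trans {k k'} f := transY i j (k := k) (k' := k') (leOfHom f)
  trans_id k := by
    change Spec.map (Y.presheaf.map (𝟙 _)) = 𝟙 _
    rw [Y.presheaf.map_id, Spec.map_id]
  trans_comp {k k' k''} f g := by
    change Spec.map (Y.presheaf.map _) = Spec.map (Y.presheaf.map _) ≫ Spec.map (Y.presheaf.map _)
    rw [← Spec.map_comp, ← Y.presheaf.map_comp]
    rfl
  w {k k'} f := transY_fromSpec i j (k := k) (k' := k') (leOfHom f)
  directed {k k'} x := by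
    obtain ⟨l, hl₁, hl₂, y, hy⟩ := directedY i j k k' x
    exact ⟨l, homOfLE hl₁, homOfLE hl₂, y, hy⟩
  property_trans {k k'} f :=
    isOpenImmersion_SpecMap_res (show GoodPair i j from k).hV (show GoodPair i j from k').hV _

/-- chart map from the `X`-side -/
noncomputable def aC (k : GoodPair i j) : Spec Γ(X, k.U) ⟶ (chart i j).obj k :=
  Spec.map (CommRingCat.ofHom (φ₂ k.p k.q))

/-- chart map from the `Y`-side -/
noncomputable def bC (k : GoodPair i j) : Spec Γ(Y, k.V) ⟶ (chart i j).obj k :=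
  Spec.map (CommRingCat.ofHom (φ₁ k.p k.q))

omit hcov in
theorem transX_aC {k k' : GoodPair i j} (h : k ≤ k') :
    transX i j h ≫ aC i j k' = aC i j k ≫ (chart i j).map (homOfLE h) := by
  change Spec.map _ ≫ Spec.map _ = Spec.map _ ≫ Spec.map _
  rw [← Spec.map_comp, ← Spec.map_comp]
  rfl

omit hcov in
theorem transY_bC {k k' : GoodPair i j} (h : k ≤ k') :
    transY i j h ≫ bC i j k' = bC i j k ≫ (chart i j).map (homOfLE h) := by
  change Spec.map _ ≫ Spec.map _ = Spec.map _ ≫ Spec.map _
  rw [← Spec.map_comp, ← Spec.map_comp]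
  rfl

omit hcov in
/-- the chart square is a pushout -/
theorem isPushout_chart (k : GoodPair i j) :
    IsPushout (Spec.map (i.appLE k.U k.W le_rfl)) (Spec.map (j.appLE k.V k.W k.W_le))
      (aC i j k) (bC i j k) :=
  isPushout_Pr k.q k.p_surjective

omit hcov in
theorem a_compat {k k' : GoodPair i j} (h : k ≤ k') :
    transX i j h ≫ aC i j k' ≫ ιP i j k' = aC i j k ≫ ιP i j k := by
  rw [reassoc_of% transX_aC i j h, chart_map_ιP]

omit hcov in
theorem b_compat {k k' : GoodPair i j} (h : k ≤ k') :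
    transY i j h ≫ bC i j k' ≫ ιP i j k' = bC i j k ≫ ιP i j k := by
  rw [reassoc_of% transY_bC i j h, chart_map_ιP]

/-- the morphism `X ⟶ P` -/
noncomputable def a : X ⟶ P i j :=
  (coverX i j hcov).glueMorphismsOfLocallyDirected (fun k => aC i j k ≫ ιP i j k)
    (fun {k k'} f => a_compat i j (k := k) (k' := k') (leOfHom f))

/-- the morphism `Y ⟶ P` -/
noncomputable def b : Y ⟶ P i j :=
  (coverY i j hcov).glueMorphismsOfLocallyDirected (fun k => bC i j k ≫ ιP i j k)
    (fun {k k'} f => b_compat i j (k := k) (k' := k') (leOfHom f))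

theorem fromSpec_a (k : GoodPair i j) : k.hU.fromSpec ≫ a i j hcov = aC i j k ≫ ιP i j k :=
  (coverX i j hcov).map_glueMorphismsOfLocallyDirected (fun k => aC i j k ≫ ιP i j k)
    (fun {k k'} f => a_compat i j (k := k) (k' := k') (leOfHom f)) k

theorem fromSpec_b (k : GoodPair i j) : k.hV.fromSpec ≫ b i j hcov = bC i j k ≫ ιP i j k :=
  (coverY i j hcov).map_glueMorphismsOfLocallyDirected (fun k => bC i j k ≫ ιP i j k)
    (fun {k k'} f => b_compat i j (k := k) (k' := k') (leOfHom f)) k

theorem w : i ≫ a i j hcov = j ≫ b i j hcov := by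
  apply Scheme.Cover.hom_ext (coverZ i j hcov)
  intro (k : GoodPair i j)
  change k.hW.fromSpec ≫ i ≫ a i j hcov = k.hW.fromSpec ≫ j ≫ b i j hcov
  rw [← IsAffineOpen.SpecMap_appLE_fromSpec_assoc i k.hU k.hW le_rfl,
    ← IsAffineOpen.SpecMap_appLE_fromSpec_assoc j k.hV k.hW k.W_le, fromSpec_a, fromSpec_b,
    reassoc_of% (isPushout_chart i j k).w]

theorem a_preimage (k : GoodPair i j) : a i j hcov ⁻¹ᵁ (ιP i j k).opensRange = k.U := by
  ext x
  constructor
  · rintro ⟨pt, hpt⟩
    obtain ⟨k', hk'⟩ := exists_mem_U i j hcov x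
    obtain ⟨y', rfl⟩ := exists_fromSpec_eq k'.hU x hk'
    have h1 : (a i j hcov).base (k'.hU.fromSpec.base y') = (ιP i j k').base ((aC i j k').base y') :=
      congrArg (fun φ : Spec Γ(X, k'.U) ⟶ P i j => φ.base y') (fromSpec_a i j hcov k')
    rw [h1] at hpt
    obtain ⟨l, f, f', w, -, hw'⟩ := (ιP_eq_iff i j).mp hpt
    obtain ⟨r', hlU, -, hr'⟩ := exists_isAwayHom (leOfHom f')
    have hnm := not_mem_of_map_eq f' r' hr' w
    rw [hw'] at hnm
    have hnm' : r'.1.2 ∉ y'.asIdeal := hnm
    have := (fromSpec_mem_basicOpen k'.hU r'.1.2 y').mpr hnm'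
    rw [← hlU] at this
    exact (leOfHom f).refines.1 this
  · intro hx
    obtain ⟨y, rfl⟩ := exists_fromSpec_eq k.hU x hx
    have h1 : (a i j hcov).base (k.hU.fromSpec.base y) = (ιP i j k).base ((aC i j k).base y) :=
      congrArg (fun φ : Spec Γ(X, k.U) ⟶ P i j => φ.base y) (fromSpec_a i j hcov k)
    exact ⟨_, h1.symm⟩

theorem b_preimage (k : GoodPair i j) : b i j hcov ⁻¹ᵁ (ιP i j k).opensRange = k.V := by
  ext x
  constructor
  · rintro ⟨pt, hpt⟩
    obtain ⟨k', hk'⟩ := hcov x
    obtain ⟨y', rfl⟩ := exists_fromSpec_eq k'.hV x hk'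
    have h1 : (b i j hcov).base (k'.hV.fromSpec.base y') = (ιP i j k').base ((bC i j k').base y') :=
      congrArg (fun φ : Spec Γ(Y, k'.V) ⟶ P i j => φ.base y') (fromSpec_b i j hcov k')
    rw [h1] at hpt
    obtain ⟨l, f, f', w, -, hw'⟩ := (ιP_eq_iff i j).mp hpt
    obtain ⟨r', -, hlV, hr'⟩ := exists_isAwayHom (leOfHom f')
    have hnm := not_mem_of_map_eq f' r' hr' w
    rw [hw'] at hnm
    have hnm' : r'.1.1 ∉ y'.asIdeal := hnm
    have := (fromSpec_mem_basicOpen k'.hV r'.1.1 y').mpr hnm'
    rw [← hlV] at this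
    exact (leOfHom f).refines.2 this
  · intro hx
    obtain ⟨y, rfl⟩ := exists_fromSpec_eq k.hV x hx
    have h1 : (b i j hcov).base (k.hV.fromSpec.base y) = (ιP i j k).base ((bC i j k).base y) :=
      congrArg (fun φ : Spec Γ(Y, k.V) ⟶ P i j => φ.base y) (fromSpec_b i j hcov k)
    exact ⟨_, h1.symm⟩

theorem isPullback_X (k : GoodPair i j) :
    IsPullback k.hU.fromSpec (aC i j k) (a i j hcov) (ιP i j k) :=
  (IsOpenImmersion.isPullback (aC i j k) k.hU.fromSpec (ιP i j k) (a i j hcov)
    (fromSpec_a i j hcov k) (by rw [a_preimage, IsAffineOpen.opensRange_fromSpec])).flip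

theorem isPullback_Y (k : GoodPair i j) :
    IsPullback k.hV.fromSpec (bC i j k) (b i j hcov) (ιP i j k) :=
  (IsOpenImmersion.isPullback (bC i j k) k.hV.fromSpec (ιP i j k) (b i j hcov)
    (fromSpec_b i j hcov k) (by rw [b_preimage, IsAffineOpen.opensRange_fromSpec])).flip

theorem isPullback_Z (k : GoodPair i j) :
    IsPullback k.hW.fromSpec (Spec.map (i.appLE k.U k.W le_rfl) ≫ aC i j k) (i ≫ a i j hcov)
      (ιP i j k) :=
  (IsOpenImmersion.isPullback (Spec.map (i.appLE k.U k.W le_rfl) ≫ aC i j k) k.hW.fromSpec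
    (ιP i j k) (i ≫ a i j hcov)
    (by rw [← IsAffineOpen.SpecMap_appLE_fromSpec_assoc i k.hU k.hW le_rfl, fromSpec_a,
      Category.assoc])
    (by rw [Scheme.Hom.comp_preimage, a_preimage, IsAffineOpen.opensRange_fromSpec])).flip

theorem isPullback_P (k : GoodPair i j) :
    IsPullback (ιP i j k) (𝟙 ((chart i j).obj k)) (𝟙 (P i j)) (ιP i j k) :=
  IsPullback.of_vert_isIso ⟨by simp⟩

/-- the base change of the square to a chart is a pushout -/
theorem isPushout_over_chart (k : GoodPair i j) :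
    IsPushout
      ((Over.pullback (ιP i j k)).map
        (Over.homMk i rfl : Over.mk (i ≫ a i j hcov) ⟶ Over.mk (a i j hcov))).left
      ((Over.pullback (ιP i j k)).map
        (Over.homMk j (w i j hcov).symm : Over.mk (i ≫ a i j hcov) ⟶ Over.mk (b i j hcov))).left
      ((Over.pullback (ιP i j k)).map
        (Over.homMk (a i j hcov) (Category.comp_id _) :
          Over.mk (a i j hcov) ⟶ Over.mk (𝟙 (P i j)))).left
      ((Over.pullback (ιP i j k)).map
        (Over.homMk (b i j hcov) (Category.comp_id _) :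
          Over.mk (b i j hcov) ⟶ Over.mk (𝟙 (P i j)))).left := by
  refine (isPushout_chart i j k).of_iso (isPullback_Z i j hcov k).isoPullback
    (isPullback_X i j hcov k).isoPullback (isPullback_Y i j hcov k).isoPullback
    (isPullback_P i j hcov k).isoPullback ?_ ?_ ?_ ?_
  · apply pullback.hom_ext
    · simp only [Over.mk_hom, Category.assoc, IsPullback.isoPullback_hom_fst, Over.pullback_map_left,
        pullback.lift_fst, IsPullback.isoPullback_hom_fst_assoc, Over.homMk_left]
      exact IsAffineOpen.SpecMap_appLE_fromSpec i k.hU k.hW le_rfl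
    · simp only [Over.mk_hom, Category.assoc, IsPullback.isoPullback_hom_snd, Over.pullback_map_left,
        pullback.lift_snd]
  · apply pullback.hom_ext
    · simp only [Over.mk_hom, Category.assoc, IsPullback.isoPullback_hom_fst, Over.pullback_map_left,
        pullback.lift_fst, IsPullback.isoPullback_hom_fst_assoc, Over.homMk_left]
      exact IsAffineOpen.SpecMap_appLE_fromSpec j k.hV k.hW k.W_le
    · simp only [Over.mk_hom, Category.assoc, IsPullback.isoPullback_hom_snd, Over.pullback_map_left,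
        pullback.lift_snd]
      exact (isPushout_chart i j k).w.symm
  · apply pullback.hom_ext
    · simp only [Over.mk_hom, Category.assoc, IsPullback.isoPullback_hom_fst, Over.pullback_map_left,
        pullback.lift_fst, IsPullback.isoPullback_hom_fst_assoc, Over.homMk_left]
      exact (fromSpec_a i j hcov k).symm
    · simp only [Over.mk_hom, Category.assoc, IsPullback.isoPullback_hom_snd, Over.pullback_map_left,
        pullback.lift_snd, Category.comp_id]
  · apply pullback.hom_ext
    · simp only [Over.mk_hom, Category.assoc, IsPullback.isoPullback_hom_fst, Over.pullback_map_left,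
        pullback.lift_fst, IsPullback.isoPullback_hom_fst_assoc, Over.homMk_left]
      exact (fromSpec_b i j hcov k).symm
    · simp only [Over.mk_hom, Category.assoc, IsPullback.isoPullback_hom_snd, Over.pullback_map_left,
        pullback.lift_snd, Category.comp_id]

/-- **Ferrand**: the glued scheme is the pushout. -/
theorem isPushout : IsPushout i j (a i j hcov) (b i j hcov) :=
  PushoutLocal.isPushout_left_of_forall (coverP i j)
    (Over.homMk i rfl : Over.mk (i ≫ a i j hcov) ⟶ Over.mk (a i j hcov))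
    (Over.homMk j (w i j hcov).symm : Over.mk (i ≫ a i j hcov) ⟶ Over.mk (b i j hcov))
    (Over.homMk (a i j hcov) (Category.comp_id _) : Over.mk (a i j hcov) ⟶ Over.mk (𝟙 (P i j)))
    (Over.homMk (b i j hcov) (Category.comp_id _) : Over.mk (b i j hcov) ⟶ Over.mk (𝟙 (P i j)))
    (by ext; exact w i j hcov)
    (fun k => isPushout_over_chart i j hcov k)

omit hcov in
/-- a property local at the target can be checked on the charts of `P` -/
theorem of_charts (Q : MorphismProperty Scheme.{u}) [IsZariskiLocalAtTarget Q] {T : Scheme.{u}}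
    (f : T ⟶ P i j) (T' : GoodPair i j → Scheme.{u}) (u : ∀ k, T' k ⟶ T)
    (v : ∀ k, T' k ⟶ (chart i j).obj k) (hpb : ∀ k, IsPullback (u k) (v k) f (ιP i j k))
    (H : ∀ k, Q (v k)) : Q f := by
  refine IsZariskiLocalAtTarget.of_openCover (coverP i j) (fun (k : GoodPair i j) => ?_)
  change Q (pullback.snd f (ιP i j k))
  have e := (hpb k).isoPullback_hom_snd
  have := H k
  rw [← e] at this
  exact (Q.cancel_left_of_respectsIso (hpb k).isoPullback.hom _).mp this

instance isClosedImmersion_b : IsClosedImmersion (b i j hcov) :=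
  of_charts i j @IsClosedImmersion (b i j hcov) _ _ _ (isPullback_Y i j hcov)
    (fun k => IsClosedImmersion.spec_of_surjective _ (φ₁_surjective k.q k.p_surjective))

omit hcov in
theorem q_surjective [IsClosedImmersion j] (k : GoodPair i j) : Function.Surjective k.q := by
  have key : ∀ (W : Z.Opens) (e : W = j ⁻¹ᵁ k.V), Function.Surjective (j.appLE k.V W e.le) := by
    intro W e
    subst e
    rw [← Scheme.Hom.app_eq_appLE]
    exact j.app_surjective k.V k.hV
  exact key k.W k.h

omit hcov in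
theorem q_isIntegral [IsIntegralHom j] (k : GoodPair i j) : k.q.IsIntegral := by
  have key : ∀ (W : Z.Opens) (e : W = j ⁻¹ᵁ k.V), (j.appLE k.V W e.le).hom.IsIntegral := by
    intro W e
    subst e
    rw [← Scheme.Hom.app_eq_appLE]
    exact j.isIntegral_app k.V k.hV
  exact key k.W k.h

theorem isClosedImmersion_a [IsClosedImmersion j] : IsClosedImmersion (a i j hcov) :=
  of_charts i j @IsClosedImmersion (a i j hcov) _ _ _ (isPullback_X i j hcov)
    (fun k => IsClosedImmersion.spec_of_surjective _ (φ₂_surjective k.p k.q (q_surjective i j k)))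

set_option backward.isDefEq.respectTransparency.types false in
theorem isIntegralHom_a [IsIntegralHom j] : IsIntegralHom (a i j hcov) :=
  of_charts i j @IsIntegralHom (a i j hcov) _ _ _ (isPullback_X i j hcov)
    (fun k => IsIntegralHom.SpecMap_iff.mpr (φ₂_isIntegral k.q k.p_surjective (q_isIntegral i j k)))

section Lift
variable {T : Scheme.{u}} (α : T ⟶ X) (β : T ⟶ Y) (hαβ : α ≫ a i j hcov = β ≫ b i j hcov)

/-- local lift to the `X`-chart -/
noncomputable def αk (k : GoodPair i j) : pullback (α ≫ a i j hcov) (ιP i j k) ⟶ Spec Γ(X, k.U) :=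
  (isPullback_X i j hcov k).lift (pullback.fst _ _ ≫ α) (pullback.snd _ _)
    (by rw [Category.assoc]; exact pullback.condition)

include hαβ in
theorem βk_cond (k : GoodPair i j) :
    (pullback.fst (α ≫ a i j hcov) (ιP i j k) ≫ β) ≫ b i j hcov =
      pullback.snd (α ≫ a i j hcov) (ιP i j k) ≫ ιP i j k := by
  rw [Category.assoc, ← hαβ]; exact pullback.condition

/-- local lift to the `Y`-chart -/
noncomputable def βk (k : GoodPair i j) : pullback (α ≫ a i j hcov) (ιP i j k) ⟶ Spec Γ(Y, k.V) :=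
  (isPullback_Y i j hcov k).lift (pullback.fst _ _ ≫ β) (pullback.snd _ _)
    (βk_cond i j hcov α β hαβ k)

include hαβ in
theorem chart_cond (k : GoodPair i j) :
    αk i j hcov α k ≫ Spec.map (CommRingCat.ofHom (φ₂ k.p k.q)) =
      βk i j hcov α β hαβ k ≫ Spec.map (CommRingCat.ofHom (φ₁ k.p k.q)) := by
  have h1 : αk i j hcov α k ≫ aC i j k = pullback.snd _ _ := IsPullback.lift_snd _ _ _ _
  have h2 : βk i j hcov α β hαβ k ≫ bC i j k = pullback.snd _ _ := IsPullback.lift_snd _ _ _ _
  exact h1.trans h2.symm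

/-- local lift to `Z` -/
noncomputable def γk (k : GoodPair i j) : pullback (α ≫ a i j hcov) (ιP i j k) ⟶ Z :=
  (isPullback_Spec k.q k.p_surjective).lift (αk i j hcov α k) (βk i j hcov α β hαβ k)
    (chart_cond i j hcov α β hαβ k) ≫ k.hW.fromSpec

theorem γk_i (k : GoodPair i j) :
    γk i j hcov α β hαβ k ≫ i = pullback.fst (α ≫ a i j hcov) (ιP i j k) ≫ α := by
  unfold γk
  rw [Category.assoc, ← IsAffineOpen.SpecMap_appLE_fromSpec i k.hU k.hW le_rfl]
  have h1 : (isPullback_Spec k.q k.p_surjective).lift (αk i j hcov α k) (βk i j hcov α β hαβ k)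
      (chart_cond i j hcov α β hαβ k) ≫ Spec.map (i.appLE k.U k.W le_rfl) = αk i j hcov α k :=
    IsPullback.lift_fst _ _ _ _
  rw [reassoc_of% h1]
  exact IsPullback.lift_fst _ _ _ _

theorem γk_compat (k k' : GoodPair i j) :
    pullback.fst (pullback.fst (α ≫ a i j hcov) (ιP i j k))
        (pullback.fst (α ≫ a i j hcov) (ιP i j k')) ≫ γk i j hcov α β hαβ k =
      pullback.snd (pullback.fst (α ≫ a i j hcov) (ιP i j k))
        (pullback.fst (α ≫ a i j hcov) (ιP i j k')) ≫ γk i j hcov α β hαβ k' := by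
  rw [← cancel_mono i, Category.assoc, Category.assoc, γk_i, γk_i]
  exact pullback.condition_assoc _

/-- the lift to `Z` of a cone over `a, b` -/
noncomputable def liftZ : T ⟶ Z :=
  Scheme.Cover.glueMorphisms ((coverP i j).pullback₁ (α ≫ a i j hcov))
    (fun (k : GoodPair i j) => γk i j hcov α β hαβ k)
    (fun (k k' : GoodPair i j) => γk_compat i j hcov α β hαβ k k')

theorem fst_liftZ (k : GoodPair i j) :
    pullback.fst (α ≫ a i j hcov) (ιP i j k) ≫ liftZ i j hcov α β hαβ = γk i j hcov α β hαβ k := by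
  have := Scheme.Cover.ι_glueMorphisms ((coverP i j).pullback₁ (α ≫ a i j hcov))
    (fun (k : GoodPair i j) => γk i j hcov α β hαβ k)
    (fun (k k' : GoodPair i j) => γk_compat i j hcov α β hαβ k k') k
  unfold liftZ
  change ((coverP i j).pullback₁ (α ≫ a i j hcov)).f k ≫ _ = _
  exact this

theorem liftZ_i : liftZ i j hcov α β hαβ ≫ i = α := by
  apply Scheme.Cover.hom_ext ((coverP i j).pullback₁ (α ≫ a i j hcov))
  intro (k : GoodPair i j)
  change pullback.fst (α ≫ a i j hcov) (ιP i j k) ≫ liftZ i j hcov α β hαβ ≫ i =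
    pullback.fst (α ≫ a i j hcov) (ιP i j k) ≫ α
  rw [reassoc_of% fst_liftZ, γk_i]

theorem liftZ_j : liftZ i j hcov α β hαβ ≫ j = β := by
  rw [← cancel_mono (b i j hcov), Category.assoc, ← w, reassoc_of% liftZ_i, hαβ]

end Lift

/-- **Ferrand**: the pushout square is cartesian. -/
theorem isPullback : IsPullback i j (a i j hcov) (b i j hcov) := by
  refine ⟨⟨w i j hcov⟩, ⟨PullbackCone.IsLimit.mk _
    (fun s => liftZ i j hcov s.fst s.snd s.condition)
    (fun s => liftZ_i i j hcov s.fst s.snd s.condition)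
    (fun s => liftZ_j i j hcov s.fst s.snd s.condition)
    (fun s m h₁ _ => ?_)⟩⟩
  rw [← cancel_mono i, h₁, liftZ_i]

end Cover

/-- **Ferrand's theorem** (existence of pushouts along a closed immersion): if `i : Z ⟶ X` is a
closed immersion, `j : Z ⟶ Y` is any morphism, and every point of `Y` lies in an affine open `V`
for which there is an affine open `U ⊆ X` with `i⁻¹ U = j⁻¹ V`, then the pushout of `i` and `j`
exists in schemes; the square is also cartesian, `Y ⟶ P` is a closed immersion, and `X ⟶ P` is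
integral (resp. a closed immersion) if `j` is. -/
theorem exists_pushout
    (hcov : ∀ y : Y, ∃ (U : X.Opens) (V : Y.Opens), IsAffineOpen U ∧ IsAffineOpen V ∧ y ∈ V ∧
      i ⁻¹ᵁ U = j ⁻¹ᵁ V) :
    ∃ (P : Scheme.{u}) (a : X ⟶ P) (b : Y ⟶ P), IsPushout i j a b ∧ IsPullback i j a b ∧
      IsClosedImmersion b ∧ (IsIntegralHom j → IsIntegralHom a) ∧
      (IsClosedImmersion j → IsClosedImmersion a) := by
  have hcov' : ∀ y : Y, ∃ k : GoodPair i j, y ∈ k.V := by
    intro y
    obtain ⟨U, V, hU, hV, hy, h⟩ := hcov y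
    exact ⟨⟨U, V, hU, hV, h⟩, hy⟩
  exact ⟨P i j, a i j hcov', b i j hcov', isPushout i j hcov', isPullback i j hcov',
    isClosedImmersion_b i j hcov', fun _ => isIntegralHom_a i j hcov',
    fun _ => isClosedImmersion_a i j hcov'⟩

end Groth.Agent.Lib.Helper12.Ferrand
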