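import Mathlib
import Groth.Agent.Lib.Helper12.Ferrand4

/-!
# Ferrand pushouts: properties of an arbitrary pushout (helper12)

Any pushout of a closed immersion `i` along `j` (given good affine pairs) is isomorphic to the
constructed one, so it is cartesian, `b` is a closed immersion, and `a` is integral / a closed
immersion when `j` is.
-/

set_option autoImplicit false
universe u
open CategoryTheory AlgebraicGeometry Opposite TopologicalSpace PrimeSpectrum Limits

namespace Groth.Agent.Lib.Helper12.Ferrand6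
open Ferrand Ferrand1

variable {X Y Z : Scheme.{u}} (i : Z ⟶ X) (j : Z ⟶ Y) [IsClosedImmersion i]

theorem of_isPushout
    (hcov : ∀ y : Y, ∃ (U : X.Opens) (V : Y.Opens), IsAffineOpen U ∧ IsAffineOpen V ∧ y ∈ V ∧
      i ⁻¹ᵁ U = j ⁻¹ᵁ V)
    {P : Scheme.{u}} (a : X ⟶ P) (b : Y ⟶ P) (hP : IsPushout i j a b) :
    IsPullback i j a b ∧ IsClosedImmersion b ∧ (IsIntegralHom j → IsIntegralHom a) ∧
      (IsClosedImmersion j → IsClosedImmersion a) := by
  obtain ⟨P₀, a₀, b₀, h1, h2, h3, h4, h5⟩ := Ferrand.exists_pushout i j hcov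
  have ea : a₀ ≫ (h1.isoIsPushout _ _ hP).hom = a := h1.inl_isoIsPushout_hom _ _ hP
  have eb : b₀ ≫ (h1.isoIsPushout _ _ hP).hom = b := h1.inr_isoIsPushout_hom _ _ hP
  refine ⟨?_, ?_, ?_, ?_⟩
  · exact IsPullback.of_iso h2 (Iso.refl _) (Iso.refl _) (Iso.refl _) (h1.isoIsPushout _ _ hP)
      (by simp) (by simp) (by simp) (by simp)
  · rw [← eb]; infer_instance
  · intro hj
    have := h4 hj
    rw [← ea]; infer_instance
  · intro hj
    have := h5 hj
    rw [← ea]; infer_instance

end Groth.Agent.Lib.Helper12.Ferrand6
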