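import Mathlib
import Groth.Agent.Lib.Helper12.Ferrand6

/-!
# Ferrand pushouts: joint surjectivity (helper12)

`X ⊔ Y ⟶ P` is surjective for the pushout of a closed immersion along `j` (given good pairs).
-/

set_option autoImplicit false
universe u
open CategoryTheory AlgebraicGeometry Opposite TopologicalSpace PrimeSpectrum Limits

namespace Groth.Agent.Lib.Helper12.Ferrand
open SpecPushout Ferrand1

variable {X Y Z : Scheme.{u}} (i : Z ⟶ X) (j : Z ⟶ Y) [IsClosedImmersion i]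

section Cover
variable (hcov : ∀ y : Y, ∃ k : GoodPair i j, y ∈ k.V)
include hcov

theorem joint_surjective (x : P i j) :
    (∃ x' : X, (a i j hcov).base x' = x) ∨ (∃ y : Y, (b i j hcov).base y = x) := by
  obtain ⟨k, w, rfl⟩ := Scheme.IsLocallyDirected.ι_jointly_surjective (chart i j) x
  rcases SpecPushout.joint_surjective (p := k.p) k.q k.p_surjective
    (show PrimeSpectrum k.R from w) with ⟨y₁, hy₁⟩ | ⟨x₂, hx₂⟩
  · right
    refine ⟨k.hV.fromSpec.base y₁, ?_⟩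
    have h1 : (b i j hcov).base (k.hV.fromSpec.base y₁) = (ιP i j k).base ((bC i j k).base y₁) :=
      congrArg (fun φ : Spec Γ(Y, k.V) ⟶ P i j => φ.base y₁) (fromSpec_b i j hcov k)
    rw [h1]
    congr 1
  · left
    refine ⟨k.hU.fromSpec.base x₂, ?_⟩
    have h1 : (a i j hcov).base (k.hU.fromSpec.base x₂) = (ιP i j k).base ((aC i j k).base x₂) :=
      congrArg (fun φ : Spec Γ(X, k.U) ⟶ P i j => φ.base x₂) (fromSpec_a i j hcov k)
    rw [h1]
    congr 1

end Cover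

end Groth.Agent.Lib.Helper12.Ferrand

namespace Groth.Agent.Lib.Helper12.Ferrand7
open Ferrand

variable {X Y Z : Scheme.{u}} (i : Z ⟶ X) (j : Z ⟶ Y) [IsClosedImmersion i]

/-- for any pushout of a closed immersion `i` along `j` (given good pairs), `a` and `b` are jointly
surjective. -/
theorem joint_surjective_of_isPushout
    (hcov : ∀ y : Y, ∃ (U : X.Opens) (V : Y.Opens), IsAffineOpen U ∧ IsAffineOpen V ∧ y ∈ V ∧
      i ⁻¹ᵁ U = j ⁻¹ᵁ V)
    {P : Scheme.{u}} (a : X ⟶ P) (b : Y ⟶ P) (hP : IsPushout i j a b) (x : P) :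
    (∃ x' : X, a.base x' = x) ∨ (∃ y : Y, b.base y = x) := by
  have hcov' : ∀ y : Y, ∃ k : GoodPair i j, y ∈ k.V := by
    intro y
    obtain ⟨U, V, hU, hV, hy, h⟩ := hcov y
    exact ⟨⟨U, V, hU, hV, h⟩, hy⟩
  have h1 := Ferrand.isPushout i j hcov'
  have ea : Ferrand.a i j hcov' ≫ (h1.isoIsPushout _ _ hP).hom = a := h1.inl_isoIsPushout_hom _ _ hP
  have eb : Ferrand.b i j hcov' ≫ (h1.isoIsPushout _ _ hP).hom = b := h1.inr_isoIsPushout_hom _ _ hP
  obtain ⟨x₀, hx₀⟩ : ∃ x₀, (h1.isoIsPushout _ _ hP).hom.base x₀ = x :=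
    ⟨(h1.isoIsPushout _ _ hP).inv.base x, by
      rw [← Scheme.Hom.comp_apply, Iso.inv_hom_id]; rfl⟩
  rcases Ferrand.joint_surjective i j hcov' x₀ with ⟨x', hx'⟩ | ⟨y, hy⟩
  · left
    exact ⟨x', by rw [← ea, Scheme.Hom.comp_apply, hx', hx₀]⟩
  · right
    exact ⟨y, by rw [← eb, Scheme.Hom.comp_apply, hy, hx₀]⟩

end Groth.Agent.Lib.Helper12.Ferrand7
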