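import Mathlib
import Groth.Agent.Lib.Helper12.Ferrand7
import Groth.Agent.Lib.Helper7.ThickAff5

/-!
# Ferrand pushouts along a thickening (helper12)

For a surjective closed immersion `t : X ⟶ X'` and an affine morphism `f : X ⟶ Y` the pushout exists.
-/

set_option autoImplicit false
universe u
open CategoryTheory AlgebraicGeometry Opposite TopologicalSpace PrimeSpectrum Limits

namespace Groth.Agent.Lib.Helper12.Ferrand8
open Ferrand

variable {X X' Y : Scheme.{u}} (t : X ⟶ X') [IsClosedImmersion t]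

/-- an open of a thickening is affine when its trace on the thickened scheme is affine -/
theorem isAffineOpen_of_thickening (ht : Function.Surjective t) (U : X'.Opens)
    (h : IsAffineOpen (t ⁻¹ᵁ U)) : IsAffineOpen U := by
  have h1 : IsAffine (t ⁻¹ᵁ U).toScheme := h
  have h2 : IsClosedImmersion (t ∣_ U) := IsZariskiLocalAtTarget.restrict ‹_› U
  have h3 : Function.Surjective (t ∣_ U) := by
    rintro ⟨x', hx'⟩
    obtain ⟨x, rfl⟩ := ht x'
    refine ⟨⟨x, hx'⟩, ?_⟩
    apply Subtype.ext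
    exact morphismRestrict_base_coe t U ⟨x, hx'⟩
  exact Groth.Agent.Lib.helper7.ThickAff.isAffine_of_thickening (t ∣_ U) h3

theorem exists_goodPair_of_thickening (ht : Function.Surjective t) (f : X ⟶ Y) [IsAffineHom f]
    (y : Y) : ∃ (U : X'.Opens) (V : Y.Opens), IsAffineOpen U ∧ IsAffineOpen V ∧ y ∈ V ∧
      t ⁻¹ᵁ U = f ⁻¹ᵁ V := by
  obtain ⟨V, hV, hyV, -⟩ :=
    exists_isAffineOpen_mem_and_subset (X := Y) (x := y) (U := ⊤) trivial
  have hhomeo : IsHomeomorph t :=
    isHomeomorph_iff_isEmbedding_surjective.mpr ⟨t.isClosedEmbedding.isEmbedding, ht⟩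
  let U : X'.Opens := ⟨t '' (f ⁻¹ᵁ V : Set X), hhomeo.isOpenMap _ (f ⁻¹ᵁ V).isOpen⟩
  have hU : t ⁻¹ᵁ U = f ⁻¹ᵁ V := by
    ext x
    change t x ∈ t '' (f ⁻¹ᵁ V : Set X) ↔ _
    rw [hhomeo.injective.mem_set_image]
  refine ⟨U, V, isAffineOpen_of_thickening t ht U ?_, hV, hyV, hU⟩
  rw [hU]
  exact hV.preimage f

/-- **pushout along a thickening of an affine morphism** -/
theorem exists_pushout_of_thickening (ht : Function.Surjective t) (f : X ⟶ Y) [IsAffineHom f] :
    ∃ (Y' : Scheme.{u}) (f' : X' ⟶ Y') (b : Y ⟶ Y'), IsPushout t f f' b ∧ IsPullback t f f' b ∧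
      IsClosedImmersion b ∧ Function.Surjective b := by
  obtain ⟨P, a, b, h1, h2, h3, -⟩ := Ferrand.exists_pushout t f (exists_goodPair_of_thickening t ht f)
  refine ⟨P, a, b, h1, h2, h3, fun x => ?_⟩
  rcases Ferrand7.joint_surjective_of_isPushout t f (exists_goodPair_of_thickening t ht f) a b h1 x
    with ⟨x', hx'⟩ | ⟨y, hy⟩
  · obtain ⟨x₀, rfl⟩ := ht x'
    refine ⟨f x₀, ?_⟩
    rw [← hx', ← Scheme.Hom.comp_apply, ← h1.w, Scheme.Hom.comp_apply]
  · exact ⟨y, hy⟩

end Groth.Agent.Lib.Helper12.Ferrand8
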