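import Mathlib
set_option linter.style.haveILetI false
set_option linter.unusedSectionVars false

namespace Groth.Agent.Lib.helper12.AffGroup

section abstract
variable {G X : Type*} [Group G] (p : ℕ) [hp : Fact p.Prime] (act : G → X → X)
  (hone : ∀ x, act 1 x = x) (hmul : ∀ σ τ x, act (σ * τ) x = act σ (act τ x))
  (e : X ≃ ZMod p)
  (haff : ∀ σ : G, ∃ a b : ZMod p, a ≠ 0 ∧ ∀ x : X, e (act σ x) = a * e x + b)

/-- the linear part of the affine transformation -/
noncomputable def lin (σ : G) : ZMod p := e (act σ (e.symm 1)) - e (act σ (e.symm 0))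

/-- the translation part of the affine transformation -/
noncomputable def tr (σ : G) : ZMod p := e (act σ (e.symm 0))

include haff in
theorem act_eq (σ : G) (x : X) : e (act σ x) = lin p act e σ * e x + tr p act e σ := by
  obtain ⟨a, b, -, h⟩ := haff σ
  have h0 := h (e.symm 0)
  have h1 := h (e.symm 1)
  rw [Equiv.apply_symm_apply] at h0 h1
  rw [lin, tr, h1, h0, h x]
  ring

include haff in
theorem lin_ne_zero (σ : G) : lin p act e σ ≠ 0 := by
  obtain ⟨a, b, ha, h⟩ := haff σ
  have h0 := h (e.symm 0)
  have h1 := h (e.symm 1)
  rw [Equiv.apply_symm_apply] at h0 h1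
  rw [lin, h1, h0]
  intro hh
  apply ha
  have : a * 1 + b - (a * 0 + b) = a := by ring
  rw [this] at hh
  exact hh

include haff hmul in
theorem lin_mul (σ τ : G) : lin p act e (σ * τ) = lin p act e σ * lin p act e τ := by
  have h1 : ∀ x, e (act (σ * τ) x) =
      lin p act e σ * (lin p act e τ * e x + tr p act e τ) + tr p act e σ := by
    intro x
    rw [hmul, act_eq p act e haff σ, act_eq p act e haff τ]
  conv_lhs => rw [lin, h1, h1]
  rw [Equiv.apply_symm_apply, Equiv.apply_symm_apply]
  ring

include hone in
theorem lin_one : lin p act e (1 : G) = 1 := by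
  rw [lin, hone, hone, Equiv.apply_symm_apply, Equiv.apply_symm_apply, sub_zero]

/-- the linear part as a homomorphism to the units -/
noncomputable def linHom : G →* (ZMod p)ˣ where
  toFun σ := Units.mk0 (lin p act e σ) (lin_ne_zero p act e haff σ)
  map_one' := by
    apply Units.ext
    simp only [Units.val_mk0, Units.val_one]
    exact lin_one p act hone e
  map_mul' σ τ := by
    apply Units.ext
    simp only [Units.val_mk0, Units.val_mul]
    exact lin_mul p act hmul e haff σ τ

theorem linHom_apply (σ : G) :
    ((linHom p act hone hmul e haff σ : (ZMod p)ˣ) : ZMod p) = lin p act e σ := rfl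

theorem mem_ker_iff (σ : G) : σ ∈ (linHom p act hone hmul e haff).ker ↔ lin p act e σ = 1 := by
  rw [MonoidHom.mem_ker, Units.ext_iff, linHom_apply, Units.val_one]

include haff in
/-- a transformation with nontrivial linear part has a fixed point -/
theorem exists_fixed (σ : G) (h : lin p act e σ ≠ 1) : ∃ x : X, act σ x = x := by
  have h1 : (1 - lin p act e σ) ≠ 0 := sub_ne_zero.2 (Ne.symm h)
  refine ⟨e.symm (tr p act e σ / (1 - lin p act e σ)), ?_⟩
  apply e.injective
  rw [act_eq p act e haff, Equiv.apply_symm_apply]
  field_simp
  ring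

include haff hone hmul in
/-- if all linear parts are trivial and the action is faithful then the group is commutative of
order at most `p` -/
theorem comm_of_lin_eq_one [Finite G] (hfaith : ∀ σ : G, (∀ x, act σ x = x) → σ = 1)
    (h : ∀ σ : G, lin p act e σ = 1) :
    (∀ σ τ : G, σ * τ = τ * σ) ∧ Nat.card G ≤ p := by
  have hact : ∀ σ x, e (act σ x) = e x + tr p act e σ := by
    intro σ x
    rw [act_eq p act e haff, h, one_mul]
  have heq : ∀ σ τ : G, (∀ x, act σ x = act τ x) → σ = τ := by
    intro σ τ hh
    have h1 : σ⁻¹ * τ = 1 := by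
      apply hfaith
      intro x
      have h2 : act σ (act (σ⁻¹ * τ) x) = act σ x := by
        rw [← hmul, mul_inv_cancel_left, hh]
      apply e.injective
      have h3 := congrArg e h2
      rw [hact, hact σ x] at h3
      exact add_right_cancel h3
    rw [inv_mul_eq_one] at h1
    exact h1
  refine ⟨fun σ τ => ?_, ?_⟩
  · apply heq
    intro x
    apply e.injective
    rw [hmul, hmul, hact, hact, hact, hact]
    ring
  · have hinj : Function.Injective (tr p act e : G → ZMod p) := by
      intro σ τ hh
      apply heq
      intro x
      apply e.injective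
      rw [hact, hact, hh]
    have := Nat.card_le_card_of_injective _ hinj
    rwa [Nat.card_zmod] at this

end abstract

end Groth.Agent.Lib.helper12.AffGroup
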