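import Mathlib
import Groth.Agent.Lib.Helper12.AffGroup
set_option linter.style.haveILetI false
set_option linter.unusedSectionVars false

namespace Groth.Agent.Lib.helper12.AffGalois
open IntermediateField NumberField

variable (K L Ω : Type*) [Field K] [NumberField K] [Field L] [NumberField L] [Algebra K L]
  [Field Ω] [Algebra K Ω] [IsAlgClosure K Ω]

instance instNumberFieldN : NumberField ↥(normalClosure K L Ω) :=
  NumberField.of_module_finite K _

instance instNumberFieldSub (E : IntermediateField K ↥(normalClosure K L Ω)) : NumberField ↥E :=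
  NumberField.of_module_finite K _

variable {K L Ω}

/-- the action of the Galois group of the normal closure on embeddings -/
noncomputable def act (σ : ↥(normalClosure K L Ω) ≃ₐ[K] ↥(normalClosure K L Ω))
    (φ : L →ₐ[K] ↥(normalClosure K L Ω)) : L →ₐ[K] ↥(normalClosure K L Ω) :=
  σ.toAlgHom.comp φ

theorem act_one (φ : L →ₐ[K] ↥(normalClosure K L Ω)) : act 1 φ = φ := by
  ext x
  rfl

theorem act_mul (σ τ : ↥(normalClosure K L Ω) ≃ₐ[K] ↥(normalClosure K L Ω))
    (φ : L →ₐ[K] ↥(normalClosure K L Ω)) : act (σ * τ) φ = act σ (act τ φ) := by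
  ext x
  rfl

/-- the labelling of embeddings into the normal closure -/
noncomputable def eN {p : ℕ} (e : (L →ₐ[K] Ω) ≃ ZMod p) :
    (L →ₐ[K] ↥(normalClosure K L Ω)) ≃ ZMod p :=
  (normalClosure.algHomEquiv K L Ω).trans e

theorem haffN {p : ℕ} (e : (L →ₐ[K] Ω) ≃ ZMod p)
    (haff : ∀ σ : Ω ≃ₐ[K] Ω, ∃ a b : ZMod p, a ≠ 0 ∧
      ∀ φ : L →ₐ[K] Ω, e (σ.toAlgHom.comp φ) = a * e φ + b)
    (σ : ↥(normalClosure K L Ω) ≃ₐ[K] ↥(normalClosure K L Ω)) :
    ∃ a b : ZMod p, a ≠ 0 ∧ ∀ φ : L →ₐ[K] ↥(normalClosure K L Ω),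
      eN e (act σ φ) = a * eN e φ + b := by
  obtain ⟨a, b, ha, h⟩ := haff (σ.liftNormal Ω)
  refine ⟨a, b, ha, fun φ => ?_⟩
  have h1 := h ((normalClosure K L Ω).val.comp φ)
  have h2 : (σ.liftNormal Ω).toAlgHom.comp ((normalClosure K L Ω).val.comp φ) =
      (normalClosure K L Ω).val.comp (act σ φ) := by
    ext x
    exact σ.liftNormal_commutes Ω (φ x)
  rw [h2] at h1
  exact h1

/-- the Galois group of the normal closure acts faithfully on the embeddings -/
theorem faithful (τ : ↥(normalClosure K L Ω) ≃ₐ[K] ↥(normalClosure K L Ω))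
    (h : ∀ φ : L →ₐ[K] ↥(normalClosure K L Ω), τ.toAlgHom.comp φ = φ) : τ = 1 := by
  set τ' : Ω ≃ₐ[K] Ω := τ.liftNormal Ω with hτ'
  have hfix : ∀ f : L →ₐ[K] Ω, f.fieldRange ≤
      IntermediateField.fixedField (Subgroup.zpowers τ') := by
    intro f
    rw [IntermediateField.le_iff_le, Subgroup.zpowers_le]
    rintro ⟨_, ⟨l, rfl⟩⟩
    set φ := (normalClosure.algHomEquiv K L Ω).symm f with hφ
    have hf : f = (normalClosure K L Ω).val.comp φ :=
      ((normalClosure.algHomEquiv K L Ω).apply_symm_apply f).symm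
    have h1 : τ' (f l) = algebraMap ↥(normalClosure K L Ω) Ω (τ (φ l)) := by
      rw [hf]
      exact τ.liftNormal_commutes Ω (φ l)
    have h2 : τ (φ l) = φ l := DFunLike.congr_fun (h φ) l
    show τ' (f l) = f l
    rw [h1, h2, hf]
    rfl
  have hN : normalClosure K L Ω ≤ IntermediateField.fixedField (Subgroup.zpowers τ') := by
    rw [normalClosure_def]
    exact iSup_le hfix
  ext x
  have h1 := hN x.2
  rw [IntermediateField.mem_fixedField_iff] at h1
  have h2 := h1 τ' (Subgroup.mem_zpowers τ')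
  have h3 : τ' (algebraMap ↥(normalClosure K L Ω) Ω x) =
      algebraMap ↥(normalClosure K L Ω) Ω (τ x) := τ.liftNormal_commutes Ω x
  exact h3.symm.trans h2

section field
variable {p : ℕ} [hp : Fact p.Prime] (e : (L →ₐ[K] Ω) ≃ ZMod p)
  (haff : ∀ σ : Ω ≃ₐ[K] Ω, ∃ a b : ZMod p, a ≠ 0 ∧
    ∀ φ : L →ₐ[K] Ω, e (σ.toAlgHom.comp φ) = a * e φ + b)

/-- the linear part of the action of an element of the Galois group of the normal closure -/
noncomputable def linN (σ : ↥(normalClosure K L Ω) ≃ₐ[K] ↥(normalClosure K L Ω)) : ZMod p :=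
  AffGroup.lin p act (eN e) σ

/-- the linear part as a homomorphism -/
noncomputable def linHomN :
    (↥(normalClosure K L Ω) ≃ₐ[K] ↥(normalClosure K L Ω)) →* (ZMod p)ˣ :=
  AffGroup.linHom p act act_one act_mul (eN e) (haffN e haff)

theorem mem_ker_linHomN (σ : ↥(normalClosure K L Ω) ≃ₐ[K] ↥(normalClosure K L Ω)) :
    σ ∈ (linHomN e haff).ker ↔ linN e σ = 1 :=
  AffGroup.mem_ker_iff p act act_one act_mul (eN e) (haffN e haff) σ

/-- the cyclic subextension: the fixed field of the translations -/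
noncomputable def E₀ : IntermediateField K ↥(normalClosure K L Ω) :=
  IntermediateField.fixedField (linHomN e haff).ker

instance isGalois_E₀ : IsGalois K ↥(E₀ e haff) :=
  IsGalois.of_fixedField_normal_subgroup (linHomN e haff).ker

/-- the Galois group of `E₀` is the image of the linear part -/
noncomputable def galE₀ : (linHomN e haff).range ≃* (↥(E₀ e haff) ≃ₐ[K] ↥(E₀ e haff)) :=
  (QuotientGroup.quotientKerEquivRange (linHomN e haff)).symm.trans
    (IsGalois.normalAutEquivQuotient (linHomN e haff).ker)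

theorem isCyclic_E₀ : IsCyclic (↥(E₀ e haff) ≃ₐ[K] ↥(E₀ e haff)) := by
  haveI : IsCyclic (linHomN e haff).range := Subgroup.isCyclic _
  exact isCyclic_of_surjective (galE₀ e haff) (galE₀ e haff).surjective

theorem finrank_E₀ :
    Module.finrank K ↥(E₀ e haff) = Nat.card (linHomN e haff).range := by
  rw [← IsGalois.card_aut_eq_finrank K ↥(E₀ e haff)]
  exact Nat.card_congr (galE₀ e haff).symm.toEquiv

theorem one_lt_finrank_E₀
    (h : ∃ σ : ↥(normalClosure K L Ω) ≃ₐ[K] ↥(normalClosure K L Ω), linN e σ ≠ 1) :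
    1 < Module.finrank K ↥(E₀ e haff) := by
  rw [finrank_E₀]
  obtain ⟨σ, hσ⟩ := h
  haveI : Nontrivial (linHomN e haff).range := by
    refine ⟨⟨⟨linHomN e haff σ, ⟨σ, rfl⟩⟩, 1, ?_⟩⟩
    intro h1
    apply hσ
    have h2 : linHomN e haff σ = 1 := congrArg Subtype.val h1
    exact (mem_ker_linHomN e haff σ).1 h2
  exact Finite.one_lt_card

theorem fixes_E₀ (σ : ↥(normalClosure K L Ω) ≃ₐ[K] ↥(normalClosure K L Ω))
    (hσ : linN e σ = 1) (x : ↥(E₀ e haff)) :
    σ (x : ↥(normalClosure K L Ω)) = x :=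
  (IntermediateField.mem_fixedField_iff _ _).1 x.2 σ ((mem_ker_linHomN e haff σ).2 hσ)

include haff in
theorem finrank_eq_p : Module.finrank K L = p := by
  haveI : IsAlgClosed Ω := IsAlgClosure.isAlgClosed K
  have h := AlgHom.card K L Ω
  rw [← h, Fintype.card_congr e, ZMod.card]

include haff in
/-- some element of the Galois group has nontrivial linear part, unless `L / K` is abelian -/
theorem exists_linN_ne_one (hnab : IsGalois K L → ∃ σ τ : L ≃ₐ[K] L, σ * τ ≠ τ * σ) :
    ∃ σ : ↥(normalClosure K L Ω) ≃ₐ[K] ↥(normalClosure K L Ω), linN e σ ≠ 1 := by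
  by_contra hcon
  push Not at hcon
  obtain ⟨hcomm, hcard⟩ := AffGroup.comm_of_lin_eq_one p act act_one act_mul (eN e)
    (haffN e haff) (fun σ h => faithful σ h) hcon
  have h1 : Module.finrank K ↥(normalClosure K L Ω) ≤ p := by
    rw [← IsGalois.card_aut_eq_finrank K ↥(normalClosure K L Ω)]
    exact hcard
  have h2 : Module.finrank K L = p := finrank_eq_p e haff
  set φ₀ : L →ₐ[K] ↥(normalClosure K L Ω) := (eN e).symm 0 with hφ₀
  have hinj : Function.Injective φ₀ := φ₀.toRingHom.injective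
  have h3 : Module.finrank K L ≤ Module.finrank K ↥(normalClosure K L Ω) :=
    LinearMap.finrank_le_finrank_of_injective (f := φ₀.toLinearMap) hinj
  have h4 : Module.finrank K L = Module.finrank K ↥(normalClosure K L Ω) := by omega
  have hbij : Function.Bijective φ₀ :=
    ⟨hinj, (LinearMap.injective_iff_surjective_of_finrank_eq_finrank (f := φ₀.toLinearMap) h4).1
      hinj⟩
  set ψ : L ≃ₐ[K] ↥(normalClosure K L Ω) := AlgEquiv.ofBijective φ₀ hbij with hψ
  haveI : IsGalois K L := IsGalois.of_algEquiv ψ.symm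
  obtain ⟨σ, τ, hne⟩ := hnab inferInstance
  apply hne
  apply (AlgEquiv.autCongr ψ).injective
  rw [map_mul, map_mul]
  exact hcomm _ _

end field

section lift
variable (E : IntermediateField K ↥(normalClosure K L Ω))

theorem lift_props [IsGalois K ↥E] (hc : IsCyclic (↥E ≃ₐ[K] ↥E))
    (hr : 1 < Module.finrank K ↥E) :
    FiniteDimensional K ↥(IntermediateField.lift E) ∧ IsGalois K ↥(IntermediateField.lift E) ∧
      IsCyclic (↥(IntermediateField.lift E) ≃ₐ[K] ↥(IntermediateField.lift E)) ∧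
      1 < Module.finrank K ↥(IntermediateField.lift E) := by
  set ψ : ↥E ≃ₐ[K] ↥(IntermediateField.lift E) := IntermediateField.liftAlgEquiv E with hψ
  refine ⟨ψ.toLinearEquiv.finiteDimensional, IsGalois.of_algEquiv ψ, ?_, ?_⟩
  · exact isCyclic_of_surjective (AlgEquiv.autCongr ψ) (AlgEquiv.autCongr ψ).surjective
  · rw [← ψ.toLinearEquiv.finrank_eq]
    exact hr

end lift

end Groth.Agent.Lib.helper12.AffGalois
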