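import Mathlib
set_option linter.style.haveILetI false
set_option linter.unusedSectionVars false

namespace Groth.Agent.Lib.helper12.AffInertia
open IsDedekindDomain HeightOneSpectrum NumberField

section rigid
variable {R A B : Type*} [CommRing R] [CommRing A] [CommRing B] [Algebra R A] [Algebra R B]

/-- the induced map between localizations, as an algebra homomorphism -/
noncomputable def locHom (P : Ideal A) [P.IsPrime] (𝔓 : Ideal B) [𝔓.IsPrime] (f : A →ₐ[R] B)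
    (h : P = 𝔓.comap f) : Localization.AtPrime P →ₐ[R] Localization.AtPrime 𝔓 where
  toRingHom := Localization.localRingHom P 𝔓 (f : A →+* B) h
  commutes' r := by
    simp [IsScalarTower.algebraMap_apply R A (Localization.AtPrime P),
      Localization.localRingHom_to_map,
      IsScalarTower.algebraMap_apply R B (Localization.AtPrime 𝔓)]

theorem locHom_algebraMap (P : Ideal A) [P.IsPrime] (𝔓 : Ideal B) [𝔓.IsPrime] (f : A →ₐ[R] B)
    (h : P = 𝔓.comap f) (a : A) :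
    locHom P 𝔓 f h (algebraMap A (Localization.AtPrime P) a) =
      algebraMap B (Localization.AtPrime 𝔓) (f a) :=
  Localization.localRingHom_to_map P 𝔓 (f : A →+* B) h a

/-- two algebra homomorphisms congruent modulo a prime are equal if the source is unramified at
the contraction of the prime -/
theorem algHom_eq_of_sub_mem [IsDomain B] [IsNoetherianRing B] (𝔓 : Ideal B) [𝔓.IsPrime]
    (f₁ f₂ : A →ₐ[R] B) (hcong : ∀ x, f₁ x - f₂ x ∈ 𝔓) (P : Ideal A) [P.IsPrime]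
    (hP : P = 𝔓.comap f₁) [Algebra.IsUnramifiedAt R P] : f₁ = f₂ := by
  have hP₂ : P = 𝔓.comap f₂ := by
    rw [hP]
    ext x
    rw [Ideal.mem_comap, Ideal.mem_comap]
    constructor
    · intro h
      have := 𝔓.sub_mem h (hcong x)
      rwa [sub_sub_cancel] at this
    · intro h
      have := 𝔓.add_mem (hcong x) h
      rwa [sub_add_cancel] at this
  set g₁ := locHom P 𝔓 f₁ hP with hg₁
  set g₂ := locHom P 𝔓 f₂ hP₂ with hg₂
  have hg : g₁ = g₂ := by
    haveI : Algebra.FormallyUnramified R (Localization.AtPrime P) := ‹Algebra.IsUnramifiedAt R P›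
    refine Algebra.FormallyUnramified.ext_of_iInf
      (I := IsLocalRing.maximalIdeal (Localization.AtPrime 𝔓))
      (Ideal.iInf_pow_eq_bot_of_isLocalRing _ Ideal.IsPrime.ne_top') fun x => ?_
    rw [Ideal.Quotient.eq]
    obtain ⟨a, s, rfl⟩ := IsLocalization.exists_mk'_eq P.primeCompl x
    have h1 : g₁ (IsLocalization.mk' _ a s) * algebraMap B (Localization.AtPrime 𝔓) (f₁ s) =
        algebraMap B (Localization.AtPrime 𝔓) (f₁ a) := by
      rw [← locHom_algebraMap P 𝔓 f₁ hP, ← locHom_algebraMap P 𝔓 f₁ hP, ← map_mul,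
        IsLocalization.mk'_spec]
    have h2 : g₂ (IsLocalization.mk' _ a s) * algebraMap B (Localization.AtPrime 𝔓) (f₂ s) =
        algebraMap B (Localization.AtPrime 𝔓) (f₂ a) := by
      rw [← locHom_algebraMap P 𝔓 f₂ hP₂, ← locHom_algebraMap P 𝔓 f₂ hP₂, ← map_mul,
        IsLocalization.mk'_spec]
    have key : (g₁ (IsLocalization.mk' _ a s) - g₂ (IsLocalization.mk' _ a s)) *
        algebraMap B (Localization.AtPrime 𝔓) (f₁ s * f₂ s) =
        algebraMap B (Localization.AtPrime 𝔓) (f₁ a * f₂ s - f₂ a * f₁ s) := by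
      rw [map_sub, map_mul, map_mul, map_mul, ← h1, ← h2]
      ring
    have hmem : f₁ a * f₂ s - f₂ a * f₁ s ∈ 𝔓 := by
      have e : f₁ a * f₂ s - f₂ a * f₁ s =
          (f₁ a - f₂ a) * f₂ s - f₂ a * (f₁ s - f₂ s) := by ring
      rw [e]
      exact 𝔓.sub_mem (𝔓.mul_mem_right _ (hcong a)) (𝔓.mul_mem_left _ (hcong s))
    have hmem' : algebraMap B (Localization.AtPrime 𝔓) (f₁ a * f₂ s - f₂ a * f₁ s) ∈
        IsLocalRing.maximalIdeal (Localization.AtPrime 𝔓) :=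
      (IsLocalization.AtPrime.to_map_mem_maximal_iff (Localization.AtPrime 𝔓) 𝔓 _).2 hmem
    rw [← key] at hmem'
    refine ((IsLocalRing.maximalIdeal.isMaximal _).isPrime.mem_or_mem hmem').resolve_right ?_
    rw [IsLocalization.AtPrime.to_map_mem_maximal_iff (Localization.AtPrime 𝔓) 𝔓]
    intro h
    rcases (inferInstance : 𝔓.IsPrime).mem_or_mem h with h | h
    · have hs : (s : A) ∈ 𝔓.comap f₁ := Ideal.mem_comap.2 h
      rw [← hP] at hs
      exact s.2 hs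
    · have hs : (s : A) ∈ 𝔓.comap f₂ := Ideal.mem_comap.2 h
      rw [← hP₂] at hs
      exact s.2 hs
  ext a
  apply IsLocalization.injective (Localization.AtPrime 𝔓) 𝔓.primeCompl_le_nonZeroDivisors
  rw [← locHom_algebraMap P 𝔓 f₁ hP, ← locHom_algebraMap P 𝔓 f₂ hP₂]
  exact DFunLike.congr_fun hg _

end rigid

section nf
variable {K L N : Type*} [Field K] [NumberField K] [Field L] [NumberField L] [Algebra K L]
  [Field N] [NumberField N] [Algebra K N] [IsGalois K N]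

theorem liesOver_comap (w : HeightOneSpectrum (𝓞 K)) (𝔓 : Ideal (𝓞 N))
    [h𝔓 : 𝔓.LiesOver w.asIdeal] (φ : L →ₐ[K] N) :
    (𝔓.comap (RingOfIntegers.mapAlgHom φ : 𝓞 L →ₐ[𝓞 K] 𝓞 N)).LiesOver w.asIdeal := by
  constructor
  ext x
  rw [Ideal.under, Ideal.mem_comap, Ideal.mem_comap, AlgHom.commutes]
  exact Ideal.mem_of_liesOver 𝔓 w.asIdeal x

/-- elements of the inertia group fix every embedding of a field unramified at `w` -/
theorem comp_eq_of_mem_inertia (w : HeightOneSpectrum (𝓞 K)) (𝔓 : Ideal (𝓞 N)) [𝔓.IsPrime]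
    [h𝔓 : 𝔓.LiesOver w.asIdeal]
    (hL : ∀ P : Ideal (𝓞 L), P.IsPrime → P.LiesOver w.asIdeal → P.ramificationIdx (𝓞 K) = 1)
    (τ : N ≃ₐ[K] N) (hτ : τ ∈ 𝔓.inertia (N ≃ₐ[K] N)) (φ : L →ₐ[K] N) :
    τ.toAlgHom.comp φ = φ := by
  set f₁ : 𝓞 L →ₐ[𝓞 K] 𝓞 N := RingOfIntegers.mapAlgHom φ with hf₁
  set f₂ : 𝓞 L →ₐ[𝓞 K] 𝓞 N := RingOfIntegers.mapAlgHom (τ.toAlgHom.comp φ) with hf₂
  set P : Ideal (𝓞 L) := 𝔓.comap f₁ with hP
  haveI : P.IsPrime := Ideal.comap_isPrime f₁ 𝔓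
  haveI hPw : P.LiesOver w.asIdeal := liesOver_comap w 𝔓 φ
  have he : P.ramificationIdx (𝓞 K) = 1 := hL P inferInstance hPw
  haveI : PerfectField (P.under (𝓞 K)).ResidueField := inferInstance
  haveI : Algebra.IsUnramifiedAt (𝓞 K) P := Ideal.ramificationIdx_eq_one_iff.1 he
  have hcong : ∀ x, f₂ x - f₁ x ∈ 𝔓 := by
    intro x
    have h1 := hτ (f₁ x)
    have h2 : τ • f₁ x = f₂ x := by
      apply RingOfIntegers.ext
      rfl
    rw [h2] at h1
    exact h1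
  have hcong' : ∀ x, f₁ x - f₂ x ∈ 𝔓 := by
    intro x
    have := 𝔓.neg_mem (hcong x)
    rwa [neg_sub] at this
  have hfeq : f₁ = f₂ := algHom_eq_of_sub_mem 𝔓 f₁ f₂ hcong' P rfl
  -- pass to the fraction fields
  ext y
  obtain ⟨a, b, hb, rfl⟩ := IsFractionRing.div_surjective (A := 𝓞 L) y
  have ha : τ.toAlgHom.comp φ (algebraMap (𝓞 L) L a) = φ (algebraMap (𝓞 L) L a) := by
    have := congrArg (fun f : 𝓞 L →ₐ[𝓞 K] 𝓞 N => algebraMap (𝓞 N) N (f a)) hfeq
    exact this.symm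
  have hb' : τ.toAlgHom.comp φ (algebraMap (𝓞 L) L b) = φ (algebraMap (𝓞 L) L b) := by
    have := congrArg (fun f : 𝓞 L →ₐ[𝓞 K] 𝓞 N => algebraMap (𝓞 N) N (f b)) hfeq
    exact this.symm
  rw [map_div₀, map_div₀, ha, hb']

/-- the inertia group is trivial when the Galois closure is generated by embeddings of a field
unramified at `w` -/
theorem inertia_eq_bot (w : HeightOneSpectrum (𝓞 K)) (𝔓 : Ideal (𝓞 N)) [𝔓.IsPrime]
    [h𝔓 : 𝔓.LiesOver w.asIdeal]
    (hL : ∀ P : Ideal (𝓞 L), P.IsPrime → P.LiesOver w.asIdeal → P.ramificationIdx (𝓞 K) = 1)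
    (hgen : ∀ τ : N ≃ₐ[K] N, (∀ φ : L →ₐ[K] N, τ.toAlgHom.comp φ = φ) → τ = 1) :
    𝔓.inertia (N ≃ₐ[K] N) = ⊥ := by
  rw [Subgroup.eq_bot_iff_forall]
  intro τ hτ
  exact hgen τ fun φ => comp_eq_of_mem_inertia w 𝔓 hL τ hτ φ

theorem ramificationIdx_eq_one (w : HeightOneSpectrum (𝓞 K)) (𝔓 : Ideal (𝓞 N)) [𝔓.IsPrime]
    [h𝔓 : 𝔓.LiesOver w.asIdeal]
    (hL : ∀ P : Ideal (𝓞 L), P.IsPrime → P.LiesOver w.asIdeal → P.ramificationIdx (𝓞 K) = 1)
    (hgen : ∀ τ : N ≃ₐ[K] N, (∀ φ : L →ₐ[K] N, τ.toAlgHom.comp φ = φ) → τ = 1) :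
    𝔓.ramificationIdx (𝓞 K) = 1 := by
  have h1 := Ideal.card_inertia_eq_ramificationIdxIn (G := N ≃ₐ[K] N) w.asIdeal 𝔓
  rw [inertia_eq_bot w 𝔓 hL hgen, Ideal.ramificationIdxIn_eq_ramificationIdx w.asIdeal 𝔓
    (N ≃ₐ[K] N)] at h1
  rw [← h1]
  simp

end nf

end Groth.Agent.Lib.helper12.AffInertia
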