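import Mathlib
set_option linter.style.haveILetI false
set_option linter.unusedSectionVars false

namespace Groth.Agent.Lib.helper12.NFHensel

open IsDedekindDomain HeightOneSpectrum NumberField IsLocalRing
open scoped WithZero NNReal

theorem lt_one_iff_le_exp_neg_one (x : ℤᵐ⁰) : x < 1 ↔ x ≤ WithZero.exp (-1 : ℤ) := by
  rcases eq_or_ne x 0 with rfl | hx
  · simp
  · rw [← WithZero.exp_log hx, ← WithZero.exp_zero, WithZero.exp_lt_exp, WithZero.exp_le_exp]
    omega

section complete
variable {K : Type*} [Field K] [NumberField K] (v : HeightOneSpectrum (𝓞 K))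

/-- there is a uniformizer in the completion's integers -/
theorem exists_uniformizer :
    ∃ ϖ : v.adicCompletionIntegers K, Valued.v (ϖ : v.adicCompletion K) = WithZero.exp (-1 : ℤ) := by
  obtain ⟨π, hπ⟩ := v.valuation_exists_uniformizer K
  refine ⟨⟨(π : v.adicCompletion K), ?_⟩, ?_⟩
  · rw [mem_adicCompletionIntegers, valuedAdicCompletion_eq_valuation', hπ]
    decide
  · simpa [valuedAdicCompletion_eq_valuation'] using hπ

theorem mem_maximalIdeal_iff (x : v.adicCompletionIntegers K) :
    x ∈ maximalIdeal (v.adicCompletionIntegers K) ↔ Valued.v (x : v.adicCompletion K) < 1 := by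
  rw [mem_maximalIdeal, mem_nonunits_iff, adicCompletionIntegers.isUnit_iff_valued_eq_one]
  have := x.2
  rw [mem_adicCompletionIntegers] at this
  exact ⟨fun h => lt_of_le_of_ne this h, fun h => h.ne⟩

theorem maximalIdeal_eq_span (ϖ : v.adicCompletionIntegers K)
    (hϖ : Valued.v (ϖ : v.adicCompletion K) = WithZero.exp (-1 : ℤ)) :
    maximalIdeal (v.adicCompletionIntegers K) = Ideal.span {ϖ} := by
  ext x
  rw [mem_maximalIdeal_iff, Ideal.mem_span_singleton,
    (adicCompletionIntegers.integers K v).dvd_iff_le]
  change _ ↔ Valued.v (x : v.adicCompletion K) ≤ Valued.v (ϖ : v.adicCompletion K)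
  rw [hϖ]
  exact lt_one_iff_le_exp_neg_one _

theorem mem_maximalIdeal_pow_iff (x : v.adicCompletionIntegers K) (n : ℕ) :
    x ∈ maximalIdeal (v.adicCompletionIntegers K) ^ n ↔
      Valued.v (x : v.adicCompletion K) ≤ WithZero.exp (-(n : ℤ)) := by
  obtain ⟨ϖ, hϖ⟩ := exists_uniformizer v
  rw [maximalIdeal_eq_span v ϖ hϖ, Ideal.span_singleton_pow, Ideal.mem_span_singleton,
    (adicCompletionIntegers.integers K v).dvd_iff_le]
  change Valued.v (x : v.adicCompletion K) ≤ Valued.v ((ϖ ^ n : v.adicCompletionIntegers K) : v.adicCompletion K) ↔ _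
  rw [SubmonoidClass.coe_pow, map_pow, hϖ, ← WithZero.exp_nsmul]
  simp


theorem toNNReal_exp {e : ℝ≥0} (he : e ≠ 0) (n : ℤ) :
    WithZeroMulInt.toNNReal he (WithZero.exp n) = e ^ n := by
  rw [WithZeroMulInt.toNNReal_neg_apply he WithZero.exp_ne_zero]
  congr 1

theorem norm_le_pow_iff (x : v.adicCompletion K) (n : ℕ) :
    ‖x‖ ≤ ((Ideal.absNorm v.asIdeal : ℝ)⁻¹) ^ n ↔ Valued.v x ≤ WithZero.exp (-(n : ℤ)) := by
  rw [FinitePlace.norm_def, ← (WithZeroMulInt.toNNReal_strictMono
    (NumberField.HeightOneSpectrum.one_lt_absNorm_nnreal v)).le_iff_le,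
    toNNReal_exp, ← NNReal.coe_le_coe]
  simp

theorem mem_maximalIdeal_pow_iff_norm (x : v.adicCompletionIntegers K) (n : ℕ) :
    x ∈ maximalIdeal (v.adicCompletionIntegers K) ^ n ↔
      ‖(x : v.adicCompletion K)‖ ≤ ((Ideal.absNorm v.asIdeal : ℝ)⁻¹) ^ n := by
  rw [mem_maximalIdeal_pow_iff, norm_le_pow_iff]

theorem norm_le_one_iff (x : v.adicCompletion K) :
    ‖x‖ ≤ 1 ↔ x ∈ v.adicCompletionIntegers K := by
  have := norm_le_pow_iff v x 0
  simp [mem_adicCompletionIntegers] at this ⊢

instance isAdicComplete :
    IsAdicComplete (maximalIdeal (v.adicCompletionIntegers K)) (v.adicCompletionIntegers K) where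
  prec' f hf := by
    set r : ℝ := (Ideal.absNorm v.asIdeal : ℝ)⁻¹ with hr
    have hq : (1 : ℝ) < Ideal.absNorm v.asIdeal := by
      exact_mod_cast NumberField.HeightOneSpectrum.one_lt_absNorm v
    have hr0 : 0 < r := by positivity
    have hr1 : r < 1 := inv_lt_one_of_one_lt₀ hq
    have hf' : ∀ {m n : ℕ}, m ≤ n → ‖((f m : v.adicCompletion K) - f n)‖ ≤ r ^ m := by
      intro m n hmn
      have := hf hmn
      rw [SModEq.sub_mem, smul_eq_mul, Ideal.mul_top, mem_maximalIdeal_pow_iff_norm] at this
      exact this
    have hc : CauchySeq (fun n => (f n : v.adicCompletion K)) := by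
      apply cauchySeq_of_le_geometric r 1 hr1
      intro n
      rw [dist_eq_norm, one_mul]
      exact hf' (Nat.le_succ n)
    obtain ⟨L, hL⟩ := cauchySeq_tendsto_of_complete hc
    have hLn : ∀ n, ‖(f n : v.adicCompletion K) - L‖ ≤ r ^ n := by
      intro n
      have h1 : Filter.Tendsto (fun m => ‖(f n : v.adicCompletion K) - f m‖) Filter.atTop
          (nhds ‖(f n : v.adicCompletion K) - L‖) :=
        (tendsto_const_nhds.sub hL).norm
      refine le_of_tendsto h1 ?_
      filter_upwards [Filter.eventually_ge_atTop n] with m hm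
      exact hf' hm
    have hLmem : L ∈ v.adicCompletionIntegers K := by
      have h0 := hLn 0
      rw [pow_zero, norm_le_one_iff] at h0
      have := (v.adicCompletionIntegers K).sub_mem (f 0).2 h0
      simpa using this
    refine ⟨⟨L, hLmem⟩, fun n => ?_⟩
    rw [SModEq.sub_mem, smul_eq_mul, Ideal.mul_top, mem_maximalIdeal_pow_iff_norm]
    exact hLn n


end complete

section hensel


open IsDedekindDomain HeightOneSpectrum NumberField IsLocalRing Polynomial
open scoped WithZero NNReal

variable {K : Type*} [Field K] [NumberField K] (v : HeightOneSpectrum (𝓞 K))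

/-- Hensel's lemma: a `v`-integral monic polynomial over `K` with a `v`-integral approximate
simple root has a root in the completion. -/
theorem exists_root_adicCompletion (f : K[X]) (hf : f.Monic)
    (hcoeff : ∀ i, v.valuation K (f.coeff i) ≤ 1) (r : K) (hr : v.valuation K r ≤ 1)
    (hfr : v.valuation K (f.eval r) < 1) (hfr' : v.valuation K (f.derivative.eval r) = 1) :
    ∃ ρ : v.adicCompletion K, aeval ρ f = 0 := by
  set O := v.adicCompletionIntegers K with hO
  have hlift : f.map (algebraMap K (v.adicCompletion K)) ∈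
      Polynomial.lifts (algebraMap O (v.adicCompletion K)) := by
    rw [Polynomial.lifts_iff_coeff_lifts]
    intro n
    rw [coeff_map]
    have hmem : algebraMap K (v.adicCompletion K) (f.coeff n) ∈ v.adicCompletionIntegers K := by
      rw [mem_adicCompletionIntegers]
      have := valuedAdicCompletion_eq_valuation' v (f.coeff n)
      rw [algebraMap_adicCompletion]
      simpa [this] using hcoeff n
    exact ⟨⟨_, hmem⟩, rfl⟩
  obtain ⟨F, hFmap, -, hFmonic⟩ := Polynomial.lifts_and_degree_eq_and_monic hlift (hf.map _)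
  have hrmem : algebraMap K (v.adicCompletion K) r ∈ v.adicCompletionIntegers K := by
    rw [mem_adicCompletionIntegers, algebraMap_adicCompletion]
    simpa [valuedAdicCompletion_eq_valuation'] using hr
  set a₀ : O := ⟨_, hrmem⟩ with ha₀
  have hev : ∀ g : O[X], ∀ g₀ : K[X], g.map (algebraMap O (v.adicCompletion K)) =
      g₀.map (algebraMap K (v.adicCompletion K)) →
      ((g.eval a₀ : O) : v.adicCompletion K) = algebraMap K (v.adicCompletion K) (g₀.eval r) := by
    intro g g₀ h
    have h1 : ((g.eval a₀ : O) : v.adicCompletion K) =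
        (g.map (algebraMap O (v.adicCompletion K))).eval (algebraMap O (v.adicCompletion K) a₀) := by
      rw [eval_map, eval₂_at_apply]
      rfl
    rw [h1, h, eval_map]
    change eval₂ (algebraMap K (v.adicCompletion K)) (algebraMap K (v.adicCompletion K) r) g₀ = _
    rw [eval₂_at_apply]
  have h1 : F.eval a₀ ∈ maximalIdeal O := by
    rw [mem_maximalIdeal_iff, hev F f hFmap, algebraMap_adicCompletion]
    simpa [valuedAdicCompletion_eq_valuation'] using hfr
  have h2 : IsUnit (F.derivative.eval a₀) := by
    rw [adicCompletionIntegers.isUnit_iff_valued_eq_one,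
      hev F.derivative f.derivative (by rw [← derivative_map, ← derivative_map, hFmap]),
      algebraMap_adicCompletion]
    simpa [valuedAdicCompletion_eq_valuation'] using hfr'
  obtain ⟨a, ha, -⟩ := HenselianRing.is_henselian (I := maximalIdeal O) F hFmonic a₀ h1
    (h2.map _)
  refine ⟨(a : v.adicCompletion K), ?_⟩
  rw [aeval_def, eval₂_eq_eval_map, ← hFmap, eval_map]
  have : eval₂ (algebraMap O (v.adicCompletion K)) (algebraMap O (v.adicCompletion K) a) F =
      algebraMap O (v.adicCompletion K) (F.eval a) := by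
    rw [eval₂_at_apply]
  change eval₂ (algebraMap O (v.adicCompletion K)) (algebraMap O (v.adicCompletion K) a) F = 0
  rw [this, ha, map_zero]



end hensel

section root

open Polynomial IntermediateField

/-- a root of the minimal polynomial of a primitive element gives an embedding -/
theorem nonempty_algHom_of_root {k L E : Type*} [Field k] [Field L] [Field E] [Algebra k L]
    [Algebra k E] [FiniteDimensional k L] (x : L) (hx : k⟮x⟯ = ⊤) (ρ : E)
    (hρ : aeval ρ (minpoly k x) = 0) : Nonempty (L →ₐ[k] E) := by
  have hint : IsIntegral k x := IsIntegral.of_finite k x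
  have hmem : ρ ∈ (minpoly k x).aroots E := by
    rw [mem_aroots]
    exact ⟨minpoly.ne_zero hint, hρ⟩
  let φ : k⟮x⟯ →ₐ[k] E := (IntermediateField.algHomAdjoinIntegralEquiv k hint).symm ⟨ρ, hmem⟩
  exact ⟨φ.comp ((IntermediateField.equivOfEq hx).trans IntermediateField.topEquiv).symm.toAlgHom⟩



end root

section form

open Polynomial IntermediateField

section val
variable {k : Type*} [Field k] {Γ₀ : Type*} [LinearOrderedCommGroupWithZero Γ₀] (v : Valuation k Γ₀)

/-- the binary norm form of a primitive element -/
noncomputable def normForm (f : k[X]) (c d : k) : k :=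
  ∑ i ∈ Finset.range (f.natDegree + 1), f.coeff i * c ^ i * d ^ (f.natDegree - i)

theorem normForm_eq (f : k[X]) (c d : k) (hd : d ≠ 0) :
    normForm f c d = d ^ f.natDegree * f.eval (c / d) := by
  rw [normForm, eval_eq_sum_range, Finset.mul_sum]
  refine Finset.sum_congr rfl fun i hi => ?_
  have hi' : i ≤ f.natDegree := by
    have := Finset.mem_range.1 hi
    omega
  rw [div_pow, ← Nat.sub_add_cancel hi', pow_add]
  have : d ^ i ≠ 0 := pow_ne_zero _ hd
  simp only [Nat.sub_add_cancel hi']
  field_simp

theorem val_eval_le_one (g : k[X]) (hg : ∀ i, v (g.coeff i) ≤ 1) (r : k) (hr : v r ≤ 1) :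
    v (g.eval r) ≤ 1 := by
  rw [eval_eq_sum_range]
  refine v.map_sum_le fun i _ => ?_
  rw [map_mul, map_pow]
  exact mul_le_one' (hg i) (pow_le_one' hr i)

theorem val_normForm_le_one (f : k[X]) (hf : ∀ i, v (f.coeff i) ≤ 1) (c d : k) (hc : v c ≤ 1)
    (hd : v d ≤ 1) : v (normForm f c d) ≤ 1 := by
  rw [normForm]
  refine v.map_sum_le fun i _ => ?_
  rw [map_mul, map_mul, map_pow, map_pow]
  exact mul_le_one' (mul_le_one' (hf i) (pow_le_one' hc i)) (pow_le_one' hd _)

theorem val_normForm_eq_one (f : k[X]) (hf : f.Monic) (c d : k) (hc : v c = 1) (hd : v d ≤ 1)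
    (h : ∀ i < f.natDegree, v (f.coeff i) * v d < 1) : v (normForm f c d) = 1 := by
  rw [normForm, Finset.sum_range_succ, hf.coeff_natDegree, Nat.sub_self, pow_zero, mul_one, one_mul]
  have h1 : v (c ^ f.natDegree) = 1 := by rw [map_pow, hc, one_pow]
  have h2 : v (∑ i ∈ Finset.range f.natDegree, f.coeff i * c ^ i * d ^ (f.natDegree - i)) < 1 := by
    refine v.map_sum_lt one_ne_zero fun i hi => ?_
    have hi' := Finset.mem_range.1 hi
    rw [map_mul, map_mul, map_pow, map_pow, hc, one_pow, mul_one]
    obtain ⟨m, hm⟩ : ∃ m, f.natDegree - i = m + 1 := ⟨f.natDegree - i - 1, by omega⟩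
    rw [hm, pow_succ, ← mul_assoc]
    calc v (f.coeff i) * v d ^ m * v d = (v (f.coeff i) * v d) * v d ^ m := mul_right_comm _ _ _
      _ ≤ (v (f.coeff i) * v d) * 1 := by
        gcongr
        exact pow_le_one' hd m
      _ < 1 := by rw [mul_one]; exact h i hi'
  rw [← h1]
  exact v.map_add_eq_of_lt_right (by rw [h1]; exact h2)

end val



end form

section prim

open Polynomial IntermediateField

variable {k L : Type*} [Field k] [Field L] [Algebra k L] [FiniteDimensional k L]

/-- the power basis attached to a primitive element -/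
noncomputable def pbOfPrimitive (x : L) (hx : k⟮x⟯ = ⊤) : PowerBasis k L :=
  (IntermediateField.adjoin.powerBasis (IsIntegral.of_finite k x)).map
    ((IntermediateField.equivOfEq hx).trans IntermediateField.topEquiv)

theorem pbOfPrimitive_gen (x : L) (hx : k⟮x⟯ = ⊤) : (pbOfPrimitive x hx).gen = x := by
  simp [pbOfPrimitive]

theorem norm_algebraMap_sub (x : L) (hx : k⟮x⟯ = ⊤) (r : k) :
    Algebra.norm k (algebraMap k L r - x) = (minpoly k x).eval r := by
  set pb := pbOfPrimitive x hx
  have hg : pb.gen = x := pbOfPrimitive_gen x hx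
  rw [Algebra.norm_eq_matrix_det pb.basis, map_sub, ← hg, ← charpoly_leftMulMatrix pb,
    Matrix.eval_charpoly]
  congr 2
  rw [AlgHom.commutes]
  rfl

theorem natDegree_minpoly_of_primitive (x : L) (hx : k⟮x⟯ = ⊤) :
    (minpoly k x).natDegree = Module.finrank k L := by
  have h1 := (pbOfPrimitive x hx).finrank
  have h2 := (pbOfPrimitive x hx).natDegree_minpoly
  rw [pbOfPrimitive_gen] at h2
  rw [h1, h2]


theorem norm_sub_smul (x : L) (hx : k⟮x⟯ = ⊤) (c d : k) :
    Algebra.norm k (algebraMap k L c - d • x) = normForm (minpoly k x) c d := by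
  have hn := natDegree_minpoly_of_primitive x hx
  have hmonic : (minpoly k x).Monic := minpoly.monic (IsIntegral.of_finite k x)
  rcases eq_or_ne d 0 with rfl | hd
  · rw [zero_smul, sub_zero, Algebra.norm_algebraMap, normForm, Finset.sum_range_succ]
    rw [Finset.sum_eq_zero]
    · have := hmonic.coeff_natDegree
      rw [hn] at this
      simp [this, hn]
    · intro i hi
      have : (minpoly k x).natDegree - i ≠ 0 := by
        have := Finset.mem_range.1 hi
        omega
      simp [this]
  · have h1 : algebraMap k L c - d • x = algebraMap k L d * (algebraMap k L (c / d) - x) := by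
      rw [mul_sub, ← map_mul, mul_div_cancel₀ _ hd, Algebra.smul_def]
    rw [h1, map_mul, Algebra.norm_algebraMap, norm_algebraMap_sub x hx, ← hn, normForm_eq _ _ _ hd]

end prim

section split

open IsDedekindDomain HeightOneSpectrum NumberField Polynomial IntermediateField

variable {K L : Type*} [Field K] [NumberField K] [Field L] [Algebra K L] [FiniteDimensional K L]
  (v : HeightOneSpectrum (𝓞 K))

theorem val_natCast_le_one (n : ℕ) : v.valuation K (n : K) ≤ 1 := by
  have := v.valuation_le_one (K := K) (n : 𝓞 K)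
  simpa using this

/-- the splitting criterion: if a good prime divides a primitive value of the norm form then `L`
embeds into the completion. -/
theorem nonempty_algHom_of_val_normForm_lt_one (x : L) (hx : K⟮x⟯ = ⊤) (A B : K[X])
    (hAB : A * minpoly K x + B * derivative (minpoly K x) = 1)
    (hf : ∀ i, v.valuation K ((minpoly K x).coeff i) ≤ 1)
    (hA : ∀ i, v.valuation K (A.coeff i) ≤ 1) (hB : ∀ i, v.valuation K (B.coeff i) ≤ 1)
    (c d : K) (hc : v.valuation K c ≤ 1) (hd : v.valuation K d = 1)
    (h : v.valuation K (normForm (minpoly K x) c d) < 1) :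
    Nonempty (L →ₐ[K] v.adicCompletion K) := by
  set f := minpoly K x with hfdef
  have hd0 : d ≠ 0 := by
    rintro rfl
    simp at hd
  set r := c / d with hr
  have hrv : v.valuation K r ≤ 1 := by
    rw [hr, map_div₀, hd, div_one]
    exact hc
  have hfr : v.valuation K (f.eval r) < 1 := by
    have := normForm_eq f c d hd0
    rw [this, map_mul, map_pow, hd, one_pow, one_mul] at h
    exact h
  have hf' : ∀ i, v.valuation K (f.derivative.coeff i) ≤ 1 := by
    intro i
    rw [coeff_derivative, map_mul]
    refine mul_le_one' (hf _) ?_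
    have := val_natCast_le_one v (i + 1)
    simpa using this
  have hev := congrArg (eval r) hAB
  rw [eval_add, eval_mul, eval_mul, eval_one] at hev
  have h1 : v.valuation K (A.eval r * f.eval r) < 1 := by
    rw [map_mul]
    calc _ ≤ 1 * v.valuation K (f.eval r) := by
          gcongr
          exact val_eval_le_one _ A hA r hrv
      _ < 1 := by rw [one_mul]; exact hfr
  have h2 : v.valuation K (B.eval r * f.derivative.eval r) = 1 := by
    have : B.eval r * f.derivative.eval r = 1 - A.eval r * f.eval r := by
      rw [← hev]; ring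
    rw [this]
    exact Valuation.map_one_sub_of_lt _ h1
  have hfr' : v.valuation K (f.derivative.eval r) = 1 := by
    refine le_antisymm (val_eval_le_one _ _ hf' r hrv) ?_
    rw [map_mul] at h2
    calc (1 : WithZero (Multiplicative ℤ)) = v.valuation K (B.eval r) * v.valuation K (f.derivative.eval r) := h2.symm
      _ ≤ 1 * v.valuation K (f.derivative.eval r) := by
          gcongr
          exact val_eval_le_one _ B hB r hrv
      _ = _ := one_mul _
  obtain ⟨ρ, hρ⟩ := exists_root_adicCompletion v f (minpoly.monic (IsIntegral.of_finite K x)) hf r hrv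
    hfr hfr'
  exact nonempty_algHom_of_root x hx ρ hρ



end split

end Groth.Agent.Lib.helper12.NFHensel
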