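import Mathlib
import Groth.Agent.Lib.Helper12.NFHensel
set_option linter.style.haveILetI false
set_option linter.unusedSectionVars false

namespace Groth.Agent.Lib.helper12.HWCompact
open IsDedekindDomain HeightOneSpectrum NumberField
open scoped Valued WithZero

variable {k : Type*} [Field k] [NumberField k] (v : HeightOneSpectrum (𝓞 k))

instance : IsDiscreteValuationRing 𝒪[v.adicCompletion k] :=
  inferInstanceAs (IsDiscreteValuationRing (v.adicCompletionIntegers k))

theorem exists_int_sub_lt_one (x : v.adicCompletion k) (hx : Valued.v x ≤ 1) :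
    ∃ r : 𝓞 k, Valued.v (x - algebraMap k (v.adicCompletion k) (algebraMap (𝓞 k) k r)) < 1 := by
  -- approximate by an element of `k`
  have hopen : IsOpen (Metric.ball x 1) := Metric.isOpen_ball
  obtain ⟨y, hy⟩ := (denseRange_algebraMap (K := k) v).exists_mem_open hopen
    ⟨x, Metric.mem_ball_self one_pos⟩
  rw [Metric.mem_ball, dist_eq_norm, Valued.toNormedField.norm_lt_one_iff] at hy
  have hy' : Valued.v (x - algebraMap k (v.adicCompletion k) y) < 1 := by
    rw [← Valuation.map_neg, neg_sub]
    exact hy
  have hyint : v.valuation k y ≤ 1 := by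
    rw [← valuedAdicCompletion_eq_valuation' v y]
    have : (algebraMap k (v.adicCompletion k) y) = x - (x - algebraMap k (v.adicCompletion k) y) := by
      ring
    change Valued.v (algebraMap k (v.adicCompletion k) y) ≤ 1
    rw [this]
    exact le_trans (Valuation.map_sub _ _ _) (max_le hx hy'.le)
  obtain ⟨r, hr⟩ := v.exists_valuation_sub_lt_of_integer hyint 1
  refine ⟨r, ?_⟩
  have hsplit : x - algebraMap k (v.adicCompletion k) (algebraMap (𝓞 k) k r) =
      (x - algebraMap k (v.adicCompletion k) y) +
        algebraMap k (v.adicCompletion k) (y - algebraMap (𝓞 k) k r) := by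
    rw [map_sub]; ring
  rw [hsplit]
  refine lt_of_le_of_lt (Valuation.map_add _ _ _) (max_lt hy' ?_)
  change Valued.v ((y - algebraMap (𝓞 k) k r : k) : v.adicCompletion k) < 1
  rw [valuedAdicCompletion_eq_valuation', ← Valuation.map_neg, neg_sub]
  simpa using hr

instance : Finite 𝓀[v.adicCompletion k] := by
  classical
  -- the map from `𝓞 k`
  have hmem : ∀ r : 𝓞 k, algebraMap k (v.adicCompletion k) (algebraMap (𝓞 k) k r) ∈
      𝒪[v.adicCompletion k] := by
    intro r
    rw [Valuation.mem_integer_iff]
    change Valued.v ((algebraMap (𝓞 k) k r : k) : v.adicCompletion k) ≤ 1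
    rw [valuedAdicCompletion_eq_valuation']
    exact v.valuation_le_one r
  let f : 𝓞 k →+* 𝒪[v.adicCompletion k] :=
    ((algebraMap k (v.adicCompletion k)).comp (algebraMap (𝓞 k) k)).codRestrict
      𝒪[v.adicCompletion k] hmem
  let g : 𝓞 k →+* 𝓀[v.adicCompletion k] := (IsLocalRing.residue _).comp f
  have hker : ∀ r ∈ v.asIdeal, g r = 0 := by
    intro r hr
    change IsLocalRing.residue _ (f r) = 0
    rw [IsLocalRing.residue_eq_zero_iff, IsLocalRing.mem_maximalIdeal, mem_nonunits_iff,
      Valuation.Integer.not_isUnit_iff_valuation_lt_one]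
    change Valued.v ((algebraMap (𝓞 k) k r : k) : v.adicCompletion k) < 1
    rw [valuedAdicCompletion_eq_valuation']
    exact (v.valuation_lt_one_iff_mem r).2 hr
  have hsurj : Function.Surjective (Ideal.Quotient.lift v.asIdeal g hker) := by
    intro z
    obtain ⟨x, rfl⟩ := IsLocalRing.residue_surjective z
    obtain ⟨r, hr⟩ := exists_int_sub_lt_one v (x : v.adicCompletion k)
      ((Valuation.mem_integer_iff _ _).1 x.2)
    refine ⟨Ideal.Quotient.mk _ r, ?_⟩
    rw [Ideal.Quotient.lift_mk]
    change IsLocalRing.residue _ (f r) = IsLocalRing.residue _ x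
    rw [eq_comm, ← sub_eq_zero, ← map_sub, IsLocalRing.residue_eq_zero_iff,
      IsLocalRing.mem_maximalIdeal, mem_nonunits_iff,
      Valuation.Integer.not_isUnit_iff_valuation_lt_one]
    exact hr
  haveI : Finite (𝓞 k ⧸ v.asIdeal) := Ideal.finiteQuotientOfFreeOfNeBot v.asIdeal v.ne_bot
  exact Finite.of_surjective _ hsurj

instance compactSpace_integer : CompactSpace 𝒪[v.adicCompletion k] := by
  rw [Valued.integer.compactSpace_iff_completeSpace_and_isDiscreteValuationRing_and_finite_residueField]
  refine ⟨?_, inferInstance, inferInstance⟩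
  exact (Valued.isClosed_integer (v.adicCompletion k)).completeSpace_coe

theorem isCompact_integer : IsCompact {x : v.adicCompletion k | Valued.v x ≤ 1} := by
  have := isCompact_iff_compactSpace.2 (compactSpace_integer v)
  exact this

end Groth.Agent.Lib.helper12.HWCompact
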