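import Mathlib
set_option linter.style.haveILetI false
set_option linter.unusedSectionVars false

namespace Groth.Agent.Lib.helper12.NFStrongApprox

open IsDedekindDomain HeightOneSpectrum NumberField NumberField.InfinitePlace NumberField.mixedEmbedding
open scoped WithZero NNReal ENNReal nonZeroDivisors

variable {K : Type*} [Field K] [NumberField K] (v₀ : HeightOneSpectrum (𝓞 K))


/-- some power of a prime ideal of the ring of integers is principal -/
theorem exists_generator_pow :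
    ∃ (h : ℕ) (π : 𝓞 K), 0 < h ∧ π ≠ 0 ∧ Ideal.span {π} = v₀.asIdeal ^ h := by
  classical
  have hne : v₀.asIdeal ∈ (Ideal (𝓞 K))⁰ := mem_nonZeroDivisors_of_ne_zero v₀.ne_bot
  set I₀ : (Ideal (𝓞 K))⁰ := ⟨v₀.asIdeal, hne⟩
  set h := Fintype.card (ClassGroup (𝓞 K)) with hh
  have h1 : ClassGroup.mk0 (I₀ ^ h) = 1 := by
    rw [map_pow, hh, pow_card_eq_one]
  rw [ClassGroup.mk0_eq_one_iff] at h1
  obtain ⟨π, hπ⟩ := h1.principal
  refine ⟨h, π, Fintype.card_pos, ?_, ?_⟩
  · rintro rfl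
    have : v₀.asIdeal ^ h = ⊥ := by
      have : ((I₀ ^ h : (Ideal (𝓞 K))⁰) : Ideal (𝓞 K)) = v₀.asIdeal ^ h := by simp [I₀]
      rw [← this, hπ]
      simp
    exact v₀.ne_bot (pow_eq_zero_iff (Fintype.card_pos.ne') |>.1 this)
  · have : ((I₀ ^ h : (Ideal (𝓞 K))⁰) : Ideal (𝓞 K)) = v₀.asIdeal ^ h := by simp [I₀]
    rw [← this, hπ]





theorem prod_infinitePlace_generator (h : ℕ) (hh : 0 < h) (π : 𝓞 K)
    (hπ : Ideal.span {π} = v₀.asIdeal ^ h) :
    (2 : ℝ) ≤ ∏ w : InfinitePlace K, w (π : K) ^ mult w := by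
  rw [prod_eq_abs_norm, ← Algebra.coe_norm_int, ← Int.cast_abs, Rat.cast_intCast]
  have h1 : Ideal.absNorm (Ideal.span {π}) = (Algebra.norm ℤ π).natAbs :=
    Ideal.absNorm_span_singleton π
  rw [hπ, map_pow] at h1
  have h2 : 2 ≤ Ideal.absNorm v₀.asIdeal := NumberField.HeightOneSpectrum.one_lt_absNorm v₀
  have h3 : 2 ≤ (Algebra.norm ℤ π).natAbs := by
    rw [← h1]
    calc 2 ≤ Ideal.absNorm v₀.asIdeal := h2
      _ = Ideal.absNorm v₀.asIdeal ^ 1 := (pow_one _).symm
      _ ≤ _ := Nat.pow_le_pow_right (by omega) hh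
  have : (2 : ℤ) ≤ |Algebra.norm ℤ π| := by
    rw [Int.abs_eq_natAbs]
    exact_mod_cast h3
  exact_mod_cast this

theorem val_generator_eq_one (h : ℕ) (π : 𝓞 K) (hπ : Ideal.span {π} = v₀.asIdeal ^ h)
    (v : HeightOneSpectrum (𝓞 K)) (hv : v ≠ v₀) : v.valuation K (π : K) = 1 := by
  refine le_antisymm (v.valuation_le_one π) (not_lt.1 fun hlt => hv ?_)
  rw [valuation_lt_one_iff_mem] at hlt
  have h1 : v₀.asIdeal ^ h ≤ v.asIdeal := by
    rw [← hπ, Ideal.span_singleton_le_iff_mem]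
    exact hlt
  have h2 : v₀.asIdeal ≤ v.asIdeal := v.isPrime.le_of_pow_le h1
  have h3 : v₀.asIdeal = v.asIdeal := v₀.isMaximal.eq_of_le v.isPrime.ne_top h2
  exact (HeightOneSpectrum.ext h3).symm

/-- a nonzero element, small at all infinite places, integral outside `v₀` -/
theorem exists_small (δ : ℝ) (hδ : 0 < δ) :
    ∃ e : K, e ≠ 0 ∧ (∀ w : InfinitePlace K, w e < δ) ∧
      ∀ v : HeightOneSpectrum (𝓞 K), v ≠ v₀ → v.valuation K e ≤ 1 := by
  classical
  obtain ⟨h, π, hh, hπ0, hπ⟩ := exists_generator_pow v₀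
  have hQ := prod_infinitePlace_generator v₀ h hh π hπ
  set Q : ℝ := ∏ w : InfinitePlace K, w (π : K) ^ mult w with hQdef
  set N := Module.finrank ℚ K with hN
  have hBtop : minkowskiBound K (1 : (FractionalIdeal (𝓞 K)⁰ K)ˣ) ≠ ⊤ := (minkowskiBound_lt_top K 1).ne
  set B : ℝ≥0 := (minkowskiBound K (1 : (FractionalIdeal (𝓞 K)⁰ K)ˣ)).toNNReal with hB
  obtain ⟨m, hm⟩ := pow_unbounded_of_one_lt ((B : ℝ) / δ ^ N) (by linarith : (1 : ℝ) < Q)
  have hπK : (π : K) ≠ 0 := by
    simpa using hπ0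
  let f : InfinitePlace K → ℝ≥0 := fun w => ⟨δ * w (π : K) ^ m, by positivity⟩
  have hvol : minkowskiBound K (1 : (FractionalIdeal (𝓞 K)⁰ K)ˣ) < MeasureTheory.volume (convexBodyLT K f) := by
    rw [convexBodyLT_volume, ← ENNReal.coe_toNNReal hBtop]
    rw [← ENNReal.coe_mul, ENNReal.coe_lt_coe, ← NNReal.coe_lt_coe]
    rw [NNReal.coe_mul, NNReal.coe_prod]
    simp only [NNReal.coe_pow]
    have h2 : ∏ w : InfinitePlace K, ((f w : ℝ≥0) : ℝ) ^ mult w = δ ^ N * Q ^ m := by
      have : ∀ w : InfinitePlace K, ((f w : ℝ≥0) : ℝ) ^ mult w =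
          δ ^ mult w * (w (π : K) ^ mult w) ^ m := by
        intro w
        change (δ * w (π : K) ^ m) ^ mult w = _
        rw [mul_pow, ← pow_mul, ← pow_mul, mul_comm m]
      rw [Finset.prod_congr rfl (fun w _ => this w), Finset.prod_mul_distrib,
        Finset.prod_pow_eq_pow_sum, sum_mult_eq, Finset.prod_pow]
    rw [h2]
    have h3 : (B : ℝ) < δ ^ N * Q ^ m := by
      have : 0 < δ ^ N := by positivity
      rwa [div_lt_iff₀' this] at hm
    have h4 : (1 : ℝ) ≤ ((convexBodyLTFactor K : ℝ≥0) : ℝ) := by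
      exact_mod_cast one_le_convexBodyLTFactor K
    have h5 : 0 ≤ δ ^ N * Q ^ m := by positivity
    calc (B : ℝ) < δ ^ N * Q ^ m := h3
      _ = 1 * (δ ^ N * Q ^ m) := (one_mul _).symm
      _ ≤ _ := mul_le_mul_of_nonneg_right h4 h5
  obtain ⟨a, ha0, ha⟩ := exists_ne_zero_mem_ringOfIntegers_lt K hvol
  refine ⟨(a : K) / (π : K) ^ m, ?_, ?_, ?_⟩
  · exact div_ne_zero (by simpa using ha0) (pow_ne_zero _ hπK)
  · intro w
    have hw := ha w
    simp only [f] at hw
    have hpos : 0 < w (π : K) ^ m := pow_pos (pos_iff.2 hπK) m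
    rw [map_div₀, map_pow, div_lt_iff₀ hpos]
    exact hw
  · intro v hv
    rw [map_div₀, map_pow, val_generator_eq_one v₀ h π hπ v hv, one_pow, div_one]
    exact v.valuation_le_one a





theorem infinitePlace_ratCast (w : InfinitePlace K) (q : ℚ) : w (q : K) = |(q : ℝ)| := by
  rw [← norm_embedding_eq, map_ratCast, Complex.norm_ratCast]

/-- every element of `K` is within bounded distance (at all infinite places) of an integer -/
theorem exists_integer_near :
    ∃ C : ℝ, 0 < C ∧ ∀ g : K, ∃ r : 𝓞 K, ∀ w : InfinitePlace K, w (g - r) ≤ C := by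
  classical
  set b := integralBasis K with hb
  refine ⟨1 + ∑ w : InfinitePlace K, ∑ i, w (b i), ?_, ?_⟩
  · have : 0 ≤ ∑ w : InfinitePlace K, ∑ i, w (b i) :=
      Finset.sum_nonneg fun w _ => Finset.sum_nonneg fun i _ => apply_nonneg _ _
    linarith
  intro g
  set q := b.repr g with hq
  refine ⟨∑ i, ⌊q i⌋ • RingOfIntegers.basis K i, fun w => ?_⟩
  have h1 : g - ((∑ i, ⌊q i⌋ • RingOfIntegers.basis K i : 𝓞 K) : K) =
      ∑ i, ((Int.fract (q i) : ℚ) : K) * b i := by
    have hg : g = ∑ i, (q i : K) * b i := by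
      conv_lhs => rw [← b.sum_repr g]
      refine Finset.sum_congr rfl fun i _ => ?_
      rw [Rat.smul_def]
    rw [RingOfIntegers.coe_eq_algebraMap, map_sum]
    conv_lhs => rw [hg]
    rw [← Finset.sum_sub_distrib]
    refine Finset.sum_congr rfl fun i _ => ?_
    rw [map_zsmul, hb, integralBasis_apply, zsmul_eq_mul, ← sub_mul]
    congr 1
    rw [Int.fract]
    push_cast
    rfl
  rw [h1]
  calc w (∑ i, ((Int.fract (q i) : ℚ) : K) * b i)
      ≤ ∑ i, w (((Int.fract (q i) : ℚ) : K) * b i) := by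
        exact (w.1).sum_le _ _
    _ ≤ ∑ i, w (b i) := by
        refine Finset.sum_le_sum fun i _ => ?_
        rw [map_mul, infinitePlace_ratCast]
        have h0 : |((Int.fract (q i) : ℚ) : ℝ)| ≤ 1 := by
          rw [abs_le]
          constructor
          · have : (0 : ℝ) ≤ ((Int.fract (q i) : ℚ) : ℝ) := by exact_mod_cast Int.fract_nonneg (q i)
            linarith
          · exact_mod_cast (Int.fract_lt_one (q i)).le
        calc _ ≤ 1 * w (b i) := by
              gcongr
          _ = _ := one_mul _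
    _ ≤ ∑ w' : InfinitePlace K, ∑ i, w' (b i) := by
        refine Finset.single_le_sum (f := fun w' : InfinitePlace K => ∑ i, w' (b i))
          (fun w' _ => Finset.sum_nonneg fun i _ => apply_nonneg _ _) (Finset.mem_univ w)
    _ ≤ _ := by linarith





/-- Chinese remainder theorem with denominators -/
theorem exists_crt (T : Finset (HeightOneSpectrum (𝓞 K))) (y : HeightOneSpectrum (𝓞 K) → K) (n : ℕ) :
    ∃ y₁ : K, (∀ v ∈ T, v.valuation K (y₁ - y v) ≤ WithZero.exp (-(n : ℤ))) ∧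
      ∀ v ∉ T, v.valuation K y₁ ≤ 1 := by
  classical
  obtain ⟨⟨b, hbmem⟩, hb⟩ := IsLocalization.exist_integer_multiples_of_finset (𝓞 K)⁰ (T.image y)
  have hb0 : b ≠ 0 := nonZeroDivisors.ne_zero hbmem
  have hbK : algebraMap (𝓞 K) K b ≠ 0 := by
    simpa using hb0
  have hP : ∀ v ∈ T, ∃ p : 𝓞 K, algebraMap (𝓞 K) K p = algebraMap (𝓞 K) K b * y v := by
    intro v hv
    obtain ⟨p, hp⟩ := hb (y v) (Finset.mem_image_of_mem y hv)
    refine ⟨p, ?_⟩
    rw [hp, Algebra.smul_def]
  choose! P hPeq using hP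
  have hspan : Ideal.span {b} ≠ 0 := by
    simpa using hb0
  set D := (Ideal.finite_factors hspan).toFinset with hD
  have hDmem : ∀ v, v ∈ D ↔ v.intValuation b < 1 := by
    intro v
    rw [hD, Set.Finite.mem_toFinset, intValuation_lt_one_iff_dvd]
    rfl
  have he : ∀ v : HeightOneSpectrum (𝓞 K), ∃ e : ℕ, v.intValuation b = WithZero.exp (-(e : ℤ)) :=
    fun v => ⟨_, v.intValuation_if_neg hb0⟩
  choose e he using he
  obtain ⟨r, hr⟩ := IsDedekindDomain.exists_forall_sub_mem_ideal (s := T ∪ D)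
    (fun v : HeightOneSpectrum (𝓞 K) => v.asIdeal) (fun v => n + e v) (fun v _ => v.prime)
    (fun v _ v' _ hvv' h => hvv' (HeightOneSpectrum.ext h))
    (fun v => if (v : HeightOneSpectrum (𝓞 K)) ∈ T then P v else 0)
  refine ⟨algebraMap (𝓞 K) K r / algebraMap (𝓞 K) K b, ?_, ?_⟩
  · intro v hv
    have h1 := hr v (Finset.mem_union_left _ hv)
    simp only [hv, if_true] at h1
    rw [← intValuation_le_pow_iff_mem] at h1
    have h2 : algebraMap (𝓞 K) K r / algebraMap (𝓞 K) K b - y v =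
        algebraMap (𝓞 K) K (r - P v) / algebraMap (𝓞 K) K b := by
      rw [map_sub, hPeq v hv]
      field_simp
    rw [h2, map_div₀, valuation_of_algebraMap, valuation_of_algebraMap, he v]
    rw [div_le_iff₀ (by simp)]
    calc v.intValuation (r - P v) ≤ WithZero.exp (-((n + e v : ℕ) : ℤ)) := h1
      _ = _ := by
        rw [← WithZero.exp_add]
        congr 1
        push_cast
        ring
  · intro v hv
    rw [map_div₀, valuation_of_algebraMap, valuation_of_algebraMap]
    by_cases hvD : v ∈ D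
    · have h1 := hr v (Finset.mem_union_right _ hvD)
      simp only [hv, if_false, sub_zero] at h1
      rw [← intValuation_le_pow_iff_mem] at h1
      rw [he v, div_le_iff₀ (by simp), one_mul]
      refine h1.trans ?_
      rw [WithZero.exp_le_exp]
      push_cast
      omega
    · rw [hDmem] at hvD
      have : v.intValuation b = 1 := le_antisymm (v.intValuation_le_one b) (not_lt.1 hvD)
      rw [this, div_one]
      exact v.intValuation_le_one r





/-- density of `α 𝓞[1/v₀]` at the infinite places -/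
theorem exists_approx_infinite (α : 𝓞 K) (hα : α ≠ 0) (y : K) (ε : ℝ) (hε : 0 < ε) :
    ∃ e : K, (∀ w : InfinitePlace K, w (y - e) < ε) ∧
      ∀ v : HeightOneSpectrum (𝓞 K), v ≠ v₀ → v.valuation K e ≤ v.valuation K (α : K) := by
  classical
  obtain ⟨C, hC, hnear⟩ := exists_integer_near (K := K)
  set A : ℝ := 1 + ∑ w : InfinitePlace K, w (α : K) with hA
  have hA0 : 0 < A := by
    have : 0 ≤ ∑ w : InfinitePlace K, w (α : K) := Finset.sum_nonneg fun w _ => apply_nonneg _ _
    linarith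
  have hAw : ∀ w : InfinitePlace K, w (α : K) ≤ A := by
    intro w
    have := Finset.single_le_sum (f := fun w' : InfinitePlace K => w' (α : K))
      (fun w' _ => apply_nonneg _ _) (Finset.mem_univ w)
    linarith
  obtain ⟨e₁, he₁0, he₁w, he₁v⟩ := exists_small v₀ (ε / (A * C)) (by positivity)
  have hαK : (α : K) ≠ 0 := by simpa using hα
  set e₀ : K := (α : K) * e₁ with he₀
  have he₀0 : e₀ ≠ 0 := mul_ne_zero hαK he₁0
  obtain ⟨r, hr⟩ := hnear (y / e₀)
  refine ⟨e₀ * (r : K), fun w => ?_, fun v hv => ?_⟩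
  · have h1 : y - e₀ * (r : K) = e₀ * (y / e₀ - r) := by
      field_simp
    rw [h1, map_mul, he₀, map_mul]
    have h2 : w (α : K) * w e₁ < A * (ε / (A * C)) := by
      calc w (α : K) * w e₁ ≤ A * w e₁ := by
            gcongr
            exact hAw w
        _ < A * (ε / (A * C)) := by
            gcongr
            exact he₁w w
    calc w (α : K) * w e₁ * w (y / (↑α * e₁) - ↑r)
        ≤ w (α : K) * w e₁ * C := by
          gcongr
          exact hr w
      _ < A * (ε / (A * C)) * C := by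
          gcongr
      _ = ε := by
          field_simp
  · rw [map_mul, he₀, map_mul]
    calc v.valuation K (α : K) * v.valuation K e₁ * v.valuation K (r : K)
        ≤ v.valuation K (α : K) * 1 * 1 := by
          gcongr
          · exact he₁v v hv
          · exact v.valuation_le_one r
      _ = _ := by rw [mul_one, mul_one]

/-- strong approximation off the finite place `v₀` (global targets) -/
theorem strong_approx (T : Finset (HeightOneSpectrum (𝓞 K))) (hT : v₀ ∉ T)
    (y : HeightOneSpectrum (𝓞 K) → K) (n : ℕ) (z : K) (ε : ℝ) (hε : 0 < ε) :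
    ∃ a : K, (∀ v ∈ T, v.valuation K (a - y v) ≤ WithZero.exp (-(n : ℤ))) ∧
      (∀ w : InfinitePlace K, w (a - z) < ε) ∧
      ∀ v ∉ T, v ≠ v₀ → v.valuation K a ≤ 1 := by
  classical
  obtain ⟨y₁, hy₁T, hy₁⟩ := exists_crt T y n
  -- an integer divisible by the `n`-th power of all places of `T`
  have hπ : ∀ v : HeightOneSpectrum (𝓞 K), ∃ π : 𝓞 K, π ≠ 0 ∧ π ∈ v.asIdeal := by
    intro v
    obtain ⟨π, hπ, hπ0⟩ := Submodule.exists_mem_ne_zero_of_ne_bot v.ne_bot
    exact ⟨π, hπ0, hπ⟩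
  choose π hπ0 hπmem using hπ
  set α : 𝓞 K := (∏ v ∈ T, π v) ^ n with hα
  have hα0 : α ≠ 0 := pow_ne_zero _ (Finset.prod_ne_zero_iff.2 fun v _ => hπ0 v)
  have hαT : ∀ v ∈ T, v.valuation K (α : K) ≤ WithZero.exp (-(n : ℤ)) := by
    intro v hv
    rw [RingOfIntegers.coe_eq_algebraMap, valuation_of_algebraMap, intValuation_le_pow_iff_mem, hα]
    refine Ideal.pow_mem_pow ?_ n
    rw [← Finset.mul_prod_erase T π hv]
    exact Ideal.mul_mem_right _ _ (hπmem v)
  obtain ⟨e, hew, hev⟩ := exists_approx_infinite v₀ α hα0 (y₁ - z) ε hε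
  refine ⟨y₁ - e, fun v hv => ?_, fun w => ?_, fun v hv hv0 => ?_⟩
  · have hv0 : v ≠ v₀ := fun h => hT (h ▸ hv)
    have : y₁ - e - y v = (y₁ - y v) - e := by ring
    rw [this]
    refine (Valuation.map_sub _ _ _).trans (max_le (hy₁T v hv) ?_)
    exact (hev v hv0).trans (hαT v hv)
  · have : y₁ - e - z = y₁ - z - e := by ring
    rw [this]
    exact hew w
  · refine (Valuation.map_sub _ _ _).trans (max_le (hy₁ v hv) ?_)
    refine (hev v hv0).trans ?_
    exact v.valuation_le_one α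



end Groth.Agent.Lib.helper12.NFStrongApprox
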