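import Mathlib
import Groth.Agent.Lib.Helper12.NFHensel
import Groth.Agent.Lib.Helper12.NFStrongApprox
set_option linter.style.haveILetI false
set_option linter.unusedSectionVars false

namespace Groth.Agent.Lib.helper12.NFApproxLocal

open IsDedekindDomain HeightOneSpectrum NumberField NumberField.InfinitePlace
open scoped WithZero NNReal

variable {K : Type*} [Field K] [NumberField K] (v₀ : HeightOneSpectrum (𝓞 K))

theorem norm_infinite_coe_sub (w : InfinitePlace K) (a z : K) :
    ‖algebraMap K w.Completion a - algebraMap K w.Completion z‖ = w (a - z) := by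
  rw [← map_sub]
  exact InfinitePlace.Completion.norm_coe w (WithAbs.toAbs w.1 (a - z))

theorem norm_finite_coe_sub_le (v : HeightOneSpectrum (𝓞 K)) (a y : K) (n : ℕ)
    (h : v.valuation K (a - y) ≤ WithZero.exp (-(n : ℤ))) :
    ‖algebraMap K (v.adicCompletion K) a - algebraMap K (v.adicCompletion K) y‖ ≤
      ((Ideal.absNorm v.asIdeal : ℝ)⁻¹) ^ n := by
  rw [← map_sub, NFHensel.norm_le_pow_iff]
  change Valued.v ((a - y : K) : v.adicCompletion K) ≤ _
  rw [valuedAdicCompletion_eq_valuation']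
  exact h

/-- a uniform positive radius for finitely many open neighbourhoods -/
theorem exists_pos_forall_finset {ι : Type*} (s : Finset ι) (P : ι → ℝ → Prop)
    (hP : ∀ i ∈ s, ∃ ε > 0, P i ε) (hmono : ∀ i ε ε', ε' ≤ ε → 0 < ε' → P i ε → P i ε') :
    ∃ ε > 0, ∀ i ∈ s, P i ε := by
  classical
  induction s using Finset.induction_on with
  | empty => exact ⟨1, one_pos, by simp⟩
  | insert a s ha ih =>
    obtain ⟨ε₁, hε₁, h₁⟩ := ih fun i hi => hP i (Finset.mem_insert_of_mem hi)
    obtain ⟨ε₂, hε₂, h₂⟩ := hP a (Finset.mem_insert_self a s)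
    refine ⟨min ε₁ ε₂, lt_min hε₁ hε₂, fun i hi => ?_⟩
    rcases Finset.mem_insert.1 hi with rfl | hi
    · exact hmono _ _ _ (min_le_right _ _) (lt_min hε₁ hε₂) h₂
    · exact hmono _ _ _ (min_le_left _ _) (lt_min hε₁ hε₂) (h₁ i hi)

/-- strong approximation off `v₀` with local targets -/
theorem strong_approx_local (T : Finset (HeightOneSpectrum (𝓞 K))) (hT : v₀ ∉ T)
    (Si : Finset (InfinitePlace K))
    (Uf : ∀ v : HeightOneSpectrum (𝓞 K), Set (v.adicCompletion K))
    (hUf : ∀ v ∈ T, IsOpen (Uf v) ∧ (Uf v).Nonempty)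
    (Ui : ∀ w : InfinitePlace K, Set w.Completion)
    (hUi : ∀ w ∈ Si, IsOpen (Ui w) ∧ (Ui w).Nonempty) :
    ∃ a : K, (∀ v ∈ T, algebraMap K (v.adicCompletion K) a ∈ Uf v) ∧
      (∀ w ∈ Si, algebraMap K w.Completion a ∈ Ui w) ∧
      ∀ v ∉ T, v ≠ v₀ → v.valuation K a ≤ 1 := by
  classical
  -- infinite places: a global target
  have hz : ∃ z : K, ∀ w ∈ Si, algebraMap K w.Completion z ∈ Ui w := by
    set V : Set ((w : InfinitePlace K) → w.Completion) :=
      Set.pi Set.univ (fun w => if w ∈ Si then Ui w else Set.univ) with hV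
    have hVo : IsOpen V := by
      refine isOpen_set_pi Set.finite_univ fun w _ => ?_
      by_cases hw : w ∈ Si
      · simp only [hw, if_true]; exact (hUi w hw).1
      · simp only [hw, if_false]; exact isOpen_univ
    have hVne : V.Nonempty := by
      rw [hV, Set.univ_pi_nonempty_iff]
      intro w
      by_cases hw : w ∈ Si
      · simp only [hw, if_true]; exact (hUi w hw).2
      · simp only [hw, if_false]; exact Set.univ_nonempty
    obtain ⟨z, hz⟩ := DenseRange.exists_mem_open (s := V) (InfiniteAdeleRing.denseRange_algebraMap K) hVo hVne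
    refine ⟨z, fun w hw => ?_⟩
    have := hz w (Set.mem_univ w)
    simp only [hw, if_true] at this
    exact this
  obtain ⟨z, hz⟩ := hz
  obtain ⟨ε, hε, hεball⟩ : ∃ ε > 0, ∀ w ∈ Si,
      Metric.ball (algebraMap K w.Completion z) ε ⊆ Ui w := by
    refine exists_pos_forall_finset Si
      (fun w ε => Metric.ball (algebraMap K w.Completion z) ε ⊆ Ui w) ?_ ?_
    · intro w hw
      exact Metric.isOpen_iff.1 (hUi w hw).1 _ (hz w hw)
    · intro w ε ε' hle _ h
      exact (Metric.ball_subset_ball hle).trans h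
  -- finite places: global targets
  have hy : ∀ v ∈ T, ∃ y : K, algebraMap K (v.adicCompletion K) y ∈ Uf v := by
    intro v hv
    exact (denseRange_algebraMap (K := K) v).exists_mem_open (hUf v hv).1 (hUf v hv).2
  choose! y hy using hy
  obtain ⟨η, hη, hηball⟩ : ∃ η > 0, ∀ v ∈ T,
      Metric.ball (algebraMap K (v.adicCompletion K) (y v)) η ⊆ Uf v := by
    refine exists_pos_forall_finset T
      (fun v η => Metric.ball (algebraMap K (v.adicCompletion K) (y v)) η ⊆ Uf v) ?_ ?_
    · intro v hv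
      exact Metric.isOpen_iff.1 (hUf v hv).1 _ (hy v hv)
    · intro v ε ε' hle _ h
      exact (Metric.ball_subset_ball hle).trans h
  -- a uniform exponent
  obtain ⟨n, hn⟩ : ∃ n : ℕ, ((1 : ℝ) / 2) ^ n < η := exists_pow_lt_of_lt_one hη (by norm_num)
  obtain ⟨a, haT, haw, hav⟩ := NFStrongApprox.strong_approx v₀ T hT y n z ε hε
  refine ⟨a, fun v hv => hηball v hv ?_, fun w hw => hεball w hw ?_, hav⟩
  · rw [Metric.mem_ball, dist_eq_norm]
    refine (norm_finite_coe_sub_le v a (y v) n (haT v hv)).trans_lt (lt_of_le_of_lt ?_ hn)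
    have h2 : (2 : ℝ) ≤ Ideal.absNorm v.asIdeal := by
      exact_mod_cast NumberField.HeightOneSpectrum.one_lt_absNorm v
    gcongr
    rw [one_div]
    exact inv_anti₀ (by norm_num) h2
  · rw [Metric.mem_ball, dist_eq_norm, norm_infinite_coe_sub]
    exact haw w

end Groth.Agent.Lib.helper12.NFApproxLocal
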