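import Mathlib
import Groth.Agent.Lib.Helper12.NFHensel
import Groth.Agent.Lib.Helper12.HWCompact
import Groth.Agent.Lib.Helper12.NFApproxLocal
set_option linter.style.haveILetI false
set_option linter.unusedSectionVars false

namespace Groth.Agent.Lib.helper12.AffLocal
open IsDedekindDomain HeightOneSpectrum NumberField
open scoped WithZero

variable {K F : Type*} [Field K] [NumberField K] [Field F] [NumberField F] [Algebra K F]
variable (w : HeightOneSpectrum (𝓞 K)) (P : Ideal (𝓞 F)) [hPp : P.IsPrime]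
  [hPw : P.LiesOver w.asIdeal]

include hPw in
theorem ne_bot : P ≠ ⊥ := Ideal.ne_bot_of_liesOver_of_ne_bot w.ne_bot P

include hPw in
theorem map_le : w.asIdeal ≤ P.comap (algebraMap (𝓞 K) (𝓞 F)) := by
  rw [Ideal.over_def P w.asIdeal]

include hPw in
theorem comap_le : P.comap (algebraMap (𝓞 K) (𝓞 F)) ≤ w.asIdeal := by
  conv_rhs => rw [Ideal.over_def P w.asIdeal]

/-- the residue field map is bijective when the Frobenius congruence holds -/
theorem residue_bijective
    (hfrob : ∀ y : 𝓞 F, y ^ Nat.card (𝓞 K ⧸ w.asIdeal) - y ∈ P) :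
    Function.Bijective (Ideal.quotientMap P (algebraMap (𝓞 K) (𝓞 F)) (map_le w P)) := by
  classical
  have hP0 := ne_bot w P
  haveI : P.IsMaximal := hPp.isMaximal hP0
  letI : Field (𝓞 F ⧸ P) := Ideal.Quotient.field P
  haveI : Finite (𝓞 F ⧸ P) := Ideal.finiteQuotientOfFreeOfNeBot P hP0
  haveI : Finite (𝓞 K ⧸ w.asIdeal) := Ideal.finiteQuotientOfFreeOfNeBot w.asIdeal w.ne_bot
  haveI : w.asIdeal.IsMaximal := w.isMaximal
  letI : Field (𝓞 K ⧸ w.asIdeal) := Ideal.Quotient.field w.asIdeal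
  set q := Nat.card (𝓞 K ⧸ w.asIdeal) with hq
  have hq1 : 1 < q := Finite.one_lt_card
  have hinj : Function.Injective
      (Ideal.quotientMap P (algebraMap (𝓞 K) (𝓞 F)) (map_le w P)) :=
    Ideal.quotientMap_injective' (comap_le w P)
  refine hinj.bijective_of_nat_card_le ?_
  -- every element of the residue field of `P` is a root of `X ^ q - X`
  haveI : Fintype (𝓞 F ⧸ P) := Fintype.ofFinite _
  have hroot : ∀ z : 𝓞 F ⧸ P, z ∈ (Polynomial.X ^ q - Polynomial.X : Polynomial (𝓞 F ⧸ P)).roots := by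
    intro z
    obtain ⟨y, rfl⟩ := Ideal.Quotient.mk_surjective z
    rw [Polynomial.mem_roots (FiniteField.X_pow_card_sub_X_ne_zero _ hq1), Polynomial.IsRoot,
      Polynomial.eval_sub, Polynomial.eval_pow, Polynomial.eval_X, ← map_pow, ← map_sub,
      Ideal.Quotient.eq_zero_iff_mem]
    exact hfrob y
  rw [Nat.card_eq_fintype_card]
  calc Fintype.card (𝓞 F ⧸ P) = (Finset.univ : Finset (𝓞 F ⧸ P)).card := rfl
    _ ≤ (Polynomial.X ^ q - Polynomial.X : Polynomial (𝓞 F ⧸ P)).roots.toFinset.card :=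
        Finset.card_le_card fun z _ => Multiset.mem_toFinset.2 (hroot z)
    _ ≤ Multiset.card (Polynomial.X ^ q - Polynomial.X : Polynomial (𝓞 F ⧸ P)).roots :=
        Multiset.toFinset_card_le _
    _ ≤ (Polynomial.X ^ q - Polynomial.X : Polynomial (𝓞 F ⧸ P)).natDegree :=
        Polynomial.card_roots' _
    _ = q := FiniteField.X_pow_card_sub_X_natDegree_eq _ hq1

/-- with ramification index one, integers of the base divisible by `P ^ n` are divisible by
`w ^ n` -/
theorem mem_pow_of_map_mem_pow (he : P.ramificationIdx (𝓞 K) = 1) (n : ℕ) (a : 𝓞 K)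
    (ha : algebraMap (𝓞 K) (𝓞 F) a ∈ P ^ n) : a ∈ w.asIdeal ^ n := by
  set Pv : HeightOneSpectrum (𝓞 F) := ⟨P, hPp, ne_bot w P⟩ with hPv
  haveI : Pv.asIdeal.LiesOver w.asIdeal := hPw
  have h1 := intValuation_liesOver w Pv a
  have h2 : w.asIdeal.ramificationIdx' Pv.asIdeal = 1 := by
    rw [Ideal.ramificationIdx'_eq_ramificationIdx w.asIdeal P w.ne_bot]
    exact he
  rw [h2, pow_one] at h1
  rw [← intValuation_le_pow_iff_mem, h1, intValuation_le_pow_iff_mem]
  exact ha

theorem card_quot_pow_eq (hfrob : ∀ y : 𝓞 F, y ^ Nat.card (𝓞 K ⧸ w.asIdeal) - y ∈ P) (n : ℕ) :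
    Nat.card (𝓞 F ⧸ P ^ n) = Nat.card (𝓞 K ⧸ w.asIdeal ^ n) := by
  have h1 : Nat.card (𝓞 F ⧸ P ^ n) = Ideal.absNorm (P ^ n) := by
    rw [Ideal.absNorm_apply, Submodule.cardQuot_apply]
  have h2 : Nat.card (𝓞 K ⧸ w.asIdeal ^ n) = Ideal.absNorm (w.asIdeal ^ n) := by
    rw [Ideal.absNorm_apply, Submodule.cardQuot_apply]
  have h3 : Nat.card (𝓞 F ⧸ P) = Ideal.absNorm P := by
    rw [Ideal.absNorm_apply, Submodule.cardQuot_apply]
  have h4 : Nat.card (𝓞 K ⧸ w.asIdeal) = Ideal.absNorm w.asIdeal := by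
    rw [Ideal.absNorm_apply, Submodule.cardQuot_apply]
  have h5 : Nat.card (𝓞 K ⧸ w.asIdeal) = Nat.card (𝓞 F ⧸ P) :=
    Nat.card_eq_of_bijective _ (residue_bijective w P hfrob)
  rw [h1, h2, map_pow, map_pow, ← h3, ← h4, h5]

/-- with ramification index and residue degree one, integers of the base are dense -/
theorem exists_sub_mem_pow (he : P.ramificationIdx (𝓞 K) = 1)
    (hfrob : ∀ y : 𝓞 F, y ^ Nat.card (𝓞 K ⧸ w.asIdeal) - y ∈ P) (n : ℕ) (y : 𝓞 F) :
    ∃ a : 𝓞 K, y - algebraMap (𝓞 K) (𝓞 F) a ∈ P ^ n := by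
  have hle : w.asIdeal ^ n ≤ (P ^ n).comap (algebraMap (𝓞 K) (𝓞 F)) :=
    (Ideal.pow_right_mono (map_le w P) n).trans (Ideal.le_comap_pow _ n)
  have hinj : Function.Injective
      (Ideal.quotientMap (P ^ n) (algebraMap (𝓞 K) (𝓞 F)) hle) := by
    refine Ideal.quotientMap_injective' fun a ha => ?_
    exact mem_pow_of_map_mem_pow w P he n a ha
  haveI : Finite (𝓞 F ⧸ P ^ n) :=
    Ideal.finiteQuotientOfFreeOfNeBot (P ^ n) (pow_ne_zero n (ne_bot w P))
  have hbij := hinj.bijective_of_nat_card_le (card_quot_pow_eq w P hfrob n).le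
  obtain ⟨ā, hā⟩ := hbij.2 (Ideal.Quotient.mk (P ^ n) y)
  obtain ⟨a, rfl⟩ := Ideal.Quotient.mk_surjective ā
  refine ⟨a, ?_⟩
  rw [Ideal.quotientMap_mk] at hā
  rw [← Ideal.Quotient.eq]
  exact hā.symm

open Polynomial Filter Topology in
/-- a root in the completion of an integral polynomial having roots modulo all powers -/
theorem exists_root_of_forall_pow (H : (𝓞 K)[X])
    (hH : ∀ n : ℕ, ∃ a : 𝓞 K, H.eval a ∈ w.asIdeal ^ n) :
    ∃ ρ : w.adicCompletion K, aeval ρ (H.map (algebraMap (𝓞 K) K)) = 0 := by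
  choose a ha using hH
  set h : K[X] := H.map (algebraMap (𝓞 K) K) with hh
  set α : ℕ → w.adicCompletion K := fun n =>
    algebraMap K (w.adicCompletion K) (algebraMap (𝓞 K) K (a n)) with hα
  have hαint : ∀ n, α n ∈ {x : w.adicCompletion K | Valued.v x ≤ 1} := by
    intro n
    rw [Set.mem_ofPred_eq]
    change Valued.v ((algebraMap (𝓞 K) K (a n) : K) : w.adicCompletion K) ≤ 1
    rw [valuedAdicCompletion_eq_valuation']
    exact w.valuation_le_one _
  obtain ⟨ρ, -, φ, hφ, hlim⟩ := (HWCompact.isCompact_integer w).tendsto_subseq hαint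
  refine ⟨ρ, ?_⟩
  have hcont : Continuous fun t : w.adicCompletion K => aeval t h := h.continuous_aeval
  have hlim2 : Tendsto (fun n => aeval (α (φ n)) h) atTop (𝓝 (aeval ρ h)) :=
    (hcont.tendsto ρ).comp hlim
  set r : ℝ := (Ideal.absNorm w.asIdeal : ℝ)⁻¹ with hr
  have hr0 : 0 ≤ r := by positivity
  have hr1 : r < 1 := by
    rw [hr]
    apply inv_lt_one_of_one_lt₀
    have h1 : 1 < Ideal.absNorm w.asIdeal := by
      rw [Ideal.absNorm_apply, Submodule.cardQuot_apply]
      haveI : Finite (𝓞 K ⧸ w.asIdeal) := Ideal.finiteQuotientOfFreeOfNeBot w.asIdeal w.ne_bot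
      haveI : Nontrivial (𝓞 K ⧸ w.asIdeal) :=
        Ideal.Quotient.nontrivial_iff.2 w.isPrime.ne_top
      exact Finite.one_lt_card
    exact_mod_cast h1
  have hval : ∀ n, ‖aeval (α n) h‖ ≤ r ^ n := by
    intro n
    have h1 : aeval (α n) h =
        algebraMap K (w.adicCompletion K) (algebraMap (𝓞 K) K (H.eval (a n))) := by
      have h2 : aeval (algebraMap (𝓞 K) K (a n)) h = algebraMap (𝓞 K) K (H.eval (a n)) := by
        rw [coe_aeval_eq_eval, hh, eval_map, eval₂_at_apply]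
      rw [← h2]
      exact aeval_algebraMap_apply (w.adicCompletion K) (algebraMap (𝓞 K) K (a n)) h
    rw [h1, hr, NFHensel.norm_le_pow_iff]
    change Valued.v ((algebraMap (𝓞 K) K (H.eval (a n)) : K) : w.adicCompletion K) ≤ _
    rw [valuedAdicCompletion_eq_valuation', valuation_of_algebraMap, intValuation_le_pow_iff_mem]
    exact ha n
  have hzero : Tendsto (fun n => aeval (α (φ n)) h) atTop (𝓝 0) := by
    rw [tendsto_zero_iff_norm_tendsto_zero]
    refine squeeze_zero (fun n => norm_nonneg _) (fun n => ?_)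
      (tendsto_pow_atTop_nhds_zero_of_lt_one hr0 hr1)
    refine (hval (φ n)).trans ?_
    exact pow_le_pow_of_le_one hr0 hr1.le (hφ.id_le n)
  exact tendsto_nhds_unique hlim2 hzero

open Polynomial IntermediateField in
/-- a number field with a prime of ramification index and residue degree one over `w` embeds into
the completion at `w` -/
theorem nonempty_algHom (he : P.ramificationIdx (𝓞 K) = 1)
    (hfrob : ∀ y : 𝓞 F, y ^ Nat.card (𝓞 K ⧸ w.asIdeal) - y ∈ P) :
    Nonempty (F →ₐ[K] w.adicCompletion K) := by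
  obtain ⟨x, hx⟩ := Field.exists_primitive_element K F
  have hxalg : IsAlgebraic ℤ x :=
    (IsFractionRing.isAlgebraic_iff ℤ ℚ F).2 (Algebra.IsAlgebraic.isAlgebraic x)
  obtain ⟨c, hc0, hcx⟩ := hxalg.exists_integral_multiple
  set x' : F := c • x with hx'
  have hcK : (c : K) ≠ 0 := by exact_mod_cast hc0
  have hx'eq : x' = (c : K) • x := by
    rw [hx', Algebra.smul_def, Algebra.smul_def]
    simp
  have hprim : K⟮x'⟯ = ⊤ := by
    rw [eq_top_iff, ← hx]
    rw [adjoin_simple_le_iff]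
    have h1 : x = (c : K)⁻¹ • x' := by
      rw [hx'eq, smul_smul, inv_mul_cancel₀ hcK, one_smul]
    rw [h1]
    exact (K⟮x'⟯).smul_mem (mem_adjoin_simple_self K x')
  -- the integral minimal polynomial
  have hintK : IsIntegral (𝓞 K) x' := hcx.tower_top
  set H : (𝓞 K)[X] := minpoly (𝓞 K) x' with hH
  have hmin : minpoly K x' = H.map (algebraMap (𝓞 K) K) :=
    minpoly.isIntegrallyClosed_eq_field_fractions' K hintK
  set X' : 𝓞 F := ⟨x', hcx⟩ with hX'
  have hX'coe : algebraMap (𝓞 F) F X' = x' := rfl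
  have hroot : (H.map (algebraMap (𝓞 K) (𝓞 F))).eval X' = 0 := by
    apply FaithfulSMul.algebraMap_injective (𝓞 F) F
    rw [map_zero, eval_map, ← aeval_def, ← aeval_algebraMap_apply, hX'coe]
    exact minpoly.aeval (𝓞 K) x'
  have hH' : ∀ n : ℕ, ∃ a : 𝓞 K, H.eval a ∈ w.asIdeal ^ n := by
    intro n
    obtain ⟨a, ha⟩ := exists_sub_mem_pow w P he hfrob n X'
    refine ⟨a, ?_⟩
    apply mem_pow_of_map_mem_pow w P he n
    have h1 := sub_dvd_eval_sub X' (algebraMap (𝓞 K) (𝓞 F) a) (H.map (algebraMap (𝓞 K) (𝓞 F)))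
    rw [hroot, zero_sub, dvd_neg] at h1
    have h2 : (H.map (algebraMap (𝓞 K) (𝓞 F))).eval (algebraMap (𝓞 K) (𝓞 F) a) ∈ P ^ n :=
      Ideal.mem_of_dvd _ h1 ha
    rw [eval_map, eval₂_at_apply] at h2
    exact h2
  obtain ⟨ρ, hρ⟩ := exists_root_of_forall_pow w H hH'
  rw [← hmin] at hρ
  exact NFHensel.nonempty_algHom_of_root x' hprim ρ hρ

end Groth.Agent.Lib.helper12.AffLocal
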