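import Mathlib
import Groth.Agent.Lib.Helper12.AffLocal
import Groth.Agent.Lib.Helper12.AffInertia
import Groth.Agent.Lib.Helper12.AffGalois
set_option linter.style.haveILetI false
set_option linter.unusedSectionVars false

namespace Groth.Agent.Lib.helper12.AffCore
open IsDedekindDomain HeightOneSpectrum NumberField IntermediateField

section core
variable {K F N : Type*} [Field K] [NumberField K] [Field F] [NumberField F] [Algebra K F]
  [Field N] [NumberField N] [Algebra K N] [IsGalois K N]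

/-- a subfield fixed by a Frobenius element at an unramified prime embeds into the completion -/
theorem nonempty_algHom_of_frob (w : HeightOneSpectrum (𝓞 K)) (𝔓 : Ideal (𝓞 N)) [𝔓.IsPrime]
    [h𝔓 : 𝔓.LiesOver w.asIdeal] (σ : N ≃ₐ[K] N) (hσ : IsArithFrobAt (𝓞 K) σ 𝔓)
    (ι : F →ₐ[K] N) (hι : σ.toAlgHom.comp ι = ι)
    (he : (𝔓.comap (RingOfIntegers.mapAlgHom ι : 𝓞 F →ₐ[𝓞 K] 𝓞 N)).ramificationIdx (𝓞 K) = 1) :
    Nonempty (F →ₐ[K] w.adicCompletion K) := by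
  set f : 𝓞 F →ₐ[𝓞 K] 𝓞 N := RingOfIntegers.mapAlgHom ι with hf
  set P : Ideal (𝓞 F) := 𝔓.comap f with hP
  haveI : P.IsPrime := Ideal.comap_isPrime f 𝔓
  haveI : P.LiesOver w.asIdeal := AffInertia.liesOver_comap w 𝔓 ι
  refine AffLocal.nonempty_algHom w P he fun y => ?_
  rw [hP, Ideal.mem_comap, map_sub, map_pow]
  have h1 := hσ (f y)
  rw [MulSemiringAction.toAlgHom_apply] at h1
  have h2 : σ • f y = f y := by
    apply RingOfIntegers.ext
    exact DFunLike.congr_fun hι (algebraMap (𝓞 F) F y)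
  have h3 : 𝔓.under (𝓞 K) = w.asIdeal := (Ideal.over_def 𝔓 w.asIdeal).symm
  rw [h2, h3] at h1
  have := 𝔓.neg_mem h1
  rwa [neg_sub] at this

end core

section main
variable {K L Ω : Type*} [Field K] [NumberField K] [Field L] [NumberField L] [Algebra K L]
  [Field Ω] [Algebra K Ω] [IsAlgClosure K Ω]
  {p : ℕ} [hp : Fact p.Prime] (e : (L →ₐ[K] Ω) ≃ ZMod p)
  (haff : ∀ σ : Ω ≃ₐ[K] Ω, ∃ a b : ZMod p, a ≠ 0 ∧
    ∀ φ : L →ₐ[K] Ω, e (σ.toAlgHom.comp φ) = a * e φ + b)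

/-- at a place unramified in `L`, either the cyclic subextension or `L` itself embeds into the
completion -/
theorem arith (w : HeightOneSpectrum (𝓞 K))
    (hL : ∀ P : Ideal (𝓞 L), P.IsPrime → P.LiesOver w.asIdeal → P.ramificationIdx (𝓞 K) = 1) :
    Nonempty (↥(AffGalois.E₀ e haff) →ₐ[K] w.adicCompletion K) ∨
      Nonempty (L →ₐ[K] w.adicCompletion K) := by
  haveI : w.asIdeal.IsMaximal := w.isMaximal
  obtain ⟨𝔓, h𝔓max, h𝔓w⟩ := Ideal.exists_maximal_ideal_liesOver_of_isIntegral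
    (S := 𝓞 ↥(normalClosure K L Ω)) w.asIdeal
  haveI : 𝔓.IsPrime := h𝔓max.isPrime
  have h𝔓0 : 𝔓 ≠ ⊥ := Ideal.ne_bot_of_liesOver_of_ne_bot w.ne_bot 𝔓
  haveI : Finite (𝓞 ↥(normalClosure K L Ω) ⧸ 𝔓) := Ideal.finiteQuotientOfFreeOfNeBot 𝔓 h𝔓0
  obtain ⟨σ, hσ⟩ := IsArithFrobAt.exists_of_isInvariant (𝓞 K)
    (↥(normalClosure K L Ω) ≃ₐ[K] ↥(normalClosure K L Ω)) 𝔓
  by_cases hlin : AffGalois.linN e σ = 1
  · left
    have he𝔓 : 𝔓.ramificationIdx (𝓞 K) = 1 :=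
      AffInertia.ramificationIdx_eq_one w 𝔓 hL (fun τ h => AffGalois.faithful τ h)
    refine nonempty_algHom_of_frob w 𝔓 σ hσ (AffGalois.E₀ e haff).val ?_ ?_
    · ext x
      exact congrArg Subtype.val (AffGalois.fixes_E₀ e haff σ hlin x)
    · have hdvd := Ideal.ramificationIdx_below_dvd (R := 𝓞 K)
        (𝔓.under (𝓞 ↥(AffGalois.E₀ e haff))) 𝔓
      rw [he𝔓] at hdvd
      have h1 : 𝔓.comap (RingOfIntegers.mapAlgHom (AffGalois.E₀ e haff).val :
          𝓞 ↥(AffGalois.E₀ e haff) →ₐ[𝓞 K] 𝓞 ↥(normalClosure K L Ω)) =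
          𝔓.under (𝓞 ↥(AffGalois.E₀ e haff)) := rfl
      rw [h1]
      exact Nat.dvd_one.1 hdvd
  · right
    obtain ⟨φ₀, hφ₀⟩ := AffGroup.exists_fixed p AffGalois.act (AffGalois.eN e)
      (AffGalois.haffN e haff) σ hlin
    haveI : (𝔓.comap (RingOfIntegers.mapAlgHom φ₀ :
        𝓞 L →ₐ[𝓞 K] 𝓞 ↥(normalClosure K L Ω))).IsPrime := Ideal.comap_isPrime _ 𝔓
    exact nonempty_algHom_of_frob w 𝔓 σ hσ φ₀ hφ₀
      (hL _ inferInstance (AffInertia.liesOver_comap w 𝔓 φ₀))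

end main

end Groth.Agent.Lib.helper12.AffCore
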