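import Mathlib
import Groth.Agent.Lib.Helper26.AffEquidim

/-!
# Two functions cutting out a codimension two component are algebraically independent

Let `A` be a finite type domain over a field `k` and `x, y ∈ A`.  If some minimal prime `p` over
`(x, y)` has `dim A/p + 2 = dim A`, then `x, y` are algebraically independent over `k`.
-/

set_option autoImplicit false
universe u

namespace Groth.Agent.Lib.helper12.AlgIndPair

open Groth.Agent.Lib.helper26.DimFormula

/-- `P` over `p`, `P` minimal over `pB` ⇒ `ht P ≤ ht p`. -/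
theorem height_le_of_liesOver_of_mem_minimalPrimes {A B : Type u} [CommRing A] [CommRing B]
    [Algebra A B] [IsNoetherianRing A] [IsNoetherianRing B] (p : Ideal A) [p.IsPrime]
    (P : Ideal B) [P.IsPrime] [P.LiesOver p]
    (hmin : P ∈ (p.map (algebraMap A B)).minimalPrimes) : P.height ≤ p.height := by
  have key := Ideal.height_le_height_add_of_liesOver p P
  rw [Ideal.minimalPrimes_eq_comap] at hmin
  obtain ⟨J, hJ, hJP⟩ := hmin
  have : J.IsPrime := hJ.1.1
  have h1 : P.map (Ideal.Quotient.mk (p.map (algebraMap A B))) = J := by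
    rw [← hJP, Ideal.map_comap_of_surjective _ Ideal.Quotient.mk_surjective]
  rw [h1, Ideal.height_eq_zero_iff.mpr hJ, add_zero] at key
  exact key

theorem height_eq_two (k : Type u) {A : Type u} [Field k] [CommRing A] [IsDomain A] [Algebra k A]
    [Algebra.FiniteType k A] (p : Ideal A) [p.IsPrime]
    (hdim : ringKrullDim (A ⧸ p) + 2 = ringKrullDim A) : p.height = 2 := by
  have h1 := height_add_dim_quotient_of_domain k A p
  obtain ⟨n, -, hn⟩ := exists_nat_trdeg_eq_ringKrullDim k A
  obtain ⟨n', -, hn'⟩ := exists_nat_trdeg_eq_ringKrullDim k (A ⧸ p)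
  have hIN : IsNoetherianRing A := Algebra.FiniteType.isNoetherianRing k A
  obtain ⟨h, hh⟩ := ENat.ne_top_iff_exists.mp (Ideal.height_ne_top_of_isPrime (I := p))
  rw [hn, hn'] at hdim
  rw [hn, hn', ← hh] at h1
  rw [← hh]
  have e1 : n' + 2 = n := by exact_mod_cast hdim
  have e2 : h + n' = n := by exact_mod_cast h1
  have : h = 2 := by omega
  rw [this]
  rfl


/-- Two elements cutting out a component of codimension two are algebraically independent. -/
theorem algebraicIndependent_pair (k : Type u) {A : Type u} [Field k] [CommRing A] [IsDomain A]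
    [Algebra k A] [Algebra.FiniteType k A] (x y : A) (p : Ideal A)
    (hp : p ∈ (Ideal.span {x, y}).minimalPrimes)
    (hdim : ringKrullDim (A ⧸ p) + 2 = ringKrullDim A) :
    AlgebraicIndependent k ![x, y] := by
  classical
  have hpprime : p.IsPrime := hp.1.1
  have hht : p.height = 2 := height_eq_two k p hdim
  by_contra hnot
  -- a nonzero relation
  set φ : MvPolynomial (Fin 2) k →ₐ[k] A := MvPolynomial.aeval ![x, y] with hφ
  have hninj : ¬ Function.Injective φ := hnot
  rw [injective_iff_map_eq_zero] at hninj
  push Not at hninj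
  obtain ⟨f, hf0, hfne⟩ := hninj
  -- the subalgebra generated by `x, y`
  set B : Subalgebra k A := φ.range with hB
  have hIA : IsNoetherianRing A := Algebra.FiniteType.isNoetherianRing k A
  have hsurj : Function.Surjective φ.rangeRestrict := φ.rangeRestrict_surjective
  have hIB : IsNoetherianRing B :=
    isNoetherianRing_of_surjective _ _ (φ.rangeRestrict : MvPolynomial (Fin 2) k →+* B) hsurj
  have hdimB : ringKrullDim B ≤ 1 := by
    have h1 : ringKrullDim B + 1 ≤ ringKrullDim (MvPolynomial (Fin 2) k) :=
      ringKrullDim_succ_le_of_surjective (φ.rangeRestrict : MvPolynomial (Fin 2) k →+* B) hsurj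
        (r := f) (mem_nonZeroDivisors_of_ne_zero hfne) (by
          apply Subtype.ext
          exact hf0)
    rw [MvPolynomial.ringKrullDim_of_isNoetherianRing, ringKrullDim_eq_zero_of_field] at h1
    simp only [Nat.card_eq_fintype_card, Fintype.card_fin, Nat.cast_ofNat, zero_add] at h1
    rw [show (2 : WithBot ℕ∞) = 1 + 1 by norm_num] at h1
    exact ENat.WithBot.add_le_add_one_right_iff.mp h1
  -- the prime of `B` under `p`
  set q : Ideal B := p.under B with hq
  have hqprime : q.IsPrime := Ideal.IsPrime.under B p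
  have hqht : q.height ≤ 1 := by
    have h1 : (q.height : WithBot ℕ∞) ≤ ringKrullDim B :=
      Ideal.height_le_ringKrullDim_of_ne_top hqprime.ne_top
    have h2 : (q.height : WithBot ℕ∞) ≤ ((1 : ℕ∞) : WithBot ℕ∞) := le_trans h1 hdimB
    exact WithBot.coe_le_coe.mp h2
  have hxB : x ∈ B := ⟨MvPolynomial.X 0, by simp [hφ]⟩
  have hyB : y ∈ B := ⟨MvPolynomial.X 1, by simp [hφ]⟩
  have hmin : p ∈ (q.map (algebraMap B A)).minimalPrimes := by
    refine ⟨⟨hpprime, Ideal.map_comap_le⟩, ?_⟩
    rintro p' ⟨hp'prime, hp'le⟩ hp'p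
    refine hp.2 ⟨hp'prime, ?_⟩ hp'p
    rw [Ideal.span_le]
    rintro z (rfl | hz)
    · apply hp'le
      have : z = algebraMap B A ⟨z, hxB⟩ := rfl
      rw [this]
      apply Ideal.mem_map_of_mem
      show algebraMap B A ⟨z, hxB⟩ ∈ p
      exact hp.1.2 (Ideal.subset_span (by simp))
    · rw [Set.mem_singleton_iff] at hz
      subst hz
      apply hp'le
      have : z = algebraMap B A ⟨z, hyB⟩ := rfl
      rw [this]
      apply Ideal.mem_map_of_mem
      show algebraMap B A ⟨z, hyB⟩ ∈ p
      exact hp.1.2 (Ideal.subset_span (by simp))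
  have hle : p.height ≤ q.height := height_le_of_liesOver_of_mem_minimalPrimes q p hmin
  rw [hht] at hle
  have : (2 : ℕ∞) ≤ 1 := le_trans hle hqht
  exact absurd this (by norm_num)

end Groth.Agent.Lib.helper12.AlgIndPair
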