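import Mathlib
import Groth.Prelude.Def_Twist2
import Groth.Prelude.Def_GrMod3

/-!
# The global function on `Proj 𝒜` attached to an element of degree zero (helper12)

For a ring graded by additive subgroups (`σ`-world, no base ring), `glZero 𝒜 a` is the global function
of `Proj 𝒜` attached to `a : 𝒜 0` through `Proj.toSpecZero`; its value at every point is `a / 1`
(`glZero_val`), and `(Proj 𝒜).basicOpen (glZero 𝒜 a)` is the preimage of `D(a)` (`basicOpen_glZero`).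
-/

set_option autoImplicit false
universe u

open CategoryTheory CategoryTheory.Limits AlgebraicGeometry Opposite TopologicalSpace
  HomogeneousLocalization

namespace Groth.Agent.Lib.helper12.ProjGlobalFnG

variable {A σ : Type u} [CommRing A] [SetLike σ A] [AddSubgroupClass σ A] (𝒜 : ℕ → σ)
  [GradedRing 𝒜]

section chart

variable (f : A) {m : ℕ} (f_deg : f ∈ 𝒜 m) (hm : 0 < m)

/-- Pulling a global function back to the chart `Spec A_(f)` is restricting it to `D₊(f)`. -/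
lemma awayι_appTop :
    (Proj.awayι 𝒜 f f_deg hm).appTop ≫ (Scheme.ΓSpecIso _).hom =
      (Proj 𝒜).presheaf.map (homOfLE (le_top : Proj.basicOpen 𝒜 f ≤ ⊤)).op ≫
        (Proj.basicOpenIsoAway 𝒜 f f_deg hm).inv := by
  have h1 : (Proj.basicOpenIsoSpec 𝒜 f f_deg hm).hom.appTop =
      (Scheme.ΓSpecIso _).hom ≫ Proj.awayToSection 𝒜 f ≫ (Proj.basicOpen 𝒜 f).topIso.inv := by
    rw [Proj.basicOpenIsoSpec_hom]
    exact Proj.basicOpenToSpec_app_top 𝒜 f
  have h2 : (Proj.basicOpenIsoSpec 𝒜 f f_deg hm).inv.appTop ≫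
      (Proj.basicOpenIsoSpec 𝒜 f f_deg hm).hom.appTop = 𝟙 _ := by
    rw [← Scheme.Hom.comp_appTop, Iso.hom_inv_id]
    rfl
  have h3 : (Proj.basicOpenIsoSpec 𝒜 f f_deg hm).inv.appTop =
      (Proj.basicOpen 𝒜 f).topIso.hom ≫ (Proj.basicOpenIsoAway 𝒜 f f_deg hm).inv ≫
        (Scheme.ΓSpecIso _).inv := by
    rw [h1] at h2
    rw [← Proj.basicOpenIsoAway_hom 𝒜 f f_deg hm] at h2
    rw [← cancel_mono ((Scheme.ΓSpecIso _).hom ≫ (Proj.basicOpenIsoAway 𝒜 f f_deg hm).hom ≫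
      (Proj.basicOpen 𝒜 f).topIso.inv), h2]
    simp only [Category.assoc, Iso.inv_hom_id_assoc, Iso.hom_inv_id]
  rw [Proj.awayι, Scheme.Hom.comp_appTop, Category.assoc, h3]
  simp only [Category.assoc, Iso.inv_hom_id, Category.comp_id]
  rw [← Category.assoc]
  congr 1

end chart

/-- The global function attached to `a : 𝒜 0`. -/
noncomputable def glZero (a : 𝒜 0) : GrTwist.O (𝒜 := 𝒜) (op ⊤) :=
  (Proj.toSpecZero 𝒜).appTop ((Scheme.ΓSpecIso (CommRingCat.of (𝒜 0))).inv a)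

theorem glZero_restrict (a : 𝒜 0) (f : A) {m : ℕ} (f_deg : f ∈ 𝒜 m) (hm : 0 < m) :
    (Proj 𝒜).presheaf.map (homOfLE (le_top : Proj.basicOpen 𝒜 f ≤ ⊤)).op (glZero 𝒜 a) =
      Proj.awayToSection 𝒜 f (fromZeroRingHom 𝒜 (Submonoid.powers f) a) := by
  have h1 : (Scheme.ΓSpecIso _).hom ((Proj.awayι 𝒜 f f_deg hm).appTop (glZero 𝒜 a)) =
      (Proj.basicOpenIsoAway 𝒜 f f_deg hm).inv
        ((Proj 𝒜).presheaf.map (homOfLE (le_top : Proj.basicOpen 𝒜 f ≤ ⊤)).op (glZero 𝒜 a)) :=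
    ConcreteCategory.congr_hom (awayι_appTop 𝒜 f f_deg hm) (glZero 𝒜 a)
  have h2 : (Scheme.ΓSpecIso _).hom ((Proj.awayι 𝒜 f f_deg hm).appTop (glZero 𝒜 a)) =
      fromZeroRingHom 𝒜 (Submonoid.powers f) a := by
    have e1 : (Proj.awayι 𝒜 f f_deg hm).appTop (glZero 𝒜 a) =
        (Proj.awayι 𝒜 f f_deg hm ≫ Proj.toSpecZero 𝒜).appTop
          ((Scheme.ΓSpecIso (CommRingCat.of (𝒜 0))).inv a) := by
      rw [Scheme.Hom.comp_appTop]
      rfl
    rw [e1, Proj.awayι_toSpecZero]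
    have e2 := ConcreteCategory.congr_hom
      (Scheme.ΓSpecIso_naturality (CommRingCat.ofHom (fromZeroRingHom 𝒜 (Submonoid.powers f))))
      ((Scheme.ΓSpecIso (CommRingCat.of (𝒜 0))).inv a)
    refine e2.trans ?_
    have e3 : (Scheme.ΓSpecIso (CommRingCat.of (𝒜 0))).hom
        ((Scheme.ΓSpecIso (CommRingCat.of (𝒜 0))).inv a) = a :=
      ConcreteCategory.congr_hom (Scheme.ΓSpecIso (CommRingCat.of (𝒜 0))).inv_hom_id a
    change (fromZeroRingHom 𝒜 (Submonoid.powers f)) ((Scheme.ΓSpecIso (CommRingCat.of (𝒜 0))).hom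
      ((Scheme.ΓSpecIso (CommRingCat.of (𝒜 0))).inv a)) = _
    rw [e3]
  rw [h2] at h1
  have h5 := congrArg (Proj.basicOpenIsoAway 𝒜 f f_deg hm).hom h1
  rw [← ConcreteCategory.comp_apply (Proj.basicOpenIsoAway 𝒜 f f_deg hm).inv, Iso.inv_hom_id,
    Proj.basicOpenIsoAway_hom] at h5
  exact h5.symm

/-- The value of the global function of `a` at a point is `a / 1`. -/
theorem glZero_val (a : 𝒜 0) (x : (⊤ : Opens (ProjectiveSpectrum.top 𝒜))) :
    ((glZero 𝒜 a).1 x).val = Localization.mk (a : A) 1 := by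
  obtain ⟨f, m, hm, f_deg, hfx⟩ : ∃ (f : A) (m : ℕ), 0 < m ∧ f ∈ 𝒜 m ∧
      f ∉ x.1.asHomogeneousIdeal := by
    classical
    by_contra hcon
    simp only [not_exists, not_and, not_not] at hcon
    have hle : (HomogeneousIdeal.irrelevant 𝒜).toIdeal ≤
        (x.1 : ProjectiveSpectrum 𝒜).asHomogeneousIdeal.toIdeal := by
      rw [HomogeneousIdeal.toIdeal_irrelevant_le]
      intro m hm f hf
      exact hcon f m hm hf
    exact (x.1 : ProjectiveSpectrum 𝒜).not_irrelevant_le hle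
  have hk : x.1 ∈ ProjectiveSpectrum.basicOpen 𝒜 f :=
    (ProjectiveSpectrum.mem_basicOpen 𝒜 f x.1).mpr hfx
  have h1 : (glZero 𝒜 a).1 x =
      (((Proj 𝒜).presheaf.map (homOfLE (le_top : Proj.basicOpen 𝒜 f ≤ ⊤)).op (glZero 𝒜 a) :
        GrTwist.O (𝒜 := 𝒜) (op (Proj.basicOpen 𝒜 f))).1 ⟨x.1, hk⟩) := rfl
  rw [h1, glZero_restrict 𝒜 a f f_deg hm]
  have h2 := ProjectiveSpectrum.Proj.awayToSection_apply 𝒜 f
    (fromZeroRingHom 𝒜 (Submonoid.powers f) a) ⟨x.1, hk⟩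
  refine h2.trans ?_
  have h3 : (fromZeroRingHom 𝒜 (Submonoid.powers f) a).val = Localization.mk (a : A) 1 := rfl
  rw [h3, Localization.mk_one_eq_algebraMap, IsLocalization.map_eq, RingHom.id_apply]
  exact (Localization.mk_one_eq_algebraMap _).symm

end Groth.Agent.Lib.helper12.ProjGlobalFnG
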