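import Mathlib
import Groth.Agent.Lib.Helper28.GMTildeFT
import Groth.Agent.Lib.Helper28.GFrac

/-!
# Graded algebra for Serre's theorem `M_n ≃ Γ(Proj, M(n)~)`, `n ≫ 0` (general degrees) (helper12)

Everything is for gradings by additive subgroups (`GrMod` world).

* `exists_homogeneous_gens`: a Noetherian graded ring has finitely many homogeneous generators of
  positive degree of its irrelevant ideal.
* `exists_mem_irrelevant_pow`: `𝒜 N ⊆ (A₊)^q` once `q * E ≤ N`.
* `decompose_smul_of_left_mem`: components of `a • t` for homogeneous `a`.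
* `IsHomog W`: the submodule `W` contains the homogeneous components of its elements;
  `IsHomog.smul`, `IsHomog.killed`.
* `bounded_torsion`: under (TF), a homogeneous element of large degree which is `A₊`-power torsion
  modulo `W` lies in `W`.
* `exists_pow_smul_mem`: if a homogeneous `z` is moved into the homogeneous `W` by elements outside
  every point of `D₊(f)`, then a power of `f` moves it into `W`.
-/

set_option autoImplicit false
set_option linter.unusedSectionVars false
universe u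

namespace Groth.Agent.Lib.helper12.SerreGamma

open DirectSum

variable {A σ : Type u} [CommRing A] [SetLike σ A] [AddSubgroupClass σ A] (𝒜 : ℕ → σ)
  [GradedRing 𝒜]

/-- A finitely generated irrelevant ideal has finitely many homogeneous generators of positive
degree. -/
theorem exists_homogeneous_gens (hfg : (HomogeneousIdeal.irrelevant 𝒜).toIdeal.FG) :
    ∃ (S : Finset A) (e : A → ℕ), (∀ s ∈ S, 0 < e s ∧ s ∈ 𝒜 (e s)) ∧
      (HomogeneousIdeal.irrelevant 𝒜).toIdeal = Ideal.span (S : Set A) := by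
  classical
  obtain ⟨S₀, hS₀⟩ := hfg
  let S : Finset A := S₀.biUnion fun s => (DirectSum.decompose 𝒜 s).support.image
    fun i => (DirectSum.decompose 𝒜 s i : A)
  have hmem : ∀ s ∈ S, ∃ n : ℕ, 0 < n ∧ s ∈ 𝒜 n := by
    intro s hs
    simp only [S, Finset.mem_biUnion, Finset.mem_image] at hs
    obtain ⟨s₀, hs₀, i, hi, rfl⟩ := hs
    refine ⟨i, ?_, SetLike.coe_mem _⟩
    rcases Nat.eq_zero_or_pos i with h0 | h0
    · exfalso
      subst h0
      have hs₀' : s₀ ∈ (HomogeneousIdeal.irrelevant 𝒜).toIdeal := by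
        rw [← hS₀]; exact Ideal.subset_span hs₀
      have : GradedRing.proj 𝒜 0 s₀ = 0 := (HomogeneousIdeal.mem_irrelevant_iff 𝒜 s₀).mp hs₀'
      rw [DFinsupp.mem_support_iff] at hi
      apply hi
      apply Subtype.ext
      exact this
    · exact h0
  choose! e he using hmem
  refine ⟨S, e, he, ?_⟩
  apply le_antisymm
  · rw [← hS₀, Ideal.span_le]
    intro s hs
    rw [← DirectSum.sum_support_decompose 𝒜 s]
    refine Ideal.sum_mem _ fun i hi => Ideal.subset_span ?_
    simp only [S, Finset.coe_biUnion, Finset.coe_image, Set.mem_iUnion, Set.mem_image,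
      Finset.mem_coe, exists_prop]
    exact ⟨s, hs, i, hi, rfl⟩
  · rw [Ideal.span_le]
    intro s hs
    obtain ⟨h1, h2⟩ := he s hs
    exact HomogeneousIdeal.mem_irrelevant_of_mem 𝒜 h1 h2

/-- `𝒜 N ⊆ (A₊)^q` as soon as `q * E ≤ N`, `E` a bound for the degrees of generators. -/
theorem exists_mem_irrelevant_pow (hfg : (HomogeneousIdeal.irrelevant 𝒜).toIdeal.FG) :
    ∃ E : ℕ, ∀ (q N : ℕ), q * E ≤ N → ∀ c ∈ 𝒜 N,
      c ∈ (HomogeneousIdeal.irrelevant 𝒜).toIdeal ^ q := by
  classical
  obtain ⟨S, e, hS, hspan⟩ := exists_homogeneous_gens 𝒜 hfg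
  refine ⟨S.sup e + 1, fun q => ?_⟩
  induction q with
  | zero => intro N _ c _; simp
  | succ q ih =>
    intro N hN c hc
    have hE : ∀ s ∈ S, e s ≤ S.sup e := fun s hs => Finset.le_sup hs
    have hN1 : S.sup e + 1 ≤ N := by
      have : (q + 1) * (S.sup e + 1) = q * (S.sup e + 1) + (S.sup e + 1) := by ring
      omega
    have hNpos : 0 < N := by omega
    have hc' : c ∈ Submodule.span A ((id : A → A) '' (S : Set A)) := by
      rw [Set.image_id]
      have : c ∈ (HomogeneousIdeal.irrelevant 𝒜).toIdeal :=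
        HomogeneousIdeal.mem_irrelevant_of_mem 𝒜 hNpos hc
      rw [hspan] at this
      exact this
    obtain ⟨a, ha, hsum⟩ := Groth.Agent.Lib.helper28.GMTildeFT.exists_homogeneous_coeffs 𝒜 𝒜 S id e
      (fun s hs => (hS s hs).2) (fun s hs => (hE s hs).trans (by omega)) hc hc'
    rw [hsum]
    refine Ideal.sum_mem _ fun s hs => ?_
    rw [pow_succ]
    refine Ideal.mul_mem_mul (ih (N - e s) ?_ (a s) (ha s hs)) ?_
    · have := hE s hs
      have h2 : (q + 1) * (S.sup e + 1) = q * (S.sup e + 1) + (S.sup e + 1) := by ring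
      omega
    · exact HomogeneousIdeal.mem_irrelevant_of_mem 𝒜 (hS s hs).1 (hS s hs).2

variable {M τ : Type u} [AddCommGroup M] [Module A M] [SetLike τ M] [AddSubgroupClass τ M]
  (ℳ : ℕ → τ) [DirectSum.Decomposition ℳ] [SetLike.GradedSMul 𝒜 ℳ]

/-- Components of `a • t` for `a` homogeneous of degree `e`. -/
theorem decompose_smul_of_left_mem {e : ℕ} {a : A} (ha : a ∈ 𝒜 e) (t : M) (c : ℕ) :
    ((DirectSum.decompose ℳ (a • t)) (e + c) : M) = a • ((DirectSum.decompose ℳ t) c : M) := by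
  classical
  conv_lhs => rw [← DirectSum.sum_support_decompose ℳ t, Finset.smul_sum, DirectSum.decompose_sum]
  rw [DFinsupp.finsetSum_apply, AddSubmonoidClass.coe_finsetSum]
  have hterm : ∀ l : ℕ, ((DirectSum.decompose ℳ (a • ((DirectSum.decompose ℳ t) l : M))) (e + c) : M) =
      if l = c then a • ((DirectSum.decompose ℳ t) l : M) else 0 := by
    intro l
    have hmem : a • ((DirectSum.decompose ℳ t) l : M) ∈ ℳ (e + l) := by
      have := SetLike.GradedSMul.smul_mem (A := 𝒜) (B := ℳ) ha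
        (SetLike.coe_mem (DirectSum.decompose ℳ t l))
      simpa [vadd_eq_add] using this
    by_cases hl : l = c
    · rw [if_pos hl]
      subst hl
      rw [DirectSum.decompose_of_mem_same ℳ hmem]
    · rw [if_neg hl]
      have hne : e + l ≠ e + c := by omega
      rw [DirectSum.decompose_of_mem_ne ℳ hmem hne]
  rw [Finset.sum_congr rfl (fun l _ => hterm l), Finset.sum_ite_eq']
  split_ifs with h
  · rfl
  · have h0 : ((DirectSum.decompose ℳ t) c : M) = 0 := by
      have := DFinsupp.notMem_support_iff.mp h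
      rw [this]; rfl
    rw [h0, smul_zero]

/-- A submodule containing the homogeneous components of its elements. -/
def IsHomog (W : Submodule A M) : Prop :=
  ∀ m ∈ W, ∀ c : ℕ, ((DirectSum.decompose ℳ m) c : M) ∈ W

theorem isHomog_top : IsHomog ℳ (⊤ : Submodule A M) := fun _ _ _ => trivial

/-- The submodule `x • W`. -/
def smulSub (x : A) (W : Submodule A M) : Submodule A M := W.map (LinearMap.lsmul A M x)

theorem mem_smulSub {x : A} {W : Submodule A M} {m : M} :
    m ∈ smulSub x W ↔ ∃ w ∈ W, x • w = m := by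
  simp [smulSub, Submodule.mem_map]

/-- The elements of `W` killed by `x`. -/
def killed (x : A) (W : Submodule A M) : Submodule A M := W ⊓ LinearMap.ker (LinearMap.lsmul A M x)

theorem mem_killed {x : A} {W : Submodule A M} {m : M} :
    m ∈ killed x W ↔ m ∈ W ∧ x • m = 0 := by
  simp [killed]

theorem IsHomog.killed {W : Submodule A M} (hW : IsHomog ℳ W) {d : ℕ} {x : A} (hx : x ∈ 𝒜 d) :
    IsHomog ℳ (killed x W) := by
  intro m hm c
  rw [mem_killed] at hm ⊢
  refine ⟨hW m hm.1 c, ?_⟩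
  rw [← decompose_smul_of_left_mem 𝒜 ℳ hx m c, hm.2, DirectSum.decompose_zero]
  rfl

/-- Components of `x • t` in degrees below `deg x` vanish. -/
theorem decompose_smul_of_left_mem_of_lt {e : ℕ} {a : A} (ha : a ∈ 𝒜 e) (t : M) {c : ℕ}
    (hc : c < e) : ((DirectSum.decompose ℳ (a • t)) c : M) = 0 := by
  classical
  conv_lhs => rw [← DirectSum.sum_support_decompose ℳ t, Finset.smul_sum, DirectSum.decompose_sum]
  rw [DFinsupp.finsetSum_apply, AddSubmonoidClass.coe_finsetSum]
  refine Finset.sum_eq_zero fun l _ => ?_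
  have hmem : a • ((DirectSum.decompose ℳ t) l : M) ∈ ℳ (e + l) := by
    have := SetLike.GradedSMul.smul_mem (A := 𝒜) (B := ℳ) ha
      (SetLike.coe_mem (DirectSum.decompose ℳ t l))
    simpa [vadd_eq_add] using this
  have hne : e + l ≠ c := by omega
  rw [DirectSum.decompose_of_mem_ne ℳ hmem hne]

theorem IsHomog.smulSub {W : Submodule A M} (hW : IsHomog ℳ W) {d : ℕ} {x : A} (hx : x ∈ 𝒜 d) :
    IsHomog ℳ (smulSub x W) := by
  intro m hm c
  rw [mem_smulSub] at hm ⊢
  obtain ⟨w, hw, rfl⟩ := hm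
  by_cases hc : d ≤ c
  · refine ⟨((DirectSum.decompose ℳ w) (c - d) : M), hW w hw _, ?_⟩
    have := decompose_smul_of_left_mem 𝒜 ℳ hx w (c - d)
    rw [Nat.add_sub_cancel' hc] at this
    exact this.symm
  · refine ⟨0, W.zero_mem, ?_⟩
    rw [smul_zero, decompose_smul_of_left_mem_of_lt 𝒜 ℳ hx w (by omega)]

/-- **Bounded torsion.** Under (TF), a homogeneous element of large degree which is moved into `W` by
a power of the irrelevant ideal already lies in `W`. -/
theorem bounded_torsion [IsNoetherianRing A]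
    (hTF : ∃ k : ℕ, (Submodule.span A (⋃ i ∈ Set.Ici k, (ℳ i : Set M))).FG) (W : Submodule A M) :
    ∃ n₂ : ℕ, ∀ c : ℕ, n₂ ≤ c → ∀ m ∈ ℳ c,
      (∃ q : ℕ, ∀ a ∈ (HomogeneousIdeal.irrelevant 𝒜).toIdeal ^ q, a • m ∈ W) → m ∈ W := by
  classical
  obtain ⟨k, hk⟩ := hTF
  have hfg : (HomogeneousIdeal.irrelevant 𝒜).toIdeal.FG :=
    (isNoetherianRing_iff_ideal_fg A).mp inferInstance _
  obtain ⟨E, hE⟩ := exists_mem_irrelevant_pow 𝒜 hfg
  let S : Set M := {m | ∃ c : ℕ, k ≤ c ∧ m ∈ ℳ c ∧
    ∃ q : ℕ, ∀ a ∈ (HomogeneousIdeal.irrelevant 𝒜).toIdeal ^ q, a • m ∈ W}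
  have hSle : Submodule.span A S ≤ Submodule.span A (⋃ i ∈ Set.Ici k, (ℳ i : Set M)) := by
    refine Submodule.span_mono ?_
    rintro m ⟨c, hc, hm, -⟩
    simp only [Set.mem_iUnion, Set.mem_Ici, SetLike.mem_coe, exists_prop]
    exact ⟨c, hc, hm⟩
  have hnoeth : IsNoetherian A (Submodule.span A (⋃ i ∈ Set.Ici k, (ℳ i : Set M))) :=
    isNoetherian_of_fg_of_noetherian _ hk
  have hSfg : (Submodule.span A S).FG := by
    have h1 : (Submodule.comap (Submodule.span A (⋃ i ∈ Set.Ici k, (ℳ i : Set M))).subtype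
        (Submodule.span A S)).FG := IsNoetherian.noetherian _
    have h2 := h1.map (Submodule.span A (⋃ i ∈ Set.Ici k, (ℳ i : Set M))).subtype
    rwa [Submodule.map_comap_subtype, inf_eq_right.mpr hSle] at h2
  obtain ⟨T, hTsub, hTspan⟩ := (Submodule.fg_span_iff_fg_span_finset_subset _).mp hSfg
  have hT : ∀ t : M, t ∈ T → ∃ c : ℕ, k ≤ c ∧ t ∈ ℳ c ∧
      ∃ q : ℕ, ∀ a ∈ (HomogeneousIdeal.irrelevant 𝒜).toIdeal ^ q, a • t ∈ W := fun t ht => hTsub ht
  choose! ct hct1 hct2 qt hqt using hT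
  refine ⟨max k (T.sup ct + T.sup qt * E), fun c hc m hm hq => ?_⟩
  have hmS : m ∈ Submodule.span A S :=
    Submodule.subset_span ⟨c, (le_max_left _ _).trans hc, hm, hq⟩
  rw [hTspan] at hmS
  have hc2 : T.sup ct + T.sup qt * E ≤ c := (le_max_right _ _).trans hc
  have hct : ∀ t ∈ T, ct t ≤ c := fun t ht =>
    (Finset.le_sup (f := ct) ht).trans (by omega)
  obtain ⟨a, ha, hsum⟩ := Groth.Agent.Lib.helper28.GMTildeFT.exists_homogeneous_coeffs 𝒜 ℳ T id ct
    (fun t ht => hct2 t ht) hct hm (by simpa using hmS)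
  rw [hsum]
  refine W.sum_mem fun t ht => ?_
  refine hqt t ht _ (hE (qt t) (c - ct t) ?_ _ (ha t ht))
  have h1 : ct t ≤ T.sup ct := Finset.le_sup (f := ct) ht
  have h2 : qt t ≤ T.sup qt := Finset.le_sup (f := qt) ht
  have h3 : qt t * E ≤ T.sup qt * E := Nat.mul_le_mul_right E h2
  omega

/-- If a homogeneous `z` is moved into the homogeneous submodule `W`, at every point of `D₊(f)`,
by an element outside the point, then a power of `f` moves `z` into `W`. -/
theorem exists_pow_smul_mem {W : Submodule A M} (hW : IsHomog ℳ W) {d : ℕ} (hd : 0 < d) {f : A}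
    (hf : f ∈ 𝒜 d) {i : ℕ} {z : M} (hz : z ∈ ℳ i)
    (h : ∀ y : ProjectiveSpectrum 𝒜, f ∉ y.asHomogeneousIdeal →
      ∃ u : A, u ∉ y.asHomogeneousIdeal ∧ u • z ∈ W) :
    ∃ N : ℕ, f ^ N • z ∈ W := by
  classical
  let J : Ideal A := W.comap (LinearMap.toSpanSingleton A M z)
  have hJmem : ∀ a : A, a ∈ J ↔ a • z ∈ W := fun a => by
    simp [J, Submodule.mem_comap, LinearMap.toSpanSingleton_apply]
  have hJhom : J.IsHomogeneous 𝒜 := by
    intro j a ha
    rw [hJmem] at ha ⊢
    have := hW _ ha (j + i)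
    rwa [Groth.Agent.Lib.helper28.GMTildeFT.decompose_smul_of_mem 𝒜 ℳ a hz (Nat.le_add_left i j),
      Nat.add_sub_cancel] at this
  by_contra hcon
  simp only [not_exists] at hcon
  have hfrad : f ∉ J.radical := by
    rintro ⟨N, hN⟩
    exact hcon N ((hJmem _).mp hN)
  rw [hJhom.radical_eq, Ideal.mem_sInf] at hfrad
  simp only [not_forall] at hfrad
  obtain ⟨p, ⟨hphom, hJp, hpprime⟩, hfp⟩ := hfrad
  obtain ⟨u, hu, huz⟩ := h (Groth.Agent.Lib.helper28.GFrac.pointOf 𝒜 hphom hpprime hd hf hfp) hfp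
  exact hu (hJp ((hJmem u).mpr huz))

/-- Consequence: an element moved into `W` at every point by elements outside the point is moved
into `W` by a power of the irrelevant ideal. -/
theorem exists_pow_irrelevant_smul_mem [IsNoetherianRing A] {W : Submodule A M} (hW : IsHomog ℳ W)
    {i : ℕ} {z : M} (hz : z ∈ ℳ i)
    (h : ∀ y : ProjectiveSpectrum 𝒜, ∃ u : A, u ∉ y.asHomogeneousIdeal ∧ u • z ∈ W) :
    ∃ q : ℕ, ∀ a ∈ (HomogeneousIdeal.irrelevant 𝒜).toIdeal ^ q, a • z ∈ W := by
  classical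
  let J : Ideal A := W.comap (LinearMap.toSpanSingleton A M z)
  have hJmem : ∀ a : A, a ∈ J ↔ a • z ∈ W := fun a => by
    simp [J, Submodule.mem_comap, LinearMap.toSpanSingleton_apply]
  have hrad : (HomogeneousIdeal.irrelevant 𝒜).toIdeal ≤ J.radical := by
    rw [HomogeneousIdeal.toIdeal_irrelevant_le]
    intro d hd f hf
    obtain ⟨N, hN⟩ := exists_pow_smul_mem 𝒜 ℳ hW hd hf hz (fun y _ => h y)
    exact ⟨N, (hJmem _).mpr hN⟩
  obtain ⟨q, hq⟩ := Ideal.exists_pow_le_of_le_radical_of_fg hrad (IsNoetherian.noetherian _)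
  exact ⟨q, fun a ha => (hJmem a).mp (hq ha)⟩

end Groth.Agent.Lib.helper12.SerreGamma
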