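import Mathlib
import Groth.Agent.Lib.Helper12.SerreGamma1
import Groth.Agent.Lib.Helper28.GMTildeSec
import Groth.Agent.Lib.Helper28.GMTildeQCoh

/-!
# Global sections of `M(n)~` with values in a homogeneous submodule (helper12)

* `gval w y`: the value in `M_y` of a global section `w` of `M(n)~`.
* `SecIn W w`: every value of `w` is a fraction with numerator in `W`.
* `exists_fraction_in`: a `W`-section restricted to `D₊(f)` is `m / f ^ k` with `m ∈ W`.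
* `exists_pow_smul_eq_global`: some `x ^ k • w` is the global section `m / 1`, `m ∈ W`.
-/

set_option autoImplicit false
set_option linter.unusedSectionVars false
universe u

open CategoryTheory AlgebraicGeometry Opposite TopologicalSpace

namespace Groth.Agent.Lib.helper12.SerreGamma

variable {A σ : Type u} [CommRing A] [SetLike σ A] [AddSubgroupClass σ A] (𝒜 : ℕ → σ)
  [GradedRing 𝒜]
variable {M τ : Type u} [AddCommGroup M] [Module A M] [SetLike τ M] [AddSubgroupClass τ M]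
  (ℳ : ℕ → τ) [DirectSum.Decomposition ℳ] [SetLike.GradedSMul 𝒜 ℳ]

/-- The value at `y` of a global section of `M(n)~`. -/
def gval {n : ℤ} (w : GrMod.sect 𝒜 ℳ n (op (⊤ : Opens (ProjectiveSpectrum.top 𝒜))))
    (y : ProjectiveSpectrum 𝒜) : GrMod.LocMod 𝒜 (M := M) y :=
  ((w.1 ⟨y, trivial⟩ : GrMod.tildeAt 𝒜 ℳ n y) : GrMod.LocMod 𝒜 (M := M) y)

variable {𝒜 ℳ}

theorem gval_add {n : ℤ} (w w' : GrMod.sect 𝒜 ℳ n (op (⊤ : Opens (ProjectiveSpectrum.top 𝒜))))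
    (y : ProjectiveSpectrum 𝒜) : gval 𝒜 ℳ (w + w') y = gval 𝒜 ℳ w y + gval 𝒜 ℳ w' y := rfl

theorem gval_sub {n : ℤ} (w w' : GrMod.sect 𝒜 ℳ n (op (⊤ : Opens (ProjectiveSpectrum.top 𝒜))))
    (y : ProjectiveSpectrum 𝒜) : gval 𝒜 ℳ (w - w') y = gval 𝒜 ℳ w y - gval 𝒜 ℳ w' y := rfl

theorem gval_globalOf {i : ℕ} (m : ℳ i) (y : ProjectiveSpectrum 𝒜) :
    gval 𝒜 ℳ (GrMod.globalOf 𝒜 ℳ m) y = LocalizedModule.mk (m : M) 1 := rfl

theorem gs_ext {n : ℤ} {w w' : GrMod.sect 𝒜 ℳ n (op (⊤ : Opens (ProjectiveSpectrum.top 𝒜)))}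
    (h : ∀ y, gval 𝒜 ℳ w y = gval 𝒜 ℳ w' y) : w = w' :=
  Subtype.ext (funext fun x => Subtype.ext (h x.1))

/-- The action of `a / 1 ∈ A_y` on `M_y` is the action of `a`. -/
theorem loc_smul_eq (y : ProjectiveSpectrum 𝒜) (a : A) (μ : GrMod.LocMod 𝒜 (M := M) y) :
    (Localization.mk a (1 : y.asHomogeneousIdeal.toIdeal.primeCompl) : GrTwist.Loc 𝒜 y) • μ =
      a • μ := by
  induction μ using LocalizedModule.induction_on with
  | h m s => rw [LocalizedModule.mk_smul_mk, one_mul, LocalizedModule.smul'_mk]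

theorem gval_smulSect {d : ℕ} (a : 𝒜 d) {n : ℤ}
    (w : GrMod.sect 𝒜 ℳ n (op (⊤ : Opens (ProjectiveSpectrum.top 𝒜)))) (y : ProjectiveSpectrum 𝒜) :
    gval 𝒜 ℳ (GrMod.smulSect 𝒜 ℳ a n (op ⊤) w) y = (a : A) • gval 𝒜 ℳ w y := by
  rw [← loc_smul_eq]
  rfl

variable (𝒜 ℳ)

/-- Every value of the section is a fraction with numerator in `W`. -/
def SecIn (W : Submodule A M) {n : ℤ}
    (w : GrMod.sect 𝒜 ℳ n (op (⊤ : Opens (ProjectiveSpectrum.top 𝒜)))) : Prop :=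
  ∀ y : ProjectiveSpectrum 𝒜, ∃ m ∈ W, ∃ (s : A) (hs : s ∉ y.asHomogeneousIdeal),
    gval 𝒜 ℳ w y = LocalizedModule.mk m ⟨s, hs⟩

variable {𝒜 ℳ}

theorem secIn_top {n : ℤ} (w : GrMod.sect 𝒜 ℳ n (op (⊤ : Opens (ProjectiveSpectrum.top 𝒜)))) :
    SecIn 𝒜 ℳ ⊤ w := by
  intro y
  induction h : gval 𝒜 ℳ w y using LocalizedModule.induction_on with
  | h m s => exact ⟨m, trivial, s.1, s.2, rfl⟩

theorem SecIn.smulSect {W : Submodule A M} {d : ℕ} (a : 𝒜 d) {n : ℤ}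
    {w : GrMod.sect 𝒜 ℳ n (op (⊤ : Opens (ProjectiveSpectrum.top 𝒜)))} (hw : SecIn 𝒜 ℳ W w) :
    SecIn 𝒜 ℳ W (GrMod.smulSect 𝒜 ℳ a n (op ⊤) w) := by
  intro y
  obtain ⟨m, hm, s, hs, h⟩ := hw y
  refine ⟨(a : A) • m, W.smul_mem _ hm, s, hs, ?_⟩
  rw [gval_smulSect, h, LocalizedModule.smul'_mk]

theorem SecIn.sub_globalOf {W : Submodule A M} {i : ℕ}
    {w : GrMod.sect 𝒜 ℳ (i : ℤ) (op (⊤ : Opens (ProjectiveSpectrum.top 𝒜)))} (hw : SecIn 𝒜 ℳ W w)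
    (m₁ : ℳ i) (hm₁ : (m₁ : M) ∈ W) : SecIn 𝒜 ℳ W (w - GrMod.globalOf 𝒜 ℳ m₁) := by
  intro y
  obtain ⟨m, hm, s, hs, h⟩ := hw y
  refine ⟨m - s • (m₁ : M), W.sub_mem hm (W.smul_mem _ hm₁), s, hs, ?_⟩
  rw [gval_sub, h, gval_globalOf]
  have h1 : (LocalizedModule.mk (m₁ : M) (1 : y.asHomogeneousIdeal.toIdeal.primeCompl)) =
      LocalizedModule.mk (s • (m₁ : M)) ⟨s, hs⟩ := by
    rw [LocalizedModule.mk_eq]
    exact ⟨1, by simp [Submonoid.smul_def]⟩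
  rw [h1, sub_eq_add_neg, ← LocalizedModule.mk_neg,
    ← Groth.Agent.Lib.helper28.GMTildeFT.mk_add_same, sub_eq_add_neg]

/-- Restriction of a global section to `D₊(f)`. -/
def resBasic {n : ℤ} (w : GrMod.sect 𝒜 ℳ n (op (⊤ : Opens (ProjectiveSpectrum.top 𝒜)))) (f : A) :
    GrMod.sect 𝒜 ℳ n (op (ProjectiveSpectrum.basicOpen 𝒜 f)) :=
  GrMod.res 𝒜 ℳ n (homOfLE le_top).op w

/-- A global section is one fraction `m / f ^ k` on `D₊(f)`. -/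
theorem exists_fraction {n : ℤ} (w : GrMod.sect 𝒜 ℳ n (op (⊤ : Opens (ProjectiveSpectrum.top 𝒜))))
    {d : ℕ} (hd : 0 < d) {f : A} (hf : f ∈ 𝒜 d) :
    ∃ (k i : ℕ) (m : M), m ∈ ℳ i ∧ (i : ℤ) = k * d + n ∧
      ∀ (y : ProjectiveSpectrum 𝒜) (hy : f ∉ y.asHomogeneousIdeal),
        gval 𝒜 ℳ w y = LocalizedModule.mk m
          ⟨f ^ k, Groth.Agent.Lib.helper28.GFrac.pow_notMem 𝒜 y hy k⟩ := by
  obtain ⟨k, i, m, hi, h⟩ :=
    Groth.Agent.Lib.helper28.GMTildeSec.sect_eq_fraction 𝒜 ℳ n hd hf (resBasic w f)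
  refine ⟨k, i, m.1, m.2, hi, fun y hy => ?_⟩
  exact h ⟨y, (ProjectiveSpectrum.mem_basicOpen 𝒜 f y).mpr hy⟩

theorem pow_mem_deg {d : ℕ} {f : A} (hf : f ∈ 𝒜 d) (k : ℕ) : f ^ k ∈ 𝒜 (k * d) := by
  have := SetLike.pow_mem_graded k hf
  simpa [smul_eq_mul] using this

theorem smul_mem_deg {a : A} {m : M} {i j : ℕ} (ha : a ∈ 𝒜 i) (hm : m ∈ ℳ j) :
    a • m ∈ ℳ (i + j) := by
  have := SetLike.GradedSMul.smul_mem (A := 𝒜) (B := ℳ) ha hm
  simpa [vadd_eq_add] using this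

theorem isHomog_bot : IsHomog ℳ (⊥ : Submodule A M) := by
  intro m hm c
  rw [Submodule.mem_bot] at hm
  subst hm
  rw [DirectSum.decompose_zero]
  exact zero_mem _

/-- A `W`-section restricted to `D₊(f)` is one fraction `m / f ^ k` with `m ∈ W`. -/
theorem exists_fraction_in {W : Submodule A M} (hW : IsHomog ℳ W) {n : ℤ}
    {w : GrMod.sect 𝒜 ℳ n (op (⊤ : Opens (ProjectiveSpectrum.top 𝒜)))} (hw : SecIn 𝒜 ℳ W w)
    {d : ℕ} (hd : 0 < d) {f : A} (hf : f ∈ 𝒜 d) :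
    ∃ (k i : ℕ) (m : M), m ∈ ℳ i ∧ m ∈ W ∧ (i : ℤ) = k * d + n ∧
      ∀ (y : ProjectiveSpectrum 𝒜) (hy : f ∉ y.asHomogeneousIdeal),
        gval 𝒜 ℳ w y = LocalizedModule.mk m
          ⟨f ^ k, Groth.Agent.Lib.helper28.GFrac.pow_notMem 𝒜 y hy k⟩ := by
  obtain ⟨k₀, i₀, m₀, hm₀, hi₀, h₀⟩ := exists_fraction w hd hf
  have key : ∀ y : ProjectiveSpectrum 𝒜, f ∉ y.asHomogeneousIdeal →
      ∃ u : A, u ∉ y.asHomogeneousIdeal ∧ u • m₀ ∈ W := by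
    intro y hy
    obtain ⟨m, hm, s, hs, h⟩ := hw y
    rw [h₀ y hy, LocalizedModule.mk_eq] at h
    obtain ⟨u, hu⟩ := h
    refine ⟨u.1 * s, fun hmem => (y.isPrime.mem_or_mem hmem).elim u.2 hs, ?_⟩
    have hu' : (u : A) • s • m₀ = (u : A) • f ^ k₀ • m := hu
    rw [mul_smul, hu']
    exact W.smul_mem _ (W.smul_mem _ hm)
  obtain ⟨N, hN⟩ := exists_pow_smul_mem 𝒜 ℳ hW hd hf hm₀ key
  refine ⟨k₀ + N, N * d + i₀, f ^ N • m₀, smul_mem_deg (pow_mem_deg hf N) hm₀, hN,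
    by push_cast; rw [hi₀]; ring, fun y hy => ?_⟩
  rw [h₀ y hy, LocalizedModule.mk_eq]
  refine ⟨1, ?_⟩
  change (1 : A) • f ^ (k₀ + N) • m₀ = (1 : A) • f ^ k₀ • f ^ N • m₀
  rw [smul_smul (f ^ k₀), ← pow_add]

/-- For a `W`-section `w` and a homogeneous `x` of positive degree, some `x ^ k • w` is the global
section `m / 1` with `m ∈ W`. -/
theorem exists_pow_smul_eq_global (S : Finset A) (e : A → ℕ)
    (hS : ∀ s ∈ S, 0 < e s ∧ s ∈ 𝒜 (e s))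
    (hcov : ∀ y : ProjectiveSpectrum 𝒜, ∃ s ∈ S, s ∉ y.asHomogeneousIdeal)
    {W : Submodule A M} (hW : IsHomog ℳ W) {n : ℤ}
    {w : GrMod.sect 𝒜 ℳ n (op (⊤ : Opens (ProjectiveSpectrum.top 𝒜)))} (hw : SecIn 𝒜 ℳ W w)
    {d : ℕ} (hd : 0 < d) {x : A} (hx : x ∈ 𝒜 d) :
    ∃ (k i : ℕ) (m : M), m ∈ ℳ i ∧ m ∈ W ∧ (i : ℤ) = k * d + n ∧
      ∀ y : ProjectiveSpectrum 𝒜, x ^ k • gval 𝒜 ℳ w y =
        LocalizedModule.mk m (1 : y.asHomogeneousIdeal.toIdeal.primeCompl) := by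
  classical
  obtain ⟨k, i, m, hm, hmW, hi, h⟩ := exists_fraction_in hW hw hd hx
  have hg : ∀ s ∈ S, ∃ (t j : ℕ) (mj : M), mj ∈ ℳ j ∧ mj ∈ W ∧ (j : ℤ) = t * e s + n ∧
      ∀ (y : ProjectiveSpectrum 𝒜) (hy : s ∉ y.asHomogeneousIdeal),
        gval 𝒜 ℳ w y = LocalizedModule.mk mj
          ⟨s ^ t, Groth.Agent.Lib.helper28.GFrac.pow_notMem 𝒜 y hy t⟩ :=
    fun s hs => exists_fraction_in hW hw (hS s hs).1 (hS s hs).2
  choose! t j mj hmj hmjW hj hval using hg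
  have hz : ∀ s ∈ S, ∃ l : ℕ, (x * s) ^ l • (s ^ t s • m - x ^ k • mj s) = 0 := by
    intro s hs
    have hdeg1 : s ^ t s • m ∈ ℳ (t s * e s + i) := smul_mem_deg (pow_mem_deg (hS s hs).2 _) hm
    have hdeg2 : x ^ k • mj s ∈ ℳ (k * d + j s) := smul_mem_deg (pow_mem_deg hx _) (hmj s hs)
    have heq : k * d + j s = t s * e s + i := by
      have : ((k * d + j s : ℕ) : ℤ) = ((t s * e s + i : ℕ) : ℤ) := by
        push_cast; rw [hi, hj s hs]; ring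
      exact_mod_cast this
    rw [heq] at hdeg2
    have hzmem : s ^ t s • m - x ^ k • mj s ∈ ℳ (t s * e s + i) := sub_mem hdeg1 hdeg2
    have := exists_pow_smul_mem 𝒜 ℳ (W := ⊥) isHomog_bot (Nat.add_pos_left hd (e s))
      (SetLike.mul_mem_graded hx (hS s hs).2) hzmem ?_
    · obtain ⟨N, hN⟩ := this
      exact ⟨N, (Submodule.mem_bot A).mp hN⟩
    · intro y hy
      have hxy : x ∉ y.asHomogeneousIdeal :=
        Groth.Agent.Lib.helper28.GFrac.notMem_of_mul_notMem_left 𝒜 y hy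
      have hsy : s ∉ y.asHomogeneousIdeal :=
        Groth.Agent.Lib.helper28.GFrac.notMem_of_mul_notMem_right 𝒜 y hy
      have e2 := hval s hs y hsy
      rw [h y hxy, LocalizedModule.mk_eq] at e2
      obtain ⟨u, hu⟩ := e2
      refine ⟨u.1, u.2, ?_⟩
      rw [Submodule.mem_bot, smul_sub, sub_eq_zero]
      exact hu
  choose! l hl using hz
  refine ⟨k + S.sup l, S.sup l * d + i, x ^ S.sup l • m, smul_mem_deg (pow_mem_deg hx _) hm,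
    W.smul_mem _ hmW, by push_cast; rw [hi]; ring, fun y => ?_⟩
  obtain ⟨s, hs, hsy⟩ := hcov y
  rw [hval s hs y hsy, LocalizedModule.smul'_mk, LocalizedModule.mk_eq]
  refine ⟨⟨s ^ S.sup l, Groth.Agent.Lib.helper28.GFrac.pow_notMem 𝒜 y hsy _⟩, ?_⟩
  have h0 : (x * s) ^ S.sup l • (s ^ t s • m - x ^ k • mj s) = 0 := by
    have hle : l s ≤ S.sup l := Finset.le_sup hs
    have : S.sup l = (S.sup l - l s) + l s := (Nat.sub_add_cancel hle).symm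
    rw [this, pow_add, mul_smul, hl s hs, smul_zero]
  rw [smul_sub, sub_eq_zero] at h0
  change s ^ S.sup l • (1 : A) • x ^ (k + S.sup l) • mj s = s ^ S.sup l • s ^ t s • x ^ S.sup l • m
  simp only [smul_smul] at h0 ⊢
  have e1 : s ^ S.sup l * (1 * x ^ (k + S.sup l)) = (x * s) ^ S.sup l * x ^ k := by ring
  have e2 : s ^ S.sup l * (s ^ t s * x ^ S.sup l) = (x * s) ^ S.sup l * s ^ t s := by ring
  rw [e1, e2, h0]

end Groth.Agent.Lib.helper12.SerreGamma
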