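import Mathlib
import Groth.Agent.Lib.Helper12.ProjGlobalFnG
import Groth.Agent.Lib.Helper12.SerreGamma2
import Groth.Agent.Lib.Helper28.GMTildeLoc
import Groth.Agent.Lib.Helper7.QCohExtend

/-!
# Localization of the base and the maps `α_n : M_n → Γ(Proj, M(n)~)` (helper12), part 1

* `val_res_pow_smul`: the value of `(γ(a)|_W)^k • s` is `a^k • (value of s)`.
* `range_map_eq_basicOpen`: the image of `Proj A[1/c] ⟶ Proj A` is the locus `X_{γ(c)}`.
* `locModMap_smul'`: `locModMap (a • q) = ψ a • locModMap q`.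
-/

set_option autoImplicit false
set_option linter.unusedSectionVars false
universe u

open CategoryTheory AlgebraicGeometry Opposite TopologicalSpace
open scoped HomogeneousIdeal

namespace Groth.Agent.Lib.helper12.AlphaLoc

open Groth.Agent.Lib.helper12.ProjGlobalFnG Groth.Agent.Lib.helper12.SerreGamma
  Groth.Agent.Lib.helper28.ProjLocAway

variable {A σ : Type u} [CommRing A] [SetLike σ A] [AddSubgroupClass σ A] {𝒜 : ℕ → σ}
  [GradedRing 𝒜]
variable {M τ : Type u} [AddCommGroup M] [Module A M] [SetLike τ M] [AddSubgroupClass τ M]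
  {ℳ : ℕ → τ} [DirectSum.Decomposition ℳ] [SetLike.GradedSMul 𝒜 ℳ]

/-- The value of `γ(a)|_W • s` is `a • (value of s)`. -/
theorem val_res_smul (a : 𝒜 0) {n : ℤ} (W : (Proj 𝒜).Opens) (s : Γ(GrMod.tilde 𝒜 ℳ n, W))
    (y : W) :
    GrMod.val (Groth.Agent.Lib.helper7.res (X := Proj 𝒜) (glZero 𝒜 a) W • s) y =
      (a : A) • GrMod.val s y := by
  have h1 : GrMod.val (Groth.Agent.Lib.helper7.res (X := Proj 𝒜) (glZero 𝒜 a) W • s) y =
      ((glZero 𝒜 a).1 ⟨y.1, trivial⟩).val • GrMod.val s y :=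
    GrMod.coe_smul_val n y.1 _ _
  rw [h1, glZero_val]
  exact loc_smul_eq y.1 (a : A) _

/-- The value of `(γ(a)|_W)^k • s` is `a^k • (value of s)`. -/
theorem val_res_pow_smul (a : 𝒜 0) {n : ℤ} (W : (Proj 𝒜).Opens) (k : ℕ)
    (s : Γ(GrMod.tilde 𝒜 ℳ n, W)) (y : W) :
    GrMod.val ((Groth.Agent.Lib.helper7.res (X := Proj 𝒜) (glZero 𝒜 a) W) ^ k • s) y =
      (a : A) ^ k • GrMod.val s y := by
  induction k with
  | zero => rw [pow_zero, pow_zero, one_smul, one_smul]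
  | succ k ih =>
    rw [pow_succ', mul_smul, val_res_smul, ih, pow_succ', mul_smul]

variable {B σ' : Type u} [CommRing B] [SetLike σ' B] [AddSubgroupClass σ' B] {ℬ : ℕ → σ'}
  [GradedRing ℬ]
variable {N τ' : Type u} [AddCommGroup N] [Module B N] [SetLike τ' N] [AddSubgroupClass τ' N]
  {𝒩 : ℕ → τ'} [DirectSum.Decomposition 𝒩] [SetLike.GradedSMul ℬ 𝒩]
variable {ψ : 𝒜 →+*ᵍ ℬ} {c : A} (v : M →ₛₗ[ψ.toRingHom] N)
  (hv : ∀ (i : ℕ) (m : M), m ∈ ℳ i → v m ∈ 𝒩 i)

/-- The image of `Proj A[1/c] ⟶ Proj A` is the locus where the global function of `c` is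
invertible. -/
theorem range_map_eq_basicOpen (h : IsLocAt ψ c) (hψ : ℬ₊ ≤ (𝒜₊).map ψ) :
    Set.range (Proj.map ψ hψ).base =
      ((Proj 𝒜).basicOpen (glZero 𝒜 ⟨c, h.mem⟩) : Set (Proj 𝒜)) := by
  have e : (Proj 𝒜).basicOpen (glZero 𝒜 ⟨c, h.mem⟩) =
      Proj.toSpecZero 𝒜 ⁻¹ᵁ (PrimeSpectrum.basicOpen (⟨c, h.mem⟩ : 𝒜 0)) := by
    rw [← AlgebraicGeometry.basicOpen_eq_of_affine (R := CommRingCat.of (𝒜 0)),
      Scheme.preimage_basicOpen]
    rfl
  ext x
  rw [mem_range_map_iff h hψ x, e]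
  rfl

/-- `locModMap` is semilinear for the actions of `A` and `B`. -/
theorem locModMap_smul' (hψ : ℬ₊ ≤ (𝒜₊).map ψ) (y : ProjectiveSpectrum ℬ) (a : A)
    (q : GrMod.LocMod 𝒜 (M := M) (ProjectiveSpectrum.comap ψ hψ y)) :
    GrMod.locModMap ψ hψ v y (a • q) = ψ a • GrMod.locModMap ψ hψ v y q := by
  induction q using LocalizedModule.induction_on with
  | h m s =>
    rw [LocalizedModule.smul'_mk, GrMod.locModMap_mk, GrMod.locModMap_mk,
      LocalizedModule.smul'_mk, LinearMap.map_smulₛₗ]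
    rfl

end Groth.Agent.Lib.helper12.AlphaLoc
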