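import Mathlib
import Groth.Agent.Lib.Helper12.AlphaLoc1

/-!
# Localization of the base and the maps `α_n : M_n → Γ(Proj, M(n)~)` (helper12), part 2

`ψ : A → B = A[1/c]` a localization at a degree-zero element, `v : M → N = M[1/c]`.

* `ascend`: if `α_n` for `(B, N)` is bijective then the kernel of `α_n` for `(A, M)` is `c`-power
  torsion and every global section of `M(n)~` becomes `m / 1` after multiplication by a power of
  `c`.
* `descend`: if `α_n` for `(A, M)` is bijective, so is `α_n` for `(B, N)`.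
* `glue`: if the conclusions of `ascend` hold for a family of `c`'s generating the unit ideal of
  `A₀`, then `α_n` for `(A, M)` is bijective.
-/

set_option autoImplicit false
set_option linter.unusedSectionVars false
universe u

open CategoryTheory AlgebraicGeometry Opposite TopologicalSpace
open scoped HomogeneousIdeal

namespace Groth.Agent.Lib.helper12.AlphaLoc

open Groth.Agent.Lib.helper12.ProjGlobalFnG Groth.Agent.Lib.helper12.SerreGamma
  Groth.Agent.Lib.helper28.ProjLocAway Groth.Agent.Lib.helper28.GMTildeLoc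

variable {A σ : Type u} [CommRing A] [SetLike σ A] [AddSubgroupClass σ A] {𝒜 : ℕ → σ}
  [GradedRing 𝒜]
variable {M τ : Type u} [AddCommGroup M] [Module A M] [SetLike τ M] [AddSubgroupClass τ M]
  {ℳ : ℕ → τ} [DirectSum.Decomposition ℳ] [SetLike.GradedSMul 𝒜 ℳ]
variable {B σ' : Type u} [CommRing B] [SetLike σ' B] [AddSubgroupClass σ' B] {ℬ : ℕ → σ'}
  [GradedRing ℬ]
variable {N τ' : Type u} [AddCommGroup N] [Module B N] [SetLike τ' N] [AddSubgroupClass τ' N]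
  {𝒩 : ℕ → τ'} [DirectSum.Decomposition 𝒩] [SetLike.GradedSMul ℬ 𝒩]
variable {ψ : 𝒜 →+*ᵍ ℬ} {c : A} (v : M →ₛₗ[ψ.toRingHom] N)
  (hv : ∀ (i : ℕ) (m : M), m ∈ ℳ i → v m ∈ 𝒩 i)

theorem locModMap_mk_one (hψ : ℬ₊ ≤ (𝒜₊).map ψ) (y : ProjectiveSpectrum ℬ) (m : M) :
    GrMod.locModMap ψ hψ v y (LocalizedModule.mk m 1) = LocalizedModule.mk (v m) 1 := by
  rw [GrMod.locModMap_mk]
  congr 1
  exact Subtype.ext (map_one ψ)

instance compactSpace_proj [Algebra.FiniteType (𝒜 0) A] : CompactSpace (Proj 𝒜) :=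
  QuasiCompact.compactSpace_of_compactSpace (Proj.toSpecZero 𝒜)

theorem pow_mem_zero {a : A} (ha : a ∈ 𝒜 0) (k : ℕ) : a ^ k ∈ 𝒜 0 := by
  have := SetLike.pow_mem_graded k ha
  simpa using this

theorem smul_mem_same {a : A} (ha : a ∈ 𝒜 0) {n : ℕ} {m : M} (hm : m ∈ ℳ n) : a • m ∈ ℳ n := by
  have := smul_mem_deg (𝒜 := 𝒜) (ℳ := ℳ) ha hm
  simpa using this

include hv in
theorem ascend [Algebra.FiniteType (𝒜 0) A] (h : IsLocAt ψ c) (hψ : ℬ₊ ≤ (𝒜₊).map ψ)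
    (hinj : ∀ m : M, v m = 0 → ∃ k : ℕ, c ^ k • m = 0)
    (hsurj : ∀ (i : ℕ) (b : N), b ∈ 𝒩 i → ∃ (m : M) (k : ℕ), m ∈ ℳ i ∧ ψ c ^ k • b = v m)
    (n : ℕ) (hb : Function.Bijective (GrMod.alpha ℬ 𝒩 n)) :
    (∀ m : ℳ n, GrMod.alpha 𝒜 ℳ n m = 0 → ∃ k : ℕ, c ^ k • (m : M) = 0) ∧
    (∀ s : GrMod.sect 𝒜 ℳ (n : ℤ) (op ⊤), ∃ (k : ℕ) (m : ℳ n), ∀ y : ProjectiveSpectrum 𝒜,
        c ^ k • gval 𝒜 ℳ s y = LocalizedModule.mk (m : M) 1) := by
  constructor
  · intro m hm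
    have h0 : GrMod.alpha ℬ 𝒩 n ⟨v m, hv n m m.2⟩ = 0 := by
      refine gs_ext (𝒜 := ℬ) (ℳ := 𝒩) (fun y => ?_)
      have h1 : gval 𝒜 ℳ (GrMod.alpha 𝒜 ℳ n m) (ProjectiveSpectrum.comap ψ hψ y) =
          gval 𝒜 ℳ (0 : GrMod.sect 𝒜 ℳ (n : ℤ) (op ⊤)) (ProjectiveSpectrum.comap ψ hψ y) := by
        rw [hm]; rfl
      have h2 : (LocalizedModule.mk (m : M) 1 :
          GrMod.LocMod 𝒜 (M := M) (ProjectiveSpectrum.comap ψ hψ y)) = 0 := h1
      have h3 := congrArg (GrMod.locModMap ψ hψ v y) h2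
      rw [locModMap_mk_one, map_zero] at h3
      exact h3
    have h1 := hb.1 (h0.trans (map_zero _).symm)
    have h2 : v m = 0 := congrArg Subtype.val h1
    exact hinj m h2
  · intro s
    have hqc : (GrMod.tilde 𝒜 ℳ (n : ℤ)).IsQuasicoherent :=
      Groth.Agent.Lib.helper28.GMTildeQCoh.tilde_isQuasicoherent 𝒜 ℳ n
    let τ : GrMod.sect ℬ 𝒩 (n : ℤ) (op ⊤) :=
      GrMod.comapApp ψ hψ v hv n ⊤ ⊤ (fun _ _ => trivial) s
    obtain ⟨b, hbτ⟩ := hb.2 τ
    obtain ⟨m, k, hm, hk⟩ := hsurj n b b.2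
    let γ := glZero 𝒜 ⟨c, h.mem⟩
    let s' : Γ(GrMod.tilde 𝒜 ℳ (n : ℤ), ⊤) := s
    let w : Γ(GrMod.tilde 𝒜 ℳ (n : ℤ), ⊤) :=
      (Groth.Agent.Lib.helper7.res (X := Proj 𝒜) γ ⊤) ^ k • s' - GrMod.alpha 𝒜 ℳ n ⟨m, hm⟩
    have hwval : ∀ y : (⊤ : (Proj 𝒜).Opens), GrMod.val w y =
        c ^ k • GrMod.val s' y - LocalizedModule.mk m 1 := by
      intro y
      have e1 : GrMod.val w y =
          GrMod.val ((Groth.Agent.Lib.helper7.res (X := Proj 𝒜) γ ⊤) ^ k • s') y -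
            GrMod.val (GrMod.alpha 𝒜 ℳ n ⟨m, hm⟩ : Γ(GrMod.tilde 𝒜 ℳ (n : ℤ), ⊤)) y := rfl
      rw [e1, val_res_pow_smul]
      rfl
    have hw : (GrMod.tilde 𝒜 ℳ (n : ℤ)).presheaf.map
        (homOfLE (inf_le_left : ⊤ ⊓ (Proj 𝒜).basicOpen γ ≤ ⊤)).op w = 0 := by
      have hW : ((⊤ ⊓ (Proj 𝒜).basicOpen γ : (Proj 𝒜).Opens) : Set (Proj 𝒜)) ⊆
          Set.range (Proj.map ψ hψ).base := by
        rw [range_map_eq_basicOpen h hψ]
        exact fun x hx => hx.2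
      apply comap_app_injective v hv h hψ hinj n _ hW
      rw [map_zero]
      refine Subtype.ext (funext fun y => Subtype.ext ?_)
      change GrMod.locModMap ψ hψ v y.1 (GrMod.val w ⟨ProjectiveSpectrum.comap ψ hψ y.1, trivial⟩) =
        0
      rw [hwval, map_sub, sub_eq_zero]
      have e3 : GrMod.locModMap ψ hψ v y.1
          (c ^ k • GrMod.val s' ⟨ProjectiveSpectrum.comap ψ hψ y.1, trivial⟩) =
          ψ (c ^ k) • GrMod.locModMap ψ hψ v y.1
            (GrMod.val s' ⟨ProjectiveSpectrum.comap ψ hψ y.1, trivial⟩) :=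
        locModMap_smul' v hψ y.1 (c ^ k) _
      have e2 : GrMod.locModMap ψ hψ v y.1
          (GrMod.val s' ⟨ProjectiveSpectrum.comap ψ hψ y.1, trivial⟩) =
          gval ℬ 𝒩 τ y.1 := rfl
      have e4 : gval ℬ 𝒩 τ y.1 = LocalizedModule.mk (b : N) 1 := by
        rw [← hbτ]; rfl
      refine e3.trans ?_
      rw [e2, e4]
      refine Eq.trans ?_ (locModMap_mk_one v hψ y.1 m).symm
      rw [map_pow, LocalizedModule.smul'_mk, hk]
    obtain ⟨l, hl⟩ := Groth.Agent.Lib.helper7.exists_res_pow_smul_eq_zero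
      (GrMod.tilde 𝒜 ℳ (n : ℤ)) (U := ⊤) (CompactSpace.isCompact_univ) γ w hw
    refine ⟨l + k, ⟨c ^ l • m, smul_mem_same (pow_mem_zero h.mem l) hm⟩, fun y => ?_⟩
    have h1 : GrMod.val ((Groth.Agent.Lib.helper7.res (X := Proj 𝒜) γ ⊤) ^ l • w)
        ⟨y, trivial⟩ = 0 := by rw [hl]; rfl
    rw [val_res_pow_smul, hwval, smul_sub, sub_eq_zero] at h1
    change c ^ (l + k) • GrMod.val s' ⟨y, trivial⟩ = _
    rw [pow_add, mul_smul]
    refine h1.trans ?_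
    rw [LocalizedModule.smul'_mk]

include hv in
theorem descend [Algebra.FiniteType (𝒜 0) A] (h : IsLocAt ψ c) (hψ : ℬ₊ ≤ (𝒜₊).map ψ)
    (hinj : ∀ m : M, v m = 0 → ∃ k : ℕ, c ^ k • m = 0)
    (hsurj : ∀ (i : ℕ) (b : N), b ∈ 𝒩 i → ∃ (m : M) (k : ℕ), m ∈ ℳ i ∧ ψ c ^ k • b = v m)
    (n : ℕ) (hb : Function.Bijective (GrMod.alpha 𝒜 ℳ n)) :
    Function.Bijective (GrMod.alpha ℬ 𝒩 n) := by
  have hqc : (GrMod.tilde 𝒜 ℳ (n : ℤ)).IsQuasicoherent :=
    Groth.Agent.Lib.helper28.GMTildeQCoh.tilde_isQuasicoherent 𝒜 ℳ n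
  let γ := glZero 𝒜 ⟨c, h.mem⟩
  have hrange : ∀ y : ProjectiveSpectrum ℬ,
      ProjectiveSpectrum.comap ψ hψ y ∈ (Proj 𝒜).basicOpen γ := by
    intro y
    have : (Proj.map ψ hψ).base y ∈ Set.range (Proj.map ψ hψ).base := ⟨y, rfl⟩
    rw [range_map_eq_basicOpen h hψ] at this
    exact this
  constructor
  · rw [injective_iff_map_eq_zero]
    intro b hb0
    obtain ⟨m, k, hm, hk⟩ := hsurj n b b.2
    let w : Γ(GrMod.tilde 𝒜 ℳ (n : ℤ), ⊤) := GrMod.alpha 𝒜 ℳ n ⟨m, hm⟩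
    have hw : (GrMod.tilde 𝒜 ℳ (n : ℤ)).presheaf.map
        (homOfLE (inf_le_left : ⊤ ⊓ (Proj 𝒜).basicOpen γ ≤ ⊤)).op w = 0 := by
      have hW : ((⊤ ⊓ (Proj 𝒜).basicOpen γ : (Proj 𝒜).Opens) : Set (Proj 𝒜)) ⊆
          Set.range (Proj.map ψ hψ).base := by
        rw [range_map_eq_basicOpen h hψ]
        exact fun x hx => hx.2
      apply comap_app_injective v hv h hψ hinj n _ hW
      rw [map_zero]
      refine Subtype.ext (funext fun y => Subtype.ext ?_)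
      change GrMod.locModMap ψ hψ v y.1 (LocalizedModule.mk m 1) = 0
      refine (locModMap_mk_one v hψ y.1 m).trans ?_
      rw [← hk, ← LocalizedModule.smul'_mk]
      have e1 : (LocalizedModule.mk (b : N) 1 : GrMod.LocMod ℬ (M := N) y.1) =
          gval ℬ 𝒩 (GrMod.alpha ℬ 𝒩 n b) y.1 := rfl
      rw [e1, hb0]
      exact smul_zero _
    obtain ⟨l, hl⟩ := Groth.Agent.Lib.helper7.exists_res_pow_smul_eq_zero
      (GrMod.tilde 𝒜 ℳ (n : ℤ)) (U := ⊤) (CompactSpace.isCompact_univ) γ w hw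
    have h2 : GrMod.alpha 𝒜 ℳ n ⟨c ^ l • m, smul_mem_same (pow_mem_zero h.mem l) hm⟩ = 0 := by
      refine gs_ext (fun y => ?_)
      have h1 : GrMod.val ((Groth.Agent.Lib.helper7.res (X := Proj 𝒜) γ ⊤) ^ l • w)
          ⟨y, trivial⟩ = 0 := by rw [hl]; rfl
      rw [val_res_pow_smul] at h1
      change LocalizedModule.mk (c ^ l • m) 1 = _
      rw [← LocalizedModule.smul'_mk]
      exact h1
    have h3 := hb.1 (h2.trans (map_zero _).symm)
    have h4 : c ^ l • m = 0 := congrArg Subtype.val h3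
    have h5 : ψ c ^ l • v m = 0 := by
      have := congrArg v h4
      rw [LinearMap.map_smulₛₗ, map_zero] at this
      change ψ (c ^ l) • v m = 0 at this
      rwa [map_pow] at this
    have h6 : v m = 0 := ((h.unit.pow l).smul_eq_zero).mp h5
    rw [h6] at hk
    have h7 : (b : N) = 0 := ((h.unit.pow k).smul_eq_zero).mp hk
    exact Subtype.ext h7
  · intro t
    have hW : (((Proj 𝒜).basicOpen γ : (Proj 𝒜).Opens) : Set (Proj 𝒜)) ⊆
        Set.range (Proj.map ψ hψ).base := by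
      rw [range_map_eq_basicOpen h hψ]
    let t' : Γ((Scheme.Modules.pushforward (Proj.map ψ hψ)).obj (GrMod.tilde ℬ 𝒩 (n : ℤ)),
        (Proj 𝒜).basicOpen γ) :=
      (GrMod.tilde ℬ 𝒩 (n : ℤ)).presheaf.map
        (homOfLE (le_top : Proj.map ψ hψ ⁻¹ᵁ (Proj 𝒜).basicOpen γ ≤ ⊤)).op t
    obtain ⟨s, hs⟩ := comap_app_surjective v hv h hψ hinj hsurj n _ hW t'
    obtain ⟨k, s₀, hs₀⟩ := Groth.Agent.Lib.helper7.exists_pow_smul_eq_map_of_qcqs
      (GrMod.tilde 𝒜 ℳ (n : ℤ)) γ s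
    obtain ⟨m, hm⟩ := hb.2 s₀
    obtain ⟨u', hu'⟩ := h.unit.pow k
    have hu0 : ((↑u'⁻¹ : B)) ∈ ℬ 0 := by
      refine inv_mem_zero (u := ψ c ^ k) (pow_mem_zero (ψ.map_mem h.mem) k) ?_
      rw [← hu']
      exact Units.mul_inv u'
    refine ⟨⟨(↑u'⁻¹ : B) • v m, smul_mem_same hu0 (hv n m m.2)⟩, ?_⟩
    refine gs_ext (𝒜 := ℬ) (ℳ := 𝒩) (fun y => ?_)
    have hx := hrange y
    -- the value of `s₀` at `x = ψ⁻¹ y`, computed in two ways
    have e1 : GrMod.val s₀ ⟨ProjectiveSpectrum.comap ψ hψ y, trivial⟩ =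
        LocalizedModule.mk (m : M) 1 := by rw [← hm]; rfl
    have e2 : GrMod.val s₀ ⟨ProjectiveSpectrum.comap ψ hψ y, trivial⟩ =
        c ^ k • GrMod.val s ⟨ProjectiveSpectrum.comap ψ hψ y, hx⟩ := by
      have := congrArg (fun z => GrMod.val z ⟨ProjectiveSpectrum.comap ψ hψ y, hx⟩) hs₀
      refine Eq.trans ?_ (this.trans (val_res_pow_smul _ _ k s _))
      rfl
    have e3 : GrMod.locModMap ψ hψ v y (GrMod.val s ⟨ProjectiveSpectrum.comap ψ hψ y, hx⟩) =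
        gval ℬ 𝒩 t y := by
      have := congrArg (fun z => GrMod.val (V := Proj.map ψ hψ ⁻¹ᵁ (Proj 𝒜).basicOpen γ) z
        ⟨y, hx⟩) hs
      exact this
    have e4 : LocalizedModule.mk (v m) 1 = ψ c ^ k • gval ℬ 𝒩 t y := by
      rw [← e3, ← map_pow, ← locModMap_smul' v hψ y, ← e2, e1, locModMap_mk_one]
    change LocalizedModule.mk ((↑u'⁻¹ : B) • v m) 1 = _
    rw [← LocalizedModule.smul'_mk, e4, ← mul_smul, ← hu', Units.inv_mul, one_smul]

/-- An ideal containing a power of every element of a generating set of the unit ideal is the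
unit ideal. -/
theorem ideal_eq_top_of_pow_mem {R : Type*} [CommRing R] (J : Ideal R) (C : Set R)
    (hC : Ideal.span C = ⊤) (hJ : ∀ c ∈ C, ∃ k : ℕ, c ^ k ∈ J) : J = ⊤ := by
  by_contra hne
  obtain ⟨P, hP, hJP⟩ := Ideal.exists_le_maximal J hne
  have : Ideal.span C ≤ P := by
    rw [Ideal.span_le]
    intro c hc
    obtain ⟨k, hk⟩ := hJ c hc
    exact hP.isPrime.mem_of_pow_mem k (hJP hk)
  rw [hC] at this
  exact hP.ne_top (top_le_iff.mp this)

theorem glue (n : ℕ) (C : Set (𝒜 0)) (hC : Ideal.span C = ⊤)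
    (hI : ∀ c ∈ C, ∀ m : ℳ n, GrMod.alpha 𝒜 ℳ n m = 0 → ∃ k : ℕ, (c : A) ^ k • (m : M) = 0)
    (hS : ∀ c ∈ C, ∀ s : GrMod.sect 𝒜 ℳ (n : ℤ) (op ⊤), ∃ (k : ℕ) (m : ℳ n),
      ∀ y : ProjectiveSpectrum 𝒜, (c : A) ^ k • gval 𝒜 ℳ s y = LocalizedModule.mk (m : M) 1) :
    Function.Bijective (GrMod.alpha 𝒜 ℳ n) := by
  constructor
  · rw [injective_iff_map_eq_zero]
    intro m hm
    let J : Ideal (𝒜 0) :=
      { carrier := {a | (a : A) • (m : M) = 0}
        add_mem' := fun {a b} ha hb => by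
          change ((a + b : 𝒜 0) : A) • (m : M) = 0
          rw [AddMemClass.coe_add, add_smul, ha, hb, add_zero]
        zero_mem' := by
          change ((0 : 𝒜 0) : A) • (m : M) = 0
          rw [ZeroMemClass.coe_zero, zero_smul]
        smul_mem' := fun r a ha => by
          change ((r * a : 𝒜 0) : A) • (m : M) = 0
          rw [SetLike.GradeZero.coe_mul, mul_smul, ha, smul_zero] }
    have hJ : J = ⊤ := by
      refine ideal_eq_top_of_pow_mem J C hC (fun c hc => ?_)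
      obtain ⟨k, hk⟩ := hI c hc m hm
      refine ⟨k, ?_⟩
      change ((c ^ k : 𝒜 0) : A) • (m : M) = 0
      rw [SetLike.GradeZero.coe_pow]
      exact hk
    have h1 : (1 : 𝒜 0) ∈ J := by rw [hJ]; trivial
    have h2 : ((1 : 𝒜 0) : A) • (m : M) = 0 := h1
    rw [SetLike.GradeZero.coe_one, one_smul] at h2
    exact Subtype.ext h2
  · intro s
    let J : Ideal (𝒜 0) :=
      { carrier := {a | ∃ m : ℳ n, ∀ y : ProjectiveSpectrum 𝒜,
          (a : A) • gval 𝒜 ℳ s y = LocalizedModule.mk (m : M) 1}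
        add_mem' := fun {a b} ha hb => by
          obtain ⟨m, hm⟩ := ha
          obtain ⟨m', hm'⟩ := hb
          refine ⟨m + m', fun y => ?_⟩
          rw [AddMemClass.coe_add, add_smul, hm, hm', AddMemClass.coe_add]
          exact ((LocalizedModule.mkLinearMap _ M).map_add (m : M) (m' : M)).symm
        zero_mem' := by
          refine ⟨0, fun y => ?_⟩
          rw [ZeroMemClass.coe_zero, zero_smul, ZeroMemClass.coe_zero, LocalizedModule.zero_mk]
        smul_mem' := fun r a ha => by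
          obtain ⟨m, hm⟩ := ha
          refine ⟨⟨(r : A) • (m : M), smul_mem_same r.2 m.2⟩, fun y => ?_⟩
          change ((r * a : 𝒜 0) : A) • gval 𝒜 ℳ s y = _
          rw [SetLike.GradeZero.coe_mul, mul_smul, hm, LocalizedModule.smul'_mk] }
    have hJ : J = ⊤ := by
      refine ideal_eq_top_of_pow_mem J C hC (fun c hc => ?_)
      obtain ⟨k, m, hk⟩ := hS c hc s
      refine ⟨k, m, fun y => ?_⟩
      rw [SetLike.GradeZero.coe_pow]
      exact hk y
    have h1 : (1 : 𝒜 0) ∈ J := by rw [hJ]; trivial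
    obtain ⟨m, hm⟩ := h1
    refine ⟨m, ?_⟩
    refine gs_ext (fun y => ?_)
    have := hm y
    rw [SetLike.GradeZero.coe_one, one_smul] at this
    exact this.symm

end Groth.Agent.Lib.helper12.AlphaLoc
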