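import Mathlib

/-!
# Hypersurfaces through a closed subset covering the complement (helper12)

* `exists_homogeneous_mem_notMem`: homogeneous prime avoidance inside an ideal `J`.
* `isHomogeneous_of_mem_minimalPrimes`: minimal primes of a homogeneous ideal are homogeneous.
* `exists_hypersurfaces`: for `j : X ⟶ Proj 𝒜` inducing on the underlying spaces (`A` Noetherian),
  `dim X ≤ r` and a closed `C ⊇ closure (range j) \ range j`, there are `r + 1` homogeneous elements
  of positive degree vanishing on `C` whose basic opens cover `X \ j⁻¹ C`.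
-/

set_option autoImplicit false

universe u

namespace Groth.Agent.Lib.helper12.HypCover

open AlgebraicGeometry CategoryTheory TopologicalSpace

section avoid

variable {A σ : Type*} [CommRing A] [SetLike σ A] [AddSubgroupClass σ A] (𝒜 : ℕ → σ)
  [GradedRing 𝒜]

/-- **Homogeneous prime avoidance** inside an ideal `J`. -/
theorem exists_homogeneous_mem_notMem (J : Ideal A) : ∀ (m : ℕ) (s : Finset (Ideal A)),
    s.card = m →
    (∀ p ∈ s, p.IsPrime ∧ ∃ (d : ℕ) (_ : 0 < d) (x : A), x ∈ 𝒜 d ∧ x ∈ J ∧ x ∉ p) →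
    ∃ (d : ℕ) (_ : 0 < d) (x : A), x ∈ 𝒜 d ∧ x ∈ J ∧ ∀ p ∈ s, x ∉ p := by
  classical
  intro m
  induction m using Nat.strong_induction_on with
  | _ m ih =>
  intro s hcard hs
  rcases Nat.eq_zero_or_pos m with hm | hm
  · subst hm
    rw [Finset.card_eq_zero] at hcard
    subst hcard
    exact ⟨1, one_pos, 0, zero_mem _, zero_mem _, by simp⟩
  have hstep : ∀ p ∈ s, ∃ (d : ℕ) (_ : 0 < d) (x : A), x ∈ 𝒜 d ∧ x ∈ J ∧
      ∀ q ∈ s.erase p, x ∉ q := by
    intro p hp
    apply ih (m - 1) (by omega) (s.erase p) (by rw [Finset.card_erase_of_mem hp, hcard])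
    intro q hq
    exact hs q (Finset.mem_of_mem_erase hq)
  by_cases hex : ∃ p ∈ s, ∃ (d : ℕ) (_ : 0 < d) (x : A), x ∈ 𝒜 d ∧ x ∈ J ∧
      (∀ q ∈ s.erase p, x ∉ q) ∧ x ∉ p
  · obtain ⟨p, hp, d, hd, x, hx, hxJ, hxq, hxp⟩ := hex
    refine ⟨d, hd, x, hx, hxJ, ?_⟩
    intro q hq
    by_cases hqp : q = p
    · subst hqp; exact hxp
    · exact hxq q (Finset.mem_erase.2 ⟨hqp, hq⟩)
  push Not at hex
  choose! d hd x hx hxJ hxq using hstep
  have hxp : ∀ p ∈ s, x p ∈ p := fun p hp =>
    hex p hp (d p) (hd p hp) (x p) (hx p hp) (hxJ p hp) (hxq p hp)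
  obtain ⟨p₁, hp₁⟩ : s.Nonempty := by
    rw [← Finset.card_pos, hcard]; exact hm
  by_cases hone : s.erase p₁ = ∅
  · obtain ⟨n, hn, y, hy, hyJ, hyp⟩ := (hs p₁ hp₁).2
    refine ⟨n, hn, y, hy, hyJ, ?_⟩
    intro q hq
    by_cases hqp : q = p₁
    · subst hqp; exact hyp
    · exfalso
      have : q ∈ s.erase p₁ := Finset.mem_erase.2 ⟨hqp, hq⟩
      rw [hone] at this
      simp at this
  set s' := s.erase p₁ with hs'
  set y : A := ∏ q ∈ s', x q with hy
  set e : ℕ := ∑ q ∈ s', d q with he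
  have hymem : y ∈ 𝒜 e := by
    rw [hy, he]
    have : ∀ t : Finset (Ideal A), t ⊆ s' → (∏ q ∈ t, x q) ∈ 𝒜 (∑ q ∈ t, d q) := by
      intro t
      induction t using Finset.induction_on with
      | empty => intro _; simpa using SetLike.GradedOne.one_mem (A := 𝒜)
      | insert a t ha iht =>
        intro hsub
        rw [Finset.prod_insert ha, Finset.sum_insert ha]
        have ha' : a ∈ s := Finset.mem_of_mem_erase (hsub (Finset.mem_insert_self _ _))
        exact SetLike.mul_mem_graded (hx a ha')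
          (iht (fun q hq => hsub (Finset.mem_insert_of_mem hq)))
    exact this s' subset_rfl
  obtain ⟨q₂, hq₂⟩ := Finset.nonempty_iff_ne_empty.2 hone
  have hq₂s : q₂ ∈ s := Finset.mem_of_mem_erase hq₂
  have hyJ : y ∈ J := by
    rw [hy, ← Finset.mul_prod_erase s' x hq₂]
    exact J.mul_mem_right _ (hxJ q₂ hq₂s)
  have hepos : 0 < e :=
    lt_of_lt_of_le (hd q₂ hq₂s) (Finset.single_le_sum (f := d) (fun _ _ => Nat.zero_le _) hq₂)
  have hd1 : 0 < d p₁ := hd p₁ hp₁
  refine ⟨d p₁ * e, Nat.mul_pos hd1 hepos, x p₁ ^ e + y ^ (d p₁), ?_, ?_, ?_⟩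
  · apply add_mem
    · have := SetLike.pow_mem_graded e (hx p₁ hp₁)
      simpa [mul_comm] using this
    · have := SetLike.pow_mem_graded (d p₁) hymem
      simpa [mul_comm] using this
  · exact J.add_mem (J.pow_mem_of_mem (hxJ p₁ hp₁) e hepos) (J.pow_mem_of_mem hyJ _ hd1)
  · intro q hq
    have hqprime : q.IsPrime := (hs q hq).1
    by_cases hqp : q = p₁
    · subst hqp
      intro hmem
      have h1 : x q ^ e ∈ q := Ideal.pow_mem_of_mem _ (hxp q hq) e hepos
      have h2 : y ^ (d q) ∈ q := (Ideal.add_mem_iff_right _ h1).1 hmem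
      have h3 : y ∈ q := hqprime.mem_of_pow_mem _ h2
      rw [hy] at h3
      obtain ⟨q', hq', hq'mem⟩ := (hqprime.prod_mem_iff).1 h3
      have hq's : q' ∈ s := Finset.mem_of_mem_erase hq'
      have hne : q ≠ q' := fun h => (Finset.ne_of_mem_erase hq') h.symm
      exact hxq q' hq's q (Finset.mem_erase.2 ⟨hne, hq⟩) hq'mem
    · intro hmem
      have hq' : q ∈ s' := Finset.mem_erase.2 ⟨hqp, hq⟩
      have h1 : y ∈ q := by
        rw [hy, ← Finset.mul_prod_erase s' x hq']
        exact q.mul_mem_right _ (hxp q hq)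
      have h2 : y ^ (d p₁) ∈ q := Ideal.pow_mem_of_mem _ h1 _ hd1
      have h3 : x p₁ ^ e ∈ q := (Ideal.add_mem_iff_left _ h2).1 hmem
      have h4 : x p₁ ∈ q := hqprime.mem_of_pow_mem _ h3
      exact hxq p₁ hp₁ q hq' h4

end avoid

section homog

variable {A σ : Type*} [CommRing A] [SetLike σ A] [AddSubgroupClass σ A] (𝒜 : ℕ → σ)
  [GradedRing 𝒜]

theorem exists_proj_notMem (p : Ideal A) (a : A) (ha : a ∉ p) :
    ∃ i, (GradedRing.proj 𝒜 i a) ∉ p := by
  classical
  by_contra hcon
  push Not at hcon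
  apply ha
  rw [← DirectSum.sum_support_decompose 𝒜 a]
  exact p.sum_mem fun i _ => hcon i

/-- Minimal primes of a homogeneous ideal are homogeneous. -/
theorem isHomogeneous_of_mem_minimalPrimes {I p : Ideal A} (hI : I.IsHomogeneous 𝒜)
    (hp : p ∈ I.minimalPrimes) : p.IsHomogeneous 𝒜 := by
  have hprime : p.IsPrime := hp.1.1
  have h1 : (p.homogeneousCore 𝒜).toIdeal.IsPrime := Ideal.IsPrime.homogeneousCore hprime
  have h2 : I ≤ (p.homogeneousCore 𝒜).toIdeal := by
    have := Ideal.homogeneousCore_mono 𝒜 hp.1.2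
    rw [← hI.toIdeal_homogeneousCore_eq_self]
    exact this
  have h3 : (p.homogeneousCore 𝒜).toIdeal ≤ p := Ideal.toIdeal_homogeneousCore_le 𝒜 p
  have h4 : p ≤ (p.homogeneousCore 𝒜).toIdeal := hp.2 ⟨h1, h2⟩ h3
  have h5 : (p.homogeneousCore 𝒜).toIdeal = p := le_antisymm h3 h4
  rw [← h5]
  exact (p.homogeneousCore 𝒜).isHomogeneous

end homog

section main

variable {A : Type u} {σ : Type*} [CommRing A] [SetLike σ A] [AddSubgroupClass σ A] (𝒜 : ℕ → σ)
  [GradedRing 𝒜]

/-- The closure of a point as an irreducible closed subset. -/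
def ptCl {X : Type*} [TopologicalSpace X] (x : X) : IrreducibleCloseds X :=
  ⟨closure {x}, isIrreducible_singleton.closure, isClosed_closure⟩

/-- A homogeneous element of positive degree vanishing on `C`. -/
def Good (C : Set (ProjectiveSpectrum 𝒜)) (h : A) : Prop :=
  (∃ d, 0 < d ∧ h ∈ 𝒜 d) ∧ h ∈ (ProjectiveSpectrum.vanishingIdeal C).toIdeal

theorem exists_pos_notMem (q : ProjectiveSpectrum 𝒜) : ∃ (e : ℕ) (_ : 0 < e) (b : A), b ∈ 𝒜 e ∧
    b ∉ q.asHomogeneousIdeal.toIdeal := by
  have h1 := q.not_irrelevant_le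
  obtain ⟨a, ha, haq⟩ := SetLike.not_le_iff_exists.mp h1
  obtain ⟨i, hi⟩ := exists_proj_notMem 𝒜 q.asHomogeneousIdeal.toIdeal a haq
  have hi0 : i ≠ 0 := by
    rintro rfl
    apply hi
    have := (HomogeneousIdeal.mem_irrelevant_iff 𝒜 a).mp ha
    rw [this]
    exact zero_mem _
  exact ⟨i, Nat.pos_of_ne_zero hi0, _, GradedRing.proj_apply 𝒜 i a ▸ SetLike.coe_mem _, hi⟩

variable [IsNoetherianRing A] {X : Type*} [TopologicalSpace X] (φ : X → ProjectiveSpectrum 𝒜)

theorem step (hj : Topology.IsInducing φ) (C : Set (ProjectiveSpectrum 𝒜)) (hC : IsClosed C)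
    (hCj : closure (Set.range φ) \ Set.range φ ⊆ C) (r : ℕ∞)
    (hr : topologicalKrullDim X ≤ (r : WithBot ℕ∞)) :
    ∀ m : ℕ, ∃ hs : Fin m → A, (∀ i, Good 𝒜 C (hs i)) ∧
      ∀ x : X, φ x ∉ C → (∀ i, hs i ∈ (φ x).asHomogeneousIdeal.toIdeal) →
        Order.height (ptCl x) + m ≤ r := by
  classical
  intro m
  induction m with
  | zero =>
    refine ⟨Fin.elim0, fun i => i.elim0, fun x _ _ => ?_⟩
    have h1 : ((Order.height (ptCl x) : ℕ∞) : WithBot ℕ∞) ≤ (r : WithBot ℕ∞) :=
      (Order.height_le_krullDim (ptCl x)).trans hr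
    have h2 : Order.height (ptCl x) ≤ r := WithBot.coe_le_coe.mp h1
    simpa using h2
  | succ m ih =>
    obtain ⟨hs, hgood, hQ⟩ := ih
    set IX : Ideal A := (ProjectiveSpectrum.vanishingIdeal (Set.range φ)).toIdeal with hIX
    set J : Ideal A := (ProjectiveSpectrum.vanishingIdeal C).toIdeal with hJ
    set I : Ideal A := IX ⊔ Ideal.span (Set.range hs) with hI
    have hIhom : I.IsHomogeneous 𝒜 := by
      refine Ideal.IsHomogeneous.sup (HomogeneousIdeal.isHomogeneous _) ?_
      refine Ideal.homogeneous_span 𝒜 _ ?_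
      rintro _ ⟨i, rfl⟩
      obtain ⟨⟨d, -, hd⟩, -⟩ := hgood i
      exact ⟨d, hd⟩
    let S : Set (Ideal A) := {p | p ∈ I.minimalPrimes ∧
      ∃ (d : ℕ) (_ : 0 < d) (x : A), x ∈ 𝒜 d ∧ x ∈ J ∧ x ∉ p}
    have hSfin : S.Finite :=
      (I.finite_minimalPrimes_of_isNoetherianRing).subset fun p hp => hp.1
    obtain ⟨d, hd, h, hhd, hhJ, hhS⟩ := exists_homogeneous_mem_notMem 𝒜 J hSfin.toFinset.card
      hSfin.toFinset rfl (fun p hp => by
        rw [Set.Finite.mem_toFinset] at hp
        exact ⟨hp.1.1.1, hp.2⟩)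
    refine ⟨Fin.snoc hs h, ?_, ?_⟩
    · intro i
      refine Fin.lastCases ?_ (fun i => ?_) i
      · rw [Fin.snoc_last]
        exact ⟨⟨d, hd, hhd⟩, hhJ⟩
      · rw [Fin.snoc_castSucc]
        exact hgood i
    · intro x hxC hxmem
      set q : Ideal A := (φ x).asHomogeneousIdeal.toIdeal with hq
      have hqprime : q.IsPrime := (φ x).isPrime
      have hhq : h ∈ q := by
        have := hxmem (Fin.last m)
        rwa [Fin.snoc_last] at this
      have hsq : ∀ i, hs i ∈ q := fun i => by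
        have := hxmem i.castSucc
        rwa [Fin.snoc_castSucc] at this
      have hIXq : IX ≤ q := by
        intro f hf
        exact (ProjectiveSpectrum.mem_vanishingIdeal _ f).mp hf (φ x) ⟨x, rfl⟩
      have hIq : I ≤ q := by
        refine sup_le hIXq ?_
        rw [Ideal.span_le]
        rintro _ ⟨i, rfl⟩
        exact hsq i
      obtain ⟨p, hpmin, hpq⟩ := Ideal.exists_minimalPrimes_le hIq
      have hpprime : p.IsPrime := hpmin.1.1
      have hphom : p.IsHomogeneous 𝒜 := isHomogeneous_of_mem_minimalPrimes 𝒜 hIhom hpmin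
      -- witness
      have hJq : ¬ J ≤ q := by
        intro hle
        apply hxC
        have h1 : φ x ∈ ProjectiveSpectrum.zeroLocus 𝒜
            ((ProjectiveSpectrum.vanishingIdeal C : HomogeneousIdeal 𝒜) : Set A) := by
          rw [ProjectiveSpectrum.mem_zeroLocus]
          exact hle
        rw [ProjectiveSpectrum.zeroLocus_vanishingIdeal_eq_closure, hC.closure_eq] at h1
        exact h1
      obtain ⟨a, haJ, haq⟩ := SetLike.not_le_iff_exists.mp hJq
      obtain ⟨i, hi⟩ := exists_proj_notMem 𝒜 q a haq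
      have haiJ : GradedRing.proj 𝒜 i a ∈ J :=
        (ProjectiveSpectrum.vanishingIdeal C).isHomogeneous i haJ
      obtain ⟨e, he, b, hbe, hbq⟩ := exists_pos_notMem 𝒜 (φ x)
      have hyq : GradedRing.proj 𝒜 i a * b ∉ q := fun hmem =>
        (hqprime.mem_or_mem hmem).elim hi hbq
      have hpS : p ∈ S := by
        refine ⟨hpmin, i + e, by omega, GradedRing.proj 𝒜 i a * b, ?_, J.mul_mem_right _ haiJ,
          fun hmem => hyq (hpq hmem)⟩
        exact SetLike.mul_mem_graded (GradedRing.proj_apply 𝒜 i a ▸ SetLike.coe_mem _) hbe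
      have hhp : h ∉ p := hhS p (by rw [Set.Finite.mem_toFinset]; exact hpS)
      -- the point
      let P0 : ProjectiveSpectrum 𝒜 := ⟨⟨p, hphom⟩, hpprime, fun hle =>
        (φ x).not_irrelevant_le (hle.trans hpq)⟩
      have hP0cl : P0 ∈ closure (Set.range φ) := by
        rw [← ProjectiveSpectrum.zeroLocus_vanishingIdeal_eq_closure,
          ProjectiveSpectrum.mem_zeroLocus]
        exact fun f hf => hpmin.1.2 (le_sup_left (a := IX) hf)
      have hP0C : P0 ∉ C := by
        intro hmem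
        apply hyq
        apply hpq
        exact (ProjectiveSpectrum.mem_vanishingIdeal _ _).mp (J.mul_mem_right _ haiJ) P0 hmem
      obtain ⟨z, hz⟩ : P0 ∈ Set.range φ := by
        by_contra hcon
        exact hP0C (hCj ⟨hP0cl, hcon⟩)
      have hzC : φ z ∉ C := by rw [hz]; exact hP0C
      have hzmem : ∀ i, hs i ∈ (φ z).asHomogeneousIdeal.toIdeal := by
        intro i
        rw [hz]
        exact hpmin.1.2 (le_sup_right (a := IX) (Ideal.subset_span ⟨i, rfl⟩))
      have hz' := hQ z hzC hzmem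
      have hle : ptCl x ≤ ptCl z := by
        change closure {x} ⊆ closure {z}
        apply closure_minimal _ isClosed_closure
        rw [Set.singleton_subset_iff, hj.closure_eq_preimage_closure_image, Set.image_singleton]
        change φ x ∈ closure {φ z}
        rw [hz, ← ProjectiveSpectrum.le_iff_mem_closure]
        exact hpq
      have hne : ptCl x ≠ ptCl z := by
        intro heq
        have h1 : z ∈ closure ({x} : Set X) := by
          have : (ptCl z : Set X) = ptCl x := congrArg _ heq.symm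
          have h2 : z ∈ (ptCl z : Set X) := subset_closure rfl
          rw [this] at h2
          exact h2
        have h2 : φ z ∈ closure {φ x} := by
          have := image_closure_subset_closure_image hj.continuous
            (Set.mem_image_of_mem _ h1)
          rwa [Set.image_singleton] at this
        rw [hz, ← ProjectiveSpectrum.le_iff_mem_closure] at h2
        exact hhp (h2 hhq)
      have hlt : ptCl x < ptCl z := lt_of_le_of_ne hle hne
      have h3 := Order.height_add_one_le hlt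
      calc Order.height (ptCl x) + ((m + 1 : ℕ) : ℕ∞)
          = (Order.height (ptCl x) + 1) + m := by push_cast; ring
        _ ≤ Order.height (ptCl z) + m := by gcongr
        _ ≤ r := hz'

theorem exists_hypersurfaces (hj : Topology.IsInducing φ) (C : Set (ProjectiveSpectrum 𝒜))
    (hC : IsClosed C) (hCj : closure (Set.range φ) \ Set.range φ ⊆ C) (r : ℕ)
    (hr : topologicalKrullDim X ≤ ((r : ℕ∞) : WithBot ℕ∞)) :
    ∃ hs : Fin (r + 1) → A, (∀ i, Good 𝒜 C (hs i)) ∧
      ∀ x : X, φ x ∉ C → ∃ i, hs i ∉ (φ x).asHomogeneousIdeal.toIdeal := by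
  obtain ⟨hs, hgood, hQ⟩ := step 𝒜 φ hj C hC hCj r hr (r + 1)
  refine ⟨hs, hgood, fun x hx => ?_⟩
  by_contra hcon
  push Not at hcon
  have h1 := hQ x hx hcon
  have h2 : ((r + 1 : ℕ) : ℕ∞) ≤ (r : ℕ∞) := le_trans le_add_self h1
  have h3 : r + 1 ≤ r := by exact_mod_cast h2
  omega

end main

end Groth.Agent.Lib.helper12.HypCover
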