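import Mathlib
import Groth.Agent.Lib.Helper12.HypCover
import Groth.Agent.Lib.Helper12.ProjUP7
import Groth.Agent.Lib.Helper12.ProjUP5

/-!
# Avoidable subsets of projective space over `ℤ` (helper12)

For `𝒜 = ℤ[x_0..x_N]` and a set `I` of coordinates:

* `avoid_finite`: a finite subset of `⋃_{i ∈ I} D₊(x_i)` lies in a single `D₊(P)` with
  `P ∈ (x_i : i ∈ I)` homogeneous of positive degree;
* `avoid_of_isIntegral`: the same for the image of `Spec A ⟶ P^N_ℤ`, `A` an integral algebra over a field.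
-/

set_option autoImplicit false
universe u

open CategoryTheory CategoryTheory.Limits AlgebraicGeometry Opposite TopologicalSpace
open HomogeneousLocalization

namespace Groth.Agent.Lib.Helper12.AmpleAvoid

open Groth.Agent.Lib.helper12.ProjUP5 Groth.Agent.Lib.helper12.ProjUP1
open Groth.Agent.Lib.helper12.HypCover

/-- The coordinate ring of `P^N_ℤ` used here. -/
abbrev ZZ : Type u := ULift.{u} ℤ

variable {N : ℕ}

/-- The ideal generated by the coordinates in `I`. -/
noncomputable def coordIdeal (N : ℕ) (I : Finset (Fin (N + 1))) :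
    Ideal (MvPolynomial (Fin (N + 1)) ZZ.{u}) :=
  Ideal.span ((fun i => (MvPolynomial.X i : MvPolynomial (Fin (N + 1)) ZZ.{u})) ''
    (I : Set (Fin (N + 1))))

theorem X_mem_coordIdeal {I : Finset (Fin (N + 1))} {i : Fin (N + 1)} (hi : i ∈ I) :
    (MvPolynomial.X i : MvPolynomial (Fin (N + 1)) ZZ.{u}) ∈ coordIdeal N I :=
  Ideal.subset_span ⟨i, hi, rfl⟩

/-- Prime avoidance for finitely many primes of `ℤ[x]`, each missing one of the coordinates in `I`. -/
theorem exists_avoid (I : Finset (Fin (N + 1)))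
    (s : Finset (Ideal (MvPolynomial (Fin (N + 1)) ZZ.{u})))
    (hs : ∀ p ∈ s, p.IsPrime ∧ ∃ i ∈ I, (MvPolynomial.X i : MvPolynomial (Fin (N + 1)) ZZ.{u}) ∉ p) :
    ∃ (d : ℕ) (_ : 0 < d) (P : MvPolynomial (Fin (N + 1)) ZZ.{u}),
      P ∈ CohB1.polyGrading N ZZ.{u} d ∧ P ∈ coordIdeal N I ∧ ∀ p ∈ s, P ∉ p := by
  refine exists_homogeneous_mem_notMem (CohB1.polyGrading N ZZ.{u}) (coordIdeal N I) s.card s rfl ?_
  intro p hp
  obtain ⟨hprime, i, hi, hip⟩ := hs p hp
  exact ⟨hprime, 1, one_pos, MvPolynomial.X i, MvPolynomial.isHomogeneous_X ZZ.{u} i,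
    X_mem_coordIdeal hi, hip⟩

/-- A finite subset of `⋃_{i ∈ I} D₊(x_i)` lies in a single `D₊(P)`, `P ∈ (x_i : i ∈ I)`. -/
theorem avoid_finite (I : Finset (Fin (N + 1)))
    (S : Set (Proj (CohB1.polyGrading N ZZ.{u}))) (hS : S.Finite)
    (h : ∀ x ∈ S, ∃ i ∈ I, x ∈ Dp ZZ.{u} N i) :
    ∃ (d : ℕ) (_ : 0 < d) (P : MvPolynomial (Fin (N + 1)) ZZ.{u}),
      P ∈ CohB1.polyGrading N ZZ.{u} d ∧ P ∈ coordIdeal N I ∧
        ∀ x ∈ S, x ∈ Proj.basicOpen (CohB1.polyGrading N ZZ.{u}) P := by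
  classical
  obtain ⟨d, hd, P, hP, hPI, hPs⟩ := exists_avoid I
    (hS.toFinset.image fun x : Proj (CohB1.polyGrading N ZZ.{u}) => x.asHomogeneousIdeal.toIdeal) (by
      intro p hp
      obtain ⟨x, hx, rfl⟩ := Finset.mem_image.mp hp
      obtain ⟨i, hi, hxi⟩ := h x (hS.mem_toFinset.mp hx)
      exact ⟨x.isPrime, i, hi,
        (ProjectiveSpectrum.mem_basicOpen (CohB1.polyGrading N ZZ.{u}) _ x).mp hxi⟩)
  refine ⟨d, hd, P, hP, hPI, fun x hx => ?_⟩
  exact (ProjectiveSpectrum.mem_basicOpen (CohB1.polyGrading N ZZ.{u}) _ x).mpr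
    (hPs _ (Finset.mem_image.mpr ⟨x, hS.mem_toFinset.mpr hx, rfl⟩))

section integral

/-- A localization `A[1/e]` of an integral algebra over a field is integral. -/
theorem isIntegral_localizationAway {k A : Type*} [Field k] [CommRing A] [Algebra k A]
    [Algebra.IsIntegral k A] (e : A) : Algebra.IsIntegral k (Localization.Away e) := by
  constructor
  intro x
  obtain ⟨a, s, rfl⟩ := IsLocalization.exists_mk'_eq (Submonoid.powers e) x
  rw [IsLocalization.mk'_eq_mul_mk'_one]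
  apply IsIntegral.mul
  · exact IsIntegral.map (IsScalarTower.toAlgHom k A (Localization.Away e))
      (Algebra.IsIntegral.isIntegral a)
  · have hu : IsUnit (algebraMap A (Localization.Away e) (s : A)) :=
      IsLocalization.map_units _ s
    let _ : Invertible (algebraMap A (Localization.Away e) (s : A)) := hu.invertible
    have h1 : IsLocalization.mk' (Localization.Away e) (1 : A) s =
        ⅟(algebraMap A (Localization.Away e) (s : A)) := by
      symm
      apply invOf_eq_right_inv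
      rw [IsLocalization.mul_mk'_eq_mk'_of_mul, mul_one, IsLocalization.mk'_self]
    rw [h1, ← isAlgebraic_iff_isIntegral, IsAlgebraic.invOf_iff, isAlgebraic_iff_isIntegral]
    exact IsIntegral.map (IsScalarTower.toAlgHom k A (Localization.Away e))
      (Algebra.IsIntegral.isIntegral (s : A))

set_option maxHeartbeats 800000 in
/-- The finitely many "types" of points of a basic open `D(e) ⊆ Spec A` mapping into `D₊(x_i)`. -/
theorem exists_primes_of_chart (k : Type u) {A : Type u} [Field k] [CommRing A] [Algebra k A]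
    [Algebra.IsIntegral k A]
    (h : Spec (CommRingCat.of A) ⟶ Proj (CohB1.polyGrading N ZZ.{u}))
    (e : A) (i : Fin (N + 1))
    (he : ∀ a : PrimeSpectrum A, e ∉ a.asIdeal →
      h.base a ∈ Proj.basicOpen (CohB1.polyGrading N ZZ.{u}) (MvPolynomial.X i)) :
    ∃ s : Finset (Ideal (MvPolynomial (Fin (N + 1)) ZZ.{u})),
      (∀ p ∈ s, p.IsPrime ∧ (MvPolynomial.X i : MvPolynomial (Fin (N + 1)) ZZ.{u}) ∉ p) ∧
      ∀ (d : ℕ) (_ : 0 < d) (P : MvPolynomial (Fin (N + 1)) ZZ.{u}),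
        P ∈ CohB1.polyGrading N ZZ.{u} d → (∀ p ∈ s, P ∉ p) →
        ∀ a : PrimeSpectrum A, e ∉ a.asIdeal →
          h.base a ∈ Proj.basicOpen (CohB1.polyGrading N ZZ.{u}) P := by
  classical
  let 𝒜 := CohB1.polyGrading N ZZ.{u}
  let Al := Localization.Away e
  have hint : Algebra.IsIntegral k Al := isIntegral_localizationAway e
  let j : Spec (CommRingCat.of Al) ⟶ Spec (CommRingCat.of A) :=
    Spec.map (CommRingCat.ofHom (algebraMap A Al))
  have hj : ∀ m : PrimeSpectrum Al, j.base m = PrimeSpectrum.comap (algebraMap A Al) m :=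
    fun m => rfl
  let g : Spec (CommRingCat.of Al) ⟶ Proj 𝒜 := j ≫ h
  have hgm : ∀ m : PrimeSpectrum Al, g.base m = h.base (j.base m) := fun m => rfl
  have hXi : (MvPolynomial.X i : MvPolynomial (Fin (N + 1)) ZZ.{u}) ∈ 𝒜 1 :=
    MvPolynomial.isHomogeneous_X ZZ.{u} i
  have hg : (⊤ : (Spec (CommRingCat.of Al)).Opens) ≤ g ⁻¹ᵁ Proj.basicOpen 𝒜 (MvPolynomial.X i) := by
    intro m _
    have hm : h.base (j.base m) ∈ Proj.basicOpen 𝒜 (MvPolynomial.X i) := by
      refine he _ ?_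
      intro hmem
      have : algebraMap A Al e ∈ (m : PrimeSpectrum Al).asIdeal := hmem
      exact (m : PrimeSpectrum Al).isPrime.ne_top
        (Ideal.eq_top_of_isUnit_mem _ this (IsLocalization.Away.algebraMap_isUnit e))
    exact hm
  have hgeq := Groth.Agent.Lib.helper12.ProjUP1.eq_chart_of_le g hXi one_pos hg
  let θ : CommRingCat.of (Away 𝒜 (MvPolynomial.X i)) ⟶ Γ(Spec (CommRingCat.of Al), ⊤) :=
    (Proj.basicOpenIsoAway 𝒜 (MvPolynomial.X i) hXi one_pos).hom ≫
      g.appLE (Proj.basicOpen 𝒜 (MvPolynomial.X i)) ⊤ hg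
  let ρc : CommRingCat.of (Away 𝒜 (MvPolynomial.X i)) ⟶ CommRingCat.of Al :=
    θ ≫ (Scheme.ΓSpecIso (CommRingCat.of Al)).hom
  have hgρ : g = Spec.map ρc ≫ Proj.awayι 𝒜 (MvPolynomial.X i) hXi one_pos := by
    rw [hgeq, ← SpecMap_ΓSpecIso_hom, ← Category.assoc, ← Spec.map_comp]
  let ρ : Away 𝒜 (MvPolynomial.X i) →+* Al := ρc.hom
  let φ : MvPolynomial (Fin (N + 1)) ZZ.{u} →+* Al := ρ.comp (dehom 𝒜 hXi)
  have hφ : ∀ (d : ℕ) (P : MvPolynomial (Fin (N + 1)) ZZ.{u}) (hP : P ∈ 𝒜 d),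
      φ P = ρ (Away.mk 𝒜 hXi d P (mem_smul_one 𝒜 hP)) := by
    intro d P hP
    change ρ (dehom 𝒜 hXi P) = _
    rw [dehom_apply_of_mem 𝒜 hXi hP]
  -- the finite `k`-subalgebra
  let B : Subalgebra k Al := Algebra.adjoin k (Set.range fun l : Fin (N + 1) => φ (MvPolynomial.X l))
  have hC : ∀ z : ZZ.{u}, φ (MvPolynomial.C z) = ((z.down : ℤ) : Al) := by
    intro z
    have h1 : ((φ.comp MvPolynomial.C).comp (ULift.ringEquiv.symm : ℤ ≃+* ZZ.{u}).toRingHom) z.down =
        Int.castRingHom Al z.down := RingHom.congr_fun (RingHom.ext_int _ _) _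
    exact h1
  have hφB : ∀ P, φ P ∈ B := by
    intro P
    induction P using MvPolynomial.induction_on with
    | C z => rw [hC]; exact intCast_mem B _
    | add p q hp hq => rw [map_add]; exact B.add_mem hp hq
    | mul_X p l hp =>
      rw [map_mul]
      exact B.mul_mem hp (Algebra.subset_adjoin ⟨l, rfl⟩)
  have hBft : Algebra.FiniteType k B := by
    have : B.FG := ⟨Finset.univ.image fun l : Fin (N + 1) => φ (MvPolynomial.X l), by
      rw [Finset.coe_image, Finset.coe_univ, Set.image_univ]⟩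
    exact (Subalgebra.fg_iff_finiteType B).mp this
  have hBint : Algebra.IsIntegral k B :=
    Algebra.IsIntegral.of_injective (B.val) Subtype.val_injective
  have hBfin : Module.Finite k B := Algebra.IsIntegral.finite
  have hBart : IsArtinianRing B := IsArtinianRing.of_finite k B
  have hBspec : Finite (PrimeSpectrum B) := inferInstance
  let φ' : MvPolynomial (Fin (N + 1)) ZZ.{u} →+* B := φ.codRestrict B hφB
  let F : PrimeSpectrum Al → Ideal (MvPolynomial (Fin (N + 1)) ZZ.{u}) :=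
    fun m => Ideal.comap φ m.asIdeal
  have hFfin : (Set.range F).Finite := by
    refine (Set.finite_range fun 𝔫 : PrimeSpectrum B => Ideal.comap φ' 𝔫.asIdeal).subset ?_
    rintro _ ⟨m, rfl⟩
    refine ⟨PrimeSpectrum.comap (algebraMap B Al) m, ?_⟩
    ext P
    rfl
  refine ⟨hFfin.toFinset, ?_, ?_⟩
  · intro p hp
    obtain ⟨m, rfl⟩ := hFfin.mem_toFinset.mp hp
    refine ⟨Ideal.comap_isPrime φ m.asIdeal, ?_⟩
    intro hmem
    have h1 : φ (MvPolynomial.X i) ∈ m.asIdeal := hmem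
    rw [hφ 1 _ hXi] at h1
    have h2 : Away.mk 𝒜 hXi 1 (MvPolynomial.X i) (mem_smul_one 𝒜 hXi) = 1 := by
      apply HomogeneousLocalization.val_injective
      rw [Away.val_mk, HomogeneousLocalization.val_one]
      have h3 : (⟨MvPolynomial.X i ^ 1, 1, rfl⟩ : Submonoid.powers
          (MvPolynomial.X i : MvPolynomial (Fin (N + 1)) ZZ.{u})) =
          ⟨MvPolynomial.X i, Submonoid.mem_powers _⟩ := Subtype.ext (pow_one _)
      rw [h3]
      exact Localization.mk_self_mk _ _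
    rw [h2, map_one] at h1
    exact m.isPrime.ne_top ((Ideal.eq_top_iff_one _).mpr h1)
  · intro d hd P hP hPs a ha
    have hrange := PrimeSpectrum.localization_away_comap_range Al e
    have ha' : a ∈ Set.range (PrimeSpectrum.comap (algebraMap A Al)) := by
      rw [hrange]; exact ha
    obtain ⟨m, rfl⟩ := ha'
    have hPm : φ P ∉ m.asIdeal := fun hmem => hPs (F m) (hFfin.mem_toFinset.mpr ⟨m, rfl⟩) hmem
    have h1 : h.base (PrimeSpectrum.comap (algebraMap A Al) m) = g.base m := rfl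
    rw [h1, hgρ]
    change (Proj.awayι 𝒜 (MvPolynomial.X i) hXi one_pos).base ((Spec.map ρc).base m) ∈ _
    have h2 : (Spec.map ρc).base m ∈
        (Proj.awayι 𝒜 (MvPolynomial.X i) hXi one_pos) ⁻¹ᵁ Proj.basicOpen 𝒜 P := by
      rw [Proj.awayι_preimage_basicOpen 𝒜 hXi one_pos hP hd]
      change Away.isLocalizationElem hXi hP ∉ (PrimeSpectrum.comap ρ m).asIdeal
      intro hmem
      apply hPm
      rw [hφ d P hP]
      have h3 : Away.mk 𝒜 hXi d P (mem_smul_one 𝒜 hP) = Away.isLocalizationElem hXi hP := by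
        apply HomogeneousLocalization.val_injective
        rw [Away.val_mk, Away.val_mk]
        congr 1
        exact (pow_one P).symm
      rw [h3]
      exact hmem
    exact h2

/-- The image of `Spec A ⟶ P^N_ℤ`, `A` integral over a field, inside `⋃_{i ∈ I} D₊(x_i)`, lies in a
single `D₊(P)` with `P ∈ (x_i : i ∈ I)` homogeneous of positive degree. -/
theorem avoid_of_isIntegral (k : Type u) {A : Type u} [Field k] [CommRing A] [Algebra k A]
    [Algebra.IsIntegral k A]
    (h : Spec (CommRingCat.of A) ⟶ Proj (CohB1.polyGrading N ZZ.{u})) (I : Finset (Fin (N + 1)))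
    (hI : ∀ a : PrimeSpectrum A, ∃ i ∈ I,
      h.base a ∈ Proj.basicOpen (CohB1.polyGrading N ZZ.{u}) (MvPolynomial.X i)) :
    ∃ (d : ℕ) (_ : 0 < d) (P : MvPolynomial (Fin (N + 1)) ZZ.{u}),
      P ∈ CohB1.polyGrading N ZZ.{u} d ∧ P ∈ coordIdeal N I ∧
        ∀ a : PrimeSpectrum A, h.base a ∈ Proj.basicOpen (CohB1.polyGrading N ZZ.{u}) P := by
  classical
  have hloc : ∀ a : PrimeSpectrum A, ∃ (i : Fin (N + 1)) (e : A), i ∈ I ∧ e ∉ a.asIdeal ∧
      ∀ a' : PrimeSpectrum A, e ∉ a'.asIdeal →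
        h.base a' ∈ Proj.basicOpen (CohB1.polyGrading N ZZ.{u}) (MvPolynomial.X i) := by
    intro a
    obtain ⟨i, hi, hai⟩ := hI a
    let U : Opens (PrimeSpectrum A) :=
      h ⁻¹ᵁ Proj.basicOpen (CohB1.polyGrading N ZZ.{u}) (MvPolynomial.X i)
    have haU : a ∈ U := hai
    obtain ⟨_, ⟨_, ⟨e, rfl⟩, rfl⟩, hae, heU⟩ :=
      PrimeSpectrum.isBasis_basic_opens.exists_subset_of_mem_open haU U.isOpen
    exact ⟨i, e, hi, hae, fun a' ha' => heU ha'⟩
  choose i e hiI hea hchart using hloc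
  let Uf : PrimeSpectrum A → Set (PrimeSpectrum A) :=
    fun a => ((PrimeSpectrum.basicOpen (e a) : Opens (PrimeSpectrum A)) : Set _)
  have hcover : (Set.univ : Set (PrimeSpectrum A)) ⊆ ⋃ a, Uf a :=
    fun a _ => Set.mem_iUnion_of_mem (s := Uf) a (hea a)
  obtain ⟨t, ht⟩ := isCompact_univ.elim_finite_subcover Uf
    (fun a => (PrimeSpectrum.basicOpen (e a)).isOpen) hcover
  choose s hs1 hs2 using fun a : PrimeSpectrum A => exists_primes_of_chart k h (e a) (i a) (hchart a)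
  obtain ⟨d, hd, P, hP, hPI, hPs⟩ := exists_avoid I (t.biUnion s) (by
    intro p hp
    obtain ⟨a, -, hpa⟩ := Finset.mem_biUnion.mp hp
    exact ⟨(hs1 a p hpa).1, i a, hiI a, (hs1 a p hpa).2⟩)
  refine ⟨d, hd, P, hP, hPI, fun a' => ?_⟩
  have h1 := ht (Set.mem_univ a')
  obtain ⟨a, ha⟩ := Set.mem_iUnion.mp h1
  obtain ⟨hat, ha'⟩ := Set.mem_iUnion.mp ha
  exact hs2 a d hd P hP (fun p hp => hPs p (Finset.mem_biUnion.mpr ⟨a, hat, hp⟩)) a' ha'

end integral

end Groth.Agent.Lib.Helper12.AmpleAvoid
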