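import Groth.Agent.Lib.Helper28.GTwistInv
import Groth.Agent.Lib.Helper28.GTildeSec
import Groth.Agent.Lib.Helper11.IsoLocus

set_option autoImplicit false
set_option linter.style.haveILetI false
universe u

open CategoryTheory CategoryTheory.Limits AlgebraicGeometry Opposite TopologicalSpace
open Scheme.Modules Groth.Agent.Lib.helper7

namespace Groth.Agent.Lib.helper12.GTwistSecHom

open Groth.Agent.Lib.helper28.GTwistFree Groth.Agent.Lib.helper11.IsoLocus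

noncomputable section

variable {A σ : Type u} [CommRing A] [SetLike σ A] [AddSubgroupClass σ A] (𝒜 : ℕ → σ)
  [GradedRing 𝒜]

theorem one_notMem (x : ProjectiveSpectrum 𝒜) : (1 : A) ∉ x.asHomogeneousIdeal := fun h =>
  x.isPrime.ne_top ((Ideal.eq_top_iff_one _).mpr h)

/-- The morphism `O ⟶ O(d)` given by the global section `f / 1`, `f` homogeneous of degree `d`. -/
def secHom {d : ℕ} (f : 𝒜 d) : Coh.structureModule (Proj 𝒜) ⟶ GrTwist.twist 𝒜 (d : ℤ) :=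
  (SheafOfModules.unitHomEquiv (R := (Proj 𝒜).ringCatSheaf) (GrTwist.twist 𝒜 (d : ℤ))).symm
    (LocalLift.secOfTop (GrTwist.twist 𝒜 (d : ℤ)) (GrTwist.globalOf 𝒜 f))

/-- `f / 1` as a section of `O(d)` over any open. -/
def globalOfOn {d : ℕ} (f : 𝒜 d) (W : Opens (ProjectiveSpectrum.top 𝒜)) :
    GrTwist.sectN (𝒜 := 𝒜) (d : ℤ) (op W) :=
  fracSectN 𝒜 (d : ℤ) W f (⟨1, SetLike.GradedOne.one_mem⟩ : 𝒜 0)
    (fun x => one_notMem 𝒜 x.1) (by simp)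

theorem secHom_app {d : ℕ} (f : 𝒜 d) (W : (Proj 𝒜).Opens) (a : Γ(Proj 𝒜, W)) :
    ((secHom 𝒜 f).app W).hom (show Γ(Coh.structureModule (Proj 𝒜), W) from a) =
      (a • (show Γ(GrTwist.twist 𝒜 (d : ℤ), W) from globalOfOn 𝒜 f W) :
        Γ(GrTwist.twist 𝒜 (d : ℤ), W)) := rfl

/-- `s` restricted to `D₊(f)` is an isomorphism. -/
theorem basicOpen_le_genLocus {d : ℕ} (hd : 0 < d) (f : 𝒜 d) :
    Proj.basicOpen 𝒜 (f : A) ≤ CohB1.genLocus (GrTwist.twist 𝒜 (d : ℤ)) (secHom 𝒜 f) := by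
  rw [le_genLocus_iff]
  let U : (Proj 𝒜).Opens := Proj.basicOpen 𝒜 (f : A)
  have hU : IsAffineOpen U := Proj.isAffineOpen_basicOpen 𝒜 _ f.2 hd
  haveI : IsAffine (↑U : Scheme.{u}) := hU
  have hW : U.ι ''ᵁ ⊤ = ProjectiveSpectrum.basicOpen 𝒜 (f : A) := Scheme.Opens.ι_image_top _
  have hmem : ∀ x : (U.ι ''ᵁ ⊤ : (Proj 𝒜).Opens), (f : A) ∉ x.1.asHomogeneousIdeal :=
    fun x => (ProjectiveSpectrum.mem_basicOpen 𝒜 _ x.1).mp (hW ▸ x.2)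
  haveI h1 : ((Coh.structureModule (Proj 𝒜)).restrict U.ι).IsQuasicoherent := inferInstance
  haveI h2 : ((GrTwist.twist 𝒜 (d : ℤ)).restrict U.ι).IsQuasicoherent := inferInstance
  refine KerSections.isIso_of_bijective_top (X := (↑U : Scheme.{u}))
    (A := (Coh.structureModule (Proj 𝒜)).restrict U.ι)
    (B := (GrTwist.twist 𝒜 (d : ℤ)).restrict U.ι) ((restrictFunctor U.ι).map (secHom 𝒜 f)) ?_
  exact bijective_smul_fracSectN 𝒜 (d : ℤ) hd f.2 (U.ι ''ᵁ ⊤) hW f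
      (⟨1, SetLike.GradedOne.one_mem⟩ : 𝒜 0) hmem (fun x => one_notMem 𝒜 x.1) (by simp)

/-- If `x ∈ X_s` for `s = f / 1` and a unit fraction of degree `d` exists at `x`, then `f ∉ x`. -/
theorem notMem_of_mem_genLocus {d : ℕ} (f : 𝒜 d) (x : ProjectiveSpectrum 𝒜)
    (hx : (show ↥(Proj 𝒜) from x) ∈ CohB1.genLocus (GrTwist.twist 𝒜 (d : ℤ)) (secHom 𝒜 f))
    {i j : ℕ} (a : 𝒜 i) (b : 𝒜 j) (ha : a.1 ∉ x.asHomogeneousIdeal)
    (hb : b.1 ∉ x.asHomogeneousIdeal) (hij : (i : ℤ) = j + d) :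
    (f : A) ∉ x.asHomogeneousIdeal := by
  let G : Opens (ProjectiveSpectrum.top 𝒜) :=
    CohB1.genLocus (GrTwist.twist 𝒜 (d : ℤ)) (secHom 𝒜 f) ⊓ ProjectiveSpectrum.basicOpen 𝒜 (a.1 * b.1)
  have hxG : x ∈ G := ⟨hx, (ProjectiveSpectrum.mem_basicOpen 𝒜 _ x).mpr fun hmem =>
    (x.isPrime.mem_or_mem hmem).elim ha hb⟩
  obtain ⟨k, h, hh, hhx, hhG⟩ :=
    Groth.Agent.Lib.helper28.GTildeSec.exists_homogeneous_basicOpen 𝒜 G x hxG
  let W : (Proj 𝒜).Opens := ProjectiveSpectrum.basicOpen 𝒜 h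
  have hWG : W ≤ G := fun z hz => hhG z ((ProjectiveSpectrum.mem_basicOpen 𝒜 h z).mp hz)
  have hxW : x ∈ W := (ProjectiveSpectrum.mem_basicOpen 𝒜 h x).mpr hhx
  have hbW : ∀ z : W, b.1 ∉ z.1.asHomogeneousIdeal := fun z hmem =>
    (ProjectiveSpectrum.mem_basicOpen 𝒜 _ z.1).mp (hWG z.2).2 (Ideal.mul_mem_left _ _ hmem)
  have hiso : IsIso ((secHom 𝒜 f).app W) :=
    isIso_app_of_le_isoLocus (secHom 𝒜 f) (fun z hz => (hWG hz).1)
  have hsurj := (ConcreteCategory.bijective_of_isIso ((secHom 𝒜 f).app W)).2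
  obtain ⟨c, hc⟩ := hsurj (show Γ(GrTwist.twist 𝒜 (d : ℤ), W) from fracSectN 𝒜 (d : ℤ) W a b hbW hij)
  have hc' : ((show Γ(Proj 𝒜, W) from c) • (show Γ(GrTwist.twist 𝒜 (d : ℤ), W) from globalOfOn 𝒜 f W) :
      Γ(GrTwist.twist 𝒜 (d : ℤ), W)) = fracSectN 𝒜 (d : ℤ) W a b hbW hij := hc
  have hval := congrArg (fun s : GrTwist.sectN (𝒜 := 𝒜) (d : ℤ) (op W) =>
    ((s.1 ⟨x, hxW⟩ : GrTwist.twistAt 𝒜 (d : ℤ) x) : GrTwist.Loc 𝒜 x)) hc'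
  simp only at hval
  have hval' : ((show GrTwist.O (𝒜 := 𝒜) (op W) from c).1 ⟨x, hxW⟩).val *
      (Localization.mk f.1 ⟨1, one_notMem 𝒜 x⟩ : GrTwist.Loc 𝒜 x) =
      Localization.mk a.1 ⟨b.1, hb⟩ := hval
  have hunit : IsUnit (Localization.mk a.1 ⟨b.1, hb⟩ : GrTwist.Loc 𝒜 x) := by
    rw [Localization.mk_eq_mk', IsLocalization.AtPrime.isUnit_mk'_iff]
    exact ha
  rw [← hval'] at hunit
  have hunit2 : IsUnit (Localization.mk f.1 ⟨1, one_notMem 𝒜 x⟩ : GrTwist.Loc 𝒜 x) :=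
    isUnit_of_mul_isUnit_right hunit
  rw [Localization.mk_eq_mk', IsLocalization.AtPrime.isUnit_mk'_iff] at hunit2
  exact hunit2

theorem genLocus_secHom {d : ℕ} (hd : 0 < d) (f : 𝒜 d)
    (hcov : ∀ x : ProjectiveSpectrum 𝒜, ∃ g ∈ 𝒜 d, g ∉ x.asHomogeneousIdeal) :
    CohB1.genLocus (GrTwist.twist 𝒜 (d : ℤ)) (secHom 𝒜 f) = Proj.basicOpen 𝒜 (f : A) := by
  refine le_antisymm ?_ (basicOpen_le_genLocus 𝒜 hd f)
  intro x hx
  obtain ⟨g, hg, hgx⟩ := hcov x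
  exact (ProjectiveSpectrum.mem_basicOpen 𝒜 _ x).mpr
    (notMem_of_mem_genLocus 𝒜 f x hx ⟨g, hg⟩ (⟨1, SetLike.GradedOne.one_mem⟩ : 𝒜 0) hgx
      (one_notMem 𝒜 x) (by simp))

/-- `Proj` is quasi-compact when finitely many `D₊(f)`, `f` homogeneous of positive degree,
cover it. -/
theorem compactSpace_of_finset (s : Finset A) (hs : ∀ f ∈ s, ∃ d : ℕ, 0 < d ∧ f ∈ 𝒜 d)
    (hcov : ∀ x : ProjectiveSpectrum 𝒜, ∃ f ∈ s, f ∉ x.asHomogeneousIdeal) :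
    CompactSpace (Proj 𝒜) := by
  rw [← isCompact_univ_iff]
  have h1 : (Set.univ : Set ↥(Proj 𝒜)) = ⋃ f ∈ s, ((Proj.basicOpen 𝒜 f : (Proj 𝒜).Opens) : Set _) := by
    ext x
    simp only [Set.mem_univ, Set.mem_iUnion, true_iff]
    obtain ⟨f, hf, hfx⟩ := hcov x
    exact ⟨f, hf, (ProjectiveSpectrum.mem_basicOpen 𝒜 f x).mpr hfx⟩
  rw [h1]
  refine s.finite_toSet.isCompact_biUnion fun f hf => ?_
  obtain ⟨d, hd, hfd⟩ := hs f hf
  exact (Proj.isAffineOpen_basicOpen 𝒜 f hfd hd).isCompact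

end

end Groth.Agent.Lib.helper12.GTwistSecHom
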