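import Mathlib
import Groth.Agent.Lib.Helper12.VAmple1
import Groth.Agent.Lib.Helper12.PullAmple
import Groth.Agent.Lib.Helper12.AmplePow
import Groth.Agent.Lib.Helper12.AmpleBasis2
import Groth.Agent.Lib.Helper12.GTwistSecHom
import Groth.Agent.Lib.Helper28.TwistPn
import Groth.Agent.Lib.Helper12.AmpleAvoid1

/-!
# Sections of powers of an ample module through "avoidable" subsets (helper12)

`exists_affine_genLocus`: for `L` ample, an open `W` and `x ∈ W` there is a section `s` of a positive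
power of `L` with `x ∈ X_s ⊆ W` and `X_s` affine.

`exists_section_of_avoidable`: if `T ⊆ W` is quasi-compact and, for every morphism `r` to a projective space
over `ℤ`, the image `r(T)` can be put into a single `D₊(P)` inside a given union of coordinate charts, then there
is a single section `s` of a positive power of `L` with `T ⊆ X_s ⊆ W` and `X_s` affine.
-/

set_option autoImplicit false
universe u

open CategoryTheory CategoryTheory.Limits AlgebraicGeometry Opposite TopologicalSpace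

namespace Groth.Agent.Lib.Helper12.AmpleAvoid

open Groth.Agent.Lib.helper12.AmpleBasis2 Groth.Agent.Lib.helper12.AmpleBasis
open Groth.Agent.Lib.helper12.AmplePow Groth.Agent.Lib.helper12.TensorPowAdd
open Groth.Agent.Lib.helper12.TensorInv Groth.Agent.Lib.helper11.IsoLocus
open Groth.Agent.Lib.helper11.GenLocus Groth.Agent.Lib.helper11.InvMod

variable {X : Scheme.{u}}

/-- For `L` ample, every point of an open `W` lies in an affine `X_s ⊆ W`. -/
theorem exists_affine_genLocus {L : X.Modules} (hL : CohB1.IsAmple L) (W : X.Opens) (x : X)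
    (hx : x ∈ W) :
    ∃ (n : ℕ) (s : Coh.structureModule X ⟶ CohB1.tensorPow L (n + 1)),
      x ∈ CohB1.genLocus _ s ∧ CohB1.genLocus _ s ≤ W ∧ IsAffineOpen (CohB1.genLocus _ s) := by
  obtain ⟨hinv, hc, hcov⟩ := hL
  have := hc
  have : QuasiSeparatedSpace X := quasiSeparatedSpace_of_hasAffineCover hinv hcov
  obtain ⟨n, s, hxs, haff⟩ := hcov x
  obtain ⟨g, hgW, hxg⟩ := haff.exists_basicOpen_le ⟨x, hx⟩ hxs
  obtain ⟨m, w, hw⟩ := exists_genLocus_eq_basicOpen (isInvertible_tensorPow hinv (n + 1)) s g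
  have hmem : X.basicOpen g ∈ genLocusFamily L := by
    apply genLocusFamily_tensorPow_subset L (n + 1) (Nat.succ_pos n)
    exact ⟨m, w, hw.symm⟩
  obtain ⟨n', s', hs'⟩ := hmem
  refine ⟨n', s', ?_, ?_, ?_⟩
  · rw [← hs']; exact hxg
  · rw [← hs']; exact hgW
  · rw [← hs']; exact haff.basicOpen g

/-- Preimages of affine opens inside an open `V` over which `f` is "locally affine" are affine. -/
theorem isAffineOpen_preimage_of_cover {X Y : Scheme.{u}} (f : X ⟶ Y) (V : Y.Opens)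
    (hcov : ∀ y ∈ V, ∃ U : Y.Opens, y ∈ U ∧ U ≤ V ∧ IsAffineOpen U ∧ IsAffineOpen (f ⁻¹ᵁ U))
    (D : Y.Opens) (hD : IsAffineOpen D) (hDV : D ≤ V) : IsAffineOpen (f ⁻¹ᵁ D) := by
  have himg : ∀ A : Y.Opens, A ≤ V → V.ι ''ᵁ (V.ι ⁻¹ᵁ A) = A := fun A hA => by
    rw [Scheme.Hom.image_preimage_eq_opensRange_inf, Scheme.Opens.opensRange_ι]
    exact inf_eq_right.mpr hA
  have hpre : ∀ A : Y.Opens, A ≤ V → IsAffineOpen A → IsAffineOpen (V.ι ⁻¹ᵁ A) := fun A hA hAaff =>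
    hAaff.preimage_of_isOpenImmersion V.ι (by rw [Scheme.Opens.opensRange_ι]; exact hA)
  have haffhom : IsAffineHom (f ∣_ V) := by
    refine isAffineHom_of_forall_exists_isAffineOpen (f := f ∣_ V) fun y => ?_
    obtain ⟨U, hyU, hUV, hU, hfU⟩ := hcov (V.ι y) y.2
    refine ⟨V.ι ⁻¹ᵁ U, hyU, hpre U hUV hU, ?_⟩
    rw [← (f ⁻¹ᵁ V).ι.isAffineOpen_iff_of_isOpenImmersion, image_morphismRestrict_preimage,
      himg U hUV]
    exact hfU
  have h1 : IsAffineOpen ((f ∣_ V) ⁻¹ᵁ (V.ι ⁻¹ᵁ D)) := (hpre D hDV hD).preimage (f ∣_ V)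
  rw [← (f ⁻¹ᵁ V).ι.isAffineOpen_iff_of_isOpenImmersion, image_morphismRestrict_preimage,
    himg D hDV] at h1
  exact h1

section core

open Groth.Agent.Lib.helper12.ProjUP1 Groth.Agent.Lib.helper12.ProjUP3
open Groth.Agent.Lib.helper12.ProjUP4 Groth.Agent.Lib.helper12.ProjUP5
open Groth.Agent.Lib.helper12.ProjUP6 Groth.Agent.Lib.helper12.VAmple1
open Groth.Agent.Lib.helper12.PullAmple Groth.Agent.Lib.helper12.GTwistSecHom

theorem hcov_deg (N : ℕ) (d : ℕ) (x : ProjectiveSpectrum (CohB1.polyGrading N ZZ.{u})) :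
    ∃ g ∈ CohB1.polyGrading N ZZ.{u} d, g ∉ x.asHomogeneousIdeal := by
  obtain ⟨i, hi⟩ := Groth.Agent.Lib.helper28.TwistPn.exists_X_notMem N ZZ.{u} x
  refine ⟨(MvPolynomial.X i) ^ d, ?_, fun h => hi (x.isPrime.mem_of_pow_mem _ h)⟩
  exact (MvPolynomial.mem_homogeneousSubmodule _ _).mpr
    (by simpa using (MvPolynomial.isHomogeneous_X ZZ.{u} i).pow d)

theorem exists_section_of_sections {M : X.Modules} {N : ℕ}
    (σ : Fin (N + 1) → (Coh.structureModule X ⟶ M))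
    (hcov : ⨆ i, CohB1.genLocus M (σ i) = ⊤)
    (I : Finset (Fin (N + 1))) (W : X.Opens)
    (hI : ∀ i ∈ I, IsAffineOpen (CohB1.genLocus M (σ i)) ∧ CohB1.genLocus M (σ i) ≤ W)
    (T : Set X) (hT : ∀ t ∈ T, ∃ i ∈ I, t ∈ CohB1.genLocus M (σ i))
    (hav : ∀ (r : X ⟶ Proj (CohB1.polyGrading N ZZ.{u})),
      (∀ t ∈ T, ∃ i ∈ I, r.base t ∈ Dp ZZ.{u} N i) →
      ∃ (d : ℕ) (_ : 0 < d) (P : MvPolynomial (Fin (N + 1)) ZZ.{u}),
        P ∈ CohB1.polyGrading N ZZ.{u} d ∧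
        P ∈ coordIdeal N I ∧
        ∀ t ∈ T, r.base t ∈ Proj.basicOpen (CohB1.polyGrading N ZZ.{u}) P) :
    ∃ (d : ℕ) (_ : 0 < d) (s : Coh.structureModule X ⟶ CohB1.tensorPow M d),
      IsAffineOpen (CohB1.genLocus _ s) ∧ CohB1.genLocus _ s ≤ W ∧
        T ⊆ (CohB1.genLocus _ s : Set X) := by
  let q : X ⟶ Spec (CommRingCat.of ZZ.{u}) := specULiftZIsTerminal.from X
  obtain ⟨r, hr⟩ := exists_toProj q σ hcov
  obtain ⟨τ, hτ⟩ := exists_iso_nu q σ r hr hcov
  have hpre : ∀ i, r ⁻¹ᵁ Dp ZZ.{u} N i = CohB1.genLocus M (σ i) := preimage_Dp_eq r σ τ hτ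
  obtain ⟨d, hd, P, hP, hPI, hPT⟩ := hav r (fun t ht => by
    obtain ⟨i, hiI, hti⟩ := hT t ht
    refine ⟨i, hiI, ?_⟩
    have : t ∈ r ⁻¹ᵁ Dp ZZ.{u} N i := by rw [hpre i]; exact hti
    exact this)
  have hO1 : PicF.IsInvertible (Twist.twist (CohB1.polyGrading N ZZ.{u}) ((1 : ℕ) : ℤ)) :=
    isInvertible_twist_one
  let pw : GrTwist.twist (CohB1.polyGrading N ZZ.{u}) (d : ℤ) ≅
      CohB1.tensorPow (Twist.twist (CohB1.polyGrading N ZZ.{u}) ((1 : ℕ) : ℤ)) d :=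
    Groth.Agent.Lib.helper28.TwistAll.twistPowIso (CohB1.polyGrading N ZZ.{u})
      (Groth.Agent.Lib.helper28.TwistPn.hcov N ZZ.{u}) d
  let sP : Coh.structureModule (Proj (CohB1.polyGrading N ZZ.{u})) ⟶
      CohB1.tensorPow (Twist.twist (CohB1.polyGrading N ZZ.{u}) ((1 : ℕ) : ℤ)) d :=
    secHom (CohB1.polyGrading N ZZ.{u}) (⟨P, hP⟩ : CohB1.polyGrading N ZZ.{u} d) ≫ pw.hom
  have hsP : CohB1.genLocus _ sP = Proj.basicOpen (CohB1.polyGrading N ZZ.{u}) P := by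
    change CohB1.genLocus _ (_ ≫ _) = _
    rw [genLocus_comp_iso]
    exact genLocus_secHom (CohB1.polyGrading N ZZ.{u}) hd ⟨P, hP⟩ (hcov_deg N d)
  let s : Coh.structureModule X ⟶ CohB1.tensorPow M d :=
    pullSec r hO1 d sP ≫ (tensorPowIso τ d).hom
  have hs : CohB1.genLocus _ s = r ⁻¹ᵁ Proj.basicOpen (CohB1.polyGrading N ZZ.{u}) P := by
    change CohB1.genLocus _ (_ ≫ _) = _
    rw [genLocus_comp_iso, genLocus_pullSec, hsP]
  -- the union of the good charts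
  let V : (Proj (CohB1.polyGrading N ZZ.{u})).Opens := ⨆ i : I, Dp ZZ.{u} N i.1
  have hDV : Proj.basicOpen (CohB1.polyGrading N ZZ.{u}) P ≤ V := by
    intro x hx
    by_contra hxV
    have hall : ∀ i ∈ I, (MvPolynomial.X i : MvPolynomial (Fin (N + 1)) ZZ.{u}) ∈
        x.asHomogeneousIdeal.toIdeal := by
      intro i hi
      by_contra hni
      exact hxV (Opens.mem_iSup.mpr ⟨⟨i, hi⟩,
        (ProjectiveSpectrum.mem_basicOpen (CohB1.polyGrading N ZZ.{u}) _ x).mpr hni⟩)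
    have hle : coordIdeal N I ≤ x.asHomogeneousIdeal.toIdeal := by
      unfold coordIdeal
      rw [Ideal.span_le]
      rintro _ ⟨i, hi, rfl⟩
      exact hall i hi
    exact (ProjectiveSpectrum.mem_basicOpen (CohB1.polyGrading N ZZ.{u}) _ x).mp hx (hle hPI)
  refine ⟨d, hd, s, ?_, ?_, ?_⟩
  · rw [hs]
    refine isAffineOpen_preimage_of_cover r V ?_ _
      (Proj.isAffineOpen_basicOpen (CohB1.polyGrading N ZZ.{u}) P hP hd) hDV
    intro y hy
    obtain ⟨i, hyi⟩ := Opens.mem_iSup.mp hy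
    refine ⟨Dp ZZ.{u} N i.1, hyi, le_iSup (fun i : I => Dp ZZ.{u} N i.1) i,
      Proj.isAffineOpen_basicOpen (CohB1.polyGrading N ZZ.{u}) _
        (MvPolynomial.isHomogeneous_X ZZ.{u} i.1) one_pos, ?_⟩
    rw [hpre i.1]
    exact (hI i.1 i.2).1
  · rw [hs]
    intro x hx
    have hx' : r.base x ∈ V := hDV hx
    obtain ⟨i, hxi⟩ := Opens.mem_iSup.mp hx'
    have : x ∈ r ⁻¹ᵁ Dp ZZ.{u} N i.1 := hxi
    rw [hpre i.1] at this
    exact (hI i.1 i.2).2 this
  · intro t ht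
    rw [SetLike.mem_coe, hs]
    exact hPT t ht

/-- **Main theorem**: for `L` ample, `T ⊆ W` quasi-compact and "avoidable", there is a single affine
`X_s ⊆ W` containing `T`. -/
theorem exists_section_of_avoidable {L : X.Modules} (hL : CohB1.IsAmple L) (W : X.Opens)
    (T : Set X) (hTc : IsCompact T) (hTW : T ⊆ (W : Set X))
    (hav : ∀ (N : ℕ) (r : X ⟶ Proj (CohB1.polyGrading N ZZ.{u})) (I : Finset (Fin (N + 1))),
      (∀ t ∈ T, ∃ i ∈ I, r.base t ∈ Dp ZZ.{u} N i) →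
      ∃ (d : ℕ) (_ : 0 < d) (P : MvPolynomial (Fin (N + 1)) ZZ.{u}),
        P ∈ CohB1.polyGrading N ZZ.{u} d ∧
        P ∈ coordIdeal N I ∧
        ∀ t ∈ T, r.base t ∈ Proj.basicOpen (CohB1.polyGrading N ZZ.{u}) P) :
    ∃ (n : ℕ) (s : Coh.structureModule X ⟶ CohB1.tensorPow L (n + 1)),
      IsAffineOpen (CohB1.genLocus _ s) ∧ CohB1.genLocus _ s ≤ W ∧
        T ⊆ (CohB1.genLocus _ s : Set X) := by
  classical
  have hinv : PicF.IsInvertible L := hL.1
  have hc : CompactSpace X := hL.2.1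
  by_cases hne : Nonempty X
  swap
  · rw [not_nonempty_iff] at hne
    refine ⟨0, 0, ?_, fun x _ => (hne.false x).elim, fun x _ => (hne.false x).elim⟩
    have : CohB1.genLocus (CohB1.tensorPow L (0 + 1)) 0 = ⊥ := by
      rw [eq_bot_iff]
      intro x _
      exact (hne.false x).elim
    rw [this]
    exact isAffineOpen_bot X
  obtain ⟨x₀⟩ := hne
  -- sections through the points of `T`, inside `W`
  choose nT sT hT1 hT2 hT3 using fun t : T => exists_affine_genLocus hL W t.1 (hTW t.2)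
  choose nX sX hX1 hX2 hX3 using fun x : X => exists_affine_genLocus hL ⊤ x trivial
  obtain ⟨t₁, ht₁⟩ := hTc.elim_finite_subcover
    (fun t : T => ((CohB1.genLocus _ (sT t) : X.Opens) : Set X))
    (fun t => (CohB1.genLocus _ (sT t)).isOpen)
    (fun t ht => Set.mem_iUnion.mpr ⟨⟨t, ht⟩, hT1 ⟨t, ht⟩⟩)
  obtain ⟨t₂, ht₂⟩ := isCompact_univ.elim_finite_subcover
    (fun x : X => ((CohB1.genLocus _ (sX x) : X.Opens) : Set X))
    (fun x => (CohB1.genLocus _ (sX x)).isOpen)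
    (fun x _ => Set.mem_iUnion.mpr ⟨x, hX1 x⟩)
  -- the index type
  let ι : Type u := ↥t₁ ⊕ ↥(insert x₀ t₂)
  let deg : ι → ℕ := Sum.elim (fun a => nT a.1 + 1) (fun b => nX b.1 + 1)
  have hdeg : ∀ j, 0 < deg j := by
    rintro (a | b) <;> exact Nat.succ_pos _
  let sec : ∀ j : ι, Coh.structureModule X ⟶ CohB1.tensorPow L (deg j) := fun j =>
    match j with
    | Sum.inl a => sT a.1
    | Sum.inr b => sX b.1
  let m : ℕ := ∏ j, deg j
  have hm : 0 < m := Finset.prod_pos fun j _ => hdeg j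
  have hdvd : ∀ j, deg j * (m / deg j) = m := fun j =>
    Nat.mul_div_cancel' (Finset.dvd_prod_of_mem deg (Finset.mem_univ j))
  have hk : ∀ j, 0 < m / deg j := fun j =>
    Nat.div_pos (Nat.le_of_dvd hm (Finset.dvd_prod_of_mem deg (Finset.mem_univ j))) (hdeg j)
  let σ' : ι → (Coh.structureModule X ⟶ CohB1.tensorPow L m) := fun j =>
    castSec (hdvd j) (powSec (sec j) (m / deg j))
  have hσ' : ∀ j, CohB1.genLocus _ (σ' j) = CohB1.genLocus _ (sec j) := by
    intro j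
    obtain ⟨k, hk'⟩ := Nat.exists_eq_succ_of_ne_zero (hk j).ne'
    change CohB1.genLocus _ (castSec (hdvd j) (powSec (sec j) (m / deg j))) = _
    rw [genLocus_castSec]
    have : ∀ (k₀ : ℕ), k₀ = k + 1 →
        CohB1.genLocus _ (powSec (sec j) k₀) = CohB1.genLocus _ (sec j) := by
      rintro _ rfl
      exact genLocus_powSec hinv (sec j) k
    exact this _ hk'
  have hcard : 0 < Fintype.card ι := Fintype.card_pos_iff.mpr
    ⟨Sum.inr ⟨x₀, Finset.mem_insert_self _ _⟩⟩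
  obtain ⟨N, hN⟩ := Nat.exists_eq_succ_of_ne_zero hcard.ne'
  let e : ι ≃ Fin (N + 1) := (Fintype.equivFin ι).trans (finCongr hN)
  let σ : Fin (N + 1) → (Coh.structureModule X ⟶ CohB1.tensorPow L m) := fun i => σ' (e.symm i)
  let I : Finset (Fin (N + 1)) := Finset.univ.image fun a : ↥t₁ => e (Sum.inl a)
  have hcov : ⨆ i, CohB1.genLocus _ (σ i) = ⊤ := by
    rw [eq_top_iff]
    intro x _
    have hx := ht₂ (Set.mem_univ x)
    obtain ⟨y, hy⟩ := Set.mem_iUnion.mp hx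
    obtain ⟨hy2, hxy⟩ := Set.mem_iUnion.mp hy
    refine Opens.mem_iSup.mpr ⟨e (Sum.inr ⟨y, Finset.mem_insert_of_mem hy2⟩), ?_⟩
    change x ∈ CohB1.genLocus _ (σ' (e.symm (e _)))
    rw [Equiv.symm_apply_apply]
    exact (hσ' (Sum.inr ⟨y, Finset.mem_insert_of_mem hy2⟩)).ge hxy
  have hI : ∀ i ∈ I, IsAffineOpen (CohB1.genLocus _ (σ i)) ∧ CohB1.genLocus _ (σ i) ≤ W := by
    intro i hi
    obtain ⟨a, -, rfl⟩ := Finset.mem_image.mp hi
    change IsAffineOpen (CohB1.genLocus _ (σ' (e.symm (e _)))) ∧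
      CohB1.genLocus _ (σ' (e.symm (e _))) ≤ W
    rw [Equiv.symm_apply_apply]
    have h := hσ' (Sum.inl a)
    exact ⟨h.symm ▸ hT3 a.1, h.le.trans (hT2 a.1)⟩
  have hTI : ∀ t ∈ T, ∃ i ∈ I, t ∈ CohB1.genLocus _ (σ i) := by
    intro t ht
    have h1 := ht₁ ht
    obtain ⟨a, ha⟩ := Set.mem_iUnion.mp h1
    obtain ⟨ha2, hta⟩ := Set.mem_iUnion.mp ha
    refine ⟨e (Sum.inl ⟨a, ha2⟩), Finset.mem_image.mpr ⟨⟨a, ha2⟩, Finset.mem_univ _, rfl⟩, ?_⟩
    change t ∈ CohB1.genLocus _ (σ' (e.symm (e _)))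
    rw [Equiv.symm_apply_apply]
    exact (hσ' (Sum.inl ⟨a, ha2⟩)).ge hta
  obtain ⟨d, hd, s, hs1, hs2, hs3⟩ := exists_section_of_sections σ hcov I W hI T hTI (hav N · I)
  obtain ⟨n, hn⟩ := Nat.exists_eq_succ_of_ne_zero (Nat.mul_pos hm hd).ne'
  refine ⟨n, castSec hn (s ≫ (tensorPowMul L m d).hom), ?_, ?_, ?_⟩
  · rw [genLocus_castSec, genLocus_comp_iso]; exact hs1
  · rw [genLocus_castSec, genLocus_comp_iso]; exact hs2
  · rw [genLocus_castSec, genLocus_comp_iso]; exact hs3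

/-- **Finite sets**: for `L` ample, a finite subset `T` of an open `W` lies in an affine `X_s ⊆ W`. -/
theorem exists_section_of_finite {L : X.Modules} (hL : CohB1.IsAmple L) (W : X.Opens)
    (T : Set X) (hTf : T.Finite) (hTW : T ⊆ (W : Set X)) :
    ∃ (n : ℕ) (s : Coh.structureModule X ⟶ CohB1.tensorPow L (n + 1)),
      IsAffineOpen (CohB1.genLocus _ s) ∧ CohB1.genLocus _ s ≤ W ∧
        T ⊆ (CohB1.genLocus _ s : Set X) := by
  refine exists_section_of_avoidable hL W T hTf.isCompact hTW fun N r I hI => ?_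
  obtain ⟨d, hd, P, hP, hPI, hPS⟩ := avoid_finite I (r.base '' T) (hTf.image _) (by
    rintro _ ⟨t, ht, rfl⟩
    exact hI t ht)
  exact ⟨d, hd, P, hP, hPI, fun t ht => hPS _ ⟨t, ht, rfl⟩⟩

/-- **Integral points** (Stacks, Limits): for `L` ample and `g : Spec A ⟶ X` with `A` integral over a field,
with image in an open `W`, the image lies in an affine `X_s ⊆ W`. -/
theorem exists_section_of_isIntegral {L : X.Modules} (hL : CohB1.IsAmple L) (W : X.Opens)
    (k : Type u) {A : Type u} [Field k] [CommRing A] [Algebra k A] [Algebra.IsIntegral k A]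
    (g : Spec (CommRingCat.of A) ⟶ X) (hg : Set.range g.base ⊆ (W : Set X)) :
    ∃ (n : ℕ) (s : Coh.structureModule X ⟶ CohB1.tensorPow L (n + 1)),
      IsAffineOpen (CohB1.genLocus _ s) ∧ CohB1.genLocus _ s ≤ W ∧
        Set.range g.base ⊆ (CohB1.genLocus _ s : Set X) := by
  refine exists_section_of_avoidable hL W _ (isCompact_range g.base.hom.continuous) hg
    fun N r I hI => ?_
  obtain ⟨d, hd, P, hP, hPI, hPS⟩ := avoid_of_isIntegral k (g ≫ r) I (fun a => by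
    obtain ⟨i, hi, hai⟩ := hI (g.base a) ⟨a, rfl⟩
    exact ⟨i, hi, hai⟩)
  refine ⟨d, hd, P, hP, hPI, ?_⟩
  rintro _ ⟨a, rfl⟩
  exact hPS a

end core

end Groth.Agent.Lib.Helper12.AmpleAvoid
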