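import Mathlib
import Groth.Agent.Lib.Helper12.MonCalc
import Groth.Agent.Lib.Helper12.SecExtend
import Groth.Agent.Lib.Helper12.AmpleQAff

/-!
# Eventual ampleness of `L ⊗ N^{⊗ n}` (helper12; core of EGA II 4.6.13 (ii))

`isAmple_tensor_tensorPow_eventually`: on a qcqs scheme `X` with invertible modules `L`, `N` such that
every point lies in some `X_τ` (`τ` a section of a positive power of `N`) with `L|_{X_τ}` ample, the
module `L ⊗ N^{⊗ n}` is ample for all large `n`.
-/

set_option autoImplicit false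
universe u

open CategoryTheory AlgebraicGeometry Opposite TopologicalSpace MonoidalCategory

namespace Groth.Agent.Lib.helper12.AmpleEventually

open Groth.Agent.Lib.helper12.MonCalc Groth.Agent.Lib.helper12.SecExtend
open Groth.Agent.Lib.helper12.TensorInv Groth.Agent.Lib.helper12.AmplePow
open Groth.Agent.Lib.helper12.AmpleBasis Groth.Agent.Lib.helper12.AmpleBasis2
open Groth.Agent.Lib.helper12.AmpleQAff Groth.Agent.Lib.helper12.TensorSec
open Groth.Agent.Lib.helper11.InvMod Groth.Agent.Lib.helper11.GenLocus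
open Groth.Agent.Lib.helper11.IsoLocus
open Scheme.Modules

variable {X : Scheme.{u}}

theorem le_genLocus_powHom {M : X.Modules} (hM : PicF.IsInvertible M)
    (τ : Coh.structureModule X ⟶ M) (j : ℕ) :
    CohB1.genLocus M τ ≤ CohB1.genLocus _ (SecTwist.powHom τ j) := by
  rcases Nat.eq_zero_or_pos j with rfl | hj
  · have : CohB1.genLocus _ (SecTwist.powHom τ 0) = ⊤ := by
      rw [genLocus_eq_top_iff]
      change IsIso (𝟙 _)
      infer_instance
    rw [this]
    exact le_top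
  · rw [genLocus_powHom' hM τ j hj]

/-- Step A: extend a section giving an affine neighbourhood inside `X_τ` to a global section. -/
theorem exists_section_of_isAmple_restrict [CompactSpace X] [QuasiSeparatedSpace X]
    {L N : X.Modules} (hL : PicF.IsInvertible L) (hN : PicF.IsInvertible N) {a : ℕ}
    (τ : Coh.structureModule X ⟶ CohB1.tensorPow N (a + 1))
    (hA : CohB1.IsAmple (L.restrict (CohB1.genLocus _ τ).ι)) (x : X)
    (hx : x ∈ CohB1.genLocus _ τ) :
    ∃ (m k : ℕ) (w : Coh.structureModule X ⟶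
        CohB1.tensorMod (CohB1.tensorMod (CohB1.tensorPow L (m + 1))
          (CohB1.tensorPow (CohB1.tensorPow N (a + 1)) k)) (CohB1.tensorPow N (a + 1))),
      x ∈ CohB1.genLocus _ w ∧ IsAffineOpen (CohB1.genLocus _ w) ∧
        CohB1.genLocus _ w ≤ CohB1.genLocus _ τ := by
  set A := CohB1.genLocus _ τ with hAdef
  obtain ⟨m, s, hxs, haff⟩ := hA.2.2 ⟨x, hx⟩
  let t : Coh.structureModule (↑A : Scheme.{u}) ⟶ (CohB1.tensorPow L (m + 1)).restrict A.ι :=
    s ≫ (restrictTensorPowIso A.ι L (m + 1)).inv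
  have ht : CohB1.genLocus _ t = CohB1.genLocus _ s :=
    genLocus_comp_iso s (restrictTensorPowIso A.ι L (m + 1)).symm
  obtain ⟨k, w, hw⟩ := exists_extend_section (isInvertible_tensorPow hL (m + 1))
    (isInvertible_tensorPow hN (a + 1)) τ A rfl t
  refine ⟨m, k, w, ?_, ?_, ?_⟩
  · rw [hw, ht]; exact ⟨⟨x, hx⟩, hxs, rfl⟩
  · rw [hw, ht]; exact haff.image_of_isOpenImmersion _
  · rw [hw]; exact A.ι_image_le _

/-- Step C: from `w` and `τ`, a section of a positive power of `L ⊗ N^{⊗ n₁}` with the same locus. -/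
theorem exists_section_tensorPow {L N : X.Modules} (hL : PicF.IsInvertible L)
    (hN : PicF.IsInvertible N) {a m k : ℕ}
    (τ : Coh.structureModule X ⟶ CohB1.tensorPow N (a + 1))
    (w : Coh.structureModule X ⟶
        CohB1.tensorMod (CohB1.tensorMod (CohB1.tensorPow L (m + 1))
          (CohB1.tensorPow (CohB1.tensorPow N (a + 1)) k)) (CohB1.tensorPow N (a + 1)))
    (hwτ : CohB1.genLocus _ w ≤ CohB1.genLocus _ τ) (n₁ : ℕ) (hn₁ : (a + 1) * (k + 1) ≤ n₁) :
    ∃ (e : ℕ) (σ : Coh.structureModule X ⟶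
        CohB1.tensorPow (CohB1.tensorMod L (CohB1.tensorPow N n₁)) (e + 1)),
      CohB1.genLocus _ σ = CohB1.genLocus _ w := by
  let W := CohB1.tensorMod (CohB1.tensorMod (CohB1.tensorPow L (m + 1))
    (CohB1.tensorPow (CohB1.tensorPow N (a + 1)) k)) (CohB1.tensorPow N (a + 1))
  have hNa : PicF.IsInvertible (CohB1.tensorPow N (a + 1)) := isInvertible_tensorPow hN (a + 1)
  have hW : PicF.IsInvertible W :=
    isInvertible_tensorMod (isInvertible_tensorMod (isInvertible_tensorPow hL (m + 1))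
      (isInvertible_tensorPow hNa k)) hNa
  obtain ⟨d, hd⟩ : ∃ d, d + (a + 1) * (k + 1) = n₁ * (m + 1) :=
    ⟨n₁ * (m + 1) - (a + 1) * (k + 1), Nat.sub_add_cancel (le_trans hn₁ (Nat.le_mul_of_pos_right _ (Nat.succ_pos m)))⟩
  let w' : Coh.structureModule X ⟶ CohB1.tensorPow W (a + 1) := SecTwist.powHom w (a + 1)
  let τ' := SecTwist.powHom τ d
  have hw' : CohB1.genLocus _ w' = CohB1.genLocus _ w := genLocus_powHom' hW w (a + 1) (Nat.succ_pos a)
  have hτ' : CohB1.genLocus _ τ ≤ CohB1.genLocus _ τ' := le_genLocus_powHom hNa τ d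
  let σ₀ := SecTwist.tmulHom w' τ'
  have hσ₀ : CohB1.genLocus _ σ₀ = CohB1.genLocus _ w := by
    rw [genLocus_tmulHom (isInvertible_tensorPow hW (a + 1)) (isInvertible_tensorPow hNa d), hw']
    exact inf_eq_left.mpr (le_trans hwτ hτ')
  -- the monomial bookkeeping
  have hm1 : IsMon L N (CohB1.tensorMod (CohB1.tensorPow W (a + 1))
      (CohB1.tensorPow (CohB1.tensorPow N (a + 1)) d))
      ((1 * (m + 1) + 0 * (a + 1) * k + 0 * (a + 1)) * (a + 1) + 0 * (a + 1) * d)
      ((0 * (m + 1) + 1 * (a + 1) * k + 1 * (a + 1)) * (a + 1) + 1 * (a + 1) * d) :=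
    (((((isMon_left L N).pow (m + 1)).tensor (((isMon_right L N).pow (a + 1)).pow k)).tensor
      ((isMon_right L N).pow (a + 1))).pow (a + 1)).tensor (((isMon_right L N).pow (a + 1)).pow d)
  have hm2 : IsMon L N (CohB1.tensorPow (CohB1.tensorMod L (CohB1.tensorPow N n₁))
      ((m + 1) * (a + 1))) ((1 + 0 * n₁) * ((m + 1) * (a + 1))) ((0 + 1 * n₁) * ((m + 1) * (a + 1))) :=
    (((isMon_left L N).tensor ((isMon_right L N).pow n₁)).pow ((m + 1) * (a + 1)))
  have hp : (1 * (m + 1) + 0 * (a + 1) * k + 0 * (a + 1)) * (a + 1) + 0 * (a + 1) * d =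
      (1 + 0 * n₁) * ((m + 1) * (a + 1)) := by ring
  have hq : (0 * (m + 1) + 1 * (a + 1) * k + 1 * (a + 1)) * (a + 1) + 1 * (a + 1) * d =
      (0 + 1 * n₁) * ((m + 1) * (a + 1)) := by
    have : (a + 1) * (d + (a + 1) * (k + 1)) = (a + 1) * (n₁ * (m + 1)) := by rw [hd]
    nlinarith [this]
  obtain ⟨iso⟩ := (hm1.congr hp hq).iso hm2
  have hpos : 0 < (m + 1) * (a + 1) := Nat.mul_pos (Nat.succ_pos m) (Nat.succ_pos a)
  have heq : (m + 1) * (a + 1) = ((m + 1) * (a + 1) - 1) + 1 := (Nat.sub_add_cancel hpos).symm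
  refine ⟨(m + 1) * (a + 1) - 1, castSec heq (σ₀ ≫ iso.hom), ?_⟩
  rw [genLocus_castSec, genLocus_comp_iso, hσ₀]

/-- **Core of EGA II 4.6.13 (ii)**: on a qcqs scheme, if every point lies in some `X_τ` (`τ` a
section of a positive power of `N`) over which `L` is ample, then `L ⊗ N^{⊗ n}` is ample for all
large `n`. -/
theorem isAmple_tensor_tensorPow_eventually [CompactSpace X] [QuasiSeparatedSpace X]
    {L N : X.Modules} (hL : PicF.IsInvertible L) (hN : PicF.IsInvertible N)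
    (H : ∀ x : X, ∃ (a : ℕ) (τ : Coh.structureModule X ⟶ CohB1.tensorPow N (a + 1)),
      x ∈ CohB1.genLocus _ τ ∧ CohB1.IsAmple (L.restrict (CohB1.genLocus _ τ).ι)) :
    ∃ n₀ : ℕ, 0 < n₀ ∧ ∀ n, n₀ ≤ n → CohB1.IsAmple (CohB1.tensorMod L (CohB1.tensorPow N n)) := by
  choose a τ hxτ hAτ using H
  have stepA := fun x => exists_section_of_isAmple_restrict hL hN (τ x) (hAτ x) x (hxτ x)
  choose m k w hxw haffw hwτ using stepA
  obtain ⟨t, ht⟩ := isCompact_univ.elim_finite_subcover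
    (fun x => (CohB1.genLocus _ (w x) : Set X)) (fun x => (CohB1.genLocus _ (w x)).2)
    (fun y _ => Set.mem_iUnion.mpr ⟨y, hxw y⟩)
  let n₁ := t.sup (fun x => (a x + 1) * (k x + 1)) + 1
  have hample : CohB1.IsAmple (CohB1.tensorMod L (CohB1.tensorPow N n₁)) := by
    refine ⟨isInvertible_tensorMod hL (isInvertible_tensorPow hN n₁), inferInstance, fun y => ?_⟩
    obtain ⟨x, hxt, hyx⟩ := Set.mem_iUnion₂.mp (ht (Set.mem_univ y))
    have hle : (a x + 1) * (k x + 1) ≤ n₁ :=
      le_trans (Finset.le_sup (f := fun x => (a x + 1) * (k x + 1)) hxt) (Nat.le_succ _)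
    obtain ⟨e, σ, hσ⟩ := exists_section_tensorPow hL hN (τ x) (w x) (hwτ x) n₁ hle
    exact ⟨e, σ, hσ ▸ hyx, hσ ▸ haffw x⟩
  refine ⟨n₁, Nat.succ_pos _, fun n hn => ?_⟩
  obtain ⟨j, rfl⟩ := Nat.exists_eq_add_of_le hn
  have h1 : CohB1.IsAmple (CohB1.tensorMod (CohB1.tensorMod L (CohB1.tensorPow N n₁))
      (CohB1.tensorPow N j)) := by
    refine isAmple_tensorMod_of_cover hample (isInvertible_tensorPow hN j) fun y => ?_
    have hm1 : IsMon L N (CohB1.tensorPow (CohB1.tensorPow N (a y + 1)) j)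
        (0 * (a y + 1) * j) (1 * (a y + 1) * j) := ((isMon_right L N).pow (a y + 1)).pow j
    have hm2 : IsMon L N (CohB1.tensorPow (CohB1.tensorPow N j) (a y + 1))
        (0 * j * (a y + 1)) (1 * j * (a y + 1)) := ((isMon_right L N).pow j).pow (a y + 1)
    obtain ⟨iso⟩ := (hm1.congr (by ring) (by ring)).iso hm2
    refine ⟨a y, SecTwist.powHom (τ y) j ≫ iso.hom, ?_⟩
    rw [genLocus_comp_iso]
    exact le_genLocus_powHom (isInvertible_tensorPow hN (a y + 1)) (τ y) j (hxτ y)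
  exact isAmple_of_iso (Groth.Agent.Lib.Lead.ModTensor.assoc L (CohB1.tensorPow N n₁)
    (CohB1.tensorPow N j) ≪≫ Groth.Agent.Lib.Lead.ModTensor.tensorIso (Iso.refl _)
      (Groth.Agent.Lib.Lead.ModTensor.tensorPowAdd N n₁ j)) h1

end Groth.Agent.Lib.helper12.AmpleEventually
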