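import Mathlib
import Groth.Agent.Lib.Helper12.NormSec1
import Groth.Prelude.Def_Fitting

/-!
# Norms of functions from affine-local data (helper12)

* `AffNorm π`: multiplicative maps `ν_V : O(π⁻¹ V) →* O(V)` for the affine opens `V` of `Y`, compatible with restriction
  to basic opens.
* `AffNorm.res`: compatibility with restriction to arbitrary smaller affine opens.
* `AffNorm.glueHom`: the glued multiplicative maps `O(π⁻¹ U) →* O(U)` for all opens `U`; `glueHom_res`, `glueHom_affine`.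
* `AffNorm.nonempty_normOfDegree`: assembling a `Nrm.NormOfDegree π d`.
-/

set_option autoImplicit false
set_option linter.style.haveILetI false
universe u
open CategoryTheory AlgebraicGeometry Opposite TopologicalSpace
namespace Groth.Agent.Lib.Helper12.NormFn
open Groth.Agent.Lib.Helper12.NormSec

variable {X Y : Scheme.{u}} (π : X ⟶ Y)

/-- two functions agreeing on an open cover are equal. -/
theorem eq_of_cover_fn {ι : Type*} (W : ι → Y.Opens) (V : Y.Opens) (hle : ∀ i, W i ≤ V)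
    (hcov : V ≤ ⨆ i, W i) (x y : Γ(Y, V)) (h : ∀ i, rf (hle i) x = rf (hle i) y) : x = y :=
  TopCat.Sheaf.eq_of_locally_eq' Y.sheaf W V (fun i => homOfLE (hle i)) hcov x y h

/-- affine-local norm data. -/
structure AffNorm where
  ν : ∀ V : Y.Opens, IsAffineOpen V → (Γ(X, π ⁻¹ᵁ V) →* Γ(Y, V))
  basic : ∀ (V : Y.Opens) (hV : IsAffineOpen V) (a : Γ(Y, V)) (s : Γ(X, π ⁻¹ᵁ V)),
    rf (Y.basicOpen_le a) (ν V hV s) =
      ν (Y.basicOpen a) (hV.basicOpen a) (rf (π.preimage_mono (Y.basicOpen_le a)) s)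

variable {π}

theorem AffNorm.basic' (N : AffNorm π) {V W : Y.Opens} (hV : IsAffineOpen V) (hW : IsAffineOpen W)
    (hWV : W ≤ V) (a : Γ(Y, V)) (h : W = Y.basicOpen a) (s : Γ(X, π ⁻¹ᵁ V)) :
    rf hWV (N.ν V hV s) = N.ν W hW (rf (π.preimage_mono hWV) s) := by
  subst h
  exact N.basic V hV a s

/-- compatibility of the affine-local norms with restriction to a smaller affine open. -/
theorem AffNorm.res (N : AffNorm π) {V W : Y.Opens} (hV : IsAffineOpen V) (hW : IsAffineOpen W)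
    (hWV : W ≤ V) (s : Γ(X, π ⁻¹ᵁ V)) :
    rf hWV (N.ν V hV s) = N.ν W hW (rf (π.preimage_mono hWV) s) := by
  have hex : ∀ x : ↥W, ∃ (f : Γ(Y, W)) (g : Γ(Y, V)),
      Y.basicOpen f = Y.basicOpen g ∧ x.1 ∈ Y.basicOpen f :=
    fun x => exists_basicOpen_le_affine_inter hW hV x.1 ⟨x.2, hWV x.2⟩
  choose f g hfg hxf using hex
  refine eq_of_cover_fn (fun x : ↥W => Y.basicOpen (f x)) W (fun x => Y.basicOpen_le _) ?_ _ _ ?_
  · intro y hy
    exact Opens.mem_iSup.mpr ⟨⟨y, hy⟩, hxf ⟨y, hy⟩⟩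
  · intro x
    have h1 := N.basic' hV ((hW.basicOpen (f x))) ((Y.basicOpen_le (f x)).trans hWV) (g x)
      (hfg x) s
    have h2 := N.basic W hW (f x) (rf (π.preimage_mono hWV) s)
    rw [rf_rf, h1, h2, rf_rf]

/-- the glued norm on an arbitrary open: existence and uniqueness. -/
theorem AffNorm.existsUnique_glue (N : AffNorm π) (U : Y.Opens) (s : Γ(X, π ⁻¹ᵁ U)) :
    ∃! T : Γ(Y, U), ∀ (V : Y.Opens) (hV : IsAffineOpen V) (hVU : V ≤ U),
      rf hVU T = N.ν V hV (rf (π.preimage_mono hVU) s) := by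
  let ι := {V : Y.Opens // IsAffineOpen V ∧ V ≤ U}
  let W : ι → Y.Opens := fun i => i.1
  have hcov : U ≤ ⨆ i, W i := by
    intro y hy
    obtain ⟨V, hV, hyV, hVU⟩ := Opens.isBasis_iff_nbhd.mp Y.isBasis_affineOpens hy
    exact Opens.mem_iSup.mpr ⟨⟨V, hV, hVU⟩, hyV⟩
  let sf : ∀ i : ι, Γ(Y, W i) := fun i => N.ν i.1 i.2.1 (rf (π.preimage_mono i.2.2) s)
  have hcompat : TopCat.Presheaf.IsCompatible Y.sheaf.1 W sf := by
    intro i j
    change rf (inf_le_left : W i ⊓ W j ≤ W i) (sf i) = rf (inf_le_right : W i ⊓ W j ≤ W j) (sf j)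
    let κ := {V : Y.Opens // IsAffineOpen V ∧ V ≤ W i ⊓ W j}
    refine eq_of_cover_fn (fun k : κ => k.1) (W i ⊓ W j) (fun k => k.2.2) ?_ _ _ ?_
    · intro y hy
      obtain ⟨V, hV, hyV, hVU⟩ := Opens.isBasis_iff_nbhd.mp Y.isBasis_affineOpens hy
      exact Opens.mem_iSup.mpr ⟨⟨V, hV, hVU⟩, hyV⟩
    · intro k
      rw [rf_rf, rf_rf]
      change rf _ (N.ν i.1 i.2.1 _) = rf _ (N.ν j.1 j.2.1 _)
      rw [N.res i.2.1 k.2.1 (k.2.2.trans inf_le_left), N.res j.2.1 k.2.1 (k.2.2.trans inf_le_right),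
        rf_rf, rf_rf]
  obtain ⟨T, hT, huniq⟩ := TopCat.Sheaf.existsUnique_gluing' Y.sheaf W U
    (fun i => homOfLE i.2.2) hcov sf hcompat
  refine ⟨T, fun V hV hVU => hT ⟨V, hV, hVU⟩, fun T' hT' => huniq T' fun i => hT' i.1 i.2.1 i.2.2⟩

/-- the glued norm of a function over an arbitrary open. -/
noncomputable def AffNorm.glue (N : AffNorm π) (U : Y.Opens) (s : Γ(X, π ⁻¹ᵁ U)) : Γ(Y, U) :=
  (N.existsUnique_glue U s).choose

theorem AffNorm.glue_spec (N : AffNorm π) (U : Y.Opens) (s : Γ(X, π ⁻¹ᵁ U)) (V : Y.Opens)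
    (hV : IsAffineOpen V) (hVU : V ≤ U) :
    rf hVU (N.glue U s) = N.ν V hV (rf (π.preimage_mono hVU) s) :=
  (N.existsUnique_glue U s).choose_spec.1 V hV hVU

theorem AffNorm.glue_eq (N : AffNorm π) (U : Y.Opens) (s : Γ(X, π ⁻¹ᵁ U)) (T : Γ(Y, U))
    (hT : ∀ (V : Y.Opens) (hV : IsAffineOpen V) (hVU : V ≤ U),
      rf hVU T = N.ν V hV (rf (π.preimage_mono hVU) s)) : N.glue U s = T :=
  ((N.existsUnique_glue U s).choose_spec.2 T hT).symm

/-- the glued norm as a monoid homomorphism. -/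
noncomputable def AffNorm.glueHom (N : AffNorm π) (U : Y.Opens) : Γ(X, π ⁻¹ᵁ U) →* Γ(Y, U) where
  toFun := N.glue U
  map_one' := by
    refine N.glue_eq U 1 1 fun V hV hVU => ?_
    rw [rf_one, rf_one, map_one]
  map_mul' := fun s s' => by
    refine N.glue_eq U (s * s') _ fun V hV hVU => ?_
    rw [rf_mul, rf_mul, map_mul, N.glue_spec U s V hV hVU, N.glue_spec U s' V hV hVU]

theorem AffNorm.glueHom_res (N : AffNorm π) {U V : Y.Opens} (h : V ≤ U) (s : Γ(X, π ⁻¹ᵁ U)) :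
    rf h (N.glueHom U s) = N.glueHom V (rf (π.preimage_mono h) s) := by
  symm
  refine N.glue_eq V _ _ fun W hW hWV => ?_
  rw [rf_rf, rf_rf]
  exact N.glue_spec U s W hW (hWV.trans h)

theorem AffNorm.glueHom_affine (N : AffNorm π) {V : Y.Opens} (hV : IsAffineOpen V)
    (s : Γ(X, π ⁻¹ᵁ V)) : N.glueHom V s = N.ν V hV s := by
  have := N.glue_spec V s V hV le_rfl
  rw [rf_self, rf_self] at this
  exact this

/-- **Assembling a norm of degree `d`** from affine-local data. -/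
theorem AffNorm.nonempty_normOfDegree (N : AffNorm π) (d : ℕ) (hd : 1 ≤ d)
    (happ : ∀ (V : Y.Opens) (hV : IsAffineOpen V) (g : Γ(Y, V)), N.ν V hV (π.app V g) = g ^ d)
    (hmem : ∀ (V : Y.Opens) (hV : IsAffineOpen V) (s : Γ(X, π ⁻¹ᵁ V)) (x : X) (hx : π.base x ∈ V),
      X.presheaf.germ (π ⁻¹ᵁ V) x hx s ∈ IsLocalRing.maximalIdeal (X.presheaf.stalk x) →
      Y.presheaf.germ V (π.base x) hx (N.ν V hV s) ∈
        IsLocalRing.maximalIdeal (Y.presheaf.stalk (π.base x))) :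
    Nonempty (Nrm.NormOfDegree π d) := by
  refine ⟨{
    one_le := hd
    norm := N.glueHom
    norm_res := fun {U V} i s => N.glueHom_res (leOfHom i) s
    norm_app := fun U g => ?_
    norm_mem := fun U s x hx hs => ?_ }⟩
  · refine N.glue_eq U _ _ fun V hV hVU => ?_
    rw [rf_pow, ← happ V hV]
    congr 1
    have := π.naturality (homOfLE hVU).op
    exact congrArg (fun φ => φ.hom g) this
  · obtain ⟨V, hV, hxV, hVU⟩ := Opens.isBasis_iff_nbhd.mp Y.isBasis_affineOpens hx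
    have h1 := hmem V hV (rf (π.preimage_mono hVU) s) x hxV (by
      have : X.presheaf.germ (π ⁻¹ᵁ V) x hxV (rf (π.preimage_mono hVU) s) =
          X.presheaf.germ (π ⁻¹ᵁ U) x hx s :=
        TopCat.Presheaf.germ_res_apply X.presheaf (homOfLE (π.preimage_mono hVU)) x hxV s
      rw [this]
      exact hs)
    rw [← N.glue_spec U s V hV hVU] at h1
    have : Y.presheaf.germ V (π.base x) hxV (rf hVU (N.glue U s)) =
        Y.presheaf.germ U (π.base x) hx (N.glue U s) :=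
      TopCat.Presheaf.germ_res_apply Y.presheaf (homOfLE hVU) (π.base x) hxV _
    rw [this] at h1
    exact h1

end Groth.Agent.Lib.Helper12.NormFn
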