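import Mathlib
import Groth.Agent.Lib.Helper28.FinProjRank
import Groth.Agent.Lib.Helper28.FinProjInv
import Groth.Agent.Lib.Helper12.NormSec1

/-!
# Dual bases on affine charts (helper12), part 4 of the norm construction

* `exists_dualBasis_of_equiv`: a basis gives dual-basis data with `mat 1 = 1`.
* `nm_map_of_mat_one : D.nm (f r) = r ^ n`, `eq_of_mat_one` (rank invariance).
* `exists_dualBasis_basicOpen`, `exists_dualBasis_basicOpen'`: base change of dual-basis data of
  `O(U) → O(g⁻¹ U)` to a basic open of the affine open `U`, compatibly with `mat` and `nm`.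
-/

set_option autoImplicit false
set_option linter.style.haveILetI false
universe u
open CategoryTheory AlgebraicGeometry Opposite TopologicalSpace
open Polynomial Matrix
namespace Groth.Agent.Lib.Helper12.NormSec
open Groth.Agent.Lib.helper28.FinProjCharpoly

/-- a basis gives dual-basis data with `mat 1 = 1`. -/
theorem exists_dualBasis_of_equiv {R S : Type*} [CommRing R] [CommRing S] (f : R →+* S) (n : ℕ)
    (φ : letI := f.toAlgebra; S ≃ₗ[R] (Fin n → R)) :
    ∃ D : DualBasis f n, D.mat 1 = 1 := by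
  letI := f.toAlgebra
  have hsm : ∀ (r : R) (s : S), r • s = f r * s := fun r s => Algebra.smul_def r s
  refine ⟨{
    b := fun j => φ.symm (Pi.single j 1)
    c := fun j => ((LinearMap.proj j).comp φ.toLinearMap).toAddMonoidHom
    lin := fun j r s => by
      change (φ (f r * s)) j = r * (φ s) j
      rw [← hsm, map_smul]; rfl
    sum := fun s => by
      change ∑ j, f ((φ s) j) * φ.symm (Pi.single j 1) = s
      have h1 : φ.symm.toLinearMap (φ s) = s := φ.symm_apply_apply s
      have h2 := LinearMap.pi_apply_eq_sum_univ φ.symm.toLinearMap (φ s)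
      rw [h1] at h2
      refine Eq.trans ?_ h2.symm
      refine Finset.sum_congr rfl fun j _ => ?_
      rw [← hsm]
      have h3 : (Pi.single j 1 : Fin n → R) = fun j_1 => if j = j_1 then 1 else 0 := by
        funext k
        simp [Pi.single_apply, eq_comm]
      rw [h3]
      rfl }, ?_⟩
  ext j k
  change (φ (1 * φ.symm (Pi.single k 1))) j = (1 : Matrix (Fin n) (Fin n) R) j k
  rw [one_mul, φ.apply_symm_apply, Matrix.one_apply, Pi.single_apply]

theorem nm_map_of_mat_one {R S : Type*} [CommRing R] [CommRing S] {f : R →+* S} {n : ℕ}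
    (D : DualBasis f n) (h : D.mat 1 = 1) (r : R) : D.nm (f r) = r ^ n := by
  unfold DualBasis.nm
  have h1 : D.mat (f r) = r • (1 : Matrix (Fin n) (Fin n) R) := by
    have := D.mat_smul r 1
    rw [mul_one, h] at this
    exact this
  rw [h1, h, add_sub_cancel, Matrix.det_smul, Matrix.det_one, mul_one, Fintype.card_fin]

theorem eq_of_mat_one {R S : Type*} [CommRing R] [CommRing S] [Nontrivial R] {f : R →+* S}
    {n n' : ℕ} (D : DualBasis f n) (D' : DualBasis f n') (h : D.mat 1 = 1) (h' : D'.mat 1 = 1) :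
    n = n' := by
  have key : ∀ {m : ℕ} (E : DualBasis f m), E.mat 1 = 1 → E.rk = X ^ m := by
    intro m E hE
    unfold DualBasis.rk
    rw [hE]
    have : ((1 : Matrix (Fin m) (Fin m) R).map (C : R → R[X])) = 1 := by
      ext j k
      simp [Matrix.one_apply, apply_ite]
    rw [this, add_sub_cancel, Matrix.det_smul, Matrix.det_one, mul_one, Fintype.card_fin]
  have h1 := key D h
  have h2 := key D' h'
  rw [D.rk_indep D'] at h1
  have := h1.symm.trans h2
  have := congrArg Polynomial.natDegree this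
  simpa using this

/-- base change of dual-basis data to a basic open. -/
theorem exists_dualBasis_basicOpen {X' X : Scheme.{u}} (g : X' ⟶ X) [IsAffineHom g] {U : X.Opens}
    (hU : IsAffineOpen U) (a : Γ(X, U)) {n : ℕ} (D : DualBasis (g.app U).hom n) :
    ∃ D' : DualBasis (g.app (X.basicOpen a)).hom n,
      ∀ x : Γ(X', g ⁻¹ᵁ U), D'.mat (rf (g.preimage_mono (X.basicOpen_le a)) x) =
        (D.mat x).map (rf (X.basicOpen_le a)) := by
  letI iRS : Algebra Γ(X, U) Γ(X', g ⁻¹ᵁ U) := (g.app U).hom.toAlgebra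
  letI iRT : Algebra Γ(X, U) Γ(X, X.basicOpen a) :=
    (X.presheaf.map (homOfLE (X.basicOpen_le a)).op).hom.toAlgebra
  letI iSP : Algebra Γ(X', g ⁻¹ᵁ U) Γ(X', g ⁻¹ᵁ (X.basicOpen a)) :=
    (X'.presheaf.map (homOfLE (g.preimage_mono (X.basicOpen_le a))).op).hom.toAlgebra
  letI iTP : Algebra Γ(X, X.basicOpen a) Γ(X', g ⁻¹ᵁ (X.basicOpen a)) :=
    (g.app (X.basicOpen a)).hom.toAlgebra
  letI iRP : Algebra Γ(X, U) Γ(X', g ⁻¹ᵁ (X.basicOpen a)) :=
    ((X'.presheaf.map (homOfLE (g.preimage_mono (X.basicOpen_le a))).op).hom.comp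
      (g.app U).hom).toAlgebra
  haveI t1 : IsScalarTower Γ(X, U) Γ(X', g ⁻¹ᵁ U) Γ(X', g ⁻¹ᵁ (X.basicOpen a)) :=
    IsScalarTower.of_algebraMap_eq (fun _ => rfl)
  haveI t2 : IsScalarTower Γ(X, U) Γ(X, X.basicOpen a) Γ(X', g ⁻¹ᵁ (X.basicOpen a)) := by
    refine IsScalarTower.of_algebraMap_eq (fun r => ?_)
    have := g.naturality (homOfLE (X.basicOpen_le a)).op
    exact (congrArg (fun φ => φ.hom r) this).symm
  haveI l1 : IsLocalization.Away a Γ(X, X.basicOpen a) :=
    hU.isLocalization_of_eq_basicOpen a (homOfLE (X.basicOpen_le a)) rfl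
  have l2 : IsLocalization.Away (g.app U a) Γ(X', g ⁻¹ᵁ (X.basicOpen a)) :=
    (hU.preimage g).isLocalization_of_eq_basicOpen (g.app U a)
      (homOfLE (g.preimage_mono (X.basicOpen_le a))) (Scheme.preimage_basicOpen g a)
  have l3 : IsLocalization (Algebra.algebraMapSubmonoid Γ(X', g ⁻¹ᵁ U) (Submonoid.powers a))
      Γ(X', g ⁻¹ᵁ (X.basicOpen a)) := by
    have : Algebra.algebraMapSubmonoid Γ(X', g ⁻¹ᵁ U) (Submonoid.powers a) =
        Submonoid.powers (g.app U a) := by
      unfold Algebra.algebraMapSubmonoid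
      rw [Submonoid.map_powers]
      rfl
    rw [this]
    exact l2
  haveI l4 : IsLocalizedModule (Submonoid.powers a)
      (IsScalarTower.toAlgHom Γ(X, U) Γ(X', g ⁻¹ᵁ U) Γ(X', g ⁻¹ᵁ (X.basicOpen a))).toLinearMap :=
    isLocalizedModule_iff_isLocalization.mpr l3
  have hbc : IsBaseChange Γ(X, X.basicOpen a)
      (IsScalarTower.toAlgHom Γ(X, U) Γ(X', g ⁻¹ᵁ U) Γ(X', g ⁻¹ᵁ (X.basicOpen a))).toLinearMap :=
    IsLocalizedModule.isBaseChange (Submonoid.powers a) Γ(X, X.basicOpen a) _
  obtain ⟨D', hD'⟩ := DualBasis.exists_baseChange hbc D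
  exact ⟨D', hD'⟩

/-- base change of dual-basis data to a basic open, norm form. -/
theorem exists_dualBasis_basicOpen' {X' X : Scheme.{u}} (g : X' ⟶ X) [IsAffineHom g] {U : X.Opens}
    (hU : IsAffineOpen U) (a : Γ(X, U)) {n : ℕ} (D : DualBasis (g.app U).hom n) :
    ∃ D' : DualBasis (g.app (X.basicOpen a)).hom n, (D.mat 1 = 1 → D'.mat 1 = 1) ∧
      ∀ x : Γ(X', g ⁻¹ᵁ U), D'.nm (rf (g.preimage_mono (X.basicOpen_le a)) x) =
        rf (X.basicOpen_le a) (D.nm x) := by
  obtain ⟨D', hD'⟩ := exists_dualBasis_basicOpen g hU a D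
  refine ⟨D', fun h1 => ?_, fun x => ?_⟩
  · have := hD' 1
    rw [rf_one, h1] at this
    rw [this]
    ext j k
    rw [Matrix.map_apply, Matrix.one_apply, Matrix.one_apply]
    split_ifs
    · exact rf_one _
    · exact map_zero (X.presheaf.map (homOfLE (X.basicOpen_le a)).op).hom
  · exact (DualBasis.nm_map (X.presheaf.map (homOfLE (X.basicOpen_le a)).op).hom
      (X'.presheaf.map (homOfLE (g.preimage_mono (X.basicOpen_le a))).op).hom D D' hD' x).symm

end Groth.Agent.Lib.Helper12.NormSec
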