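import Mathlib
import Groth.Agent.Lib.Helper12.NormFn1
import Groth.Agent.Lib.Helper12.NormSec4
import Groth.Agent.Lib.Helper16.PushFLF
import Groth.Agent.Lib.Helper16.FLF2

/-!
# The norm of a finite locally free morphism (helper12)

* `exists_dualBasis_of_finLocFree`, `affNormOfFinLocFree`: affine-local norm data from helper28's `DualBasis.nm`.
* `germ_nm_mem`: functions vanishing at `x` have norm vanishing at `π x`.
* `finrank_eq_of_equiv`: Mathlib's `Scheme.Hom.finrank` is the size of a local basis of `π_* O_X`.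
* `hasNorm_of_finLocFreeOfDeg` (Stacks 0BCY): a finite locally free morphism of constant rank `d ≥ 1` has a norm of
  degree `d`.
-/

set_option autoImplicit false
set_option linter.style.haveILetI false
universe u
open CategoryTheory AlgebraicGeometry Opposite TopologicalSpace
namespace Groth.Agent.Lib.Helper12.NormFn
open Groth.Agent.Lib.Helper12.NormSec
open Groth.Agent.Lib.helper28.FinProjCharpoly

variable {X Y : Scheme.{u}} (π : X ⟶ Y)

/-- the norm of a dual basis as a monoid homomorphism. -/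
noncomputable def nmHom {R S : Type*} [CommRing R] [CommRing S] {f : R →+* S} {n : ℕ}
    (D : DualBasis f n) : S →* R where
  toFun := D.nm
  map_one' := D.nm_one
  map_mul' := D.nm_mul

/-- dual-basis data over every affine open, for a finite flat finitely presented morphism. -/
theorem exists_dualBasis_of_finLocFree [IsFinite π] [Flat π] [LocallyOfFinitePresentation π]
    {V : Y.Opens} (hV : IsAffineOpen V) : ∃ n, Nonempty (DualBasis (π.app V).hom n) := by
  have hfin : (π.app V).hom.Finite := IsFinite.finite_app π V hV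
  have hflat : (π.app V).hom.Flat := by
    have := π.flat_appLE hV (hV.preimage π) le_rfl
    rwa [← Scheme.Hom.app_eq_appLE] at this
  have hfp : (π.app V).hom.FinitePresentation := by
    have := π.finitePresentation_appLE hV (hV.preimage π) le_rfl
    rwa [← Scheme.Hom.app_eq_appLE] at this
  letI : Algebra Γ(Y, V) Γ(X, π ⁻¹ᵁ V) := (π.app V).hom.toAlgebra
  haveI : Module.Finite Γ(Y, V) Γ(X, π ⁻¹ᵁ V) := hfin
  haveI : Module.Flat Γ(Y, V) Γ(X, π ⁻¹ᵁ V) := hflat
  haveI : Algebra.FinitePresentation Γ(Y, V) Γ(X, π ⁻¹ᵁ V) := hfp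
  haveI : Module.FinitePresentation Γ(Y, V) Γ(X, π ⁻¹ᵁ V) :=
    Module.FinitePresentation.of_finite_of_finitePresentation _ _
  haveI : Module.Projective Γ(Y, V) Γ(X, π ⁻¹ᵁ V) := Module.Flat.projective_of_finitePresentation
  exact DualBasis.exists_of_projective (π.app V).hom inferInstance inferInstance

/-- the affine-local norm data of a finite locally free morphism. -/
noncomputable def affNormOfFinLocFree [IsFinite π] [Flat π] [LocallyOfFinitePresentation π] :
    AffNorm π where
  ν := fun V hV => nmHom (exists_dualBasis_of_finLocFree π hV).choose_spec.some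
  basic := fun V hV a s => by
    obtain ⟨D', -, hD'⟩ := exists_dualBasis_basicOpen' π hV a
      (exists_dualBasis_of_finLocFree π hV).choose_spec.some
    change rf _ (DualBasis.nm _ s) = DualBasis.nm _ _
    rw [← hD' s]
    exact D'.nm_indep _ _

theorem affNormOfFinLocFree_apply [IsFinite π] [Flat π] [LocallyOfFinitePresentation π]
    {V : Y.Opens} (hV : IsAffineOpen V) {n : ℕ} (D : DualBasis (π.app V).hom n)
    (s : Γ(X, π ⁻¹ᵁ V)) : (affNormOfFinLocFree π).ν V hV s = D.nm s :=
  DualBasis.nm_indep _ D s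

/-- functions vanishing at `x` have norm vanishing at `π x`. -/
theorem germ_nm_mem {V : Y.Opens} {n : ℕ} (D : DualBasis (π.app V).hom n) (s : Γ(X, π ⁻¹ᵁ V))
    (x : X) (hx : π.base x ∈ V)
    (hs : X.presheaf.germ (π ⁻¹ᵁ V) x hx s ∈ IsLocalRing.maximalIdeal (X.presheaf.stalk x)) :
    Y.presheaf.germ V (π.base x) hx (D.nm s) ∈
      IsLocalRing.maximalIdeal (Y.presheaf.stalk (π.base x)) := by
  obtain ⟨y, hy⟩ := D.dvd_nm s
  rw [IsLocalRing.mem_maximalIdeal]
  intro hunit
  have h1 : IsUnit (π.stalkMap x (Y.presheaf.germ V (π.base x) hx (D.nm s))) :=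
    hunit.map (π.stalkMap x).hom
  rw [Scheme.Hom.germ_stalkMap_apply] at h1
  have h2 : π.app V (D.nm s) = s * y := hy.symm
  rw [h2, map_mul] at h1
  have h3 := (IsLocalRing.mem_maximalIdeal _).mp hs
  exact h3 (isUnit_of_mul_isUnit_left h1)

/-- the rank of `π` at a point of an affine open over which `π_* O` has a basis of size `n` is `n`. -/
theorem finrank_eq_of_equiv [IsFinite π] [Flat π] {W : Y.Opens} (hW : IsAffineOpen W) (y : Y)
    (hy : y ∈ W) (n : ℕ)
    (e : letI := (π.app W).hom.toAlgebra; Γ(X, π ⁻¹ᵁ W) ≃ₗ[Γ(Y, W)] (Fin n → Γ(Y, W))) :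
    π.finrank y = n := by
  have hπW : IsAffineOpen (π ⁻¹ᵁ W) := hW.preimage π
  have hfin : (π.app W).hom.Finite := IsFinite.finite_app π W hW
  have hflat : (π.app W).hom.Flat := by
    have := π.flat_appLE hW hπW le_rfl
    rwa [← Scheme.Hom.app_eq_appLE] at this
  have hsq : hπW.fromSpec ≫ π = Spec.map (π.app W) ≫ hW.fromSpec := by
    have := IsAffineOpen.SpecMap_appLE_fromSpec π hW hπW le_rfl
    rw [← Scheme.Hom.app_eq_appLE] at this
    exact this.symm
  have hpb : IsPullback (Spec.map (π.app W)) hπW.fromSpec hW.fromSpec π := by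
    refine IsOpenImmersion.isPullback _ _ _ _ hsq ?_
    rw [hW.opensRange_fromSpec, hπW.opensRange_fromSpec]
  have h1 := Scheme.Hom.finrank_of_isPullback _ _ _ _ hpb.flip (hW.primeIdealOf ⟨y, hy⟩)
  rw [hW.fromSpec_primeIdealOf] at h1
  rw [← h1, Scheme.Hom.finrank_SpecMap_eq_finrank hfin hflat]
  letI : Algebra Γ(Y, W) Γ(X, π ⁻¹ᵁ W) := (π.app W).hom.toAlgebra
  haveI : Nontrivial Γ(Y, W) := (hW.primeIdealOf ⟨y, hy⟩).nontrivial
  change Module.rankAtStalk (R := Γ(Y, W)) Γ(X, π ⁻¹ᵁ W) (hW.primeIdealOf ⟨y, hy⟩) = n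
  rw [Module.rankAtStalk_eq_of_equiv e, Module.rankAtStalk_eq_finrank_of_free]
  simp

open Groth.Agent.Lib.helper16.FLF in
/-- free charts for `π_* O_X`. -/
theorem exists_free_chart (hπ : Mor2.IsFinLocFree π) (V : Y.Opens) (y : Y) (hy : y ∈ V) :
    ∃ (W : Y.Opens) (_ : IsAffineOpen W) (_ : y ∈ W) (_ : W ≤ V) (n : ℕ),
      Nonempty (letI := (π.app W).hom.toAlgebra; Γ(X, π ⁻¹ᵁ W) ≃ₗ[Γ(Y, W)] (Fin n → Γ(Y, W))) := by
  have hfree : FlatMod.IsFinLocFree ((Scheme.Modules.pushforward π).obj (Coh.structureModule X)) :=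
    Groth.Agent.Lib.helper16.PushFLF.isFinLocFree_pushforward π hπ _
      (isFinLocFree_structureModule X)
  obtain ⟨U₁, n, hy₁, ⟨iso⟩⟩ := hfree y
  obtain ⟨W, hW, hyW, hWle⟩ := (Opens.isBasis_iff_nbhd.mp Y.isBasis_affineOpens)
    (show y ∈ (U₁ ⊓ V : Y.Opens) from ⟨hy₁, hy⟩)
  obtain ⟨iso'⟩ := restrict_iso_freeMod_of_le _ (hWle.trans inf_le_left) n iso
  obtain ⟨φ₀⟩ := sections_of_restrict_iso_freeMod _ hW n iso'
  letI : Algebra Γ(Y, W) Γ(X, π ⁻¹ᵁ W) := (π.app W).hom.toAlgebra
  let e : Γ(X, π ⁻¹ᵁ W) ≃ₗ[Γ(Y, W)]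
      Γ((Scheme.Modules.pushforward π).obj (Coh.structureModule X), W) :=
    { toFun := fun m => m
      invFun := fun m => m
      map_add' := fun _ _ => rfl
      map_smul' := fun _ _ => rfl
      left_inv := fun _ => rfl
      right_inv := fun _ => rfl }
  exact ⟨W, hW, hyW, hWle.trans inf_le_right, n, ⟨e.trans φ₀⟩⟩

/-- **A finite locally free morphism of constant rank `d ≥ 1` has a norm of degree `d`.** -/
theorem hasNorm_of_finLocFreeOfDeg (d : ℕ) (hd : 1 ≤ d) (hπ : Mor2.IsFinLocFreeOfDeg d π) :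
    Nrm.HasNorm π d := by
  haveI : IsFinite π := hπ.1.1
  haveI : Flat π := hπ.1.2.1
  haveI : LocallyOfFinitePresentation π := hπ.1.2.2
  refine (affNormOfFinLocFree π).nonempty_normOfDegree d hd ?_ ?_
  · intro V hV g
    have hex := fun y : ↥V => exists_free_chart π hπ.1 V y.1 y.2
    choose W hW hyW hWV n e using hex
    refine eq_of_cover_fn (fun y : ↥V => W y) V hWV ?_ _ _ fun y => ?_
    · intro z hz
      exact Opens.mem_iSup.mpr ⟨⟨z, hz⟩, hyW ⟨z, hz⟩⟩
    · obtain ⟨D, hD⟩ := exists_dualBasis_of_equiv (π.app (W y)).hom (n y) (e y).some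
      have hn : n y = d := by
        rw [← hπ.2 y.1]
        exact (finrank_eq_of_equiv π (hW y) y.1 (hyW y) (n y) (e y).some).symm
      rw [(affNormOfFinLocFree π).res hV (hW y) (hWV y), rf_pow]
      have hnat : rf (π.preimage_mono (hWV y)) (π.app V g) = π.app (W y) (rf (hWV y) g) := by
        have := π.naturality (homOfLE (hWV y)).op
        exact (congrArg (fun φ => φ.hom g) this).symm
      rw [hnat, affNormOfFinLocFree_apply π (hW y) D, nm_map_of_mat_one D hD, hn]
  · intro V hV s x hx hs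
    exact germ_nm_mem π _ s x hx hs

end Groth.Agent.Lib.Helper12.NormFn
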