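import Mathlib
import Groth.Agent.Lib.Helper18.PicGlue2
import Groth.Agent.Lib.Helper12.NormSec2
import Groth.Prelude.Def_Fitting

/-!
# The norm of an invertible module along a finite morphism with a norm (helper12), part 1

* `PreNorm π`: multiplicative maps `Γ(π⁻¹ U, O_X) → Γ(U, O_Y)` compatible with restriction and with
  `π⁻¹ D(Nm s) ⊆ D(s)` (a `Nrm.NormOfDegree` without the degree).
* `etaN`, `etaN_cocycle`: the norm of the transition cocycle of `L` for a cover `U a` of `Y` with `L` trivial over each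
  `π⁻¹ (U a)`.
* `exists_normMod`: the invertible module `N` on `Y` with generators `n a` over `U a` and transition cocycle `etaN`.
-/

set_option autoImplicit false
universe u
open CategoryTheory AlgebraicGeometry Opposite TopologicalSpace
open Scheme.Modules

namespace Groth.Agent.Lib.helper12.NormInv

open Groth.Agent.Lib.Helper12.NormSec Groth.Agent.Lib.Helper18.PicGlue
open Groth.Agent.Lib.helper11.InvMod

variable {X Y : Scheme.{u}}

/-- a norm without degree: multiplicative, compatible with restriction, preserving vanishing at points. -/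
structure PreNorm (π : X ⟶ Y) where
  /-- the norm maps -/
  norm : ∀ U : Y.Opens, Γ(X, π ⁻¹ᵁ U) →* Γ(Y, U)
  /-- compatibility with restriction -/
  norm_res : ∀ {U V : Y.Opens} (h : V ≤ U) (s : Γ(X, π ⁻¹ᵁ U)),
    rf h (norm U s) = norm V (rf (π.preimage_mono h) s)
  /-- the norm of a function is invertible only over points whose whole fibre lies in the locus where the function is
  invertible (for a norm of degree `d`: functions vanishing at `x` have norm vanishing at `π x`) -/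
  norm_basicOpen : ∀ (U : Y.Opens) (s : Γ(X, π ⁻¹ᵁ U)), π ⁻¹ᵁ Y.basicOpen (norm U s) ≤ X.basicOpen s

/-- a norm of degree `d` is a norm without degree. -/
def PreNorm.ofNormOfDegree {π : X ⟶ Y} {d : ℕ} (N : Nrm.NormOfDegree π d) : PreNorm π where
  norm := N.norm
  norm_res := fun h s => N.norm_res (homOfLE h) s
  norm_basicOpen := fun U s x hx => by
    have hxU : π.base x ∈ U := Y.basicOpen_le _ hx
    by_contra hcon
    have hnu : ¬ IsUnit (X.presheaf.germ (π ⁻¹ᵁ U) x hxU s) := fun hu =>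
      hcon ((X.mem_basicOpen s x hxU).mpr hu)
    have hm := N.norm_mem U s x hxU ((IsLocalRing.mem_maximalIdeal _).mpr hnu)
    have hnu' := (IsLocalRing.mem_maximalIdeal _).mp hm
    exact hnu' ((Y.mem_basicOpen _ (π.base x) hxU).mp hx)

section Cocycle

variable {π : X ⟶ Y} (Nr : PreNorm π) {L : X.Modules} {ι : Type u} (U : ι → Y.Opens)
  (e : ∀ a, Γ(L, π ⁻¹ᵁ U a)) (he : ∀ a, IsGen L (π ⁻¹ᵁ U a) (e a))

/-- the norm of the transition cocycle. -/
noncomputable def etaN (a b : ι) : (Γ(Y, U a ⊓ U b))ˣ :=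
  Units.map (Nr.norm (U a ⊓ U b)) (trUnit π U e he a b (U a ⊓ U b) inf_le_left inf_le_right)

theorem etaN_val (a b : ι) :
    ((etaN Nr U e he a b : (Γ(Y, U a ⊓ U b))ˣ) : Γ(Y, U a ⊓ U b)) =
      Nr.norm (U a ⊓ U b) (tr π U e he a b (U a ⊓ U b) inf_le_left inf_le_right) := rfl

theorem etaN_cocycle (i j k : ι) :
    Y.presheaf.map (homOfLE (inf_le_inf_right (U k) inf_le_left : U i ⊓ U j ⊓ U k ≤ U i ⊓ U k)).op
        ((etaN Nr U e he i k : (Γ(Y, U i ⊓ U k))ˣ) : Γ(Y, U i ⊓ U k)) =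
      Y.presheaf.map (homOfLE (inf_le_left : U i ⊓ U j ⊓ U k ≤ U i ⊓ U j)).op
          ((etaN Nr U e he i j : (Γ(Y, U i ⊓ U j))ˣ) : Γ(Y, U i ⊓ U j)) *
        Y.presheaf.map (homOfLE (inf_le_inf_right (U k) inf_le_right : U i ⊓ U j ⊓ U k ≤ U j ⊓ U k)).op
          ((etaN Nr U e he j k : (Γ(Y, U j ⊓ U k))ˣ) : Γ(Y, U j ⊓ U k)) := by
  rw [etaN_val, etaN_val, etaN_val]
  change rf (inf_le_inf_right (U k) inf_le_left : U i ⊓ U j ⊓ U k ≤ U i ⊓ U k) _ =
    rf (inf_le_left : U i ⊓ U j ⊓ U k ≤ U i ⊓ U j) _ *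
      rf (inf_le_inf_right (U k) inf_le_right : U i ⊓ U j ⊓ U k ≤ U j ⊓ U k) _
  rw [Nr.norm_res, Nr.norm_res, Nr.norm_res,
    tr_res π U e he i k (inf_le_inf_right (U k) inf_le_left : U i ⊓ U j ⊓ U k ≤ U i ⊓ U k),
    tr_res π U e he i j (inf_le_left : U i ⊓ U j ⊓ U k ≤ U i ⊓ U j),
    tr_res π U e he j k (inf_le_inf_right (U k) inf_le_right : U i ⊓ U j ⊓ U k ≤ U j ⊓ U k),
    ← map_mul, tr_mul]

/-- **the norm of `L`**: an invertible module on `Y` with generators over the `U a` whose transition cocycle is the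
norm of the transition cocycle of `L`. -/
theorem exists_normMod (hU : iSup U = ⊤) :
    ∃ (N : Y.Modules) (n : ∀ a, Γ(N, U a)), PicF.IsInvertible N ∧ (∀ a, IsGen N (U a) (n a)) ∧
      ∀ a b, rs N (inf_le_left : U a ⊓ U b ≤ U a) (n a) =
        ((etaN Nr U e he a b : (Γ(Y, U a ⊓ U b))ˣ) : Γ(Y, U a ⊓ U b)) •
          rs N (inf_le_right : U a ⊓ U b ≤ U b) (n b) := by
  obtain ⟨N, n, hN, hbij, hrel⟩ := Groth.Agent.S10963.result Y U hU (etaN Nr U e he)
    (etaN_cocycle Nr U e he)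
  exact ⟨N, n, hN, fun a W hW => hbij a W hW, fun a b => hrel a b⟩

end Cocycle

end Groth.Agent.Lib.helper12.NormInv
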