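import Mathlib
import Groth.Agent.Lib.Helper12.NormSec3
import Groth.Agent.Lib.Helper12.NormSec4
import Groth.Agent.Lib.Helper12.AmpleBasis

/-!
# Gluing local norms (helper12), part 5 of the norm construction

* `loc_eq_of_same`, `loc_compat`: the local norm sections `Nm(b)^K • ε^{⊗ R}` of two charts agree on overlaps.
* `exists_norm_section`: for a finite cover by charts, the local norm sections glue to a global section of
  `M^{⊗ R}`.
-/

set_option autoImplicit false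
set_option linter.style.haveILetI false
set_option linter.unusedSimpArgs false
universe u
open CategoryTheory AlgebraicGeometry Opposite TopologicalSpace
open Scheme.Modules
namespace Groth.Agent.Lib.Helper12.NormSec
open Groth.Agent.Lib.helper11.InvMod Groth.Agent.Lib.helper11.GenLocus
open Groth.Agent.Lib.helper28.FinProjCharpoly
open Groth.Agent.Lib.helper12.TwistExtend Groth.Agent.Lib.helper12.AmpleBasis

variable {X' X : Scheme.{u}} (g : X' ⟶ X) (M : X.Modules)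

/-- base change of dual-basis data to an open which is a basic open of `U`. -/
theorem exists_dualBasis_of_eq_basicOpen [IsAffineHom g] {U W : X.Opens} (hU : IsAffineOpen U)
    (hWU : W ≤ U) (a : Γ(X, U)) (hW : W = X.basicOpen a) {n : ℕ}
    (D : DualBasis (g.app U).hom n) :
    ∃ D' : DualBasis (g.app W).hom n, (D.mat 1 = 1 → D'.mat 1 = 1) ∧
      ∀ x : Γ(X', g ⁻¹ᵁ U), D'.nm (rf (g.preimage_mono hWU) x) = rf hWU (D.nm x) := by
  subst hW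
  exact exists_dualBasis_basicOpen' g hU a D

/-- **Lemma C**: two local norm sections on the same open agree. -/
theorem loc_eq_of_same {W : X.Opens} (hT : IsTrivOn M W) (ε₁ ε₂ : Γ(M, W))
    (h₂ : IsGen M W ε₂) {n₁ n₂ : ℕ} (D₁ : DualBasis (g.app W).hom n₁)
    (D₂ : DualBasis (g.app W).hom n₂) (o₁ : D₁.mat 1 = 1) (o₂ : D₂.mat 1 = 1)
    (b₁ b₂ : Γ(X', g ⁻¹ᵁ W)) (hb : b₁ • eta g M W ε₁ = b₂ • eta g M W ε₂)
    (K₁ K₂ R : ℕ) (hR : 0 < R) (e₁ : n₁ * K₁ = R) (e₂ : n₂ * K₂ = R) :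
    (D₁.nm b₁) ^ K₁ • lpow M ε₁ R = (D₂.nm b₂) ^ K₂ • lpow M ε₂ R := by
  by_cases hnt : Nontrivial Γ(X, W)
  · have hn : n₁ = n₂ := eq_of_mat_one D₁ D₂ o₁ o₂
    subst hn
    have hn0 : 0 < n₁ := by
      rcases Nat.eq_zero_or_pos n₁ with h | h
      · rw [h, zero_mul] at e₁; omega
      · exact h
    have hK : K₁ = K₂ := Nat.eq_of_mul_eq_mul_left hn0 (e₁.trans e₂.symm)
    subst hK
    have hbij := h₂ W le_rfl
    rw [rs_self] at hbij
    obtain ⟨α, hα⟩ := hbij.2 ε₁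
    have hα' : α • ε₂ = ε₁ := hα
    have hη := isGen_eta g hT le_rfl ε₂ h₂ (g ⁻¹ᵁ W) le_rfl
    rw [rs_self] at hη
    have hb2 : b₁ * g.app W α = b₂ := by
      apply hη.1
      change (b₁ * g.app W α) • eta g M W ε₂ = b₂ • eta g M W ε₂
      rw [← hb, ← hα', eta_smul, mul_smul]
    have hnm : D₂.nm b₂ = D₁.nm b₁ * α ^ n₁ := by
      rw [D₂.nm_indep D₁, ← hb2, D₁.nm_mul]
      congr 1
      exact nm_map_of_mat_one D₁ o₁ α
    rw [hnm, ← hα', lpow_smul, smul_smul, mul_pow, ← pow_mul, e₁]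
  · have hs : Subsingleton Γ(X, W) := not_nontrivial_iff_subsingleton.mp hnt
    haveI : Subsingleton Γ(CohB1.tensorPow M R, W) := Module.subsingleton Γ(X, W) _
    exact Subsingleton.elim _ _

/-- **Lemma C'**: local norm sections of two charts agree on a common basic open. -/
theorem loc_compat [IsAffineHom g] {U₁ U₂ W : X.Opens} (hU₁ : IsAffineOpen U₁)
    (hU₂ : IsAffineOpen U₂) (hT₁ : IsTrivOn M U₁)
    (ε₁ : Γ(M, U₁)) (ε₂ : Γ(M, U₂)) (hε₂ : IsGen M U₂ ε₂)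
    {n₁ n₂ : ℕ} (D₁ : DualBasis (g.app U₁).hom n₁) (D₂ : DualBasis (g.app U₂).hom n₂)
    (o₁ : D₁.mat 1 = 1) (o₂ : D₂.mat 1 = 1)
    (σ : Coh.structureModule X' ⟶ (Scheme.Modules.pullback g).obj M)
    (b₁ : Γ(X', g ⁻¹ᵁ U₁)) (b₂ : Γ(X', g ⁻¹ᵁ U₂))
    (hb₁ : sec σ (g ⁻¹ᵁ U₁) = b₁ • eta g M U₁ ε₁) (hb₂ : sec σ (g ⁻¹ᵁ U₂) = b₂ • eta g M U₂ ε₂)
    (h₁ : W ≤ U₁) (h₂ : W ≤ U₂) (a₁ : Γ(X, U₁)) (a₂ : Γ(X, U₂))
    (hW₁ : W = X.basicOpen a₁) (hW₂ : W = X.basicOpen a₂)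
    (K₁ K₂ R : ℕ) (hR : 0 < R) (e₁ : n₁ * K₁ = R) (e₂ : n₂ * K₂ = R) :
    rs (CohB1.tensorPow M R) h₁ ((D₁.nm b₁) ^ K₁ • lpow M ε₁ R) =
      rs (CohB1.tensorPow M R) h₂ ((D₂.nm b₂) ^ K₂ • lpow M ε₂ R) := by
  obtain ⟨D₁', o₁', hD₁'⟩ := exists_dualBasis_of_eq_basicOpen g hU₁ h₁ a₁ hW₁ D₁
  obtain ⟨D₂', o₂', hD₂'⟩ := exists_dualBasis_of_eq_basicOpen g hU₂ h₂ a₂ hW₂ D₂
  rw [rs_smul, rs_smul, rf_pow, rf_pow, lpow_rs, lpow_rs, ← hD₁', ← hD₂']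
  refine loc_eq_of_same g M (IsTrivOn.of_le h₁ hT₁) _ _ (hε₂.rs h₂) D₁' D₂' (o₁' o₁) (o₂' o₂) _ _ ?_
    K₁ K₂ R hR e₁ e₂
  have k₁ := congrArg (rs ((Scheme.Modules.pullback g).obj M) (g.preimage_mono h₁)) hb₁
  have k₂ := congrArg (rs ((Scheme.Modules.pullback g).obj M) (g.preimage_mono h₂)) hb₂
  rw [rs_sec, rs_smul, eta_rs g M h₁] at k₁
  rw [rs_sec, rs_smul, eta_rs g M h₂] at k₂
  exact k₁.symm.trans k₂

/-- **Gluing** the local norm sections over a finite cover by charts. -/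
theorem exists_norm_section [IsAffineHom g] {ι : Type*} [Fintype ι] [DecidableEq ι]
    (U : ι → X.Opens) (hcov : (⊤ : X.Opens) ≤ ⨆ i, U i)
    (hU : ∀ i, IsAffineOpen (U i)) (hT : ∀ i, IsTrivOn M (U i))
    (ε : ∀ i, Γ(M, U i)) (hε : ∀ i, IsGen M (U i) (ε i))
    (n : ι → ℕ) (hn : ∀ i, 0 < n i) (D : ∀ i, DualBasis (g.app (U i)).hom (n i))
    (o : ∀ i, (D i).mat 1 = 1)
    (σ : Coh.structureModule X' ⟶ (Scheme.Modules.pullback g).obj M) :
    ∃ (R : ℕ) (_ : 0 < R) (t : Coh.structureModule X ⟶ CohB1.tensorPow M R),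
      ∀ i, ∃ (K : ℕ) (_ : 0 < K) (b : Γ(X', g ⁻¹ᵁ (U i))),
        sec σ (g ⁻¹ᵁ (U i)) = b • eta g M (U i) (ε i) ∧
        sec t (U i) = ((D i).nm b) ^ K • lpow M (ε i) R := by
  classical
  -- the coefficients
  have hb : ∀ i, ∃ b : Γ(X', g ⁻¹ᵁ (U i)), sec σ (g ⁻¹ᵁ (U i)) = b • eta g M (U i) (ε i) := by
    intro i
    have hη := isGen_eta g (hT i) le_rfl (ε i) (hε i) (g ⁻¹ᵁ (U i)) le_rfl
    rw [rs_self] at hη
    obtain ⟨b, hb⟩ := hη.2 (sec σ (g ⁻¹ᵁ (U i)))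
    exact ⟨b, hb.symm⟩
  choose b hb using hb
  let R : ℕ := ∏ i, n i
  let K : ι → ℕ := fun i => ∏ j ∈ Finset.univ.erase i, n j
  have hR : 0 < R := Finset.prod_pos fun i _ => hn i
  have hK : ∀ i, 0 < K i := fun i => Finset.prod_pos fun j _ => hn j
  have hnK : ∀ i, n i * K i = R := fun i => Finset.mul_prod_erase Finset.univ n (Finset.mem_univ i)
  let sf : ∀ i, (CohB1.tensorPow M R).val.obj (op (U i)) :=
    fun i => ((D i).nm (b i)) ^ (K i) • lpow M (ε i) R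
  have hsf : ∀ i j, res (CohB1.tensorPow M R) (inf_le_left : U i ⊓ U j ≤ U i) (sf i) =
      res (CohB1.tensorPow M R) (inf_le_right : U i ⊓ U j ≤ U j) (sf j) := by
    intro i j
    have hex : ∀ x : ↥(U i ⊓ U j), ∃ (f : Γ(X, U i)) (f' : Γ(X, U j)),
        X.basicOpen f = X.basicOpen f' ∧ x.1 ∈ X.basicOpen f :=
      fun x => exists_basicOpen_le_affine_inter (hU i) (hU j) x.1 x.2
    choose f f' hff' hxf using hex
    have hle : ∀ x : ↥(U i ⊓ U j), X.basicOpen (f x) ≤ U i ⊓ U j := fun x =>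
      le_inf (X.basicOpen_le _) ((hff' x).le.trans (X.basicOpen_le _))
    refine eq_of_cover (CohB1.tensorPow M R) (fun x : ↥(U i ⊓ U j) => X.basicOpen (f x)) (U i ⊓ U j)
      hle ?_ _ _ ?_
    · intro y hy
      exact Opens.mem_iSup.mpr ⟨⟨y, hy⟩, hxf ⟨y, hy⟩⟩
    · intro x
      rw [res_res, res_res]
      exact loc_compat g M (hU i) (hU j) (hT i) (ε i) (ε j) (hε j) (D i) (D j) (o i) (o j) σ
        (b i) (b j) (hb i) (hb j) _ _ (f x) (f' x) rfl (hff' x) (K i) (K j) R hR (hnK i) (hnK j)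
  obtain ⟨T, hTg⟩ := exists_glue (CohB1.tensorPow M R) U hcov sf hsf
  refine ⟨R, hR, homOfSec _ T, fun i => ⟨K i, hK i, b i, hb i, ?_⟩⟩
  exact (val_homOfSec _ T (U i)).trans (hTg i)

end Groth.Agent.Lib.Helper12.NormSec
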