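import Mathlib
import Groth.Agent.Lib.Helper12.NormInv1
import Groth.Agent.Lib.Helper12.NormSec5

/-!
# The norm of an invertible module (helper12), part 2: norms of sections

* `isGen_lpow_of_isGen`: tensor powers of generators generate.
* `coeff_compat`: the coefficients of a section of `L^{⊗ m}` in two charts differ by the `m`-th power of the transition
  function.
* `exists_normSec`: the norm `t` (a section of `N^{⊗ m}`) of a section `σ` of `L^{⊗ m}`.
* `normSec_loci`: `π⁻¹ (Y_t) ⊆ X_σ`, and `y ∈ Y_t` as soon as `π⁻¹ y ⊆ X_σ`.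
-/

set_option autoImplicit false
set_option linter.style.haveILetI false
universe u
open CategoryTheory AlgebraicGeometry Opposite TopologicalSpace
open Scheme.Modules

namespace Groth.Agent.Lib.helper12.NormInv

open Groth.Agent.Lib.Helper12.NormSec Groth.Agent.Lib.Helper18.PicGlue
open Groth.Agent.Lib.helper11.InvMod Groth.Agent.Lib.helper11.GenLocus
open Groth.Agent.Lib.helper12.TwistExtend Groth.Agent.Lib.helper12.AmpleBasis

variable {X Y : Scheme.{u}}

/-- tensor powers of a generator over an affine open generate. -/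
theorem isGen_lpow_of_isGen {M : X.Modules} (hM : PicF.IsInvertible M) {U : X.Opens}
    (hU : IsAffineOpen U) (ε : Γ(M, U)) (hε : IsGen M U ε) (m : ℕ) :
    IsGen (CohB1.tensorPow M m) U (lpow M ε m) := by
  have hb := hε U le_rfl
  rw [rs_self] at hb
  have hT : IsTrivOn M U :=
    Groth.Agent.Lib.Helper18.GenTriv.isTrivOn_of_forall_bijective M U ε (fun V h => hε V h)
  exact isGen_lpow hM hU hT ε hb m

section Sections

variable {π : X ⟶ Y} [IsAffineHom π] (Nr : PreNorm π) {L : X.Modules} (hL : PicF.IsInvertible L)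
  {ι : Type u} (U : ι → Y.Opens) (hUa : ∀ a, IsAffineOpen (U a))
  (e : ∀ a, Γ(L, π ⁻¹ᵁ U a)) (he : ∀ a, IsGen L (π ⁻¹ᵁ U a) (e a))

include hL hUa in
/-- the coefficients of a section in two charts differ by a power of the transition function. -/
theorem coeff_compat (m : ℕ) (σ : Coh.structureModule X ⟶ CohB1.tensorPow L m) (a b : ι)
    (ba : Γ(X, π ⁻¹ᵁ U a)) (bb : Γ(X, π ⁻¹ᵁ U b))
    (ha : sec σ (π ⁻¹ᵁ U a) = ba • lpow L (e a) m) (hb : sec σ (π ⁻¹ᵁ U b) = bb • lpow L (e b) m) :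
    rf (π.preimage_mono (inf_le_left : U a ⊓ U b ≤ U a)) ba *
        (tr π U e he a b (U a ⊓ U b) inf_le_left inf_le_right) ^ m =
      rf (π.preimage_mono (inf_le_right : U a ⊓ U b ≤ U b)) bb := by
  have hg := isGen_lpow_of_isGen hL ((hUa b).preimage π) (e b) (he b) m
  apply (hg (π ⁻¹ᵁ (U a ⊓ U b)) (π.preimage_mono inf_le_right)).1
  change (rf (π.preimage_mono (inf_le_left : U a ⊓ U b ≤ U a)) ba *
        (tr π U e he a b (U a ⊓ U b) inf_le_left inf_le_right) ^ m) •
      rs (CohB1.tensorPow L m) (π.preimage_mono (inf_le_right : U a ⊓ U b ≤ U b)) (lpow L (e b) m) =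
    rf (π.preimage_mono (inf_le_right : U a ⊓ U b ≤ U b)) bb •
      rs (CohB1.tensorPow L m) (π.preimage_mono (inf_le_right : U a ⊓ U b ≤ U b)) (lpow L (e b) m)
  have k1 := congrArg (rs (CohB1.tensorPow L m)
    (π.preimage_mono (inf_le_left : U a ⊓ U b ≤ U a))) ha
  have k2 := congrArg (rs (CohB1.tensorPow L m)
    (π.preimage_mono (inf_le_right : U a ⊓ U b ≤ U b))) hb
  rw [rs_sec, rs_smul, lpow_rs] at k1
  rw [rs_sec, rs_smul] at k2
  rw [← tr_spec π U e he a b (U a ⊓ U b) inf_le_left inf_le_right, lpow_smul, smul_smul,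
    ← lpow_rs] at k1
  rw [← k2, ← k1]

variable {N : Y.Modules} (hN : PicF.IsInvertible N) (n : ∀ a, Γ(N, U a))
  (hn : ∀ a, IsGen N (U a) (n a))
  (hrel : ∀ a b, rs N (inf_le_left : U a ⊓ U b ≤ U a) (n a) =
        ((etaN Nr U e he a b : (Γ(Y, U a ⊓ U b))ˣ) : Γ(Y, U a ⊓ U b)) •
          rs N (inf_le_right : U a ⊓ U b ≤ U b) (n b))

include hL hUa hrel in
/-- **the norm of a section** of `L^{⊗ m}`, a section of `N^{⊗ m}`. -/
theorem exists_normSec (hU : iSup U = ⊤) (m : ℕ)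
    (σ : Coh.structureModule X ⟶ CohB1.tensorPow L m) :
    ∃ t : Coh.structureModule Y ⟶ CohB1.tensorPow N m, ∀ a, ∃ b : Γ(X, π ⁻¹ᵁ U a),
      sec σ (π ⁻¹ᵁ U a) = b • lpow L (e a) m ∧
      sec t (U a) = Nr.norm (U a) b • lpow N (n a) m := by
  have hb : ∀ a, ∃ b : Γ(X, π ⁻¹ᵁ U a), sec σ (π ⁻¹ᵁ U a) = b • lpow L (e a) m := by
    intro a
    have hg := isGen_lpow_of_isGen hL ((hUa a).preimage π) (e a) (he a) m (π ⁻¹ᵁ U a) le_rfl
    rw [rs_self] at hg
    obtain ⟨b, hb⟩ := hg.2 (sec σ (π ⁻¹ᵁ U a))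
    exact ⟨b, hb.symm⟩
  choose b hb using hb
  let sf : ∀ a, (CohB1.tensorPow N m).val.obj (op (U a)) :=
    fun a => Nr.norm (U a) (b a) • lpow N (n a) m
  have hsf : ∀ i j, res (CohB1.tensorPow N m) (inf_le_left : U i ⊓ U j ≤ U i) (sf i) =
      res (CohB1.tensorPow N m) (inf_le_right : U i ⊓ U j ≤ U j) (sf j) := by
    intro i j
    change rs (CohB1.tensorPow N m) (inf_le_left : U i ⊓ U j ≤ U i)
        (Nr.norm (U i) (b i) • lpow N (n i) m) =
      rs (CohB1.tensorPow N m) (inf_le_right : U i ⊓ U j ≤ U j)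
        (Nr.norm (U j) (b j) • lpow N (n j) m)
    rw [rs_smul, rs_smul, lpow_rs, lpow_rs, hrel i j, lpow_smul, smul_smul, Nr.norm_res,
      Nr.norm_res, etaN_val, ← map_pow, ← map_mul,
      coeff_compat hL U hUa e he m σ i j (b i) (b j) (hb i) (hb j)]
  have hcov : (⊤ : Y.Opens) ≤ ⨆ a, U a := hU.ge
  obtain ⟨T, hTg⟩ := exists_glue (CohB1.tensorPow N m) U hcov sf hsf
  refine ⟨homOfSec _ T, fun a => ⟨b a, hb a, ?_⟩⟩
  exact (val_homOfSec _ T (U a)).trans (hTg a)

end Sections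

end Groth.Agent.Lib.helper12.NormInv
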