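import Mathlib
import Groth.Agent.Lib.Helper12.NormInv2
import Groth.Agent.Lib.Helper12.AmpleAvoid2
import Groth.Agent.Lib.Helper12.AmpleBasis2

/-!
# The norm of an invertible module (helper12), part 3: ampleness

* `mem_basicOpen_norm`, `preimage_basicOpen_norm_le`: the non-vanishing locus of the norm of a function.
* `normSec_loci`: `π⁻¹ (Y_t) ⊆ X_σ`, and `y ∈ Y_t` as soon as `π⁻¹ y ⊆ X_σ`, for the norm `t` of `σ`.
* `exists_isAmple_of_preNorm` (Stacks 0BCX-type, EGA II 6.6.2): if `π : X ⟶ Y` is finite surjective with a norm and `X`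
  has an ample invertible module `L`, then the norm of `L` is ample on `Y`.
-/

set_option autoImplicit false
set_option linter.style.haveILetI false
universe u
open CategoryTheory AlgebraicGeometry Opposite TopologicalSpace
open Scheme.Modules

namespace Groth.Agent.Lib.helper12.NormInv

open Groth.Agent.Lib.Helper12.NormSec Groth.Agent.Lib.Helper18.PicGlue
open Groth.Agent.Lib.helper11.InvMod Groth.Agent.Lib.helper11.GenLocus
open Groth.Agent.Lib.helper12.AmpleBasis Groth.Agent.Lib.helper12.AmpleBasis2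
open Groth.Agent.Lib.Helper12.AmpleAvoid

variable {X Y : Scheme.{u}}

section Loci

variable {π : X ⟶ Y} [IsFinite π] (Nr : PreNorm π)

/-- (a) if the whole fibre over `y ∈ V` lies in `D(b)` then `y ∈ D(Nm b)`. -/
theorem mem_basicOpen_norm (V : Y.Opens) (b : Γ(X, π ⁻¹ᵁ V)) (y : Y) (hy : y ∈ V)
    (hfib : ∀ x : X, π x = y → x ∈ X.basicOpen b) : y ∈ Y.basicOpen (Nr.norm V b) := by
  have hcl : IsClosed (π '' ((X.basicOpen b : Set X)ᶜ)) :=
    π.isClosedMap _ (X.basicOpen b).isOpen.isClosed_compl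
  let W₀ : Y.Opens := ⟨(π '' ((X.basicOpen b : Set X)ᶜ))ᶜ, hcl.isOpen_compl⟩
  let W : Y.Opens := V ⊓ W₀
  have hyW : y ∈ W := ⟨hy, by rintro ⟨z, hz, hzy⟩; exact hz (hfib z hzy)⟩
  have hWV : W ≤ V := inf_le_left
  have hWb : π ⁻¹ᵁ W ≤ X.basicOpen b := by
    intro x hx
    by_contra hcon
    exact hx.2 ⟨x, hcon, rfl⟩
  have hunit : IsUnit (rf (π.preimage_mono hWV) b) := by
    have h0 : IsUnit (rf (X.basicOpen_le b) b) :=
      RingedSpace.isUnit_res_basicOpen X.toRingedSpace b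
    have h1 := h0.map (X.presheaf.map (homOfLE hWb).op).hom
    change IsUnit (rf hWb (rf (X.basicOpen_le b) b)) at h1
    rw [rf_rf] at h1
    exact h1
  have hunit2 : IsUnit (rf hWV (Nr.norm V b)) := by
    rw [Nr.norm_res]
    exact hunit.map (Nr.norm W)
  have hb := Y.basicOpen_of_isUnit hunit2
  unfold rf at hb
  rw [Scheme.basicOpen_res] at hb
  exact (inf_eq_left.mp hb) hyW

omit [IsFinite π] in
/-- (b) `π⁻¹ (D(Nm b)) ⊆ D(b)`. -/
theorem preimage_basicOpen_norm_le (V : Y.Opens) (b : Γ(X, π ⁻¹ᵁ V)) :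
    π ⁻¹ᵁ Y.basicOpen (Nr.norm V b) ≤ X.basicOpen b :=
  Nr.norm_basicOpen V b

variable {L : X.Modules} (hL : PicF.IsInvertible L)
  {ι : Type u} (U : ι → Y.Opens) (hUa : ∀ a, IsAffineOpen (U a))
  (e : ∀ a, Γ(L, π ⁻¹ᵁ U a)) (he : ∀ a, IsGen L (π ⁻¹ᵁ U a) (e a))
  {N : Y.Modules} (hN : PicF.IsInvertible N) (n : ∀ a, Γ(N, U a))
  (hn : ∀ a, IsGen N (U a) (n a))

include hL hUa he hN hn in
/-- the loci of a section and of its norm. -/
theorem normSec_loci (hU : iSup U = ⊤) (m : ℕ)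
    (σ : Coh.structureModule X ⟶ CohB1.tensorPow L m)
    (t : Coh.structureModule Y ⟶ CohB1.tensorPow N m)
    (ht : ∀ a, ∃ b : Γ(X, π ⁻¹ᵁ U a), sec σ (π ⁻¹ᵁ U a) = b • lpow L (e a) m ∧
      sec t (U a) = Nr.norm (U a) b • lpow N (n a) m) :
    (∀ y : Y, (∀ x : X, π x = y → x ∈ CohB1.genLocus _ σ) → y ∈ CohB1.genLocus _ t) ∧
      π ⁻¹ᵁ (CohB1.genLocus _ t) ≤ CohB1.genLocus _ σ := by
  have key : ∀ a, ∃ b : Γ(X, π ⁻¹ᵁ U a),
      CohB1.genLocus _ σ ⊓ π ⁻¹ᵁ (U a) = X.basicOpen b ∧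
      CohB1.genLocus _ t ⊓ U a = Y.basicOpen (Nr.norm (U a) b) := by
    intro a
    obtain ⟨b, hb1, hb2⟩ := ht a
    exact ⟨b, genLocus_inf_eq_basicOpen_of_isGen σ _
        (isGen_lpow_of_isGen hL ((hUa a).preimage π) (e a) (he a) m) b hb1,
      genLocus_inf_eq_basicOpen_of_isGen t _
        (isGen_lpow_of_isGen hN (hUa a) (n a) (hn a) m) _ hb2⟩
  have hcov : ∀ y : Y, ∃ a, y ∈ U a := by
    intro y
    have hy : y ∈ iSup U := by rw [hU]; trivial
    exact Opens.mem_iSup.mp hy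
  refine ⟨?_, ?_⟩
  · intro y hy
    obtain ⟨a, ha⟩ := hcov y
    obtain ⟨b, hb1, hb2⟩ := key a
    have : y ∈ Y.basicOpen (Nr.norm (U a) b) := by
      refine mem_basicOpen_norm Nr (U a) b y ha fun x hx => ?_
      rw [← hb1]
      exact ⟨hy x hx, by change π x ∈ U a; rw [hx]; exact ha⟩
    rw [← hb2] at this
    exact this.1
  · intro x hx
    have hy : π x ∈ CohB1.genLocus _ t := hx
    obtain ⟨a, ha⟩ := hcov (π x)
    obtain ⟨b, hb1, hb2⟩ := key a
    have h1 : π x ∈ Y.basicOpen (Nr.norm (U a) b) := by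
      rw [← hb2]
      exact ⟨hy, ha⟩
    have h2 : x ∈ X.basicOpen b := preimage_basicOpen_norm_le Nr (U a) b h1
    rw [← hb1] at h2
    exact h2.1

end Loci

/-- **The norm of an ample invertible module is ample**, for given norm data: a cover of `Y` by affine opens `U a`,
generators `e a` of `L` over `π⁻¹ (U a)`, and an invertible module `N` on `Y` with generators `n a` over `U a` whose
transition cocycle is the norm of the transition cocycle of `L`. -/
theorem isAmple_of_normData (π : X ⟶ Y) [IsFinite π] (hsurj : Function.Surjective π)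
    (Nr : PreNorm π) {L : X.Modules} (hL : CohB1.IsAmple L)
    {ι : Type u} (U : ι → Y.Opens) (hUa : ∀ a, IsAffineOpen (U a)) (hU : iSup U = ⊤)
    (e : ∀ a, Γ(L, π ⁻¹ᵁ U a)) (he : ∀ a, IsGen L (π ⁻¹ᵁ U a) (e a))
    {N : Y.Modules} (hN : PicF.IsInvertible N) (n : ∀ a, Γ(N, U a))
    (hn : ∀ a, IsGen N (U a) (n a))
    (hrel : ∀ a b, rs N (inf_le_left : U a ⊓ U b ≤ U a) (n a) =
        ((etaN Nr U e he a b : (Γ(Y, U a ⊓ U b))ˣ) : Γ(Y, U a ⊓ U b)) •
          rs N (inf_le_right : U a ⊓ U b ≤ U b) (n b)) : CohB1.IsAmple N := by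
  haveI : CompactSpace X := hL.2.1
  haveI : CompactSpace Y := by
    refine ⟨?_⟩
    have := isCompact_univ.image π.continuous
    rwa [Set.image_univ, hsurj.range_eq] at this
  rw [isAmple_iff_isBasis hN, Opens.isBasis_iff_nbhd]
  intro W y hyW
  have hfin : (π ⁻¹' {y}).Finite := π.finite_preimage_singleton y
  obtain ⟨k, σ, -, hσW, hTσ⟩ := exists_section_of_finite hL (π ⁻¹ᵁ W) (π ⁻¹' {y}) hfin (by
    intro x hx
    change π x ∈ W
    rw [show π x = y from hx]
    exact hyW)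
  obtain ⟨t, ht⟩ := exists_normSec Nr hL.1 U hUa e he n hrel hU (k + 1) σ
  obtain ⟨h1, h2⟩ := normSec_loci Nr hL.1 U hUa e he hN n hn hU (k + 1) σ t ht
  refine ⟨CohB1.genLocus _ t, ⟨k, t, rfl⟩, h1 y (fun x hx => hTσ hx), ?_⟩
  intro y' hy'
  obtain ⟨x', rfl⟩ := hsurj y'
  exact hσW (h2 hy')

/-- **The norm of an ample invertible module is ample**: if `π : X ⟶ Y` is finite and surjective and has a norm, and
`L` is ample on `X`, then `Y` has an ample invertible module (the norm of `L`). -/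
theorem exists_isAmple_of_preNorm (π : X ⟶ Y) [IsFinite π] (hsurj : Function.Surjective π)
    (Nr : PreNorm π) {L : X.Modules} (hL : CohB1.IsAmple L) : ∃ N : Y.Modules, CohB1.IsAmple N := by
  have hex : ∀ y : Y, ∃ V : Y.Opens, IsAffineOpen V ∧ y ∈ V ∧ IsTrivOn L (π ⁻¹ᵁ V) := by
    intro y
    obtain ⟨W, hyW, hTW⟩ := exists_isTrivOn_preimage π hL.1 y
    obtain ⟨V, hV, hyV, hVW⟩ := Opens.isBasis_iff_nbhd.mp Y.isBasis_affineOpens hyW
    exact ⟨V, hV, hyV, IsTrivOn.of_le (π.preimage_mono hVW) hTW⟩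
  choose U hUa hyU hT using hex
  have hU : iSup U = ⊤ := by
    rw [eq_top_iff]
    intro y _
    exact Opens.mem_iSup.mpr ⟨y, hyU y⟩
  choose e he using fun a => exists_isGen_of_isTrivOn (hT a) le_rfl
  obtain ⟨N, n, hN, hn, hrel⟩ := exists_normMod Nr U e he hU
  exact ⟨N, isAmple_of_normData π hsurj Nr hL U hUa hU e he hN n hn hrel⟩

/-- the version for a norm of degree `d`. -/
theorem exists_isAmple_of_normOfDegree (π : X ⟶ Y) [IsFinite π] (d : ℕ) (Nd : Nrm.NormOfDegree π d)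
    (hsurj : Function.Surjective π) {L : X.Modules} (hL : CohB1.IsAmple L) :
    ∃ N : Y.Modules, CohB1.IsAmple N :=
  exists_isAmple_of_preNorm π hsurj (PreNorm.ofNormOfDegree Nd) hL

end Groth.Agent.Lib.helper12.NormInv
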