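import Mathlib

set_option autoImplicit false
universe u v w

namespace Groth.Agent.Lib.helper12.CSA

open Matrix.Module

section simpleIso

variable {R : Type*} [Ring R] [IsSimpleRing R] [IsArtinianRing R]

/-- Over a simple artinian ring any two simple modules are isomorphic. -/
theorem nonempty_linearEquiv_of_isSimpleModule (S₁ : Type*) (S₂ : Type*)
    [AddCommGroup S₁] [Module R S₁] [AddCommGroup S₂] [Module R S₂]
    [IsSimpleModule R S₁] [IsSimpleModule R S₂] : Nonempty (S₁ ≃ₗ[R] S₂) := by
  have h := IsSimpleRing.isIsotypic R (S₁ × S₂)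
  let e₁ : S₁ ≃ₗ[R] LinearMap.range (LinearMap.inl R S₁ S₂) :=
    LinearEquiv.ofInjective _ LinearMap.inl_injective
  let e₂ : S₂ ≃ₗ[R] LinearMap.range (LinearMap.inr R S₁ S₂) :=
    LinearEquiv.ofInjective _ LinearMap.inr_injective
  have : IsSimpleModule R (LinearMap.range (LinearMap.inl R S₁ S₂)) :=
    IsSimpleModule.congr e₁.symm
  have : IsSimpleModule R (LinearMap.range (LinearMap.inr R S₁ S₂)) :=
    IsSimpleModule.congr e₂.symm
  obtain ⟨f⟩ := h (LinearMap.range (LinearMap.inr R S₁ S₂)) (LinearMap.range (LinearMap.inl R S₁ S₂))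
  exact ⟨e₁.trans (f.trans e₂.symm)⟩

end simpleIso

section matrix

variable {D : Type v} [DivisionRing D] {n : ℕ}

/-- column vectors form a simple module over the matrix ring of a division ring -/
theorem isSimpleModule_matrix (hn : n ≠ 0) :
    IsSimpleModule (Matrix (Fin n) (Fin n) D) (Fin n → D) := by
  have : NeZero n := ⟨hn⟩
  rw [isSimpleModule_iff_toSpanSingleton_surjective]
  refine ⟨inferInstance, fun v hv w => ?_⟩
  obtain ⟨j, hj⟩ : ∃ j, v j ≠ 0 := by
    by_contra h
    push Not at h
    exact hv (funext h)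
  refine ⟨Matrix.of fun i l => if l = j then w i * (v j)⁻¹ else 0, ?_⟩
  ext i
  simp [LinearMap.toSpanSingleton_apply, inv_mul_cancel_right₀ hj]

/-- right multiplication by `d` on column vectors -/
def rho (n : ℕ) (d : D) : Module.End (Matrix (Fin n) (Fin n) D) (Fin n → D) where
  toFun v := fun i => v i * d
  map_add' v w := by ext i; simp [add_mul]
  map_smul' N v := by ext i; simp [Finset.sum_mul, mul_assoc]

@[simp] lemma rho_apply (d : D) (v : Fin n → D) (i : Fin n) : rho n d v i = v i * d := rfl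

/-- `Dᵐᵒᵖ → End_{M_n(D)}(D^n)` -/
def rhoHom (n : ℕ) : Dᵐᵒᵖ →+* Module.End (Matrix (Fin n) (Fin n) D) (Fin n → D) where
  toFun d := rho n d.unop
  map_one' := by ext v i; simp
  map_mul' a b := by ext v i; simp [mul_assoc]
  map_zero' := by ext v i; simp
  map_add' a b := by ext v i; simp [mul_add]

theorem rhoHom_bijective (hn : n ≠ 0) : Function.Bijective (rhoHom (D := D) n) := by
  have : NeZero n := ⟨hn⟩
  constructor
  · intro a b hab
    have := congrFun (LinearMap.congr_fun hab (fun _ => 1)) 0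
    simpa [rhoHom] using this
  · intro φ
    let e0 : Fin n → D := Pi.single 0 1
    refine ⟨MulOpposite.op (φ e0 0), ?_⟩
    ext v i
    let N : Matrix (Fin n) (Fin n) D := Matrix.of fun i l => if l = 0 then v i else 0
    have h1 : v = N • e0 := by
      ext i
      simp [N, e0]
    have h2 : φ e0 = Pi.single 0 (φ e0 0) := by
      have h3 : e0 = (Matrix.single (0 : Fin n) (0 : Fin n) (1 : D)) • e0 := by
        simp [e0]
      conv_lhs => rw [h3, map_smul]
      simp
    conv_rhs => rw [h1, map_smul, h2]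
    simp [rhoHom, N]

/-- `Dᵐᵒᵖ ≃+* End_{M_n(D)}(D^n)` -/
noncomputable def rhoEquiv (hn : n ≠ 0) :
    Dᵐᵒᵖ ≃+* Module.End (Matrix (Fin n) (Fin n) D) (Fin n → D) :=
  RingEquiv.ofBijective (rhoHom n) (rhoHom_bijective hn)

end matrix

end Groth.Agent.Lib.helper12.CSA
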