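import Mathlib
import Groth.Agent.S0190

set_option autoImplicit false
universe u v w
open scoped TensorProduct

namespace Groth.Agent.Lib.helper12.CSA

/-- base change of a central algebra along a field extension is central -/
theorem isCentral_baseChange (k : Type u) [Field k] (K : Type w) [Field K] [Algebra k K]
    (A : Type v) [Ring A] [Algebra k A] [Algebra.IsCentral k A] :
    Algebra.IsCentral K (K ⊗[k] A) := by
  have key : ∀ w : K ⊗[k] (Subalgebra.center k A), ∃ c : K,
      (Algebra.TensorProduct.map (AlgHom.id k K) (Subalgebra.center k A).val) w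
        = c ⊗ₜ[k] (1 : A) := by
    intro w
    induction w using TensorProduct.induction_on with
    | zero => exact ⟨0, by simp⟩
    | tmul c a =>
      obtain ⟨a, ha⟩ := a
      have ha' : a ∈ (⊥ : Subalgebra k A) := Algebra.IsCentral.out ha
      obtain ⟨r, hr⟩ := Algebra.mem_bot.mp ha'
      refine ⟨r • c, ?_⟩
      simp only [Algebra.TensorProduct.map_tmul, AlgHom.coe_id, id_eq, Subalgebra.coe_val]
      rw [← hr, Algebra.algebraMap_eq_smul_one, TensorProduct.tmul_smul, TensorProduct.smul_tmul']
    | add x y hx hy =>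
      obtain ⟨c, hc⟩ := hx
      obtain ⟨d, hd⟩ := hy
      exact ⟨c + d, by rw [map_add, hc, hd, TensorProduct.add_tmul]⟩
  refine ⟨fun z hz => ?_⟩
  rw [Subalgebra.mem_center_iff] at hz
  have h1 : z ∈ Subalgebra.centralizer k
      ((Algebra.TensorProduct.includeRight : A →ₐ[k] K ⊗[k] A).range : Set (K ⊗[k] A)) := by
    rw [Subalgebra.mem_centralizer_iff]
    intro g _
    exact hz g
  rw [Subalgebra.centralizer_range_includeRight_eq_center_tensorProduct] at h1
  obtain ⟨w, rfl⟩ := h1
  obtain ⟨c, hc⟩ := key w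
  rw [Algebra.mem_bot]
  exact ⟨c, by rw [Algebra.TensorProduct.algebraMap_apply]; exact hc.symm⟩

/-- a finite-dimensional central division algebra over a separably closed field is trivial -/
theorem algebraMap_surjective_of_isSepClosed (K : Type u) [Field K] [IsSepClosed K]
    (D : Type v) [DivisionRing D] [Algebra K D] [Algebra.IsCentral K D] [FiniteDimensional K D] :
    Function.Surjective (algebraMap K D) := by
  have halg : Algebra.IsAlgebraic K D := Algebra.IsAlgebraic.of_finite K D
  by_contra hns
  have hne : (⊥ : Subalgebra K D) ≠ ⊤ := by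
    intro h
    apply hns
    intro d
    have : d ∈ (⊥ : Subalgebra K D) := h ▸ Algebra.mem_top
    exact Algebra.mem_bot.mp this
  obtain ⟨x, hx, hsep⟩ := JacobsonNoether.exists_separable_and_not_isCentral' hne
  apply hx
  have hint : IsIntegral K x := (halg.isAlgebraic x).isIntegral
  have hirr := minpoly.irreducible hint
  obtain ⟨c, hc⟩ := IsSepClosed.exists_root (minpoly K x)
    (by rw [Ne, Polynomial.degree_eq_natDegree (minpoly.ne_zero hint)]
        exact_mod_cast (minpoly.natDegree_pos hint).ne') hsep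
  have hdeg := Polynomial.degree_eq_one_of_irreducible_of_root hirr hc
  obtain ⟨r, hr⟩ := minpoly.mem_range_of_degree_eq_one K x hdeg
  exact Algebra.mem_bot.mpr ⟨r, hr⟩

/-- a finite-dimensional central simple algebra over a separably closed field is a matrix algebra -/
theorem exists_algEquiv_matrix_of_isSepClosed (K : Type u) [Field K] [IsSepClosed K]
    (B : Type v) [Ring B] [Algebra K B] [Algebra.IsCentral K B] [IsSimpleRing B]
    [FiniteDimensional K B] :
    ∃ n : ℕ, n ≠ 0 ∧ Nonempty (B ≃ₐ[K] Matrix (Fin n) (Fin n) K) := by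
  have := IsArtinianRing.of_finite K B
  obtain ⟨n, hn, D, _, _, _, ⟨e⟩⟩ := IsSimpleRing.exists_algEquiv_matrix_divisionRing_finite K B
  have hcM : Algebra.IsCentral K (Matrix (Fin n) (Fin n) D) := Algebra.IsCentral.of_algEquiv K _ _ e
  have hcD : Algebra.IsCentral K D := by
    refine ⟨fun z hz => ?_⟩
    have h1 : Matrix.scalarAlgHom (Fin n) K z ∈ Subalgebra.center K (Matrix (Fin n) (Fin n) D) := by
      rw [Matrix.subalgebraCenter_eq_scalarAlgHom_map]
      exact ⟨z, hz, rfl⟩
    have h2 := hcM.out h1
    obtain ⟨r, hr⟩ := Algebra.mem_bot.mp h2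
    rw [Algebra.mem_bot]
    refine ⟨r, ?_⟩
    have := congrFun (congrFun hr 0) 0
    simpa [Matrix.algebraMap_matrix_apply] using this
  have hsurj := algebraMap_surjective_of_isSepClosed K D
  refine ⟨n, hn.out, ⟨e.trans (AlgEquiv.mapMatrix (AlgEquiv.symm
    (AlgEquiv.ofBijective (Algebra.ofId K D) ⟨(algebraMap K D).injective, hsurj⟩)))⟩⟩

section descent
variable (k : Type u) [Field k] (K : Type w) [Field K] [Algebra k K]
    (A : Type v) [Ring A] [Algebra k A]

theorem finiteDimensional_of_baseChange [FiniteDimensional K (K ⊗[k] A)] :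
    FiniteDimensional k A := by
  have h1 : Module.rank K (K ⊗[k] A) < Cardinal.aleph0 := Module.rank_lt_aleph0 K _
  rw [Module.rank_baseChange, Cardinal.lift_lt_aleph0] at h1
  exact Module.rank_lt_aleph0_iff.mp h1

theorem nontrivial_of_baseChange [Nontrivial (K ⊗[k] A)] : Nontrivial A := by
  by_contra h
  rw [not_nontrivial_iff_subsingleton] at h
  have : Subsingleton (K ⊗[k] A) := inferInstance
  exact not_subsingleton (K ⊗[k] A) this

theorem isSimpleRing_of_baseChange [IsSimpleRing (K ⊗[k] A)] : IsSimpleRing A := by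
  have : Nontrivial A := nontrivial_of_baseChange k K A
  refine IsSimpleRing.of_eq_bot_or_eq_top fun I => ?_
  by_cases hI : I = ⊤
  · exact Or.inr hI
  left
  have hnt : Nontrivial I.ringCon.Quotient := by
    rw [← not_subsingleton_iff_nontrivial]
    intro hs
    apply hI
    rw [eq_top_iff]
    intro x _
    rw [TwoSidedIdeal.mem_iff]
    exact Quotient.eq'.1 (hs.elim (x : I.ringCon.Quotient) 0)
  let π : A →ₐ[k] I.ringCon.Quotient :=
    { I.ringCon.mk' with commutes' := fun _ => rfl }
  let ψ : K ⊗[k] A →ₐ[K] K ⊗[k] I.ringCon.Quotient :=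
    Algebra.TensorProduct.map (AlgHom.id K K) π
  have hnt' : Nontrivial (K ⊗[k] I.ringCon.Quotient) := by
    have hinj : Function.Injective (Algebra.TensorProduct.includeLeft :
        K →ₐ[k] K ⊗[k] I.ringCon.Quotient) :=
      Algebra.TensorProduct.includeLeft_injective (FaithfulSMul.algebraMap_injective k _)
    exact hinj.nontrivial
  have hψ : Function.Injective ψ := RingHom.injective ψ.toRingHom
  rw [eq_bot_iff]
  intro x hx
  rw [TwoSidedIdeal.mem_bot]
  have h0 : π x = 0 := by
    change (I.ringCon.mk' x : I.ringCon.Quotient) = 0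
    have : I.ringCon x 0 := (TwoSidedIdeal.mem_iff I x).mp hx
    exact Quotient.sound this
  have h1 : ψ ((1 : K) ⊗ₜ[k] x) = 0 := by
    simp only [ψ, Algebra.TensorProduct.map_tmul, h0, TensorProduct.tmul_zero]
  have h2 : (1 : K) ⊗ₜ[k] x = 0 := hψ (by rw [h1, map_zero])
  have hinj : Function.Injective (Algebra.TensorProduct.includeRight : A →ₐ[k] K ⊗[k] A) :=
    Algebra.TensorProduct.includeRight_injective (FaithfulSMul.algebraMap_injective k K)
  exact hinj (by simpa using h2)

theorem isCentral_of_baseChange [Algebra.IsCentral K (K ⊗[k] A)] : Algebra.IsCentral k A := by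
  refine ⟨fun z hz => ?_⟩
  by_contra hzb
  have hz' : (1 : K) ⊗ₜ[k] z ∈ Subalgebra.center K (K ⊗[k] A) := by
    rw [Subalgebra.mem_center_iff]
    intro b
    induction b using TensorProduct.induction_on with
    | zero => simp
    | tmul c a =>
      rw [Subalgebra.mem_center_iff] at hz
      simp [hz a]
    | add x y hx hy => rw [add_mul, mul_add, hx, hy]
  obtain ⟨c, hc⟩ := Algebra.mem_bot.mp (Algebra.IsCentral.out hz')
  rw [Algebra.TensorProduct.algebraMap_apply, Algebra.algebraMap_self, RingHom.id_apply] at hc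
  -- a functional killing 1 but not z
  have hz1 : z ∉ Submodule.span k {(1 : A)} := by
    intro h
    apply hzb
    obtain ⟨r, hr⟩ := Submodule.mem_span_singleton.mp h
    exact Algebra.mem_bot.mpr ⟨r, by rw [Algebra.algebraMap_eq_smul_one, hr]⟩
  obtain ⟨φ, hφz, hφ1⟩ := Submodule.exists_dual_map_eq_bot_of_notMem hz1 inferInstance
  have hφ1' : φ 1 = 0 := by
    have : φ 1 ∈ (Submodule.span k {(1 : A)}).map φ :=
      ⟨1, Submodule.subset_span rfl, rfl⟩
    rw [hφ1] at this
    exact (Submodule.mem_bot k).mp this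
  let Φ : K ⊗[k] A →ₗ[k] K := (TensorProduct.rid k K).toLinearMap ∘ₗ (LinearMap.lTensor K φ)
  have e1 : Φ (c ⊗ₜ[k] 1) = 0 := by simp [Φ, hφ1']
  have e2 : Φ ((1 : K) ⊗ₜ[k] z) = φ z • (1 : K) := by simp [Φ]
  rw [hc, e2] at e1
  exact hφz (by simpa using e1)

end descent

end Groth.Agent.Lib.helper12.CSA
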