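import Mathlib
import Groth.Agent.Lib.Helper12.CSA2

set_option autoImplicit false
universe u v w
open scoped TensorProduct

namespace Groth.Agent.Lib.helper12.CSA

section finiteDescent
variable (k : Type u) [Field k] (K : Type w) [Field K] [Algebra k K]
    (A : Type v) [Ring A] [Algebra k A] [Algebra.IsCentral k A] [IsSimpleRing A]
    [FiniteDimensional k A]

/-- A splitting over `K` descends to every intermediate field containing a suitable finite set. -/
theorem exists_finite_set_splits (n : ℕ) (hn : n ≠ 0)
    (e : K ⊗[k] A ≃ₐ[K] Matrix (Fin n) (Fin n) K) :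
    ∃ S : Set K, S.Finite ∧ ∀ k' : IntermediateField k K, S ⊆ k' →
      Nonempty (k' ⊗[k] A ≃ₐ[k'] Matrix (Fin n) (Fin n) k') := by
  have : NeZero n := ⟨hn⟩
  let b := Module.finBasis k A
  let g : A →ₐ[k] Matrix (Fin n) (Fin n) K :=
    (e.toAlgHom.restrictScalars k).comp Algebra.TensorProduct.includeRight
  refine ⟨Set.range (fun p : Fin (Module.finrank k A) × Fin n × Fin n => g (b p.1) p.2.1 p.2.2),
    Set.finite_range _, fun k' hk' => ?_⟩
  have claim : ∀ (a : A) (i j : Fin n), g a i j ∈ k' := by
    intro a i j
    rw [← b.sum_repr a, map_sum, Matrix.sum_apply]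
    refine sum_mem fun l _ => ?_
    rw [map_smul, Matrix.smul_apply]
    exact k'.smul_mem (hk' ⟨(l, i, j), rfl⟩)
  let ι : Matrix (Fin n) (Fin n) k' →+* Matrix (Fin n) (Fin n) K := (algebraMap k' K).mapMatrix
  have hι : Function.Injective ι := Matrix.map_injective (algebraMap k' K).injective
  let F : A → Matrix (Fin n) (Fin n) k' := fun a => Matrix.of fun i j => ⟨g a i j, claim a i j⟩
  have hF : ∀ a, ι (F a) = g a := fun a => by
    ext i j
    rfl
  let f₀ : A →ₐ[k] Matrix (Fin n) (Fin n) k' :=
    { toFun := F
      map_one' := hι (by rw [hF, map_one, map_one])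
      map_mul' := fun x y => hι (by rw [hF, map_mul, map_mul, hF, hF])
      map_zero' := hι (by rw [hF, map_zero, map_zero])
      map_add' := fun x y => hι (by rw [hF, map_add, map_add, hF, hF])
      commutes' := fun r => hι (by
        rw [hF, AlgHom.commutes]
        ext i j
        change (algebraMap k (Matrix (Fin n) (Fin n) K) r) i j =
          algebraMap k' K ((algebraMap k (Matrix (Fin n) (Fin n) k') r) i j)
        rw [Matrix.algebraMap_matrix_apply, Matrix.algebraMap_matrix_apply]
        split_ifs
        · exact IsScalarTower.algebraMap_apply k k' K r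
        · exact (map_zero _).symm) }
  let f : k' ⊗[k] A →ₐ[k'] Matrix (Fin n) (Fin n) k' :=
    Algebra.TensorProduct.lift (Algebra.ofId k' _) f₀ (fun x y => Algebra.commutes x (f₀ y))
  have hsimple : IsSimpleRing (k' ⊗[k] A) := Groth.Agent.S0190.main k k' A
  have hinj : Function.Injective f := RingHom.injective f.toRingHom
  have hdim : Module.finrank k' (k' ⊗[k] A) = Module.finrank k' (Matrix (Fin n) (Fin n) k') := by
    have h1 : Module.finrank k' (k' ⊗[k] A) = Module.finrank k A := Module.finrank_baseChange
    have h2 : Module.finrank K (K ⊗[k] A) = Module.finrank k A := Module.finrank_baseChange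
    rw [h1, ← h2, e.toLinearEquiv.finrank_eq, Module.finrank_matrix, Module.finrank_matrix]
    simp
  have hsurj : Function.Surjective f :=
    (LinearMap.injective_iff_surjective_of_finrank_eq_finrank (f := f.toLinearMap) hdim).mp hinj
  exact ⟨AlgEquiv.ofBijective f ⟨hinj, hsurj⟩⟩

end finiteDescent

end Groth.Agent.Lib.helper12.CSA
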