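import Mathlib
import Groth.Agent.Lib.Helper12.CSA3
import Groth.Agent.S0193

set_option autoImplicit false
universe u v w
open scoped TensorProduct

namespace Groth.Agent.Lib.helper12.CSA

section subfieldSplits
variable (k : Type u) [Field k] (K : Type w) [Field K] [Algebra k K] [FiniteDimensional k K]
    (B : Type v) [Ring B] [Algebra k B] [Algebra.IsCentral k B] [IsSimpleRing B]
    [FiniteDimensional k B]

/-- A subfield `K` of a CSA `B` with `dim B = [K:k]^2` splits `B`. -/
theorem splits_of_algHom (ι : K →ₐ[k] B)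
    (h : Module.finrank k B = Module.finrank k K ^ 2) :
    ∃ n : ℕ, n ≠ 0 ∧ Nonempty (K ⊗[k] B ≃ₐ[K] Matrix (Fin n) (Fin n) K) := by
  let ιop : K →+* Bᵐᵒᵖ := ι.toRingHom.toOpposite (fun x y => by
    change ι x * ι y = ι y * ι x
    rw [← map_mul, ← map_mul, mul_comm])
  let _ : Module K B := Module.compHom B ιop
  have hsm : ∀ (c : K) (v : B), c • v = v * ι c := fun c v => rfl
  have : IsScalarTower k K B := ⟨fun r c v => by
    rw [hsm, hsm, map_smul, mul_smul_comm]⟩
  have : SMulCommClass K k B := ⟨fun c r v => by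
    rw [hsm, hsm, smul_mul_assoc]⟩
  have : Module.Finite K B := Module.Finite.of_restrictScalars_finite k K B
  let lam : B →ₐ[k] Module.End K B :=
    { toFun := fun b =>
        { toFun := fun v => b * v
          map_add' := fun v w => mul_add b v w
          map_smul' := fun c v => by
            simp only [hsm, RingHom.id_apply, mul_assoc] }
      map_one' := by ext v; simp
      map_mul' := fun a b => by ext v; simp [mul_assoc]
      map_zero' := by ext v; simp
      map_add' := fun a b => by ext v; simp [add_mul]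
      commutes' := fun r => by
        ext v
        simp [Algebra.algebraMap_eq_smul_one] }
  let Φ : K ⊗[k] B →ₐ[K] Module.End K B :=
    Algebra.TensorProduct.lift (Algebra.ofId K (Module.End K B)) lam
      (fun c b => by
        ext v
        simp [lam, hsm, Algebra.ofId_apply, Algebra.algebraMap_eq_smul_one, mul_assoc])
  have hsimple : IsSimpleRing (K ⊗[k] B) := Groth.Agent.S0190.main k K B
  have hinj : Function.Injective Φ := RingHom.injective Φ.toRingHom
  have hdpos : 0 < Module.finrank k K := Module.finrank_pos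
  have hKB : Module.finrank K B = Module.finrank k K := by
    have h1 := Module.finrank_mul_finrank k K B
    rw [h, pow_two] at h1
    exact Nat.eq_of_mul_eq_mul_left hdpos h1
  have hdim : Module.finrank K (K ⊗[k] B) = Module.finrank K (Module.End K B) := by
    have h1 : Module.finrank K (K ⊗[k] B) = Module.finrank k B := Module.finrank_baseChange
    rw [h1, Module.finrank_linearMap, hKB, h, pow_two]
  have hsurj : Function.Surjective Φ :=
    (LinearMap.injective_iff_surjective_of_finrank_eq_finrank (f := Φ.toLinearMap) hdim).mp hinj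
  let bas : Module.Basis (Fin (Module.finrank k K)) K B := Module.finBasisOfFinrankEq K B hKB
  exact ⟨Module.finrank k K, hdpos.ne', ⟨(AlgEquiv.ofBijective Φ ⟨hinj, hsurj⟩).trans
    (algEquivMatrix bas)⟩⟩

end subfieldSplits

section brauerInvariance
variable (k : Type u) [Field k] (K : Type w) [Field K] [Algebra k K]

/-- one-by-one matrices -/
def oneByOne : Matrix (Fin 1) (Fin 1) K ≃ₐ[K] K where
  toFun M := M 0 0
  invFun c := Matrix.of fun _ _ => c
  left_inv M := by
    ext i j
    fin_cases i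
    fin_cases j
    rfl
  right_inv c := rfl
  map_mul' M N := by simp [Matrix.mul_apply]
  map_add' M N := rfl
  commutes' r := by simp [Matrix.algebraMap_matrix_apply]

/-- `K ⊗ M_n(A) ≃ M_n(K ⊗ A)` as `K`-algebras. -/
noncomputable def baseChangeMatrix (A : Type v) [Ring A] [Algebra k A] (n : ℕ) :
    K ⊗[k] Matrix (Fin n) (Fin n) A ≃ₐ[K] Matrix (Fin n) (Fin n) (K ⊗[k] A) :=
  (Algebra.TensorProduct.congr (oneByOne K).symm
      (AlgEquiv.refl (R := k) (A₁ := Matrix (Fin n) (Fin n) A))).trans
    ((Matrix.kroneckerTMulAlgEquiv (Fin 1) (Fin n) k K K A).trans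
      (Matrix.reindexAlgEquiv K _ (Equiv.uniqueProd (Fin n) (Fin 1))))

/-- Splitting is invariant under Brauer equivalence. -/
theorem splits_of_matrix_algEquiv
    (A : Type v) [Ring A] [Algebra k A] [Algebra.IsCentral k A] [IsSimpleRing A]
    [FiniteDimensional k A]
    (B : Type v) [Ring B] [Algebra k B]
    (n m : ℕ) (hn : n ≠ 0) (hm : m ≠ 0)
    (e : Matrix (Fin n) (Fin n) A ≃ₐ[k] Matrix (Fin m) (Fin m) B)
    (d : ℕ) (hd : d ≠ 0) (eB : K ⊗[k] B ≃ₐ[K] Matrix (Fin d) (Fin d) K) :
    ∃ r : ℕ, r ≠ 0 ∧ Nonempty (K ⊗[k] A ≃ₐ[K] Matrix (Fin r) (Fin r) K) := by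
  have : IsSimpleRing (K ⊗[k] A) := Groth.Agent.S0190.main k K A
  have := IsArtinianRing.of_finite K (K ⊗[k] A)
  obtain ⟨r, hr, D', _, _, _, ⟨w⟩⟩ :=
    IsSimpleRing.exists_algEquiv_matrix_divisionRing_finite K (K ⊗[k] A)
  let c1 : Matrix (Fin n) (Fin n) (Matrix (Fin r) (Fin r) D') ≃ₐ[K]
      Matrix (Fin m) (Fin m) (Matrix (Fin d) (Fin d) K) :=
    (AlgEquiv.mapMatrix w).symm.trans ((baseChangeMatrix k K A n).symm.trans
      ((Algebra.TensorProduct.congr (AlgEquiv.refl (R := K) (A₁ := K)) e).trans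
        ((baseChangeMatrix k K B m).trans (AlgEquiv.mapMatrix eB))))
  let c2 : Matrix (Fin (n * r)) (Fin (n * r)) D' ≃ₐ[K] Matrix (Fin (m * d)) (Fin (m * d)) K :=
    (Matrix.reindexAlgEquiv K D' finProdFinEquiv).symm.trans
      ((Matrix.compAlgEquiv (Fin n) (Fin r) D' K).symm.trans
        (c1.trans ((Matrix.compAlgEquiv (Fin m) (Fin d) K K).trans
          (Matrix.reindexAlgEquiv K K finProdFinEquiv))))
  obtain ⟨t⟩ := Groth.Agent.S0193.main K D' K (n * r) (m * d)
    (Nat.mul_ne_zero hn hr.out) (Nat.mul_ne_zero hm hd) c2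
  exact ⟨r, hr.out, ⟨w.trans (AlgEquiv.mapMatrix t)⟩⟩

end brauerInvariance

end Groth.Agent.Lib.helper12.CSA
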