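import Mathlib
import Groth.Agent.Lib.Helper12.CSA4
import Groth.Agent.Lib.Helper8.CSA

set_option autoImplicit false
universe u v w
open scoped TensorProduct

namespace Groth.Agent.Lib.helper12.CSA

section azumaya
variable (k : Type u) [Field k] (B : Type v) [Ring B] [Algebra k B] [Algebra.IsCentral k B]
    [IsSimpleRing B] [FiniteDimensional k B]

/-- `B ⊗ Bᵐᵒᵖ ≃ M_N(k)` for a CSA `B` of dimension `N`. -/
theorem nonempty_tensor_op_algEquiv_matrix :
    Nonempty (B ⊗[k] Bᵐᵒᵖ ≃ₐ[k]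
      Matrix (Fin (Module.finrank k B)) (Fin (Module.finrank k B)) k) := by
  have hs : IsSimpleRing (B ⊗[k] Bᵐᵒᵖ) := Groth.Agent.S0190.main k B Bᵐᵒᵖ
  have hinj : Function.Injective (AlgHom.mulLeftRight k B) :=
    RingHom.injective (AlgHom.mulLeftRight k B).toRingHom
  have hop : Module.finrank k Bᵐᵒᵖ = Module.finrank k B :=
    (MulOpposite.opLinearEquiv k : B ≃ₗ[k] Bᵐᵒᵖ).finrank_eq.symm
  have hdim : Module.finrank k (B ⊗[k] Bᵐᵒᵖ) = Module.finrank k (Module.End k B) := by
    rw [Module.finrank_tensorProduct, hop, Module.finrank_linearMap]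
  have : Module.Finite k Bᵐᵒᵖ := Module.Finite.equiv (MulOpposite.opLinearEquiv k : B ≃ₗ[k] Bᵐᵒᵖ)
  have hsurj : Function.Surjective (AlgHom.mulLeftRight k B) :=
    (LinearMap.injective_iff_surjective_of_finrank_eq_finrank
      (f := (AlgHom.mulLeftRight k B).toLinearMap) hdim).mp hinj
  exact ⟨(AlgEquiv.ofBijective (AlgHom.mulLeftRight k B) ⟨hinj, hsurj⟩).trans
    (algEquivMatrix (Module.finBasis k B))⟩

end azumaya

section embed
variable (k : Type u) [Field k] (A : Type u) [Ring A] [Algebra k A] [Algebra.IsCentral k A]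
    [IsSimpleRing A] [FiniteDimensional k A]
    (k' : Type u) [Field k'] [Algebra k k'] [FiniteDimensional k k']

theorem isCentral_of_algEquiv' {K : Type*} [Field K] {B : Type*} {C : Type*} [Ring B] [Ring C]
    [Algebra K B] [Algebra K C] (e : B ≃ₐ[K] C) [Algebra.IsCentral K C] : Algebra.IsCentral K B := by
  refine ⟨fun z hz => ?_⟩
  rw [Subalgebra.mem_center_iff] at hz
  have h1 : e z ∈ Subalgebra.center K C := by
    rw [Subalgebra.mem_center_iff]
    intro c
    have := congrArg e (hz (e.symm c))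
    simpa using this
  obtain ⟨r, hr⟩ := Algebra.mem_bot.mp (Algebra.IsCentral.out h1)
  exact Algebra.mem_bot.mpr ⟨r, e.injective (by rw [← hr, e.commutes])⟩

/-- core construction with an abstract ambient CSA `E`. -/
theorem exists_csa_core (E : Type u) [Ring E] [Algebra k E] [Algebra.IsCentral k E]
    [IsSimpleRing E] [FiniteDimensional k E]
    (α : A →ₐ[k] E) (κ : k' →ₐ[k] E) (hcomm : ∀ a c, α a * κ c = κ c * α a)
    (N : ℕ) (hN : N ≠ 0) (eE : E ≃ₐ[k] Matrix (Fin N) (Fin N) k)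
    (hdim : Module.finrank k E = Module.finrank k A * Module.finrank k k' ^ 2) :
    ∃ (B' : Type u) (_ : Ring B') (_ : Algebra k B') (_ : Algebra.IsCentral k B')
      (_ : IsSimpleRing B') (_ : FiniteDimensional k B') (_ : k' →ₐ[k] B'ᵐᵒᵖ),
      Module.finrank k B' = Module.finrank k k' ^ 2 ∧
      ∃ n' m' : ℕ, n' ≠ 0 ∧ m' ≠ 0 ∧
        Nonempty (Matrix (Fin n') (Fin n') A ≃ₐ[k] Matrix (Fin m') (Fin m') B'ᵐᵒᵖ) := by
  have hstruct := Groth.Agent.Lib.Helper8.CSA.centralizer_range_structure k E A α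
  have hκ0 : ∀ c, κ c ∈ Subalgebra.centralizer k (Set.range α) := by
    intro c
    rw [Subalgebra.mem_centralizer_iff]
    rintro _ ⟨a, rfl⟩
    exact hcomm a c
  have hmem0 : ∀ x ∈ Subalgebra.centralizer k (Set.range α), ∀ y, Commute x (α y) :=
    fun x hx y => ((Subalgebra.mem_centralizer_iff k).mp hx (α y) ⟨y, rfl⟩).symm
  obtain ⟨B', hB'⟩ : ∃ B' : Subalgebra k E,
      B' = Subalgebra.centralizer k (Set.range α) := ⟨_, rfl⟩
  rw [← hB'] at hstruct hκ0 hmem0
  obtain ⟨hB's, hdimE⟩ := hstruct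
  have hApos : 0 < Module.finrank k A := Module.finrank_pos
  have hdimB : Module.finrank k B' = Module.finrank k k' ^ 2 := by
    rw [hdim] at hdimE
    exact (Nat.eq_of_mul_eq_mul_left hApos hdimE).symm
  -- B' ⊗ A ≃ E
  let Ψ : B' ⊗[k] A →ₐ[k] E :=
    Algebra.TensorProduct.lift B'.val α (fun x y => hmem0 x.1 x.2 y)
  have hsBA : IsSimpleRing (B' ⊗[k] A) := Groth.Agent.S0190.main k B' A
  have hΨinj : Function.Injective Ψ := RingHom.injective Ψ.toRingHom
  have hΨdim : Module.finrank k (B' ⊗[k] A) = Module.finrank k E := by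
    rw [Module.finrank_tensorProduct, hdimE, mul_comm]
  have hΨsurj : Function.Surjective Ψ :=
    (LinearMap.injective_iff_surjective_of_finrank_eq_finrank (f := Ψ.toLinearMap) hΨdim).mp hΨinj
  let Ψe := AlgEquiv.ofBijective Ψ ⟨hΨinj, hΨsurj⟩
  have hcBA : Algebra.IsCentral k (B' ⊗[k] A) := isCentral_of_algEquiv' Ψe
  have hcB : Algebra.IsCentral k B' := Algebra.IsCentral.left_of_tensor_of_field k B' A
  -- the embedding of k'
  let κ' : k' →ₐ[k] B' := κ.codRestrict _ hκ0
  let ι' : k' →ₐ[k] B'ᵐᵒᵖ :=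
    AlgHom.toOpposite κ' (fun x y => by
      change κ' x * κ' y = κ' y * κ' x
      rw [← map_mul, ← map_mul, mul_comm])
  refine ⟨B', inferInstance, inferInstance, hcB, hB's, inferInstance, ι', hdimB, ?_⟩
  -- Brauer equivalence
  obtain ⟨t2⟩ := nonempty_tensor_op_algEquiv_matrix k B'
  have hBpos : 0 < Module.finrank k B' := Module.finrank_pos
  refine ⟨Module.finrank k B', N, hBpos.ne', hN, ⟨?_⟩⟩
  exact (matrixEquivTensor (Fin (Module.finrank k B')) k A).trans
    ((Algebra.TensorProduct.congr (AlgEquiv.refl (R := k) (A₁ := A)) t2.symm).trans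
      ((Algebra.TensorProduct.assoc k k k A B' B'ᵐᵒᵖ).symm.trans
        ((Algebra.TensorProduct.congr
            ((Algebra.TensorProduct.comm k A B').trans (Ψe.trans eE))
            (AlgEquiv.refl (R := k) (A₁ := B'ᵐᵒᵖ))).trans
          ((Algebra.TensorProduct.comm k _ _).trans
            (matrixEquivTensor (Fin N) k B'ᵐᵒᵖ).symm))))

/-- If `k'` splits `A`, then `k'` embeds in a CSA `B` (given as `B'ᵐᵒᵖ`) Brauer equivalent to `A`
with `dim B = [k':k]^2`. -/
theorem exists_csa_of_splits (m : ℕ) (hm : m ≠ 0)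
    (e : k' ⊗[k] A ≃ₐ[k'] Matrix (Fin m) (Fin m) k') :
    ∃ (B' : Type u) (_ : Ring B') (_ : Algebra k B') (_ : Algebra.IsCentral k B')
      (_ : IsSimpleRing B') (_ : FiniteDimensional k B') (_ : k' →ₐ[k] B'ᵐᵒᵖ),
      Module.finrank k B' = Module.finrank k k' ^ 2 ∧
      ∃ n' m' : ℕ, n' ≠ 0 ∧ m' ≠ 0 ∧
        Nonempty (Matrix (Fin n') (Fin n') A ≃ₐ[k] Matrix (Fin m') (Fin m') B'ᵐᵒᵖ) := by
  have : NeZero m := ⟨hm⟩
  have hdpos : 0 < Module.finrank k k' := Module.finrank_pos
  have : NeZero (Module.finrank k k') := ⟨hdpos.ne'⟩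
  let bas : Module.Basis (Fin (Module.finrank k k')) k k' := Module.finBasis k k'
  let ρ : k' →ₐ[k] Matrix (Fin (Module.finrank k k')) (Fin (Module.finrank k k')) k :=
    Algebra.leftMulMatrix bas
  let g : A →ₐ[k] Matrix (Fin m) (Fin m) k' :=
    (e.toAlgHom.restrictScalars k).comp Algebra.TensorProduct.includeRight
  let α : A →ₐ[k] Matrix (Fin m) (Fin m)
      (Matrix (Fin (Module.finrank k k')) (Fin (Module.finrank k k')) k) := ρ.mapMatrix.comp g
  let κ : k' →ₐ[k] Matrix (Fin m) (Fin m)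
      (Matrix (Fin (Module.finrank k k')) (Fin (Module.finrank k k')) k) :=
    (Matrix.scalarAlgHom (Fin m) k).comp ρ
  have hcomm : ∀ a c, α a * κ c = κ c * α a := by
    intro a c
    ext i j : 1
    simp only [α, κ, AlgHom.comp_apply, AlgHom.mapMatrix_apply, Matrix.scalarAlgHom_apply,
      Matrix.scalar_apply, Matrix.mul_diagonal, Matrix.diagonal_mul, Matrix.map_apply]
    rw [← map_mul, ← map_mul, mul_comm]
  have hdimA : Module.finrank k A = m * m := by
    have h1 : Module.finrank k' (k' ⊗[k] A) = Module.finrank k A := Module.finrank_baseChange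
    rw [← h1, e.toLinearEquiv.finrank_eq, Module.finrank_matrix]
    simp
  have hdimE' : Module.finrank k (Matrix (Fin m) (Fin m)
      (Matrix (Fin (Module.finrank k k')) (Fin (Module.finrank k k')) k)) =
      Module.finrank k A * Module.finrank k k' ^ 2 := by
    rw [Module.finrank_matrix, Module.finrank_matrix, hdimA]
    simp [pow_two]
  exact exists_csa_core k A k' _ α κ hcomm (m * Module.finrank k k')
    (Nat.mul_ne_zero hm hdpos.ne')
    ((Matrix.compAlgEquiv (Fin m) (Fin (Module.finrank k k')) k k).trans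
      (Matrix.reindexAlgEquiv k k finProdFinEquiv)) hdimE'

end embed

end Groth.Agent.Lib.helper12.CSA
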