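import Mathlib
import Groth.Agent.Lib.Helper12.CSA5

/-!
# Wedderburn with a central division algebra, and cancellation of matrix sizes
-/

set_option autoImplicit false
universe u v w
open scoped TensorProduct

namespace Groth.Agent.Lib.helper12.CSA

/-- `D` is central over `k` if `M_n(D)` is. -/
theorem isCentral_of_isCentral_matrix (k : Type u) [Field k] (D : Type v) [Ring D] [Algebra k D]
    (n : ℕ) [NeZero n] [hcM : Algebra.IsCentral k (Matrix (Fin n) (Fin n) D)] :
    Algebra.IsCentral k D := by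
  refine ⟨fun z hz => ?_⟩
  have h1 : Matrix.scalarAlgHom (Fin n) k z ∈ Subalgebra.center k (Matrix (Fin n) (Fin n) D) := by
    rw [Matrix.subalgebraCenter_eq_scalarAlgHom_map]
    exact ⟨z, hz, rfl⟩
  have h2 := hcM.out h1
  obtain ⟨r, hr⟩ := Algebra.mem_bot.mp h2
  rw [Algebra.mem_bot]
  refine ⟨r, ?_⟩
  have := congrFun (congrFun hr 0) 0
  simpa [Matrix.algebraMap_matrix_apply] using this

/-- `D` is finite over `k` if `M_n(D)` is. -/
theorem finite_of_finite_matrix (k : Type u) [Field k] (D : Type v) [Ring D] [Algebra k D]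
    (n : ℕ) [NeZero n] [Module.Finite k (Matrix (Fin n) (Fin n) D)] :
    Module.Finite k D := by
  refine Module.Finite.of_injective (Matrix.scalarAlgHom (Fin n) k (α := D)).toLinearMap ?_
  intro a b hab
  have := congrFun (congrFun hab 0) 0
  simpa using this

/-- Wedderburn for a finite central simple algebra, with all the structure on the division ring. -/
theorem exists_algEquiv_matrix_central_divisionRing (k : Type u) [Field k] (A : Type v) [Ring A]
    [Algebra k A] [Algebra.IsCentral k A] [IsSimpleRing A] [FiniteDimensional k A] :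
    ∃ (n : ℕ) (_ : n ≠ 0) (D : Type v) (_ : DivisionRing D) (_ : Algebra k D)
      (_ : Algebra.IsCentral k D) (_ : FiniteDimensional k D),
      Nonempty (A ≃ₐ[k] Matrix (Fin n) (Fin n) D) := by
  have := IsArtinianRing.of_finite k A
  obtain ⟨n, hn, D, _, _, _, ⟨e⟩⟩ := IsSimpleRing.exists_algEquiv_matrix_divisionRing_finite k A
  have hcM : Algebra.IsCentral k (Matrix (Fin n) (Fin n) D) := Algebra.IsCentral.of_algEquiv k _ _ e
  have hfM : Module.Finite k (Matrix (Fin n) (Fin n) D) := Module.Finite.equiv e.toLinearEquiv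
  exact ⟨n, hn.out, D, inferInstance, inferInstance, isCentral_of_isCentral_matrix k D n,
    finite_of_finite_matrix k D n, ⟨e⟩⟩

/-- `M_n(M_r(D)) ≃ M_{n r}(D)` -/
noncomputable def matrixMatrixAlgEquiv (k : Type u) [CommSemiring k] (D : Type v) [Semiring D]
    [Algebra k D] (n r : ℕ) :
    Matrix (Fin n) (Fin n) (Matrix (Fin r) (Fin r) D) ≃ₐ[k] Matrix (Fin (n * r)) (Fin (n * r)) D :=
  (Matrix.compAlgEquiv (Fin n) (Fin r) D k).trans (Matrix.reindexAlgEquiv k D finProdFinEquiv)

/-- Cancellation: `M_n(A) ≃ M_n(A')` implies `A ≃ A'` for central simple algebras. More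
generally `M_n(A) ≃ M_m(A')` with `dim A = dim A'`. -/
theorem nonempty_algEquiv_of_matrix_algEquiv' (k : Type u) [Field k]
    (A : Type v) [Ring A] [Algebra k A] [Algebra.IsCentral k A] [IsSimpleRing A]
    [FiniteDimensional k A]
    (A' : Type w) [Ring A'] [Algebra k A'] [Algebra.IsCentral k A'] [IsSimpleRing A']
    [FiniteDimensional k A']
    (n m : ℕ) (hn : n ≠ 0) (hm : m ≠ 0)
    (hdim : Module.finrank k A = Module.finrank k A')
    (e : Matrix (Fin n) (Fin n) A ≃ₐ[k] Matrix (Fin m) (Fin m) A') :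
    Nonempty (A ≃ₐ[k] A') := by
  obtain ⟨r, hr, D, _, _, _, _, ⟨eA⟩⟩ := exists_algEquiv_matrix_central_divisionRing k A
  obtain ⟨r', hr', D', _, _, _, _, ⟨eA'⟩⟩ := exists_algEquiv_matrix_central_divisionRing k A'
  let E : Matrix (Fin (n * r)) (Fin (n * r)) D ≃ₐ[k] Matrix (Fin (m * r')) (Fin (m * r')) D' :=
    (matrixMatrixAlgEquiv k D n r).symm.trans
      ((AlgEquiv.mapMatrix eA).symm.trans (e.trans ((AlgEquiv.mapMatrix eA').trans
        (matrixMatrixAlgEquiv k D' m r'))))
  obtain ⟨eD⟩ := Groth.Agent.S0193.main k D D' (n * r) (m * r') (Nat.mul_ne_zero hn hr)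
    (Nat.mul_ne_zero hm hr') E
  have h1 : Module.finrank k A = r * r * Module.finrank k D := by
    rw [eA.toLinearEquiv.finrank_eq, Module.finrank_matrix]
    simp
  have h2 : Module.finrank k A' = r' * r' * Module.finrank k D' := by
    rw [eA'.toLinearEquiv.finrank_eq, Module.finrank_matrix]
    simp
  have h3 : Module.finrank k D = Module.finrank k D' := eD.toLinearEquiv.finrank_eq
  have hpos : 0 < Module.finrank k D' := Module.finrank_pos
  have h4 : r * r = r' * r' := by
    rw [h1, h2, h3] at hdim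
    exact Nat.eq_of_mul_eq_mul_right hpos hdim
  have h5 : r = r' := by
    rcases Nat.lt_trichotomy r r' with h | h | h
    · exact absurd h4 (Nat.ne_of_lt (Nat.mul_lt_mul'' h h))
    · exact h
    · exact absurd h4.symm (Nat.ne_of_lt (Nat.mul_lt_mul'' h h))
  subst h5
  exact ⟨eA.trans ((AlgEquiv.mapMatrix eD).trans eA'.symm)⟩

theorem nonempty_algEquiv_of_matrix_algEquiv (k : Type u) [Field k]
    (A : Type v) [Ring A] [Algebra k A] [Algebra.IsCentral k A] [IsSimpleRing A]
    [FiniteDimensional k A]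
    (A' : Type w) [Ring A'] [Algebra k A'] [Algebra.IsCentral k A'] [IsSimpleRing A']
    [FiniteDimensional k A']
    (n : ℕ) (hn : n ≠ 0) (e : Matrix (Fin n) (Fin n) A ≃ₐ[k] Matrix (Fin n) (Fin n) A') :
    Nonempty (A ≃ₐ[k] A') := by
  refine nonempty_algEquiv_of_matrix_algEquiv' k A A' n n hn hn ?_ e
  have h := e.toLinearEquiv.finrank_eq
  rw [Module.finrank_matrix, Module.finrank_matrix] at h
  simp only [Fintype.card_fin] at h
  have hpos : 0 < n * n := Nat.mul_pos (Nat.pos_of_ne_zero hn) (Nat.pos_of_ne_zero hn)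
  exact Nat.eq_of_mul_eq_mul_left hpos h

end Groth.Agent.Lib.helper12.CSA
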