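import Mathlib
import Groth.Agent.Lib.Helper12.CSA6
import Groth.Agent.S0196
import Groth.Agent.S0192
import Groth.Prelude.Def_GSzCSA

/-!
# Index of a central simple algebra: existence, uniqueness, splitting fields
-/

set_option autoImplicit false
universe u v w w'
open scoped TensorProduct

namespace Groth.Agent.Lib.helper12.CSA

section maximal
variable (k : Type u) [Field k] (D : Type v) [Ring D] [Algebra k D] [FiniteDimensional k D]

/-- In a finite-dimensional algebra every subalgebra with property `P` lies in a maximal one. -/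
theorem exists_maximal_subalgebra (P : Subalgebra k D → Prop) (L₀ : Subalgebra k D) (h₀ : P L₀) :
    ∃ L : Subalgebra k D, L₀ ≤ L ∧ P L ∧ ∀ L' : Subalgebra k D, P L' → L ≤ L' → L' = L := by
  suffices H : ∀ (n : ℕ) (L₀ : Subalgebra k D), P L₀ →
      Module.finrank k D - Module.finrank k L₀ = n →
      ∃ L : Subalgebra k D, L₀ ≤ L ∧ P L ∧ ∀ L' : Subalgebra k D, P L' → L ≤ L' → L' = L from
    H _ L₀ h₀ rfl
  intro n
  induction n using Nat.strong_induction_on with
  | _ n ih =>
    intro L₀ h₀ hn
    by_cases hmax : ∀ L' : Subalgebra k D, P L' → L₀ ≤ L' → L' = L₀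
    · exact ⟨L₀, le_refl _, h₀, hmax⟩
    · push Not at hmax
      obtain ⟨L₁, hP₁, hle, hne⟩ := hmax
      have hlt : L₀ < L₁ := lt_of_le_of_ne hle (Ne.symm hne)
      have hlt' : Subalgebra.toSubmodule L₀ < Subalgebra.toSubmodule L₁ := by
        simpa using hlt
      have h1 : Module.finrank k L₀ < Module.finrank k L₁ :=
        Submodule.finrank_lt_finrank_of_lt hlt'
      have h2 : Module.finrank k L₁ ≤ Module.finrank k D :=
        Submodule.finrank_le (Subalgebra.toSubmodule L₁)
      obtain ⟨L, hL₁, hPL, hLmax⟩ := ih (Module.finrank k D - Module.finrank k L₁)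
        (by omega) L₁ hP₁ rfl
      exact ⟨L, hle.trans hL₁, hPL, hLmax⟩

end maximal

section field
variable (k : Type u) [Field k] (D : Type v) [DivisionRing D] [Algebra k D]
  [FiniteDimensional k D]

/-- A commutative subalgebra of a finite-dimensional division algebra is a field. -/
theorem isField_of_comm (L : Subalgebra k D) (hcomm : ∀ x ∈ L, ∀ y ∈ L, x * y = y * x) :
    IsField L where
  exists_pair_ne := ⟨0, 1, zero_ne_one⟩
  mul_comm x y := Subtype.ext (hcomm x x.2 y y.2)
  mul_inv_cancel := by
    intro x hx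
    have hinj : Function.Injective (LinearMap.mulLeft k x) := by
      intro a b hab
      simp only [LinearMap.mulLeft_apply] at hab
      exact mul_left_cancel₀ hx hab
    obtain ⟨y, hy⟩ := LinearMap.surjective_of_injective hinj 1
    exact ⟨y, hy⟩

/-- A commutative subalgebra of a finite-dimensional division algebra, as an abstract field. -/
theorem exists_field_of_comm (L : Subalgebra k D) (hcomm : ∀ x ∈ L, ∀ y ∈ L, x * y = y * x) :
    ∃ (F : Type v) (_ : Field F) (_ : Algebra k F) (_ : FiniteDimensional k F) (ι : F →ₐ[k] D),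
      ι.range = L ∧ Module.finrank k F = Module.finrank k L := by
  let _ : Field L := (isField_of_comm k D L hcomm).toField
  refine ⟨L, inferInstance, inferInstance, inferInstance, L.val, ?_, rfl⟩
  exact Subalgebra.range_val L

end field

section index
variable (k : Type u) [Field k]

/-- one-by-one matrices over an algebra -/
def oneByOneAlg (A : Type v) [Semiring A] [Algebra k A] : Matrix (Fin 1) (Fin 1) A ≃ₐ[k] A where
  toFun M := M 0 0
  invFun c := Matrix.of fun _ _ => c
  left_inv M := by
    ext i j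
    fin_cases i
    fin_cases j
    rfl
  right_inv c := rfl
  map_mul' M N := by simp [Matrix.mul_apply]
  map_add' M N := rfl
  commutes' r := by simp [Matrix.algebraMap_matrix_apply]

/-- A central division algebra of dimension `d^2` contains a field of degree `d`. -/
theorem exists_maximal_subfield (D : Type v) [DivisionRing D] [Algebra k D] [Algebra.IsCentral k D]
    [FiniteDimensional k D] (d : ℕ) (hd : Module.finrank k D = d ^ 2) :
    ∃ (F : Type v) (_ : Field F) (_ : Algebra k F) (_ : FiniteDimensional k F) (_ : F →ₐ[k] D),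
      Module.finrank k F = d := by
  obtain ⟨L, -, hcomm, hmax⟩ := exists_maximal_subalgebra k D
    (fun L => ∀ x ∈ L, ∀ y ∈ L, x * y = y * x) ⊥ (by
      intro x hx y hy
      obtain ⟨r, rfl⟩ := Algebra.mem_bot.mp hx
      exact Algebra.commutes r y)
  have hdim := Groth.Agent.S0196.result k D L hcomm hmax
  obtain ⟨F, hF, hA, hfd, ι, -, hFL⟩ := exists_field_of_comm k D L hcomm
  refine ⟨F, hF, hA, hfd, ι, ?_⟩
  rw [hFL]
  rw [hd] at hdim
  exact (Nat.pow_left_injective (n := 2) (by norm_num) hdim).symm

/-- universe-general version of S0197: a splitting field of a division algebra of dimension `d^2`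
has degree divisible by `d`. -/
theorem splitting_degree_dvd
    (D : Type v) [DivisionRing D] [Algebra k D] [FiniteDimensional k D]
    (d : ℕ) (hd : Module.finrank k D = d ^ 2)
    (k' : Type w) [Field k'] [Algebra k k'] [FiniteDimensional k k'] (hs : Curves.Splits k D k') :
    d ∣ Module.finrank k k' := by
  obtain ⟨n, hn, ⟨e⟩⟩ := hs
  -- n = d
  have h1 : Module.finrank k' (k' ⊗[k] D) = Module.finrank k D := Module.finrank_baseChange
  have h2 : Module.finrank k' (k' ⊗[k] D) = n * n := by
    rw [e.toLinearEquiv.finrank_eq, Module.finrank_matrix]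
    simp
  have hnd : n = d := by
    have : n * n = d * d := by rw [← h2, h1, hd, pow_two]
    exact Nat.mul_self_inj.mp this
  subst hnd
  -- the ring hom D → End_k (Fin n → k')
  let φ : D →+* Module.End k (Fin n → k') :=
    { toFun := fun x => (Matrix.toLin' (e (1 ⊗ₜ[k] x))).restrictScalars k
      map_one' := by
        ext v
        simp [Algebra.TensorProduct.one_def.symm]
      map_mul' := fun x y => by
        have : (1 : k') ⊗ₜ[k] (x * y) = (1 ⊗ₜ[k] x) * (1 ⊗ₜ[k] y) := by
          rw [Algebra.TensorProduct.tmul_mul_tmul, one_mul]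
        apply LinearMap.ext
        intro v
        change (Matrix.toLin' (e (1 ⊗ₜ[k] (x * y)))) v =
          (Matrix.toLin' (e (1 ⊗ₜ[k] x))) ((Matrix.toLin' (e (1 ⊗ₜ[k] y))) v)
        rw [this, map_mul, Matrix.toLin'_mul]
        rfl
      map_zero' := by
        ext v
        simp
      map_add' := fun x y => by
        ext v
        simp [TensorProduct.tmul_add] }
  let _ : Module D (Fin n → k') := Module.compHom (Fin n → k') φ
  have hsmul : ∀ (x : D) (v : Fin n → k'), x • v = (e (1 ⊗ₜ[k] x)).mulVec v := fun x v => rfl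
  have : IsScalarTower k D (Fin n → k') := ⟨fun c x v => by
    rw [hsmul, hsmul]
    have : (1 : k') ⊗ₜ[k] (c • x) = algebraMap k k' c • ((1 : k') ⊗ₜ[k] x) := by
      rw [TensorProduct.tmul_smul, algebraMap_smul]
    rw [this, map_smul, Matrix.smul_mulVec, algebraMap_smul]⟩
  have h3 : Module.finrank k D * Module.finrank D (Fin n → k') = Module.finrank k (Fin n → k') :=
    Module.finrank_mul_finrank k D (Fin n → k')
  have h4 : Module.finrank k (Fin n → k') = n * Module.finrank k k' := by
    rw [Module.finrank_pi_fintype]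
    simp
  have hn0 : 0 < n := Nat.pos_of_ne_zero hn
  rw [hd, h4, pow_two, mul_assoc] at h3
  have h5 := Nat.eq_of_mul_eq_mul_left hn0 h3
  exact ⟨_, h5.symm⟩

/-- Splitting is invariant under Brauer equivalence (universe-general). -/
theorem splits_of_matrix_algEquiv' (K : Type w) [Field K] [Algebra k K]
    (A : Type v) [Ring A] [Algebra k A] [Algebra.IsCentral k A] [IsSimpleRing A]
    [FiniteDimensional k A]
    (B : Type w') [Ring B] [Algebra k B]
    (n m : ℕ) (hn : n ≠ 0) (hm : m ≠ 0)
    (e : Matrix (Fin n) (Fin n) A ≃ₐ[k] Matrix (Fin m) (Fin m) B)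
    (hB : Curves.Splits k B K) : Curves.Splits k A K := by
  obtain ⟨d, hd, ⟨eB⟩⟩ := hB
  have : IsSimpleRing (K ⊗[k] A) := Groth.Agent.S0190.main k K A
  have := IsArtinianRing.of_finite K (K ⊗[k] A)
  obtain ⟨r, hr, D', _, _, _, ⟨w⟩⟩ :=
    IsSimpleRing.exists_algEquiv_matrix_divisionRing_finite K (K ⊗[k] A)
  let c1 : Matrix (Fin n) (Fin n) (Matrix (Fin r) (Fin r) D') ≃ₐ[K]
      Matrix (Fin m) (Fin m) (Matrix (Fin d) (Fin d) K) :=
    (AlgEquiv.mapMatrix w).symm.trans ((baseChangeMatrix k K A n).symm.trans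
      ((Algebra.TensorProduct.congr (AlgEquiv.refl (R := K) (A₁ := K)) e).trans
        ((baseChangeMatrix k K B m).trans (AlgEquiv.mapMatrix eB))))
  let c2 : Matrix (Fin (n * r)) (Fin (n * r)) D' ≃ₐ[K] Matrix (Fin (m * d)) (Fin (m * d)) K :=
    (matrixMatrixAlgEquiv K D' n r).symm.trans (c1.trans (matrixMatrixAlgEquiv K K m d))
  obtain ⟨t⟩ := Groth.Agent.S0193.main K D' K (n * r) (m * d)
    (Nat.mul_ne_zero hn hr.out) (Nat.mul_ne_zero hm hd) c2
  exact ⟨r, hr.out, ⟨w.trans (AlgEquiv.mapMatrix t)⟩⟩

/-- `K` splits `M_m(D)` iff it splits `D`: one direction. -/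
theorem splits_matrix_of_splits (K : Type w) [Field K] [Algebra k K]
    (A : Type v) [Ring A] [Algebra k A] (D : Type w') [Ring D] [Algebra k D] (m : ℕ) (hm : m ≠ 0)
    (e : A ≃ₐ[k] Matrix (Fin m) (Fin m) D) (hD : Curves.Splits k D K) : Curves.Splits k A K := by
  obtain ⟨d, hd, ⟨eD⟩⟩ := hD
  refine ⟨m * d, Nat.mul_ne_zero hm hd, ⟨?_⟩⟩
  exact (Algebra.TensorProduct.congr (AlgEquiv.refl (R := K) (A₁ := K)) e).trans
    ((baseChangeMatrix k K D m).trans ((AlgEquiv.mapMatrix eD).trans
      (matrixMatrixAlgEquiv K K m d)))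

variable (A : Type v) [Ring A] [Algebra k A] [Algebra.IsCentral k A] [IsSimpleRing A]
  [FiniteDimensional k A]

/-- every finite central simple algebra has an index -/
theorem exists_isIndex : ∃ d : ℕ, CSAGal.IsIndex k A d := by
  obtain ⟨n, hn, D, _, _, _, _, ⟨e⟩⟩ := exists_algEquiv_matrix_central_divisionRing k A
  obtain ⟨d, hd⟩ := Groth.Agent.S0192.main k D
  have hpos : 0 < Module.finrank k D := Module.finrank_pos
  have hd0 : 0 < d := by
    rcases Nat.eq_zero_or_pos d with h | h
    · subst h; simp at hd; omega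
    · exact h
  exact ⟨d, hd0, n, D, inferInstance, inferInstance, Nat.pos_of_ne_zero hn,
    by rw [hd, sq], ⟨e⟩⟩

variable {k A}

omit [IsSimpleRing A] in
/-- unpack an index, adding that the division ring is central and finite-dimensional -/
theorem IsIndex.elim' {d : ℕ} (h : CSAGal.IsIndex k A d) :
    ∃ (m : ℕ) (D : Type v) (_ : DivisionRing D) (_ : Algebra k D) (_ : Algebra.IsCentral k D)
      (_ : FiniteDimensional k D), m ≠ 0 ∧ 0 < d ∧ Module.finrank k D = d ^ 2 ∧
      Nonempty (A ≃ₐ[k] Matrix (Fin m) (Fin m) D) := by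
  obtain ⟨hd0, m, D, _, _, hm, hdim, ⟨e⟩⟩ := h
  have : NeZero m := ⟨hm.ne'⟩
  have hcM : Algebra.IsCentral k (Matrix (Fin m) (Fin m) D) :=
    Algebra.IsCentral.of_algEquiv k _ _ e
  have hfM : Module.Finite k (Matrix (Fin m) (Fin m) D) := Module.Finite.equiv e.toLinearEquiv
  exact ⟨m, D, inferInstance, inferInstance, isCentral_of_isCentral_matrix k D m,
    finite_of_finite_matrix k D m, hm.ne', hd0, hdim, ⟨e⟩⟩

theorem IsIndex.unique {d d' : ℕ} (h : CSAGal.IsIndex k A d) (h' : CSAGal.IsIndex k A d') :
    d = d' := by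
  obtain ⟨m, D, _, _, _, _, hm, hd0, hdim, ⟨e⟩⟩ := IsIndex.elim' h
  obtain ⟨m', D', _, _, _, _, hm', hd0', hdim', ⟨e'⟩⟩ := IsIndex.elim' h'
  obtain ⟨t⟩ := Groth.Agent.S0193.main k D D' m m' hm hm' (e.symm.trans e')
  have h1 := t.toLinearEquiv.finrank_eq
  rw [hdim, hdim'] at h1
  exact Nat.pow_left_injective (n := 2) (by norm_num) h1

/-- the index divides the degree of every finite splitting field -/
theorem IsIndex.dvd_of_splits {d : ℕ} (h : CSAGal.IsIndex k A d)
    (L : Type w) [Field L] [Algebra k L] [FiniteDimensional k L] (hs : Curves.Splits k A L) :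
    d ∣ Module.finrank k L := by
  obtain ⟨m, D, _, _, _, _, hm, hd0, hdim, ⟨e⟩⟩ := IsIndex.elim' h
  have hsD : Curves.Splits k D L := by
    refine splits_of_matrix_algEquiv' k L D A m 1 hm one_ne_zero ?_ hs
    exact e.symm.trans (oneByOneAlg k A).symm
  exact splitting_degree_dvd k D d hdim L hsD

/-- there is a splitting field whose degree is the index -/
theorem IsIndex.exists_splitting_field {d : ℕ} (h : CSAGal.IsIndex k A d) :
    ∃ (F : Type v) (_ : Field F) (_ : Algebra k F) (_ : FiniteDimensional k F),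
      Module.finrank k F = d ∧ Curves.Splits k A F := by
  obtain ⟨m, D, _, _, _, _, hm, hd0, hdim, ⟨e⟩⟩ := IsIndex.elim' h
  obtain ⟨F, _, _, _, ι, hF⟩ := exists_maximal_subfield k D d hdim
  refine ⟨F, inferInstance, inferInstance, inferInstance, hF, ?_⟩
  have hsD : Curves.Splits k D F := splits_of_algHom k F D ι (by rw [hdim, hF])
  exact splits_matrix_of_splits k F A D m hm e hsD

end index

end Groth.Agent.Lib.helper12.CSA
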