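import Mathlib
import Groth.Agent.Lib.Helper12.CSA7

/-!
# Splitting of tensor products and tensor powers
-/

set_option autoImplicit false
universe u v w w'
open scoped TensorProduct

namespace Groth.Agent.Lib.helper12.CSA

/-- `F ⊗[K] (K ⊗[k] A) ≃ₐ[F] F ⊗[k] A` for a possibly noncommutative `A`. -/
noncomputable def cancelBaseChangeAlg (k : Type*) (K : Type*) (F : Type*) (A : Type*)
    [CommSemiring k] [CommSemiring K] [CommSemiring F]
    [Algebra k K] [Algebra k F] [Algebra K F] [IsScalarTower k K F] [Semiring A] [Algebra k A] :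
    F ⊗[K] (K ⊗[k] A) ≃ₐ[F] F ⊗[k] A :=
  AlgEquiv.symm <| AlgEquiv.ofLinearEquiv
    (TensorProduct.AlgebraTensorModule.cancelBaseChange k K F F A).symm
    (by simp [Algebra.TensorProduct.one_def]) <|
      LinearMap.map_mul_of_map_mul_tmul (fun _ _ _ _ ↦ by simp)

section splits
variable (k : Type u) [Field k] (K : Type w) [Field K] [Algebra k K]

theorem Splits.congr {A : Type v} [Ring A] [Algebra k A] {B : Type w'} [Ring B] [Algebra k B]
    (e : A ≃ₐ[k] B) (h : Curves.Splits k A K) : Curves.Splits k B K := by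
  obtain ⟨n, hn, ⟨eA⟩⟩ := h
  exact ⟨n, hn, ⟨(Algebra.TensorProduct.congr (AlgEquiv.refl (R := K) (A₁ := K)) e.symm).trans eA⟩⟩

theorem splits_self : Curves.Splits k k K :=
  ⟨1, one_ne_zero, ⟨(Algebra.TensorProduct.rid k K K).trans (oneByOne K).symm⟩⟩

/-- universe-general version of S7737 (same proof as helper5's) -/
theorem splits_tensor {A : Type v} [Ring A] [Algebra k A] {B : Type w'} [Ring B] [Algebra k B]
    (hA : Curves.Splits k A K) (hB : Curves.Splits k B K) : Curves.Splits k (A ⊗[k] B) K := by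
  classical
  obtain ⟨n, hn, ⟨eA⟩⟩ := hA
  obtain ⟨m, hm, ⟨eB⟩⟩ := hB
  refine ⟨n * m, Nat.mul_ne_zero hn hm, ⟨?_⟩⟩
  let e1 : K ⊗[k] (A ⊗[k] B) ≃ₐ[K] (K ⊗[K] K) ⊗[k] (A ⊗[k] B) :=
    Algebra.TensorProduct.congr (Algebra.TensorProduct.lid K K).symm AlgEquiv.refl
  let e2 : (K ⊗[K] K) ⊗[k] (A ⊗[k] B) ≃ₐ[K] (K ⊗[k] A) ⊗[K] (K ⊗[k] B) :=
    Algebra.TensorProduct.tensorTensorTensorComm k K k K K K A B
  let e3 : (K ⊗[k] A) ⊗[K] (K ⊗[k] B) ≃ₐ[K]
      Matrix (Fin n) (Fin n) K ⊗[K] Matrix (Fin m) (Fin m) K :=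
    Algebra.TensorProduct.congr eA eB
  let e4 : Matrix (Fin n) (Fin n) K ⊗[K] Matrix (Fin m) (Fin m) K ≃ₐ[K]
      Matrix (Fin n × Fin m) (Fin n × Fin m) (K ⊗[K] K) :=
    Matrix.kroneckerTMulAlgEquiv (Fin n) (Fin m) K K K K
  let e5 : Matrix (Fin n × Fin m) (Fin n × Fin m) (K ⊗[K] K) ≃ₐ[K]
      Matrix (Fin n × Fin m) (Fin n × Fin m) K :=
    (Algebra.TensorProduct.lid K K).mapMatrix
  let e6 : Matrix (Fin n × Fin m) (Fin n × Fin m) K ≃ₐ[K] Matrix (Fin (n * m)) (Fin (n * m)) K :=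
    Matrix.reindexAlgEquiv K K finProdFinEquiv
  exact e1.trans (e2.trans (e3.trans (e4.trans (e5.trans e6))))

end splits

section tpow
variable (k : Type u) [CommRing k] (A : Type v) [Ring A] [Algebra k A]

open PiTensorProduct

/-- `Fin 1 ⊕ Fin i ≃ Fin (i+1)` sending `inl _` to `0` and `inr j` to `j.succ` -/
def sumFinSucc (i : ℕ) : Fin 1 ⊕ Fin i ≃ Fin (i + 1) where
  toFun := Sum.elim (fun _ => 0) Fin.succ
  invFun := Fin.cases (Sum.inl 0) Sum.inr
  left_inv x := by
    rcases x with x | x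
    · have : x = 0 := Subsingleton.elim _ _
      subst this
      simp
    · simp
  right_inv j := by
    refine Fin.cases ?_ (fun j => ?_) j <;> simp

/-- the linear equivalence `A ⊗ A^{⊗ i} ≃ A^{⊗ (i+1)}` -/
noncomputable def tpowSuccLin (i : ℕ) :
    A ⊗[k] (⨂[k] _ : Fin i, A) ≃ₗ[k] ⨂[k] _ : Fin (i + 1), A :=
  (TensorProduct.congr (subsingletonEquiv (R := k) (s := fun _ : Fin 1 => A) (0 : Fin 1)).symm
      (LinearEquiv.refl k (⨂[k] _ : Fin i, A))) ≪≫ₗ
    (tmulEquiv k A) ≪≫ₗ reindex k (fun _ => A) (sumFinSucc i)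

theorem tpowSuccLin_tmul_tprod (i : ℕ) (a : A) (x : Fin i → A) :
    tpowSuccLin k A i (a ⊗ₜ[k] tprod k x) = tprod k (Fin.cons a x : Fin (i + 1) → A) := by
  simp only [tpowSuccLin, LinearEquiv.trans_apply, TensorProduct.congr_tmul,
    LinearEquiv.refl_apply, subsingletonEquiv_symm_apply', tmulEquiv_apply, reindex_tprod]
  congr 1
  funext j
  refine Fin.cases ?_ (fun j => ?_) j <;> simp [sumFinSucc]

/-- the algebra equivalence `A ⊗ A^{⊗ i} ≃ A^{⊗ (i+1)}` -/
noncomputable def tpowSucc (i : ℕ) :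
    A ⊗[k] (⨂[k] _ : Fin i, A) ≃ₐ[k] ⨂[k] _ : Fin (i + 1), A :=
  AlgEquiv.ofLinearEquiv (tpowSuccLin k A i)
    (by
      rw [Algebra.TensorProduct.one_def, PiTensorProduct.one_def, tpowSuccLin_tmul_tprod,
        PiTensorProduct.one_def]
      congr 1
      funext j
      refine Fin.cases ?_ (fun j => ?_) j <;> simp)
    (by
      refine (LinearMap.map_mul_iff (tpowSuccLin k A i).toLinearMap).mpr ?_
      ext a x a' x'
      simp only [LinearMap.compr₂_apply, LinearMap.mul_apply', LinearMap.coe_comp,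
        Function.comp_apply, LinearMap.compl₂_apply, TensorProduct.AlgebraTensorModule.curry_apply,
        TensorProduct.curry_apply, LinearMap.coe_restrictScalars,
        LinearMap.compMultilinearMap_apply, LinearEquiv.coe_coe,
        Algebra.TensorProduct.tmul_mul_tmul, tprod_mul_tprod, tpowSuccLin_tmul_tprod]
      congr 1
      funext j
      refine Fin.cases ?_ (fun j => ?_) j <;> simp)

/-- the zeroth tensor power is the base ring -/
noncomputable def tpowZero : (⨂[k] _ : Fin 0, A) ≃ₐ[k] k :=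
  AlgEquiv.symm <| AlgEquiv.ofBijective (Algebra.ofId k (⨂[k] _ : Fin 0, A)) (by
    have h : ⇑(Algebra.ofId k (⨂[k] _ : Fin 0, A)) =
        ⇑(isEmptyEquiv (R := k) (s := fun _ : Fin 0 => A) (Fin 0)).symm := by
      funext r
      rw [isEmptyEquiv_symm_apply, Algebra.ofId_apply, Algebra.algebraMap_eq_smul_one,
        PiTensorProduct.one_def]
      congr 2
      funext j
      exact j.elim0
    rw [h]
    exact (isEmptyEquiv (R := k) (s := fun _ : Fin 0 => A) (Fin 0)).symm.bijective)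

end tpow

section splitsTpow
variable (k : Type u) [Field k] (K : Type w) [Field K] [Algebra k K]
  (A : Type v) [Ring A] [Algebra k A]

/-- a splitting field of `A` splits all tensor powers of `A` -/
theorem splits_tpow (hA : Curves.Splits k A K) (i : ℕ) :
    Curves.Splits k (CSAGal.tpow k A i) K := by
  induction i with
  | zero => exact Splits.congr k K (tpowZero k A).symm (splits_self k K)
  | succ i ih => exact Splits.congr k K (tpowSucc k A i) (splits_tensor k K hA ih)

end splitsTpow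

end Groth.Agent.Lib.helper12.CSA
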