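import Mathlib
import Groth.Agent.Lib.Helper12.CSA8

/-!
# Tensor powers of central simple algebras: additivity, splitting and periods
-/

set_option autoImplicit false
universe u v w w'
open scoped TensorProduct

namespace Groth.Agent.Lib.helper12.CSA

section csaOfSplits
variable (k : Type u) [Field k] (K : Type w) [Field K] [Algebra k K]
  (X : Type v) [Ring X] [Algebra k X]

/-- an algebra split by some field extension is a finite-dimensional central simple algebra -/
theorem csa_of_splits (h : Curves.Splits k X K) :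
    Algebra.IsCentral k X ∧ IsSimpleRing X ∧ FiniteDimensional k X := by
  obtain ⟨n, hn, ⟨e⟩⟩ := h
  have : NeZero n := ⟨hn⟩
  have h1 : Algebra.IsCentral K (K ⊗[k] X) := isCentral_of_algEquiv' e
  have h2 : IsSimpleRing (K ⊗[k] X) := IsSimpleRing.of_ringEquiv e.symm.toRingEquiv inferInstance
  have h3 : FiniteDimensional K (K ⊗[k] X) := Module.Finite.equiv e.symm.toLinearEquiv
  exact ⟨isCentral_of_baseChange k K X, isSimpleRing_of_baseChange k K X,
    finiteDimensional_of_baseChange k K X⟩

end csaOfSplits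

section tpowCSA
variable (k : Type u) [Field k] (A : Type v) [Ring A] [Algebra k A]

/-- a finite central simple algebra is split by the algebraic closure -/
theorem splits_algebraicClosure [Algebra.IsCentral k A] [IsSimpleRing A] [FiniteDimensional k A] :
    Curves.Splits k A (AlgebraicClosure k) := by
  have hs : IsSimpleRing (AlgebraicClosure k ⊗[k] A) :=
    Groth.Agent.S0190.main k (AlgebraicClosure k) A
  obtain ⟨n, hn, ⟨e⟩⟩ := IsSimpleRing.exists_algEquiv_matrix_of_isAlgClosed (AlgebraicClosure k)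
    (AlgebraicClosure k ⊗[k] A)
  exact ⟨n, hn.out, ⟨e⟩⟩

/-- tensor powers of a finite central simple algebra are finite central simple -/
theorem csa_tpow [Algebra.IsCentral k A] [IsSimpleRing A] [FiniteDimensional k A] (i : ℕ) :
    Algebra.IsCentral k (CSAGal.tpow k A i) ∧ IsSimpleRing (CSAGal.tpow k A i) ∧
      FiniteDimensional k (CSAGal.tpow k A i) :=
  csa_of_splits k (AlgebraicClosure k) _
    (splits_tpow k (AlgebraicClosure k) A (splits_algebraicClosure k A) i)

/-- `A^{⊗(a+b)} ≃ A^{⊗a} ⊗ A^{⊗b}` -/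
theorem tpow_add (a b : ℕ) :
    Nonempty (CSAGal.tpow k A (a + b) ≃ₐ[k] CSAGal.tpow k A a ⊗[k] CSAGal.tpow k A b) := by
  induction a with
  | zero =>
    rw [Nat.zero_add]
    exact ⟨(Algebra.TensorProduct.lid k _).symm.trans
      (Algebra.TensorProduct.congr (tpowZero k A).symm AlgEquiv.refl)⟩
  | succ a ih =>
    rw [Nat.add_right_comm a 1 b]
    obtain ⟨e⟩ := ih
    exact ⟨(tpowSucc k A (a + b)).symm.trans
      ((Algebra.TensorProduct.congr AlgEquiv.refl e).trans
        ((Algebra.TensorProduct.assoc k k k A (CSAGal.tpow k A a) (CSAGal.tpow k A b)).symm.trans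
          (Algebra.TensorProduct.congr (tpowSucc k A a) AlgEquiv.refl)))⟩

/-- `(A^{⊗r})^{⊗e} ≃ A^{⊗(r e)}` -/
theorem tpow_mul (r e : ℕ) :
    Nonempty (CSAGal.tpow k (CSAGal.tpow k A r) e ≃ₐ[k] CSAGal.tpow k A (r * e)) := by
  induction e with
  | zero =>
    exact ⟨(tpowZero k (CSAGal.tpow k A r)).trans (tpowZero k A).symm⟩
  | succ e ih =>
    obtain ⟨t⟩ := ih
    obtain ⟨s⟩ := tpow_add k A r (r * e)
    have h : r * (e + 1) = r + r * e := by ring
    rw [h]
    exact ⟨(tpowSucc k (CSAGal.tpow k A r) e).symm.trans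
      ((Algebra.TensorProduct.congr AlgEquiv.refl t).trans s.symm)⟩

end tpowCSA

section periods
variable (k : Type u) [Field k] (A : Type v) [Ring A] [Algebra k A]
  [Algebra.IsCentral k A] [IsSimpleRing A] [FiniteDimensional k A]

/-- `S(a) ∧ S(b) → S(a+b)` -/
theorem splits_tpow_add {a b : ℕ} (ha : Curves.Splits k (CSAGal.tpow k A a) k)
    (hb : Curves.Splits k (CSAGal.tpow k A b) k) : Curves.Splits k (CSAGal.tpow k A (a + b)) k := by
  obtain ⟨e⟩ := tpow_add k A a b
  exact Splits.congr k k e.symm (splits_tensor k k ha hb)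

/-- cancellation: if `X ⊗ Y` and `X` are split (over `k`), so is `Y`. -/
theorem splits_of_splits_tensor_left {X : Type w} [Ring X] [Algebra k X]
    {Y : Type w'} [Ring Y] [Algebra k Y] [Algebra.IsCentral k Y] [IsSimpleRing Y]
    [FiniteDimensional k Y]
    (hXY : Curves.Splits k (X ⊗[k] Y) k) (hX : Curves.Splits k X k) : Curves.Splits k Y k := by
  obtain ⟨s, hs, ⟨eX⟩⟩ := hX
  obtain ⟨t, ht, ⟨eXY⟩⟩ := hXY
  let eX' : X ≃ₐ[k] Matrix (Fin s) (Fin s) k := (Algebra.TensorProduct.lid k X).symm.trans eX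
  let eXY' : X ⊗[k] Y ≃ₐ[k] Matrix (Fin t) (Fin t) k :=
    (Algebra.TensorProduct.lid k (X ⊗[k] Y)).symm.trans eXY
  let E : Matrix (Fin s) (Fin s) Y ≃ₐ[k] Matrix (Fin t) (Fin t) k :=
    (matrixEquivTensor (Fin s) k Y).trans
      ((Algebra.TensorProduct.comm k Y _).trans
        ((Algebra.TensorProduct.congr eX'.symm AlgEquiv.refl).trans eXY'))
  exact splits_of_matrix_algEquiv' k k Y k s t hs ht E (splits_self k k)

/-- `S(a+b) ∧ S(a) → S(b)` -/
theorem splits_tpow_of_add {a b : ℕ} (hab : Curves.Splits k (CSAGal.tpow k A (a + b)) k)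
    (ha : Curves.Splits k (CSAGal.tpow k A a) k) : Curves.Splits k (CSAGal.tpow k A b) k := by
  obtain ⟨e⟩ := tpow_add k A a b
  obtain ⟨h1, h2, h3⟩ := csa_tpow k A b
  exact splits_of_splits_tensor_left k (Splits.congr k k e hab) ha

/-- `S(p) → S(p q)` -/
theorem splits_tpow_mul {p : ℕ} (hp : Curves.Splits k (CSAGal.tpow k A p) k) (q : ℕ) :
    Curves.Splits k (CSAGal.tpow k A (p * q)) k := by
  induction q with
  | zero => exact Splits.congr k k (tpowZero k A).symm (splits_self k k)
  | succ q ih =>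
    have h : p * (q + 1) = p + p * q := by ring
    rw [h]
    exact splits_tpow_add k A hp ih

/-- the tensor powers split over `k` are exactly the multiples of the period -/
theorem splits_tpow_iff_dvd {p : ℕ} (hp : CSAGal.IsPeriod k A p) (e : ℕ) :
    Curves.Splits k (CSAGal.tpow k A e) k ↔ p ∣ e := by
  obtain ⟨hp0, hps, hpmin⟩ := hp
  constructor
  · intro he
    have hdiv : e = p * (e / p) + e % p := (Nat.div_add_mod e p).symm
    have h1 : Curves.Splits k (CSAGal.tpow k A (p * (e / p) + e % p)) k := by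
      rw [← hdiv]; exact he
    have h2 := splits_tpow_of_add k A h1 (splits_tpow_mul k A hps (e / p))
    by_contra hnd
    have hpos : 0 < e % p := Nat.pos_of_ne_zero (fun h => hnd (Nat.dvd_of_mod_eq_zero h))
    exact hpmin (e % p) hpos (Nat.mod_lt e hp0) h2
  · rintro ⟨q, rfl⟩
    exact splits_tpow_mul k A hps q

/-- splitting of tensor powers of tensor powers -/
theorem splits_tpow_tpow_iff (r e : ℕ) :
    Curves.Splits k (CSAGal.tpow k (CSAGal.tpow k A r) e) k ↔
      Curves.Splits k (CSAGal.tpow k A (r * e)) k := by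
  obtain ⟨t⟩ := tpow_mul k A r e
  exact ⟨Splits.congr k k t, Splits.congr k k t.symm⟩

end periods

end Groth.Agent.Lib.helper12.CSA
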