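import Mathlib
import Groth.Agent.Lib.Helper12.CSA8

/-!
# Universe-general version of `exists_csa_of_splits`
-/

set_option autoImplicit false
universe u v w w'
open scoped TensorProduct

namespace Groth.Agent.Lib.helper12.CSA

section embed
variable (k : Type u) [Field k] (A : Type v) [Ring A] [Algebra k A] [Algebra.IsCentral k A]
    [IsSimpleRing A] [FiniteDimensional k A]
    (k' : Type w) [Field k'] [Algebra k k'] [FiniteDimensional k k']

/-- core construction with an abstract ambient CSA `E`. -/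
theorem exists_csa_core' (E : Type w') [Ring E] [Algebra k E] [Algebra.IsCentral k E]
    [IsSimpleRing E] [FiniteDimensional k E]
    (α : A →ₐ[k] E) (κ : k' →ₐ[k] E) (hcomm : ∀ a c, α a * κ c = κ c * α a)
    (N : ℕ) (hN : N ≠ 0) (eE : E ≃ₐ[k] Matrix (Fin N) (Fin N) k)
    (hdim : Module.finrank k E = Module.finrank k A * Module.finrank k k' ^ 2) :
    ∃ (B' : Type w') (_ : Ring B') (_ : Algebra k B') (_ : Algebra.IsCentral k B')
      (_ : IsSimpleRing B') (_ : FiniteDimensional k B') (_ : k' →ₐ[k] B'ᵐᵒᵖ),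
      Module.finrank k B' = Module.finrank k k' ^ 2 ∧
      ∃ n' m' : ℕ, n' ≠ 0 ∧ m' ≠ 0 ∧
        Nonempty (Matrix (Fin n') (Fin n') A ≃ₐ[k] Matrix (Fin m') (Fin m') B'ᵐᵒᵖ) := by
  have hstruct := Groth.Agent.Lib.Helper8.CSA.centralizer_range_structure k E A α
  have hκ0 : ∀ c, κ c ∈ Subalgebra.centralizer k (Set.range α) := by
    intro c
    rw [Subalgebra.mem_centralizer_iff]
    rintro _ ⟨a, rfl⟩
    exact hcomm a c
  have hmem0 : ∀ x ∈ Subalgebra.centralizer k (Set.range α), ∀ y, Commute x (α y) :=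
    fun x hx y => ((Subalgebra.mem_centralizer_iff k).mp hx (α y) ⟨y, rfl⟩).symm
  obtain ⟨B', hB'⟩ : ∃ B' : Subalgebra k E,
      B' = Subalgebra.centralizer k (Set.range α) := ⟨_, rfl⟩
  rw [← hB'] at hstruct hκ0 hmem0
  obtain ⟨hB's, hdimE⟩ := hstruct
  have hApos : 0 < Module.finrank k A := Module.finrank_pos
  have hdimB : Module.finrank k B' = Module.finrank k k' ^ 2 := by
    rw [hdim] at hdimE
    exact (Nat.eq_of_mul_eq_mul_left hApos hdimE).symm
  -- B' ⊗ A ≃ E
  let Ψ : B' ⊗[k] A →ₐ[k] E :=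
    Algebra.TensorProduct.lift B'.val α (fun x y => hmem0 x.1 x.2 y)
  have hsBA : IsSimpleRing (B' ⊗[k] A) := Groth.Agent.S0190.main k B' A
  have hΨinj : Function.Injective Ψ := RingHom.injective Ψ.toRingHom
  have hΨdim : Module.finrank k (B' ⊗[k] A) = Module.finrank k E := by
    rw [Module.finrank_tensorProduct, hdimE, mul_comm]
  have hΨsurj : Function.Surjective Ψ :=
    (LinearMap.injective_iff_surjective_of_finrank_eq_finrank (f := Ψ.toLinearMap) hΨdim).mp hΨinj
  let Ψe := AlgEquiv.ofBijective Ψ ⟨hΨinj, hΨsurj⟩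
  have hcBA : Algebra.IsCentral k (B' ⊗[k] A) := isCentral_of_algEquiv' Ψe
  have hcB : Algebra.IsCentral k B' := Algebra.IsCentral.left_of_tensor_of_field k B' A
  -- the embedding of k'
  let κ' : k' →ₐ[k] B' := κ.codRestrict _ hκ0
  let ι' : k' →ₐ[k] B'ᵐᵒᵖ :=
    AlgHom.toOpposite κ' (fun x y => by
      change κ' x * κ' y = κ' y * κ' x
      rw [← map_mul, ← map_mul, mul_comm])
  refine ⟨B', inferInstance, inferInstance, hcB, hB's, inferInstance, ι', hdimB, ?_⟩
  -- Brauer equivalence
  obtain ⟨t2⟩ := nonempty_tensor_op_algEquiv_matrix k B'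
  have hBpos : 0 < Module.finrank k B' := Module.finrank_pos
  refine ⟨Module.finrank k B', N, hBpos.ne', hN, ⟨?_⟩⟩
  exact (matrixEquivTensor (Fin (Module.finrank k B')) k A).trans
    ((Algebra.TensorProduct.congr (AlgEquiv.refl (R := k) (A₁ := A)) t2.symm).trans
      ((Algebra.TensorProduct.assoc k k k A B' B'ᵐᵒᵖ).symm.trans
        ((Algebra.TensorProduct.congr
            ((Algebra.TensorProduct.comm k A B').trans (Ψe.trans eE))
            (AlgEquiv.refl (R := k) (A₁ := B'ᵐᵒᵖ))).trans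
          ((Algebra.TensorProduct.comm k _ _).trans
            (matrixEquivTensor (Fin N) k B'ᵐᵒᵖ).symm))))

/-- If `k'` splits `A`, then `k'` embeds in a CSA `B` (given as `B'ᵐᵒᵖ`) Brauer equivalent to `A`
with `dim B = [k':k]^2`. -/
theorem exists_csa_of_splits' (m : ℕ) (hm : m ≠ 0)
    (e : k' ⊗[k] A ≃ₐ[k'] Matrix (Fin m) (Fin m) k') :
    ∃ (B' : Type v) (_ : Ring B') (_ : Algebra k B') (_ : Algebra.IsCentral k B')
      (_ : IsSimpleRing B') (_ : FiniteDimensional k B') (_ : k' →ₐ[k] B'ᵐᵒᵖ),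
      Module.finrank k B' = Module.finrank k k' ^ 2 ∧
      ∃ n' m' : ℕ, n' ≠ 0 ∧ m' ≠ 0 ∧
        Nonempty (Matrix (Fin n') (Fin n') A ≃ₐ[k] Matrix (Fin m') (Fin m') B'ᵐᵒᵖ) := by
  have : NeZero m := ⟨hm⟩
  have hdpos : 0 < Module.finrank k k' := Module.finrank_pos
  have : NeZero (Module.finrank k k') := ⟨hdpos.ne'⟩
  let bas : Module.Basis (Fin (Module.finrank k k')) k k' := Module.finBasis k k'
  let ρ : k' →ₐ[k] Matrix (Fin (Module.finrank k k')) (Fin (Module.finrank k k')) k :=
    Algebra.leftMulMatrix bas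
  let g : A →ₐ[k] Matrix (Fin m) (Fin m) k' :=
    (e.toAlgHom.restrictScalars k).comp Algebra.TensorProduct.includeRight
  let α : A →ₐ[k] Matrix (Fin m) (Fin m)
      (Matrix (Fin (Module.finrank k k')) (Fin (Module.finrank k k')) k) := ρ.mapMatrix.comp g
  let κ : k' →ₐ[k] Matrix (Fin m) (Fin m)
      (Matrix (Fin (Module.finrank k k')) (Fin (Module.finrank k k')) k) :=
    (Matrix.scalarAlgHom (Fin m) k).comp ρ
  have hcomm : ∀ a c, α a * κ c = κ c * α a := by
    intro a c
    ext i j : 1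
    simp only [α, κ, AlgHom.comp_apply, AlgHom.mapMatrix_apply, Matrix.scalarAlgHom_apply,
      Matrix.scalar_apply, Matrix.mul_diagonal, Matrix.diagonal_mul, Matrix.map_apply]
    rw [← map_mul, ← map_mul, mul_comm]
  have hdimA : Module.finrank k A = m * m := by
    have h1 : Module.finrank k' (k' ⊗[k] A) = Module.finrank k A := Module.finrank_baseChange
    rw [← h1, e.toLinearEquiv.finrank_eq, Module.finrank_matrix]
    simp
  have hdimE' : Module.finrank k (Matrix (Fin m) (Fin m)
      (Matrix (Fin (Module.finrank k k')) (Fin (Module.finrank k k')) k)) =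
      Module.finrank k A * Module.finrank k k' ^ 2 := by
    rw [Module.finrank_matrix, Module.finrank_matrix, hdimA]
    simp [pow_two]
  let e₀ : Matrix (Fin m) (Fin m)
      (Matrix (Fin (Module.finrank k k')) (Fin (Module.finrank k k')) k) ≃ₐ[k]
      Matrix (Fin (m * Module.finrank k k')) (Fin (m * Module.finrank k k')) k :=
    (Matrix.compAlgEquiv (Fin m) (Fin (Module.finrank k k')) k k).trans
      (Matrix.reindexAlgEquiv k k finProdFinEquiv)
  let eb : Matrix (Fin (m * Module.finrank k k')) (Fin (m * Module.finrank k k'))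
      (⊥ : Subalgebra k A) ≃ₐ[k]
      Matrix (Fin (m * Module.finrank k k')) (Fin (m * Module.finrank k k')) k :=
    AlgEquiv.mapMatrix (Algebra.botEquiv k A)
  let t := e₀.trans eb.symm
  have hN : m * Module.finrank k k' ≠ 0 := Nat.mul_ne_zero hm hdpos.ne'
  have : NeZero (m * Module.finrank k k') := ⟨hN⟩
  have hcE : Algebra.IsCentral k (Matrix (Fin (m * Module.finrank k k'))
      (Fin (m * Module.finrank k k')) (⊥ : Subalgebra k A)) :=
    isCentral_of_algEquiv' eb
  have hsE : IsSimpleRing (Matrix (Fin (m * Module.finrank k k'))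
      (Fin (m * Module.finrank k k')) (⊥ : Subalgebra k A)) :=
    IsSimpleRing.of_ringEquiv eb.symm.toRingEquiv inferInstance
  have hfE : FiniteDimensional k (Matrix (Fin (m * Module.finrank k k'))
      (Fin (m * Module.finrank k k')) (⊥ : Subalgebra k A)) :=
    Module.Finite.equiv eb.symm.toLinearEquiv
  refine exists_csa_core' k A k' _ (t.toAlgHom.comp α) (t.toAlgHom.comp κ) ?_
    (m * Module.finrank k k') hN eb ?_
  · intro a c
    simp only [AlgHom.comp_apply]
    rw [← map_mul, ← map_mul, hcomm]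
  · rw [← t.toLinearEquiv.finrank_eq, hdimE']

end embed

end Groth.Agent.Lib.helper12.CSA
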