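import Mathlib
import Groth.Agent.Lib.Helper12.Chow6

/-
helper12: Chow's lemma, part 7 — reducedness / integrality of the Chow cover.
-/

set_option autoImplicit false
universe u

open CategoryTheory CategoryTheory.Limits AlgebraicGeometry Opposite TopologicalSpace

namespace Groth.Agent.Lib.helper12.Chow7

/-- The target of a quasi-compact scheme-theoretically dominant morphism from a reduced scheme is reduced. -/
theorem isReduced_of_ker_eq_bot {A B : Scheme.{u}} (g : A ⟶ B) [QuasiCompact g] (hg : g.ker = ⊥)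
    [IsReduced A] : IsReduced B := by
  have hred : ∀ V : B.affineOpens, _root_.IsReduced Γ(B, V.1) := by
    intro V
    have h1 : RingHom.ker (g.app V.1).hom = ⊥ := by
      rw [← Scheme.Hom.ker_apply g V, hg]
      rfl
    exact isReduced_of_injective (g.app V.1).hom ((RingHom.injective_iff_ker_eq_bot _).mpr h1)
  have hst : ∀ x : B, _root_.IsReduced (B.presheaf.stalk x) := by
    intro x
    obtain ⟨V, hV, hxV, -⟩ := exists_isAffineOpen_mem_and_subset
      (show x ∈ (⊤ : B.Opens) from trivial)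
    have := hred ⟨V, hV⟩
    letI := B.presheaf.algebra_section_stalk (U := V) ⟨x, hxV⟩
    have := hV.isLocalization_stalk ⟨x, hxV⟩
    exact isReduced_localizationPreserves (hV.primeIdealOf ⟨x, hxV⟩).asIdeal.primeCompl
      (B.presheaf.stalk x) inferInstance
  exact isReduced_of_isReduced_stalk B

/-- **Chow's lemma, irreducible case**, with reducedness. -/
theorem chow_irreducible_reduced {X S : Scheme.{u}} (f : X ⟶ S) [IsSeparated f] [LocallyOfFiniteType f]
    [QuasiCompact f] [CompactSpace S] [QuasiSeparatedSpace S] [IrreducibleSpace X] :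
    ∃ (n : ℕ) (X'' : Scheme.{u}) (π : X'' ⟶ X) (j : X'' ⟶ CohB1.ProjSpaceOver n S),
      IsImmersion j ∧ j ≫ CohB1.ProjSpaceOver.toBase n S = π ≫ f ∧ IsProper π ∧ Surjective π ∧
      (∃ U : X.Opens, (U : Set X).Nonempty ∧ IsIso (π ∣_ U)) ∧ IrreducibleSpace X'' ∧
      (IsReduced X → IsReduced X'') := by
  classical
  have : CompactSpace X := QuasiCompact.compactSpace_of_compactSpace f
  have : QuasiSeparatedSpace X := quasiSeparatedSpace_of_quasiSeparated f
  have hnb : ∀ x : X, ∃ V : X.Opens, IsAffineOpen V ∧ x ∈ V := fun x => by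
    obtain ⟨V, hV, hxV, -⟩ := exists_isAffineOpen_mem_and_subset
      (show x ∈ (⊤ : X.Opens) from trivial)
    exact ⟨V, hV, hxV⟩
  choose V hV hxV using hnb
  obtain ⟨s, hs⟩ := isCompact_univ.elim_finite_subcover (fun x => (V x : Set X))
    (fun x => (V x).isOpen) (fun x _ => Set.mem_iUnion.mpr ⟨x, hxV x⟩)
  have hsne : s.Nonempty := by
    obtain ⟨x0⟩ : Nonempty X := inferInstance
    have h1 := hs (Set.mem_univ x0)
    simp only [Set.mem_iUnion] at h1
    obtain ⟨x, hx, -⟩ := h1
    exact ⟨x, hx⟩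
  obtain ⟨m, hm⟩ : ∃ m, s.card = m + 1 :=
    Nat.exists_eq_succ_of_ne_zero (Finset.card_ne_zero.mpr hsne)
  let e : Fin (m + 1) ≃ s := (Finset.equivFinOfCardEq hm).symm
  let Ui : Fin (m + 1) → X.Opens := fun i => V (e i)
  have hUi : ∀ i, IsAffineOpen (Ui i) := fun i => hV _
  have hcov : ⨆ i, Ui i = ⊤ := by
    rw [eq_top_iff]
    intro x _
    have h1 := hs (Set.mem_univ x)
    simp only [Set.mem_iUnion] at h1
    obtain ⟨y, hy, hxy⟩ := h1
    refine Opens.mem_iSup.mpr ⟨e.symm ⟨y, hy⟩, ?_⟩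
    change x ∈ V (e (e.symm ⟨y, hy⟩))
    rw [Equiv.apply_symm_apply]
    exact hxy
  have himm := fun i => Chow5.exists_immersion_of_isAffineOpen f (Ui i) (hUi i)
  choose n φ hφimm hφ using himm
  obtain ⟨P, q, p, N, c, hc, hcq, hp, huniv⟩ := Chow4.exists_weak_product S m n
  have : IsProper q := by rw [← hcq]; infer_instance
  -- a nonempty affine open inside all the `U_i`
  have hinf_ne : ∃ x0 : X, ∀ i, x0 ∈ Ui i := by
    have hirr : IsIrreducible (Set.univ : Set X) := IrreducibleSpace.isIrreducible_univ X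
    have h1 := isIrreducible_iff_sInter.mp hirr (Finset.univ.image fun i => (Ui i : Set X))
      (by
        intro u hu
        obtain ⟨i, -, rfl⟩ := Finset.mem_image.mp hu
        exact (Ui i).isOpen)
      (by
        intro u hu
        obtain ⟨i, -, rfl⟩ := Finset.mem_image.mp hu
        exact ⟨(e i).1, Set.mem_univ _, hxV _⟩)
    obtain ⟨x0, -, hx0⟩ := h1
    refine ⟨x0, fun i => ?_⟩
    exact Set.mem_sInter.mp hx0 _ (Finset.mem_coe.mpr (Finset.mem_image.mpr ⟨i, Finset.mem_univ _, rfl⟩))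
  obtain ⟨x0, hx0⟩ := hinf_ne
  have hx0' : x0 ∈ (⨅ i, Ui i : X.Opens) := by
    rw [← SetLike.mem_coe, Opens.coe_iInf]
    exact Set.mem_iInter.mpr hx0
  obtain ⟨U, hUaff, hx0U, hUle⟩ := exists_isAffineOpen_mem_and_subset hx0'
  have hU : ∀ i, U ≤ Ui i := fun i => (show U ≤ ⨅ i, Ui i from hUle).trans (iInf_le _ i)
  have : CompactSpace (U : Scheme.{u}) := isCompact_iff_compactSpace.mp hUaff.isCompact
  have : QuasiCompact U.ι := inferInstance
  obtain ⟨g, hgq, hgp⟩ := huniv U (U.ι ≫ f) (fun i => X.homOfLE (hU i) ≫ φ i) (fun i => by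
    rw [Category.assoc, hφ i, X.homOfLE_ι_assoc])
  have hg : U.ι ≫ f = g ≫ q := hgq.symm
  have hUne : (U : Set X).Nonempty := ⟨x0, hx0U⟩
  have hUdense : Dense (U : Set X) :=
    U.isOpen.dense hUne
  have hρ : IsImmersion (Chow2.ρ f q U g hg) :=
    Chow3.isImmersion_ρ f q U g hg Ui hU hcov (fun i => CohB1.ProjSpaceOver (n i) S)
      (fun i => CohB1.ProjSpaceOver.toBase (n i) S) p hp φ hφ hgp
  have : Nonempty (U : Scheme.{u}) := ⟨⟨x0, hx0U⟩⟩
  have : IrreducibleSpace (U : Scheme.{u}) := U.ι.isOpenEmbedding.irreducibleSpace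
  refine ⟨N, Chow2.X' f q U g hg, Chow2.π f q U g hg, Chow2.ρ f q U g hg ≫ c, inferInstance, ?_,
    inferInstance, Chow2.surjective_π f q U g hg hUdense,
    ⟨U, hUne, Chow2.isIso_π_restrict f q U g hg⟩, Chow2.irreducibleSpace_X' f q U g hg, ?_⟩
  · rw [Category.assoc, hcq, Chow2.π_f]
  · intro hred
    exact isReduced_of_ker_eq_bot (Chow2.j₀ f q U g hg) (Chow2.ker_j₀ f q U g hg)


/-- **Chow's lemma for integral proper schemes** (the form used for the finiteness theorem): `X` integral and proper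
over a quasi-compact quasi-separated `S` admits a proper surjective birational `π : X'' ⟶ X` from an integral
closed subscheme `X''` of some `P^n_S`. -/
theorem chow_integral_proper {X S : Scheme.{u}} (f : X ⟶ S) [IsProper f]
    [CompactSpace S] [QuasiSeparatedSpace S] [IsIntegral X] :
    ∃ (n : ℕ) (X'' : Scheme.{u}) (π : X'' ⟶ X) (j : X'' ⟶ CohB1.ProjSpaceOver n S),
      IsClosedImmersion j ∧ j ≫ CohB1.ProjSpaceOver.toBase n S = π ≫ f ∧ IsProper π ∧ Surjective π ∧
      (∃ U : X.Opens, (U : Set X).Nonempty ∧ IsIso (π ∣_ U)) ∧ IsIntegral X'' := by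
  obtain ⟨n, X'', π, j, hj, hjf, hπ, hs, hU, hirr, hred⟩ := chow_irreducible_reduced f
  have := hred inferInstance
  refine ⟨n, X'', π, j, ?_, hjf, hπ, hs, hU, isIntegral_of_irreducibleSpace_of_isReduced X''⟩
  have : IsProper (j ≫ CohB1.ProjSpaceOver.toBase n S) := by rw [hjf]; infer_instance
  exact Chow5.isClosedImmersion_of_isProper_comp j (CohB1.ProjSpaceOver.toBase n S)

end Groth.Agent.Lib.helper12.Chow7
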