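import Mathlib
import Groth.Agent.Lib.Helper12.Chow8

/-
helper12: Chow's lemma, part 12 — a version over a qcqs base with no finiteness hypothesis on the irreducible
components: `π` proper, an immersion into `P^n_S`, and `π` an isomorphism over a *nonempty* open `U`
(`U` = a minimal nonempty intersection of members of a finite affine cover; `X'` lies over the closure of `U`).
-/

set_option autoImplicit false
universe u

open CategoryTheory CategoryTheory.Limits AlgebraicGeometry Opposite TopologicalSpace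

namespace Groth.Agent.Lib.helper12.Chow12

open Groth.Agent.Lib.helper12.Chow2 Groth.Agent.Lib.helper12.Chow3

section

variable {X S P : Scheme.{u}} (f : X ⟶ S) [IsSeparated f] (q : P ⟶ S) [IsSeparated q]
  (U : X.Opens) [QuasiCompact U.ι] (g : (U : Scheme.{u}) ⟶ P) (hg : U.ι ≫ f = g ≫ q)

omit [IsSeparated f] in
theorem range_π_subset_closure : Set.range (π f q U g hg) ⊆ closure (U : Set X) := by
  rintro _ ⟨x', rfl⟩
  have hd : x' ∈ closure (Set.range (j₀ f q U g hg)) := by
    rw [(j₀ f q U g hg).denseRange.closure_eq]; trivial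
  have h1 := image_closure_subset_closure_image (π f q U g hg).continuous
    (Set.mem_image_of_mem _ hd)
  have h2 : (π f q U g hg) '' Set.range (j₀ f q U g hg) = (U : Set X) := by
    rw [← Set.range_comp]
    have h3 : (π f q U g hg) ∘ (j₀ f q U g hg) = U.ι := by
      ext u
      change (j₀ f q U g hg ≫ π f q U g hg) u = _
      rw [j₀_π]
    rw [h3, Scheme.Opens.range_ι]
  rwa [h2] at h1

/-- **Key step of Chow's lemma** (variant): `ρ : X' ⟶ P` is an immersion, if the image of `π` is covered by opens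
`U_i ⊇ U` with immersions `φ_i : U_i ⟶ P_i` over `S` which on `U` are the components `p_i ∘ g` of `g`. -/
theorem isImmersion_ρ' {ι : Type*} (Ui : ι → X.Opens) (hU : ∀ i, U ≤ Ui i)
    (hcov : ∀ x' : X' f q U g hg, ∃ i, π f q U g hg x' ∈ Ui i)
    (Pi : ι → Scheme.{u}) (qi : ∀ i, Pi i ⟶ S) [∀ i, IsSeparated (qi i)] (pi : ∀ i, P ⟶ Pi i)
    (hpi : ∀ i, pi i ≫ qi i = q)
    (φ : ∀ i, (Ui i : Scheme.{u}) ⟶ Pi i) [∀ i, IsImmersion (φ i)]
    (hφ : ∀ i, φ i ≫ qi i = (Ui i).ι ≫ f)
    (hgφ : ∀ i, g ≫ pi i = X.homOfLE (hU i) ≫ φ i) : IsImmersion (ρ f q U g hg) := by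
  have he := fun i => preimage_eq_preimage_coborder f q U g hg (Ui i) (hU i) (qi i) (pi i) (hpi i)
    (φ i) (hφ i) (hgφ i)
  refine isImmersion_of_preimage_cover _ (fun i => pi i ⁻¹ᵁ (φ i).coborderRange) ?_ ?_
  · intro x'
    obtain ⟨i, hi⟩ := hcov x'
    refine ⟨i, ?_⟩
    have h2 : x' ∈ π f q U g hg ⁻¹ᵁ Ui i := hi
    rw [he i] at h2
    exact h2
  · intro i
    exact isImmersion_of_opens_eq _ _ _ (he i)
      (isImmersion_restrict_ρ f q U g hg (Ui i) (hU i) (qi i) (pi i) (hpi i) (φ i) (hφ i) (hgφ i))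

end

/-- **Chow's lemma over a qcqs base, no hypothesis on irreducible components**: `π` is proper and an isomorphism
over a nonempty open. -/
theorem chow_nonempty_open {X S : Scheme.{u}} (f : X ⟶ S) [IsSeparated f] [LocallyOfFiniteType f]
    [QuasiCompact f] [CompactSpace S] [QuasiSeparatedSpace S] [Nonempty X] :
    ∃ (n : ℕ) (X'' : Scheme.{u}) (π : X'' ⟶ X) (j : X'' ⟶ CohB1.ProjSpaceOver n S),
      IsImmersion j ∧ j ≫ CohB1.ProjSpaceOver.toBase n S = π ≫ f ∧ IsProper π ∧
      ∃ U : X.Opens, (U : Set X).Nonempty ∧ IsIso (π ∣_ U) := by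
  classical
  have : CompactSpace X := QuasiCompact.compactSpace_of_compactSpace f
  have : QuasiSeparatedSpace X := quasiSeparatedSpace_of_quasiSeparated f
  obtain ⟨s, hs, hUs⟩ := (isCompact_iff_finite_and_eq_biUnion_affineOpens (U := (⊤ : X.Opens))).mp
    isCompact_univ
  have : Fintype s := hs.fintype
  let V : s → X.Opens := fun i => ((i : X.affineOpens) : X.Opens)
  have hV : ∀ i, IsAffineOpen (V i) := fun i => i.1.2
  have hVcov : ∀ x : X, ∃ i, x ∈ V i := by
    intro x
    have hx : x ∈ (⊤ : X.Opens) := trivial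
    rw [hUs, Opens.mem_iSup] at hx
    obtain ⟨i, hx⟩ := hx
    rw [Opens.mem_iSup] at hx
    obtain ⟨hi, hxi⟩ := hx
    exact ⟨⟨i, hi⟩, hxi⟩
  -- a maximal set of indices with nonempty intersection
  let Pr : Finset s → Prop := fun I => ∃ x : X, ∀ i ∈ I, x ∈ V i
  have hP0 : Pr ∅ := by
    obtain ⟨x0⟩ : Nonempty X := inferInstance
    exact ⟨x0, fun i hi => absurd hi (Finset.notMem_empty i)⟩
  obtain ⟨I, -, hImax⟩ := Finite.exists_le_maximal (p := Pr) hP0
  have hIne : I.Nonempty := by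
    by_contra hI
    rw [Finset.not_nonempty_iff_eq_empty] at hI
    obtain ⟨x0⟩ : Nonempty X := inferInstance
    obtain ⟨i0, hi0⟩ := hVcov x0
    have h1 : Pr {i0} := ⟨x0, fun i hi => by rw [Finset.mem_singleton] at hi; rw [hi]; exact hi0⟩
    have h2 := hImax.2 h1 (by rw [hI]; exact Finset.empty_subset _)
    rw [hI] at h2
    exact absurd (h2 (Finset.mem_singleton_self i0)) (Finset.notMem_empty i0)
  obtain ⟨m, hm⟩ : ∃ m, I.card = m + 1 :=
    Nat.exists_eq_succ_of_ne_zero (Finset.card_ne_zero.mpr hIne)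
  let e : Fin (m + 1) ≃ I := (Finset.equivFinOfCardEq hm).symm
  let Ui : Fin (m + 1) → X.Opens := fun i => V (e i)
  have hUi : ∀ i, IsAffineOpen (Ui i) := fun i => hV _
  let U : X.Opens := ⨅ i, Ui i
  have hU : ∀ i, U ≤ Ui i := fun i => iInf_le _ i
  have hmemU : ∀ x : X, x ∈ U ↔ ∀ i, x ∈ Ui i := by
    intro x
    have h2 : (U : Set X) = ⋂ i, (Ui i : Set X) := Opens.coe_iInf _
    change x ∈ (U : Set X) ↔ _
    rw [h2, Set.mem_iInter]
    rfl
  have hUne : (U : Set X).Nonempty := by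
    obtain ⟨x, hx⟩ := hImax.1
    exact ⟨x, (hmemU x).mpr fun i => hx _ (e i).2⟩
  have hUc : IsCompact (U : Set X) := by
    have h1 := (Chow8.isCompact_iInter_fin (α := X) (m + 1) (fun i => (Ui i : Set X))
      (fun i => (Ui i).isOpen) (fun i => (hUi i).isCompact)).1
    have h2 : (U : Set X) = ⋂ i, (Ui i : Set X) := Opens.coe_iInf _
    rw [h2]
    exact h1
  -- the closure of `U` is covered by the `Ui`
  have hcl : ∀ x ∈ closure (U : Set X), ∃ i, x ∈ Ui i := by
    intro x hx
    obtain ⟨j, hj⟩ := hVcov x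
    obtain ⟨y, hyV, hyU⟩ := mem_closure_iff.mp hx _ (V j).isOpen hj
    have h1 : Pr (insert j I) := by
      refine ⟨y, fun i hi => ?_⟩
      rcases Finset.mem_insert.mp hi with rfl | hi
      · exact hyV
      · have := (hmemU y).mp hyU (e.symm ⟨i, hi⟩)
        change y ∈ V (e (e.symm ⟨i, hi⟩)) at this
        rwa [Equiv.apply_symm_apply] at this
    have h2 := hImax.2 h1 (Finset.subset_insert j I)
    have hjI : j ∈ I := h2 (Finset.mem_insert_self j I)
    refine ⟨e.symm ⟨j, hjI⟩, ?_⟩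
    change x ∈ V (e (e.symm ⟨j, hjI⟩))
    rw [Equiv.apply_symm_apply]
    exact hj
  have himm := fun i => Chow5.exists_immersion_of_isAffineOpen f (Ui i) (hUi i)
  choose n φ hφimm hφ using himm
  obtain ⟨P, q, p, N, c, hc, hcq, hp, huniv⟩ := Chow4.exists_weak_product S m n
  have : IsProper q := by rw [← hcq]; infer_instance
  have : CompactSpace (U : Scheme.{u}) := isCompact_iff_compactSpace.mp hUc
  have : QuasiCompact U.ι := inferInstance
  obtain ⟨g, hgq, hgp⟩ := huniv U (U.ι ≫ f) (fun i => X.homOfLE (hU i) ≫ φ i) (fun i => by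
    rw [Category.assoc, hφ i, X.homOfLE_ι_assoc])
  have hg : U.ι ≫ f = g ≫ q := hgq.symm
  have hρ : IsImmersion (Chow2.ρ f q U g hg) :=
    isImmersion_ρ' f q U g hg Ui hU
      (fun x' => hcl _ (range_π_subset_closure f q U g hg (Set.mem_range_self x')))
      (fun i => CohB1.ProjSpaceOver (n i) S)
      (fun i => CohB1.ProjSpaceOver.toBase (n i) S) p hp φ hφ hgp
  refine ⟨N, Chow2.X' f q U g hg, Chow2.π f q U g hg, Chow2.ρ f q U g hg ≫ c, inferInstance, ?_,
    inferInstance, ⟨U, hUne, Chow2.isIso_π_restrict f q U g hg⟩⟩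
  rw [Category.assoc, hcq, Chow2.π_f]

end Groth.Agent.Lib.helper12.Chow12
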