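import Mathlib

/-!
# Graded quotients and fraction sections on `Proj` (helper12)

* `qGr 𝒜 I`: the image grading on `A ⧸ I` for a homogeneous ideal `I` of a graded algebra `𝒜`,
  with its `GradedAlgebra` instance, and the graded quotient map `qHom 𝒜 I : 𝒜 →+*ᵍ qGr 𝒜 I`.
* `irrelevant_le_map_of_surjective`: for a surjective graded ring hom `φ`, `ℬ₊ ≤ 𝒜₊.map φ`.
-/

set_option autoImplicit false
universe u

open DirectSum

namespace Groth.Agent.Lib.helper12.ProjClosed

section Quot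

variable {R A : Type u} [CommRing R] [CommRing A] [Algebra R A] (𝒜 : ℕ → Submodule R A)
  [GradedAlgebra 𝒜] (I : HomogeneousIdeal 𝒜)

/-- The image grading on the quotient by a homogeneous ideal. -/
def qGr (d : ℕ) : Submodule R (A ⧸ I.toIdeal) :=
  (𝒜 d).map (Ideal.Quotient.mkₐ R I.toIdeal).toLinearMap

theorem mk_mem_qGr {d : ℕ} {a : A} (ha : a ∈ 𝒜 d) :
    Ideal.Quotient.mk I.toIdeal a ∈ qGr 𝒜 I d := ⟨a, ha, rfl⟩

/-- component maps -/
def qComp (d : ℕ) : 𝒜 d →+ qGr 𝒜 I d :=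
  ((Ideal.Quotient.mkₐ R I.toIdeal).toLinearMap.submoduleMap (𝒜 d)).toAddMonoidHom

/-- the decomposition map before passing to the quotient -/
def qPhi : A →+ ⨁ d, qGr 𝒜 I d :=
  (DirectSum.map (qComp 𝒜 I)).comp (DirectSum.decomposeAddEquiv 𝒜).toAddMonoidHom

theorem qPhi_of_mem {d : ℕ} {a : A} (ha : a ∈ 𝒜 d) :
    qPhi 𝒜 I a = DirectSum.of (fun d => qGr 𝒜 I d) d
      ⟨Ideal.Quotient.mk I.toIdeal a, mk_mem_qGr 𝒜 I ha⟩ := by
  unfold qPhi
  simp only [AddMonoidHom.coe_comp, Function.comp_apply, AddEquiv.coe_toAddMonoidHom,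
    DirectSum.decomposeAddEquiv_apply]
  rw [DirectSum.decompose_of_mem 𝒜 ha, DirectSum.map_of]
  rfl

theorem coe_qPhi (a : A) :
    DirectSum.coeAddMonoidHom (qGr 𝒜 I) (qPhi 𝒜 I a) = Ideal.Quotient.mk I.toIdeal a := by
  induction a using DirectSum.Decomposition.inductionOn 𝒜 with
  | zero => simp
  | @homogeneous d a =>
    rw [qPhi_of_mem 𝒜 I a.2, DirectSum.coeAddMonoidHom_of]
  | add a b ha hb => rw [map_add, map_add, ha, hb, map_add]

theorem qPhi_mem {x : A} (hx : x ∈ I.toIdeal) : qPhi 𝒜 I x = 0 := by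
  ext d
  unfold qPhi
  simp only [AddMonoidHom.coe_comp, Function.comp_apply, AddEquiv.coe_toAddMonoidHom,
    DirectSum.decomposeAddEquiv_apply, DirectSum.map_apply, DirectSum.zero_apply,
    ZeroMemClass.coe_zero]
  exact Ideal.Quotient.eq_zero_iff_mem.mpr (I.isHomogeneous d hx)

theorem qPhi_congr {a b : A}
    (h : Ideal.Quotient.mk I.toIdeal a = Ideal.Quotient.mk I.toIdeal b) :
    qPhi 𝒜 I a = qPhi 𝒜 I b := by
  have : a - b ∈ I.toIdeal := Ideal.Quotient.eq.mp h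
  have h0 := qPhi_mem 𝒜 I this
  rw [map_sub, sub_eq_zero] at h0
  exact h0

noncomputable instance qDecomp : DirectSum.Decomposition (qGr 𝒜 I) where
  decompose' y := qPhi 𝒜 I (Quotient.out y)
  left_inv y := by
    show DirectSum.coeAddMonoidHom (qGr 𝒜 I) (qPhi 𝒜 I (Quotient.out y)) = y
    rw [coe_qPhi]
    exact Ideal.Quotient.mk_out y
  right_inv y := by
    show qPhi 𝒜 I (Quotient.out (DirectSum.coeAddMonoidHom (qGr 𝒜 I) y)) = y
    have hkey : ∀ a : A, qPhi 𝒜 I (Quotient.out (Ideal.Quotient.mk I.toIdeal a)) = qPhi 𝒜 I a :=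
      fun a => qPhi_congr 𝒜 I (Ideal.Quotient.mk_out _)
    induction y using DirectSum.induction_on with
    | zero =>
      rw [map_zero]
      have := hkey 0
      rw [map_zero, map_zero] at this
      exact this
    | of d b =>
      obtain ⟨b, a, ha, rfl⟩ := b
      rw [DirectSum.coeAddMonoidHom_of]
      show qPhi 𝒜 I (Quotient.out (Ideal.Quotient.mk I.toIdeal a)) = _
      rw [hkey a, qPhi_of_mem 𝒜 I ha]
      rfl
    | add y z hy hz =>
      rw [map_add]
      have h1 : Ideal.Quotient.mk I.toIdeal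
          (Quotient.out (DirectSum.coeAddMonoidHom (qGr 𝒜 I) y +
          DirectSum.coeAddMonoidHom (qGr 𝒜 I) z)) =
          Ideal.Quotient.mk I.toIdeal
            (Quotient.out (DirectSum.coeAddMonoidHom (qGr 𝒜 I) y) +
            Quotient.out (DirectSum.coeAddMonoidHom (qGr 𝒜 I) z)) := by
        rw [map_add, Ideal.Quotient.mk_out, Ideal.Quotient.mk_out, Ideal.Quotient.mk_out]
      rw [qPhi_congr 𝒜 I h1, map_add, hy, hz]

instance qGradedMonoid : SetLike.GradedMonoid (qGr 𝒜 I) where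
  one_mem := ⟨1, SetLike.GradedOne.one_mem, map_one (Ideal.Quotient.mk I.toIdeal)⟩
  mul_mem := by
    rintro i j _ _ ⟨a, ha, rfl⟩ ⟨b, hb, rfl⟩
    exact ⟨a * b, SetLike.GradedMul.mul_mem ha hb, map_mul (Ideal.Quotient.mk I.toIdeal) _ _⟩

noncomputable instance qGradedAlgebra : GradedAlgebra (qGr 𝒜 I) where
  toGradedMonoid := qGradedMonoid 𝒜 I
  toDecomposition := qDecomp 𝒜 I

/-- The graded quotient map. -/
noncomputable def qHom : 𝒜 →+*ᵍ qGr 𝒜 I where
  toRingHom := Ideal.Quotient.mk I.toIdeal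
  map_mem := fun ha => mk_mem_qGr 𝒜 I ha

@[simp] theorem qHom_apply (a : A) : qHom 𝒜 I a = Ideal.Quotient.mk I.toIdeal a := rfl

theorem qHom_surjective : Function.Surjective (qHom 𝒜 I) := Ideal.Quotient.mk_surjective

theorem qHom_eq_zero_iff (a : A) : qHom 𝒜 I a = 0 ↔ a ∈ I.toIdeal :=
  Ideal.Quotient.eq_zero_iff_mem

end Quot

section Irrelevant

variable {R A B : Type u} [CommRing R] [CommRing A] [Algebra R A] (𝒜 : ℕ → Submodule R A)
  [GradedAlgebra 𝒜] [CommRing B] [Algebra R B] (ℬ : ℕ → Submodule R B) [GradedAlgebra ℬ]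

theorem irrelevant_le_map_of_surjective (φ : 𝒜 →+*ᵍ ℬ) (hφ : Function.Surjective φ) :
    HomogeneousIdeal.irrelevant ℬ ≤ (HomogeneousIdeal.irrelevant 𝒜).map φ := by
  rw [HomogeneousIdeal.irrelevant_le]
  intro d hd x hx
  obtain ⟨a, rfl⟩ := hφ x
  have h1 : φ (DirectSum.decompose 𝒜 a d : A) = φ a := by
    have h2 := GradedRingHom.map_directSumDecompose (𝒜 := 𝒜) (ℬ := ℬ) φ (x := a) (i := d)
    rw [h2, DirectSum.decompose_of_mem_same ℬ hx]
  rw [← h1]
  show _ ∈ ((HomogeneousIdeal.irrelevant 𝒜).map φ).toIdeal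
  rw [HomogeneousIdeal.toIdeal_map]
  refine Ideal.mem_map_of_mem _ ?_
  exact (HomogeneousIdeal.irrelevant_le 𝒜 (P := HomogeneousIdeal.irrelevant 𝒜)).mp le_rfl
    d hd (DirectSum.decompose 𝒜 a d).2

end Irrelevant

end Groth.Agent.Lib.helper12.ProjClosed
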