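import Mathlib
import Groth.Agent.Lib.Helper12.ProjClosed1

/-!
# Fraction sections of the structure sheaf of `Proj` (helper12)

`fr 𝒜 W ha hb hW` is the section `a / b` over an open `W` on which `b` vanishes nowhere
(`a b ∈ 𝒜 n`).  Restriction, products, equality, comparison with `Proj.awayToSection`, and the
basic open of `a / b`.
-/

set_option autoImplicit false
universe u

open CategoryTheory AlgebraicGeometry Opposite TopologicalSpace HomogeneousLocalization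

namespace Groth.Agent.Lib.helper12.ProjClosed

variable {R A : Type u} [CommRing R] [CommRing A] [Algebra R A] (𝒜 : ℕ → Submodule R A)
  [GradedAlgebra 𝒜]

/-- The section `a / b` of the structure sheaf of `Proj 𝒜` over an open on which `b` vanishes
nowhere. -/
def fr (W : (Proj 𝒜).Opens) {n : ℕ} {a b : A} (ha : a ∈ 𝒜 n) (hb : b ∈ 𝒜 n)
    (hW : ∀ x : W, b ∉ x.1.asHomogeneousIdeal) : Γ(Proj 𝒜, W) :=
  ⟨fun x => HomogeneousLocalization.mk ⟨n, ⟨a, ha⟩, ⟨b, hb⟩, hW x⟩,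
    fun x => ⟨W, x.2, 𝟙 _, n, ⟨a, ha⟩, ⟨b, hb⟩, fun y => hW y, fun _ => rfl⟩⟩

theorem fr_val (W : (Proj 𝒜).Opens) {n : ℕ} {a b : A} (ha : a ∈ 𝒜 n) (hb : b ∈ 𝒜 n)
    (hW : ∀ x : W, b ∉ x.1.asHomogeneousIdeal) (x : W) :
    ((fr 𝒜 W ha hb hW).1 x).val = Localization.mk a ⟨b, hW x⟩ := rfl

theorem sec_ext {W : (Proj 𝒜).Opens} (s t : Γ(Proj 𝒜, W))
    (h : ∀ x : W, (s.1 x).val = (t.1 x).val) : s = t := by
  apply Subtype.ext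
  funext x
  exact HomogeneousLocalization.val_injective _ (h x)

theorem res_val {W V : (Proj 𝒜).Opens} (h : V ≤ W) (s : Γ(Proj 𝒜, W)) (x : V) :
    ((((Proj 𝒜).presheaf.map (homOfLE h).op).hom s).1 x) = s.1 ⟨x.1, h x.2⟩ := rfl

theorem mul_val {W : (Proj 𝒜).Opens} (s t : Γ(Proj 𝒜, W)) (x : W) :
    ((s * t).1 x).val = (s.1 x).val * (t.1 x).val := by
  rw [← HomogeneousLocalization.val_mul]; rfl

theorem pow_val {W : (Proj 𝒜).Opens} (s : Γ(Proj 𝒜, W)) (k : ℕ) (x : W) :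
    ((s ^ k).1 x).val = (s.1 x).val ^ k := by
  rw [← HomogeneousLocalization.val_pow]; rfl

theorem fr_res {W V : (Proj 𝒜).Opens} (h : V ≤ W) {n : ℕ} {a b : A} (ha : a ∈ 𝒜 n) (hb : b ∈ 𝒜 n)
    (hW : ∀ x : W, b ∉ x.1.asHomogeneousIdeal) :
    ((Proj 𝒜).presheaf.map (homOfLE h).op).hom (fr 𝒜 W ha hb hW) =
      fr 𝒜 V ha hb (fun x => hW ⟨x.1, h x.2⟩) := rfl

theorem fr_eq_of_mul_eq (W : (Proj 𝒜).Opens) {n m : ℕ} {a b a' b' : A} (ha : a ∈ 𝒜 n)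
    (hb : b ∈ 𝒜 n) (ha' : a' ∈ 𝒜 m) (hb' : b' ∈ 𝒜 m)
    (hW : ∀ x : W, b ∉ x.1.asHomogeneousIdeal) (hW' : ∀ x : W, b' ∉ x.1.asHomogeneousIdeal)
    (e : a * b' = a' * b) : fr 𝒜 W ha hb hW = fr 𝒜 W ha' hb' hW' := by
  refine sec_ext 𝒜 _ _ fun x => ?_
  rw [fr_val, fr_val, Localization.mk_eq_mk_iff, Localization.r_iff_exists]
  refine ⟨1, ?_⟩
  simp only [OneMemClass.coe_one, one_mul]
  rw [mul_comm, e, mul_comm]

theorem notMem_mul {W : (Proj 𝒜).Opens} {b b' : A}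
    (hW : ∀ x : W, b ∉ x.1.asHomogeneousIdeal) (hW' : ∀ x : W, b' ∉ x.1.asHomogeneousIdeal)
    (x : W) : b * b' ∉ x.1.asHomogeneousIdeal :=
  fun h => (x.1.isPrime.mem_or_mem h).elim (hW x) (hW' x)

theorem notMem_pow {W : (Proj 𝒜).Opens} {b : A}
    (hW : ∀ x : W, b ∉ x.1.asHomogeneousIdeal) (k : ℕ)
    (x : W) : b ^ k ∉ x.1.asHomogeneousIdeal :=
  fun h => hW x (x.1.isPrime.mem_of_pow_mem k h)

theorem fr_mul (W : (Proj 𝒜).Opens) {n m : ℕ} {a b a' b' : A} (ha : a ∈ 𝒜 n)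
    (hb : b ∈ 𝒜 n) (ha' : a' ∈ 𝒜 m) (hb' : b' ∈ 𝒜 m)
    (hW : ∀ x : W, b ∉ x.1.asHomogeneousIdeal) (hW' : ∀ x : W, b' ∉ x.1.asHomogeneousIdeal) :
    fr 𝒜 W ha hb hW * fr 𝒜 W ha' hb' hW' =
      fr 𝒜 W (SetLike.GradedMul.mul_mem ha ha') (SetLike.GradedMul.mul_mem hb hb')
        (notMem_mul 𝒜 hW hW') := by
  refine sec_ext 𝒜 _ _ fun x => ?_
  rw [mul_val, fr_val, fr_val, fr_val, Localization.mk_mul]
  rfl

theorem fr_pow (W : (Proj 𝒜).Opens) {n : ℕ} {a b : A} (ha : a ∈ 𝒜 n)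
    (hb : b ∈ 𝒜 n) (hW : ∀ x : W, b ∉ x.1.asHomogeneousIdeal) (k : ℕ) :
    fr 𝒜 W ha hb hW ^ k =
      fr 𝒜 W (SetLike.pow_mem_graded k ha) (SetLike.pow_mem_graded k hb)
        (notMem_pow 𝒜 hW k) := by
  refine sec_ext 𝒜 _ _ fun x => ?_
  rw [pow_val, fr_val, fr_val, Localization.mk_pow]
  rfl

theorem fr_eq_zero (W : (Proj 𝒜).Opens) {n : ℕ} {b : A}
    (hb : b ∈ 𝒜 n) (hW : ∀ x : W, b ∉ x.1.asHomogeneousIdeal) :
    fr 𝒜 W (zero_mem _) hb hW = 0 := by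
  refine sec_ext 𝒜 _ _ fun x => ?_
  rw [fr_val, Localization.mk_zero]
  exact (HomogeneousLocalization.val_zero (𝒜 := 𝒜) (x := _)).symm

theorem notMem_of_mem_basicOpen {f : A} (x : Proj.basicOpen 𝒜 f) :
    f ∉ x.1.asHomogeneousIdeal :=
  (ProjectiveSpectrum.mem_basicOpen 𝒜 _ x.1).mp x.2

theorem awayToSection_mk {f : A} {m : ℕ} (hf : f ∈ 𝒜 m) (n : ℕ) (a : A) (ha : a ∈ 𝒜 (n • m)) :
    (Proj.awayToSection 𝒜 f).hom (Away.mk 𝒜 hf n a ha) =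
      fr 𝒜 (Proj.basicOpen 𝒜 f) ha (SetLike.pow_mem_graded n hf)
        (notMem_pow 𝒜 (notMem_of_mem_basicOpen 𝒜) n) := by
  refine sec_ext 𝒜 _ _ fun x => ?_
  rw [fr_val]
  change (HomogeneousLocalization.mapId 𝒜 _ (Away.mk 𝒜 hf n a ha)).val = _
  rw [Away.mk, HomogeneousLocalization.mapId, HomogeneousLocalization.map_mk,
    HomogeneousLocalization.val_mk]
  rfl

theorem isUnit_germ_iff (W : (Proj 𝒜).Opens) (x : Proj 𝒜) (hx : x ∈ W) (s : Γ(Proj 𝒜, W)) :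
    IsUnit ((Proj 𝒜).presheaf.germ W x hx s) ↔ IsUnit (s.1 ⟨x, hx⟩) := by
  have h := Proj.stalkIso'_germ 𝒜 W x hx s
  rw [← h]
  exact (MulEquiv.isUnit_map (Proj.stalkIso' 𝒜 x)).symm

theorem isUnit_fr_iff (W : (Proj 𝒜).Opens) {n : ℕ} {a b : A} (ha : a ∈ 𝒜 n) (hb : b ∈ 𝒜 n)
    (hW : ∀ x : W, b ∉ x.1.asHomogeneousIdeal) (x : W) :
    IsUnit ((fr 𝒜 W ha hb hW).1 x) ↔ a ∉ x.1.asHomogeneousIdeal := by
  rw [← HomogeneousLocalization.isUnit_iff_isUnit_val, fr_val, Localization.mk_eq_mk',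
    IsLocalization.AtPrime.isUnit_mk'_iff]
  rfl

theorem basicOpen_fr (W : (Proj 𝒜).Opens) {n : ℕ} {a b : A} (ha : a ∈ 𝒜 n) (hb : b ∈ 𝒜 n)
    (hW : ∀ x : W, b ∉ x.1.asHomogeneousIdeal) :
    (Proj 𝒜).basicOpen (fr 𝒜 W ha hb hW) = W ⊓ Proj.basicOpen 𝒜 a := by
  ext x
  rw [SetLike.mem_coe, SetLike.mem_coe, Scheme.mem_basicOpen'']
  constructor
  · rintro ⟨hx, hu⟩
    refine ⟨hx, (ProjectiveSpectrum.mem_basicOpen 𝒜 _ x).mpr ?_⟩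
    exact (isUnit_fr_iff 𝒜 W ha hb hW ⟨x, hx⟩).mp ((isUnit_germ_iff 𝒜 W x hx _).mp hu)
  · rintro ⟨hx, hxa⟩
    refine ⟨hx, (isUnit_germ_iff 𝒜 W x hx _).mpr ((isUnit_fr_iff 𝒜 W ha hb hW ⟨x, hx⟩).mpr ?_)⟩
    exact (ProjectiveSpectrum.mem_basicOpen 𝒜 _ x).mp hxa

end Groth.Agent.Lib.helper12.ProjClosed
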