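import Mathlib
import Groth.Agent.Lib.Helper12.ProjClosed2
import Groth.Agent.S3563

/-!
# Closed subschemes of `Proj` as `Proj` of a graded quotient (helper12; EGA II 2.9.2 / S3564)

* `exists_iso_of_chart_ker`: a closed immersion `i : Z ⟶ Proj 𝒜` and a surjective graded ring hom
  `φ : 𝒜 →+*ᵍ ℬ` such that on a cover by `D₊(f k)` the kernels of `Away.map φ (f k)` and of
  `i^♯` on `D₊(f k)` agree, give `Z ≅ Proj ℬ` over `Proj 𝒜`.
-/

set_option autoImplicit false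
set_option linter.style.haveILetI false
universe u

open CategoryTheory AlgebraicGeometry Opposite TopologicalSpace HomogeneousLocalization

namespace Groth.Agent.Lib.helper12.ProjClosed

variable {R A : Type u} [CommRing R] [CommRing A] [Algebra R A] (𝒜 : ℕ → Submodule R A)
  [GradedAlgebra 𝒜]

section Criterion

variable {B : Type u} [CommRing B] [Algebra R B] (ℬ : ℕ → Submodule R B) [GradedAlgebra ℬ]

theorem map_app_awayToSection (φ : 𝒜 →+*ᵍ ℬ)
    (hφ : HomogeneousIdeal.irrelevant ℬ ≤ (HomogeneousIdeal.irrelevant 𝒜).map φ)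
    {f : A} {m : ℕ} (hf : f ∈ 𝒜 m) (x : Away 𝒜 f) :
    ((Proj.map φ hφ).app (Proj.basicOpen 𝒜 f)).hom ((Proj.awayToSection 𝒜 f).hom x) =
      (Proj.awayToSection ℬ (φ f)).hom (Away.map φ f x) := by
  have h := Proj.awayToSection_comp_appLE φ hφ hf
  have h2 := congrArg (fun g => g.hom x) h
  simp only [CommRingCat.hom_comp, RingHom.coe_comp, Function.comp_apply,
    CommRingCat.hom_ofHom] at h2
  rw [← h2, Scheme.Hom.app_eq_appLE]
  rfl

theorem exists_iso_of_chart_ker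
    (φ : 𝒜 →+*ᵍ ℬ) (hsurj : Function.Surjective φ)
    (hφ : HomogeneousIdeal.irrelevant ℬ ≤ (HomogeneousIdeal.irrelevant 𝒜).map φ)
    {Z : Scheme.{u}} (i : Z ⟶ Proj 𝒜) [IsClosedImmersion i]
    {ι : Type*} (f : ι → A) (m : ι → ℕ) (hm : ∀ k, 0 < m k) (hf : ∀ k, f k ∈ 𝒜 (m k))
    (hcov : ⨆ k, Proj.basicOpen 𝒜 (f k) = ⊤)
    (hker : ∀ k (x : Away 𝒜 (f k)), Away.map φ (f k) x = 0 ↔
      (i.app (Proj.basicOpen 𝒜 (f k))).hom ((Proj.awayToSection 𝒜 (f k)).hom x) = 0) :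
    ∃ e : Z ≅ Proj ℬ, e.hom ≫ Proj.map φ hφ = i := by
  haveI : IsClosedImmersion (Proj.map φ hφ) := Groth.Agent.S3563.result 𝒜 ℬ φ hsurj hφ
  have hk : (Proj.map φ hφ).ker = i.ker := by
    refine Scheme.IdealSheafData.ext_of_iSup_eq_top
      (fun k => ⟨Proj.basicOpen 𝒜 (f k), Proj.isAffineOpen_basicOpen 𝒜 (f k) (hf k) (hm k)⟩)
      hcov fun k => ?_
    rw [Scheme.Hom.ker_apply, Scheme.Hom.ker_apply]
    ext y
    obtain ⟨x, rfl⟩ : ∃ x, (Proj.awayToSection 𝒜 (f k)).hom x = y :=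
      (ConcreteCategory.bijective_of_isIso
        (Proj.basicOpenIsoAway 𝒜 (f k) (hf k) (hm k)).hom).2 y
    rw [RingHom.mem_ker, RingHom.mem_ker, ← hker]
    show ((Proj.map φ hφ).app (Proj.basicOpen 𝒜 (f k))).hom _ = 0 ↔ _
    rw [map_app_awayToSection 𝒜 ℬ φ hφ (hf k)]
    constructor
    · intro h
      by_cases hd : φ (f k) ∈ ℬ (m k)
      · exact (ConcreteCategory.bijective_of_isIso
          (Proj.basicOpenIsoAway ℬ (φ (f k)) hd (hm k)).hom).1 (h.trans (map_zero _).symm)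
      · exact absurd (φ.map_mem (hf k)) hd
    · intro h
      rw [h, map_zero]
      rfl
  haveI := IsClosedImmersion.isIso_lift (Proj.map φ hφ) i hk
  exact ⟨asIso (IsClosedImmersion.lift (Proj.map φ hφ) i hk.le),
    IsClosedImmersion.lift_fac _ _ _⟩

end Criterion

end Groth.Agent.Lib.helper12.ProjClosed
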