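import Mathlib
import Groth.Agent.Lib.Helper12.ProjClosed3

/-!
# The homogeneous ideal of forms vanishing on a closed subscheme of `Proj` (helper12)

For `i : Z ⟶ Proj 𝒜` and a set `s` of degree-one elements, `vanIdeal` is the homogeneous ideal
whose degree-`d` part consists of the `a ∈ 𝒜 d` such that `a / f ^ d` pulls back to zero on
`i ⁻¹ D₊(f)` for all `f ∈ s`.
-/

set_option autoImplicit false
set_option linter.style.haveILetI false
universe u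

open CategoryTheory AlgebraicGeometry Opposite TopologicalSpace HomogeneousLocalization

namespace Groth.Agent.Lib.helper12.ProjClosed

variable {R A : Type u} [CommRing R] [CommRing A] [Algebra R A] (𝒜 : ℕ → Submodule R A)
  [GradedAlgebra 𝒜]

theorem fr_add (W : (Proj 𝒜).Opens) {n : ℕ} {a a' b : A} (ha : a ∈ 𝒜 n) (ha' : a' ∈ 𝒜 n)
    (hb : b ∈ 𝒜 n) (hW : ∀ x : W, b ∉ x.1.asHomogeneousIdeal) :
    fr 𝒜 W (add_mem ha ha') hb hW = fr 𝒜 W ha hb hW + fr 𝒜 W ha' hb hW := by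
  refine sec_ext 𝒜 _ _ fun x => ?_
  have h1 : ((fr 𝒜 W ha hb hW + fr 𝒜 W ha' hb hW).1 x).val =
      ((fr 𝒜 W ha hb hW).1 x).val + ((fr 𝒜 W ha' hb hW).1 x).val := by
    rw [← HomogeneousLocalization.val_add]; rfl
  rw [h1, fr_val, fr_val, fr_val, Localization.add_mk_self]

theorem pow_mem1 {f : A} (hf : f ∈ 𝒜 1) (d : ℕ) : f ^ d ∈ 𝒜 d := by
  have h := SetLike.pow_mem_graded d hf
  rwa [smul_eq_mul, mul_one] at h

section Vanish

variable {Z : Scheme.{u}} (i : Z ⟶ Proj 𝒜)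

/-- `a / f ^ d` pulled back to `Z`. -/
noncomputable def ev {f : A} (hf : f ∈ 𝒜 1) {d : ℕ} {a : A} (ha : a ∈ 𝒜 d) :
    Γ(Z, i ⁻¹ᵁ Proj.basicOpen 𝒜 f) :=
  (i.app (Proj.basicOpen 𝒜 f)).hom (fr 𝒜 (Proj.basicOpen 𝒜 f) ha (pow_mem1 𝒜 hf d)
    (notMem_pow 𝒜 (notMem_of_mem_basicOpen 𝒜) d))

theorem ev_congr {f : A} (hf : f ∈ 𝒜 1) {d d' : ℕ} {a a' : A} (ha : a ∈ 𝒜 d) (ha' : a' ∈ 𝒜 d')
    (hd : d = d') (e : a = a') : ev 𝒜 i hf ha = ev 𝒜 i hf ha' := by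
  subst hd; subst e; rfl

theorem ev_zero {f : A} (hf : f ∈ 𝒜 1) (d : ℕ) : ev 𝒜 i hf (zero_mem (𝒜 d)) = 0 := by
  unfold ev
  rw [fr_eq_zero, map_zero]

theorem ev_add {f : A} (hf : f ∈ 𝒜 1) {d : ℕ} {a a' : A} (ha : a ∈ 𝒜 d) (ha' : a' ∈ 𝒜 d) :
    ev 𝒜 i hf (add_mem ha ha') = ev 𝒜 i hf ha + ev 𝒜 i hf ha' := by
  unfold ev
  rw [fr_add, map_add]

theorem ev_mul {f : A} (hf : f ∈ 𝒜 1) {e d n : ℕ} {r a : A} (hr : r ∈ 𝒜 e) (ha : a ∈ 𝒜 d)
    (h : r * a ∈ 𝒜 n) (hn : n = e + d) :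
    ev 𝒜 i hf h = ev 𝒜 i hf hr * ev 𝒜 i hf ha := by
  subst hn
  unfold ev
  rw [← map_mul, fr_mul]
  congr 1
  exact fr_eq_of_mul_eq 𝒜 _ _ _ _ _ _ _ (by rw [pow_add])

variable (s : Set A) (hs1 : ∀ f ∈ s, f ∈ 𝒜 1)

/-- The ideal of elements all of whose homogeneous components vanish on `Z`. -/
noncomputable def vanIdeal : Ideal A where
  carrier := {a | ∀ (d : ℕ) (f : A) (hf : f ∈ s),
    ev 𝒜 i (hs1 f hf) (DirectSum.decompose 𝒜 a d).2 = 0}
  zero_mem' := by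
    intro d f hf
    rw [ev_congr 𝒜 i (hs1 f hf) _ (zero_mem (𝒜 d)) rfl (by rw [DirectSum.decompose_zero]; rfl),
      ev_zero]
  add_mem' := by
    intro a b ha hb d f hf
    rw [ev_congr 𝒜 i (hs1 f hf) _
      (add_mem (DirectSum.decompose 𝒜 a d).2 (DirectSum.decompose 𝒜 b d).2) rfl
      (by rw [DirectSum.decompose_add]; rfl),
      ev_add 𝒜 i (hs1 f hf) (DirectSum.decompose 𝒜 a d).2 (DirectSum.decompose 𝒜 b d).2,
      ha d f hf, hb d f hf, add_zero]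
  smul_mem' := by
    intro r a ha
    induction r using DirectSum.Decomposition.inductionOn 𝒜 with
    | zero =>
      intro d f hf
      rw [ev_congr 𝒜 i (hs1 f hf) _ (zero_mem (𝒜 d)) rfl
        (by rw [smul_eq_mul, zero_mul, DirectSum.decompose_zero]; rfl), ev_zero]
    | @homogeneous e r =>
      intro d f hf
      by_cases hed : e ≤ d
      · have h1 : ((DirectSum.decompose 𝒜 ((r : A) • a) d : 𝒜 d) : A) =
            (r : A) * (DirectSum.decompose 𝒜 a (d - e) : A) := by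
          rw [smul_eq_mul]
          exact DirectSum.coe_decompose_mul_of_left_mem_of_le 𝒜 r.2 hed
        have h2 : (r : A) * (DirectSum.decompose 𝒜 a (d - e) : A) ∈ 𝒜 d := by
          rw [← h1]; exact (DirectSum.decompose 𝒜 ((r : A) • a) d).2
        rw [ev_congr 𝒜 i (hs1 f hf) _ h2 rfl h1,
          ev_mul 𝒜 i (hs1 f hf) r.2 (DirectSum.decompose 𝒜 a (d - e)).2 h2 (by omega),
          ha (d - e) f hf, mul_zero]
      · have h1 : ((DirectSum.decompose 𝒜 ((r : A) • a) d : 𝒜 d) : A) = 0 := by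
          rw [smul_eq_mul]
          exact DirectSum.coe_decompose_mul_of_left_mem_of_not_le 𝒜 r.2 hed
        rw [ev_congr 𝒜 i (hs1 f hf) _ (zero_mem (𝒜 d)) rfl h1, ev_zero]
    | add r r' hr hr' =>
      intro d f hf
      have h1 : ((DirectSum.decompose 𝒜 ((r + r') • a) d : 𝒜 d) : A) =
          (DirectSum.decompose 𝒜 (r • a) d : A) + (DirectSum.decompose 𝒜 (r' • a) d : A) := by
        rw [add_smul, DirectSum.decompose_add]; rfl
      rw [ev_congr 𝒜 i (hs1 f hf) _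
        (add_mem (DirectSum.decompose 𝒜 (r • a) d).2 (DirectSum.decompose 𝒜 (r' • a) d).2) rfl h1,
        ev_add 𝒜 i (hs1 f hf) (DirectSum.decompose 𝒜 (r • a) d).2
          (DirectSum.decompose 𝒜 (r' • a) d).2, hr d f hf, hr' d f hf, add_zero]

theorem mem_vanIdeal_iff (a : A) : a ∈ vanIdeal 𝒜 i s hs1 ↔ ∀ (d : ℕ) (f : A) (hf : f ∈ s),
    ev 𝒜 i (hs1 f hf) (DirectSum.decompose 𝒜 a d).2 = 0 := Iff.rfl

theorem mem_vanIdeal_of_mem {d : ℕ} {a : A} (ha : a ∈ 𝒜 d) :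
    a ∈ vanIdeal 𝒜 i s hs1 ↔ ∀ (f : A) (hf : f ∈ s), ev 𝒜 i (hs1 f hf) ha = 0 := by
  rw [mem_vanIdeal_iff]
  constructor
  · intro h f hf
    rw [← h d f hf]
    exact ev_congr 𝒜 i (hs1 f hf) _ _ rfl (DirectSum.decompose_of_mem_same 𝒜 ha).symm
  · intro h d' f hf
    by_cases hd : d' = d
    · subst hd
      rw [← h f hf]
      exact ev_congr 𝒜 i (hs1 f hf) _ _ rfl (DirectSum.decompose_of_mem_same 𝒜 ha)
    · rw [ev_congr 𝒜 i (hs1 f hf) _ (zero_mem (𝒜 d')) rfl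
        (DirectSum.decompose_of_mem_ne 𝒜 ha (Ne.symm hd)), ev_zero]

theorem vanIdeal_isHomogeneous : (vanIdeal 𝒜 i s hs1).IsHomogeneous 𝒜 := by
  intro j a ha
  rw [mem_vanIdeal_of_mem 𝒜 i s hs1 (DirectSum.decompose 𝒜 a j).2]
  intro f hf
  exact ha j f hf

/-- `vanIdeal` as a homogeneous ideal. -/
noncomputable def vanHIdeal : HomogeneousIdeal 𝒜 :=
  ⟨vanIdeal 𝒜 i s hs1, vanIdeal_isHomogeneous 𝒜 i s hs1⟩

end Vanish

end Groth.Agent.Lib.helper12.ProjClosed
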