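import Mathlib
import Groth.Agent.Lib.Helper12.ProjClosed4

/-!
# A closed subscheme of `Proj 𝒜` is `Proj` of a graded quotient (helper12; EGA II 2.9.2)

`exists_iso_proj_quotient`: if `𝒜₊` is generated by a finite set `s` of degree-one elements and
`i : Z ⟶ Proj 𝒜` is a closed immersion, then `Z ≅ Proj (𝒜 / I)` over `Proj 𝒜`, where `I` is the
homogeneous ideal of forms vanishing on `Z` (`vanHIdeal`).
-/

set_option autoImplicit false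
set_option linter.style.haveILetI false
universe u

open CategoryTheory AlgebraicGeometry Opposite TopologicalSpace HomogeneousLocalization

namespace Groth.Agent.Lib.helper12.ProjClosed

variable {R A : Type u} [CommRing R] [CommRing A] [Algebra R A] (𝒜 : ℕ → Submodule R A)
  [GradedAlgebra 𝒜]

theorem away_mk_eq_zero_iff {f : A} {d : ℕ} (hf : f ∈ 𝒜 d) (n : ℕ) (a : A)
    (ha : a ∈ 𝒜 (n • d)) : Away.mk 𝒜 hf n a ha = 0 ↔ ∃ N : ℕ, f ^ N * a = 0 := by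
  rw [← HomogeneousLocalization.val_injective _ |>.eq_iff, Away.val_mk,
    HomogeneousLocalization.val_zero, Localization.mk_eq_mk', IsLocalization.mk'_eq_zero_iff]
  constructor
  · rintro ⟨⟨_, N, rfl⟩, h⟩
    exact ⟨N, h⟩
  · rintro ⟨N, h⟩
    exact ⟨⟨_, N, rfl⟩, h⟩

theorem res_eq_zero_of_eq {X : Scheme.{u}} {U W W' : X.Opens} (h : W = W') (hW : W ≤ U)
    (hW' : W' ≤ U) (x : Γ(X, U)) (H : (X.presheaf.map (homOfLE hW').op).hom x = 0) :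
    (X.presheaf.map (homOfLE hW).op).hom x = 0 := by
  subst h; exact H

section Chart

variable {Z : Scheme.{u}} (i : Z ⟶ Proj 𝒜)

theorem app_res {U V : (Proj 𝒜).Opens} (h : V ≤ U) (y : Γ(Proj 𝒜, U)) :
    (i.app V).hom (((Proj 𝒜).presheaf.map (homOfLE h).op).hom y) =
      (Z.presheaf.map (homOfLE (i.preimage_mono h)).op).hom ((i.app U).hom y) := by
  have := i.naturality (homOfLE h).op
  exact congrArg (fun g => g.hom y) this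

theorem exists_pow_ev_eq_zero [IsAffineHom i] {f g : A} (hf : f ∈ 𝒜 1) (hg : g ∈ 𝒜 1) {n : ℕ}
    {a : A} (ha : a ∈ 𝒜 n) (h0 : ev 𝒜 i hf ha = 0) :
    ∃ N : ℕ, ev 𝒜 i hg (SetLike.GradedMul.mul_mem (pow_mem1 𝒜 hf N) ha) = 0 := by
  set U := Proj.basicOpen 𝒜 g with hU
  set V := U ⊓ Proj.basicOpen 𝒜 f with hV
  have hgU : ∀ x : U, g ∉ x.1.asHomogeneousIdeal := notMem_of_mem_basicOpen 𝒜
  have hgV : ∀ x : V, g ∉ x.1.asHomogeneousIdeal := fun x => hgU ⟨x.1, x.2.1⟩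
  have hfV : ∀ x : V, f ∉ x.1.asHomogeneousIdeal := fun x =>
    notMem_of_mem_basicOpen 𝒜 ⟨x.1, x.2.2⟩
  -- `τ = f / g`, `σ = a / g ^ n` on `D₊(g)`
  set τ := fr 𝒜 U hf hg hgU with hτ
  set σ := fr 𝒜 U ha (pow_mem1 𝒜 hg n) (notMem_pow 𝒜 hgU n) with hσ
  set t := (i.app U).hom τ with ht
  have hu : ev 𝒜 i hg ha = (i.app U).hom σ := rfl
  have hbo : Z.basicOpen t = i ⁻¹ᵁ V := by
    rw [ht, ← Scheme.preimage_basicOpen, hτ, basicOpen_fr]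
  have hres : (Z.presheaf.map (homOfLE (i.preimage_mono (inf_le_left : V ≤ U))).op).hom
      ((i.app U).hom σ) = 0 := by
    rw [← app_res 𝒜 i (inf_le_left : V ≤ U), hσ, fr_res]
    have h1 : fr 𝒜 V ha (pow_mem1 𝒜 hg n) (fun x => notMem_pow 𝒜 hgU n ⟨x.1, x.2.1⟩) =
        ((Proj 𝒜).presheaf.map (homOfLE (inf_le_right : V ≤ Proj.basicOpen 𝒜 f)).op).hom
          (fr 𝒜 (Proj.basicOpen 𝒜 f) ha (pow_mem1 𝒜 hf n)
            (notMem_pow 𝒜 (notMem_of_mem_basicOpen 𝒜) n)) *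
        fr 𝒜 V (pow_mem1 𝒜 hf n) (pow_mem1 𝒜 hg n) (notMem_pow 𝒜 hgV n) := by
      rw [fr_res, fr_mul]
      exact fr_eq_of_mul_eq 𝒜 _ _ _ _ _ _ _ (by ring)
    rw [h1, map_mul, app_res 𝒜 i (inf_le_right : V ≤ Proj.basicOpen 𝒜 f)]
    have h0' : (i.app (Proj.basicOpen 𝒜 f)).hom (fr 𝒜 (Proj.basicOpen 𝒜 f) ha (pow_mem1 𝒜 hf n)
            (notMem_pow 𝒜 (notMem_of_mem_basicOpen 𝒜) n)) = 0 := h0
    rw [h0', map_zero, zero_mul]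
  have hUaff : IsAffineOpen (i ⁻¹ᵁ U) :=
    (Proj.isAffineOpen_basicOpen 𝒜 g hg Nat.one_pos).preimage i
  obtain ⟨N, hN⟩ := exists_pow_mul_eq_zero_of_res_basicOpen_eq_zero_of_isAffineOpen Z hUaff
    ((i.app U).hom σ) t
    (res_eq_zero_of_eq hbo (Z.basicOpen_le t) (i.preimage_mono inf_le_left) _ hres)
  refine ⟨N, ?_⟩
  have h2 : ev 𝒜 i hg (SetLike.GradedMul.mul_mem (pow_mem1 𝒜 hf N) ha) =
      t ^ N * (i.app U).hom σ := by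
    rw [ht, ← map_pow, ← map_mul, hτ, hσ, fr_pow, fr_mul]
    unfold ev
    congr 1
    exact fr_eq_of_mul_eq 𝒜 _ _ _ _ _ _ _ (by rw [pow_add])
  rw [h2, hN]

theorem exists_pow_mul_mem_vanIdeal [IsAffineHom i] (s : Finset A)
    (hs1 : ∀ f ∈ (s : Set A), f ∈ 𝒜 1) {f : A} (hf : f ∈ 𝒜 1) {n : ℕ} {a : A} (ha : a ∈ 𝒜 n)
    (h0 : ev 𝒜 i hf ha = 0) : ∃ N : ℕ, f ^ N * a ∈ vanIdeal 𝒜 i (s : Set A) hs1 := by
  have h1 : ∀ g : s, ∃ N : ℕ,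
      ev 𝒜 i (hs1 g.1 g.2) (SetLike.GradedMul.mul_mem (pow_mem1 𝒜 hf N) ha) = 0 :=
    fun g => exists_pow_ev_eq_zero 𝒜 i hf (hs1 g.1 g.2) ha h0
  choose N hN using h1
  refine ⟨Finset.univ.sup N, ?_⟩
  rw [mem_vanIdeal_of_mem 𝒜 i _ hs1 (SetLike.GradedMul.mul_mem (pow_mem1 𝒜 hf _) ha)]
  intro g hg
  have hle : N ⟨g, hg⟩ ≤ Finset.univ.sup N := Finset.le_sup (Finset.mem_univ _)
  have e : f ^ (Finset.univ.sup N) * a =
      f ^ (Finset.univ.sup N - N ⟨g, hg⟩) * (f ^ N ⟨g, hg⟩ * a) := by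
    rw [← mul_assoc, ← pow_add, Nat.sub_add_cancel hle]
  rw [ev_congr 𝒜 i (hs1 g hg) _ (SetLike.GradedMul.mul_mem (pow_mem1 𝒜 hf _)
    (SetLike.GradedMul.mul_mem (pow_mem1 𝒜 hf _) ha)) (by omega) e,
    ev_mul 𝒜 i (hs1 g hg) (pow_mem1 𝒜 hf _) (SetLike.GradedMul.mul_mem (pow_mem1 𝒜 hf _) ha) _ rfl,
    hN ⟨g, hg⟩, mul_zero]

theorem away_map_eq_zero_iff [IsAffineHom i] (s : Finset A)
    (hs1 : ∀ f ∈ (s : Set A), f ∈ 𝒜 1) {f : A} (hfs : f ∈ s) (x : Away 𝒜 f) :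
    Away.map (qHom 𝒜 (vanHIdeal 𝒜 i (s : Set A) hs1)) f x = 0 ↔
      (i.app (Proj.basicOpen 𝒜 f)).hom ((Proj.awayToSection 𝒜 f).hom x) = 0 := by
  have hf : f ∈ 𝒜 1 := hs1 f hfs
  obtain ⟨n, a, ha, rfl⟩ := Away.mk_surjective 𝒜 hf x
  have ha' : a ∈ 𝒜 n := by simpa using ha
  have key : (i.app (Proj.basicOpen 𝒜 f)).hom
      ((Proj.awayToSection 𝒜 f).hom (Away.mk 𝒜 hf n a ha)) = ev 𝒜 i hf ha' := by
    rw [awayToSection_mk]
    unfold ev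
    congr 1
    exact fr_eq_of_mul_eq 𝒜 _ _ _ _ _ _ _ rfl
  rw [key, Away.map_mk, away_mk_eq_zero_iff]
  constructor
  · rintro ⟨N, hN⟩
    have h1 : f ^ N * a ∈ vanIdeal 𝒜 i (s : Set A) hs1 := by
      have := (qHom_eq_zero_iff 𝒜 (vanHIdeal 𝒜 i (s : Set A) hs1) (f ^ N * a)).mp
        (by rw [map_mul, map_pow]; exact hN)
      exact this
    have h2 := (mem_vanIdeal_of_mem 𝒜 i _ hs1
      (SetLike.GradedMul.mul_mem (pow_mem1 𝒜 hf N) ha')).mp h1 f hfs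
    have h3 : ev 𝒜 i hf (SetLike.GradedMul.mul_mem (pow_mem1 𝒜 hf N) ha') = ev 𝒜 i hf ha' := by
      unfold ev
      congr 1
      exact fr_eq_of_mul_eq 𝒜 _ _ _ _ _ _ _ (by rw [pow_add]; ring)
    rw [← h3]
    exact h2
  · intro h0
    obtain ⟨N, hN⟩ := exists_pow_mul_mem_vanIdeal 𝒜 i s hs1 hf ha' h0
    refine ⟨N, ?_⟩
    rw [← map_pow, ← map_mul]
    exact (qHom_eq_zero_iff 𝒜 (vanHIdeal 𝒜 i (s : Set A) hs1) (f ^ N * a)).mpr hN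

end Chart

theorem exists_iso_proj_quotient (s : Finset A) (hs1 : ∀ f ∈ (s : Set A), f ∈ 𝒜 1)
    (hs : (HomogeneousIdeal.irrelevant 𝒜).toIdeal = Ideal.span (s : Set A))
    {Z : Scheme.{u}} (i : Z ⟶ Proj 𝒜) [IsClosedImmersion i] :
    ∃ e : Z ≅ Proj (qGr 𝒜 (vanHIdeal 𝒜 i (s : Set A) hs1)),
      e.hom ≫ Proj.map (qHom 𝒜 (vanHIdeal 𝒜 i (s : Set A) hs1))
        (irrelevant_le_map_of_surjective 𝒜 _ _ (qHom_surjective 𝒜 _)) = i := by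
  refine exists_iso_of_chart_ker 𝒜 _ (qHom 𝒜 (vanHIdeal 𝒜 i (s : Set A) hs1))
    (qHom_surjective 𝒜 _) _ i (fun k : s => (k.1 : A)) (fun _ => 1) (fun _ => Nat.one_pos)
    (fun k => hs1 k.1 k.2) ?_ (fun k x => away_map_eq_zero_iff 𝒜 i s hs1 k.2 x)
  refine Proj.iSup_basicOpen_eq_top 𝒜 _ ?_
  rw [hs, Subtype.range_coe_subtype]
  rfl

end Groth.Agent.Lib.helper12.ProjClosed
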