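import Mathlib
import Groth.Agent.Lib.Helper12.ProjClosed5
import Groth.Agent.Lib.Helper28.RelTwistCanon

/-!
# Functoriality of `ev` and degree-zero functions on `Proj` (helper12)
-/

set_option autoImplicit false
universe u

open CategoryTheory CategoryTheory.Limits AlgebraicGeometry Opposite TopologicalSpace
open HomogeneousLocalization
open scoped HomogeneousIdeal

namespace Groth.Agent.Lib.helper12.PnLocal

open Groth.Agent.Lib.helper12.ProjClosed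

variable {R A : Type u} [CommRing R] [CommRing A] [Algebra R A] (𝒜 : ℕ → Submodule R A)
  [GradedAlgebra 𝒜]

/-- The global function on `Proj 𝒜` pulled back from a degree-zero element. -/
noncomputable def gam (c : 𝒜 0) : Γ(Proj 𝒜, ⊤) :=
  (Proj.toSpecZero 𝒜).appTop ((Scheme.ΓSpecIso (.of (𝒜 0))).inv c)

theorem fr_zero_eq (W : (Proj 𝒜).Opens) (c : 𝒜 0)
    (hW : ∀ x : W, (1 : A) ∉ x.1.asHomogeneousIdeal) :
    fr 𝒜 W c.2 (SetLike.GradedOne.one_mem : (1 : A) ∈ 𝒜 0) hW =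
      ((Proj 𝒜).presheaf.map (homOfLE (le_top : W ≤ ⊤)).op).hom (gam 𝒜 c) := by
  refine sec_ext 𝒜 _ _ fun x => ?_
  rw [fr_val, res_val]
  have h := Groth.Agent.Lib.helper28.RelTwistCanon.toSpecZero_val 𝒜 c x.1
  refine Eq.trans ?_ h.symm
  rw [← Localization.mk_one_eq_algebraMap]
  rfl

section Loc

variable {Z : Scheme.{u}} (i : Z ⟶ Proj 𝒜)

theorem one_notMem (W : (Proj 𝒜).Opens) (x : W) : (1 : A) ∉ x.1.asHomogeneousIdeal :=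
  fun h => x.1.isPrime.ne_top ((Ideal.eq_top_iff_one _).mpr h)

/-- The global function on `Z` pulled back from a degree-zero element. -/
noncomputable def rho (c : 𝒜 0) : Γ(Z, ⊤) := i.appTop.hom (gam 𝒜 c)

theorem app_fr_zero (c : 𝒜 0) (U : (Proj 𝒜).Opens) :
    (i.app U).hom (fr 𝒜 U c.2 (SetLike.GradedOne.one_mem : (1 : A) ∈ 𝒜 0) (one_notMem 𝒜 U)) =
      (Z.presheaf.map (homOfLE (le_top : i ⁻¹ᵁ U ≤ ⊤)).op).hom (rho 𝒜 i c) := by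
  rw [fr_zero_eq, app_res 𝒜 i (le_top : U ≤ ⊤)]
  rfl

theorem exists_pow_ev_eq_zero_of_res [IsAffineHom i] (c : 𝒜 0) {g : A} (hg : g ∈ 𝒜 1) {n : ℕ}
    {a : A} (ha : a ∈ 𝒜 n) (V : Z.Opens)
    (hV : i ⁻¹ᵁ Proj.basicOpen 𝒜 g ⊓ Z.basicOpen (rho 𝒜 i c) ≤ V)
    (hVle : V ≤ i ⁻¹ᵁ Proj.basicOpen 𝒜 g)
    (h0 : (Z.presheaf.map (homOfLE hVle).op).hom (ev 𝒜 i hg ha) = 0) :
    ∃ N : ℕ, ∀ h : (c : A) ^ N * a ∈ 𝒜 n, ev 𝒜 i hg h = 0 := by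
  set U := Proj.basicOpen 𝒜 g with hU
  have hgU : ∀ x : U, g ∉ x.1.asHomogeneousIdeal := notMem_of_mem_basicOpen 𝒜
  set τ := fr 𝒜 U c.2 (SetLike.GradedOne.one_mem : (1 : A) ∈ 𝒜 0) (one_notMem 𝒜 U) with hτ
  set σ := fr 𝒜 U ha (pow_mem1 𝒜 hg n) (notMem_pow 𝒜 hgU n) with hσ
  set t := (i.app U).hom τ with ht
  have hu : ev 𝒜 i hg ha = (i.app U).hom σ := rfl
  have hbo : Z.basicOpen t = i ⁻¹ᵁ U ⊓ Z.basicOpen (rho 𝒜 i c) := by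
    rw [ht, hτ, app_fr_zero, Scheme.basicOpen_res]
  have hle : Z.basicOpen t ≤ V := hbo.le.trans hV
  have hres : (Z.presheaf.map (homOfLE (Z.basicOpen_le t)).op).hom ((i.app U).hom σ) = 0 := by
    have h1 : (Z.presheaf.map (homOfLE (Z.basicOpen_le t)).op).hom ((i.app U).hom σ) =
        (Z.presheaf.map (homOfLE hle).op).hom
          ((Z.presheaf.map (homOfLE hVle).op).hom ((i.app U).hom σ)) := by
      have h3 : Z.presheaf.map (homOfLE (Z.basicOpen_le t)).op =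
          Z.presheaf.map (homOfLE hVle).op ≫ Z.presheaf.map (homOfLE hle).op := by
        rw [← Functor.map_comp]
        rfl
      rw [h3]
      rfl
    rw [h1, ← hu, h0, map_zero]
  have hUaff : IsAffineOpen (i ⁻¹ᵁ U) :=
    (Proj.isAffineOpen_basicOpen 𝒜 g hg Nat.one_pos).preimage i
  obtain ⟨N, hN⟩ := exists_pow_mul_eq_zero_of_res_basicOpen_eq_zero_of_isAffineOpen Z hUaff
    ((i.app U).hom σ) t hres
  refine ⟨N, fun h => ?_⟩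
  have h2 : ev 𝒜 i hg h = t ^ N * (i.app U).hom σ := by
    rw [ht, ← map_pow, ← map_mul, hτ, hσ, fr_pow, fr_mul]
    unfold ev
    congr 1
    exact fr_eq_of_mul_eq 𝒜 _ _ _ _ _ _ _ (by rw [one_pow, one_mul])
  rw [h2, hN]

end Loc

section Functorial

variable {R' B : Type u} [CommRing R'] [CommRing B] [Algebra R' B] (ℬ : ℕ → Submodule R' B)
  [GradedAlgebra ℬ]

theorem fr_map (φ : 𝒜 →+*ᵍ ℬ) (hφ : ℬ₊ ≤ (𝒜₊).map φ) (W : (Proj 𝒜).Opens) {d : ℕ} {a b : A}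
    (ha : a ∈ 𝒜 d) (hb : b ∈ 𝒜 d) (hW : ∀ x : W, b ∉ x.1.asHomogeneousIdeal)
    (hW' : ∀ x : (Proj.map φ hφ ⁻¹ᵁ W : (Proj ℬ).Opens), φ b ∉ x.1.asHomogeneousIdeal) :
    ((Proj.map φ hφ).app W).hom (fr 𝒜 W ha hb hW) =
      fr ℬ (Proj.map φ hφ ⁻¹ᵁ W) (φ.map_mem ha) (φ.map_mem hb) hW' := by
  refine sec_ext ℬ _ _ fun x => ?_
  rw [fr_val]
  rfl

theorem appLE_congr_hom {X Y : Scheme.{u}} {g g' : X ⟶ Y} (h : g = g') (U : Y.Opens)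
    (V : X.Opens) (e : V ≤ g ⁻¹ᵁ U) (e' : V ≤ g' ⁻¹ᵁ U) : g.appLE U V e = g'.appLE U V e' := by
  subst h
  rfl

theorem ev_comm {Z Z' : Scheme.{u}} (i : Z ⟶ Proj 𝒜) (i' : Z' ⟶ Proj ℬ) (j : Z' ⟶ Z)
    (φ : 𝒜 →+*ᵍ ℬ) (hφ : ℬ₊ ≤ (𝒜₊).map φ) (comm : j ≫ i = i' ≫ Proj.map φ hφ)
    {f : A} (hf : f ∈ 𝒜 1) {d : ℕ} {a : A} (ha : a ∈ 𝒜 d)
    (hle : i' ⁻¹ᵁ Proj.basicOpen ℬ (φ f) ≤ j ⁻¹ᵁ (i ⁻¹ᵁ Proj.basicOpen 𝒜 f)) :
    (j.appLE (i ⁻¹ᵁ Proj.basicOpen 𝒜 f) (i' ⁻¹ᵁ Proj.basicOpen ℬ (φ f)) hle).hom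
      (ev 𝒜 i hf ha) = ev ℬ i' (φ.map_mem hf) (φ.map_mem ha) := by
  have hle' : i' ⁻¹ᵁ (Proj.map φ hφ ⁻¹ᵁ Proj.basicOpen 𝒜 f) ≤
      j ⁻¹ᵁ (i ⁻¹ᵁ Proj.basicOpen 𝒜 f) := hle
  have key : i.app (Proj.basicOpen 𝒜 f) ≫
      j.appLE (i ⁻¹ᵁ Proj.basicOpen 𝒜 f) (i' ⁻¹ᵁ (Proj.map φ hφ ⁻¹ᵁ Proj.basicOpen 𝒜 f)) hle' =
      (Proj.map φ hφ).app (Proj.basicOpen 𝒜 f) ≫
        i'.app (Proj.map φ hφ ⁻¹ᵁ Proj.basicOpen 𝒜 f) := by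
    refine (Scheme.Hom.comp_appLE j i _ _ hle').symm.trans ?_
    refine (appLE_congr_hom comm _ _ _ (le_refl _)).trans ?_
    refine (Scheme.Hom.comp_appLE i' (Proj.map φ hφ) _ _ (le_refl _)).trans ?_
    exact congrArg (fun k => (Proj.map φ hφ).app (Proj.basicOpen 𝒜 f) ≫ k)
      (Scheme.Hom.appLE_eq_app i' (U := Proj.map φ hφ ⁻¹ᵁ Proj.basicOpen 𝒜 f))
  have hW' : ∀ x : (Proj.map φ hφ ⁻¹ᵁ Proj.basicOpen 𝒜 f : (Proj ℬ).Opens),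
      φ (f ^ d) ∉ x.1.asHomogeneousIdeal := fun x => by
    have hx := notMem_pow ℬ (notMem_of_mem_basicOpen ℬ (f := φ f)) d x
    rwa [← map_pow] at hx
  have h2 := congrArg (fun g => g.hom (fr 𝒜 (Proj.basicOpen 𝒜 f) ha (pow_mem1 𝒜 hf d)
    (notMem_pow 𝒜 (notMem_of_mem_basicOpen 𝒜) d))) key
  simp only [CommRingCat.hom_comp, RingHom.comp_apply] at h2
  rw [fr_map 𝒜 ℬ φ hφ _ ha (pow_mem1 𝒜 hf d) _ hW'] at h2
  unfold ev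
  refine h2.trans ?_
  change (i'.app (Proj.basicOpen ℬ (φ f))).hom _ = (i'.app (Proj.basicOpen ℬ (φ f))).hom _
  congr 1
  exact fr_eq_of_mul_eq ℬ _ _ _ _ _ _ _ (by rw [map_pow])

end Functorial

end Groth.Agent.Lib.helper12.PnLocal
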