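import Mathlib
import Groth.Agent.Lib.Helper12.PnLocal1
import Groth.Agent.Lib.Helper12.PnLocal2

/-!
# Compatible closed immersions into `P^n` over the affine opens: the ideals (helper12)
-/

set_option autoImplicit false
universe u

open CategoryTheory CategoryTheory.Limits AlgebraicGeometry Opposite TopologicalSpace
open HomogeneousLocalization
open scoped HomogeneousIdeal

namespace Groth.Agent.Lib.helper12.PnLocal

open Groth.Agent.Lib.helper12.ProjClosed

section Ring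

variable (n : ℕ) (R : Type u) [CommRing R]

open Classical in
/-- The variables, as a finset of the polynomial ring. -/
noncomputable def varSet : Finset (MvPolynomial (Fin (n + 1)) R) :=
  Finset.univ.image (MvPolynomial.X : Fin (n + 1) → MvPolynomial (Fin (n + 1)) R)

theorem X_mem_varSet (k : Fin (n + 1)) :
    (MvPolynomial.X k : MvPolynomial (Fin (n + 1)) R) ∈ (varSet n R : Set _) :=
  by classical exact Finset.mem_coe.mpr (Finset.mem_image.mpr ⟨k, Finset.mem_univ _, rfl⟩)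

theorem varSet_mem1 : ∀ f ∈ (varSet n R : Set (MvPolynomial (Fin (n + 1)) R)),
    f ∈ CohB1.polyGrading n R 1 := by
  classical
  intro f hf
  obtain ⟨k, -, rfl⟩ := Finset.mem_image.mp (Finset.mem_coe.mp hf)
  exact Groth.Agent.Lib.helper28.TwistPn.X_mem n R k

theorem irrelevant_eq_span :
    (HomogeneousIdeal.irrelevant (CohB1.polyGrading n R)).toIdeal =
      Ideal.span (varSet n R : Set (MvPolynomial (Fin (n + 1)) R)) := by
  have hrange : (varSet n R : Set (MvPolynomial (Fin (n + 1)) R)) =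
      Set.range (MvPolynomial.X : Fin (n + 1) → MvPolynomial (Fin (n + 1)) R) := by
    classical
    ext f
    simp [varSet]
  refine le_antisymm ?_ ?_
  · rw [hrange]
    exact Groth.Agent.Lib.helper28.TwistPn.irrelevant_le n R
  · rw [Ideal.span_le]
    intro f hf
    exact HomogeneousIdeal.mem_irrelevant_of_mem _ Nat.one_pos (varSet_mem1 n R f hf)

end Ring

section EvCongr

variable {R A : Type u} [CommRing R] [CommRing A] [Algebra R A] (𝒜 : ℕ → Submodule R A)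
  [GradedAlgebra 𝒜] {Z : Scheme.{u}} (i : Z ⟶ Proj 𝒜)

theorem ev_eq_zero_congr {f f' : A} (hff : f = f') (hf : f ∈ 𝒜 1) (hf' : f' ∈ 𝒜 1) {d : ℕ}
    {a : A} (ha : a ∈ 𝒜 d) : ev 𝒜 i hf ha = 0 ↔ ev 𝒜 i hf' ha = 0 := by
  subst hff
  rfl

end EvCongr

/-- Compatible closed immersions of the parts of `X` over the affine opens `U` of `S` into
`P^n_{Γ(S,U)}`. -/
structure PnData (n : ℕ) {X S : Scheme.{u}} (f : X ⟶ S) where
  /-- the immersions -/
  r : ∀ (U : S.Opens) (_ : IsAffineOpen U),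
    ((f ⁻¹ᵁ U : X.Opens) : Scheme.{u}) ⟶ Proj (CohB1.polyGrading n Γ(S, U))
  closed : ∀ (U : S.Opens) (hU : IsAffineOpen U), IsClosedImmersion (r U hU)
  overBase : ∀ (U : S.Opens) (hU : IsAffineOpen U),
    r U hU ≫ toSpecP n Γ(S, U) = f ∣_ U ≫ hU.isoSpec.hom
  res : ∀ {U V : S.Opens} (hU : IsAffineOpen U) (hV : IsAffineOpen V) (hVU : V ≤ U),
    X.homOfLE (f.preimage_mono hVU) ≫ r U hU =
      r V hV ≫ Proj.map (polyMap n (resHom hVU)) (irrelevant_le_polyMap n _)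

namespace PnData

variable {n : ℕ} {X S : Scheme.{u}} {f : X ⟶ S} (D : PnData n f)

instance (U : S.Opens) (hU : IsAffineOpen U) : IsClosedImmersion (D.r U hU) := D.closed U hU

/-- The homogeneous ideal of `X` over `U`. -/
noncomputable def I (U : S.Opens) (hU : IsAffineOpen U) :
    HomogeneousIdeal (CohB1.polyGrading n Γ(S, U)) :=
  vanHIdeal (CohB1.polyGrading n Γ(S, U)) (D.r U hU) (varSet n Γ(S, U) : Set _)
    (varSet_mem1 n Γ(S, U))

theorem mem_I_of_mem (U : S.Opens) (hU : IsAffineOpen U) {d : ℕ}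
    {a : MvPolynomial (Fin (n + 1)) Γ(S, U)} (ha : a ∈ CohB1.polyGrading n Γ(S, U) d) :
    a ∈ (D.I U hU).toIdeal ↔ ∀ k : Fin (n + 1),
      ev (CohB1.polyGrading n Γ(S, U)) (D.r U hU)
        (Groth.Agent.Lib.helper28.TwistPn.X_mem n Γ(S, U) k) ha = 0 := by
  change a ∈ vanIdeal _ _ _ _ ↔ _
  rw [mem_vanIdeal_of_mem _ _ _ _ ha]
  constructor
  · intro h k
    exact h _ (X_mem_varSet n _ k)
  · intro h g hg
    classical
    obtain ⟨k, -, rfl⟩ := Finset.mem_image.mp (Finset.mem_coe.mp hg)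
    exact h k

theorem polyMap_mem_I {U V : S.Opens} (hU : IsAffineOpen U) (hV : IsAffineOpen V) (hVU : V ≤ U)
    {a : MvPolynomial (Fin (n + 1)) Γ(S, U)} (ha : a ∈ (D.I U hU).toIdeal) :
    polyMap n (resHom hVU) a ∈ (D.I V hV).toIdeal := by
  classical
  rw [← DirectSum.sum_support_decompose (CohB1.polyGrading n Γ(S, U)) a, map_sum]
  refine Ideal.sum_mem _ fun d _ => ?_
  have hd : (DirectSum.decompose (CohB1.polyGrading n Γ(S, U)) a d :
      MvPolynomial (Fin (n + 1)) Γ(S, U)) ∈ (D.I U hU).toIdeal := (D.I U hU).isHomogeneous d ha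
  have hdm := (DirectSum.decompose (CohB1.polyGrading n Γ(S, U)) a d).2
  refine (D.mem_I_of_mem V hV ((polyMap n (resHom hVU)).map_mem hdm)).mpr ?_
  intro k
  have h1 := (D.mem_I_of_mem U hU hdm).mp hd k
  have hle : D.r V hV ⁻¹ᵁ Proj.basicOpen (CohB1.polyGrading n Γ(S, V))
      (polyMap n (resHom hVU) (MvPolynomial.X k)) ≤
      X.homOfLE (f.preimage_mono hVU) ⁻¹ᵁ (D.r U hU ⁻¹ᵁ
        Proj.basicOpen (CohB1.polyGrading n Γ(S, U)) (MvPolynomial.X k)) := by
    rw [← Scheme.Hom.comp_preimage, D.res hU hV hVU]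
    exact le_of_eq rfl
  have h2 := ev_comm (CohB1.polyGrading n Γ(S, U)) (CohB1.polyGrading n Γ(S, V)) (D.r U hU)
    (D.r V hV) (X.homOfLE (f.preimage_mono hVU)) (polyMap n (resHom hVU))
    (irrelevant_le_polyMap n _) (D.res hU hV hVU)
    (Groth.Agent.Lib.helper28.TwistPn.X_mem n Γ(S, U) k) hdm hle
  rw [h1, map_zero] at h2
  refine (ev_eq_zero_congr _ _ ?_ _ _ _).mp h2.symm
  exact MvPolynomial.map_X _ k

theorem res_eq_zero_of_appLE_eq_zero {Z' Z : Scheme.{u}} (j : Z' ⟶ Z) [IsOpenImmersion j]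
    (W : Z.Opens) (W' : Z'.Opens) (e : W' ≤ j ⁻¹ᵁ W) (hle : j ''ᵁ W' ≤ W) (s : Γ(Z, W))
    (h : (j.appLE W W' e).hom s = 0) : (Z.presheaf.map (homOfLE hle).op).hom s = 0 := by
  have h1 : j.appLE W W' e = Z.presheaf.map (homOfLE hle).op ≫ (j.appIso W').hom := by
    rw [Scheme.Hom.appIso_hom', Scheme.Hom.map_appLE]
  rw [h1, CommRingCat.comp_apply] at h
  have hinj : Function.Injective (j.appIso W').hom :=
    (ConcreteCategory.bijective_of_isIso (j.appIso W').hom).1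
  exact hinj (h.trans (map_zero _).symm)

/-- The degree-zero element `C r`. -/
noncomputable def cElt (U : S.Opens) (r : Γ(S, U)) : CohB1.polyGrading n Γ(S, U) 0 :=
  ⟨MvPolynomial.C r, C_mem_zero n r⟩

theorem rho_eq (U : S.Opens) (hU : IsAffineOpen U) (r : Γ(S, U)) :
    rho (CohB1.polyGrading n Γ(S, U)) (D.r U hU) (cElt U r) =
      (f ∣_ U).appTop.hom (U.topIso.inv.hom r) := by
  have key : CommRingCat.ofHom (algebraMap Γ(S, U) (CohB1.polyGrading n Γ(S, U) 0)) ≫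
      (Scheme.ΓSpecIso (CommRingCat.of (CohB1.polyGrading n Γ(S, U) 0))).inv ≫
      (Proj.toSpecZero (CohB1.polyGrading n Γ(S, U))).appTop ≫ (D.r U hU).appTop =
      U.topIso.inv ≫ (f ∣_ U).appTop := by
    have h := congrArg Scheme.Hom.appTop (D.overBase U hU)
    rw [toSpecP_eq, Scheme.Hom.comp_appTop, Scheme.Hom.comp_appTop, Scheme.Hom.comp_appTop,
      IsAffineOpen.isoSpec_hom_appTop, Category.assoc] at h
    rw [← Category.assoc, Scheme.ΓSpecIso_inv_naturality, Category.assoc, h, Category.assoc]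
    exact Iso.inv_hom_id_assoc _ _
  exact congrArg (fun g => g.hom r) key

theorem basicOpen_rho (U : S.Opens) (hU : IsAffineOpen U) (r : Γ(S, U)) :
    ((f ⁻¹ᵁ U : X.Opens) : Scheme.{u}).basicOpen
      (rho (CohB1.polyGrading n Γ(S, U)) (D.r U hU) (cElt U r)) =
      (X.homOfLE (f.preimage_mono (S.basicOpen_le r))).opensRange := by
  rw [D.rho_eq U hU r, ← Scheme.preimage_basicOpen_top, Scheme.opensRange_homOfLE]
  apply (f ⁻¹ᵁ U).ι.image_injective
  beta_reduce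
  rw [Scheme.Hom.image_preimage_eq_opensRange_inf, Scheme.Opens.opensRange_ι]
  have h1 : (f ⁻¹ᵁ U).ι ''ᵁ ((f ∣_ U) ⁻¹ᵁ ((U : Scheme.{u}).basicOpen (U.topIso.inv.hom r))) =
      f ⁻¹ᵁ (U.ι ''ᵁ ((U : Scheme.{u}).basicOpen (U.topIso.inv.hom r))) :=
    image_morphismRestrict_preimage f U _
  rw [h1, Scheme.Opens.ι_image_basicOpen_topIso_inv]
  exact (inf_eq_right.mpr (f.preimage_mono (S.basicOpen_le r))).symm

theorem C_pow_mul_mem (U : S.Opens) (r : Γ(S, U)) (N : ℕ) {d : ℕ}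
    {a : MvPolynomial (Fin (n + 1)) Γ(S, U)} (ha : a ∈ CohB1.polyGrading n Γ(S, U) d) :
    MvPolynomial.C r ^ N * a ∈ CohB1.polyGrading n Γ(S, U) d := by
  have h1 : (MvPolynomial.C r ^ N : MvPolynomial (Fin (n + 1)) Γ(S, U)) ∈
      CohB1.polyGrading n Γ(S, U) 0 := by
    rw [← map_pow]
    exact C_mem_zero n _
  have h2 := SetLike.GradedMul.mul_mem h1 ha
  rwa [zero_add] at h2

theorem preimage_homOfLE_preimage {U V : S.Opens} (hU : IsAffineOpen U) (hV : IsAffineOpen V)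
    (hVU : V ≤ U) (k : Fin (n + 1)) :
    X.homOfLE (f.preimage_mono hVU) ⁻¹ᵁ (D.r U hU ⁻¹ᵁ
      Proj.basicOpen (CohB1.polyGrading n Γ(S, U)) (MvPolynomial.X k)) =
      D.r V hV ⁻¹ᵁ Proj.basicOpen (CohB1.polyGrading n Γ(S, V)) (MvPolynomial.X k) := by
  rw [← Scheme.Hom.comp_preimage, D.res hU hV hVU, Scheme.Hom.comp_preimage,
    Proj.map_preimage_basicOpen]
  congr 2
  exact MvPolynomial.map_X _ k

theorem exists_pow_ev_eq_zero (U : S.Opens) (hU : IsAffineOpen U) (r : Γ(S, U)) {d : ℕ}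
    {a : MvPolynomial (Fin (n + 1)) Γ(S, U)} (ha : a ∈ CohB1.polyGrading n Γ(S, U) d)
    (h : polyMap n (resHom (S.basicOpen_le r)) a ∈
      (D.I (S.basicOpen r) (hU.basicOpen r)).toIdeal) (k : Fin (n + 1)) :
    ∃ N : ℕ, ∀ h : MvPolynomial.C r ^ N * a ∈ CohB1.polyGrading n Γ(S, U) d,
      ev (CohB1.polyGrading n Γ(S, U)) (D.r U hU)
        (Groth.Agent.Lib.helper28.TwistPn.X_mem n Γ(S, U) k) h = 0 := by
  set V := S.basicOpen r with hVdef
  have hV : IsAffineOpen V := hU.basicOpen r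
  have hVU : V ≤ U := S.basicOpen_le r
  set j := X.homOfLE (f.preimage_mono hVU) with hj
  set W := D.r U hU ⁻¹ᵁ Proj.basicOpen (CohB1.polyGrading n Γ(S, U)) (MvPolynomial.X k) with hW
  set W' := D.r V hV ⁻¹ᵁ Proj.basicOpen (CohB1.polyGrading n Γ(S, V)) (MvPolynomial.X k)
    with hW'
  have hpre : j ⁻¹ᵁ W = W' := D.preimage_homOfLE_preimage hU hV hVU k
  have himg : j ''ᵁ W' = j.opensRange ⊓ W := by
    rw [← hpre, Scheme.Hom.image_preimage_eq_opensRange_inf]
  have hle1 : j ''ᵁ W' ≤ W := himg.le.trans inf_le_right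
  -- vanishing over `V`
  have hV0 := (D.mem_I_of_mem V hV ((polyMap n (resHom hVU)).map_mem ha)).mp h k
  have hle : D.r V hV ⁻¹ᵁ Proj.basicOpen (CohB1.polyGrading n Γ(S, V))
      (polyMap n (resHom hVU) (MvPolynomial.X k)) ≤ j ⁻¹ᵁ W := by
    rw [hpre]
    refine le_of_eq ?_
    congr 2
    exact MvPolynomial.map_X _ k
  have h2 := ev_comm (CohB1.polyGrading n Γ(S, U)) (CohB1.polyGrading n Γ(S, V)) (D.r U hU)
    (D.r V hV) j (polyMap n (resHom hVU))
    (irrelevant_le_polyMap n _) (D.res hU hV hVU)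
    (Groth.Agent.Lib.helper28.TwistPn.X_mem n Γ(S, U) k) ha hle
  have h3 : ev (CohB1.polyGrading n Γ(S, V)) (D.r V hV)
      ((polyMap n (resHom hVU)).map_mem (Groth.Agent.Lib.helper28.TwistPn.X_mem n Γ(S, U) k))
      ((polyMap n (resHom hVU)).map_mem ha) = 0 :=
    (ev_eq_zero_congr _ _ (MvPolynomial.map_X _ k).symm _ _ _).mp hV0
  rw [h3] at h2
  have hle' : j ''ᵁ (D.r V hV ⁻¹ᵁ Proj.basicOpen (CohB1.polyGrading n Γ(S, V))
      (polyMap n (resHom hVU) (MvPolynomial.X k))) ≤ W := by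
    refine le_trans (le_of_eq ?_) hle1
    congr 3
    exact MvPolynomial.map_X _ k
  have h4 := res_eq_zero_of_appLE_eq_zero j W _ hle hle' _ h2
  refine exists_pow_ev_eq_zero_of_res (CohB1.polyGrading n Γ(S, U)) (D.r U hU) (cElt U r)
    (Groth.Agent.Lib.helper28.TwistPn.X_mem n Γ(S, U) k) ha _ ?_ hle' h4
  have hW'' : D.r V hV ⁻¹ᵁ Proj.basicOpen (CohB1.polyGrading n Γ(S, V))
      (polyMap n (resHom hVU) (MvPolynomial.X k)) = W' := by
    congr 2
    exact MvPolynomial.map_X _ k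
  rw [D.basicOpen_rho U hU r, inf_comm, hW'', himg]

theorem exists_pow_mul_mem_I (U : S.Opens) (hU : IsAffineOpen U) (r : Γ(S, U)) {d : ℕ}
    {a : MvPolynomial (Fin (n + 1)) Γ(S, U)} (ha : a ∈ CohB1.polyGrading n Γ(S, U) d)
    (h : polyMap n (resHom (S.basicOpen_le r)) a ∈
      (D.I (S.basicOpen r) (hU.basicOpen r)).toIdeal) :
    ∃ N : ℕ, MvPolynomial.C r ^ N * a ∈ (D.I U hU).toIdeal := by
  choose N hN using fun k => D.exists_pow_ev_eq_zero U hU r ha h k
  refine ⟨Finset.univ.sup N, ?_⟩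
  rw [D.mem_I_of_mem U hU (C_pow_mul_mem U r _ ha)]
  intro k
  have hle : N k ≤ Finset.univ.sup N := Finset.le_sup (Finset.mem_univ k)
  have e : MvPolynomial.C r ^ (Finset.univ.sup N) * a =
      MvPolynomial.C r ^ (Finset.univ.sup N - N k) * (MvPolynomial.C r ^ N k * a) := by
    rw [← mul_assoc, ← pow_add, Nat.sub_add_cancel hle]
  have h0 : (MvPolynomial.C r ^ (Finset.univ.sup N - N k) :
      MvPolynomial (Fin (n + 1)) Γ(S, U)) ∈ CohB1.polyGrading n Γ(S, U) 0 := by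
    rw [← map_pow]
    exact C_mem_zero n _
  have h1 : MvPolynomial.C r ^ (Finset.univ.sup N - N k) * (MvPolynomial.C r ^ N k * a) ∈
      CohB1.polyGrading n Γ(S, U) d := by
    rw [← e]
    exact C_pow_mul_mem U r _ ha
  rw [ev_congr _ _ _ _ h1 rfl e,
    ev_mul _ _ _ h0 (C_pow_mul_mem U r (N k) ha) h1 (zero_add d).symm, hN k _, mul_zero]

end PnData

end Groth.Agent.Lib.helper12.PnLocal
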