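import Mathlib
import Groth.Prelude.Def_RelProj

/-!
# Degrees preserved by restriction to basic opens are preserved by all restrictions (helper12)

For a quasi-coherent algebra with gradings over the affine opens: if the restriction maps to basic
opens preserve degrees, then so do the restriction maps between arbitrary affine opens.
-/

set_option autoImplicit false
universe u

open CategoryTheory CategoryTheory.Limits AlgebraicGeometry Opposite TopologicalSpace

namespace Groth.Agent.Lib.helper12.QCGrOfBasic

variable {S : Scheme.{u}} (A : RelSpec.QCAlg S)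
  (deg : ∀ (U : S.Opens), IsAffineOpen U → ℕ → AddSubgroup (A.presheaf.obj (op U)))
  (graded : ∀ (U : S.Opens) (hU : IsAffineOpen U), GradedRing (deg U hU))
  (hbasic : ∀ (U : S.Opens) (hU : IsAffineOpen U) (r : Γ(S, U)) (d : ℕ)
    (x : A.presheaf.obj (op U)), x ∈ deg U hU d →
      (A.presheaf.map (homOfLE (S.basicOpen_le r)).op).hom x ∈
        deg (S.basicOpen r) (hU.basicOpen r) d)

include hbasic in
theorem basic' (U : S.Opens) (hU : IsAffineOpen U) (r : Γ(S, U)) (W : S.Opens)
    (hW : IsAffineOpen W) (hWr : W = S.basicOpen r) (hle : W ≤ U) (d : ℕ)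
    (x : A.presheaf.obj (op U)) (hx : x ∈ deg U hU d) :
    (A.presheaf.map (homOfLE hle).op).hom x ∈ deg W hW d := by
  subst hWr
  exact hbasic U hU r d x hx

include graded hbasic in
theorem map_mem {U V : S.Opens} (hU : IsAffineOpen U) (hV : IsAffineOpen V) (i : V ≤ U) {d : ℕ}
    {x : A.presheaf.obj (op U)} (hx : x ∈ deg U hU d) :
    (A.presheaf.map (homOfLE i).op).hom x ∈ deg V hV d := by
  classical
  let _ := graded V hV
  set y := (A.presheaf.map (homOfLE i).op).hom x with hy
  have key : ∀ e : ℕ, e ≠ d → (DirectSum.decompose (deg V hV) y e : A.presheaf.obj (op V)) = 0 := by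
    intro e hed
    -- cover of `V` by opens basic in both `U` and `V`
    have hcov : ∀ p : V, ∃ (W : S.Opens) (hW : IsAffineOpen W) (f : Γ(S, U)) (g : Γ(S, V)),
        W = S.basicOpen f ∧ W = S.basicOpen g ∧ p.1 ∈ W := by
      intro p
      obtain ⟨f, g, hfg, hp⟩ := exists_basicOpen_le_affine_inter hU hV p.1 ⟨i p.2, p.2⟩
      exact ⟨S.basicOpen f, hU.basicOpen f, f, g, rfl, hfg, hp⟩
    choose W hW f g hWf hWg hpW using hcov
    have hWV : ∀ p, W p ≤ V := fun p => (hWg p).le.trans (S.basicOpen_le _)
    have hWU : ∀ p, W p ≤ U := fun p => (hWV p).trans i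
    refine TopCat.Sheaf.eq_of_locally_eq' ⟨A.presheaf, A.isSheaf⟩ W V (fun p => homOfLE (hWV p))
      (fun q hq => Opens.mem_iSup.mpr ⟨⟨q, hq⟩, hpW ⟨q, hq⟩⟩) _ _ fun p => ?_
    let _ := graded (W p) (hW p)
    -- the restriction `V → W p` as a graded ring hom
    let ψ : deg V hV →+*ᵍ deg (W p) (hW p) :=
      { (A.presheaf.map (homOfLE (hWV p)).op).hom with
        map_mem := fun {k z} hz =>
          basic' A deg hbasic V hV (g p) (W p) (hW p) (hWg p) (hWV p) k z hz }
    have h1 : ψ ((DirectSum.decompose (deg V hV) y e : deg V hV e) : A.presheaf.obj (op V)) =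
        ((DirectSum.decompose (deg (W p) (hW p)) (ψ y) e : deg (W p) (hW p) e) :
          A.presheaf.obj (op (W p))) :=
      GradedRingHom.map_directSumDecompose (𝒜 := deg V hV) (ℬ := deg (W p) (hW p)) ψ
        (x := y) (i := e)
    have h2 : ψ y = (A.presheaf.map (homOfLE (hWU p)).op).hom x := by
      change (A.presheaf.map (homOfLE (hWV p)).op).hom ((A.presheaf.map (homOfLE i).op).hom x) = _
      rw [← CommRingCat.comp_apply, ← A.presheaf.map_comp]
      rfl
    have h3 : ψ y ∈ deg (W p) (hW p) d := by
      rw [h2]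
      exact basic' A deg hbasic U hU (f p) (W p) (hW p) (hWf p) (hWU p) d x hx
    change ψ _ = (A.presheaf.map (homOfLE (hWV p)).op).hom 0
    rw [h1, map_zero, DirectSum.decompose_of_mem_ne (deg (W p) (hW p)) h3 (Ne.symm hed)]
  have hyd : y = (DirectSum.decompose (deg V hV) y d : A.presheaf.obj (op V)) := by
    apply (DirectSum.decompose (deg V hV)).injective
    rw [DirectSum.decompose_coe]
    ext e
    by_cases hed : e = d
    · subst hed
      rw [DirectSum.of_eq_same]
    · rw [DirectSum.of_eq_of_ne d e _ hed]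
      exact key e hed
  rw [hyd]
  exact SetLike.coe_mem _

end Groth.Agent.Lib.helper12.QCGrOfBasic
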