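import Mathlib
import Groth.Agent.Lib.Helper12.PnLocal3
import Groth.Agent.Lib.Helper28.AffAlgGlue
import Groth.Agent.Lib.Helper28.GradedTransport
import Groth.Agent.Lib.Helper12.QCGrOfBasic

/-!
# The quasi-coherent graded algebra of compatible closed immersions into `P^n` (helper12)
-/

set_option autoImplicit false
universe u

open CategoryTheory CategoryTheory.Limits AlgebraicGeometry Opposite TopologicalSpace
open HomogeneousLocalization
open scoped HomogeneousIdeal

namespace Groth.Agent.Lib.helper12.PnLocal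

open Groth.Agent.Lib.helper12.ProjClosed

namespace PnData

variable {n : ℕ} {X S : Scheme.{u}} {f : X ⟶ S} (D : PnData n f)

/-- The ring `Γ(S,U)[T] / I_U`. -/
abbrev B (U : S.Opens) (hU : IsAffineOpen U) : Type u :=
  MvPolynomial (Fin (n + 1)) Γ(S, U) ⧸ (D.I U hU).toIdeal

theorem I_le_comap {U V : S.Opens} (hU : IsAffineOpen U) (hV : IsAffineOpen V) (hVU : V ≤ U) :
    (D.I U hU).toIdeal ≤ (D.I V hV).toIdeal.comap
      (MvPolynomial.map (resHom hVU) : MvPolynomial (Fin (n + 1)) Γ(S, U) →+* _) :=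
  fun _ ha => D.polyMap_mem_I hU hV hVU ha

/-- The restriction maps of `B`. -/
noncomputable def Bres {U V : S.Opens} (hU : IsAffineOpen U) (hV : IsAffineOpen V) (hVU : V ≤ U) :
    D.B U hU →+* D.B V hV :=
  Ideal.quotientMap _ (MvPolynomial.map (resHom hVU)) (D.I_le_comap hU hV hVU)

@[simp] theorem Bres_mk {U V : S.Opens} (hU : IsAffineOpen U) (hV : IsAffineOpen V) (hVU : V ≤ U)
    (a : MvPolynomial (Fin (n + 1)) Γ(S, U)) :
    D.Bres hU hV hVU (Ideal.Quotient.mk _ a) =
      Ideal.Quotient.mk _ (MvPolynomial.map (resHom hVU) a) :=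
  Ideal.quotientMap_mk

theorem Bres_id (U : S.Opens) (hU : IsAffineOpen U) :
    D.Bres hU hU le_rfl = RingHom.id _ := by
  refine Ideal.Quotient.ringHom_ext (RingHom.ext fun a => ?_)
  change D.Bres hU hU le_rfl (Ideal.Quotient.mk _ a) = Ideal.Quotient.mk _ a
  rw [Bres_mk]
  congr 1
  have : resHom (le_refl U) = RingHom.id Γ(S, U) := by
    change (S.presheaf.map (𝟙 (op U))).hom = _
    rw [S.presheaf.map_id]
    rfl
  rw [this, MvPolynomial.map_id]

theorem Bres_comp {U V W : S.Opens} (hU : IsAffineOpen U) (hV : IsAffineOpen V)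
    (hW : IsAffineOpen W) (hVU : V ≤ U) (hWV : W ≤ V) :
    (D.Bres hV hW hWV).comp (D.Bres hU hV hVU) = D.Bres hU hW (hWV.trans hVU) := by
  refine Ideal.Quotient.ringHom_ext (RingHom.ext fun a => ?_)
  change D.Bres hV hW hWV (D.Bres hU hV hVU (Ideal.Quotient.mk _ a)) =
    D.Bres hU hW _ (Ideal.Quotient.mk _ a)
  rw [Bres_mk, Bres_mk, Bres_mk, MvPolynomial.map_map]
  congr 3
  change (S.presheaf.map (homOfLE hWV).op).hom.comp (S.presheaf.map (homOfLE hVU).op).hom =
    (S.presheaf.map (homOfLE (hWV.trans hVU)).op).hom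
  rw [← CommRingCat.hom_comp, ← S.presheaf.map_comp]
  rfl

/-- `B` as a functor on the small affine Zariski site. -/
noncomputable def F : S.AffineZariskiSiteᵒᵖ ⥤ CommRingCat.{u} where
  obj U := CommRingCat.of (D.B U.unop.1 U.unop.2)
  map {U V} i := CommRingCat.ofHom (D.Bres U.unop.2 V.unop.2
    (Scheme.AffineZariskiSite.toOpens_mono (leOfHom i.unop)))
  map_id U := by
    rw [← CommRingCat.ofHom_id]
    congr 1
    exact D.Bres_id _ _
  map_comp {U V W} i j := by
    rw [← CommRingCat.ofHom_comp]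
    congr 1
    exact (D.Bres_comp _ _ _ _ _).symm

/-- The structure map. -/
noncomputable def strHom (U : S.Opens) (hU : IsAffineOpen U) : Γ(S, U) →+* D.B U hU :=
  (Ideal.Quotient.mk _).comp MvPolynomial.C

/-- The structure map as a natural transformation. -/
noncomputable def α : (Scheme.AffineZariskiSite.toOpensFunctor S).op ⋙ S.presheaf ⟶ D.F where
  app U := CommRingCat.ofHom (D.strHom U.unop.1 U.unop.2)
  naturality {U V} i := by
    ext r
    have h1 : D.Bres U.unop.2 V.unop.2 (Scheme.AffineZariskiSite.toOpens_mono (leOfHom i.unop))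
        (Ideal.Quotient.mk _ (MvPolynomial.C r)) = Ideal.Quotient.mk _ (MvPolynomial.C
          (resHom (Scheme.AffineZariskiSite.toOpens_mono (leOfHom i.unop)) r)) := by
      rw [Bres_mk]
      exact congrArg _ (MvPolynomial.map_C _ _)
    exact h1.symm

section Loc

attribute [local instance] MvPolynomial.algebraMvPolynomial

theorem isUnit_C_res (U : S.Opens) (r : Γ(S, U)) :
    IsUnit (MvPolynomial.C (resHom (S.basicOpen_le r) r) :
      MvPolynomial (Fin (n + 1)) Γ(S, S.basicOpen r)) :=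
  (RingedSpace.isUnit_res_basicOpen S.toRingedSpace r).map MvPolynomial.C

theorem I_le_map (U : S.Opens) (hU : IsAffineOpen U) (r : Γ(S, U)) :
    (D.I (S.basicOpen r) (hU.basicOpen r)).toIdeal ≤ (D.I U hU).toIdeal.map
      (MvPolynomial.map (resHom (S.basicOpen_le r)) :
        MvPolynomial (Fin (n + 1)) Γ(S, U) →+* _) := by
  classical
  intro b hb
  have hV : IsAffineOpen (S.basicOpen r) := hU.basicOpen r
  have hVU : S.basicOpen r ≤ U := S.basicOpen_le r
  rw [← DirectSum.sum_support_decompose (CohB1.polyGrading n Γ(S, S.basicOpen r)) b]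
  refine Ideal.sum_mem _ fun d _ => ?_
  have hbd : (DirectSum.decompose (CohB1.polyGrading n Γ(S, S.basicOpen r)) b d :
      MvPolynomial (Fin (n + 1)) Γ(S, S.basicOpen r)) ∈ (D.I (S.basicOpen r) hV).toIdeal := (D.I (S.basicOpen r) hV).isHomogeneous d hb
  have hbm := (DirectSum.decompose (CohB1.polyGrading n Γ(S, S.basicOpen r)) b d).2
  generalize (DirectSum.decompose (CohB1.polyGrading n Γ(S, S.basicOpen r)) b d :
      MvPolynomial (Fin (n + 1)) Γ(S, S.basicOpen r)) = b' at hbd hbm
  have : IsLocalization.Away r Γ(S, S.basicOpen r) := hU.isLocalization_basicOpen r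
  have : IsLocalization ((Submonoid.powers r).map (MvPolynomial.C (σ := Fin (n + 1))))
      (MvPolynomial (Fin (n + 1)) Γ(S, S.basicOpen r)) :=
    MvPolynomial.isLocalization (Submonoid.powers r) Γ(S, S.basicOpen r)
  obtain ⟨⟨a, s⟩, e⟩ := IsLocalization.surj
    ((Submonoid.powers r).map (MvPolynomial.C (σ := Fin (n + 1)))) b'
  obtain ⟨_, ⟨m, rfl⟩, hs⟩ := s.2
  have e' : b' * MvPolynomial.C (resHom hVU r) ^ m = polyMap n (resHom hVU) a := by
    have e1 : b' * algebraMap (MvPolynomial (Fin (n + 1)) Γ(S, U))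
        (MvPolynomial (Fin (n + 1)) Γ(S, S.basicOpen r)) (s : MvPolynomial (Fin (n + 1)) Γ(S, U)) =
        algebraMap _ _ a := e
    rw [← hs] at e1
    rw [← map_pow, ← map_pow]
    refine Eq.trans ?_ e1
    congr 1
    exact (MvPolynomial.map_C _ _).symm
  set a' : MvPolynomial (Fin (n + 1)) Γ(S, U) :=
    (DirectSum.decompose (CohB1.polyGrading n Γ(S, U)) a d : MvPolynomial (Fin (n + 1)) Γ(S, U))
    with ha'
  have ha'm : a' ∈ CohB1.polyGrading n Γ(S, U) d :=
    (DirectSum.decompose (CohB1.polyGrading n Γ(S, U)) a d).2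
  have hmem : b' * MvPolynomial.C (resHom hVU r) ^ m ∈ CohB1.polyGrading n Γ(S, S.basicOpen r) d := by
    have h0 : (MvPolynomial.C (resHom hVU r) ^ m : MvPolynomial (Fin (n + 1)) Γ(S, S.basicOpen r)) ∈
        CohB1.polyGrading n Γ(S, S.basicOpen r) 0 := by
      rw [← map_pow]
      exact C_mem_zero n _
    have := SetLike.GradedMul.mul_mem hbm h0
    rwa [add_zero] at this
  have e'' : polyMap n (resHom hVU) a' = b' * MvPolynomial.C (resHom hVU r) ^ m := by
    rw [ha', GradedRingHom.map_directSumDecompose, ← e',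
      DirectSum.decompose_of_mem_same _ hmem]
  have h1 : polyMap n (resHom hVU) a' ∈ (D.I (S.basicOpen r) hV).toIdeal := by
    rw [e'']
    exact Ideal.mul_mem_right _ _ hbd
  obtain ⟨N, hN⟩ := D.exists_pow_mul_mem_I U hU r ha'm h1
  have h2 := Ideal.mem_map_of_mem
    (MvPolynomial.map (resHom hVU) : MvPolynomial (Fin (n + 1)) Γ(S, U) →+* _) hN
  have h3 : (MvPolynomial.map (resHom hVU)) (MvPolynomial.C r ^ N * a') =
      (MvPolynomial.C (resHom hVU r) ^ N * MvPolynomial.C (resHom hVU r) ^ m) * b' := by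
    rw [map_mul, map_pow, MvPolynomial.map_C]
    change _ * polyMap n (resHom hVU) a' = _
    rw [e'']
    ring
  rw [h3] at h2
  have hu : IsUnit (MvPolynomial.C (resHom hVU r) ^ N * MvPolynomial.C (resHom hVU r) ^ m :
      MvPolynomial (Fin (n + 1)) Γ(S, S.basicOpen r)) :=
    ((isUnit_C_res U r).pow N).mul ((isUnit_C_res U r).pow m)
  exact (Ideal.unit_mul_mem_iff_mem _ hu).mp h2

theorem coequifibered : D.α.Coequifibered := by
  refine Scheme.AffineZariskiSite.coequifibered_iff_forall_isLocalizationAway.mpr fun U r => ?_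
  have hV : IsAffineOpen (S.basicOpen r) := U.2.basicOpen r
  have hVU : S.basicOpen r ≤ U.1 := S.basicOpen_le r
  let _ : Algebra (D.B U.1 U.2) (D.B (S.basicOpen r) hV) := (D.Bres U.2 hV hVU).toAlgebra
  change IsLocalization (Submonoid.powers (Ideal.Quotient.mk (D.I U.1 U.2).toIdeal
    (MvPolynomial.C r))) (D.B (S.basicOpen r) hV)
  have : IsLocalization.Away r Γ(S, S.basicOpen r) := U.2.isLocalization_basicOpen r
  have : IsLocalization ((Submonoid.powers r).map (MvPolynomial.C (σ := Fin (n + 1))))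
      (MvPolynomial (Fin (n + 1)) Γ(S, S.basicOpen r)) :=
    MvPolynomial.isLocalization (Submonoid.powers r) Γ(S, S.basicOpen r)
  have key := IsLocalization.of_surjective
    ((Submonoid.powers r).map (MvPolynomial.C (σ := Fin (n + 1))))
    (MvPolynomial (Fin (n + 1)) Γ(S, S.basicOpen r))
    (Ideal.Quotient.mk (D.I U.1 U.2).toIdeal) Ideal.Quotient.mk_surjective
    (Ideal.Quotient.mk (D.I (S.basicOpen r) hV).toIdeal) Ideal.Quotient.mk_surjective
    (S' := D.B (S.basicOpen r) hV)
    (by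
      refine RingHom.ext fun a => ?_
      exact (D.Bres_mk U.2 hV hVU a).symm)
    (by
      rw [Ideal.mk_ker, Ideal.mk_ker]
      exact D.I_le_map U.1 U.2 r)
  rw [Submonoid.map_powers, Submonoid.map_powers] at key
  exact key

end Loc

section Alg

open Groth.Agent.Lib.helper28 Groth.Agent.Lib.helper28.GradedTransport

/-- The quasi-coherent algebra glued from the `B(U)`. -/
noncomputable def alg : RelSpec.QCAlg S := AffAlgGlue.alg D.coequifibered

/-- The sections of `alg` over an affine open are `B(U)`. -/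
noncomputable def gIso (U : S.Opens) (hU : IsAffineOpen U) :
    D.alg.presheaf.obj (op U) ≃+* D.B U hU :=
  (AffAlgGlue.gammaIso D.coequifibered ⟨U, hU⟩).commRingCatIsoToRingEquiv

theorem gIso_str (U : S.Opens) (hU : IsAffineOpen U) (r : Γ(S, U)) :
    D.gIso U hU ((D.alg.str.app (op U)).hom r) = D.strHom U hU r :=
  congrArg (fun g => g.hom r) (AffAlgGlue.str_gammaIso D.coequifibered ⟨U, hU⟩)

theorem gIso_res_basic (U : S.Opens) (hU : IsAffineOpen U) (r : Γ(S, U))
    (x : D.alg.presheaf.obj (op U)) :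
    D.gIso (S.basicOpen r) (hU.basicOpen r)
      ((D.alg.presheaf.map (homOfLE (S.basicOpen_le r)).op).hom x) =
      D.Bres hU (hU.basicOpen r) (S.basicOpen_le r) (D.gIso U hU x) := by
  have h := AffAlgGlue.gammaIso_naturality D.coequifibered
    (U := ⟨U, hU⟩) (V := ⟨S.basicOpen r, hU.basicOpen r⟩)
    (homOfLE (Scheme.AffineZariskiSite.basicOpen_le ⟨U, hU⟩ r))
  exact congrArg (fun g => g.hom x) h

/-- The grading of `B(U)`. -/
noncomputable abbrev Bgr (U : S.Opens) (hU : IsAffineOpen U) : ℕ → Submodule Γ(S, U) (D.B U hU) :=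
  qGr (CohB1.polyGrading n Γ(S, U)) (D.I U hU)

theorem Bres_mem {U V : S.Opens} (hU : IsAffineOpen U) (hV : IsAffineOpen V) (hVU : V ≤ U)
    {d : ℕ} {b : D.B U hU} (hb : b ∈ D.Bgr U hU d) : D.Bres hU hV hVU b ∈ D.Bgr V hV d := by
  obtain ⟨a, ha, rfl⟩ := hb
  refine ⟨MvPolynomial.map (resHom hVU) a, (polyMap n (resHom hVU)).map_mem ha, ?_⟩
  exact (D.Bres_mk hU hV hVU a).symm

/-- The degree-`d` part of `alg(U)`. -/
noncomputable def deg (U : S.Opens) (hU : IsAffineOpen U) (d : ℕ) :
    AddSubgroup (D.alg.presheaf.obj (op U)) :=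
  mapDeg (D.gIso U hU).symm (D.Bgr U hU) d

theorem mem_deg_iff (U : S.Opens) (hU : IsAffineOpen U) (d : ℕ)
    (x : D.alg.presheaf.obj (op U)) : x ∈ D.deg U hU d ↔ D.gIso U hU x ∈ D.Bgr U hU d := by
  constructor
  · rintro ⟨b, hb, rfl⟩
    change D.gIso U hU ((D.gIso U hU).symm b) ∈ _
    rw [RingEquiv.apply_symm_apply]
    exact hb
  · intro h
    exact ⟨_, h, RingEquiv.symm_apply_apply _ _⟩

noncomputable instance degGraded (U : S.Opens) (hU : IsAffineOpen U) : GradedRing (D.deg U hU) :=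
  gradedRing (D.gIso U hU).symm (D.Bgr U hU)

theorem deg_basic (U : S.Opens) (hU : IsAffineOpen U) (r : Γ(S, U)) (d : ℕ)
    (x : D.alg.presheaf.obj (op U)) (hx : x ∈ D.deg U hU d) :
    (D.alg.presheaf.map (homOfLE (S.basicOpen_le r)).op).hom x ∈
      D.deg (S.basicOpen r) (hU.basicOpen r) d := by
  rw [mem_deg_iff] at hx ⊢
  rw [D.gIso_res_basic U hU r x]
  exact D.Bres_mem hU _ _ hx

/-- The quasi-coherent graded algebra. -/
@[reducible] noncomputable def grAlg : RelProj.QCGrAlg S where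
  toQCAlg := D.alg
  deg := D.deg
  graded := D.degGraded
  map_mem := fun hU hV i _ _ hx =>
    QCGrOfBasic.map_mem D.alg D.deg D.degGraded D.deg_basic hU hV i hx
  str_mem := by
    intro U hU r
    rw [mem_deg_iff, D.gIso_str U hU r]
    exact ⟨MvPolynomial.C r, C_mem_zero n r, rfl⟩

end Alg

end PnData

end Groth.Agent.Lib.helper12.PnLocal
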