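import Mathlib
import Groth.Agent.Lib.Helper12.PnLocal4
import Groth.Agent.Lib.Lead.ProjMapG

/-!
# The charts of the relative Proj of compatible closed immersions into `P^n` (helper12)
-/

set_option autoImplicit false
universe u

open CategoryTheory CategoryTheory.Limits AlgebraicGeometry Opposite TopologicalSpace
open HomogeneousLocalization
open scoped HomogeneousIdeal

namespace Groth.Agent.Lib.helper12.PnLocal

open Groth.Agent.Lib.helper12.ProjClosed

section General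

variable {A B C σ τ ψ : Type u} [CommRing A] [SetLike σ A] [AddSubgroupClass σ A]
  [CommRing B] [SetLike τ B] [AddSubgroupClass τ B]
  [CommRing C] [SetLike ψ C] [AddSubgroupClass ψ C]
  {𝒜 : ℕ → σ} {ℬ : ℕ → τ} {𝒞 : ℕ → ψ} [GradedRing 𝒜] [GradedRing ℬ] [GradedRing 𝒞]

theorem projMap_comp_eq {f : 𝒜 →+*ᵍ ℬ} {g : ℬ →+*ᵍ 𝒞} {h : 𝒜 →+*ᵍ 𝒞}
    (hf : ℬ₊ ≤ 𝒜₊.map f) (hg : 𝒞₊ ≤ ℬ₊.map g) (hh : 𝒞₊ ≤ 𝒜₊.map h) (e : g.comp f = h) :
    Proj.map g hg ≫ Proj.map f hf = Proj.map h hh := by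
  subst e
  exact (Proj.map_comp f g hf hg).symm

theorem irrelevant_le_map_of_surj (φ : 𝒜 →+*ᵍ ℬ) (hφ : Function.Surjective φ) :
    ℬ₊ ≤ 𝒜₊.map φ := by
  rw [HomogeneousIdeal.irrelevant_le]
  intro d hd x hx
  obtain ⟨a, ha, rfl⟩ := Groth.Agent.Lib.Lead.ProjMapG.surjOn_of_surjective φ hφ d hx
  exact Ideal.mem_map_of_mem _ (HomogeneousIdeal.mem_irrelevant_of_mem _ hd ha)

end General

namespace PnData

variable {n : ℕ} {X S : Scheme.{u}} {f : X ⟶ S} (D : PnData n f)

open Groth.Agent.Lib.helper28.GradedTransport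

/-- The graded quotient map `Γ(S,U)[T] → B(U)`. -/
noncomputable abbrev qH (U : S.Opens) (hU : IsAffineOpen U) :
    CohB1.polyGrading n Γ(S, U) →+*ᵍ D.Bgr U hU :=
  qHom (CohB1.polyGrading n Γ(S, U)) (D.I U hU)

theorem qH_irr (U : S.Opens) (hU : IsAffineOpen U) :
    (D.Bgr U hU)₊ ≤ ((CohB1.polyGrading n Γ(S, U))₊).map (D.qH U hU) :=
  irrelevant_le_map_of_surjective _ _ _ (qHom_surjective _ _)

theorem exists_eU (U : S.Opens) (hU : IsAffineOpen U) :
    ∃ e : ((f ⁻¹ᵁ U : X.Opens) : Scheme.{u}) ≅ Proj (D.Bgr U hU),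
      e.hom ≫ Proj.map (D.qH U hU) (D.qH_irr U hU) = D.r U hU :=
  exists_iso_proj_quotient (CohB1.polyGrading n Γ(S, U)) (varSet n Γ(S, U))
    (varSet_mem1 n Γ(S, U)) (irrelevant_eq_span n Γ(S, U)) (D.r U hU)

/-- The isomorphism of `X` over `U` with `Proj B(U)`. -/
noncomputable def eU (U : S.Opens) (hU : IsAffineOpen U) :
    ((f ⁻¹ᵁ U : X.Opens) : Scheme.{u}) ≅ Proj (D.Bgr U hU) :=
  (D.exists_eU U hU).choose

@[reassoc]
theorem eU_hom_map (U : S.Opens) (hU : IsAffineOpen U) :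
    (D.eU U hU).hom ≫ Proj.map (D.qH U hU) (D.qH_irr U hU) = D.r U hU :=
  (D.exists_eU U hU).choose_spec

/-- `B(U) → alg(U)` as a graded ring hom. -/
noncomputable def gTo (U : S.Opens) (hU : IsAffineOpen U) : D.Bgr U hU →+*ᵍ D.deg U hU where
  toRingHom := (D.gIso U hU).symm.toRingHom
  map_mem := fun hx => map_mem_mapDeg (D.gIso U hU).symm (D.Bgr U hU) hx

/-- `alg(U) → B(U)` as a graded ring hom. -/
noncomputable def gFrom (U : S.Opens) (hU : IsAffineOpen U) : D.deg U hU →+*ᵍ D.Bgr U hU where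
  toRingHom := (D.gIso U hU).toRingHom
  map_mem := fun hx => (D.mem_deg_iff U hU _ _).mp hx

@[simp] theorem gTo_apply (U : S.Opens) (hU : IsAffineOpen U) (b : D.B U hU) :
    D.gTo U hU b = (D.gIso U hU).symm b := rfl

@[simp] theorem gFrom_apply (U : S.Opens) (hU : IsAffineOpen U)
    (x : D.alg.presheaf.obj (op U)) : D.gFrom U hU x = D.gIso U hU x := rfl

theorem gTo_surjective (U : S.Opens) (hU : IsAffineOpen U) : Function.Surjective (D.gTo U hU) :=
  (D.gIso U hU).symm.surjective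

theorem gFrom_surjective (U : S.Opens) (hU : IsAffineOpen U) :
    Function.Surjective (D.gFrom U hU) := (D.gIso U hU).surjective

theorem gTo_irr (U : S.Opens) (hU : IsAffineOpen U) :
    (D.deg U hU)₊ ≤ ((D.Bgr U hU)₊).map (D.gTo U hU) :=
  irrelevant_le_map_of_surj _ (D.gTo_surjective U hU)

theorem gFrom_irr (U : S.Opens) (hU : IsAffineOpen U) :
    (D.Bgr U hU)₊ ≤ ((D.deg U hU)₊).map (D.gFrom U hU) :=
  irrelevant_le_map_of_surj _ (D.gFrom_surjective U hU)

/-- `Proj B(U) ≅ Proj alg(U)`. -/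
noncomputable def projIso (U : S.Opens) (hU : IsAffineOpen U) :
    Proj (D.Bgr U hU) ≅ Proj (D.deg U hU) where
  hom := Proj.map (D.gFrom U hU) (D.gFrom_irr U hU)
  inv := Proj.map (D.gTo U hU) (D.gTo_irr U hU)
  hom_inv_id := by
    rw [projMap_comp_eq (h := GradedRingHom.id _) (D.gTo_irr U hU) (D.gFrom_irr U hU) (by simp)
      (GradedRingHom.ext fun b => (D.gIso U hU).apply_symm_apply b)]
    exact Proj.map_id
  inv_hom_id := by
    rw [projMap_comp_eq (h := GradedRingHom.id _) (D.gFrom_irr U hU) (D.gTo_irr U hU) (by simp)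
      (GradedRingHom.ext fun b => (D.gIso U hU).symm_apply_apply b)]
    exact Proj.map_id

/-- The chart over `U`. -/
noncomputable def chart (U : S.Opens) (hU : IsAffineOpen U) :
    ((f ⁻¹ᵁ U : X.Opens) : Scheme.{u}) ≅ Proj (D.grAlg.deg U hU) :=
  D.eU U hU ≪≫ D.projIso U hU

theorem strZero_comp (U : S.Opens) (hU : IsAffineOpen U) :
    D.grAlg.strZero U hU ≫ CommRingCat.ofHom (D.gFrom U hU).gradedZeroRingHom =
      CommRingCat.ofHom (algebraMap Γ(S, U) (CohB1.polyGrading n Γ(S, U) 0)) ≫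
        CommRingCat.ofHom (D.qH U hU).gradedZeroRingHom := by
  ext r
  change D.gIso U hU ((D.alg.str.app (op U)).hom r) = _
  rw [D.gIso_str U hU r]
  rfl

theorem chart_over (U : S.Opens) (hU : IsAffineOpen U) :
    (D.chart U hU).hom ≫ Proj.toSpecZero (D.grAlg.deg U hU) ≫
      Spec.map (D.grAlg.strZero U hU) ≫ hU.fromSpec = (f ⁻¹ᵁ U).ι ≫ f := by
  have h1 : Proj.map (D.gFrom U hU) (D.gFrom_irr U hU) ≫ Proj.toSpecZero (D.deg U hU) =
      Proj.toSpecZero (D.Bgr U hU) ≫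
        Spec.map (CommRingCat.ofHom (D.gFrom U hU).gradedZeroRingHom) :=
    Groth.Agent.Lib.Lead.ProjMapG.map_toSpecZero _ _
  have h2 : Proj.map (D.qH U hU) (D.qH_irr U hU) ≫
      Proj.toSpecZero (CohB1.polyGrading n Γ(S, U)) =
      Proj.toSpecZero (D.Bgr U hU) ≫
        Spec.map (CommRingCat.ofHom (D.qH U hU).gradedZeroRingHom) :=
    Groth.Agent.Lib.Lead.ProjMapG.map_toSpecZero _ _
  change ((D.eU U hU).hom ≫ Proj.map (D.gFrom U hU) (D.gFrom_irr U hU)) ≫
    Proj.toSpecZero (D.deg U hU) ≫ _ = _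
  rw [Category.assoc, reassoc_of% h1, ← Spec.map_comp_assoc, D.strZero_comp U hU,
    Spec.map_comp_assoc, ← reassoc_of% h2, D.eU_hom_map_assoc U hU]
  have h3 := D.overBase U hU
  rw [toSpecP_eq] at h3
  rw [reassoc_of% h3, IsAffineOpen.isoSpec_hom_fromSpec, morphismRestrict_ι]

theorem mono_map_qH (U : S.Opens) (hU : IsAffineOpen U) :
    Mono (Proj.map (D.qH U hU) (D.qH_irr U hU)) := by
  have h : Proj.map (D.qH U hU) (D.qH_irr U hU) = (D.eU U hU).inv ≫ D.r U hU := by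
    rw [← D.eU_hom_map U hU, Iso.inv_hom_id_assoc]
  rw [h]
  infer_instance

theorem ring_comm (U : S.Opens) (hU : IsAffineOpen U) (r : Γ(S, U)) :
    (D.gFrom (S.basicOpen r) (hU.basicOpen r)).comp
      ((D.grAlg.res hU (hU.basicOpen r) (S.basicOpen_le r)).comp
        ((D.gTo U hU).comp (D.qH U hU))) =
      (D.qH (S.basicOpen r) (hU.basicOpen r)).comp (polyMap n (resHom (S.basicOpen_le r))) := by
  refine GradedRingHom.ext fun a => ?_
  change D.gIso (S.basicOpen r) (hU.basicOpen r)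
    ((D.alg.presheaf.map (homOfLE (S.basicOpen_le r)).op).hom
      ((D.gIso U hU).symm (Ideal.Quotient.mk _ a))) =
    Ideal.Quotient.mk _ (MvPolynomial.map (resHom (S.basicOpen_le r)) a)
  rw [D.gIso_res_basic U hU r, RingEquiv.apply_symm_apply, Bres_mk]

theorem chart_res (U : S.Opens) (hU : IsAffineOpen U) (r : Γ(S, U)) :
    X.homOfLE (f.preimage_mono (S.basicOpen_le r)) ≫ (D.chart U hU).hom =
      (D.chart (S.basicOpen r) (hU.basicOpen r)).hom ≫
        Proj.map (D.grAlg.res hU (hU.basicOpen r) (S.basicOpen_le r))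
          (D.grAlg.irrelevant_le_map U hU r) := by
  have hV := hU.basicOpen r
  have hmono : Mono ((D.projIso U hU).inv ≫ Proj.map (D.qH U hU) (D.qH_irr U hU)) := by
    have := D.mono_map_qH U hU
    infer_instance
  rw [← cancel_mono ((D.projIso U hU).inv ≫ Proj.map (D.qH U hU) (D.qH_irr U hU))]
  -- left hand side
  have hL : (X.homOfLE (f.preimage_mono (S.basicOpen_le r)) ≫ (D.chart U hU).hom) ≫
      (D.projIso U hU).inv ≫ Proj.map (D.qH U hU) (D.qH_irr U hU) =
      D.r (S.basicOpen r) hV ≫ Proj.map (polyMap n (resHom (S.basicOpen_le r)))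
        (irrelevant_le_polyMap n _) := by
    change (_ ≫ (D.eU U hU).hom ≫ (D.projIso U hU).hom) ≫ _ = _
    rw [Category.assoc, Category.assoc, Iso.hom_inv_id_assoc, D.eU_hom_map U hU]
    exact D.res hU hV (S.basicOpen_le r)
  rw [hL]
  -- right hand side
  have h1 := HomogeneousIdeal.irrelevant_le_map_comp (D.qH_irr U hU) (D.gTo_irr U hU)
  have h2 := HomogeneousIdeal.irrelevant_le_map_comp h1 (D.grAlg.irrelevant_le_map U hU r)
  have h3 := HomogeneousIdeal.irrelevant_le_map_comp h2 (D.gFrom_irr (S.basicOpen r) hV)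
  have h4 := HomogeneousIdeal.irrelevant_le_map_comp
    (irrelevant_le_polyMap n (resHom (S.basicOpen_le r))) (D.qH_irr (S.basicOpen r) hV)
  change _ = (((D.eU (S.basicOpen r) hV).hom ≫ Proj.map (D.gFrom (S.basicOpen r) hV)
      (D.gFrom_irr (S.basicOpen r) hV)) ≫ Proj.map (D.grAlg.res hU hV (S.basicOpen_le r))
        (D.grAlg.irrelevant_le_map U hU r)) ≫ Proj.map (D.gTo U hU) (D.gTo_irr U hU) ≫
          Proj.map (D.qH U hU) (D.qH_irr U hU)
  rw [projMap_comp_eq (D.qH_irr U hU) (D.gTo_irr U hU) h1 rfl, Category.assoc, Category.assoc,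
    projMap_comp_eq h1 (D.grAlg.irrelevant_le_map U hU r) h2 rfl,
    projMap_comp_eq h2 (D.gFrom_irr (S.basicOpen r) hV) h4 (D.ring_comm U hU r),
    Proj.map_comp _ _ (irrelevant_le_polyMap n (resHom (S.basicOpen_le r)))
      (D.qH_irr (S.basicOpen r) hV), D.eU_hom_map_assoc]

/-- **The relative Proj.** -/
theorem isRelProj : RelProj.IsRelProj D.grAlg f D.chart where
  chart_over := D.chart_over
  chart_res := D.chart_res

end PnData

end Groth.Agent.Lib.helper12.PnLocal
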