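import Mathlib
import Groth.Agent.Lib.Helper12.PnLocal5

/-!
# Compatible closed immersions into `P^n` over the affine opens give a projective morphism
(helper12)
-/

set_option autoImplicit false
universe u

open CategoryTheory CategoryTheory.Limits AlgebraicGeometry Opposite TopologicalSpace
open scoped HomogeneousIdeal

namespace Groth.Agent.Lib.helper12.PnLocal

open Groth.Agent.Lib.helper12.ProjClosed

namespace PnData

variable {n : ℕ} {X S : Scheme.{u}} {f : X ⟶ S} (D : PnData n f)

/-- The surjection `Γ(S,U)[T] → alg(U)`. -/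
noncomputable def Phi (U : S.Opens) (hU : IsAffineOpen U) :
    MvPolynomial (Fin (n + 1)) Γ(S, U) →+* D.alg.presheaf.obj (op U) :=
  (D.gIso U hU).symm.toRingHom.comp (Ideal.Quotient.mk _)

theorem Phi_surjective (U : S.Opens) (hU : IsAffineOpen U) : Function.Surjective (D.Phi U hU) :=
  (D.gIso U hU).symm.surjective.comp Ideal.Quotient.mk_surjective

theorem Phi_mem (U : S.Opens) (hU : IsAffineOpen U) {d : ℕ}
    {a : MvPolynomial (Fin (n + 1)) Γ(S, U)} (ha : a ∈ CohB1.polyGrading n Γ(S, U) d) :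
    D.Phi U hU a ∈ D.deg U hU d :=
  (D.mem_deg_iff U hU d _).mpr (by
    change D.gIso U hU ((D.gIso U hU).symm (Ideal.Quotient.mk _ a)) ∈ _
    rw [RingEquiv.apply_symm_apply]
    exact ⟨a, ha, rfl⟩)

theorem Phi_C (U : S.Opens) (hU : IsAffineOpen U) (r : Γ(S, U)) :
    D.Phi U hU (MvPolynomial.C r) = (D.alg.str.app (op U)).hom r := by
  change (D.gIso U hU).symm (D.strHom U hU r) = _
  rw [← D.gIso_str U hU r, RingEquiv.symm_apply_apply]

theorem exists_of_mem_deg (U : S.Opens) (hU : IsAffineOpen U) {d : ℕ}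
    {x : D.alg.presheaf.obj (op U)} (hx : x ∈ D.deg U hU d) :
    ∃ a ∈ CohB1.polyGrading n Γ(S, U) d, D.Phi U hU a = x := by
  obtain ⟨b, ⟨a, ha, rfl⟩, rfl⟩ := hx
  exact ⟨a, ha, rfl⟩

theorem isGenDegOne : D.grAlg.IsGenDegOne := by
  intro U hU
  rw [eq_top_iff]
  intro x _
  obtain ⟨a, rfl⟩ := D.Phi_surjective U hU x
  induction a using MvPolynomial.induction_on with
  | C r =>
    exact Subring.subset_closure (Or.inl (D.Phi_mem U hU (C_mem_zero n r)))
  | add p q hp hq =>
    rw [map_add]
    exact Subring.add_mem _ (hp trivial) (hq trivial)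
  | mul_X p k hp =>
    rw [map_mul]
    exact Subring.mul_mem _ (hp trivial) (Subring.subset_closure (Or.inr
      (D.Phi_mem U hU (Groth.Agent.Lib.helper28.TwistPn.X_mem n Γ(S, U) k))))

theorem isFTDeg_one : D.grAlg.IsFTDeg 1 := by
  classical
  intro U hU
  let g : Fin (n + 1) → D.alg.presheaf.obj (op U) := fun k => D.Phi U hU (MvPolynomial.X k)
  refine ⟨Finset.univ.image g, ?_, ?_⟩
  · intro t ht
    obtain ⟨k, -, rfl⟩ := Finset.mem_image.mp (Finset.mem_coe.mp ht)
    exact D.Phi_mem U hU (Groth.Agent.Lib.helper28.TwistPn.X_mem n Γ(S, U) k)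
  · intro x hx
    obtain ⟨a, ha, rfl⟩ := D.exists_of_mem_deg U hU hx
    have ha' : a ∈ Submodule.span Γ(S, U)
        (Set.range (MvPolynomial.X : Fin (n + 1) → MvPolynomial (Fin (n + 1)) Γ(S, U))) := by
      rw [← MvPolynomial.homogeneousSubmodule_one_eq_span_X]
      exact ha
    obtain ⟨c, rfl⟩ := (Submodule.mem_span_range_iff_exists_fun _).mp ha'
    refine ⟨fun t => ∑ j ∈ Finset.univ.filter (fun j => g j = t), c j, ?_⟩
    have h1 : D.Phi U hU (∑ k, c k • (MvPolynomial.X k : MvPolynomial (Fin (n + 1)) Γ(S, U))) =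
        ∑ k, (D.alg.str.app (op U)).hom (c k) * g k := by
      rw [map_sum]
      refine Finset.sum_congr rfl fun k _ => ?_
      rw [MvPolynomial.smul_eq_C_mul, map_mul, D.Phi_C]
    rw [h1]
    symm
    refine Finset.sum_image' (fun k => (D.alg.str.app (op U)).hom (c k) * g k) ?_
    intro i _
    change (D.alg.str.app (op U)).hom (∑ j ∈ Finset.univ.filter (fun j => g j = g i), c j) * g i = _
    rw [map_sum, Finset.sum_mul]
    refine Finset.sum_congr rfl fun j hj => ?_
    rw [(Finset.mem_filter.mp hj).2]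

include D in
/-- **Compatible closed immersions into `P^n` over the affine opens give a projective morphism.** -/
theorem isProjective : RelProj.IsProjective f :=
  ⟨D.grAlg, X, f, D.chart, Iso.refl X, D.isGenDegOne, D.isFTDeg_one, D.isRelProj,
    Category.id_comp f⟩

end PnData

end Groth.Agent.Lib.helper12.PnLocal
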