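import Mathlib
import Groth.Agent.Lib.Helper12.PnLocal6

/-!
# H-projective morphisms are projective (helper12; EGA II 5.5)
-/

set_option autoImplicit false
universe u

open CategoryTheory CategoryTheory.Limits AlgebraicGeometry Opposite TopologicalSpace

namespace Groth.Agent.Lib.helper12.PnLocal

section

variable (n : ℕ) {X S : Scheme.{u}} (i : X ⟶ CohB1.ProjSpaceOver n S)

/-- The restriction of `i` over an open of the base. -/
noncomputable def iU (U : S.Opens) :
    (((i ≫ pr2 n S) ⁻¹ᵁ U : X.Opens) : Scheme.{u}) ⟶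
      ((pr2 n S ⁻¹ᵁ U : (CohB1.ProjSpaceOver n S).Opens) : Scheme.{u}) :=
  i ∣_ (pr2 n S ⁻¹ᵁ U)

@[reassoc]
theorem iU_comp (U : S.Opens) : iU n i U ≫ (pr2 n S ∣_ U) = (i ≫ pr2 n S) ∣_ U :=
  (morphismRestrict_comp i (pr2 n S) U).symm

@[reassoc]
theorem homOfLE_iU {U V : S.Opens} (hVU : V ≤ U) :
    X.homOfLE ((i ≫ pr2 n S).preimage_mono hVU) ≫ iU n i U =
      iU n i V ≫ (CohB1.ProjSpaceOver n S).homOfLE ((pr2 n S).preimage_mono hVU) :=
  (morphismRestrict_homOfLE i _ _ ((pr2 n S).preimage_mono hVU)).symm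

instance [IsClosedImmersion i] (U : S.Opens) : IsClosedImmersion (iU n i U) :=
  MorphismProperty.of_isPullback (isPullback_morphismRestrict i (pr2 n S ⁻¹ᵁ U)).flip
    inferInstance

/-- The compatible closed immersions attached to a closed immersion into `P^n_S`. -/
noncomputable def pnDataOfClosedImmersion [IsClosedImmersion i] : PnData n (i ≫ pr2 n S) where
  r U hU := iU n i U ≫ (theta n U hU).hom
  closed U hU := inferInstance
  overBase U hU := by
    rw [Category.assoc, theta_hom_toSpec, iU_comp_assoc]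
  res {U V} hU hV hVU := by
    rw [homOfLE_iU_assoc n i hVU, theta_naturality n hU hV hVU, Category.assoc]

end

/-- **An H-projective morphism is projective.** -/
theorem isProjective_of_isHProjective {X S : Scheme.{u}} (f : X ⟶ S)
    (hf : RelProj.IsHProjective f) : RelProj.IsProjective f := by
  obtain ⟨n, i, hi, rfl⟩ := hf
  exact (pnDataOfClosedImmersion n i).isProjective

end Groth.Agent.Lib.helper12.PnLocal
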