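import Mathlib
import Groth.Agent.Lib.Helper12.Chow11
import Groth.Agent.Lib.Helper12.PnLocal7
import Groth.Agent.Lib.Helper12.VAmple6

/-
helper12: Chow's lemma with projectivity in the sense of `RelProj.IsProjective` (EGA II 5.6.1).
-/

set_option autoImplicit false
universe u

open CategoryTheory CategoryTheory.Limits AlgebraicGeometry Opposite TopologicalSpace

namespace Groth.Agent.Lib.helper12.ChowProj

open Groth.Agent.Lib.helper19.ProjSpaceProper

/-- If `j : X'' ⟶ P^n_S` is an immersion over `S` with `j ≫ toBase = π ≫ r` and `π : X'' ⟶ X` proper, then `π` is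
H-projective: `X''` is a closed subscheme of `P^n_X`. -/
theorem isHProjective_of_immersion {X'' X S : Scheme.{u}} (r : X ⟶ S) (π : X'' ⟶ X) [IsProper π]
    (n : ℕ) (j : X'' ⟶ CohB1.ProjSpaceOver n S) [hjimm : IsImmersion j]
    (hj : j ≫ CohB1.ProjSpaceOver.toBase n S = π ≫ r) : RelProj.IsHProjective π := by
  let i : X'' ⟶ pullback (CohB1.ProjSpace.toSpec n (ULift.{u} ℤ)) (specULiftZIsTerminal.from X) :=
    pullback.lift (j ≫ pullback.fst _ _) π (specULiftZIsTerminal.hom_ext _ _)
  let m : pullback (CohB1.ProjSpace.toSpec n (ULift.{u} ℤ)) (specULiftZIsTerminal.from X) ⟶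
      pullback (CohB1.ProjSpace.toSpec n (ULift.{u} ℤ)) (specULiftZIsTerminal.from S) :=
    pullback.map (CohB1.ProjSpace.toSpec n (ULift.{u} ℤ)) (specULiftZIsTerminal.from X)
      (CohB1.ProjSpace.toSpec n (ULift.{u} ℤ)) (specULiftZIsTerminal.from S) (𝟙 _) r
      (𝟙 _) (by simp) (specULiftZIsTerminal.hom_ext _ _)
  have him : i ≫ m = j := by
    apply pullback.hom_ext
    · simp only [i, m, pullback.map, Category.assoc, pullback.lift_fst, Category.comp_id]
      rfl
    · simp only [i, m, pullback.map, Category.assoc, pullback.lift_snd, pullback.lift_snd_assoc]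
      exact hj.symm
  let i' : X'' ⟶ CohB1.ProjSpaceOver n X := i
  let m' : CohB1.ProjSpaceOver n X ⟶ CohB1.ProjSpaceOver n S := m
  have him' : i' ≫ m' = j := him
  have hiπ : i' ≫ CohB1.ProjSpaceOver.toBase n X = π := pullback.lift_snd _ _ _
  have h1 : IsImmersion (i' ≫ m') := by rw [him']; exact hjimm
  have h2 : IsImmersion i' := IsImmersion.of_comp i' m'
  have h3 : IsProper (i' ≫ CohB1.ProjSpaceOver.toBase n X) := by rw [hiπ]; infer_instance
  exact ⟨n, i', Chow5.isClosedImmersion_of_isProper_comp i' (CohB1.ProjSpaceOver.toBase n X), hiπ⟩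

/-- **Chow's lemma** (EGA II 5.6.1), with projectivity/quasi-projectivity in the `RelProj` sense. -/
theorem chow_relProj {X S : Scheme.{u}} (r : X ⟶ S) [IsSeparated r] [LocallyOfFiniteType r]
    [QuasiCompact r] [CompactSpace S] [QuasiSeparatedSpace S]
    (hfin : (irreducibleComponents X).Finite) :
    ∃ (X' : Scheme.{u}) (f : X' ⟶ X),
      RelProj.IsQuasiProjective (f ≫ r) ∧ RelProj.IsProjective f ∧ Surjective f ∧
      (∃ U : X.Opens, Dense (U : Set X) ∧ Dense ((f ⁻¹ᵁ U : X'.Opens) : Set X') ∧ IsIso (f ∣_ U)) ∧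
      (IsReduced X → IsReduced X') ∧ (IrreducibleSpace X → IrreducibleSpace X') ∧
      (IsIntegral X → IsIntegral X') := by
  obtain ⟨n, X'', π, j, hj, hjf, hπ, hs, hU, hirr, hred⟩ := Chow11.chow_finite_components' r hfin
  have hqc : QuasiCompact (j ≫ CohB1.ProjSpaceOver.toBase n S) := by rw [hjf]; infer_instance
  have hqcj : QuasiCompact j := QuasiCompact.of_comp j (CohB1.ProjSpaceOver.toBase n S)
  refine ⟨X'', π, VAmple6.isQuasiProjective_of_isHQuasiProjective ⟨n, j, hj, hqcj, hjf⟩,
    PnLocal.isProjective_of_isHProjective _ (isHProjective_of_immersion r π n j hjf), hs, hU,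
    hred, hirr, fun hint => ?_⟩
  have := hred inferInstance
  have := hirr inferInstance
  exact isIntegral_of_irreducibleSpace_of_isReduced X''

end Groth.Agent.Lib.helper12.ChowProj
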