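import Mathlib

/-!
# The odd part of the Clifford algebra of a ternary quadratic form

For a quadratic form `Q` on `Fin 3 → R`, every odd element of the Clifford algebra is of the form
`ι w + t • (e₀ e₁ e₂)`.
-/

set_option autoImplicit false

namespace Groth.Agent.Lib.helper12.Cliff3

open CliffordAlgebra

variable {R : Type*} [CommRing R] (Q : QuadraticForm R (Fin 3 → R))

/-- the basis vectors -/
noncomputable def e (i : Fin 3) : CliffordAlgebra Q := ι Q (Pi.single i 1)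

/-- the top element `e₀ e₁ e₂` -/
noncomputable def ω : CliffordAlgebra Q := e Q 0 * e Q 1 * e Q 2

/-- `ι(V) + R ω` -/
noncomputable def S : Submodule R (CliffordAlgebra Q) :=
  LinearMap.range (ι Q) ⊔ Submodule.span R {ω Q}

lemma ι_mem_S (v : Fin 3 → R) : ι Q v ∈ S Q :=
  Submodule.mem_sup_left ⟨v, rfl⟩

lemma ω_mem_S : ω Q ∈ S Q :=
  Submodule.mem_sup_right (Submodule.subset_span rfl)

lemma swap12 {a b c : Fin 3 → R} (h : ι Q a * ι Q b * ι Q c ∈ S Q) :
    ι Q b * ι Q a * ι Q c ∈ S Q := by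
  have h1 : ι Q b * ι Q a = algebraMap R _ (QuadraticMap.polar Q a b) - ι Q a * ι Q b := by
    rw [← ι_mul_ι_add_swap]; abel
  rw [h1, sub_mul, ← Algebra.smul_def]
  exact (S Q).sub_mem ((S Q).smul_mem _ (ι_mem_S Q c)) h

lemma swap23 {a b c : Fin 3 → R} (h : ι Q a * ι Q b * ι Q c ∈ S Q) :
    ι Q a * ι Q c * ι Q b ∈ S Q := by
  have h1 : ι Q c * ι Q b = algebraMap R _ (QuadraticMap.polar Q b c) - ι Q b * ι Q c := by
    rw [← ι_mul_ι_add_swap]; abel
  rw [mul_assoc, h1, mul_sub, ← mul_assoc, ← Algebra.commutes, ← Algebra.smul_def]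
  exact (S Q).sub_mem ((S Q).smul_mem _ (ι_mem_S Q a)) h

lemma eq12 (a c : Fin 3 → R) : ι Q a * ι Q a * ι Q c ∈ S Q := by
  rw [ι_sq_scalar, ← Algebra.smul_def]
  exact (S Q).smul_mem _ (ι_mem_S Q c)

lemma eq23 (a c : Fin 3 → R) : ι Q a * ι Q c * ι Q c ∈ S Q := by
  rw [mul_assoc, ι_sq_scalar, ← Algebra.commutes, ← Algebra.smul_def]
  exact (S Q).smul_mem _ (ι_mem_S Q a)

lemma eq13 (a b : Fin 3 → R) : ι Q a * ι Q b * ι Q a ∈ S Q :=
  swap23 Q (eq12 Q a b)

lemma basis_mem (i j l : Fin 3) : e Q i * e Q j * e Q l ∈ S Q := by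
  by_cases hij : i = j
  · subst hij; exact eq12 Q _ _
  by_cases hjl : j = l
  · subst hjl; exact eq23 Q _ _
  by_cases hil : i = l
  · subst hil; exact eq13 Q _ _
  have base : e Q 0 * e Q 1 * e Q 2 ∈ S Q := ω_mem_S Q
  fin_cases i <;> fin_cases j <;> fin_cases l <;> simp at hij hjl hil
  · exact base
  · exact swap23 Q base
  · exact swap12 Q base
  · exact swap23 Q (swap12 Q base)
  · exact swap12 Q (swap23 Q base)
  · exact swap12 Q (swap23 Q (swap12 Q base))


omit Q in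
lemma forall_of_basis {C : Type*} [AddCommGroup C] [Module R C] (f : (Fin 3 → R) →ₗ[R] C)
    (T : Submodule R C) (h : ∀ i, f (Pi.single i 1) ∈ T) (v : Fin 3 → R) : f v ∈ T := by
  have hv : v = ∑ i, v i • (Pi.single i 1 : Fin 3 → R) := by
    ext j
    simp [Finset.sum_apply, Pi.single_apply]
  rw [hv, map_sum]
  exact T.sum_mem (fun i _ => by rw [map_smul]; exact T.smul_mem _ (h i))

lemma triple_mem (a b c : Fin 3 → R) : ι Q a * ι Q b * ι Q c ∈ S Q := by
  -- linear in `a`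
  refine forall_of_basis ((LinearMap.mulRight R (ι Q b * ι Q c)).comp (ι Q)) (S Q) (fun i => ?_) a
    |> fun h => by simpa [mul_assoc] using h
  -- linear in `b`
  refine forall_of_basis ((LinearMap.mulLeft R (e Q i)).comp
    ((LinearMap.mulRight R (ι Q c)).comp (ι Q))) (S Q) (fun j => ?_) b
    |> fun h => by simpa [mul_assoc, e] using h
  -- linear in `c`
  refine forall_of_basis ((LinearMap.mulLeft R (e Q i * e Q j)).comp (ι Q)) (S Q) (fun l => ?_) c
    |> fun h => by simpa [mul_assoc, e] using h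
  simpa [mul_assoc, e] using basis_mem Q i j l

/-- left multiplication by two vectors preserves `S` -/
lemma ι_mul_ι_mul_mem (a b : Fin 3 → R) {x : CliffordAlgebra Q} (hx : x ∈ S Q) :
    ι Q a * ι Q b * x ∈ S Q := by
  rw [S, Submodule.mem_sup] at hx
  obtain ⟨y, ⟨c, rfl⟩, z, hz, rfl⟩ := hx
  rw [Submodule.mem_span_singleton] at hz
  obtain ⟨t, rfl⟩ := hz
  rw [mul_add]
  refine (S Q).add_mem (triple_mem Q a b c) ?_
  rw [mul_smul_comm]
  refine (S Q).smul_mem _ ?_
  -- `ι b * ω` is a product of two vectors plus a multiple of `e₀ e₁`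
  have h1 : ι Q b * e Q 0 * e Q 1 ∈ S Q := triple_mem Q b _ _
  rw [S, Submodule.mem_sup] at h1
  obtain ⟨y, ⟨w, rfl⟩, z, hz, hsum⟩ := h1
  rw [Submodule.mem_span_singleton] at hz
  obtain ⟨s, rfl⟩ := hz
  have h2 : ι Q b * ω Q = ι Q w * e Q 2 + (s * Q (Pi.single 2 1)) • (e Q 0 * e Q 1) := by
    have : ι Q b * ω Q = (ι Q b * e Q 0 * e Q 1) * e Q 2 := by
      rw [ω]; simp only [mul_assoc]
    rw [this, ← hsum, add_mul, smul_mul_assoc, ω, mul_assoc (e Q 0 * e Q 1), e, e, e, ι_sq_scalar,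
      ← Algebra.commutes, ← Algebra.smul_def, smul_smul, mul_comm s]
  rw [mul_assoc, h2, mul_add, mul_smul_comm]
  refine (S Q).add_mem ?_ ((S Q).smul_mem _ ?_)
  · rw [← mul_assoc]; exact triple_mem Q a w _
  · rw [← mul_assoc]; exact triple_mem Q a _ _

/-- every odd element is a vector plus a multiple of `ω` -/
theorem odd_mem_S {x : CliffordAlgebra Q} (hx : x ∈ evenOdd Q 1) : x ∈ S Q := by
  induction x, hx using odd_induction with
  | ι v => exact ι_mem_S Q v
  | add x y hx hy ihx ihy => exact (S Q).add_mem ihx ihy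
  | ι_mul_ι_mul m₁ m₂ x hx ih => exact ι_mul_ι_mul_mem Q m₁ m₂ ih

theorem exists_of_odd {x : CliffordAlgebra Q} (hx : x ∈ evenOdd Q 1) :
    ∃ (w : Fin 3 → R) (t : R), x = ι Q w + t • ω Q := by
  have := odd_mem_S Q hx
  rw [S, Submodule.mem_sup] at this
  obtain ⟨y, ⟨w, rfl⟩, z, hz, rfl⟩ := this
  rw [Submodule.mem_span_singleton] at hz
  obtain ⟨t, rfl⟩ := hz
  exact ⟨w, t, rfl⟩

end Groth.Agent.Lib.helper12.Cliff3
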