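import Mathlib
import Groth.Prelude.Def_GSzCSA
import Groth.Agent.Lib.Helper8.CSA
import Groth.Agent.Lib.Helper12.CSA10
import Groth.Agent.S13298

/-!
# The period divides the degree

For a central simple algebra `A` of degree `n` over `k` split by a finite Galois extension `K`,
the `n`-fold tensor power of `A` is split over `k` (determinant trick on the projective
semilinear representation attached to a splitting).
-/

set_option autoImplicit false
set_option linter.unusedSectionVars false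
universe u v w
open scoped TensorProduct MatrixGroups Kronecker
attribute [local instance] CSAGal.matrixAction GpH1.unitsAction CSAGal.pglAction CSAGal.tensorAction

namespace Groth.Agent.Lib.helper12.PerDeg

section basics
variable (k : Type u) [Field k] (K : Type v) [Field K] [Algebra k K]

theorem smul_tmul_eq (A : Type w) [Ring A] [Algebra k A] (σ : K ≃ₐ[k] K) (x : K) (a : A) :
    σ • (x ⊗ₜ[k] a) = (σ x) ⊗ₜ[k] a := rfl

theorem smul_smul_tensor (A : Type w) [Ring A] [Algebra k A] (σ : K ≃ₐ[k] K) (x : K)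
    (t : K ⊗[k] A) : σ • (x • t) = σ x • (σ • t) := by
  induction t using TensorProduct.induction_on with
  | zero => simp
  | tmul y a =>
    rw [TensorProduct.smul_tmul', smul_tmul_eq, smul_tmul_eq, TensorProduct.smul_tmul',
      smul_eq_mul, smul_eq_mul, map_mul]
  | add y z hy hz => rw [smul_add, smul_add, hy, hz, smul_add, smul_add]

theorem smul_smul_matrix {I : Type*} [Fintype I] [DecidableEq I] (σ : K ≃ₐ[k] K) (x : K)
    (M : Matrix I I K) : σ • (x • M) = σ x • (σ • M) := by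
  ext i j
  simp only [Matrix.smul_apply, smul_eq_mul, smul_mul', AlgEquiv.smul_def]

theorem smul_algebraMap_matrix {I : Type*} [Fintype I] [DecidableEq I] (σ : K ≃ₐ[k] K) (c : k) :
    σ • (algebraMap k (Matrix I I K) c) = algebraMap k (Matrix I I K) c := by
  ext i j
  rw [Matrix.smul_apply, Matrix.algebraMap_matrix_apply]
  split_ifs
  · rw [AlgEquiv.smul_def, AlgEquiv.commutes]
  · rw [smul_zero]

theorem smul_algebraMap_matrix' {I : Type*} [Fintype I] [DecidableEq I] (σ : K ≃ₐ[k] K) (x : K) :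
    σ • (algebraMap K (Matrix I I K) x) = algebraMap K (Matrix I I K) (σ x) := by
  ext i j
  rw [Matrix.smul_apply, Matrix.algebraMap_matrix_apply, Matrix.algebraMap_matrix_apply]
  split_ifs
  · rfl
  · rw [smul_zero]

theorem smul_algebraMap_tensor (A : Type w) [Ring A] [Algebra k A] (σ : K ≃ₐ[k] K) (x : K) :
    σ • (algebraMap K (K ⊗[k] A) x) = algebraMap K (K ⊗[k] A) (σ x) := by
  rw [Algebra.TensorProduct.algebraMap_apply, Algebra.TensorProduct.algebraMap_apply,
    smul_tmul_eq]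
  rfl

theorem smul_kronecker' {I J : Type*} [Fintype I] [DecidableEq I] [Fintype J] [DecidableEq J]
    (σ : K ≃ₐ[k] K) (X : Matrix I I K) (Y : Matrix J J K) :
    σ • (X ⊗ₖ Y) = (σ • X) ⊗ₖ (σ • Y) := by
  ext ⟨i, j⟩ ⟨i', j'⟩
  simp only [Matrix.smul_apply, Matrix.kronecker_apply, smul_mul']

theorem det_smul_matrix {I : Type*} [Fintype I] [DecidableEq I] (σ : K ≃ₐ[k] K)
    (M : Matrix I I K) : (σ • M).det = σ M.det := by
  have : σ • M = (σ : K →+* K).mapMatrix M := by
    ext i j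
    rfl
  rw [this, ← RingHom.map_det]
  rfl

end basics

section lifts
variable (k : Type u) [Field k] (K : Type v) [Field K] [Algebra k K]
  (A : Type w) [Ring A] [Algebra k A] (n : ℕ) [NeZero n]
  (φ : K ⊗[k] A ≃ₐ[K] Matrix (Fin n) (Fin n) K)

/-- the `K`-algebra automorphism `M ↦ φ (σ • φ⁻¹ (σ⁻¹ • M))` of the matrix algebra -/
noncomputable def psi (σ : K ≃ₐ[k] K) :
    Matrix (Fin n) (Fin n) K →ₐ[K] Matrix (Fin n) (Fin n) K where
  toFun M := φ (σ • φ.symm (σ⁻¹ • M))
  map_one' := by rw [smul_one, map_one, smul_one, map_one]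
  map_mul' X Y := by rw [smul_mul', map_mul, smul_mul', map_mul]
  map_zero' := by rw [smul_zero, map_zero, smul_zero, map_zero]
  map_add' X Y := by rw [smul_add, map_add, smul_add, map_add]
  commutes' x := by
    show φ (σ • φ.symm (σ⁻¹ • algebraMap K (Matrix (Fin n) (Fin n) K) x)) = _
    rw [smul_algebraMap_matrix', AlgEquiv.commutes, smul_algebraMap_tensor, AlgEquiv.commutes]
    congr 1
    exact σ.apply_symm_apply x

theorem psi_apply (σ : K ≃ₐ[k] K) (M : Matrix (Fin n) (Fin n) K) :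
    psi k K A n φ σ M = φ (σ • φ.symm (σ⁻¹ • M)) := rfl

theorem exists_lift (σ : K ≃ₐ[k] K) : ∃ g : GL (Fin n) K, ∀ M : Matrix (Fin n) (Fin n) K,
    φ (σ • φ.symm M) = (g : Matrix (Fin n) (Fin n) K) * (σ • M)
      * ((g⁻¹ : GL (Fin n) K) : Matrix (Fin n) (Fin n) K) := by
  obtain ⟨h, hh⟩ := Groth.Agent.Lib.Helper8.CSA.skolem_noether K (Matrix (Fin n) (Fin n) K)
    (Matrix (Fin n) (Fin n) K) (psi k K A n φ σ) (AlgHom.id K _)
  refine ⟨h, fun M => ?_⟩
  have := hh (σ • M)
  rw [psi_apply, inv_smul_smul] at this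
  exact this

end lifts

section cocycle
variable (k : Type u) [Field k] (K : Type v) [Field K] [Algebra k K]
  (A : Type w) [Ring A] [Algebra k A] (n : ℕ)
  (φ : K ⊗[k] A ≃ₐ[K] Matrix (Fin n) (Fin n) K)
  (g : (K ≃ₐ[k] K) → GL (Fin n) K)
  (hg : ∀ (σ : K ≃ₐ[k] K) (M : Matrix (Fin n) (Fin n) K),
    φ (σ • φ.symm M) = (g σ : Matrix (Fin n) (Fin n) K) * (σ • M)
      * (((g σ)⁻¹ : GL (Fin n) K) : Matrix (Fin n) (Fin n) K))

theorem coe_smul_GL (σ : K ≃ₐ[k] K) (h : GL (Fin n) K) :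
    ((σ • h : GL (Fin n) K) : Matrix (Fin n) (Fin n) K)
      = σ • (h : Matrix (Fin n) (Fin n) K) := rfl

theorem coe_inv_smul_GL (σ : K ≃ₐ[k] K) (h : GL (Fin n) K) :
    (((σ • h)⁻¹ : GL (Fin n) K) : Matrix (Fin n) (Fin n) K)
      = σ • ((h⁻¹ : GL (Fin n) K) : Matrix (Fin n) (Fin n) K) := rfl

theorem exists_smul_eq_of_conj_eq (a b : GL (Fin n) K)
    (h : ∀ X : Matrix (Fin n) (Fin n) K,
      (a : Matrix (Fin n) (Fin n) K) * X * ((a⁻¹ : GL (Fin n) K) : Matrix (Fin n) (Fin n) K)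
        = (b : Matrix (Fin n) (Fin n) K) * X * ((b⁻¹ : GL (Fin n) K) : Matrix (Fin n) (Fin n) K)) :
    ∃ u : K, u ≠ 0 ∧ (a : Matrix (Fin n) (Fin n) K) = u • (b : Matrix (Fin n) (Fin n) K) := by
  have hmk : (Matrix.ProjGenLinGroup.mk b : Matrix.ProjGenLinGroup (Fin n) K)
      = Matrix.ProjGenLinGroup.mk a := by
    rw [Matrix.ProjGenLinGroup.mk_eq_mk_iff']
    refine ⟨b⁻¹ * a, ?_, by group⟩
    rw [Subgroup.mem_center_iff]
    intro x
    have hx : a * x * a⁻¹ = b * x * b⁻¹ := by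
      apply Units.ext
      simpa using h (x : Matrix (Fin n) (Fin n) K)
    calc x * (b⁻¹ * a) = b⁻¹ * (b * x * b⁻¹) * a := by group
      _ = b⁻¹ * (a * x * a⁻¹) * a := by rw [hx]
      _ = b⁻¹ * a * x := by group
  rw [Matrix.ProjGenLinGroup.mk_eq_mk_iff] at hmk
  obtain ⟨u, hu⟩ := hmk
  refine ⟨(u : K), u.ne_zero, ?_⟩
  rw [← hu, Units.val_mul, Matrix.GeneralLinearGroup.coe_scalar, Matrix.scalar_apply,
    ← Matrix.smul_eq_mul_diagonal]

include hg in
theorem exists_two_cocycle (σ τ : K ≃ₐ[k] K) : ∃ a : K, a ≠ 0 ∧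
    (g σ : Matrix (Fin n) (Fin n) K) * σ • (g τ : Matrix (Fin n) (Fin n) K)
      = a • (g (σ * τ) : Matrix (Fin n) (Fin n) K) := by
  have key := exists_smul_eq_of_conj_eq K n (g σ * σ • g τ) (g (σ * τ)) (by
    intro X
    obtain ⟨M, rfl⟩ : ∃ M : Matrix (Fin n) (Fin n) K, (σ * τ) • M = X :=
      ⟨(σ * τ)⁻¹ • X, smul_inv_smul _ X⟩
    rw [← hg (σ * τ) M]
    have h1 : τ • φ.symm M = φ.symm (φ (τ • φ.symm M)) := (φ.symm_apply_apply _).symm
    rw [mul_smul σ τ (φ.symm M), h1, hg σ, hg τ, mul_smul σ τ M, smul_mul', smul_mul',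
      mul_inv_rev, Units.val_mul, Units.val_mul, coe_smul_GL, coe_inv_smul_GL]
    simp only [mul_assoc])
  obtain ⟨u, hu, h⟩ := key
  exact ⟨u, hu, by rw [← h, Units.val_mul, coe_smul_GL]⟩

end cocycle

section kron
variable (k : Type u) [Field k] (K : Type v) [Field K] [Algebra k K]

/-- `X ↦ X ⊗ₖ 1` -/
noncomputable def kronL (I J : Type*) [Fintype I] [DecidableEq I] [Fintype J] [DecidableEq J] :
    Matrix I I K →ₐ[k] Matrix (I × J) (I × J) K where
  toFun X := X ⊗ₖ (1 : Matrix J J K)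
  map_one' := Matrix.one_kronecker_one
  map_mul' X Y := by rw [← Matrix.mul_kronecker_mul, mul_one]
  map_zero' := Matrix.zero_kronecker _
  map_add' X Y := Matrix.add_kronecker _ _ _
  commutes' c := by
    rw [Algebra.algebraMap_eq_smul_one, Algebra.algebraMap_eq_smul_one, Matrix.smul_kronecker,
      Matrix.one_kronecker_one]

/-- `Y ↦ 1 ⊗ₖ Y` -/
noncomputable def kronR (I J : Type*) [Fintype I] [DecidableEq I] [Fintype J] [DecidableEq J] :
    Matrix J J K →ₐ[k] Matrix (I × J) (I × J) K where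
  toFun Y := (1 : Matrix I I K) ⊗ₖ Y
  map_one' := Matrix.one_kronecker_one
  map_mul' X Y := by rw [← Matrix.mul_kronecker_mul, mul_one]
  map_zero' := Matrix.kronecker_zero _
  map_add' X Y := Matrix.kronecker_add _ _ _
  commutes' c := by
    rw [Algebra.algebraMap_eq_smul_one, Algebra.algebraMap_eq_smul_one, Matrix.kronecker_smul,
      Matrix.one_kronecker_one]

theorem kronL_apply {I J : Type*} [Fintype I] [DecidableEq I] [Fintype J] [DecidableEq J]
    (X : Matrix I I K) : kronL k K I J X = X ⊗ₖ (1 : Matrix J J K) := rfl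

theorem kronR_apply {I J : Type*} [Fintype I] [DecidableEq I] [Fintype J] [DecidableEq J]
    (Y : Matrix J J K) : kronR k K I J Y = (1 : Matrix I I K) ⊗ₖ Y := rfl

theorem isUnit_kronecker {I J : Type*} [Fintype I] [DecidableEq I] [Fintype J] [DecidableEq J]
    {X : Matrix I I K} {Y : Matrix J J K} (hX : IsUnit X) (hY : IsUnit Y) : IsUnit (X ⊗ₖ Y) := by
  obtain ⟨u, rfl⟩ := hX
  obtain ⟨v, rfl⟩ := hY
  refine ⟨⟨(u : Matrix I I K) ⊗ₖ (v : Matrix J J K),
    ((u⁻¹ : (Matrix I I K)ˣ) : Matrix I I K) ⊗ₖ ((v⁻¹ : (Matrix J J K)ˣ) : Matrix J J K), ?_, ?_⟩, rfl⟩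
  · rw [← Matrix.mul_kronecker_mul, Units.mul_inv, Units.mul_inv, Matrix.one_kronecker_one]
  · rw [← Matrix.mul_kronecker_mul, Units.inv_mul, Units.inv_mul, Matrix.one_kronecker_one]

variable {I J : Type*} [Fintype I] [DecidableEq I] [Fintype J] [DecidableEq J]
  {A : Type*} [Ring A] [Algebra k A] {T : Type*} [Ring T] [Algebra k T]

/-- the Kronecker product of two representations -/
noncomputable def liftKron (θ : A →ₐ[k] Matrix J J K) (ψ : T →ₐ[k] Matrix I I K) :
    A ⊗[k] T →ₐ[k] Matrix (J × I) (J × I) K :=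
  Algebra.TensorProduct.lift ((kronL k K J I).comp θ) ((kronR k K J I).comp ψ) (fun a t => by
    show (kronL k K J I) (θ a) * (kronR k K J I) (ψ t) = (kronR k K J I) (ψ t) * (kronL k K J I) (θ a)
    rw [kronL_apply, kronR_apply, ← Matrix.mul_kronecker_mul, ← Matrix.mul_kronecker_mul,
      mul_one, one_mul, mul_one, one_mul])

theorem liftKron_tmul (θ : A →ₐ[k] Matrix J J K) (ψ : T →ₐ[k] Matrix I I K) (a : A) (t : T) :
    liftKron k K θ ψ (a ⊗ₜ[k] t) = θ a ⊗ₖ ψ t := by
  show (kronL k K J I) (θ a) * (kronR k K J I) (ψ t) = _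
  rw [kronL_apply, kronR_apply, ← Matrix.mul_kronecker_mul, mul_one, one_mul]

theorem liftKron_equivariant (θ : A →ₐ[k] Matrix J J K) (ψ : T →ₐ[k] Matrix I I K)
    (σ : K ≃ₐ[k] K) (Q : Matrix J J K) (P : Matrix I I K)
    (hθ : ∀ a, Q * σ • θ a = θ a * Q) (hψ : ∀ t, P * σ • ψ t = ψ t * P) (y : A ⊗[k] T) :
    (Q ⊗ₖ P) * σ • liftKron k K θ ψ y = liftKron k K θ ψ y * (Q ⊗ₖ P) := by
  induction y using TensorProduct.induction_on with
  | zero => rw [map_zero, smul_zero, mul_zero, zero_mul]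
  | tmul a t =>
    rw [liftKron_tmul, smul_kronecker', ← Matrix.mul_kronecker_mul, ← Matrix.mul_kronecker_mul,
      hθ, hψ]
  | add y z hy hz => rw [map_add, smul_add, mul_add, add_mul, hy, hz]

end kron

section induction
open Groth.Agent.Lib.helper12.CSA
variable (k : Type u) [Field k] (K : Type v) [Field K] [Algebra k K]
  (A : Type w) [Ring A] [Algebra k A] (n : ℕ)
  (φ : K ⊗[k] A ≃ₐ[K] Matrix (Fin n) (Fin n) K)
  (g : (K ≃ₐ[k] K) → GL (Fin n) K)
  (hg : ∀ (σ : K ≃ₐ[k] K) (M : Matrix (Fin n) (Fin n) K),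
    φ (σ • φ.symm M) = (g σ : Matrix (Fin n) (Fin n) K) * (σ • M)
      * (((g σ)⁻¹ : GL (Fin n) K) : Matrix (Fin n) (Fin n) K))
  (a : (K ≃ₐ[k] K) → (K ≃ₐ[k] K) → K)
  (ha : ∀ σ τ : K ≃ₐ[k] K, (g σ : Matrix (Fin n) (Fin n) K) * σ • (g τ : Matrix (Fin n) (Fin n) K)
      = a σ τ • (g (σ * τ) : Matrix (Fin n) (Fin n) K))

/-- the representation of `A` on `K^n` -/
noncomputable def theta : A →ₐ[k] Matrix (Fin n) (Fin n) K :=
  (φ.toAlgHom.restrictScalars k).comp Algebra.TensorProduct.includeRight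

theorem theta_apply (x : A) : theta k K A n φ x = φ ((1 : K) ⊗ₜ[k] x) := rfl

include hg in
theorem theta_equivariant (σ : K ≃ₐ[k] K) (x : A) :
    (g σ : Matrix (Fin n) (Fin n) K) * σ • theta k K A n φ x
      = theta k K A n φ x * (g σ : Matrix (Fin n) (Fin n) K) := by
  have h := hg σ (theta k K A n φ x)
  rw [theta_apply, φ.symm_apply_apply, smul_tmul_eq, map_one] at h
  rw [theta_apply]
  conv_rhs => rw [h]
  simp only [mul_assoc, Units.inv_mul, mul_one]

include hg ha in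
theorem exists_data (r : ℕ) : ∃ (I : Type) (_ : Fintype I) (_ : DecidableEq I)
    (P : (K ≃ₐ[k] K) → Matrix I I K) (ψ : CSAGal.tpow k A r →ₐ[k] Matrix I I K),
    Fintype.card I = n ^ r ∧
    (∀ σ, IsUnit (P σ)) ∧
    (∀ σ τ, P σ * σ • P τ = (a σ τ) ^ r • P (σ * τ)) ∧
    (∀ σ x, P σ * σ • ψ x = ψ x * P σ) := by
  induction r with
  | zero =>
    refine ⟨Unit, inferInstance, inferInstance, fun _ => 1,
      (Algebra.ofId k (Matrix Unit Unit K)).comp (tpowZero k A).toAlgHom, by simp,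
      fun _ => isUnit_one, fun σ τ => ?_, fun σ x => ?_⟩
    · rw [smul_one, mul_one, pow_zero, one_smul]
    · rw [one_mul, mul_one]
      exact smul_algebraMap_matrix k K σ _
  | succ r ih =>
    obtain ⟨I, hI1, hI2, P, ψ, hcard, hunit, hmul, heq⟩ := ih
    refine ⟨Fin n × I, inferInstance, inferInstance,
      fun σ => (g σ : Matrix (Fin n) (Fin n) K) ⊗ₖ P σ,
      (liftKron k K (theta k K A n φ) ψ).comp (tpowSucc k A r).symm.toAlgHom, ?_,
      fun σ => isUnit_kronecker K (g σ).isUnit (hunit σ), fun σ τ => ?_, fun σ x => ?_⟩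
    · rw [Fintype.card_prod, Fintype.card_fin, hcard, pow_succ, mul_comm]
    · rw [smul_kronecker', ← Matrix.mul_kronecker_mul, ha, hmul, Matrix.smul_kronecker,
        Matrix.kronecker_smul, smul_smul, pow_succ, mul_comm]
    · exact liftKron_equivariant k K (theta k K A n φ) ψ σ _ _
        (theta_equivariant k K A n φ g hg σ) (heq σ) _

end induction

section finrankTpow
open Groth.Agent.Lib.helper12.CSA
variable (k : Type u) [Field k] (A : Type w) [Ring A] [Algebra k A] [FiniteDimensional k A]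

theorem finrank_tpow (r : ℕ) :
    Module.finrank k (CSAGal.tpow k A r) = Module.finrank k A ^ r := by
  induction r with
  | zero =>
    rw [pow_zero, (tpowZero k A).toLinearEquiv.finrank_eq, Module.finrank_self]
  | succ r ih =>
    rw [← (tpowSucc k A r).toLinearEquiv.finrank_eq, Module.finrank_tensorProduct, ih, pow_succ,
      mul_comm]

end finrankTpow

section fixedEntries
variable (k : Type u) [Field k] (K : Type v) [Field K] [Algebra k K]
  [FiniteDimensional k K] [IsGalois k K]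

theorem mem_range_mapMatrix {I : Type*} [Fintype I] [DecidableEq I] (M : Matrix I I K)
    (h : ∀ σ : K ≃ₐ[k] K, σ • M = M) :
    M ∈ ((Algebra.ofId k K).mapMatrix : Matrix I I k →ₐ[k] Matrix I I K).range := by
  have hent : ∀ i j, ∃ c : k, algebraMap k K c = M i j := by
    intro i j
    have h1 : ∀ σ : K ≃ₐ[k] K, σ (M i j) = M i j := by
      intro σ
      have := congrFun (congrFun (h σ) i) j
      rwa [Matrix.smul_apply] at this
    exact (IsGalois.mem_range_algebraMap_iff_fixed (F := k) (E := K) (M i j)).mpr h1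
  choose c hc using hent
  refine ⟨Matrix.of c, ?_⟩
  ext i j
  exact hc i j

end fixedEntries

section final
open Groth.Agent.Lib.helper12.CSA
variable (k : Type u) [Field k] (K : Type v) [Field K] [Algebra k K]
  [FiniteDimensional k K] [IsGalois k K]

/-- Hilbert 90 for matrices indexed by an arbitrary finite type -/
theorem hilbert90 {I : Type} [Fintype I] [DecidableEq I] (G' : (K ≃ₐ[k] K) → Matrix I I K)
    (h1 : G' 1 = 1) (hmul : ∀ σ τ : K ≃ₐ[k] K, G' (σ * τ) = G' σ * σ • G' τ) :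
    ∃ Q : Matrix I I K, IsUnit Q ∧ ∀ σ : K ≃ₐ[k] K, G' σ * σ • Q = Q := by
  let e : I ≃ Fin (Fintype.card I) := Fintype.equivFin I
  let R : Matrix I I K ≃ₐ[K] Matrix (Fin (Fintype.card I)) (Fin (Fintype.card I)) K :=
    Matrix.reindexAlgEquiv K K e
  have hR : ∀ (σ : K ≃ₐ[k] K) (X : Matrix I I K), R (σ • X) = σ • R X := fun σ X => rfl
  obtain ⟨Q', hQ'u, hQ'⟩ := Groth.Agent.S13298.aux k K (Fintype.card I) (fun σ => R (G' σ))
    (by rw [h1, map_one]) (fun σ τ => by rw [hmul, map_mul, hR])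
  refine ⟨R.symm Q', ?_, fun σ => ?_⟩
  · exact hQ'u.map R.symm
  · apply R.injective
    rw [map_mul, hR, R.apply_symm_apply]
    exact hQ' σ

/-- an algebra represented in `M_I(K)` by matrices that become Galois-fixed after a conjugation
is a matrix algebra over `k` (if the dimension fits) -/
theorem nonempty_algEquiv_matrix_of_fixed {I : Type} [Fintype I] [DecidableEq I] [Nonempty I]
    (T : Type w) [Ring T] [Algebra k T] [IsSimpleRing T]
    (hdim : Module.finrank k T = Fintype.card I ^ 2)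
    (ψ : T →ₐ[k] Matrix I I K) (Q : (Matrix I I K)ˣ)
    (hfix : ∀ (σ : K ≃ₐ[k] K) (x : T),
      σ • (((Q⁻¹ : (Matrix I I K)ˣ) : Matrix I I K) * ψ x * (Q : Matrix I I K))
        = ((Q⁻¹ : (Matrix I I K)ˣ) : Matrix I I K) * ψ x * (Q : Matrix I I K)) :
    Nonempty (T ≃ₐ[k] Matrix I I k) := by
  let μ : Matrix I I k →ₐ[k] Matrix I I K := (Algebra.ofId k K).mapMatrix
  have hμ : Function.Injective μ := by
    intro X Y hXY
    ext i j
    have := congrFun (congrFun hXY i) j
    exact (algebraMap k K).injective this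
  let c : Matrix I I K ≃ₐ[k] Matrix I I K :=
    MulSemiringAction.toAlgEquiv k (Matrix I I K) (ConjAct.toConjAct Q⁻¹)
  have hc : ∀ X, c X = ((Q⁻¹ : (Matrix I I K)ˣ) : Matrix I I K) * X * (Q : Matrix I I K) := by
    intro X
    show ((Q⁻¹ : (Matrix I I K)ˣ) : Matrix I I K) * X
      * (((Q⁻¹)⁻¹ : (Matrix I I K)ˣ) : Matrix I I K) = _
    rw [inv_inv]
  let Ψ₀ : T →ₐ[k] Matrix I I K := c.toAlgHom.comp ψ
  have hmem : ∀ x, Ψ₀ x ∈ μ.range := by
    intro x
    apply mem_range_mapMatrix k K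
    intro σ
    show σ • c (ψ x) = c (ψ x)
    rw [hc]
    exact hfix σ x
  let Ψ₁ : T →ₐ[k] μ.range := Ψ₀.codRestrict μ.range hmem
  let Ψ : T →ₐ[k] Matrix I I k := (AlgEquiv.ofInjective μ hμ).symm.toAlgHom.comp Ψ₁
  have hinj : Function.Injective Ψ := (Ψ : T →+* Matrix I I k).injective
  have hfin : FiniteDimensional k T := by
    apply Module.finite_of_finrank_pos
    rw [hdim]
    have : 0 < Fintype.card I := Fintype.card_pos
    positivity
  have hsurj : Function.Surjective Ψ := by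
    apply (LinearMap.injective_iff_surjective_of_finrank_eq_finrank (f := Ψ.toLinearMap) _).mp hinj
    rw [hdim, Module.finrank_matrix]
    simp
    ring
  exact ⟨AlgEquiv.ofBijective Ψ ⟨hinj, hsurj⟩⟩

/-- **The period divides the degree**: if the finite Galois extension `K` splits the central simple
algebra `A` of degree `n`, then the `n`-fold tensor power of `A` is split over `k`. -/
theorem splits_tpow_degree (A : Type w) [Ring A] [Algebra k A] [Algebra.IsCentral k A]
    [IsSimpleRing A] [FiniteDimensional k A] (n : ℕ) (hn : n ≠ 0)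
    (φ : K ⊗[k] A ≃ₐ[K] Matrix (Fin n) (Fin n) K) :
    Curves.Splits k (CSAGal.tpow k A n) k := by
  have : NeZero n := ⟨hn⟩
  choose g hg using exists_lift k K A n φ
  choose a ha0 ha using exists_two_cocycle k K A n φ g hg
  let b : (K ≃ₐ[k] K) → K := fun σ => (g σ : Matrix (Fin n) (Fin n) K).det
  have hb0 : ∀ σ, b σ ≠ 0 := fun σ =>
    ((Matrix.isUnit_iff_isUnit_det _).mp (g σ).isUnit).ne_zero
  have hab : ∀ σ τ : K ≃ₐ[k] K, b σ * σ (b τ) = (a σ τ) ^ n * b (σ * τ) := by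
    intro σ τ
    have := congrArg Matrix.det (ha σ τ)
    rw [Matrix.det_mul, det_smul_matrix, Matrix.det_smul, Fintype.card_fin] at this
    exact this
  obtain ⟨I, hI1, hI2, P, ψ, hcard, hunit, hmul, heq⟩ := exists_data k K A n φ g hg a ha n
  have hIne : Nonempty I := by
    rw [← Fintype.card_pos_iff, hcard]
    positivity
  let G' : (K ≃ₐ[k] K) → Matrix I I K := fun σ => (b σ)⁻¹ • P σ
  have hG'mul : ∀ σ τ : K ≃ₐ[k] K, G' (σ * τ) = G' σ * σ • G' τ := by
    intro σ τ
    show (b (σ * τ))⁻¹ • P (σ * τ) = (b σ)⁻¹ • P σ * σ • ((b τ)⁻¹ • P τ)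
    rw [smul_smul_matrix, Matrix.smul_mul, Matrix.mul_smul, smul_smul, hmul, smul_smul, map_inv₀]
    congr 1
    have h1 := hab σ τ
    have h2 := hb0 σ
    have h3 : σ (b τ) ≠ 0 := by
      rw [Ne, map_eq_zero]
      exact hb0 τ
    have h4 := hb0 (σ * τ)
    field_simp
    rw [h1]
    ring
  have hG'unit : ∀ σ, IsUnit (G' σ) := by
    intro σ
    obtain ⟨u, hu⟩ := hunit σ
    have hbu : IsUnit ((b σ)⁻¹) := (isUnit_iff_ne_zero.mpr (inv_ne_zero (hb0 σ)))
    have : G' σ = algebraMap K (Matrix I I K) (b σ)⁻¹ * P σ := by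
      rw [← Algebra.smul_def]
    rw [this]
    exact (hbu.map _).mul (hunit σ)
  have hG'1 : G' 1 = 1 := by
    have h := hG'mul 1 1
    rw [one_smul, mul_one] at h
    obtain ⟨u, hu⟩ := hG'unit 1
    rw [← hu] at h ⊢
    have : (u : Matrix I I K) = ↑(u * u) := by rw [Units.val_mul]; exact h
    have h2 : u = u * u := Units.ext this
    have h3 : u = 1 := by
      have := congrArg (fun v => u⁻¹ * v) h2
      simpa using this.symm
    rw [h3, Units.val_one]
  obtain ⟨Q, hQu, hQ⟩ := hilbert90 k K G' hG'1 hG'mul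
  obtain ⟨Qu, rfl⟩ := hQu
  have hAdim : Module.finrank k A = n ^ 2 := by
    have := Module.finrank_baseChange (R := K) (S := k) (M' := A)
    rw [← this, LinearEquiv.finrank_eq φ.toLinearEquiv, Module.finrank_matrix]
    simp
    ring
  obtain ⟨_, hsimple, _⟩ := csa_tpow k A n
  have hdim : Module.finrank k (CSAGal.tpow k A n) = Fintype.card I ^ 2 := by
    rw [finrank_tpow, hAdim, hcard, ← pow_mul, ← pow_mul, mul_comm]
  have hfix : ∀ (σ : K ≃ₐ[k] K) (x : CSAGal.tpow k A n),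
      σ • (((Qu⁻¹ : (Matrix I I K)ˣ) : Matrix I I K) * ψ x * (Qu : Matrix I I K))
        = ((Qu⁻¹ : (Matrix I I K)ˣ) : Matrix I I K) * ψ x * (Qu : Matrix I I K) := by
    intro σ x
    obtain ⟨Gu, hGu⟩ := hG'unit σ
    have hσQ : σ • (Qu : Matrix I I K) = ((Gu⁻¹ : (Matrix I I K)ˣ) : Matrix I I K) * Qu := by
      have := hQ σ
      rw [← hGu] at this
      calc σ • (Qu : Matrix I I K)
          = ((Gu⁻¹ : (Matrix I I K)ˣ) : Matrix I I K) * ((Gu : Matrix I I K) * σ • (Qu : Matrix I I K)) := by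
            rw [← mul_assoc, Units.inv_mul, one_mul]
        _ = _ := by rw [this]
    have hσQinv : σ • ((Qu⁻¹ : (Matrix I I K)ˣ) : Matrix I I K)
        = ((Qu⁻¹ : (Matrix I I K)ˣ) : Matrix I I K) * Gu := by
      have h1 : σ • ((Qu⁻¹ : (Matrix I I K)ˣ) : Matrix I I K) * σ • (Qu : Matrix I I K) = 1 := by
        rw [← smul_mul', Units.inv_mul, smul_one]
      rw [hσQ] at h1
      calc σ • ((Qu⁻¹ : (Matrix I I K)ˣ) : Matrix I I K)
          = σ • ((Qu⁻¹ : (Matrix I I K)ˣ) : Matrix I I K)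
            * (((Gu⁻¹ : (Matrix I I K)ˣ) : Matrix I I K) * Qu)
            * (((Qu⁻¹ : (Matrix I I K)ˣ) : Matrix I I K) * Gu) := by
            simp only [mul_assoc, Units.mul_inv_cancel_left, Units.inv_mul, mul_one]
        _ = ((Qu⁻¹ : (Matrix I I K)ˣ) : Matrix I I K) * Gu := by rw [h1, one_mul]
    have hGψ : (Gu : Matrix I I K) * σ • ψ x = ψ x * Gu := by
      rw [hGu]
      show (b σ)⁻¹ • P σ * σ • ψ x = ψ x * ((b σ)⁻¹ • P σ)
      rw [Matrix.smul_mul ((b σ)⁻¹) (P σ) (σ • ψ x), Matrix.mul_smul (ψ x) ((b σ)⁻¹) (P σ), heq]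
    rw [smul_mul', smul_mul', hσQ, hσQinv]
    calc ((Qu⁻¹ : (Matrix I I K)ˣ) : Matrix I I K) * Gu * σ • ψ x
          * (((Gu⁻¹ : (Matrix I I K)ˣ) : Matrix I I K) * Qu)
        = ((Qu⁻¹ : (Matrix I I K)ˣ) : Matrix I I K) * ((Gu : Matrix I I K) * σ • ψ x)
          * (((Gu⁻¹ : (Matrix I I K)ˣ) : Matrix I I K) * Qu) := by simp only [mul_assoc]
      _ = _ := by
        rw [hGψ]
        simp only [mul_assoc, Units.mul_inv_cancel_left]
  obtain ⟨E⟩ := nonempty_algEquiv_matrix_of_fixed k K (CSAGal.tpow k A n) hdim ψ Qu hfix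
  refine ⟨Fintype.card I, Fintype.card_ne_zero, ⟨?_⟩⟩
  exact (Algebra.TensorProduct.lid k _).trans
    (E.trans (Matrix.reindexAlgEquiv k k (Fintype.equivFin I)))

end final

end Groth.Agent.Lib.helper12.PerDeg
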