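import Mathlib
import Groth.Agent.S13269

/-!
# Universal property and uniqueness of cyclic algebras (as presented by `CSAGal.IsCyclicAlg`)
-/

set_option autoImplicit false
universe u v w w'
open scoped TensorProduct

namespace Groth.Agent.Lib.helper12.CSA

open Groth.Agent.S13269

section lift
variable {k : Type u} [Field k] {K : Type v} [Field K] [Algebra k K] [FiniteDimensional k K]
  {A : Type w} [Ring A] [Algebra k A] (σ : K ≃ₐ[k] K) (b : k)
  (ι : K →ₐ[k] A) (y : A)
  (hy : y ^ Module.finrank k K = algebraMap k A b)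
  (hrel : ∀ x : K, ι x * y = y * ι (σ x))
  (hgen : Algebra.adjoin k (Set.range ι ∪ {y}) = ⊤)
  (hdim : Module.finrank k A = Module.finrank k K ^ 2)

include hy hrel hgen hdim in
/-- The universal property of a cyclic algebra: maps out of it are determined by the images of
`K` and `y` subject to the relations. -/
theorem exists_algHom_of_rel {R : Type w'} [Ring R] [Algebra k R] (j : K →ₐ[k] R) (z : R)
    (hz : z ^ Module.finrank k K = algebraMap k R b)
    (hjrel : ∀ x : K, j x * z = z * j (σ x)) :
    ∃ Θ : A →ₐ[k] R, (∀ c, Θ (ι c) = j c) ∧ Θ y = z := by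
  classical
  have hn : 0 < Module.finrank k K := Module.finrank_pos
  have hpos : 0 < Module.finrank k A := by rw [hdim]; positivity
  have hfin : FiniteDimensional k A := Module.finite_of_finrank_pos hpos
  let ιP : K →ₐ[k] A × R := ι.prod j
  let yP : A × R := (y, z)
  obtain ⟨G, hG⟩ : ∃ G : Subalgebra k (A × R), G = Algebra.adjoin k (Set.range ιP ∪ {yP}) :=
    ⟨_, rfl⟩
  have hιG : ∀ c, ιP c ∈ G := fun c => by
    rw [hG]; exact Algebra.subset_adjoin (Or.inl ⟨c, rfl⟩)
  have hyG : yP ∈ G := by
    rw [hG]; exact Algebra.subset_adjoin (Or.inr rfl)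
  let ιG : K →ₐ[k] G := ιP.codRestrict G hιG
  let yG : G := ⟨yP, hyG⟩
  have hyG' : yG ^ Module.finrank k K = algebraMap k G b := by
    apply Subtype.ext
    apply Prod.ext
    · exact hy
    · exact hz
  have hrelG : ∀ x : K, ιG x * yG = yG * ιG (σ x) := by
    intro x
    apply Subtype.ext
    apply Prod.ext
    · exact hrel x
    · exact hjrel x
  have hgenG : Algebra.adjoin k (Set.range ιG ∪ {yG}) = ⊤ := by
    rw [eq_top_iff]
    rintro ⟨g, hg⟩ -
    have hg' := hg
    rw [hG] at hg'
    induction hg' using Algebra.adjoin_induction with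
    | mem g hgm =>
      rcases hgm with ⟨c, rfl⟩ | hgm
      · exact Algebra.subset_adjoin (Or.inl ⟨c, rfl⟩)
      · rw [Set.mem_singleton_iff] at hgm
        subst hgm
        exact Algebra.subset_adjoin (Or.inr rfl)
    | algebraMap r => exact Subalgebra.algebraMap_mem _ r
    | add a a' ha ha' iha iha' =>
      have h1 := iha (hG ▸ ha)
      have h2 := iha' (hG ▸ ha')
      exact Subalgebra.add_mem _ h1 h2
    | mul a a' ha ha' iha iha' =>
      have h1 := iha (hG ▸ ha)
      have h2 := iha' (hG ▸ ha')
      exact Subalgebra.mul_mem _ h1 h2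
  have hΦ := range_Phi_eq_top σ ιG yG (Module.finrank k K) hn b hyG' hrelG hgenG
  have hΦsurj : Function.Surjective (Phi ιG yG (Module.finrank k K)) :=
    LinearMap.range_eq_top.mp hΦ
  have hGfin : Module.Finite k G := Module.Finite.of_surjective _ hΦsurj
  have hGle : Module.finrank k G ≤ Module.finrank k K ^ 2 := by
    have h1 := LinearMap.finrank_le_finrank_of_surjective hΦsurj
    rw [Module.finrank_pi_fintype] at h1
    simpa [sq] using h1
  let p₁ : G →ₐ[k] A := (AlgHom.fst k A R).comp G.val
  let p₂ : G →ₐ[k] R := (AlgHom.snd k A R).comp G.val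
  have hp₁surj : Function.Surjective p₁ := by
    have : p₁.range = ⊤ := by
      rw [eq_top_iff, ← hgen]
      apply Algebra.adjoin_le
      rintro a (⟨c, rfl⟩ | ha)
      · exact ⟨ιG c, rfl⟩
      · rw [Set.mem_singleton_iff] at ha
        subst ha
        exact ⟨yG, rfl⟩
    intro a
    have ha : a ∈ p₁.range := this ▸ Algebra.mem_top
    exact ha
  have hGge : Module.finrank k A ≤ Module.finrank k G :=
    LinearMap.finrank_le_finrank_of_surjective (f := p₁.toLinearMap) hp₁surj
  have hGeq : Module.finrank k G = Module.finrank k A := by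
    rw [hdim] at hGge ⊢
    exact le_antisymm hGle hGge
  have hp₁inj : Function.Injective p₁ :=
    (LinearMap.injective_iff_surjective_of_finrank_eq_finrank (f := p₁.toLinearMap) hGeq).mpr
      hp₁surj
  let e := AlgEquiv.ofBijective p₁ ⟨hp₁inj, hp₁surj⟩
  refine ⟨p₂.comp e.symm.toAlgHom, ?_, ?_⟩
  · intro c
    have h1 : e.symm (ι c) = ιG c := by
      rw [AlgEquiv.symm_apply_eq]
      rfl
    change p₂ (e.symm (ι c)) = j c
    rw [h1]
    rfl
  · have h1 : e.symm y = yG := by
      rw [AlgEquiv.symm_apply_eq]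
      rfl
    change p₂ (e.symm y) = z
    rw [h1]
    rfl

end lift


section unique
variable {k : Type u} [Field k] {K : Type v} [Field K] [Algebra k K] [FiniteDimensional k K]
  (σ : K ≃ₐ[k] K) (b : kˣ)

/-- two algebras presented as the same cyclic algebra are isomorphic -/
theorem nonempty_algEquiv_of_isCyclicAlg {A : Type w} [Ring A] [Algebra k A]
    {A' : Type w'} [Ring A'] [Algebra k A']
    (hA : CSAGal.IsCyclicAlg k K σ b A) (hA' : CSAGal.IsCyclicAlg k K σ b A') :
    Nonempty (A ≃ₐ[k] A') := by
  obtain ⟨ι, y, hy, hrel, hgen, hn, hdim⟩ := hA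
  obtain ⟨ι', y', hy', hrel', hgen', -, hdim'⟩ := hA'
  obtain ⟨Θ, hΘι, hΘy⟩ := exists_algHom_of_rel σ (b : k) ι y hy hrel hgen hdim ι' y' hy' hrel'
  have hpos : 0 < Module.finrank k A := by rw [hdim]; positivity
  have hfin : FiniteDimensional k A := Module.finite_of_finrank_pos hpos
  have hpos' : 0 < Module.finrank k A' := by rw [hdim']; positivity
  have hfin' : FiniteDimensional k A' := Module.finite_of_finrank_pos hpos'
  have hsurj : Function.Surjective Θ := by
    have : Θ.range = ⊤ := by
      rw [eq_top_iff, ← hgen']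
      apply Algebra.adjoin_le
      rintro a (⟨c, rfl⟩ | ha)
      · exact ⟨ι c, hΘι c⟩
      · rw [Set.mem_singleton_iff] at ha
        subst ha
        exact ⟨y, hΘy⟩
    intro a
    have ha : a ∈ Θ.range := this ▸ Algebra.mem_top
    exact ha
  have hinj : Function.Injective Θ :=
    (LinearMap.injective_iff_surjective_of_finrank_eq_finrank (f := Θ.toLinearMap)
      (by rw [hdim, hdim'])).mpr hsurj
  exact ⟨AlgEquiv.ofBijective Θ ⟨hinj, hsurj⟩⟩

end unique

section generation
variable {k : Type u} [Field k] {K : Type v} [Field K] [Algebra k K] [FiniteDimensional k K]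
  [IsGalois k K] (σ : K ≃ₐ[k] K) (hσ : ∀ τ : K ≃ₐ[k] K, τ ∈ Subgroup.zpowers σ)

include hσ in
/-- relations + the right dimension force generation -/
theorem adjoin_eq_top_of_rel {A : Type w} [Ring A] [Algebra k A] [Nontrivial A]
    (b : kˣ) (ι : K →ₐ[k] A) (y : A)
    (hy : y ^ Module.finrank k K = algebraMap k A (b : k))
    (hrel : ∀ x : K, ι x * y = y * ι (σ x))
    (hdim : Module.finrank k A = Module.finrank k K ^ 2) :
    Algebra.adjoin k (Set.range ι ∪ {y}) = ⊤ := by
  classical
  have hn : 0 < Module.finrank k K := Module.finrank_pos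
  have hpos : 0 < Module.finrank k A := by rw [hdim]; positivity
  have hfin : FiniteDimensional k A := Module.finite_of_finrank_pos hpos
  have hinj : Function.Injective (Phi ι y (Module.finrank k K)) := by
    rw [← LinearMap.ker_eq_bot, LinearMap.ker_eq_bot']
    intro x hx
    by_contra hx0
    have hne : (Finset.univ.filter (fun i => x i ≠ 0)).card ≠ 0 := by
      rw [Finset.card_ne_zero]
      by_contra hempty
      rw [Finset.not_nonempty_iff_eq_empty] at hempty
      apply hx0
      funext i
      by_contra hi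
      have hi' : x i ≠ 0 := hi
      have : i ∈ Finset.univ.filter (fun i => x i ≠ 0) := by simp [hi']
      rw [hempty] at this
      simp at this
    have h1 : (1 : A) ∈ (⊥ : TwoSidedIdeal A) :=
      one_mem_of_Phi_mem σ hσ ι y b hy hrel hn ⊥ _ x rfl hne
        (by rw [hx]; exact (⊥ : TwoSidedIdeal A).zero_mem)
    rw [TwoSidedIdeal.mem_bot] at h1
    exact one_ne_zero h1
  have hsurj : Function.Surjective (Phi ι y (Module.finrank k K)) := by
    have h1 : Module.finrank k (Fin (Module.finrank k K) → K) = Module.finrank k A := by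
      rw [Module.finrank_pi_fintype, hdim]
      simp [sq]
    exact (LinearMap.injective_iff_surjective_of_finrank_eq_finrank h1).mp hinj
  rw [eq_top_iff]
  intro a _
  obtain ⟨x, rfl⟩ := hsurj a
  rw [Phi_apply]
  refine Subalgebra.sum_mem _ fun i _ => ?_
  refine Subalgebra.mul_mem _ (Subalgebra.pow_mem _ ?_ _) ?_
  · exact Algebra.subset_adjoin (Or.inr rfl)
  · exact Algebra.subset_adjoin (Or.inl ⟨_, rfl⟩)

end generation

end Groth.Agent.Lib.helper12.CSA
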