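import Mathlib
import Groth.Agent.Lib.Helper12.Cyclic
import Groth.Agent.Lib.Helper12.CSA10
import Groth.Agent.Lib.Helper12.CSA9

/-!
# The tensor product of two cyclic algebras `(K,σ,b) ⊗ (K,σ,b')` is Brauer equivalent to `(K,σ,bb')`
-/

set_option autoImplicit false
universe u v w w'
open scoped TensorProduct

namespace Groth.Agent.Lib.helper12.CSA

section RMod
variable {k : Type u} [Field k] {K : Type v} [Field K] [Algebra k K]
  {A : Type w} [Ring A] [Algebra k A]

/-- `A` as a `K`-vector space through right multiplication by `ι` -/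
def RMod (_ι : K →ₐ[k] A) : Type w := A

namespace RMod
variable (ι : K →ₐ[k] A)

instance : AddCommGroup (RMod ι) := inferInstanceAs (AddCommGroup A)
instance : Module k (RMod ι) := inferInstanceAs (Module k A)

/-- the identity map `A → RMod ι` -/
def of : A ≃ₗ[k] RMod ι := LinearEquiv.refl k A

noncomputable instance : Module K (RMod ι) :=
  Module.compHom A (ι.toRingHom.toOpposite (fun x y => by
    change ι x * ι y = ι y * ι x
    rw [← map_mul, ← map_mul, mul_comm]))

theorem smul_def (c : K) (x : A) : c • of ι x = of ι (x * ι c) := rfl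

instance : SMulCommClass K k (RMod ι) where
  smul_comm c r x := by
    obtain ⟨x, rfl⟩ := (of ι).surjective x
    rw [smul_def, ← map_smul, smul_def, ← map_smul, smul_mul_assoc]

instance : SMulCommClass k K (RMod ι) := SMulCommClass.symm _ _ _

instance : IsScalarTower k K (RMod ι) where
  smul_assoc r c x := by
    obtain ⟨x, rfl⟩ := (of ι).surjective x
    rw [smul_def, smul_def, ← map_smul, map_smul, mul_smul_comm]

instance [Module.Finite k A] : Module.Finite k (RMod ι) := inferInstanceAs (Module.Finite k A)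

instance [Module.Finite k A] : Module.Finite K (RMod ι) :=
  Module.Finite.of_restrictScalars_finite k K (RMod ι)

theorem finrank_eq : Module.finrank k (RMod ι) = Module.finrank k A := rfl

/-- left multiplication, as a `K`-linear map -/
noncomputable def mulL (a : A) : RMod ι →ₗ[K] RMod ι where
  toFun x := of ι (a * (of ι).symm x)
  map_add' x x' := by simp [mul_add]
  map_smul' c x := by
    obtain ⟨x, rfl⟩ := (of ι).surjective x
    simp only [RingHom.id_apply, smul_def, LinearEquiv.symm_apply_apply, mul_assoc]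

@[simp] theorem mulL_apply (a x : A) : mulL ι a (of ι x) = of ι (a * x) := rfl

theorem mulL_one : mulL ι 1 = LinearMap.id := by
  ext x
  obtain ⟨x, rfl⟩ := (of ι).surjective x
  simp

theorem mulL_mul (a a' : A) : mulL ι (a * a') = mulL ι a ∘ₗ mulL ι a' := by
  ext x
  obtain ⟨x, rfl⟩ := (of ι).surjective x
  simp [mul_assoc]

theorem mulL_add (a a' : A) : mulL ι (a + a') = mulL ι a + mulL ι a' := by
  ext x
  obtain ⟨x, rfl⟩ := (of ι).surjective x
  simp [add_mul]

theorem mulL_smul (r : k) (a : A) : mulL ι (r • a) = r • mulL ι a := by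
  ext x
  obtain ⟨x, rfl⟩ := (of ι).surjective x
  simp

end RMod

end RMod


section bimod
variable {k : Type u} [Field k] {K : Type v} [Field K] [Algebra k K]
  {A : Type w} [Ring A] [Algebra k A] {A' : Type w'} [Ring A'] [Algebra k A']
  (ι : K →ₐ[k] A) (ι' : K →ₐ[k] A')

open RMod

/-- the bimodule `A ⊗_K A'` (balanced over the right `K`-actions) -/
abbrev BV := RMod ι ⊗[K] RMod ι'

/-- left multiplication by `a ∈ A` on `A ⊗_K A'` -/
noncomputable def lA (a : A) : BV ι ι' →ₗ[k] BV ι ι' :=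
  (TensorProduct.map (mulL ι a) (LinearMap.id : RMod ι' →ₗ[K] RMod ι')).restrictScalars k

/-- left multiplication by `a' ∈ A'` on `A ⊗_K A'` -/
noncomputable def lA' (a' : A') : BV ι ι' →ₗ[k] BV ι ι' :=
  (TensorProduct.map (LinearMap.id : RMod ι →ₗ[K] RMod ι) (mulL ι' a')).restrictScalars k

@[simp] theorem lA_tmul (a x : A) (x' : A') :
    lA ι ι' a (of ι x ⊗ₜ[K] of ι' x') = of ι (a * x) ⊗ₜ[K] of ι' x' := rfl

@[simp] theorem lA'_tmul (a' : A') (x : A) (x' : A') :
    lA' ι ι' a' (of ι x ⊗ₜ[K] of ι' x') = of ι x ⊗ₜ[K] of ι' (a' * x') := rfl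

/-- induction principle: `k`-linear endomorphisms of `A ⊗_K A'` agreeing on pure tensors are equal -/
theorem BV_ext {f g : BV ι ι' →ₗ[k] BV ι ι'}
    (h : ∀ (x : A) (x' : A'), f (of ι x ⊗ₜ[K] of ι' x') = g (of ι x ⊗ₜ[K] of ι' x')) : f = g := by
  ext v
  induction v using TensorProduct.induction_on with
  | zero => rw [map_zero, map_zero]
  | tmul x x' => exact h x x'
  | add v w hv hw => rw [map_add, map_add, hv, hw]

/-- the algebra map `A → End_k(A ⊗_K A')` -/
noncomputable def lAHom : A →ₐ[k] Module.End k (BV ι ι') where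
  toFun := lA ι ι'
  map_one' := BV_ext ι ι' fun x x' => by simp
  map_mul' a b := BV_ext ι ι' fun x x' => by simp [mul_assoc]
  map_zero' := BV_ext ι ι' fun x x' => by simp
  map_add' a b := BV_ext ι ι' fun x x' => by simp [add_mul, TensorProduct.add_tmul]
  commutes' r := BV_ext ι ι' fun x x' => by
    simp only [lA_tmul, Module.algebraMap_end_apply]
    rw [Algebra.algebraMap_eq_smul_one, smul_mul_assoc, one_mul, map_smul, TensorProduct.smul_tmul']

/-- the algebra map `A' → End_k(A ⊗_K A')` -/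
noncomputable def lA'Hom : A' →ₐ[k] Module.End k (BV ι ι') where
  toFun := lA' ι ι'
  map_one' := BV_ext ι ι' fun x x' => by simp
  map_mul' a b := BV_ext ι ι' fun x x' => by simp [mul_assoc]
  map_zero' := BV_ext ι ι' fun x x' => by simp
  map_add' a b := BV_ext ι ι' fun x x' => by simp [add_mul, TensorProduct.tmul_add]
  commutes' r := BV_ext ι ι' fun x x' => by
    simp only [lA'_tmul, Module.algebraMap_end_apply]
    rw [Algebra.algebraMap_eq_smul_one, smul_mul_assoc, one_mul, map_smul, TensorProduct.tmul_smul]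

end bimod


section Yop
variable {k : Type u} [Field k] {K : Type v} [Field K] [Algebra k K]
  {A : Type w} [Ring A] [Algebra k A] {A' : Type w'} [Ring A'] [Algebra k A']
  (σ : K ≃ₐ[k] K) (ι : K →ₐ[k] A) (ι' : K →ₐ[k] A') (y : A) (y' : A')
  (hrel : ∀ x : K, ι x * y = y * ι (σ x)) (hrel' : ∀ x : K, ι' x * y' = y' * ι' (σ x))

open RMod

/-- right multiplication by `y ⊗ y'` on `A ⊗_K A'`, as an additive map -/
noncomputable def YAdd : BV ι ι' →+ BV ι ι' :=
  TensorProduct.liftAddHom
    { toFun := fun a =>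
        { toFun := fun a' => of ι ((of ι).symm a * y) ⊗ₜ[K] of ι' ((of ι').symm a' * y')
          map_zero' := by simp
          map_add' := fun a₁ a₂ => by simp [add_mul, TensorProduct.tmul_add] }
      map_zero' := by ext; simp
      map_add' := fun a₁ a₂ => by ext; simp [add_mul, TensorProduct.add_tmul] }
    (by
      intro c a a'
      obtain ⟨a, rfl⟩ := (of ι).surjective a
      obtain ⟨a', rfl⟩ := (of ι').surjective a'
      simp only [AddMonoidHom.coe_mk, ZeroHom.coe_mk, smul_def, LinearEquiv.symm_apply_apply]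
      rw [mul_assoc, hrel, ← mul_assoc, mul_assoc a', hrel', ← mul_assoc, ← smul_def, ← smul_def,
        TensorProduct.smul_tmul])

include hrel hrel' in
@[simp] theorem YAdd_tmul (x : A) (x' : A') :
    YAdd σ ι ι' y y' hrel hrel' (of ι x ⊗ₜ[K] of ι' x') = of ι (x * y) ⊗ₜ[K] of ι' (x' * y') := rfl

/-- right multiplication by `y ⊗ y'` on `A ⊗_K A'`, as a `k`-linear map -/
noncomputable def Yop : BV ι ι' →ₗ[k] BV ι ι' where
  toFun := YAdd σ ι ι' y y' hrel hrel'
  map_add' := map_add _
  map_smul' r v := by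
    simp only [RingHom.id_apply]
    induction v using TensorProduct.induction_on with
    | zero => simp
    | tmul x x' =>
      obtain ⟨x, rfl⟩ := (of ι).surjective x
      obtain ⟨x', rfl⟩ := (of ι').surjective x'
      rw [TensorProduct.smul_tmul', ← map_smul, YAdd_tmul, YAdd_tmul, smul_mul_assoc, map_smul,
        TensorProduct.smul_tmul']
    | add v w hv hw => rw [smul_add, map_add, map_add, hv, hw, smul_add]

include hrel hrel' in
@[simp] theorem Yop_tmul (x : A) (x' : A') :
    Yop σ ι ι' y y' hrel hrel' (of ι x ⊗ₜ[K] of ι' x') = of ι (x * y) ⊗ₜ[K] of ι' (x' * y') := rfl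

end Yop


section identities
variable {k : Type u} [Field k] {K : Type v} [Field K] [Algebra k K]
  {A : Type w} [Ring A] [Algebra k A] {A' : Type w'} [Ring A'] [Algebra k A']
  (σ : K ≃ₐ[k] K) (ι : K →ₐ[k] A) (ι' : K →ₐ[k] A') (y : A) (y' : A')
  (hrel : ∀ x : K, ι x * y = y * ι (σ x)) (hrel' : ∀ x : K, ι' x * y' = y' * ι' (σ x))

open RMod

/-- scalar multiplication by `K` on `A ⊗_K A'` -/
noncomputable def kap : K →ₐ[k] Module.End k (BV ι ι') := Algebra.lsmul k k (BV ι ι')

@[simp] theorem kap_tmul (c : K) (x : A) (x' : A') :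
    kap ι ι' c (of ι x ⊗ₜ[K] of ι' x') = of ι (x * ι c) ⊗ₜ[K] of ι' x' := rfl

theorem lA_comm_lA' (a : A) (a' : A') :
    lAHom ι ι' a * lA'Hom ι ι' a' = lA'Hom ι ι' a' * lAHom ι ι' a :=
  BV_ext ι ι' fun x x' => rfl

theorem kap_comm_lA (c : K) (a : A) : lAHom ι ι' a * kap ι ι' c = kap ι ι' c * lAHom ι ι' a :=
  BV_ext ι ι' fun x x' => by
    change lA ι ι' a (kap ι ι' c (of ι x ⊗ₜ[K] of ι' x')) = kap ι ι' c (lA ι ι' a (of ι x ⊗ₜ[K] of ι' x'))
    simp [mul_assoc]

theorem kap_comm_lA' (c : K) (a' : A') :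
    lA'Hom ι ι' a' * kap ι ι' c = kap ι ι' c * lA'Hom ι ι' a' :=
  BV_ext ι ι' fun x x' => by
    change lA' ι ι' a' (kap ι ι' c (of ι x ⊗ₜ[K] of ι' x')) =
      kap ι ι' c (lA' ι ι' a' (of ι x ⊗ₜ[K] of ι' x'))
    simp

include hrel hrel' in
theorem Y_comm_lA (a : A) :
    lAHom ι ι' a * Yop σ ι ι' y y' hrel hrel' = Yop σ ι ι' y y' hrel hrel' * lAHom ι ι' a :=
  BV_ext ι ι' fun x x' => by
    change lA ι ι' a (Yop σ ι ι' y y' hrel hrel' (of ι x ⊗ₜ[K] of ι' x')) =
      Yop σ ι ι' y y' hrel hrel' (lA ι ι' a (of ι x ⊗ₜ[K] of ι' x'))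
    simp [mul_assoc]

include hrel hrel' in
theorem Y_comm_lA' (a' : A') :
    lA'Hom ι ι' a' * Yop σ ι ι' y y' hrel hrel' = Yop σ ι ι' y y' hrel hrel' * lA'Hom ι ι' a' :=
  BV_ext ι ι' fun x x' => by
    change lA' ι ι' a' (Yop σ ι ι' y y' hrel hrel' (of ι x ⊗ₜ[K] of ι' x')) =
      Yop σ ι ι' y y' hrel hrel' (lA' ι ι' a' (of ι x ⊗ₜ[K] of ι' x'))
    simp [mul_assoc]

include hrel hrel' in
theorem Y_kap (c : K) :
    Yop σ ι ι' y y' hrel hrel' * kap ι ι' c = kap ι ι' (σ c) * Yop σ ι ι' y y' hrel hrel' :=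
  BV_ext ι ι' fun x x' => by
    change Yop σ ι ι' y y' hrel hrel' (kap ι ι' c (of ι x ⊗ₜ[K] of ι' x')) =
      kap ι ι' (σ c) (Yop σ ι ι' y y' hrel hrel' (of ι x ⊗ₜ[K] of ι' x'))
    simp [mul_assoc, hrel]

include hrel hrel' in
theorem Y_pow (i : ℕ) (x : A) (x' : A') :
    (Yop σ ι ι' y y' hrel hrel' ^ i) (of ι x ⊗ₜ[K] of ι' x') =
      of ι (x * y ^ i) ⊗ₜ[K] of ι' (x' * y' ^ i) := by
  induction i generalizing x x' with
  | zero => simp
  | succ i ih =>
    rw [pow_succ, Module.End.mul_apply, Yop_tmul, ih, pow_succ', pow_succ', mul_assoc, mul_assoc]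

include hrel hrel' in
theorem Y_pow_eq (n : ℕ) (b b' : k) (hy : y ^ n = algebraMap k A b) (hy' : y' ^ n = algebraMap k A' b') :
    Yop σ ι ι' y y' hrel hrel' ^ n = algebraMap k (Module.End k (BV ι ι')) (b * b') :=
  BV_ext ι ι' fun x x' => by
    rw [Y_pow, hy, hy', Module.algebraMap_end_apply, ← Algebra.commutes, ← Algebra.commutes,
      Algebra.algebraMap_eq_smul_one, Algebra.algebraMap_eq_smul_one, smul_mul_assoc,
      smul_mul_assoc, one_mul, one_mul, map_smul, map_smul, TensorProduct.smul_tmul',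
      TensorProduct.tmul_smul, TensorProduct.smul_tmul', smul_smul, mul_comm]

end identities


section core
variable (k : Type u) [Field k] (A : Type v) [Ring A] [Algebra k A] [Algebra.IsCentral k A]
    [IsSimpleRing A] [FiniteDimensional k A]

/-- In a split central simple algebra `E`, the centralizer `C` of the image of a central simple
algebra `A` is central simple, `dim E = dim A * dim C` and `A` is Brauer equivalent to `Cᵐᵒᵖ`. -/
theorem brauer_centralizer (E : Type w') [Ring E] [Algebra k E] [Algebra.IsCentral k E]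
    [IsSimpleRing E] [FiniteDimensional k E]
    (α : A →ₐ[k] E) (N : ℕ) (hN : N ≠ 0) (eE : E ≃ₐ[k] Matrix (Fin N) (Fin N) k) :
    Algebra.IsCentral k (Subalgebra.centralizer k (Set.range α)) ∧
    IsSimpleRing (Subalgebra.centralizer k (Set.range α)) ∧
    Module.finrank k E =
      Module.finrank k A * Module.finrank k (Subalgebra.centralizer k (Set.range α)) ∧
    Nonempty (Matrix (Fin (Module.finrank k (Subalgebra.centralizer k (Set.range α))))
        (Fin (Module.finrank k (Subalgebra.centralizer k (Set.range α)))) A ≃ₐ[k]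
      Matrix (Fin N) (Fin N) (Subalgebra.centralizer k (Set.range α))ᵐᵒᵖ) := by
  have hstruct := Groth.Agent.Lib.Helper8.CSA.centralizer_range_structure k E A α
  have hmem0 : ∀ x ∈ Subalgebra.centralizer k (Set.range α), ∀ y, Commute x (α y) :=
    fun x hx y => ((Subalgebra.mem_centralizer_iff k).mp hx (α y) ⟨y, rfl⟩).symm
  obtain ⟨B', hB'⟩ : ∃ B' : Subalgebra k E,
      B' = Subalgebra.centralizer k (Set.range α) := ⟨_, rfl⟩
  rw [← hB'] at hstruct hmem0 ⊢
  obtain ⟨hB's, hdimE⟩ := hstruct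
  -- B' ⊗ A ≃ E
  let Ψ : B' ⊗[k] A →ₐ[k] E :=
    Algebra.TensorProduct.lift B'.val α (fun x y => hmem0 x.1 x.2 y)
  have hsBA : IsSimpleRing (B' ⊗[k] A) := Groth.Agent.S0190.main k B' A
  have hΨinj : Function.Injective Ψ := RingHom.injective Ψ.toRingHom
  have hΨdim : Module.finrank k (B' ⊗[k] A) = Module.finrank k E := by
    rw [Module.finrank_tensorProduct, hdimE, mul_comm]
  have hΨsurj : Function.Surjective Ψ :=
    (LinearMap.injective_iff_surjective_of_finrank_eq_finrank (f := Ψ.toLinearMap) hΨdim).mp hΨinj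
  let Ψe := AlgEquiv.ofBijective Ψ ⟨hΨinj, hΨsurj⟩
  have hcBA : Algebra.IsCentral k (B' ⊗[k] A) := isCentral_of_algEquiv' Ψe
  have hcB : Algebra.IsCentral k B' := Algebra.IsCentral.left_of_tensor_of_field k B' A
  refine ⟨hcB, hB's, hdimE, ?_⟩
  obtain ⟨t2⟩ := nonempty_tensor_op_algEquiv_matrix k B'
  exact ⟨(matrixEquivTensor (Fin (Module.finrank k B')) k A).trans
    ((Algebra.TensorProduct.congr (AlgEquiv.refl (R := k) (A₁ := A)) t2.symm).trans
      ((Algebra.TensorProduct.assoc k k k A B' B'ᵐᵒᵖ).symm.trans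
        ((Algebra.TensorProduct.congr
            ((Algebra.TensorProduct.comm k A B').trans (Ψe.trans eE))
            (AlgEquiv.refl (R := k) (A₁ := B'ᵐᵒᵖ))).trans
          ((Algebra.TensorProduct.comm k _ _).trans
            (matrixEquivTensor (Fin N) k B'ᵐᵒᵖ).symm))))⟩

end core


section main
variable {k : Type u} [Field k] {K : Type v} [Field K] [Algebra k K] [FiniteDimensional k K]
  [IsGalois k K] (σ : K ≃ₐ[k] K) (hσ : ∀ τ : K ≃ₐ[k] K, τ ∈ Subgroup.zpowers σ)

open RMod

include hσ in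
/-- The tensor product of the cyclic algebras `(K,σ,b)` and `(K,σ,b')` is Brauer equivalent to a
cyclic algebra `(K,σ,bb')` (which is constructed here). -/
theorem cyclic_tensor (b b' : kˣ) {A A' : Type w} [Ring A] [Algebra k A] [Ring A'] [Algebra k A']
    (hA : CSAGal.IsCyclicAlg k K σ b A) (hA' : CSAGal.IsCyclicAlg k K σ b' A') :
    ∃ (B : Type w) (_ : Ring B) (_ : Algebra k B), CSAGal.IsCyclicAlg k K σ (b * b') B ∧
      ∃ n m : ℕ, n ≠ 0 ∧ m ≠ 0 ∧
        Nonempty (Matrix (Fin n) (Fin n) (A ⊗[k] A') ≃ₐ[k] Matrix (Fin m) (Fin m) B) := by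
  classical
  obtain ⟨hAc, hAs, hAsp⟩ := Groth.Agent.S13269.main k K σ hσ b A hA
  obtain ⟨hA'c, hA's, hA'sp⟩ := Groth.Agent.S13269.main k K σ hσ b' A' hA'
  obtain ⟨ι, y, hy, hrel, hgen, hn, hdim⟩ := hA
  obtain ⟨ι', y', hy', hrel', hgen', -, hdim'⟩ := hA'
  have hpos : 0 < Module.finrank k A := by rw [hdim]; positivity
  have hfin : FiniteDimensional k A := Module.finite_of_finrank_pos hpos
  have hpos' : 0 < Module.finrank k A' := by rw [hdim']; positivity
  have hfin' : FiniteDimensional k A' := Module.finite_of_finrank_pos hpos'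
  obtain ⟨h1c, h1s, h1f⟩ := csa_of_splits k K (A ⊗[k] A') (splits_tensor k K hAsp hA'sp)
  -- dimensions
  have hVK : Module.finrank K (RMod ι) = Module.finrank k K := by
    have h := Module.finrank_mul_finrank k K (RMod ι)
    rw [RMod.finrank_eq, hdim, sq] at h
    exact Nat.eq_of_mul_eq_mul_left hn h
  have hV'K : Module.finrank K (RMod ι') = Module.finrank k K := by
    have h := Module.finrank_mul_finrank k K (RMod ι')
    rw [RMod.finrank_eq, hdim', sq] at h
    exact Nat.eq_of_mul_eq_mul_left hn h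
  have hVfin : Module.Finite k (BV ι ι') := Module.Finite.trans K _
  have hVdim : Module.finrank k (BV ι ι') = Module.finrank k K ^ 3 := by
    rw [← Module.finrank_mul_finrank k K (BV ι ι'), Module.finrank_tensorProduct, hVK, hV'K]
    ring
  have hN : Module.finrank k (BV ι ι') ≠ 0 := by rw [hVdim]; positivity
  have : NeZero (Module.finrank k (BV ι ι')) := ⟨hN⟩
  let eE : Module.End k (BV ι ι') ≃ₐ[k] Matrix (Fin (Module.finrank k (BV ι ι')))
      (Fin (Module.finrank k (BV ι ι'))) k := algEquivMatrix (Module.finBasis k (BV ι ι'))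
  have hEc : Algebra.IsCentral k (Module.End k (BV ι ι')) := isCentral_of_algEquiv' eE
  have hEs : IsSimpleRing (Module.End k (BV ι ι')) :=
    IsSimpleRing.of_ringEquiv eE.symm.toRingEquiv inferInstance
  let α₁ : A ⊗[k] A' →ₐ[k] Module.End k (BV ι ι') :=
    Algebra.TensorProduct.lift (lAHom ι ι') (lA'Hom ι ι') (fun a a' => lA_comm_lA' ι ι' a a')
  obtain ⟨hCc, hCs, hCdim, ⟨Ebr⟩⟩ := brauer_centralizer k (A ⊗[k] A') (Module.End k (BV ι ι'))
    α₁ _ hN eE
  have hcent : ∀ z : Module.End k (BV ι ι'), (∀ a, lAHom ι ι' a * z = z * lAHom ι ι' a) →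
      (∀ a', lA'Hom ι ι' a' * z = z * lA'Hom ι ι' a') →
      z ∈ Subalgebra.centralizer k (Set.range α₁) := by
    intro z h1 h2
    rw [Subalgebra.mem_centralizer_iff]
    rintro _ ⟨t, rfl⟩
    induction t using TensorProduct.induction_on with
    | zero => simp
    | tmul a a' =>
      change (lAHom ι ι' a * lA'Hom ι ι' a') * z = z * (lAHom ι ι' a * lA'Hom ι ι' a')
      rw [mul_assoc, h2, ← mul_assoc, h1, mul_assoc]
    | add t t' ht ht' => rw [map_add, add_mul, mul_add, ht, ht']
  obtain ⟨C, hC⟩ : ∃ C : Subalgebra k (Module.End k (BV ι ι')),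
      C = Subalgebra.centralizer k (Set.range α₁) := ⟨_, rfl⟩
  rw [← hC] at hCc hCs hCdim Ebr hcent
  have hκC : ∀ c, kap ι ι' c ∈ C := fun c =>
    hcent _ (fun a => kap_comm_lA ι ι' c a) (fun a' => kap_comm_lA' ι ι' c a')
  have hYC : Yop σ ι ι' y y' hrel hrel' ∈ C :=
    hcent _ (fun a => Y_comm_lA σ ι ι' y y' hrel hrel' a)
      (fun a' => Y_comm_lA' σ ι ι' y y' hrel hrel' a')
  let ιC : K →ₐ[k] C := (kap ι ι').codRestrict C hκC
  let YC : C := ⟨Yop σ ι ι' y y' hrel hrel', hYC⟩
  let ιB : K →ₐ[k] Cᵐᵒᵖ := AlgHom.toOpposite ιC (fun c c' => by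
    change ιC c * ιC c' = ιC c' * ιC c
    rw [← map_mul, ← map_mul, mul_comm])
  have hyB : (MulOpposite.op YC) ^ Module.finrank k K =
      algebraMap k Cᵐᵒᵖ ((b * b' : kˣ) : k) := by
    rw [← MulOpposite.op_pow, MulOpposite.algebraMap_apply]
    congr 1
    apply Subtype.ext
    rw [Units.val_mul]
    exact Y_pow_eq σ ι ι' y y' hrel hrel' _ (b : k) (b' : k) hy hy'
  have hrelB : ∀ x : K, ιB x * MulOpposite.op YC = MulOpposite.op YC * ιB (σ x) := by
    intro x
    change MulOpposite.op (ιC x) * MulOpposite.op YC = MulOpposite.op YC * MulOpposite.op (ιC (σ x))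
    rw [← MulOpposite.op_mul, ← MulOpposite.op_mul]
    congr 1
    apply Subtype.ext
    exact Y_kap σ ι ι' y y' hrel hrel' x
  have hdimE : Module.finrank k (Module.End k (BV ι ι')) = Module.finrank k K ^ 6 := by
    rw [eE.toLinearEquiv.finrank_eq, Module.finrank_matrix]
    simp only [Fintype.card_fin, Module.finrank_self, mul_one]
    rw [hVdim]
    ring
  have hdimC : Module.finrank k C = Module.finrank k K ^ 2 := by
    rw [hdimE, Module.finrank_tensorProduct, hdim, hdim'] at hCdim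
    have hpos4 : 0 < Module.finrank k K ^ 2 * Module.finrank k K ^ 2 := by positivity
    have h : Module.finrank k K ^ 2 * Module.finrank k K ^ 2 * Module.finrank k K ^ 2 =
        Module.finrank k K ^ 2 * Module.finrank k K ^ 2 * Module.finrank k C := by
      rw [← hCdim]; ring
    exact (Nat.eq_of_mul_eq_mul_left hpos4 h).symm
  have hdimB : Module.finrank k Cᵐᵒᵖ = Module.finrank k K ^ 2 := by
    rw [← (MulOpposite.opLinearEquiv k : C ≃ₗ[k] Cᵐᵒᵖ).finrank_eq, hdimC]
  have hgenB := adjoin_eq_top_of_rel σ hσ (b * b') ιB (MulOpposite.op YC) hyB hrelB hdimB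
  refine ⟨Cᵐᵒᵖ, inferInstance, inferInstance,
    ⟨ιB, MulOpposite.op YC, hyB, hrelB, hgenB, hn, hdimB⟩,
    Module.finrank k C, Module.finrank k (BV ι ι'), ?_, hN, ⟨Ebr⟩⟩
  rw [hdimC]
  positivity

end main

end Groth.Agent.Lib.helper12.CSA
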