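import Mathlib
import Groth.Agent.Lib.Helper12.CycTensor

/-!
# A cyclic algebra `(K,σ,b)` is split iff `b` is a norm; periods of cyclic algebras
-/

set_option autoImplicit false
universe u v w w'
open scoped TensorProduct

namespace Groth.Agent.Lib.helper12.CSA

open Groth.Agent.S13269

section norm
variable {k : Type u} [Field k] {K : Type v} [Field K] [Algebra k K] [FiniteDimensional k K]
  [IsGalois k K] (σ : K ≃ₐ[k] K) (hσ : ∀ τ : K ≃ₐ[k] K, τ ∈ Subgroup.zpowers σ)

include hσ in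
theorem orderOf_eq_finrank : orderOf σ = Module.finrank k K := by
  rw [orderOf_eq_card_of_forall_mem_zpowers hσ, IsGalois.card_aut_eq_finrank]

include hσ in
/-- the norm is the product over the powers of a generator of the Galois group -/
theorem norm_eq_prod_pow (x : K) :
    algebraMap k K (Algebra.norm k x) = ∏ l ∈ Finset.range (Module.finrank k K), (σ ^ l) x := by
  classical
  rw [Algebra.norm_eq_prod_automorphisms]
  have hord := orderOf_eq_finrank σ hσ
  have hinj : Function.Injective (fun l : Fin (Module.finrank k K) => σ ^ (l : ℕ)) := by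
    intro l l' h
    apply Fin.ext
    exact pow_injOn_Iio_orderOf (x := σ) (by rw [hord]; exact l.2) (by rw [hord]; exact l'.2) h
  have hbij : Function.Bijective (fun l : Fin (Module.finrank k K) => σ ^ (l : ℕ)) := by
    rw [Fintype.bijective_iff_injective_and_card]
    refine ⟨hinj, ?_⟩
    rw [Fintype.card_fin, ← Nat.card_eq_fintype_card, IsGalois.card_aut_eq_finrank]
  rw [← Fin.prod_univ_eq_prod_range (fun l => (σ ^ l) x) (Module.finrank k K)]
  exact (Fintype.prod_equiv (Equiv.ofBijective _ hbij) (fun l => (σ ^ (l : ℕ)) x)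
    (fun τ => τ x) (fun l => rfl)).symm

include hσ in
/-- the same with the inverse generator -/
theorem norm_eq_prod_pow_symm (x : K) :
    algebraMap k K (Algebra.norm k x) =
      ∏ l ∈ Finset.range (Module.finrank k K), (σ.symm ^ l) x := by
  have hσ' : ∀ τ : K ≃ₐ[k] K, τ ∈ Subgroup.zpowers σ.symm := by
    intro τ
    have h : σ.symm = σ⁻¹ := rfl
    rw [h, Subgroup.zpowers_inv]
    exact hσ τ
  exact norm_eq_prod_pow σ.symm hσ' x

end norm


section splitOfNorm
variable {k : Type u} [Field k] {K : Type v} [Field K] [Algebra k K] [FiniteDimensional k K]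
  [IsGalois k K] (σ : K ≃ₐ[k] K) (hσ : ∀ τ : K ≃ₐ[k] K, τ ∈ Subgroup.zpowers σ)

theorem mul_iota_pow {A : Type w} [Ring A] [Algebra k A] (ι : K →ₐ[k] A) (y : A)
    (hrel : ∀ x : K, ι x * y = y * ι (σ x)) (u : K) (i : ℕ) :
    (y * ι u) ^ i = y ^ i * ι (∏ l ∈ Finset.range i, (σ ^ l) u) := by
  induction i with
  | zero => simp
  | succ i ih =>
    rw [pow_succ', ih, mul_assoc, ← mul_assoc (ι u), rel_pow σ ι y hrel, mul_assoc, ← map_mul,
      ← mul_assoc, ← pow_succ', Finset.prod_range_succ, mul_comm ((σ ^ i) u)]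

include hσ in
/-- the endomorphism algebra of `K` is presented as the cyclic algebra `(K,σ,1)` -/
theorem isCyclicAlg_end : CSAGal.IsCyclicAlg k K σ 1 (Module.End k K) := by
  have hn : 0 < Module.finrank k K := Module.finrank_pos
  have hord := orderOf_eq_finrank σ hσ
  have hpow : ∀ (i : ℕ) (v : K), ((σ.symm.toLinearMap : Module.End k K) ^ i) v = (σ.symm ^ i) v := by
    intro i
    induction i with
    | zero => intro v; simp
    | succ i ih =>
      intro v
      rw [pow_succ, Module.End.mul_apply, ih, pow_succ, AlgEquiv.mul_apply]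
      rfl
  have hy₀ : (σ.symm.toLinearMap : Module.End k K) ^ Module.finrank k K =
      algebraMap k (Module.End k K) ((1 : kˣ) : k) := by
    ext v
    rw [hpow]
    have h1 : σ.symm ^ Module.finrank k K = 1 := by
      have h : σ.symm = σ⁻¹ := rfl
      rw [h, inv_pow, ← hord, pow_orderOf_eq_one, inv_one]
    rw [h1]
    simp
  have hrel₀ : ∀ x : K, Algebra.lmul k K x * (σ.symm.toLinearMap : Module.End k K) =
      (σ.symm.toLinearMap : Module.End k K) * Algebra.lmul k K (σ x) := by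
    intro x
    ext v
    simp
  have hdim₀ : Module.finrank k (Module.End k K) = Module.finrank k K ^ 2 := by
    rw [Module.finrank_linearMap, sq]
  exact ⟨Algebra.lmul k K, σ.symm.toLinearMap, hy₀, hrel₀,
    adjoin_eq_top_of_rel σ hσ 1 _ _ hy₀ hrel₀ hdim₀, hn, hdim₀⟩

include hσ in
/-- if `b` is a norm, the cyclic algebra `(K,σ,b)` is split -/
theorem splits_of_norm (b : kˣ) {A : Type w} [Ring A] [Algebra k A]
    (hA : CSAGal.IsCyclicAlg k K σ b A) (x : K) (hx : Algebra.norm k x = (b : k)) :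
    Curves.Splits k A k := by
  obtain ⟨ι, y, hy, hrel, hgen, hn, hdim⟩ := hA
  have hpos : 0 < Module.finrank k A := by rw [hdim]; positivity
  have hnt : Nontrivial A := Module.nontrivial_of_finrank_pos (R := k) hpos
  have hx0 : x ≠ 0 := by
    rintro rfl
    rw [Algebra.norm_zero] at hx
    exact b.ne_zero hx.symm
  have hinv : (b : k) * Algebra.norm k x⁻¹ = 1 := by
    rw [← hx, ← map_mul, mul_inv_cancel₀ hx0, map_one]
  have hy₁ : (y * ι x⁻¹) ^ Module.finrank k K = algebraMap k A ((1 : kˣ) : k) := by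
    rw [mul_iota_pow σ ι y hrel, ← norm_eq_prod_pow σ hσ, hy, AlgHom.commutes, ← map_mul, hinv]
    simp
  have hrel₁ : ∀ c : K, ι c * (y * ι x⁻¹) = (y * ι x⁻¹) * ι (σ c) := by
    intro c
    rw [← mul_assoc, hrel, mul_assoc, mul_assoc, ← map_mul, ← map_mul, mul_comm]
  have hA₁ : CSAGal.IsCyclicAlg k K σ 1 A :=
    ⟨ι, y * ι x⁻¹, hy₁, hrel₁, adjoin_eq_top_of_rel σ hσ 1 _ _ hy₁ hrel₁ hdim, hn, hdim⟩
  obtain ⟨t⟩ := nonempty_algEquiv_of_isCyclicAlg σ 1 hA₁ (isCyclicAlg_end σ hσ)
  have : NeZero (Module.finrank k K) := ⟨hn.ne'⟩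
  exact ⟨Module.finrank k K, hn.ne', ⟨(Algebra.TensorProduct.lid k A).trans
    (t.trans (algEquivMatrix (Module.finBasis k K)))⟩⟩

end splitOfNorm


section normOfSplit
variable {k : Type u} [Field k] {K : Type v} [Field K] [Algebra k K] [FiniteDimensional k K]
  [IsGalois k K] (σ : K ≃ₐ[k] K) (hσ : ∀ τ : K ≃ₐ[k] K, τ ∈ Subgroup.zpowers σ)

include hσ in
/-- if the cyclic algebra `(K,σ,b)` is split, then `b` is a norm -/
theorem norm_of_splits (b : kˣ) {A : Type w} [Ring A] [Algebra k A]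
    (hA : CSAGal.IsCyclicAlg k K σ b A) (hs : Curves.Splits k A k) :
    ∃ x : K, Algebra.norm k x = (b : k) := by
  classical
  obtain ⟨ι, y, hy, hrel, hgen, hn, hdim⟩ := hA
  obtain ⟨n, hn0, ⟨e⟩⟩ := hs
  let e' : A ≃ₐ[k] Matrix (Fin n) (Fin n) k := (Algebra.TensorProduct.lid k A).symm.trans e
  have hnm : n = Module.finrank k K := by
    have h := e'.toLinearEquiv.finrank_eq
    rw [hdim, Module.finrank_matrix] at h
    simp only [Fintype.card_fin, Module.finrank_self, mul_one] at h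
    rw [sq] at h
    exact (Nat.mul_self_inj.mp h).symm
  let ρ : A →ₐ[k] Module.End k (Fin n → k) :=
    (Matrix.toLinAlgEquiv' : Matrix (Fin n) (Fin n) k ≃ₐ[k] Module.End k (Fin n → k)).toAlgHom.comp
      e'.toAlgHom
  let _ : Module K (Fin n → k) := Module.compHom (Fin n → k) (ρ.comp ι).toRingHom
  have hsm : ∀ (c : K) (w : Fin n → k), c • w = ρ (ι c) w := fun c w => rfl
  have : IsScalarTower k K (Fin n → k) := ⟨fun r c w => by
    rw [hsm, hsm, map_smul, map_smul, LinearMap.smul_apply]⟩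
  have hfr : Module.finrank K (Fin n → k) = 1 := by
    have h := Module.finrank_mul_finrank k K (Fin n → k)
    rw [Module.finrank_pi_fintype] at h
    simp only [Module.finrank_self, Finset.sum_const, Finset.card_univ, Fintype.card_fin,
      smul_eq_mul, mul_one] at h
    have h' : Module.finrank k K * Module.finrank K (Fin n → k) = Module.finrank k K * 1 := by
      rw [h, mul_one, hnm]
    exact Nat.eq_of_mul_eq_mul_left hn h'
  have : Nonempty (Fin n) := ⟨⟨0, Nat.pos_of_ne_zero hn0⟩⟩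
  obtain ⟨w₀, hw₀⟩ := exists_ne (0 : Fin n → k)
  have hspan := (finrank_eq_one_iff_of_nonzero' w₀ hw₀).mp hfr
  have hY : ∀ (c : K) (w : Fin n → k), ρ y (c • w) = σ.symm c • ρ y w := by
    intro c w
    rw [hsm, hsm, ← Module.End.mul_apply, ← Module.End.mul_apply, ← map_mul, ← map_mul]
    congr 2
    have := hrel (σ.symm c)
    rw [AlgEquiv.apply_symm_apply] at this
    exact this.symm
  obtain ⟨x₀, hx₀⟩ := hspan (ρ y w₀)
  have hYpow : ∀ i : ℕ, ((ρ y) ^ i) w₀ = (∏ l ∈ Finset.range i, (σ.symm ^ l) x₀) • w₀ := by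
    intro i
    induction i with
    | zero => simp
    | succ i ih =>
      rw [pow_succ', Module.End.mul_apply, ih, hY, ← hx₀, smul_smul, Finset.prod_range_succ',
        map_prod]
      congr 2
      · refine Finset.prod_congr rfl fun l _ => ?_
        rw [pow_succ', AlgEquiv.mul_apply]
  have hm := hYpow (Module.finrank k K)
  rw [← map_pow, hy, AlgHom.commutes, ← norm_eq_prod_pow_symm σ hσ, Module.algebraMap_end_apply,
    ← algebraMap_smul K (b : k) w₀] at hm
  have h0 : (algebraMap k K (b : k) - algebraMap k K (Algebra.norm k x₀)) • w₀ = 0 := by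
    rw [sub_smul, hm, sub_self]
  rcases smul_eq_zero.mp h0 with h | h
  · refine ⟨x₀, ?_⟩
    exact (algebraMap k K).injective (sub_eq_zero.mp h).symm
  · exact absurd h hw₀

end normOfSplit


section BrEq
variable (k : Type u) [Field k]

/-- Brauer equivalence of `k`-algebras: matrix algebras of positive size over them are isomorphic -/
def BrEq (X : Type v) [Ring X] [Algebra k X] (Y : Type w) [Ring Y] [Algebra k Y] : Prop :=
  ∃ n m : ℕ, n ≠ 0 ∧ m ≠ 0 ∧ Nonempty (Matrix (Fin n) (Fin n) X ≃ₐ[k] Matrix (Fin m) (Fin m) Y)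

variable {k}
variable {X : Type v} [Ring X] [Algebra k X] {Y : Type w} [Ring Y] [Algebra k Y]
  {Z : Type w'} [Ring Z] [Algebra k Z]

theorem BrEq.of_algEquiv (e : X ≃ₐ[k] Y) : BrEq k X Y :=
  ⟨1, 1, one_ne_zero, one_ne_zero, ⟨AlgEquiv.mapMatrix e⟩⟩

theorem BrEq.symm (h : BrEq k X Y) : BrEq k Y X := by
  obtain ⟨n, m, hn, hm, ⟨e⟩⟩ := h
  exact ⟨m, n, hm, hn, ⟨e.symm⟩⟩

theorem BrEq.trans (h₁ : BrEq k X Y) (h₂ : BrEq k Y Z) : BrEq k X Z := by
  obtain ⟨n, m, hn, hm, ⟨e₁⟩⟩ := h₁
  obtain ⟨p, q, hp, hq, ⟨e₂⟩⟩ := h₂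
  refine ⟨p * n, m * q, Nat.mul_ne_zero hp hn, Nat.mul_ne_zero hm hq, ⟨?_⟩⟩
  exact (matrixMatrixAlgEquiv k X p n).symm.trans ((AlgEquiv.mapMatrix e₁).trans
    ((matrixMatrixAlgEquiv k Y p m).trans
      ((Matrix.reindexAlgEquiv k Y (finCongr (mul_comm p m))).trans
        ((matrixMatrixAlgEquiv k Y m p).symm.trans ((AlgEquiv.mapMatrix e₂).trans
          (matrixMatrixAlgEquiv k Z m q))))))

/-- `A ⊗ M_n(X) ≃ M_n(A ⊗ X)` -/
noncomputable def tensorMatrix (A : Type w') [Ring A] [Algebra k A] (n : ℕ) :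
    A ⊗[k] Matrix (Fin n) (Fin n) X ≃ₐ[k] Matrix (Fin n) (Fin n) (A ⊗[k] X) :=
  (Algebra.TensorProduct.congr (AlgEquiv.refl (R := k) (A₁ := A))
      (matrixEquivTensor (Fin n) k X)).trans
    ((Algebra.TensorProduct.assoc k k k A X (Matrix (Fin n) (Fin n) k)).symm.trans
      (matrixEquivTensor (Fin n) k (A ⊗[k] X)).symm)

theorem BrEq.tensor_left (A : Type w') [Ring A] [Algebra k A] (h : BrEq k X Y) :
    BrEq k (A ⊗[k] X) (A ⊗[k] Y) := by
  obtain ⟨n, m, hn, hm, ⟨e⟩⟩ := h
  exact ⟨n, m, hn, hm, ⟨(tensorMatrix (k := k) (X := X) A n).symm.trans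
    ((Algebra.TensorProduct.congr (AlgEquiv.refl (R := k) (A₁ := A)) e).trans
      (tensorMatrix (k := k) (X := Y) A m))⟩⟩

theorem BrEq.splits_iff [Algebra.IsCentral k X] [IsSimpleRing X] [FiniteDimensional k X]
    [Algebra.IsCentral k Y] [IsSimpleRing Y] [FiniteDimensional k Y] (h : BrEq k X Y)
    (K : Type w') [Field K] [Algebra k K] : Curves.Splits k X K ↔ Curves.Splits k Y K := by
  obtain ⟨n, m, hn, hm, ⟨e⟩⟩ := h
  exact ⟨splits_of_matrix_algEquiv' k K Y X m n hm hn e.symm,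
    splits_of_matrix_algEquiv' k K X Y n m hn hm e⟩

end BrEq


section tpowCyclic
variable {k : Type u} [Field k] {K : Type v} [Field K] [Algebra k K] [FiniteDimensional k K]
  [IsGalois k K] (σ : K ≃ₐ[k] K) (hσ : ∀ τ : K ≃ₐ[k] K, τ ∈ Subgroup.zpowers σ)

include hσ in
/-- the `e`-th tensor power of `(K,σ,b)` is Brauer equivalent to a cyclic algebra `(K,σ,b^e)` -/
theorem tpow_brEq_cyclic (b : kˣ) {A : Type w} [Ring A] [Algebra k A]
    (hA : CSAGal.IsCyclicAlg k K σ b A) (e : ℕ) (he : 0 < e) :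
    ∃ (B : Type w) (_ : Ring B) (_ : Algebra k B), CSAGal.IsCyclicAlg k K σ (b ^ e) B ∧
      BrEq k (CSAGal.tpow k A e) B := by
  induction e, he using Nat.le_induction with
  | base =>
    refine ⟨A, inferInstance, inferInstance, by rwa [pow_one], BrEq.of_algEquiv ?_⟩
    exact (tpowSucc k A 0).symm.trans
      ((Algebra.TensorProduct.congr AlgEquiv.refl (tpowZero k A)).trans
        (Algebra.TensorProduct.rid k k A))
  | succ e he ih =>
    obtain ⟨B, _, _, hB, hBr⟩ := ih
    obtain ⟨B', _, _, hB', n, m, hn, hm, hE⟩ := cyclic_tensor σ hσ b (b ^ e) hA hB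
    refine ⟨B', inferInstance, inferInstance, by rwa [pow_succ'], ?_⟩
    have h1 : BrEq k (CSAGal.tpow k A (e + 1)) (A ⊗[k] CSAGal.tpow k A e) :=
      BrEq.of_algEquiv (tpowSucc k A e).symm
    have h2 : BrEq k (A ⊗[k] CSAGal.tpow k A e) (A ⊗[k] B) := BrEq.tensor_left A hBr
    exact (h1.trans h2).trans ⟨n, m, hn, hm, hE⟩

include hσ in
/-- a tensor power of `(K,σ,b)` is split iff the corresponding power of `b` is a norm -/
theorem splits_tpow_cyclic_iff (b : kˣ) {A : Type w} [Ring A] [Algebra k A]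
    (hA : CSAGal.IsCyclicAlg k K σ b A) (e : ℕ) (he : 0 < e) :
    Curves.Splits k (CSAGal.tpow k A e) k ↔ ∃ x : K, Algebra.norm k x = (b : k) ^ e := by
  obtain ⟨hAc, hAs, hAsp⟩ := Groth.Agent.S13269.main k K σ hσ b A hA
  have hpos : 0 < Module.finrank k A := by
    obtain ⟨ι, y, hy, hrel, hgen, hn, hdim⟩ := hA
    rw [hdim]; positivity
  have hfin : FiniteDimensional k A := Module.finite_of_finrank_pos hpos
  obtain ⟨B, _, _, hB, hBr⟩ := tpow_brEq_cyclic σ hσ b hA e he
  obtain ⟨hBc, hBs, hBsp⟩ := Groth.Agent.S13269.main k K σ hσ (b ^ e) B hB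
  have hposB : 0 < Module.finrank k B := by
    obtain ⟨ι, y, hy, hrel, hgen, hn, hdim⟩ := hB
    rw [hdim]; positivity
  have hfinB : FiniteDimensional k B := Module.finite_of_finrank_pos hposB
  obtain ⟨h1, h2, h3⟩ := csa_tpow k A e
  rw [hBr.splits_iff k, ← Units.val_pow_eq_pow_val]
  exact ⟨norm_of_splits σ hσ (b ^ e) hB, fun ⟨x, hx⟩ => splits_of_norm σ hσ (b ^ e) hB x hx⟩

end tpowCyclic

end Groth.Agent.Lib.helper12.CSA
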