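import Mathlib

/-!
# Jacobi's formula for derivations, and matrices all of whose `(r+1)`-minors vanish
-/

set_option autoImplicit false

namespace Groth.Agent.Lib.helper12.DetSmooth

section Jacobi

variable {k A Ω : Type*} [CommRing k] [CommRing A] [Algebra k A] [AddCommGroup Ω] [Module A Ω]
  [Module k Ω] [IsScalarTower k A Ω]

theorem derivation_prod (D : Derivation k A Ω) {ι : Type*} [DecidableEq ι] (s : Finset ι)
    (a : ι → A) :
    D (∏ i ∈ s, a i) = ∑ j ∈ s, (∏ i ∈ s.erase j, a i) • D (a j) := by
  induction s using Finset.induction_on with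
  | empty => simp
  | insert x s hx ih =>
    rw [Finset.prod_insert hx, D.leibniz, ih, Finset.sum_insert hx, Finset.erase_insert hx]
    rw [add_comm, Finset.smul_sum]
    congr 1
    apply Finset.sum_congr rfl
    intro j hj
    have hne : x ≠ j := by rintro rfl; exact hx hj
    have : (insert x s).erase j = insert x (s.erase j) := Finset.erase_insert_of_ne hne
    rw [this, Finset.prod_insert (by simp [hx]), smul_smul]

/-- **Jacobi's formula** for a derivation applied to a determinant. -/
theorem derivation_det (D : Derivation k A Ω) {n : Type*} [Fintype n] [DecidableEq n]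
    (N : Matrix n n A) :
    D N.det = ∑ i, ∑ j, N.adjugate j i • D (N i j) := by
  classical
  have hupd : ∀ (σ : Equiv.Perm n) (i j : n),
      ∏ l, (N.updateRow i (Pi.single j 1)) (σ l) l =
        if σ j = i then ∏ l ∈ Finset.univ.erase j, N (σ l) l else 0 := by
    intro σ i j
    split_ifs with h
    · rw [← Finset.mul_prod_erase Finset.univ _ (Finset.mem_univ j)]
      have h1 : (N.updateRow i (Pi.single j 1)) (σ j) j = 1 := by
        rw [h, Matrix.updateRow_self, Pi.single_eq_same]
      rw [h1, one_mul]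
      apply Finset.prod_congr rfl
      intro l hl
      have hlj : l ≠ j := Finset.ne_of_mem_erase hl
      have : σ l ≠ i := by
        rw [← h]
        exact fun hh => hlj (σ.injective hh)
      rw [Matrix.updateRow_ne this]
    · apply Finset.prod_eq_zero (Finset.mem_univ (σ.symm i))
      rw [Equiv.apply_symm_apply, Matrix.updateRow_self]
      apply Pi.single_eq_of_ne
      intro hh
      apply h
      rw [← hh, Equiv.apply_symm_apply]
  have hL : D N.det = ∑ σ : Equiv.Perm n, ∑ j,
      (Equiv.Perm.sign σ : ℤ) • ((∏ l ∈ Finset.univ.erase j, N (σ l) l) • D (N (σ j) j)) := by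
    rw [Matrix.det_apply, map_sum]
    apply Finset.sum_congr rfl
    intro σ _
    rw [Units.smul_def, map_zsmul, derivation_prod, Finset.smul_sum]
  have hR : ∑ i, ∑ j, N.adjugate j i • D (N i j) = ∑ σ : Equiv.Perm n, ∑ j,
      (Equiv.Perm.sign σ : ℤ) • ((∏ l ∈ Finset.univ.erase j, N (σ l) l) • D (N (σ j) j)) := by
    have h1 : ∀ i j, N.adjugate j i • D (N i j) = ∑ σ : Equiv.Perm n,
        (Equiv.Perm.sign σ : ℤ) •
          ((if σ j = i then ∏ l ∈ Finset.univ.erase j, N (σ l) l else 0) • D (N i j)) := by
      intro i j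
      rw [Matrix.adjugate_apply, Matrix.det_apply, Finset.sum_smul]
      apply Finset.sum_congr rfl
      intro σ _
      rw [hupd, Units.smul_def, smul_assoc]
    calc ∑ i, ∑ j, N.adjugate j i • D (N i j)
        = ∑ i, ∑ j, ∑ σ : Equiv.Perm n, (Equiv.Perm.sign σ : ℤ) •
          ((if σ j = i then ∏ l ∈ Finset.univ.erase j, N (σ l) l else 0) • D (N i j)) := by
          apply Finset.sum_congr rfl; intro i _
          apply Finset.sum_congr rfl; intro j _
          exact h1 i j
      _ = ∑ i, ∑ σ : Equiv.Perm n, ∑ j, (Equiv.Perm.sign σ : ℤ) •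
          ((if σ j = i then ∏ l ∈ Finset.univ.erase j, N (σ l) l else 0) • D (N i j)) := by
          apply Finset.sum_congr rfl; intro i _
          exact Finset.sum_comm
      _ = ∑ σ : Equiv.Perm n, ∑ i, ∑ j, (Equiv.Perm.sign σ : ℤ) •
          ((if σ j = i then ∏ l ∈ Finset.univ.erase j, N (σ l) l else 0) • D (N i j)) :=
          Finset.sum_comm
      _ = ∑ σ : Equiv.Perm n, ∑ j, ∑ i, (Equiv.Perm.sign σ : ℤ) •
          ((if σ j = i then ∏ l ∈ Finset.univ.erase j, N (σ l) l else 0) • D (N i j)) := by
          apply Finset.sum_congr rfl; intro σ _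
          exact Finset.sum_comm
      _ = _ := by
          apply Finset.sum_congr rfl
          intro σ _
          apply Finset.sum_congr rfl
          intro j _
          rw [Finset.sum_eq_single (σ j)]
          · rw [if_pos rfl]
          · intro i _ hi
            rw [if_neg (Ne.symm hi), zero_smul, smul_zero]
          · intro h; exact absurd (Finset.mem_univ _) h
  rw [hL, hR]

end Jacobi

section Minors

variable {R : Type*} [CommRing R]

/-- The determinant of a product of an `(n + 1) × n` and an `n × (n + 1)` matrix vanishes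
(copied from helper10's `DetV9`). -/
theorem det_mul_eq_zero_of_lt {n : ℕ} (A : Matrix (Fin (n + 1)) (Fin n) R)
    (B : Matrix (Fin n) (Fin (n + 1)) R) : (A * B).det = 0 := by
  obtain ⟨A', hA'⟩ : ∃ A' : Matrix (Fin (n + 1)) (Fin (n + 1)) R,
      A' = Matrix.of fun (i : Fin (n + 1)) (k : Fin (n + 1)) =>
        if h : k.val < n then A i ⟨k.val, h⟩ else 0 := ⟨_, rfl⟩
  obtain ⟨B', hB'⟩ : ∃ B' : Matrix (Fin (n + 1)) (Fin (n + 1)) R,
      B' = Matrix.of fun (k : Fin (n + 1)) (j : Fin (n + 1)) =>
        if h : k.val < n then B ⟨k.val, h⟩ j else 0 := ⟨_, rfl⟩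
  have h1 : A * B = A' * B' := by
    refine Matrix.ext fun i j => ?_
    rw [Matrix.mul_apply, Matrix.mul_apply, Fin.sum_univ_castSucc, hA', hB']
    simp only [Matrix.of_apply, Fin.val_castSucc, Fin.val_last, lt_irrefl, dite_false, mul_zero,
      add_zero]
    apply Finset.sum_congr rfl
    intro k _
    rw [dif_pos k.isLt, dif_pos k.isLt]
  have h2 : A'.det = 0 := by
    apply Matrix.det_eq_zero_of_column_eq_zero (Fin.last n)
    intro i
    rw [hA', Matrix.of_apply, dif_neg]
    rw [Fin.val_last]
    exact lt_irrefl n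
  rw [h1, Matrix.det_mul, h2, zero_mul]

/-- A matrix which factors through `r` has vanishing `(r+1)`-minors. -/
theorem det_submatrix_mul_eq_zero {n m r : ℕ} (U : Matrix (Fin n) (Fin r) R)
    (V : Matrix (Fin r) (Fin m) R) (f : Fin (r + 1) → Fin n) (g : Fin (r + 1) → Fin m) :
    ((U * V).submatrix f g).det = 0 := by
  have : (U * V).submatrix f g = U.submatrix f id * V.submatrix id g := by
    ext i j
    simp [Matrix.mul_apply]
  rw [this]
  exact det_mul_eq_zero_of_lt _ _

/-- If all `(r+1)`-minors of `Z` vanish and the `r × r` submatrix `Z.submatrix f g` has a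
two-sided inverse `Ai`, then `Z = Z[:, g] * Ai * Z[f, :]`. -/
theorem eq_mul_mul_of_minors_eq_zero {n m r : ℕ} (Z : Matrix (Fin n) (Fin m) R)
    (f : Fin r → Fin n) (g : Fin r → Fin m) (Ai : Matrix (Fin r) (Fin r) R)
    (h1 : Z.submatrix f g * Ai = 1)
    (hZ : ∀ (f' : Fin (r + 1) → Fin n) (g' : Fin (r + 1) → Fin m),
      (Z.submatrix f' g').det = 0) :
    Z = Z.submatrix id g * Ai * Z.submatrix f id := by
  classical
  ext a b
  let e : Fin (r + 1) ≃ Fin r ⊕ Unit := finSumFinEquiv.symm.trans (Equiv.sumCongr (Equiv.refl _)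
    (Equiv.equivPUnit (Fin 1)))
  let f' : Fin r ⊕ Unit → Fin n := Sum.elim f (fun _ => a)
  let g' : Fin r ⊕ Unit → Fin m := Sum.elim g (fun _ => b)
  have hdet : (Z.submatrix f' g').det = 0 := by
    have := hZ (f' ∘ e) (g' ∘ e)
    have h2 : Z.submatrix (f' ∘ e) (g' ∘ e) = (Z.submatrix f' g').submatrix e e := rfl
    rw [h2, Matrix.det_submatrix_equiv_self] at this
    exact this
  set A := Z.submatrix f g with hA
  have hblocks : Z.submatrix f' g' = Matrix.fromBlocks A (Matrix.of fun i (_ : Unit) => Z (f i) b)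
      (Matrix.of fun (_ : Unit) j => Z a (g j)) (Matrix.of fun (_ _ : Unit) => Z a b) := by
    ext i j
    rcases i with i | i <;> rcases j with j | j <;> rfl
  have hunit : IsUnit A.det := Matrix.isUnit_det_of_right_inverse h1
  have hinv : Invertible A := Matrix.invertibleOfIsUnitDet A hunit
  have hAi : ⅟A = Ai := invOf_eq_right_inv h1
  rw [hblocks, Matrix.det_fromBlocks₁₁] at hdet
  have h0 := (hunit.mul_right_eq_zero).mp hdet
  rw [Matrix.det_unique, hAi] at h0
  simp only [Matrix.sub_apply, Matrix.of_apply, sub_eq_zero] at h0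
  rw [h0]
  simp only [Matrix.mul_apply, Matrix.submatrix_apply, id_eq, Matrix.of_apply, Finset.univ_unique,
    Finset.sum_singleton]

end Minors

end Groth.Agent.Lib.helper12.DetSmooth
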