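import Mathlib
import Groth.Prelude.Def_CAlgX
import Groth.Agent.Lib.Helper12.DetSmooth1

/-!
# Determinantal varieties are smooth where some `r`-minor is invertible
-/

set_option autoImplicit false
universe u

namespace Groth.Agent.Lib.helper12.DetSmooth

open MvPolynomial

variable (k : Type u) [Field k] (n m : ℕ)

/-- the polynomial ring in the entries of the generic matrix -/
abbrev Rg := MvPolynomial (Fin n × Fin m) k

/-- the generic matrix -/
noncomputable def Xg : Matrix (Fin n) (Fin m) (Rg k n m) := Matrix.of fun i j => X (i, j)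

/-- the ideal of `r`-minors of the generic matrix -/
noncomputable abbrev Idet (r : ℕ) : Ideal (Rg k n m) := CAlgX.minorIdeal (Xg k n m) r

variable {k n m}

theorem map_det_submatrix {T : Type*} [CommRing T] (ψ : Rg k n m →+* T) {s : ℕ}
    (f : Fin s → Fin n) (g : Fin s → Fin m) :
    ψ ((Xg k n m).submatrix f g).det = (((Xg k n m).map ψ).submatrix f g).det := by
  rw [RingHom.map_det]
  rfl

theorem det_submatrix_mem_Idet {s : ℕ} (f : Fin s → Fin n) (g : Fin s → Fin m) :
    ((Xg k n m).submatrix f g).det ∈ Idet k n m s :=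
  Ideal.subset_span ⟨(f, g), rfl⟩

theorem formallySmooth_away (r : ℕ) (f : Fin r → Fin n) (g : Fin r → Fin m) :
    Algebra.FormallySmooth k (Localization.Away
      (Ideal.Quotient.mk (Idet k n m (r + 1)) ((Xg k n m).submatrix f g).det)) := by
  classical
  set I := Idet k n m (r + 1) with hI
  set δ := ((Xg k n m).submatrix f g).det with hδ
  refine Algebra.FormallySmooth.of_comp_surjective fun T _ _ N hN φ ↦ ?_
  let ι : Rg k n m →ₐ[k] Localization.Away (Ideal.Quotient.mk I δ) :=
    (IsScalarTower.toAlgHom k (Rg k n m ⧸ I) (Localization.Away (Ideal.Quotient.mk I δ))).comp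
      (Ideal.Quotient.mkₐ k I)
  let χ : Rg k n m →ₐ[k] T ⧸ N := φ.comp ι
  have hιI : ∀ x ∈ I, ι x = 0 := by
    intro x hx
    change algebraMap (Rg k n m ⧸ I) _ (Ideal.Quotient.mk I x) = 0
    rw [Ideal.Quotient.eq_zero_iff_mem.mpr hx, map_zero]
  have hχI : ∀ x ∈ I, χ x = 0 := by
    intro x hx
    change φ (ι x) = 0
    rw [hιI x hx, map_zero]
  have hχδ : IsUnit (χ δ) := by
    have : IsUnit (ι δ) := IsLocalization.Away.algebraMap_isUnit (Ideal.Quotient.mk I δ)
    exact this.map φ
  let Ybar : Matrix (Fin n) (Fin m) (T ⧸ N) := (Xg k n m).map χ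
  have hYbar_minor : ∀ (f' : Fin (r + 1) → Fin n) (g' : Fin (r + 1) → Fin m),
      (Ybar.submatrix f' g').det = 0 := by
    intro f' g'
    have h1 : χ ((Xg k n m).submatrix f' g').det = (Ybar.submatrix f' g').det :=
      map_det_submatrix (χ : Rg k n m →+* T ⧸ N) f' g'
    rw [← h1]
    exact hχI _ (det_submatrix_mem_Idet f' g')
  have hsurj := Ideal.Quotient.mk_surjective (I := N)
  choose y0 hy0 using fun p : Fin n × Fin m => hsurj (χ (X p))
  let Y0 : Matrix (Fin n) (Fin m) T := Matrix.of fun i j => y0 (i, j)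
  have hY0 : Y0.map (Ideal.Quotient.mk N) = Ybar := by
    ext i j
    simp only [Y0, Ybar, Xg, Matrix.map_apply, Matrix.of_apply, hy0]
  set A := Y0.submatrix f g with hA
  have hAdet : IsUnit A.det := by
    apply (IsNilpotent.isUnit_quotient_mk_iff ⟨2, hN⟩).mp
    have h1 : Ideal.Quotient.mk N A.det = (Ybar.submatrix f g).det := by
      rw [RingHom.map_det, ← hY0]
      rfl
    have h2 : χ ((Xg k n m).submatrix f g).det = (Ybar.submatrix f g).det :=
      map_det_submatrix (χ : Rg k n m →+* T ⧸ N) f g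
    rw [h1, ← h2]
    exact hχδ
  set Ai := A⁻¹ with hAi
  have hAAi : A * Ai = 1 := Matrix.mul_nonsing_inv A hAdet
  have hAiA : Ai * A = 1 := Matrix.nonsing_inv_mul A hAdet
  let Y : Matrix (Fin n) (Fin m) T := Y0.submatrix id g * Ai * Y0.submatrix f id
  let ψ₀ : Rg k n m →ₐ[k] T := MvPolynomial.aeval (fun p => Y p.1 p.2)
  have hψ₀X : (Xg k n m).map ψ₀ = Y := by
    ext i j
    simp [Xg, ψ₀]
  have hψ₀I : ∀ x ∈ I, ψ₀ x = 0 := by
    have : I ≤ RingHom.ker (ψ₀ : Rg k n m →+* T) := by
      rw [hI]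
      unfold Idet CAlgX.minorIdeal
      rw [Ideal.span_le]
      rintro _ ⟨⟨f', g'⟩, rfl⟩
      change (ψ₀ : Rg k n m →+* T) _ = 0
      rw [map_det_submatrix, RingHom.coe_coe, hψ₀X]
      exact det_submatrix_mul_eq_zero _ _ f' g'
    exact fun x hx => this hx
  have hψ₀δ : ψ₀ δ = A.det := by
    have h1 := map_det_submatrix (ψ₀ : Rg k n m →+* T) f g
    rw [RingHom.coe_coe, hψ₀X] at h1
    rw [hδ, h1]
    congr 1
    change (Y0.submatrix id g * Ai * Y0.submatrix f id).submatrix f g = A
    have : (Y0.submatrix id g * Ai * Y0.submatrix f id).submatrix f g = A * Ai * A := by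
      ext i j
      simp [Matrix.mul_apply, hA]
    rw [this, hAAi, Matrix.one_mul]
  let ψ₁ : (Rg k n m ⧸ I) →ₐ[k] T := Ideal.Quotient.liftₐ I ψ₀ hψ₀I
  have hψ₁ : ∀ y : Submonoid.powers (Ideal.Quotient.mk I δ), IsUnit (ψ₁ y) := by
    rintro ⟨_, j, rfl⟩
    change IsUnit (ψ₁ ((Ideal.Quotient.mk I δ) ^ j))
    rw [map_pow]
    apply IsUnit.pow
    change IsUnit (ψ₀ δ)
    rw [hψ₀δ]
    exact hAdet
  let ψ : Localization.Away (Ideal.Quotient.mk I δ) →ₐ[k] T := IsLocalization.liftAlgHom hψ₁
  refine ⟨ψ, ?_⟩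
  apply AlgHom.coe_ringHom_injective
  refine IsLocalization.ringHom_ext (Submonoid.powers (Ideal.Quotient.mk I δ)) ?_
  apply Ideal.Quotient.ringHom_ext
  apply MvPolynomial.ringHom_ext
  · intro c
    simp only [RingHom.comp_apply, RingHom.coe_coe]
    have e1 : (algebraMap (Rg k n m ⧸ I) (Localization.Away (Ideal.Quotient.mk I δ)))
        (Ideal.Quotient.mk I (C c)) = algebraMap k _ c := by
      rw [IsScalarTower.algebraMap_apply k (Rg k n m ⧸ I)]
      rfl
    rw [e1, AlgHom.commutes, AlgHom.commutes]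
  · intro p
    obtain ⟨a, b⟩ := p
    simp only [RingHom.comp_apply, RingHom.coe_coe]
    have e1 : ψ ((algebraMap (Rg k n m ⧸ I) (Localization.Away (Ideal.Quotient.mk I δ)))
        (Ideal.Quotient.mk I (X (a, b)))) = Y a b := by
      change IsLocalization.lift hψ₁ _ = _
      rw [IsLocalization.lift_eq]
      change ψ₀ (X (a, b)) = _
      simp [ψ₀]
    have e2 : φ ((algebraMap (Rg k n m ⧸ I) (Localization.Away (Ideal.Quotient.mk I δ)))
        (Ideal.Quotient.mk I (X (a, b)))) = Ybar a b := rfl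
    rw [AlgHom.comp_apply, e1, e2]
    have key := eq_mul_mul_of_minors_eq_zero Ybar f g (Ai.map (Ideal.Quotient.mk N)) (by
      rw [← hY0]
      change (A.map (Ideal.Quotient.mk N)) * _ = 1
      rw [← Matrix.map_mul, hAAi, Matrix.map_one _ (map_zero _) (map_one _)]) hYbar_minor
    have h3 : Y.map (Ideal.Quotient.mk N) = Ybar := by
      rw [key]
      simp only [Y, Matrix.map_mul, ← hY0]
      rfl
    have := congrFun (congrFun h3 a) b
    rw [Matrix.map_apply] at this
    exact this

end Groth.Agent.Lib.helper12.DetSmooth
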