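import Mathlib
import Groth.Prelude.Def_CAlgX
import Groth.Agent.Lib.Helper12.DetSmooth2

/-!
# Determinantal varieties are singular where all `r`-minors vanish
-/

set_option autoImplicit false
universe u

namespace Groth.Agent.Lib.helper12.DetSmooth

open MvPolynomial TensorProduct

/-- Key lemma: in a local ring `S`, formally smooth over `k`, let `Z` be a matrix all of whose
`r`-minors lie in the maximal ideal.  If the quotient by the ideal `J` of `(r+1)`-minors is
formally smooth over `k` (and `J` is proper), then `J = 0`. -/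
theorem minorIdeal_eq_bot_of_formallySmooth {k S : Type u} [CommRing k] [CommRing S]
    [Algebra k S] [IsLocalRing S] [Algebra.FormallySmooth k S] {n m : ℕ} (r : ℕ)
    (Z : Matrix (Fin n) (Fin m) S)
    (hZ : ∀ (f : Fin r → Fin n) (g : Fin r → Fin m),
      (Z.submatrix f g).det ∈ IsLocalRing.maximalIdeal S)
    (hJm : CAlgX.minorIdeal Z (r + 1) ≤ IsLocalRing.maximalIdeal S)
    (hsm : Algebra.FormallySmooth k (S ⧸ CAlgX.minorIdeal Z (r + 1))) :
    CAlgX.minorIdeal Z (r + 1) = ⊥ := by
  classical
  set J := CAlgX.minorIdeal Z (r + 1) with hJ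
  have hJfg : J.FG := by
    rw [hJ]
    unfold CAlgX.minorIdeal
    exact Submodule.fg_span (Set.finite_range _)
  have hsurj : Function.Surjective (algebraMap S (S ⧸ J)) := Ideal.Quotient.mk_surjective
  have hker : RingHom.ker (algebraMap S (S ⧸ J)) = J := Ideal.mk_ker
  set K := RingHom.ker (algebraMap S (S ⧸ J)) with hK
  obtain ⟨l, hl⟩ := (Algebra.FormallySmooth.iff_split_injection (R := k) (P := S)
    (A := S ⧸ J) hsurj).mp hsm
  have hmjac : IsLocalRing.maximalIdeal S ≤ Ideal.jacobson ⊥ :=
    (IsLocalRing.jacobson_eq_maximalIdeal _ bot_ne_top).ge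
  -- every element of the kernel has cotangent class in `m • ⊤`
  have key : ∀ x (_ : x ∈ J) (hx2 : x ∈ K), K.toCotangent ⟨x, hx2⟩ ∈
      (IsLocalRing.maximalIdeal S) • (⊤ : Submodule S K.Cotangent) := by
    intro x hx
    rw [hJ] at hx
    unfold CAlgX.minorIdeal at hx
    induction hx using Submodule.span_induction with
    | mem x hx =>
      obtain ⟨⟨f, g⟩, rfl⟩ := hx
      intro hx2
      have h1 : K.toCotangent ⟨_, hx2⟩ = l (KaehlerDifferential.kerCotangentToTensor k S (S ⧸ J)
          (K.toCotangent ⟨_, hx2⟩)) := by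
        rw [← LinearMap.comp_apply, hl, LinearMap.id_apply]
      rw [h1, KaehlerDifferential.kerCotangentToTensor_toCotangent]
      simp only
      rw [derivation_det, TensorProduct.tmul_sum, map_sum]
      refine Submodule.sum_mem _ fun i _ => ?_
      rw [TensorProduct.tmul_sum, map_sum]
      refine Submodule.sum_mem _ fun j _ => ?_
      rw [TensorProduct.tmul_smul, map_smul]
      refine Submodule.smul_mem_smul ?_ Submodule.mem_top
      rw [Matrix.adjugate_fin_succ_eq_det_submatrix, Matrix.submatrix_submatrix]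
      exact Ideal.mul_mem_left _ _ (hZ _ _)
    | zero =>
      intro hx2
      have : (⟨0, hx2⟩ : K) = 0 := rfl
      rw [this, map_zero]
      exact Submodule.zero_mem _
    | add x y hx hy ihx ihy =>
      intro hx2
      have hxK : x ∈ K := by rw [hker]; exact hx
      have hyK : y ∈ K := by rw [hker]; exact hy
      have : (⟨x + y, hx2⟩ : K) = ⟨x, hxK⟩ + ⟨y, hyK⟩ := rfl
      rw [this, map_add]
      exact Submodule.add_mem _ (ihx hxK) (ihy hyK)
    | smul a x hx ihx =>
      intro hx2
      have hxK : x ∈ K := by rw [hker]; exact hx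
      have : (⟨a • x, hx2⟩ : K) = a • ⟨x, hxK⟩ := rfl
      rw [this, map_smul]
      exact Submodule.smul_mem _ _ (ihx hxK)
  have htop : (⊤ : Submodule S K.Cotangent) ≤
      (IsLocalRing.maximalIdeal S) • (⊤ : Submodule S K.Cotangent) := by
    intro c _
    obtain ⟨⟨x, hx⟩, rfl⟩ := Ideal.toCotangent_surjective _ c
    exact key x (hker ▸ hx) hx
  have hKfg : K.FG := hker ▸ hJfg
  have hfin : Module.Finite S K := Module.Finite.iff_fg.mpr hKfg
  have hfin2 : Module.Finite S K.Cotangent :=
    Module.Finite.of_surjective K.toCotangent (Ideal.toCotangent_surjective _)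
  have htop2 : (⊤ : Submodule S K.Cotangent) = ⊥ :=
    Submodule.eq_bot_of_le_smul_of_le_jacobson_bot _ _ Module.Finite.fg_top htop hmjac
  have hsub : Subsingleton K.Cotangent :=
    (Submodule.subsingleton_iff S).mp (subsingleton_of_bot_eq_top htop2.symm)
  have hidem : IsIdempotentElem K := (Ideal.cotangent_subsingleton_iff K).mp hsub
  have hKm : K ≤ IsLocalRing.maximalIdeal S := hker ▸ hJm
  have hK2 : K ≤ (IsLocalRing.maximalIdeal S) • K := by
    conv_lhs => rw [← hidem.eq]
    rw [smul_eq_mul]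
    exact Ideal.mul_mono_left hKm
  rw [← hker]
  exact Submodule.eq_bot_of_le_smul_of_le_jacobson_bot _ _ hKfg hK2 hmjac

variable {k : Type u} [Field k] {n m : ℕ}

/-- a minor of the generic matrix on injective index maps is nonzero -/
theorem det_submatrix_ne_zero {s : ℕ} (f : Fin s → Fin n) (g : Fin s → Fin m)
    (hf : Function.Injective f) (hg : Function.Injective g) :
    ((Xg k n m).submatrix f g).det ≠ 0 := by
  classical
  intro h0
  let pt : Fin n × Fin m → k := fun p => if ∃ a, f a = p.1 ∧ g a = p.2 then 1 else 0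
  have h1 := map_det_submatrix (MvPolynomial.eval pt : Rg k n m →+* k) f g
  rw [h0, map_zero] at h1
  have h2 : ((Xg k n m).map (MvPolynomial.eval pt)).submatrix f g = 1 := by
    ext a b
    simp only [Xg, Matrix.submatrix_apply, Matrix.map_apply, Matrix.of_apply, MvPolynomial.eval_X,
      pt, Matrix.one_apply]
    by_cases hab : a = b
    · subst hab
      rw [if_pos ⟨a, rfl, rfl⟩, if_pos rfl]
    · rw [if_neg hab, if_neg]
      rintro ⟨c, hc1, hc2⟩
      exact hab ((hf hc1).symm.trans (hg hc2))
  rw [h2, Matrix.det_one] at h1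
  exact zero_ne_one h1

/-- the singular points: if all `r`-minors vanish at `P`, then `P` is not a smooth point of the
determinantal variety of matrices of rank `≤ r` (for `r < min n m`). -/
theorem not_mem_smoothLocus_of_le (r : ℕ) (hr : r < min n m)
    (P : PrimeSpectrum (Rg k n m ⧸ Idet k n m (r + 1)))
    (hP : (Idet k n m r).map (Ideal.Quotient.mk (Idet k n m (r + 1))) ≤ P.asIdeal) :
    P ∉ Algebra.smoothLocus k (Rg k n m ⧸ Idet k n m (r + 1)) := by
  classical
  intro hsm
  change Algebra.FormallySmooth k (Localization.AtPrime P.asIdeal) at hsm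
  let Q : Ideal (Rg k n m) := P.asIdeal.comap (Ideal.Quotient.mk (Idet k n m (r + 1)))
  have hQprime : Q.IsPrime := Ideal.comap_isPrime _ _
  let S := Localization.AtPrime Q
  let J : Ideal S := (Idet k n m (r + 1)).map (algebraMap (Rg k n m) S)
  have hsubm : Algebra.algebraMapSubmonoid (Rg k n m ⧸ (Idet k n m (r + 1))) Q.primeCompl =
      P.asIdeal.primeCompl := by
    ext x
    constructor
    · rintro ⟨y, hy, rfl⟩
      exact hy
    · intro hx
      obtain ⟨y, rfl⟩ := Ideal.Quotient.mk_surjective x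
      exact ⟨y, hx, rfl⟩
  have hloc : IsLocalization (Algebra.algebraMapSubmonoid (Rg k n m ⧸ (Idet k n m (r + 1))) Q.primeCompl) (S ⧸ J) :=
    inferInstance
  have hloc' : IsLocalization P.asIdeal.primeCompl (S ⧸ J) := hsubm ▸ hloc
  have htower : IsScalarTower k (Rg k n m ⧸ (Idet k n m (r + 1))) (S ⧸ J) := IsScalarTower.of_algebraMap_eq' rfl
  let e : Localization.AtPrime P.asIdeal ≃ₐ[Rg k n m ⧸ (Idet k n m (r + 1))] (S ⧸ J) :=
    IsLocalization.algEquiv P.asIdeal.primeCompl (Localization.AtPrime P.asIdeal) (S ⧸ J)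
  have hsm' : Algebra.FormallySmooth k (S ⧸ J) :=
    Algebra.FormallySmooth.of_equiv (e.restrictScalars k)
  -- the generic matrix over `S`
  let Z : Matrix (Fin n) (Fin m) S := (Xg k n m).map (algebraMap (Rg k n m) S)
  have hJZ : CAlgX.minorIdeal Z (r + 1) = J := by
    change _ = (Idet k n m (r + 1)).map (algebraMap (Rg k n m) S)
    unfold Idet CAlgX.minorIdeal
    rw [Ideal.map_span]
    congr 1
    ext x
    constructor
    · rintro ⟨⟨f, g⟩, rfl⟩
      exact ⟨_, ⟨(f, g), rfl⟩, map_det_submatrix (algebraMap (Rg k n m) S) f g⟩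
    · rintro ⟨_, ⟨⟨f, g⟩, rfl⟩, rfl⟩
      exact ⟨(f, g), (map_det_submatrix (algebraMap (Rg k n m) S) f g).symm⟩
  have hIQ : (Idet k n m (r + 1)) ≤ Q := by
    intro x hx
    change Ideal.Quotient.mk (Idet k n m (r + 1)) x ∈ P.asIdeal
    rw [Ideal.Quotient.eq_zero_iff_mem.mpr hx]
    exact zero_mem _
  have hmax : IsLocalRing.maximalIdeal S = Q.map (algebraMap (Rg k n m) S) :=
    (Localization.AtPrime.map_eq_maximalIdeal).symm
  have hZ : ∀ (f : Fin r → Fin n) (g : Fin r → Fin m),
      (Z.submatrix f g).det ∈ IsLocalRing.maximalIdeal S := by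
    intro f g
    rw [hmax]
    have h1 : ((Xg k n m).submatrix f g).det ∈ Q := by
      change Ideal.Quotient.mk (Idet k n m (r + 1)) _ ∈ P.asIdeal
      exact hP (Ideal.mem_map_of_mem _ (det_submatrix_mem_Idet f g))
    have h2 := Ideal.mem_map_of_mem (algebraMap (Rg k n m) S) h1
    rwa [map_det_submatrix] at h2
  have hJm : CAlgX.minorIdeal Z (r + 1) ≤ IsLocalRing.maximalIdeal S := by
    rw [hJZ, hmax]
    exact Ideal.map_mono hIQ
  have hbot := minorIdeal_eq_bot_of_formallySmooth (k := k) r Z hZ hJm (hJZ ▸ hsm')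
  -- but a nonzero minor lies in it
  have hrn : r + 1 ≤ n := by omega
  have hrm : r + 1 ≤ m := by omega
  have hne := det_submatrix_ne_zero (k := k) (Fin.castLE hrn) (Fin.castLE hrm)
    (Fin.castLE_injective hrn) (Fin.castLE_injective hrm)
  have hmem : (Z.submatrix (Fin.castLE hrn) (Fin.castLE hrm)).det ∈ CAlgX.minorIdeal Z (r + 1) :=
    Ideal.subset_span ⟨(_, _), rfl⟩
  rw [hbot, Ideal.mem_bot, ← map_det_submatrix] at hmem
  have hinj : Function.Injective (algebraMap (Rg k n m) S) :=
    IsLocalization.injective S Q.primeCompl_le_nonZeroDivisors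
  exact hne (hinj (hmem.trans (map_zero _).symm))

/-- the smooth points: if some `r`-minor does not vanish at `P`, then `P` is a smooth point. -/
theorem mem_smoothLocus_of_not_le (r : ℕ)
    (P : PrimeSpectrum (Rg k n m ⧸ Idet k n m (r + 1)))
    (hP : ¬ (Idet k n m r).map (Ideal.Quotient.mk (Idet k n m (r + 1))) ≤ P.asIdeal) :
    P ∈ Algebra.smoothLocus k (Rg k n m ⧸ Idet k n m (r + 1)) := by
  have hex : ∃ (f : Fin r → Fin n) (g : Fin r → Fin m),
      Ideal.Quotient.mk (Idet k n m (r + 1)) ((Xg k n m).submatrix f g).det ∉ P.asIdeal := by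
    by_contra hcon
    push Not at hcon
    apply hP
    rw [Ideal.map_le_iff_le_comap]
    unfold Idet CAlgX.minorIdeal
    rw [Ideal.span_le]
    rintro _ ⟨⟨f, g⟩, rfl⟩
    exact hcon f g
  obtain ⟨f, g, hfg⟩ := hex
  have hfgI : (Idet k n m (r + 1)).FG := by
    unfold Idet CAlgX.minorIdeal
    exact Submodule.fg_span (Set.finite_range _)
  have hfp : Algebra.FinitePresentation k (Rg k n m ⧸ Idet k n m (r + 1)) :=
    Algebra.FinitePresentation.quotient hfgI
  have h1 := (Algebra.basicOpen_subset_smoothLocus_iff (R := k)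
    (f := Ideal.Quotient.mk (Idet k n m (r + 1)) ((Xg k n m).submatrix f g).det)).mpr
    (formallySmooth_away r f g)
  exact h1 hfg

theorem mem_smoothLocus_iff (r : ℕ) (hr : r < min n m)
    (P : PrimeSpectrum (Rg k n m ⧸ Idet k n m (r + 1))) :
    P ∈ Algebra.smoothLocus k (Rg k n m ⧸ Idet k n m (r + 1)) ↔
      ¬ (Idet k n m r).map (Ideal.Quotient.mk (Idet k n m (r + 1))) ≤ P.asIdeal :=
  ⟨fun h hle => not_mem_smoothLocus_of_le r hr P hle h, mem_smoothLocus_of_not_le r P⟩

end Groth.Agent.Lib.helper12.DetSmooth
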