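import Mathlib

/-!
# The dilatation lemma: algebra (helper12)

`exists_dilatation`: for a finite type `R`-algebra `C`, an `R`-algebra map `σ₀ : C → Â` and an ideal
`J` of `Â` generated by finitely many elements of `R` such that every element of `Â` is, up to a
unit coming from `R`, congruent modulo `J` to an element of `R`, there is a finite type `C`-algebra
`C'` through which `σ₀` factors, such that every `R`-algebra map `C → Â` factoring (as a ring map)
through `C'` agrees with `σ₀` modulo `J`.
-/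

set_option autoImplicit false
universe u
open MvPolynomial

namespace Groth.Agent.Lib.helper12.Dilat

theorem sub_mem_of_loc {C B Ah : Type*} [CommRing C] [CommRing B] [CommRing Ah] [Algebra C B]
    (M : Submonoid C) [IsLocalization M B] (σ σ' : B →+* Ah) (J : Ideal Ah)
    (h : ∀ c : C, σ (algebraMap C B c) - σ' (algebraMap C B c) ∈ J) (a : B) :
    σ a - σ' a ∈ J := by
  obtain ⟨⟨c, u⟩, rfl⟩ := IsLocalization.mk'_surjective M a
  have hu : IsUnit (σ (algebraMap C B u)) := (IsLocalization.map_units B u).map σ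
  have e1 : σ (IsLocalization.mk' B c u) * σ (algebraMap C B u) = σ (algebraMap C B c) := by
    rw [← map_mul, IsLocalization.mk'_spec]
  have e2 : σ' (IsLocalization.mk' B c u) * σ' (algebraMap C B u) = σ' (algebraMap C B c) := by
    rw [← map_mul, IsLocalization.mk'_spec]
  have key : (σ (IsLocalization.mk' B c u) - σ' (IsLocalization.mk' B c u)) *
      σ (algebraMap C B u) ∈ J := by
    have : (σ (IsLocalization.mk' B c u) - σ' (IsLocalization.mk' B c u)) * σ (algebraMap C B u) =
        (σ (algebraMap C B c) - σ' (algebraMap C B c)) -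
          σ' (IsLocalization.mk' B c u) * (σ (algebraMap C B u) - σ' (algebraMap C B u)) := by
      rw [← e1, ← e2]; ring
    rw [this]
    exact J.sub_mem (h c) (J.mul_mem_left _ (h u))
  obtain ⟨v, hv⟩ := hu
  have : σ (IsLocalization.mk' B c u) - σ' (IsLocalization.mk' B c u) =
      ((σ (IsLocalization.mk' B c u) - σ' (IsLocalization.mk' B c u)) * σ (algebraMap C B u)) *
        ((v⁻¹ : Ahˣ) : Ah) := by
    rw [← hv, mul_assoc, Units.mul_inv, mul_one]
  rw [this]
  exact J.mul_mem_right _ key

section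
variable {R D Ah : Type u} [CommRing R] [CommRing D] [CommRing Ah] [Algebra R D] [Algebra R Ah]

/-- **dilatation lemma**, algebraic form -/
theorem exists_dilatation [Algebra.FiniteType R D] (σ₀ : D →ₐ[R] Ah) (J : Ideal Ah)
    (H1 : ∀ a : Ah, ∃ β w : R, IsUnit (algebraMap R Ah w) ∧
      algebraMap R Ah w * a - algebraMap R Ah β ∈ J)
    (r : ℕ) (φ : Fin r → R) (H2 : J = Ideal.span (Set.range (fun j => algebraMap R Ah (φ j)))) :
    ∃ (C' : Type u) (_ : CommRing C') (_ : Algebra D C') (_ : Algebra.FiniteType D C')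
      (τ₀ : C' →+* Ah), τ₀.comp (algebraMap D C') = σ₀.toRingHom ∧
      ∀ (σ₀' : D →ₐ[R] Ah) (τ₀' : C' →+* Ah), τ₀'.comp (algebraMap D C') = σ₀'.toRingHom →
        ∀ c : D, σ₀ c - σ₀' c ∈ J := by
  classical
  obtain ⟨s, hs⟩ := (Algebra.FiniteType.out : (⊤ : Subalgebra R D).FG)
  choose β w hw hβ using fun x : D => H1 (σ₀ x)
  have hc : ∀ x : D, ∃ c : Fin r → Ah,
      ∑ j, c j * algebraMap R Ah (φ j) = algebraMap R Ah (w x) * σ₀ x - algebraMap R Ah (β x) := by
    intro x
    have := hβ x
    rw [H2] at this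
    exact (Ideal.mem_span_range_iff_exists_fun).mp this
  choose cc hcc using hc
  let ι := (↥s) × Fin r
  let rel : ↥s → MvPolynomial ι D := fun x =>
    C (algebraMap R D (w x.1) * x.1) - C (algebraMap R D (β x.1)) -
      ∑ j, C (algebraMap R D (φ j)) * X (x, j)
  let I : Ideal (MvPolynomial ι D) := Ideal.span (Set.range rel)
  let ev : MvPolynomial ι D →+* Ah := eval₂Hom σ₀.toRingHom (fun p : ι => cc p.1.1 p.2)
  have hev : ∀ a ∈ I, ev a = 0 := by
    intro a ha
    have : I ≤ RingHom.ker ev := by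
      rw [Ideal.span_le]
      rintro _ ⟨x, rfl⟩
      change ev (rel x) = 0
      simp only [rel, ev, map_sub, map_sum, map_mul, eval₂Hom_C, eval₂Hom_X']
      have e1 : σ₀.toRingHom (algebraMap R D (w x.1)) = algebraMap R Ah (w x.1) := σ₀.commutes _
      have e2 : σ₀.toRingHom (algebraMap R D (β x.1)) = algebraMap R Ah (β x.1) := σ₀.commutes _
      have e3 : ∀ j, σ₀.toRingHom (algebraMap R D (φ j)) = algebraMap R Ah (φ j) :=
        fun j => σ₀.commutes _
      rw [e1, e2]
      simp only [e3]
      rw [sub_eq_zero]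
      exact (hcc x.1).symm.trans (Finset.sum_congr rfl (fun j _ => mul_comm _ _))
    exact this ha
  refine ⟨MvPolynomial ι D ⧸ I, inferInstance, inferInstance, inferInstance,
    Ideal.Quotient.lift I ev hev, ?_, ?_⟩
  · ext c
    change Ideal.Quotient.lift I ev hev (Ideal.Quotient.mk I (C c)) = σ₀ c
    rw [Ideal.Quotient.lift_mk]
    exact eval₂Hom_C _ _ c
  · intro σ₀' τ₀' hτ c
    have hτ' : ∀ c : D, τ₀' (Ideal.Quotient.mk I (C c)) = σ₀' c :=
      fun c => RingHom.congr_fun hτ c
    have hx : ∀ x ∈ s, σ₀ x - σ₀' x ∈ J := by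
      intro x hxs
      have h0 : Ideal.Quotient.mk I (rel ⟨x, hxs⟩) = 0 :=
        Ideal.Quotient.eq_zero_iff_mem.mpr (Ideal.subset_span ⟨_, rfl⟩)
      have h1 := congrArg τ₀' h0
      simp only [rel, map_sub, map_sum, map_mul, map_zero, hτ', AlgHom.commutes] at h1
      have h1' : algebraMap R Ah (w x) * σ₀' x - algebraMap R Ah (β x) =
          ∑ j, τ₀' (Ideal.Quotient.mk I (X (⟨x, hxs⟩, j))) * algebraMap R Ah (φ j) := by
        rw [sub_eq_zero] at h1
        rw [h1]
        exact Finset.sum_congr rfl (fun j _ => mul_comm _ _)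
      have h2 : algebraMap R Ah (w x) * σ₀' x - algebraMap R Ah (β x) ∈ J := by
        rw [h1', H2]
        exact (Ideal.mem_span_range_iff_exists_fun).mpr ⟨_, rfl⟩
      have h3 : algebraMap R Ah (w x) * (σ₀ x - σ₀' x) ∈ J := by
        have : algebraMap R Ah (w x) * (σ₀ x - σ₀' x) =
            (algebraMap R Ah (w x) * σ₀ x - algebraMap R Ah (β x)) -
              (algebraMap R Ah (w x) * σ₀' x - algebraMap R Ah (β x)) := by ring
        rw [this]
        exact J.sub_mem (hβ x) h2
      obtain ⟨v, hv⟩ := hw x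
      have : σ₀ x - σ₀' x = ((v⁻¹ : Ahˣ) : Ah) * (algebraMap R Ah (w x) * (σ₀ x - σ₀' x)) := by
        rw [← hv, ← mul_assoc, Units.inv_mul, one_mul]
      rw [this]
      exact J.mul_mem_left _ h3
    have heq : (Ideal.Quotient.mkₐ R J).comp σ₀ = (Ideal.Quotient.mkₐ R J).comp σ₀' := by
      refine AlgHom.ext_of_adjoin_eq_top hs (fun x hxs => ?_)
      change Ideal.Quotient.mk J (σ₀ x) = Ideal.Quotient.mk J (σ₀' x)
      exact Ideal.Quotient.eq.mpr (hx x hxs)
    have := AlgHom.congr_fun heq c
    exact Ideal.Quotient.eq.mp this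

end

end Groth.Agent.Lib.helper12.Dilat
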