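import Mathlib

/-!
# The dilatation lemma: completion facts and Spec plumbing (helper12)
-/

set_option autoImplicit false
set_option backward.isDefEq.respectTransparency.types false
universe u
open CategoryTheory AlgebraicGeometry TopologicalSpace Opposite IsLocalRing

namespace Groth.Agent.Lib.helper12.Dilat

section Compl
variable {A : Type u} [CommRing A] [IsLocalRing A] [IsNoetherianRing A]

theorem exists_sub_mem (N : ℕ) (a : AdicCompletion (maximalIdeal A) A) :
    ∃ b : A, a - algebraMap A (AdicCompletion (maximalIdeal A) A) b ∈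
      (maximalIdeal A ^ N).map (algebraMap A (AdicCompletion (maximalIdeal A) A)) := by
  have fg := (maximalIdeal A).fg_of_isNoetherianRing
  obtain ⟨b, hb⟩ := Submodule.mkQ_surjective _ (AdicCompletion.eval (maximalIdeal A) A N a)
  refine ⟨b, ?_⟩
  rw [← Submodule.restrictScalars_mem A, ← Ideal.smul_top_eq_map,
    AdicCompletion.pow_smul_top_eq_ker_eval fg, LinearMap.mem_ker, map_sub]
  have : algebraMap A (AdicCompletion (maximalIdeal A) A) b = AdicCompletion.of _ A b := rfl
  rw [this, AdicCompletion.eval_of, hb, sub_self]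

variable {R : Type u} [CommRing R] [Algebra R A] (p : Ideal R) [p.IsPrime]
  [IsLocalization.AtPrime A p] [Algebra R (AdicCompletion (maximalIdeal A) A)]
  (hRA : ∀ x : R, algebraMap R (AdicCompletion (maximalIdeal A) A) x =
    algebraMap A (AdicCompletion (maximalIdeal A) A) (algebraMap R A x))

include p hRA in
theorem H1 (N : ℕ) (a : AdicCompletion (maximalIdeal A) A) :
    ∃ β w : R, IsUnit (algebraMap R (AdicCompletion (maximalIdeal A) A) w) ∧
      algebraMap R (AdicCompletion (maximalIdeal A) A) w * a -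
        algebraMap R (AdicCompletion (maximalIdeal A) A) β ∈
      (maximalIdeal A ^ N).map (algebraMap A (AdicCompletion (maximalIdeal A) A)) := by
  obtain ⟨b, hb⟩ := exists_sub_mem N a
  obtain ⟨⟨β, w⟩, rfl⟩ := IsLocalization.mk'_surjective p.primeCompl b
  refine ⟨β, w, ?_, ?_⟩
  · rw [hRA]
    exact (IsLocalization.map_units A w).map _
  · have : algebraMap R (AdicCompletion (maximalIdeal A) A) w * a -
        algebraMap R (AdicCompletion (maximalIdeal A) A) β =
        algebraMap R (AdicCompletion (maximalIdeal A) A) w *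
          (a - algebraMap A (AdicCompletion (maximalIdeal A) A) (IsLocalization.mk' A β w)) := by
      rw [mul_sub, hRA, hRA β, ← map_mul, mul_comm (algebraMap R A w), IsLocalization.mk'_spec]
    rw [this]
    exact Ideal.mul_mem_left _ _ hb

omit [IsNoetherianRing A] in
include p hRA in
theorem H2 [IsNoetherianRing R] (N : ℕ) :
    ∃ (r : ℕ) (φ : Fin r → R),
      (maximalIdeal A ^ N).map (algebraMap A (AdicCompletion (maximalIdeal A) A)) =
        Ideal.span (Set.range (fun j => algebraMap R (AdicCompletion (maximalIdeal A) A) (φ j))) := by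
  obtain ⟨r, φ, hφ⟩ := Submodule.fg_iff_exists_fin_generating_family.mp
    ((p ^ N).fg_of_isNoetherianRing)
  refine ⟨r, φ, ?_⟩
  have hm : maximalIdeal A ^ N = (p ^ N).map (algebraMap R A) := by
    rw [Ideal.map_pow, IsLocalization.AtPrime.map_eq_maximalIdeal p A]
  have h2 : p ^ N = Ideal.span (Set.range φ) := hφ.symm
  rw [hm, h2, Ideal.map_span, Ideal.map_span, ← Set.range_comp, ← Set.range_comp]
  congr 2
  funext j
  exact (hRA (φ j)).symm

end Compl

section Geo
variable {T : Scheme.{u}} {U : T.Opens} (hU : IsAffineOpen U) {C' : CommRingCat.{u}}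
  (φ : Γ(T, U) ⟶ C')

/-- the morphism `Spec C' ⟶ T` -/
noncomputable def gg : Spec C' ⟶ T := Spec.map φ ≫ hU.fromSpec

theorem gg_preimage : gg hU φ ⁻¹ᵁ U = ⊤ := by
  rw [gg, Scheme.Hom.comp_preimage, hU.fromSpec_preimage_self]
  rfl

theorem fromSpec_appLE : hU.fromSpec.appLE U ⊤ hU.fromSpec_preimage_self.ge =
    (Scheme.ΓSpecIso Γ(T, U)).inv := by
  rw [Scheme.Hom.appLE, hU.fromSpec_app_self, Category.assoc, ← Functor.map_comp]
  exact ((congrArg (fun m => (Scheme.ΓSpecIso Γ(T, U)).inv ≫ m)
    ((congrArg (Spec Γ(T, U)).presheaf.map (Subsingleton.elim _ (𝟙 _))).trans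
      ((Spec Γ(T, U)).presheaf.map_id _))).trans (Category.comp_id _))

theorem gg_app : (gg hU φ).appLE U ⊤ (gg_preimage hU φ).ge = φ ≫ (Scheme.ΓSpecIso C').inv := by
  rw [Scheme.ΓSpecIso_inv_naturality]
  have h1 : (gg hU φ).appLE U ⊤ (gg_preimage hU φ).ge =
      hU.fromSpec.appLE U ⊤ hU.fromSpec_preimage_self.ge ≫
        (Spec.map φ).appLE ⊤ ⊤ le_top := by
    rw [Scheme.Hom.appLE_comp_appLE]
    rfl
  rw [h1, fromSpec_appLE]
  congr 1

theorem stalkMap_gg_germ (t : T) (ht : t ∈ U) (t' : Spec C')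
    (hg : (gg hU φ).base t' = t) (c : Γ(T, U)) :
    ((gg hU φ).stalkMap t').hom ((T.presheaf.stalkCongr (Inseparable.of_eq hg)).inv.hom
      (T.presheaf.germ U t ht c)) = (StructureSheaf.toStalk C' t').hom (φ c) := by
  have ht' : (gg hU φ).base t' ∈ U := hg ▸ ht
  have e1 : (T.presheaf.stalkCongr (Inseparable.of_eq hg)).inv.hom (T.presheaf.germ U t ht c) =
      T.presheaf.germ U ((gg hU φ).base t') ht' c := by
    rw [TopCat.Presheaf.stalkCongr_inv]
    exact TopCat.Presheaf.germ_stalkSpecializes_apply T.presheaf ht _ c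
  rw [e1]
  have e2 := Scheme.Hom.germ_stalkMap_apply (gg hU φ) U t' ht' c
  refine e2.trans ?_
  have e3 : (Spec C').presheaf.germ (gg hU φ ⁻¹ᵁ U) t' ht'
      ((gg hU φ).app U c) = (Spec C').presheaf.germ ⊤ t' trivial
        ((gg hU φ).appLE U ⊤ (gg_preimage hU φ).ge c) := by
    rw [Scheme.Hom.appLE]
    exact (TopCat.Presheaf.germ_res_apply (Spec C').presheaf
      (homOfLE (gg_preimage hU φ).ge) t' trivial _).symm
  rw [e3, gg_app]
  rfl

end Geo

end Groth.Agent.Lib.helper12.Dilat
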