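import Mathlib
import Groth.Agent.Lib.Helper12.Dilat1
import Groth.Agent.Lib.Helper12.Dilat2

/-!
# The dilatation lemma (helper12)
-/

set_option autoImplicit false
set_option linter.style.haveILetI false
set_option backward.isDefEq.respectTransparency.types false
universe u
open CategoryTheory AlgebraicGeometry TopologicalSpace Opposite IsLocalRing

namespace Groth.Agent.Lib.helper12.Dilat

section
variable {T S : Scheme.{u}} (h : T ⟶ S) (t : T) {V : S.Opens} {U : T.Opens}
  (hsV : h.base t ∈ V) (htU : t ∈ U) (hUV : U ≤ h ⁻¹ᵁ V)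

theorem germ_appLE (r : Γ(S, V)) :
    T.presheaf.germ U t htU (h.appLE V U hUV r) =
      (h.stalkMap t).hom (S.presheaf.germ V (h.base t) hsV r) := by
  rw [Scheme.Hom.germ_stalkMap_apply, Scheme.Hom.appLE]
  exact TopCat.Presheaf.germ_res_apply T.presheaf (homOfLE hUV) t htU _

end

section Local
variable {B A : Type u} [CommRing B] [IsLocalRing B] [CommRing A] [IsLocalRing A]
  [IsNoetherianRing A]

theorem comap_eq_of_hloc (σ : B →+* AdicCompletion (maximalIdeal A) A)
    (hloc : ∀ a ∈ maximalIdeal B,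
      σ a ∈ (maximalIdeal A).map (algebraMap A (AdicCompletion (maximalIdeal A) A))) :
    (maximalIdeal (AdicCompletion (maximalIdeal A) A)).comap σ = maximalIdeal B := by
  ext a
  rw [Ideal.mem_comap]
  constructor
  · intro ha
    by_contra hna
    have hu : IsUnit a := IsLocalRing.notMem_maximalIdeal.mp hna
    exact (IsLocalRing.notMem_maximalIdeal.mpr (hu.map σ)) ha
  · intro ha
    rw [AdicCompletion.maximalIdeal_eq_map]
    exact hloc a ha

end Local

section Core
variable {R C A B : Type u} [CommRing R] [CommRing C] [CommRing A] [CommRing B]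
  [IsLocalRing A] [IsNoetherianRing A] [IsLocalRing B] [IsNoetherianRing R]
  [Algebra R C] [Algebra.FiniteType R C] [Algebra R A] (p : Ideal R) [p.IsPrime]
  [IsLocalization.AtPrime A p] [Algebra C B] (q : Ideal C) [q.IsPrime] [IsLocalization.AtPrime B q]
  (ψ : A →+* B) (hψ : ∀ x : R, ψ (algebraMap R A x) = algebraMap C B (algebraMap R C x))

include p hψ in
theorem dilat_core (σ : B →+* AdicCompletion (maximalIdeal A) A)
    (hσ : σ.comp ψ = algebraMap A (AdicCompletion (maximalIdeal A) A))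
    (hloc : ∀ a ∈ maximalIdeal B,
      σ a ∈ (maximalIdeal A).map (algebraMap A (AdicCompletion (maximalIdeal A) A))) (N : ℕ) :
    ∃ (C' : Type u) (_ : CommRing C') (_ : Algebra C C') (_ : Algebra.FiniteType C C')
      (τ₀ : C' →+* AdicCompletion (maximalIdeal A) A),
      (∀ y : C', y ∉ (maximalIdeal (AdicCompletion (maximalIdeal A) A)).comap τ₀ → IsUnit (τ₀ y)) ∧
      ((maximalIdeal (AdicCompletion (maximalIdeal A) A)).comap τ₀).comap (algebraMap C C') = q ∧
      τ₀.comp (algebraMap C C') = σ.comp (algebraMap C B) ∧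
      ∀ σ' : B →+* AdicCompletion (maximalIdeal A) A,
        σ'.comp ψ = algebraMap A (AdicCompletion (maximalIdeal A) A) →
        ∀ τ₀' : C' →+* AdicCompletion (maximalIdeal A) A,
          τ₀'.comp (algebraMap C C') = σ'.comp (algebraMap C B) →
          ∀ a : B, σ a - σ' a ∈
            (maximalIdeal A ^ N).map (algebraMap A (AdicCompletion (maximalIdeal A) A)) := by
  letI algRAh : Algebra R (AdicCompletion (maximalIdeal A) A) :=
    ((algebraMap A (AdicCompletion (maximalIdeal A) A)).comp (algebraMap R A)).toAlgebra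
  have hRA : ∀ x : R, algebraMap R (AdicCompletion (maximalIdeal A) A) x =
      algebraMap A (AdicCompletion (maximalIdeal A) A) (algebraMap R A x) := fun _ => rfl
  -- an R-algebra map from a ring map B → Â compatible with ψ
  have mk : ∀ σ' : B →+* AdicCompletion (maximalIdeal A) A,
      σ'.comp ψ = algebraMap A (AdicCompletion (maximalIdeal A) A) →
      ∃ σ₀' : C →ₐ[R] AdicCompletion (maximalIdeal A) A,
        σ₀'.toRingHom = σ'.comp (algebraMap C B) := by
    intro σ' hσ'
    refine ⟨{ toRingHom := σ'.comp (algebraMap C B), commutes' := fun x => ?_ }, rfl⟩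
    change σ' (algebraMap C B (algebraMap R C x)) = _
    rw [← hψ, hRA]
    exact RingHom.congr_fun hσ' _
  obtain ⟨σ₀, hσ₀⟩ := mk σ hσ
  obtain ⟨r, φ, hH2⟩ := H2 (A := A) p hRA N
  obtain ⟨C', i1, i2, i3, τ₀, hτ₀, hmain⟩ := exists_dilatation σ₀
    ((maximalIdeal A ^ N).map (algebraMap A (AdicCompletion (maximalIdeal A) A)))
    (H1 (A := A) p hRA N) r φ hH2
  refine ⟨C', i1, i2, i3, τ₀, ?_, ?_, ?_, ?_⟩
  · intro y hy
    exact IsLocalRing.notMem_maximalIdeal.mp hy
  · rw [Ideal.comap_comap, hτ₀, hσ₀, ← Ideal.comap_comap, comap_eq_of_hloc σ hloc]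
    exact IsLocalization.AtPrime.under_maximalIdeal B q
  · rw [hτ₀, hσ₀]
  · intro σ' hσ' τ₀' hτ₀' a
    obtain ⟨σ₀', hσ₀'⟩ := mk σ' hσ'
    have key := hmain σ₀' τ₀' (by rw [hτ₀', hσ₀'])
    refine sub_mem_of_loc q.primeCompl σ σ' _ (fun c => ?_) a
    have e1 : σ (algebraMap C B c) = σ₀ c := (RingHom.congr_fun hσ₀ c).symm
    have e2 : σ' (algebraMap C B c) = σ₀' c := (RingHom.congr_fun hσ₀' c).symm
    rw [e1, e2]
    exact key c

end Core

section Main
variable {T S : Scheme.{u}} [IsNoetherian T] [IsNoetherian S]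
  (h : T ⟶ S) [LocallyOfFiniteType h] (t : T)

/-- **the dilatation lemma** -/
theorem dilat_main
    (σ : ↑(T.presheaf.stalk t) →+* (AdicCompletion (IsLocalRing.maximalIdeal ↑(S.presheaf.stalk (h t))) ↑(S.presheaf.stalk (h t))))
    (hσ : σ.comp (h.stalkMap t).hom = algebraMap ↑(S.presheaf.stalk (h t)) (AdicCompletion (IsLocalRing.maximalIdeal ↑(S.presheaf.stalk (h t))) ↑(S.presheaf.stalk (h t))))
    (hloc : ∀ a ∈ IsLocalRing.maximalIdeal ↑(T.presheaf.stalk t),
      σ a ∈ (IsLocalRing.maximalIdeal ↑(S.presheaf.stalk (h t))).map (algebraMap ↑(S.presheaf.stalk (h t)) (AdicCompletion (IsLocalRing.maximalIdeal ↑(S.presheaf.stalk (h t))) ↑(S.presheaf.stalk (h t)))))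
    (N : ℕ) :
    ∃ (T' : Scheme.{u}) (g : T' ⟶ T) (t' : T') (hg : g t' = t) (τ : ↑(T'.presheaf.stalk t') →+* (AdicCompletion (IsLocalRing.maximalIdeal ↑(S.presheaf.stalk (h t))) ↑(S.presheaf.stalk (h t)))),
      LocallyOfFiniteType g ∧ QuasiCompact g ∧
      τ.comp ((g.stalkMap t').hom.comp (T.presheaf.stalkCongr (Inseparable.of_eq hg)).inv.hom) = σ ∧
      ∀ (σ' : ↑(T.presheaf.stalk t) →+* (AdicCompletion (IsLocalRing.maximalIdeal ↑(S.presheaf.stalk (h t))) ↑(S.presheaf.stalk (h t)))),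
        σ'.comp (h.stalkMap t).hom = algebraMap ↑(S.presheaf.stalk (h t)) (AdicCompletion (IsLocalRing.maximalIdeal ↑(S.presheaf.stalk (h t))) ↑(S.presheaf.stalk (h t))) →
        (∃ τ' : ↑(T'.presheaf.stalk t') →+* (AdicCompletion (IsLocalRing.maximalIdeal ↑(S.presheaf.stalk (h t))) ↑(S.presheaf.stalk (h t))),
          τ'.comp ((g.stalkMap t').hom.comp (T.presheaf.stalkCongr (Inseparable.of_eq hg)).inv.hom) = σ') →
        ∀ a : ↑(T.presheaf.stalk t), σ a - σ' a ∈ (IsLocalRing.maximalIdeal ↑(S.presheaf.stalk (h t)) ^ N).map (algebraMap ↑(S.presheaf.stalk (h t)) (AdicCompletion (IsLocalRing.maximalIdeal ↑(S.presheaf.stalk (h t))) ↑(S.presheaf.stalk (h t)))) := by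
  classical
  obtain ⟨V, hV, hsV, -⟩ := exists_isAffineOpen_mem_and_subset (x := h.base t) (U := ⊤) trivial
  obtain ⟨U, hU, htU, hUV⟩ := exists_isAffineOpen_mem_and_subset (x := t) (U := h ⁻¹ᵁ V) hsV
  haveI : IsNoetherianRing Γ(S, V) := IsLocallyNoetherian.component_noetherian ⟨V, hV⟩
  letI algRC : Algebra Γ(S, V) Γ(T, U) := (h.appLE V U hUV).hom.toAlgebra
  haveI : Algebra.FiniteType Γ(S, V) Γ(T, U) := h.finiteType_appLE hV hU hUV
  letI algRA : Algebra Γ(S, V) (S.presheaf.stalk (h.base t)) :=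
    S.presheaf.algebra_section_stalk ⟨h.base t, hsV⟩
  haveI locA := hV.isLocalization_stalk ⟨h.base t, hsV⟩
  letI algCB : Algebra Γ(T, U) (T.presheaf.stalk t) := T.presheaf.algebra_section_stalk ⟨t, htU⟩
  haveI locB := hU.isLocalization_stalk ⟨t, htU⟩
  have hψ : ∀ x : Γ(S, V), (h.stalkMap t).hom (algebraMap Γ(S, V) (S.presheaf.stalk (h.base t)) x) =
      algebraMap Γ(T, U) (T.presheaf.stalk t) (algebraMap Γ(S, V) Γ(T, U) x) :=
    fun x => (germ_appLE h t hsV htU hUV x).symm
  obtain ⟨C', i1, i2, i3, τ₀, hunit, hcomap, hτ₀, hmain⟩ :=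
    dilat_core (R := Γ(S, V)) (C := Γ(T, U)) (A := S.presheaf.stalk (h.base t))
      (B := T.presheaf.stalk t) (hV.primeIdealOf ⟨h.base t, hsV⟩).asIdeal
      (hU.primeIdealOf ⟨t, htU⟩).asIdeal (h.stalkMap t).hom hψ σ hσ hloc N
  -- the scheme
  let φ' : Γ(T, U) ⟶ CommRingCat.of C' := CommRingCat.ofHom (algebraMap Γ(T, U) C')
  let q' : Ideal C' := (maximalIdeal (AdicCompletion (IsLocalRing.maximalIdeal
    ↑(S.presheaf.stalk (h.base t))) ↑(S.presheaf.stalk (h.base t)))).comap τ₀
  haveI : q'.IsPrime := Ideal.comap_isPrime _ _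
  let t' : Spec (CommRingCat.of C') := (⟨q', inferInstance⟩ : PrimeSpectrum C')
  have hg : (gg hU φ').base t' = t := by
    have e1 : (Spec.map φ').base t' = hU.primeIdealOf ⟨t, htU⟩ := by
      apply PrimeSpectrum.ext
      exact hcomap
    change hU.fromSpec.base ((Spec.map φ').base t') = t
    rw [e1]
    exact hU.fromSpec_primeIdealOf ⟨t, htU⟩
  -- the lift to the stalk
  let τ : ↑((Spec (CommRingCat.of C')).presheaf.stalk t') →+* (AdicCompletion (IsLocalRing.maximalIdeal
      ↑(S.presheaf.stalk (h.base t))) ↑(S.presheaf.stalk (h.base t))) :=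
    @IsLocalization.lift C' _ q'.primeCompl ((Spec.structureSheaf C').presheaf.stalk t') _
      (StructureSheaf.stalkAlgebra (R := C') t') _ _
      (StructureSheaf.IsLocalization.to_stalk (R := C') t') τ₀ (fun y => hunit y.1 y.2)
  have hτ : ∀ y : C', τ ((StructureSheaf.toStalk C' t').hom y) = τ₀ y := fun y =>
    @IsLocalization.lift_eq C' _ q'.primeCompl ((Spec.structureSheaf C').presheaf.stalk t') _
      (StructureSheaf.stalkAlgebra (R := C') t') _ _
      (StructureSheaf.IsLocalization.to_stalk (R := C') t') τ₀ (fun y => hunit y.1 y.2) y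
  refine ⟨Spec (CommRingCat.of C'), gg hU φ', t', hg, τ, ?_, ?_, ?_, ?_⟩
  · have : LocallyOfFiniteType (Spec.map φ') := by
      rw [HasRingHomProperty.Spec_iff (P := @LocallyOfFiniteType)]
      exact RingHom.finiteType_algebraMap.mpr i3
    unfold gg
    infer_instance
  · infer_instance
  · refine IsLocalization.ringHom_ext (hU.primeIdealOf ⟨t, htU⟩).asIdeal.primeCompl ?_
    refine RingHom.ext (fun c => ?_)
    change τ (((gg hU φ').stalkMap t').hom ((T.presheaf.stalkCongr (Inseparable.of_eq hg)).inv.hom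
      (T.presheaf.germ U t htU c))) = σ (T.presheaf.germ U t htU c)
    rw [stalkMap_gg_germ hU φ' t htU t' hg c, hτ]
    exact RingHom.congr_fun hτ₀ c
  · intro σ' hσ' ⟨τ', hτ'⟩ a
    refine hmain σ' hσ' (τ'.comp (StructureSheaf.toStalk C' t').hom) ?_ a
    refine RingHom.ext (fun c => ?_)
    change τ' ((StructureSheaf.toStalk C' t').hom (φ' c)) = σ' (T.presheaf.germ U t htU c)
    rw [← stalkMap_gg_germ hU φ' t htU t' hg c]
    exact RingHom.congr_fun hτ' _

end Main

end Groth.Agent.Lib.helper12.Dilat
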