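import Mathlib

/-!
# Scheme-theoretic dominance of base changes of ring maps with a linear retraction (helper12)

* `inj_of_isPushout`: if `P = B ⊗_K A`, `Q = C ⊗_K A` (as pushouts in `CommRingCat`) and `ψ : B ⟶ C` has a
  `K`-linear retraction, then the induced `P ⟶ Q` is injective.
* `dominant_of_isPullback`: for `e : k ⟶ E`, `φ : E ⟶ F` with a `k`-linear retraction, `W = T' ×_k Spec E`
  and `V = W ×_{Spec E} Spec F`, the projection `V ⟶ W` is scheme-theoretically dominant (no flatness).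
-/

set_option autoImplicit false
universe u
open CategoryTheory Limits AlgebraicGeometry TensorProduct

namespace Groth.Agent.Lib.Helper12.DomBC

theorem inj_of_isPushout {K A B C P Q : CommRingCat.{u}} (b : K ⟶ B) (a : K ⟶ A) (ψ : B ⟶ C)
    (inB : B ⟶ P) (inA : A ⟶ P) (inC : C ⟶ Q) (inA' : A ⟶ Q)
    (h₁ : IsPushout b a inB inA) (h₂ : IsPushout (b ≫ ψ) a inC inA')
    (m : P ⟶ Q) (hm₁ : inB ≫ m = ψ ≫ inC) (hm₂ : inA ≫ m = inA')
    (ρ : C →+ B) (hρ : ∀ x, ρ (ψ x) = x)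
    (hlin : ∀ (c : K) (x : C), ρ (ψ (b c) * x) = b c * ρ x) :
    Function.Injective m := by
  algebraize [b.hom, a.hom, (b ≫ ψ).hom]
  let ψalg : B →ₐ[K] C := ⟨ψ.hom, fun c => rfl⟩
  let ρlin : C →ₗ[K] B :=
    { toFun := ρ
      map_add' := ρ.map_add
      map_smul' := fun c x => by
        rw [Algebra.smul_def, Algebra.smul_def]
        exact hlin c x }
  let t₁ := CommRingCat.isPushout_tensorProduct K B A
  let t₂ := CommRingCat.isPushout_tensorProduct K C A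
  let e₁ := t₁.isoIsPushout B A h₁
  let e₂ := t₂.isoIsPushout C A h₂
  let M : B ⊗[K] A →ₐ[K] C ⊗[K] A := Algebra.TensorProduct.map ψalg (AlgHom.id K A)
  have he₁l : CommRingCat.ofHom
      (Algebra.TensorProduct.includeLeftRingHom (R := K) (A := B) (B := A)) ≫ e₁.hom = inB :=
    t₁.inl_isoIsPushout_hom B A h₁
  have he₁r : CommRingCat.ofHom
      (Algebra.TensorProduct.includeRight (R := K) (A := B) (B := A)).toRingHom ≫ e₁.hom = inA :=
    t₁.inr_isoIsPushout_hom B A h₁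
  have he₂l : CommRingCat.ofHom
      (Algebra.TensorProduct.includeLeftRingHom (R := K) (A := C) (B := A)) ≫ e₂.hom = inC :=
    t₂.inl_isoIsPushout_hom C A h₂
  have he₂r : CommRingCat.ofHom
      (Algebra.TensorProduct.includeRight (R := K) (A := C) (B := A)).toRingHom ≫ e₂.hom = inA' :=
    t₂.inr_isoIsPushout_hom C A h₂
  have key : e₁.hom ≫ m = CommRingCat.ofHom M.toRingHom ≫ e₂.hom := by
    apply t₁.hom_ext
    · rw [reassoc_of% he₁l, hm₁]
      have : CommRingCat.ofHom (Algebra.TensorProduct.includeLeftRingHom (R := K) (A := B) (B := A)) ≫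
          CommRingCat.ofHom M.toRingHom = ψ ≫
          CommRingCat.ofHom (Algebra.TensorProduct.includeLeftRingHom (R := K) (A := C) (B := A)) := by
        ext x
        simp [M, ψalg]
      rw [reassoc_of% this, he₂l]
    · rw [reassoc_of% he₁r, hm₂]
      have : CommRingCat.ofHom (Algebra.TensorProduct.includeRight (R := K) (A := B) (B := A)).toRingHom ≫
          CommRingCat.ofHom M.toRingHom =
          CommRingCat.ofHom (Algebra.TensorProduct.includeRight (R := K) (A := C) (B := A)).toRingHom := by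
        ext x
        simp [M, ψalg]
      rw [reassoc_of% this, he₂r]
  have hM : Function.Injective M := by
    have hl : ∀ x, (LinearMap.rTensor A ρlin) (M x) = x := by
      intro x
      induction x using TensorProduct.induction_on with
      | zero => simp
      | tmul x y => simp [M, ψalg, ρlin, hρ]
      | add x y hx hy => rw [map_add, map_add, hx, hy]
    exact Function.LeftInverse.injective hl
  have hm : m = e₁.inv ≫ CommRingCat.ofHom M.toRingHom ≫ e₂.hom := by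
    rw [← key, Iso.inv_hom_id_assoc]
  rw [hm]
  intro x y hxy
  have h1 := (ConcreteCategory.bijective_of_isIso e₂.hom).1 hxy
  have h2 := hM h1
  exact (ConcreteCategory.bijective_of_isIso e₁.inv).1 h2

theorem retract_transport {k E F : CommRingCat.{u}} (e : k ⟶ E) (φ : E ⟶ F)
    (ρ : F →+ E) (hρ : ∀ x, ρ (φ x) = x)
    (hlin : ∀ (c : k) (x : F), ρ (φ (e c) * x) = e c * ρ x) :
    ∃ ρ' : Γ(Spec F, ⊤) →+ Γ(Spec E, ⊤), (∀ x, ρ' ((Spec.map φ).appTop x) = x) ∧
      ∀ (c : Γ(Spec k, ⊤)) (x : Γ(Spec F, ⊤)),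
        ρ' ((Spec.map φ).appTop ((Spec.map e).appTop c) * x) = (Spec.map e).appTop c * ρ' x := by
  have natφ : ∀ x, (Scheme.ΓSpecIso F).hom ((Spec.map φ).appTop x) =
      φ ((Scheme.ΓSpecIso E).hom x) := fun x =>
    congrArg (fun h => h.hom x) (Scheme.ΓSpecIso_naturality φ)
  have nate : ∀ c, (Scheme.ΓSpecIso E).hom ((Spec.map e).appTop c) =
      e ((Scheme.ΓSpecIso k).hom c) := fun c =>
    congrArg (fun h => h.hom c) (Scheme.ΓSpecIso_naturality e)
  have hinv : ∀ y, (Scheme.ΓSpecIso E).inv ((Scheme.ΓSpecIso E).hom y) = y := fun y =>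
    congrArg (fun h => h.hom y) (Scheme.ΓSpecIso E).hom_inv_id
  refine ⟨((Scheme.ΓSpecIso E).inv.hom.toAddMonoidHom.comp ρ).comp
    (Scheme.ΓSpecIso F).hom.hom.toAddMonoidHom, ?_, ?_⟩
  · intro x
    change (Scheme.ΓSpecIso E).inv (ρ ((Scheme.ΓSpecIso F).hom ((Spec.map φ).appTop x))) = x
    rw [natφ, hρ, hinv]
  · intro c x
    change (Scheme.ΓSpecIso E).inv (ρ ((Scheme.ΓSpecIso F).hom
      ((Spec.map φ).appTop ((Spec.map e).appTop c) * x))) =
      (Spec.map e).appTop c * (Scheme.ΓSpecIso E).inv (ρ ((Scheme.ΓSpecIso F).hom x))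
    rw [map_mul, natφ, nate, hlin, map_mul, ← nate, hinv]

theorem dominant_of_isPullback {k E F : CommRingCat.{u}} (e : k ⟶ E) (φ : E ⟶ F)
    (ρ : F →+ E) (hρ : ∀ x, ρ (φ x) = x)
    (hlin : ∀ (c : k) (x : F), ρ (φ (e c) * x) = e c * ρ x)
    {T' W V : Scheme.{u}} (t : T' ⟶ Spec k) (pW : W ⟶ T') (w : W ⟶ Spec E)
    (hA : IsPullback pW w t (Spec.map e)) (g : V ⟶ W) (v : V ⟶ Spec F)
    (hB : IsPullback g v w (Spec.map φ)) : IsSchemeTheoreticallyDominant g := by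
  have hpW : IsAffineHom pW := MorphismProperty.of_isPullback hA.flip inferInstance
  obtain ⟨ρ', hρ', hlin'⟩ := retract_transport e φ ρ hρ hlin
  rw [isSchemeTheoreticallyDominant_iff]
  refine Scheme.IdealSheafData.ext_of_iSup_eq_top
    (fun U : T'.affineOpens => ⟨pW ⁻¹ᵁ U.1, U.2.preimage pW⟩) ?_ ?_
  · rw [eq_top_iff]
    intro x _
    have hx : pW x ∈ (⊤ : T'.Opens) := trivial
    rw [← iSup_affineOpens_eq_top T', TopologicalSpace.Opens.mem_iSup] at hx
    obtain ⟨U, hU⟩ := hx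
    exact TopologicalSpace.Opens.mem_iSup.mpr ⟨U, hU⟩
  · intro U
    have hUST : (⊤ : (Spec E).Opens) ≤ (Spec.map e) ⁻¹ᵁ ⊤ := le_of_eq rfl
    have hUSX : U.1 ≤ t ⁻¹ᵁ ⊤ := fun _ _ => trivial
    have hUY : pW ⁻¹ᵁ U.1 = pW ⁻¹ᵁ U.1 ⊓ w ⁻¹ᵁ ⊤ := by simp
    have PA := (isIso_pushoutSection_iff hA hUST hUSX hUY).mp
      (isIso_pushoutSection_of_isAffineOpen hA hUST hUSX hUY (isAffineOpen_top _)
        (isAffineOpen_top _) U.2)
    have hUST' : (⊤ : (Spec F).Opens) ≤ (Spec.map φ) ⁻¹ᵁ ⊤ := le_of_eq rfl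
    have hUSX' : pW ⁻¹ᵁ U.1 ≤ w ⁻¹ᵁ ⊤ := fun _ _ => trivial
    have hUY' : g ⁻¹ᵁ (pW ⁻¹ᵁ U.1) = g ⁻¹ᵁ (pW ⁻¹ᵁ U.1) ⊓ v ⁻¹ᵁ ⊤ := by simp
    have PB := (isIso_pushoutSection_iff hB hUST' hUSX' hUY').mp
      (isIso_pushoutSection_of_isAffineOpen hB hUST' hUSX' hUY' (isAffineOpen_top _)
        (isAffineOpen_top _) (U.2.preimage pW))
    have hinj : Function.Injective (g.appLE (pW ⁻¹ᵁ U.1) (g ⁻¹ᵁ (pW ⁻¹ᵁ U.1)) le_rfl) := by
      refine inj_of_isPushout ((Spec.map e).appLE ⊤ ⊤ hUST) (t.appLE ⊤ U.1 hUSX)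
        ((Spec.map φ).appLE ⊤ ⊤ hUST') _ _ _ _ PA.flip (PA.flip.paste_horiz PB.flip) _ PB.w rfl
        ρ' ?_ ?_
      · intro x
        exact hρ' x
      · intro c x
        exact hlin' c x
    have h0 : g.app (pW ⁻¹ᵁ U.1) = g.appLE (pW ⁻¹ᵁ U.1) (g ⁻¹ᵁ (pW ⁻¹ᵁ U.1)) le_rfl :=
      Scheme.Hom.app_eq_appLE g
    rw [← h0] at hinj
    rw [eq_bot_iff.mpr (le_trans (g.ideal_ker_le _) ?_)]
    · simp
    · rw [(RingHom.injective_iff_ker_eq_bot _).mp hinj]

end Groth.Agent.Lib.Helper12.DomBC
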