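import Mathlib
import Groth.Agent.Lib.Helper16.H1Pair
import Groth.Agent.Lib.Helper20.DualDev
import Groth.Agent.Lib.Helper7.LocalLift
import Groth.Agent.Lib.Helper11.SerreCrit

/-!
# Sections of a dualizing module supported at closed points vanish (helper12)

`X` a scheme over a field `k`, `ω` quasi-coherent with a linear form `t : H^1(X, ω) → k` such that
`Hom(F, ω) → H^1(X, F)^∨` is bijective for all quasi-coherent `F` (helper20's `DualDev.Good k t F`).
* `finite_of_forall_isClosed_singleton`, `exists_isOpen_inter_subset_singleton`: a closed subset of a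
  Noetherian quasi-sober space consisting of closed points is finite (hence discrete).
* `subsingleton_HU_succ_of_forall`: `H^{n+1}(P, G) = 0` if `G` vanishes on all opens inside `P`.
* `subsingleton_HH_one_of_supported`: `H^1(X, F) = 0` for `F` quasi-coherent, `X = W ∪ P`, `W` affine, `F|_P = 0`.
* `exists_glue_zero`: glue a section over `W` vanishing on `W ⊓ P` with `0` on `P`.
* `subsingleton_image_ofSec`: the image of `ofSec ω m : O ⟶ ω` vanishes where `m` does.
* `eq_zero_of_good`: a section of `ω` over an affine `W` vanishing on `W ⊓ P` (`W ⊔ P = ⊤`) is zero.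
* `injective_res_of_good`: for `X` Noetherian and `U` open containing all non-closed points,
  `ω(V) → ω(V ⊓ U)` is injective.
-/

set_option autoImplicit false
universe u
open CategoryTheory CategoryTheory.Limits AlgebraicGeometry TopologicalSpace Opposite

namespace Groth.Agent.Lib.Helper12.DualSupp

open Groth.Agent.Lib.helper27 Groth.Agent.Lib.helper16 Groth.Agent.Lib.helper11.SerreCrit
open Groth.Agent.Lib.helper11.GenLocus Groth.Agent.Lib.Helper20.DualDev

section top

theorem finite_of_forall_isClosed_singleton {X : Type*} [TopologicalSpace X] [NoetherianSpace X]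
    [QuasiSober X] (T : Set X) (hT : IsClosed T) (h : ∀ x ∈ T, IsClosed ({x} : Set X)) :
    T.Finite := by
  obtain ⟨S, hSfin, hScl, hSirr, hS⟩ := NoetherianSpace.exists_finite_set_isClosed_irreducible hT
  rw [hS]
  refine Set.Finite.sUnion hSfin ?_
  intro t ht
  obtain ⟨ξ, hξ⟩ := QuasiSober.sober (hSirr t ht) (hScl t ht)
  have hξt : ξ ∈ t := hξ.mem
  have hξT : ξ ∈ T := by rw [hS]; exact ⟨t, ht, hξt⟩
  have h1 : t = {ξ} := by
    rw [← hξ.def, (h ξ hξT).closure_eq]
  rw [h1]
  exact Set.finite_singleton ξ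

theorem exists_isOpen_inter_subset_singleton {X : Type*} [TopologicalSpace X] [NoetherianSpace X]
    [QuasiSober X] (T : Set X) (hT : IsClosed T) (h : ∀ x ∈ T, IsClosed ({x} : Set X)) (x : X) :
    ∃ W : Set X, IsOpen W ∧ x ∈ W ∧ W ∩ T ⊆ {x} := by
  have hfin := finite_of_forall_isClosed_singleton T hT h
  have hfin' : (T \ {x}).Finite := hfin.subset Set.sdiff_subset
  have hcl : IsClosed (T \ {x}) := by
    have : T \ {x} = ⋃ y ∈ T \ {x}, {y} := (Set.biUnion_of_singleton (T \ {x})).symm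
    rw [this]
    exact hfin'.isClosed_biUnion (fun y hy => h y hy.1)
  refine ⟨(T \ {x})ᶜ, hcl.isOpen_compl, fun hx => hx.2 rfl, ?_⟩
  rintro y ⟨hy1, hy2⟩
  by_contra hne
  exact hy1 ⟨hy2, hne⟩

end top

lemma isZero_sheaf_of_subsingleton {X : TopCat.{u}} (G : CohTop.Ab X)
    (h : ∀ U, Subsingleton (G.obj.obj U)) : IsZero G := by
  rw [IsZero.iff_id_eq_zero]
  ext U x
  exact Subsingleton.elim _ _

lemma subsingleton_H_succ_of_isZero {X : TopCat.{u}} (G : CohTop.Ab X) (hG : IsZero G) (n : ℕ) :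
    Subsingleton (CohTop.H G (n + 1)) := by
  have : Injective G := hG.injective
  exact Abelian.Ext.subsingleton_of_injective _ _ _

theorem subsingleton_HU_succ_of_forall {X : TopCat.{u}} (G : CohTop.Ab X) (P : Opens X)
    (hP : ∀ Q : Opens X, Q ≤ P → Subsingleton (G.obj.obj (op Q))) (n : ℕ) :
    Subsingleton (CohTop.HU G (n + 1) P) := by
  obtain ⟨e⟩ := OpenRestr.HU_equiv_H_restr P G (n + 1)
  have hz : IsZero (CohTop.restr G P) := by
    apply isZero_sheaf_of_subsingleton
    intro Q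
    apply hP
    rintro _ ⟨y, -, rfl⟩
    exact y.2
  have := subsingleton_H_succ_of_isZero _ hz n
  exact e.toEquiv.subsingleton

theorem subsingleton_HH_one_of_supported {X : Scheme.{u}} (F : X.Modules) [F.IsQuasicoherent]
    (W P : X.Opens) (hW : IsAffineOpen W) (hWP : W ⊔ P = ⊤)
    (hP : ∀ Q : X.Opens, Q ≤ P → Subsingleton Γ(F, Q)) :
    Subsingleton (Coh.HH X F 1) := by
  have h1 := H1Pair.subsingleton_HU_one_of_pair (Coh.toAb F) W P
    (SerreVan.subsingleton_HU_of_isAffineOpen F W hW 0)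
    (subsingleton_HU_succ_of_forall (Coh.toAb F) P hP 0) ?_
  · rw [hWP] at h1
    exact (SerreVan.HEquivHU (Coh.toAb F) 1).symm.toEquiv.subsingleton
  · intro z
    have : Subsingleton ((Coh.toAb F).obj.obj (op (W ⊓ P))) := hP _ inf_le_right
    exact ⟨0, 0, Subsingleton.elim _ _⟩


variable {X : Scheme.{u}}

lemma app_injective_of_mono {M M' : X.Modules} (φ : M ⟶ M') [Mono φ] (U : X.Opens) :
    Function.Injective (φ.app U) := by
  have h1 : Mono ((Scheme.Modules.toPresheaf X).map φ) := inferInstance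
  have h2 : Mono (((Scheme.Modules.toPresheaf X).map φ).app (op U)) := inferInstance
  exact (AddCommGrpCat.mono_iff_injective _).1 h2

/-- glue a section on `W` vanishing on `W ⊓ P` with zero on `P` -/
theorem exists_glue_zero (ω : X.Modules) (W P : X.Opens) (hWP : W ⊔ P = ⊤) (s : Γ(ω, W))
    (hs : ω.presheaf.map (homOfLE (inf_le_left : W ⊓ P ≤ W)).op s = 0) :
    ∃ m : Γ(ω, ⊤), ω.presheaf.map (homOfLE (le_top : W ≤ ⊤)).op m = s ∧
      ω.presheaf.map (homOfLE (le_top : P ≤ ⊤)).op m = 0 := by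
  let Fs : TopCat.Sheaf Ab X := ⟨ω.presheaf, ω.isSheaf⟩
  let Uc : Bool → X.Opens := fun b => if b then W else P
  let sf : ∀ b : Bool, ToType (Fs.1.obj (op (Uc b))) := fun b =>
    match b with
    | true => s
    | false => 0
  have hs' : ∀ (h : P ⊓ W ≤ W), ω.presheaf.map (homOfLE h).op s = 0 := by
    intro h
    have h1 : (homOfLE h).op = (homOfLE (inf_le_left : W ⊓ P ≤ W)).op ≫
        (homOfLE (le_of_eq (inf_comm P W) : P ⊓ W ≤ W ⊓ P)).op := rfl
    rw [h1, Functor.map_comp, ConcreteCategory.comp_apply, hs, map_zero]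
  have hcompat : TopCat.Presheaf.IsCompatible Fs.1 Uc sf := by
    intro i j
    match i, j with
    | true, true => rfl
    | true, false =>
      change ω.presheaf.map _ s = ω.presheaf.map _ 0
      rw [map_zero]
      exact hs
    | false, true =>
      change ω.presheaf.map _ 0 = ω.presheaf.map _ s
      rw [map_zero]
      exact (hs' _).symm
    | false, false => rfl
  obtain ⟨m, hm, -⟩ := TopCat.Sheaf.existsUnique_gluing' Fs Uc ⊤ (fun b => homOfLE le_top)
    (by
      rw [← hWP]
      refine sup_le (le_iSup Uc true) (le_iSup Uc false)) sf hcompat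
  exact ⟨m, hm true, hm false⟩

/-- a section of the image of `ofSec ω m` over an open where `m` vanishes is zero -/
theorem subsingleton_image_ofSec (ω : X.Modules) (m : Γ(ω, ⊤)) (P : X.Opens)
    (hmP : ω.presheaf.map (homOfLE (le_top : P ≤ ⊤)).op m = 0) (Q : X.Opens) (hQ : Q ≤ P) :
    Subsingleton Γ(Abelian.image (ofSec ω m), Q) := by
  set φ := ofSec ω m with hφ
  refine ⟨fun a b => ?_⟩
  suffices h : ∀ a : Γ(Abelian.image φ, Q), a = 0 by rw [h a, h b]
  intro a
  apply app_injective_of_mono (Abelian.image.ι φ) Q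
  rw [map_zero]
  have hl := fun y : Q => Groth.Agent.Lib.helper7.LocalLift.exists_local_lift
    (Abelian.factorThruImage φ) Q a y.1 y.2
  choose Q' hQ' hyQ' r hr using hl
  refine TopCat.Sheaf.eq_of_locally_eq' ⟨ω.presheaf, ω.isSheaf⟩ Q' Q (fun y => homOfLE (hQ' y))
    (fun y hy => (Opens.mem_iSup).2 ⟨⟨y, hy⟩, hyQ' ⟨y, hy⟩⟩) _ _ ?_
  intro y
  change ω.presheaf.map (homOfLE (hQ' y)).op ((Abelian.image.ι φ).app Q a) =
    ω.presheaf.map (homOfLE (hQ' y)).op 0
  rw [map_zero]
  have h1 := Groth.Agent.Lib.helper7.LocalLift.app_naturality' (Abelian.image.ι φ)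
    (homOfLE (hQ' y)).op
  have h2 := ConcreteCategory.congr_hom h1 a
  rw [ConcreteCategory.comp_apply, ConcreteCategory.comp_apply] at h2
  rw [← h2, ← hr y]
  have h3 : (Abelian.image.ι φ).app (Q' y) ((Abelian.factorThruImage φ).app (Q' y) (r y)) =
      φ.app (Q' y) (r y) := by
    rw [← ConcreteCategory.comp_apply, ← Scheme.Modules.Hom.comp_app, Abelian.image.fac]
  rw [h3]
  have h4 := app_apply φ (Q' y) (r y)
  have h5 : sec φ (Q' y) = 0 := by
    rw [hφ, sec_ofSec]
    have h6 : (homOfLE (le_top : Q' y ≤ ⊤)).op = (homOfLE (le_top : P ≤ ⊤)).op ≫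
        (homOfLE ((hQ' y).trans hQ)).op := rfl
    change ω.presheaf.map (homOfLE (le_top : Q' y ≤ ⊤)).op m = 0
    rw [h6, Functor.map_comp, ConcreteCategory.comp_apply, hmP, map_zero]
  rw [h5] at h4
  exact h4.trans (smul_zero _)

/-- **Key lemma**: if `Hom(F, ω) ≃ H^1(F)^∨` for all quasi-coherent `F`, then a section of `ω` over an
affine open `W` which vanishes on `W ⊓ P`, where `W ⊔ P = ⊤`, is zero. -/
theorem eq_zero_of_good (k : Type u) [Field k] [X.Over (Spec (CommRingCat.of k))]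
    (ω : X.Modules) [ω.IsQuasicoherent] (t : Coh.HH X ω 1 →ₗ[k] k)
    (hgood : ∀ F : X.Modules, F.IsQuasicoherent → Good k t F)
    (W P : X.Opens) (hW : IsAffineOpen W) (hWP : W ⊔ P = ⊤) (s : Γ(ω, W))
    (hs : ω.presheaf.map (homOfLE (inf_le_left : W ⊓ P ≤ W)).op s = 0) : s = 0 := by
  obtain ⟨m, hmW, hmP⟩ := exists_glue_zero ω W P hWP s hs
  set φ := ofSec ω m with hφ
  have hF : (Abelian.image φ).IsQuasicoherent := isQuasicoherent_image φ
  have hP : ∀ Q : X.Opens, Q ≤ P → Subsingleton Γ(Abelian.image φ, Q) :=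
    fun Q hQ => subsingleton_image_ofSec ω m P hmP Q hQ
  have hH : Subsingleton (Coh.HH X (Abelian.image φ) 1) :=
    subsingleton_HH_one_of_supported _ W P hW hWP hP
  have hι : Abelian.image.ι φ = 0 := by
    apply (hgood _ hF).1
    apply LinearMap.ext
    intro z
    rw [Subsingleton.elim z 0, map_zero, map_zero]
  have hφ0 : φ = 0 := by rw [← Abelian.image.fac φ, hι, comp_zero]
  have h1 := app_apply φ ⊤ 1
  have h2 : sec φ ⊤ = m := by
    rw [hφ, sec_ofSec]
    change ω.presheaf.map (𝟙 _) m = m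
    rw [ω.presheaf.map_id]
    rfl
  rw [h2, one_smul, hφ0] at h1
  rw [← hmW, ← h1]
  have h3 : Scheme.Modules.Hom.app (0 : Coh.structureModule X ⟶ ω) ⊤ = 0 := rfl
  rw [h3]
  change ω.presheaf.map _ 0 = 0
  rw [map_zero]

/-- **No sections supported at closed points**: `X` Noetherian over a field `k`, `ω` quasi-coherent with
`Hom(F, ω) ≃ H^1(F)^∨` for all quasi-coherent `F`; if the open `U` contains all non-closed points then
`ω(V) → ω(V ⊓ U)` is injective for every open `V`. -/
theorem injective_res_of_good [IsNoetherian X] (k : Type u) [Field k]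
    [X.Over (Spec (CommRingCat.of k))]
    (ω : X.Modules) [ω.IsQuasicoherent] (t : Coh.HH X ω 1 →ₗ[k] k)
    (hgood : ∀ F : X.Modules, F.IsQuasicoherent → Good k t F)
    (U : X.Opens) (hU : ∀ x : X, ¬ IsClosed ({x} : Set X) → x ∈ U) (V : X.Opens) :
    Function.Injective (ω.presheaf.map (homOfLE (inf_le_left : V ⊓ U ≤ V)).op) := by
  rw [injective_iff_map_eq_zero]
  intro s hs
  have hloc : ∀ x : V, ∃ (W : X.Opens) (hWV : W ≤ V), x.1 ∈ W ∧
      ω.presheaf.map (homOfLE hWV).op s = 0 := by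
    rintro ⟨x, hxV⟩
    by_cases hxU : x ∈ U
    · exact ⟨V ⊓ U, inf_le_left, ⟨hxV, hxU⟩, hs⟩
    · have hxcl : IsClosed ({x} : Set X) := by
        by_contra hc
        exact hxU (hU x hc)
      obtain ⟨W₀, hW₀o, hxW₀, hW₀T⟩ := exists_isOpen_inter_subset_singleton ((U : Set X)ᶜ)
        U.isOpen.isClosed_compl (fun y hy => by by_contra hc; exact hy (hU y hc)) x
      obtain ⟨W, hWaff, hxW, hWle⟩ := Opens.isBasis_iff_nbhd.mp X.isBasis_affineOpens
        (show x ∈ V ⊓ (⟨W₀, hW₀o⟩ : X.Opens) from ⟨hxV, hxW₀⟩)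
      let P : X.Opens := ⟨{x}ᶜ, hxcl.isOpen_compl⟩
      have hWP : W ⊔ P = ⊤ := by
        rw [eq_top_iff]
        intro y _
        by_cases hy : y = x
        · exact Or.inl (hy ▸ hxW)
        · exact Or.inr hy
      have hWPU : W ⊓ P ≤ V ⊓ U := by
        rintro y ⟨hyW, hyP⟩
        refine ⟨(hWle hyW).1, ?_⟩
        by_contra hyU
        exact hyP (hW₀T ⟨(hWle hyW).2, hyU⟩)
      refine ⟨W, hWle.trans inf_le_left, hxW, ?_⟩
      apply eq_zero_of_good k ω t hgood W P hWaff hWP
      have h1 : (homOfLE (hWle.trans inf_le_left : W ≤ V)).op ≫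
          (homOfLE (inf_le_left : W ⊓ P ≤ W)).op =
          (homOfLE (inf_le_left : V ⊓ U ≤ V)).op ≫ (homOfLE hWPU).op := rfl
      rw [← ConcreteCategory.comp_apply, ← Functor.map_comp, h1, Functor.map_comp,
        ConcreteCategory.comp_apply, hs, map_zero]
  choose W hWV hxW hW0 using hloc
  refine TopCat.Sheaf.eq_of_locally_eq' ⟨ω.presheaf, ω.isSheaf⟩ W V (fun x => homOfLE (hWV x))
    (fun x hx => Opens.mem_iSup.2 ⟨⟨x, hx⟩, hxW ⟨x, hx⟩⟩) s 0 ?_
  intro x
  change ω.presheaf.map (homOfLE (hWV x)).op s = ω.presheaf.map (homOfLE (hWV x)).op 0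
  rw [map_zero]
  exact hW0 x

end Groth.Agent.Lib.Helper12.DualSupp
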