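import Mathlib
import Groth.Agent.Lib.Helper12.AmpleDescent
import Groth.Agent.Lib.Helper16.QCohEpi
import Groth.Agent.Lib.Helper16.QCohPullback

/-!
# Faithfully flat descent of epimorphisms of quasi-coherent modules (helper12)

* `surjective_of_isBC`: faithfully flat descent of surjectivity of linear maps (`IsBC` form).
* `epi_of_epi_pullback`: `p` affine flat surjective, `ψ` a morphism of quasi-coherent modules with `p^* ψ` epi ⇒ `ψ` epi.
-/

set_option autoImplicit false
set_option linter.style.haveILetI false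
universe u
open CategoryTheory CategoryTheory.Limits AlgebraicGeometry TopologicalSpace Opposite TensorProduct
open Scheme.Modules
open Groth.Agent.Lib.helper8.PullbackUnit Groth.Agent.Lib.helper8.FlatBC
open Groth.Agent.Lib.helper12.AmpleDescent

namespace Groth.Agent.Lib.helper12.EpiDescent

/-- faithfully flat descent of surjectivity, in terms of `IsBC` -/
theorem surjective_of_isBC {R R' : Type u} [CommRing R] [CommRing R'] (φ : R →+* R')
    (hφ : φ.FaithfullyFlat) {M N M' N' : Type u}
    [AddCommGroup M] [Module R M] [AddCommGroup N] [Module R N]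
    [AddCommGroup M'] [Module R' M'] [AddCommGroup N'] [Module R' N']
    {kM : M →+ M'} {kN : N →+ N'} (hM : IsBC φ kM) (hN : IsBC φ kN)
    (ψ : M →ₗ[R] N) (ψ' : M' →ₗ[R'] N') (hcomm : ∀ m, ψ' (kM m) = kN (ψ m))
    (hsurj : Function.Surjective ψ') : Function.Surjective ψ := by
  letI : Algebra R R' := φ.toAlgebra
  haveI : Module.FaithfullyFlat R R' := hφ
  let C := N ⧸ LinearMap.range ψ
  let π : N →ₗ[R] C := (LinearMap.range ψ).mkQ
  let T := R' ⊗[R] C
  let h : N →+ T :=
    { toFun := fun n => (1 : R') ⊗ₜ[R] π n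
      map_zero' := by simp
      map_add' := fun a b => by simp [TensorProduct.tmul_add] }
  have hh : ∀ (r : R) (n : N), h (r • n) = φ r • h n := by
    intro r n
    change (1 : R') ⊗ₜ[R] π (r • n) = φ r • ((1 : R') ⊗ₜ[R] π n)
    rw [LinearMap.map_smul, TensorProduct.tmul_smul, TensorProduct.smul_tmul',
      TensorProduct.smul_tmul', smul_eq_mul, mul_one, Algebra.smul_def, mul_one]
    rfl
  obtain ⟨h', hh', -⟩ := hN.existsUnique_lift T h hh
  have h0 : h' ∘ₗ ψ' = 0 := by
    obtain ⟨z, -, hz⟩ := hM.existsUnique_lift T (0 : M →+ T) (by intro r n; simp)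
    rw [hz (h' ∘ₗ ψ') (by
      intro m
      change h' (ψ' (kM m)) = 0
      rw [hcomm, hh']
      change (1 : R') ⊗ₜ[R] π (ψ m) = 0
      have : π (ψ m) = 0 := by
        rw [Submodule.mkQ_apply, Submodule.Quotient.mk_eq_zero]
        exact ⟨m, rfl⟩
      rw [this, TensorProduct.tmul_zero]), hz 0 (by intro m; rfl)]
  have h1 : h' = 0 := by
    ext x
    obtain ⟨y, rfl⟩ := hsurj x
    exact congr($h0 y)
  have h2 : ∀ c : C, (1 : R') ⊗ₜ[R] c = 0 := by
    intro c
    obtain ⟨n, rfl⟩ := Submodule.mkQ_surjective _ c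
    have := hh' n
    rw [h1] at this
    exact this.symm
  haveI : Subsingleton T := by
    refine ⟨fun a b => ?_⟩
    have : ∀ t : T, t = 0 := by
      intro t
      induction t using TensorProduct.induction_on with
      | zero => rfl
      | tmul a c =>
        have : a ⊗ₜ[R] c = a • ((1 : R') ⊗ₜ[R] c) := by
          rw [TensorProduct.smul_tmul', smul_eq_mul, mul_one]
        rw [this, h2, smul_zero]
      | add x y hx hy => rw [hx, hy, add_zero]
    rw [this a, this b]
  haveI : Subsingleton C := Module.FaithfullyFlat.lTensor_reflects_triviality R R' C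
  intro n
  have : π n = 0 := Subsingleton.elim _ _
  rw [Submodule.mkQ_apply, Submodule.Quotient.mk_eq_zero] at this
  exact this

/-- **faithfully flat descent of epimorphisms of quasi-coherent modules** along an affine flat
surjective morphism -/
theorem epi_of_epi_pullback {X X' : Scheme.{u}} (p : X' ⟶ X) [IsAffineHom p] [Flat p] [Surjective p]
    {M N : X.Modules} [M.IsQuasicoherent] [N.IsQuasicoherent] (ψ : M ⟶ N)
    (h : Epi ((Scheme.Modules.pullback p).map ψ)) : Epi ψ := by
  haveI : ((Scheme.Modules.pullback p).obj M).IsQuasicoherent :=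
    Groth.Agent.Lib.helper16.QCohPullback.isQuasicoherent_pullback p M
  haveI : ((Scheme.Modules.pullback p).obj N).IsQuasicoherent :=
    Groth.Agent.Lib.helper16.QCohPullback.isQuasicoherent_pullback p N
  refine Groth.Agent.Lib.helper16.QCohEpi.epi_of_surjective_on_affine_cover ψ
    (fun U : X.affineOpens => U.1) (fun U => U.2) (fun x => ?_) (fun U => ?_)
  · obtain ⟨U, hU, hxU, -⟩ := Opens.isBasis_iff_nbhd.mp X.isBasis_affineOpens
      (show x ∈ (⊤ : X.Opens) from trivial)
    exact ⟨⟨U, hU⟩, hxU⟩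
  · have hU' : IsAffineOpen (p ⁻¹ᵁ U.1) := U.2.preimage p
    have e : p ⁻¹ᵁ U.1 ≤ p ⁻¹ᵁ U.1 := le_rfl
    have hsurj' := Groth.Agent.Lib.helper16.QCohEpi.surjective_app_of_epi
      ((Scheme.Modules.pullback p).map ψ) hU'
    have hφ : (p.appLE U.1 (p ⁻¹ᵁ U.1) e).hom.FaithfullyFlat := by
      haveI : IsAffine (U.1 : Scheme.{u}) := U.2
      haveI : IsAffine ((p ⁻¹ᵁ U.1 : X'.Opens) : Scheme.{u}) := hU'
      haveI : Surjective (p ∣_ U.1) :=
        MorphismProperty.of_isPullback (P := @Surjective) (isPullback_morphismRestrict p U.1).flip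
          inferInstance
      have h1 : (p ∣_ U.1).appTop.hom.FaithfullyFlat :=
        (Flat.flat_and_surjective_iff_faithfullyFlat_of_isAffine (f := p ∣_ U.1)).mp
          ⟨inferInstance, inferInstance⟩
      rw [← Scheme.Hom.resLE_eq_morphismRestrict] at h1
      exact (RingHom.FaithfullyFlat.respectsIso.arrow_mk_iso_iff
        (arrowResLEAppIso p U.1 (p ⁻¹ᵁ U.1) le_rfl)).mp h1
    let ψL : Γ(M, U.1) →ₗ[Γ(X, U.1)] Γ(N, U.1) :=
      { toFun := (ψ.app U.1).hom
        map_add' := fun a b => map_add _ a b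
        map_smul' := fun r a => Hom.app_smul ψ r a }
    let ψL' : Γ((Scheme.Modules.pullback p).obj M, p ⁻¹ᵁ U.1) →ₗ[Γ(X', p ⁻¹ᵁ U.1)]
        Γ((Scheme.Modules.pullback p).obj N, p ⁻¹ᵁ U.1) :=
      { toFun := (((Scheme.Modules.pullback p).map ψ).app (p ⁻¹ᵁ U.1)).hom
        map_add' := fun a b => map_add _ a b
        map_smul' := fun r a => Hom.app_smul _ r a }
    exact surjective_of_isBC _ hφ (isBC_ρ p U.2 hU' e M) (isBC_ρ p U.2 hU' e N) ψL ψL'
      (fun m => ρ_naturality p ψ e m) hsurj'

end Groth.Agent.Lib.helper12.EpiDescent
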