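import Mathlib
import Groth.Prelude.Def_DeRham
set_option linter.style.haveILetI false
set_option linter.unusedSectionVars false

namespace Groth.Agent.Lib.helper12.ExtQuot

open exteriorPower Function

section Ker

variable {A : Type*} [CommRing A] {M M' : Type*} [AddCommGroup M] [Module A M]
  [AddCommGroup M'] [Module A M']

/-- The span of the wedges having one entry in the kernel of `π`. -/
def kerSpan (π : M →ₗ[A] M') (p : ℕ) : Submodule A (⋀[A]^p M) :=
  Submodule.span A {x | ∃ m : Fin p → M, (∃ i, π (m i) = 0) ∧ x = ιMulti A p m}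

lemma ιMulti_mem_kerSpan (π : M →ₗ[A] M') {p : ℕ} (m : Fin p → M) (i : Fin p) (h : π (m i) = 0) :
    ιMulti A p m ∈ kerSpan π p :=
  Submodule.subset_span ⟨m, ⟨i, h⟩, rfl⟩

lemma ιMulti_update_mem_kerSpan (π : M →ₗ[A] M') {p : ℕ} [DecidableEq (Fin p)] (m : Fin p → M)
    (i : Fin p) {n : M}
    (h : π n = 0) : ιMulti A p (update m i n) ∈ kerSpan π p :=
  ιMulti_mem_kerSpan π _ i (by rw [update_self]; exact h)

lemma ιMulti_sub_mem_kerSpan (π : M →ₗ[A] M') {p : ℕ} (m m' : Fin p → M)
    (h : ∀ i, π (m i) = π (m' i)) : ιMulti A p m - ιMulti A p m' ∈ kerSpan π p := by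
  classical
  have key : ∀ J : Finset (Fin p),
      ιMulti A p m - ιMulti A p (fun i => if i ∈ J then m' i else m i) ∈ kerSpan π p := by
    intro J
    induction J using Finset.induction_on with
    | empty => simp
    | insert j J hj ih =>
      set hyb : Fin p → M := fun i => if i ∈ J then m' i else m i with hhyb
      have h1 : (fun i => if i ∈ insert j J then m' i else m i) = update hyb j (m' j) := by
        funext i
        by_cases hij : i = j
        · subst hij; simp
        · rw [update_of_ne hij]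
          simp [hhyb, Finset.mem_insert, hij]
      have h2 : hyb = update hyb j (m j) := by
        rw [eq_comm, update_eq_self_iff]
        simp [hhyb, hj]
      have h3 : ιMulti A p hyb - ιMulti A p (update hyb j (m' j)) =
          ιMulti A p (update hyb j (m j - m' j)) := by
        nth_rewrite 1 [h2]
        rw [← AlternatingMap.map_update_sub]
      have h4 : ιMulti A p (update hyb j (m j - m' j)) ∈ kerSpan π p :=
        ιMulti_update_mem_kerSpan π _ j (by rw [map_sub, h j, sub_self])
      rw [h1]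
      have : ιMulti A p m - ιMulti A p (update hyb j (m' j)) =
          (ιMulti A p m - ιMulti A p hyb) + (ιMulti A p hyb - ιMulti A p (update hyb j (m' j))) := by
        abel
      rw [this, h3]
      exact (kerSpan π p).add_mem ih h4
  have := key Finset.univ
  simpa using this

/-- The kernel of the map induced on exterior powers by a surjection is spanned by the wedges
with one entry in the kernel. -/
theorem ker_map_le (π : M →ₗ[A] M') (hπ : Surjective π) (p : ℕ) :
    LinearMap.ker (exteriorPower.map p π) ≤ kerSpan π p := by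
  classical
  let s : M' → M := surjInv hπ
  have hs : ∀ x, π (s x) = x := surjInv_eq hπ
  let F : M' [⋀^Fin p]→ₗ[A] (⋀[A]^p M ⧸ kerSpan π p) :=
    { toFun := fun m' => Submodule.Quotient.mk (ιMulti A p (s ∘ m'))
      map_update_add' := by
        intro _ m' i x y
        rw [← Submodule.Quotient.mk_add, Submodule.Quotient.eq]
        have e : ∀ z, s ∘ update m' i z = update (s ∘ m') i (s z) := fun z => by
          rw [comp_update]
        rw [e, e, e, ← AlternatingMap.map_update_add, ← AlternatingMap.map_update_sub]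
        refine ιMulti_update_mem_kerSpan π _ i ?_
        rw [map_sub, map_add, hs, hs, hs, sub_self]
      map_update_smul' := by
        intro _ m' i c x
        rw [← Submodule.Quotient.mk_smul, Submodule.Quotient.eq]
        have e : ∀ z, s ∘ update m' i z = update (s ∘ m') i (s z) := fun z => by
          rw [comp_update]
        rw [e, e, ← AlternatingMap.map_update_smul, ← AlternatingMap.map_update_sub]
        refine ιMulti_update_mem_kerSpan π _ i ?_
        rw [map_sub, map_smul, hs, hs, sub_self]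
      map_eq_zero_of_eq' := by
        intro v i j hij hne
        have : ιMulti A p (s ∘ v) = 0 :=
          (ιMulti A p).map_eq_zero_of_eq (s ∘ v) (by simp [hij]) hne
        rw [this, Submodule.Quotient.mk_zero] }
  let Fl : ⋀[A]^p M' →ₗ[A] (⋀[A]^p M ⧸ kerSpan π p) := alternatingMapLinearEquiv F
  have hcomp : Fl ∘ₗ exteriorPower.map p π = (kerSpan π p).mkQ := by
    apply exteriorPower.linearMap_ext
    ext m
    simp only [LinearMap.compAlternatingMap_apply, LinearMap.comp_apply, map_apply_ιMulti,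
      Submodule.mkQ_apply]
    change alternatingMapLinearEquiv F (ιMulti A p (π ∘ m)) = _
    rw [alternatingMapLinearEquiv_apply_ιMulti]
    change Submodule.Quotient.mk (ιMulti A p (s ∘ (π ∘ m))) = _
    rw [Submodule.Quotient.eq]
    exact ιMulti_sub_mem_kerSpan π _ _ (fun i => by simp [hs])
  intro x hx
  have h1 : (kerSpan π p).mkQ x = Fl (exteriorPower.map p π x) := by
    rw [← hcomp]; rfl
  rw [LinearMap.mem_ker] at hx
  rw [hx, map_zero, Submodule.mkQ_apply, Submodule.Quotient.mk_eq_zero] at h1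
  exact h1

end Ker


section Ker2

variable {A : Type*} [CommRing A] {M M' : Type*} [AddCommGroup M] [Module A M]
  [AddCommGroup M'] [Module A M']

lemma kerSpan_succ_le (π : M →ₗ[A] M') (p : ℕ) :
    kerSpan π (p + 1) ≤ Submodule.span A
      {x | ∃ (n : M) (w : Fin p → M), π n = 0 ∧ x = ιMulti A (p + 1) (Fin.cons n w)} := by
  unfold kerSpan
  rw [Submodule.span_le]
  rintro _ ⟨m, ⟨i, hi⟩, rfl⟩
  set σ : Equiv.Perm (Fin (p + 1)) := Equiv.swap 0 i with hσ
  have h1 : ιMulti A (p + 1) (m ∘ σ) = Equiv.Perm.sign σ • ιMulti A (p + 1) m :=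
    AlternatingMap.map_perm _ m σ
  have h0 : (m ∘ σ) 0 = m i := by simp [hσ]
  have h2 : m ∘ σ = Fin.cons (m i) (Fin.tail (m ∘ σ)) := by
    rw [← h0]; exact (Fin.cons_self_tail (m ∘ σ)).symm
  have hmem : ιMulti A (p + 1) (m ∘ σ) ∈ Submodule.span A
      {x | ∃ (n : M) (w : Fin p → M), π n = 0 ∧ x = ιMulti A (p + 1) (Fin.cons n w)} := by
    rw [h2]
    exact Submodule.subset_span ⟨m i, _, hi, rfl⟩
  rw [h1] at hmem
  rcases Int.units_eq_one_or (Equiv.Perm.sign σ) with h | h
  · rw [h, one_smul] at hmem; exact hmem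
  · rw [h, Units.neg_smul, one_smul] at hmem
    have := Submodule.neg_mem _ hmem
    rwa [neg_neg] at this

end Ker2

section Leibniz

universe v u

variable {R : Type v} {A M : Type u} [CommRing R] [CommRing A] [Algebra R A]
  [AddCommGroup M] [Module A M] [Module R M] [IsScalarTower R A M]

local notation "ιE" => ExteriorAlgebra.ι A (M := M)

lemma coe_ιMulti_cons {p : ℕ} (x : M) (w : Fin p → M) :
    ((ιMulti A (p + 1) (Fin.cons x w) : ⋀[A]^(p + 1) M) : ExteriorAlgebra A M) =
      ExteriorAlgebra.ι A x * ((ιMulti A p w : ⋀[A]^p M) : ExteriorAlgebra A M) := by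
  rw [ιMulti_apply_coe, ExteriorAlgebra.ιMulti_succ_apply, ιMulti_apply_coe]
  congr 2

/-- Left wedge multiplication by a vector. -/
noncomputable def wedgeL (p : ℕ) (m : M) : ⋀[A]^p M →ₗ[A] ⋀[A]^(p + 1) M :=
  LinearMap.codRestrict _ ((LinearMap.mulLeft A (ExteriorAlgebra.ι A m)).comp
    (⋀[A]^p M).subtype) (by
      intro η
      change ExteriorAlgebra.ι A m * (η : ExteriorAlgebra A M) ∈
        LinearMap.range (ExteriorAlgebra.ι A : M →ₗ[A] ExteriorAlgebra A M) ^ (p + 1)
      rw [pow_succ']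
      exact Submodule.mul_mem_mul (LinearMap.mem_range_self _ m) η.2)

@[simp] lemma coe_wedgeL (p : ℕ) (m : M) (η : ⋀[A]^p M) :
    ((wedgeL p m η : ⋀[A]^(p + 1) M) : ExteriorAlgebra A M) =
      ExteriorAlgebra.ι A m * (η : ExteriorAlgebra A M) := rfl

lemma ι_mul_ι_swap (x y : M) :
    ExteriorAlgebra.ι A x * ExteriorAlgebra.ι A y =
      -(ExteriorAlgebra.ι A y * ExteriorAlgebra.ι A x) :=
  eq_neg_of_add_eq_zero_left (ExteriorAlgebra.ι_add_mul_swap x y)

variable (δ : Derivation R A M) (hδ : Submodule.span A (Set.range δ) = ⊤)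

include hδ in
/-- Induction principle: the elements `b₀ • δ b₁ ∧ ⋯ ∧ δ b_p` generate additively. -/
theorem gen_induction {p : ℕ} {Pr : ⋀[A]^p M → Prop} (h0 : Pr 0)
    (hadd : ∀ x y, Pr x → Pr y → Pr (x + y))
    (hgen : ∀ (b₀ : A) (b : Fin p → A), Pr (DeRham.gen δ p b₀ b)) : ∀ x, Pr x := by
  intro x
  have hx : x ∈ Submodule.span A (ιMulti A p '' {a | Set.range a ⊆ Set.range δ}) := by
    rw [ιMulti_span_of_span A p M hδ]; trivial
  have key : ∀ c : A, Pr (c • x) := by
    induction hx using Submodule.span_induction with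
    | mem y hy =>
      obtain ⟨a, ha, rfl⟩ := hy
      intro c
      have hb : ∀ i, ∃ b : A, δ b = a i := fun i => ha ⟨i, rfl⟩
      choose b hb using hb
      have : a = fun i => δ (b i) := funext fun i => (hb i).symm
      rw [this]
      exact hgen c b
    | zero => intro c; rw [smul_zero]; exact h0
    | add y z _ _ hy hz => intro c; rw [smul_add]; exact hadd _ _ (hy c) (hz c)
    | smul a y _ hy => intro c; rw [smul_smul]; exact hy _
  have := key 1
  rwa [one_smul] at this

variable (d : ∀ p : ℕ, ↥(⋀[A]^p M) →ₗ[R] ↥(⋀[A]^(p + 1) M)) (hd : DeRham.IsRule δ d)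

lemma coe_gen {p : ℕ} (b₀ : A) (b : Fin p → A) :
    ((DeRham.gen δ p b₀ b : ⋀[A]^p M) : ExteriorAlgebra A M) =
      b₀ • ((ιMulti A p (fun i => δ (b i)) : ⋀[A]^p M) : ExteriorAlgebra A M) := rfl

include hd in
lemma coe_d_gen {p : ℕ} (b₀ : A) (b : Fin p → A) :
    ((d p (DeRham.gen δ p b₀ b) : ⋀[A]^(p + 1) M) : ExteriorAlgebra A M) =
      ExteriorAlgebra.ι A (δ b₀) *
        ((ιMulti A p (fun i => δ (b i)) : ⋀[A]^p M) : ExteriorAlgebra A M) := by
  rw [hd p b₀ b, coe_ιMulti_cons]

include hδ hd in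
/-- Leibniz rule for a function times a form. -/
theorem leib_smul {p : ℕ} (a : A) (η : ⋀[A]^p M) :
    ((d p (a • η) : ⋀[A]^(p + 1) M) : ExteriorAlgebra A M) =
      ExteriorAlgebra.ι A (δ a) * (η : ExteriorAlgebra A M) +
        a • ((d p η : ⋀[A]^(p + 1) M) : ExteriorAlgebra A M) := by
  revert η
  refine gen_induction δ hδ (Pr := fun η => ((d p (a • η) : ⋀[A]^(p + 1) M) :
    ExteriorAlgebra A M) = ExteriorAlgebra.ι A (δ a) * (η : ExteriorAlgebra A M) +
        a • ((d p η : ⋀[A]^(p + 1) M) : ExteriorAlgebra A M)) ?_ ?_ ?_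
  · simp
  · intro x y hx hy
    rw [smul_add, map_add, map_add, Submodule.coe_add, hx, hy, Submodule.coe_add,
      Submodule.coe_add, mul_add, smul_add]
    abel
  · intro b₀ b
    have h1 : a • DeRham.gen δ p b₀ b = DeRham.gen δ p (a * b₀) b := by
      unfold DeRham.gen; rw [smul_smul]
    rw [h1, coe_d_gen δ d hd, coe_d_gen δ d hd, coe_gen, Derivation.leibniz]
    rw [map_add, map_smul, map_smul, add_mul, smul_mul_assoc, smul_mul_assoc, mul_smul_comm]
    abel

include hδ hd in
/-- Leibniz rule for an exact one-form wedge a form. -/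
theorem leib_exact {p : ℕ} (b : A) (η : ⋀[A]^p M) :
    ((d (p + 1) (wedgeL p (δ b) η) : ⋀[A]^(p + 2) M) : ExteriorAlgebra A M) =
      -(ExteriorAlgebra.ι A (δ b) * ((d p η : ⋀[A]^(p + 1) M) : ExteriorAlgebra A M)) := by
  revert η
  refine gen_induction δ hδ (Pr := fun η => ((d (p + 1) (wedgeL p (δ b) η) : ⋀[A]^(p + 2) M) :
    ExteriorAlgebra A M) =
      -(ExteriorAlgebra.ι A (δ b) * ((d p η : ⋀[A]^(p + 1) M) : ExteriorAlgebra A M))) ?_ ?_ ?_
  · simp
  · intro x y hx hy
    rw [map_add, map_add, map_add, Submodule.coe_add, hx, hy, Submodule.coe_add, mul_add, neg_add]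
  · intro b₀ b'
    have h1 : wedgeL p (δ b) (DeRham.gen δ p b₀ b') = DeRham.gen δ (p + 1) b₀ (Fin.cons b b') := by
      apply Subtype.ext
      rw [coe_wedgeL, coe_gen, coe_gen]
      have h2 : (fun i => δ ((Fin.cons b b' : Fin (p + 1) → A) i)) =
          Fin.cons (δ b) (fun i => δ (b' i)) := by
        funext i
        refine Fin.cases ?_ (fun j => ?_) i
        · simp
        · simp
      rw [h2, coe_ιMulti_cons, mul_smul_comm]
    rw [h1, coe_d_gen δ d hd, coe_d_gen δ d hd]
    have h2 : (fun i => δ ((Fin.cons b b' : Fin (p + 1) → A) i)) =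
        Fin.cons (δ b) (fun i => δ (b' i)) := by
      funext i
      refine Fin.cases ?_ (fun j => ?_) i
      · simp
      · simp
    rw [h2, coe_ιMulti_cons, ← mul_assoc, ← mul_assoc, ι_mul_ι_swap (δ b₀) (δ b), neg_mul]

end Leibniz


section LeibN

universe v u

variable {R : Type v} {A M : Type u} [CommRing R] [CommRing A] [Algebra R A]
  [AddCommGroup M] [Module A M] [Module R M] [IsScalarTower R A M]
  (δ : Derivation R A M) (hδ : Submodule.span A (Set.range δ) = ⊤)
  (d : ∀ p : ℕ, ↥(⋀[A]^p M) →ₗ[R] ↥(⋀[A]^(p + 1) M)) (hd : DeRham.IsRule δ d)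

lemma coe_oneEquiv_symm (n : M) :
    (((oneEquiv A M).symm n : ⋀[A]^1 M) : ExteriorAlgebra A M) = ExteriorAlgebra.ι A n := by
  rw [oneEquiv_symm_apply, ιMulti_apply_coe, ExteriorAlgebra.ιMulti_succ_apply,
    ExteriorAlgebra.ιMulti_zero_apply, mul_one]

lemma wedgeL_add {p : ℕ} (m₁ m₂ : M) (η : ⋀[A]^p M) :
    wedgeL p (m₁ + m₂) η = wedgeL p m₁ η + wedgeL p m₂ η := by
  apply Subtype.ext
  rw [Submodule.coe_add, coe_wedgeL, coe_wedgeL, coe_wedgeL, map_add, add_mul]

lemma wedgeL_smul {p : ℕ} (c : A) (m : M) (η : ⋀[A]^p M) :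
    wedgeL p (c • m) η = wedgeL p m (c • η) := by
  apply Subtype.ext
  rw [coe_wedgeL, coe_wedgeL, map_smul, Submodule.coe_smul, smul_mul_assoc, mul_smul_comm]

lemma wedgeL_zero {p : ℕ} (η : ⋀[A]^p M) : wedgeL p (0 : M) η = 0 := by
  apply Subtype.ext
  rw [coe_wedgeL, map_zero, zero_mul]; rfl

include hδ hd in
/-- Leibniz rule for a one-form wedge a form. -/
theorem leib_wedge {p : ℕ} (n : M) (η : ⋀[A]^p M) :
    ((d (p + 1) (wedgeL p n η) : ⋀[A]^(p + 2) M) : ExteriorAlgebra A M) =
      ((d 1 ((oneEquiv A M).symm n) : ⋀[A]^2 M) : ExteriorAlgebra A M) *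
        (η : ExteriorAlgebra A M) -
      ExteriorAlgebra.ι A n * ((d p η : ⋀[A]^(p + 1) M) : ExteriorAlgebra A M) := by
  have hn : n ∈ Submodule.span A (Set.range δ) := by rw [hδ]; trivial
  revert η
  induction hn using Submodule.span_induction with
  | mem n hn =>
    obtain ⟨b, rfl⟩ := hn
    intro η
    rw [leib_exact δ hδ d hd]
    have h1 : (oneEquiv A M).symm (δ b) = DeRham.gen δ 1 1 (fun _ => b) := by
      rw [oneEquiv_symm_apply]; unfold DeRham.gen; rw [one_smul]
    have h2 : d 1 ((oneEquiv A M).symm (δ b)) = 0 := by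
      rw [h1, hd 1 1 (fun _ => b)]
      exact (ιMulti A 2).map_coord_zero 0 (by simp)
    rw [h2]
    simp
  | zero =>
    intro η
    rw [wedgeL_zero, map_zero, map_zero, map_zero, map_zero]
    simp
  | add x y _ _ hx hy =>
    intro η
    rw [wedgeL_add, map_add, Submodule.coe_add, hx η, hy η, map_add, map_add, Submodule.coe_add,
      map_add, add_mul, add_mul]
    abel
  | smul c x _ hx =>
    intro η
    rw [wedgeL_smul, hx (c • η), leib_smul δ hδ d hd c η, map_smul,
      leib_smul δ hδ d hd c ((oneEquiv A M).symm x), coe_oneEquiv_symm, Submodule.coe_smul,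
      map_smul]
    rw [mul_add, add_mul, mul_smul_comm, smul_mul_assoc, smul_mul_assoc, mul_smul_comm,
      ← mul_assoc, ι_mul_ι_swap x (δ c)]
    rw [neg_mul]
    abel

end LeibN


section Quot

universe v u

variable {R : Type v} {A M M' : Type u} [CommRing R] [CommRing A] [Algebra R A]
  [AddCommGroup M] [Module A M] [Module R M] [IsScalarTower R A M]
  [AddCommGroup M'] [Module A M'] [Module R M'] [IsScalarTower R A M']
  (δ : Derivation R A M) (hδ : Submodule.span A (Set.range δ) = ⊤)
  (d : ∀ p : ℕ, ↥(⋀[A]^p M) →ₗ[R] ↥(⋀[A]^(p + 1) M)) (hd : DeRham.IsRule δ d)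
  (π : M →ₗ[A] M')

lemma coe_map (p : ℕ) (x : ⋀[A]^p M) :
    ((exteriorPower.map p π x : ⋀[A]^p M') : ExteriorAlgebra A M') =
      ExteriorAlgebra.map π (x : ExteriorAlgebra A M) := by
  have h : (⋀[A]^p M').subtype ∘ₗ exteriorPower.map p π =
      (ExteriorAlgebra.map π).toLinearMap ∘ₗ (⋀[A]^p M).subtype := by
    apply exteriorPower.linearMap_ext
    ext m
    simp
  exact congrArg (fun φ => φ x) h

/-- The submodule of one-forms killed by `π` whose differential is killed by `⋀² π`. -/
def goodKer (δ : Derivation R A M) (hδ : Submodule.span A (Set.range δ) = ⊤)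
    (d : ∀ p : ℕ, ↥(⋀[A]^p M) →ₗ[R] ↥(⋀[A]^(p + 1) M)) (hd : DeRham.IsRule δ d)
    (π : M →ₗ[A] M') : Submodule A M where
  carrier := {n | π n = 0 ∧ exteriorPower.map 2 π (d 1 ((oneEquiv A M).symm n)) = 0}
  zero_mem' := by simp
  add_mem' := by
    rintro x y ⟨hx1, hx2⟩ ⟨hy1, hy2⟩
    exact ⟨by rw [map_add, hx1, hy1, add_zero], by rw [map_add, map_add, map_add, hx2, hy2, add_zero]⟩
  smul_mem' := by
    rintro c x ⟨hx1, hx2⟩
    refine ⟨by rw [map_smul, hx1, smul_zero], ?_⟩
    apply Subtype.ext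
    rw [coe_map, map_smul, leib_smul δ hδ d hd, map_add, map_mul, map_smul,
      ← coe_map π 2 (d 1 ((oneEquiv A M).symm x)), hx2,
      coe_oneEquiv_symm, ExteriorAlgebra.map_apply_ι, ExteriorAlgebra.map_apply_ι, hx1]
    simp

include hδ hd in
theorem kerSpan_le_ker (hker : LinearMap.ker π ≤ goodKer δ hδ d hd π) (p : ℕ) :
    ∀ x ∈ kerSpan π p, exteriorPower.map (p + 1) π (d p x) = 0 := by
  rcases p with _ | p
  · intro x hx
    have : kerSpan π 0 = ⊥ := by
      unfold kerSpan
      rw [Submodule.span_eq_bot]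
      rintro _ ⟨m, ⟨i, _⟩, _⟩
      exact i.elim0
    rw [this, Submodule.mem_bot] at hx
    rw [hx, map_zero, map_zero]
  · intro x hx
    have hx' := kerSpan_succ_le π p hx
    clear hx
    have key : ∀ c : A, exteriorPower.map (p + 2) π (d (p + 1) (c • x)) = 0 := by
      induction hx' using Submodule.span_induction with
      | mem y hy =>
        obtain ⟨n, w, hn, rfl⟩ := hy
        intro c
        have h1 : c • ιMulti A (p + 1) (Fin.cons n w) = wedgeL p (c • n) (ιMulti A p w) := by
          apply Subtype.ext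
          rw [Submodule.coe_smul, coe_ιMulti_cons, coe_wedgeL, map_smul, smul_mul_assoc]
        have hcn : c • n ∈ goodKer δ hδ d hd π :=
          hker (by rw [LinearMap.mem_ker, map_smul, hn, smul_zero])
        apply Subtype.ext
        rw [h1, coe_map, leib_wedge δ hδ d hd, map_sub, map_mul, map_mul,
          ← coe_map π 2 (d 1 ((oneEquiv A M).symm (c • n))), hcn.2,
          ExteriorAlgebra.map_apply_ι, hcn.1]
        simp
      | zero => intro c; simp
      | add y z _ _ hy hz => intro c; rw [smul_add, map_add, map_add, hy c, hz c, add_zero]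
      | smul a y _ hy => intro c; rw [smul_smul]; exact hy _
    have := key 1
    rwa [one_smul] at this

end Quot


section Assemble

universe v u

variable {R : Type v} {A M M' : Type u} [CommRing R] [CommRing A] [Algebra R A]
  [AddCommGroup M] [Module A M] [Module R M] [IsScalarTower R A M]
  [AddCommGroup M'] [Module A M'] [Module R M'] [IsScalarTower R A M']

theorem exists_diff_quotient (δ : Derivation R A M) (hδ : Submodule.span A (Set.range δ) = ⊤)
    (d : ∀ p : ℕ, ↥(⋀[A]^p M) →ₗ[R] ↥(⋀[A]^(p + 1) M)) (hd : DeRham.IsDiff δ d)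
    (π : M →ₗ[A] M') (hπ : Surjective π)
    (hker : LinearMap.ker π ≤ Submodule.span A {ω : M | π ω = 0 ∧
      exteriorPower.map 2 π (d 1 ((oneEquiv A M).symm ω)) = 0}) :
    ∃ d' : ∀ p : ℕ, ↥(⋀[A]^p M') →ₗ[R] ↥(⋀[A]^(p + 1) M'),
      DeRham.IsDiff (π.compDer δ) d' ∧
        ∀ (p : ℕ) (x : ↥(⋀[A]^p M)),
          d' p (exteriorPower.map p π x) = exteriorPower.map (p + 1) π (d p x) := by
  have hker' : LinearMap.ker π ≤ goodKer δ hδ d hd.1 π := by
    refine hker.trans ?_
    rw [Submodule.span_le]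
    intro ω hω
    exact hω
  let f : ∀ p : ℕ, ↥(⋀[A]^p M) →ₗ[R] ↥(⋀[A]^p M') := fun p =>
    (exteriorPower.map p π).restrictScalars R
  have hf : ∀ p, Surjective (f p) := fun p => exteriorPower.map_surjective hπ
  let θ : ∀ p : ℕ, ↥(⋀[A]^p M) →ₗ[R] ↥(⋀[A]^(p + 1) M') := fun p => (f (p + 1)) ∘ₗ d p
  have hK : ∀ p, LinearMap.ker (f p) ≤ LinearMap.ker (θ p) := by
    intro p x hx
    have h1 : x ∈ LinearMap.ker (exteriorPower.map p π) := hx
    have h2 := ker_map_le π hπ p h1
    exact kerSpan_le_ker δ hδ d hd.1 π hker' p x h2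
  let d' : ∀ p : ℕ, ↥(⋀[A]^p M') →ₗ[R] ↥(⋀[A]^(p + 1) M') := fun p =>
    (Submodule.liftQ (LinearMap.ker (f p)) (θ p) (hK p)) ∘ₗ
      ((f p).quotKerEquivOfSurjective (hf p)).symm.toLinearMap
  have hd' : ∀ (p : ℕ) (x : ↥(⋀[A]^p M)),
      d' p (exteriorPower.map p π x) = exteriorPower.map (p + 1) π (d p x) := by
    intro p x
    have h1 : ((f p).quotKerEquivOfSurjective (hf p)).symm (f p x) =
        Submodule.Quotient.mk x := by
      rw [LinearEquiv.symm_apply_eq]
      rfl
    change Submodule.liftQ _ (θ p) (hK p)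
      (((f p).quotKerEquivOfSurjective (hf p)).symm (f p x)) = _
    rw [h1]
    rfl
  refine ⟨d', ⟨?_, ?_⟩, hd'⟩
  · intro p b₀ b
    have h1 : DeRham.gen (π.compDer δ) p b₀ b = exteriorPower.map p π (DeRham.gen δ p b₀ b) := by
      unfold DeRham.gen
      rw [map_smul, exteriorPower.map_apply_ιMulti]
      rfl
    rw [h1, hd', hd.1 p b₀ b, exteriorPower.map_apply_ιMulti]
    congr 1
    funext i
    refine Fin.cases ?_ (fun j => ?_) i
    · simp
    · simp
  · intro p
    ext y
    obtain ⟨x, rfl⟩ := exteriorPower.map_surjective hπ y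
    rw [LinearMap.comp_apply, hd', hd']
    have := congrArg (fun φ => φ x) (hd.2 p)
    simp only [LinearMap.comp_apply, LinearMap.zero_apply] at this
    rw [this, map_zero]
    rfl

end Assemble

end Groth.Agent.Lib.helper12.ExtQuot
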