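import Mathlib
import Groth.Agent.Lib.Helper12.PullAmpleRel
import Groth.Agent.Lib.Helper12.AmpleQAff

/-!
# External tensor products of ample modules (helper12, LT22 part 5)

* `inf_mem_genLocusFamily`: `X_s ⊓ X_t ∈ genLocusFamily (A ⊗ B)`.
* `preimage_inf_mem_genLocusFamily`: `p₁⁻¹ X_s ⊓ p₂⁻¹ Y_t ∈ genLocusFamily (p₁^*L ⊗ p₂^*N)`.
* `isQuasiAffine_pullback_of_isAffine`: fibre product of affine schemes over a quasi-separated base is
  quasi-affine; `isQuasiAffine_preimage_inf`.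
* `isAmple_externalTensor` (S9816).
-/

set_option autoImplicit false
universe u

open CategoryTheory CategoryTheory.Limits AlgebraicGeometry Opposite TopologicalSpace MonoidalCategory

namespace Groth.Agent.Lib.helper12.ExtTensor

open Groth.Agent.Lib.helper12.PullTensor Groth.Agent.Lib.helper12.PullAmple
open Groth.Agent.Lib.helper12.PullAmpleRel
open Groth.Agent.Lib.helper12.TensorInv Groth.Agent.Lib.helper12.AmplePow
open Groth.Agent.Lib.helper12.AmpleBasis Groth.Agent.Lib.helper12.AmpleBasis2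
open Groth.Agent.Lib.helper12.AmpleQAff
open Groth.Agent.Lib.helper11.InvMod Groth.Agent.Lib.helper11.GenLocus
open Scheme.Modules

variable {X : Scheme.{u}}

theorem inf_mem_genLocusFamily {A B : X.Modules} (hA : PicF.IsInvertible A)
    (hB : PicF.IsInvertible B) {W₁ W₂ : X.Opens} (h₁ : W₁ ∈ genLocusFamily A)
    (h₂ : W₂ ∈ genLocusFamily B) : W₁ ⊓ W₂ ∈ genLocusFamily (CohB1.tensorMod A B) := by
  obtain ⟨n, s, rfl⟩ := h₁
  obtain ⟨n', s', rfl⟩ := h₂
  obtain ⟨m, w, hw⟩ := exists_sec_tensor hA hB s s'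
  exact ⟨m, w, hw.symm⟩

theorem preimage_inf_mem_genLocusFamily {P X₁ X₂ : Scheme.{u}} (p₁ : P ⟶ X₁) (p₂ : P ⟶ X₂)
    {L₁ : X₁.Modules} {L₂ : X₂.Modules} (h₁ : PicF.IsInvertible L₁) (h₂ : PicF.IsInvertible L₂)
    {U₁ : X₁.Opens} {U₂ : X₂.Opens} (hU₁ : U₁ ∈ genLocusFamily L₁) (hU₂ : U₂ ∈ genLocusFamily L₂) :
    p₁ ⁻¹ᵁ U₁ ⊓ p₂ ⁻¹ᵁ U₂ ∈ genLocusFamily (CohB1.tensorMod ((Scheme.Modules.pullback p₁).obj L₁)
      ((Scheme.Modules.pullback p₂).obj L₂)) :=
  inf_mem_genLocusFamily (isInvertible_pullback p₁ h₁) (isInvertible_pullback p₂ h₂)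
    (preimage_mem_genLocusFamily p₁ h₁ hU₁) (preimage_mem_genLocusFamily p₂ h₂ hU₂)

/-- A fibre product of affine schemes over a quasi-separated base is quasi-affine. -/
theorem isQuasiAffine_pullback_of_isAffine {A B S : Scheme.{u}} [IsAffine A] [IsAffine B]
    [QuasiSeparatedSpace S] (a : A ⟶ S) (b : B ⟶ S) : (pullback a b).IsQuasiAffine := by
  have : CompactSpace ↥(pullback a b) :=
    QuasiCompact.compactSpace_of_compactSpace (pullback.snd a b)
  exact Scheme.IsQuasiAffine.of_isImmersion (pullback.mapDesc a b (terminal.from S))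

/-- For `U₁ ⊆ X`, `U₂ ⊆ Y` affine opens and `S` quasi-separated, the open
`p₁⁻¹ U₁ ⊓ p₂⁻¹ U₂` of `X ×_S Y` is quasi-affine. -/
theorem isQuasiAffine_preimage_inf {X Y S : Scheme.{u}} [QuasiSeparatedSpace S] (f : X ⟶ S)
    (g : Y ⟶ S) {U₁ : X.Opens} {U₂ : Y.Opens} (hU₁ : IsAffineOpen U₁) (hU₂ : IsAffineOpen U₂) :
    Scheme.IsQuasiAffine
      (↑((pullback.fst f g) ⁻¹ᵁ U₁ ⊓ (pullback.snd f g) ⁻¹ᵁ U₂) : Scheme.{u}) := by
  have : IsAffine (↑U₁ : Scheme.{u}) := hU₁
  have : IsAffine (↑U₂ : Scheme.{u}) := hU₂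
  let a := U₁.ι ≫ f
  let b := U₂.ι ≫ g
  let m : pullback a b ⟶ pullback f g :=
    pullback.map a b f g U₁.ι U₂.ι (𝟙 S) (Category.comp_id _) (Category.comp_id _)
  have hT : (pullback a b).IsQuasiAffine := isQuasiAffine_pullback_of_isAffine a b
  set W := (pullback.fst f g) ⁻¹ᵁ U₁ ⊓ (pullback.snd f g) ⁻¹ᵁ U₂ with hW
  have hr : Set.range W.ι = Set.range m := by
    rw [Scheme.Pullback.range_map, Scheme.Opens.range_ι, Scheme.Opens.range_ι,
      Scheme.Opens.range_ι]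
    rfl
  let e := IsOpenImmersion.isoOfRangeEq W.ι m hr
  exact Scheme.IsQuasiAffine.of_isAffineHom e.hom

/-- **S9816**: over a quasi-separated base, the external tensor product of ample modules is ample. -/
theorem isAmple_externalTensor {X Y S : Scheme.{u}} [QuasiSeparatedSpace S] (f : X ⟶ S)
    (g : Y ⟶ S) {L : X.Modules} {N : Y.Modules} (hL : CohB1.IsAmple L) (hN : CohB1.IsAmple N) :
    CohB1.IsAmple (CohB1.tensorMod ((Scheme.Modules.pullback (pullback.fst f g)).obj L)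
      ((Scheme.Modules.pullback (pullback.snd f g)).obj N)) := by
  have hcX : CompactSpace X := hL.2.1
  have hcY : CompactSpace Y := hN.2.1
  have hsX : QuasiSeparatedSpace X := quasiSeparatedSpace_of_hasAffineCover hL.1 hL.2.2
  have hsY : QuasiSeparatedSpace Y := quasiSeparatedSpace_of_hasAffineCover hN.1 hN.2.2
  have hcP : CompactSpace ↥(pullback f g) :=
    QuasiCompact.compactSpace_of_compactSpace (pullback.snd f g)
  have hsP : QuasiSeparatedSpace ↥(pullback f g) :=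
    quasiSeparatedSpace_of_quasiSeparated (pullback.snd f g)
  refine isAmple_of_quasiAffine_cover
    (isInvertible_tensorMod (isInvertible_pullback _ hL.1) (isInvertible_pullback _ hN.1))
    fun z => ?_
  obtain ⟨n, s, hxs, haffs⟩ := hL.2.2 (pullback.fst f g z)
  obtain ⟨n', t, hyt, hafft⟩ := hN.2.2 (pullback.snd f g z)
  exact ⟨_, preimage_inf_mem_genLocusFamily _ _ hL.1 hN.1 ⟨n, s, rfl⟩ ⟨n', t, rfl⟩, ⟨hxs, hyt⟩,
    isQuasiAffine_preimage_inf f g haffs hafft⟩

end Groth.Agent.Lib.helper12.ExtTensor
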