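import Mathlib
import Groth.Agent.Lib.Helper12.ExtTensor

/-!
# External tensor products of relatively ample modules (helper12, LT22 part 6)

* `isAffineOpen_preimage_inf`: `p₁⁻¹ C₁ ⊓ p₂⁻¹ C₂` is affine in `X ×_S Y` when `C₁`, `C₂` are affine and
  map into a common affine open of `S`.
* `isAffineOpen_preimage_inf_of_le`: preimage of an affine open, inside an affine open mapping to an
  affine open.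
* `isAmple_tensor_pullback_of_affine_inf`: ampleness of `q₁^*L₁ ⊗ q₂^*L₂` on `T` from ample `L_i` on `U_i`.
* `isRelAmple_externalTensor` (S4428).
-/

set_option autoImplicit false
universe u

open CategoryTheory CategoryTheory.Limits AlgebraicGeometry Opposite TopologicalSpace MonoidalCategory

namespace Groth.Agent.Lib.helper12.ExtTensorRel

open Groth.Agent.Lib.helper12.PullTensor Groth.Agent.Lib.helper12.PullAmple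
open Groth.Agent.Lib.helper12.PullAmpleRel Groth.Agent.Lib.helper12.ExtTensor
open Groth.Agent.Lib.helper12.TensorInv Groth.Agent.Lib.helper12.AmplePow
open Groth.Agent.Lib.helper12.AmpleBasis Groth.Agent.Lib.helper12.AmpleBasis2
open Groth.Agent.Lib.helper12.AmpleQAff Groth.Agent.Lib.helper12.TensorRestrict
open Groth.Agent.Lib.helper11.InvMod Groth.Agent.Lib.helper11.GenLocus
open Scheme.Modules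

/-- `p₁⁻¹ C₁ ⊓ p₂⁻¹ C₂` is affine in `X ×_S Y` when `C₁`, `C₂` are affine and map into a common
affine open `S₀` of `S`. -/
theorem isAffineOpen_preimage_inf {X Y S : Scheme.{u}} (f : X ⟶ S) (g : Y ⟶ S)
    {C₁ : X.Opens} {C₂ : Y.Opens} {S₀ : S.Opens} (hC₁ : IsAffineOpen C₁) (hC₂ : IsAffineOpen C₂)
    (hS₀ : IsAffineOpen S₀) (h₁ : C₁ ≤ f ⁻¹ᵁ S₀) (h₂ : C₂ ≤ g ⁻¹ᵁ S₀) :
    IsAffineOpen ((pullback.fst f g) ⁻¹ᵁ C₁ ⊓ (pullback.snd f g) ⁻¹ᵁ C₂) := by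
  have : IsAffine (↑C₁ : Scheme.{u}) := hC₁
  have : IsAffine (↑C₂ : Scheme.{u}) := hC₂
  have : IsAffine (↑S₀ : Scheme.{u}) := hS₀
  let a := f.resLE S₀ C₁ h₁
  let b := g.resLE S₀ C₂ h₂
  let m : pullback a b ⟶ pullback f g :=
    pullback.map a b f g C₁.ι C₂.ι S₀.ι (Scheme.Hom.resLE_comp_ι f h₁) (Scheme.Hom.resLE_comp_ι g h₂)
  have h := isAffineOpen_opensRange m
  have he : m.opensRange = (pullback.fst f g) ⁻¹ᵁ C₁ ⊓ (pullback.snd f g) ⁻¹ᵁ C₂ := by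
    apply Opens.ext
    change Set.range m = _
    rw [Scheme.Pullback.range_map, Scheme.Opens.range_ι, Scheme.Opens.range_ι]
    rfl
  rw [← he]
  exact h

/-- The preimage of an affine open `A ≤ Q₀` intersected with an affine open `W` mapping into the
affine open `Q₀` is affine. -/
theorem isAffineOpen_preimage_inf_of_le {P Q : Scheme.{u}} (F : P ⟶ Q) {W : P.Opens}
    {Q₀ A : Q.Opens} (hW : IsAffineOpen W) (hQ₀ : IsAffineOpen Q₀) (hA : IsAffineOpen A)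
    (hWQ : W ≤ F ⁻¹ᵁ Q₀) (hAQ : A ≤ Q₀) : IsAffineOpen (F ⁻¹ᵁ A ⊓ W) := by
  have : IsAffine (↑W : Scheme.{u}) := hW
  have : IsAffine (↑Q₀ : Scheme.{u}) := hQ₀
  let k := F.resLE Q₀ W hWQ
  have hA₀ : IsAffineOpen (Q₀.ι ⁻¹ᵁ A) := by
    rw [← Scheme.Hom.isAffineOpen_iff_of_isOpenImmersion Q₀.ι,
      Scheme.Hom.image_preimage_eq_opensRange_inf, Scheme.Opens.opensRange_ι,
      inf_eq_right.mpr hAQ]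
    exact hA
  have h1 : IsAffineOpen (k ⁻¹ᵁ (Q₀.ι ⁻¹ᵁ A)) := hA₀.preimage k
  have h2 := h1.image_of_isOpenImmersion W.ι
  have he : W.ι ''ᵁ (k ⁻¹ᵁ (Q₀.ι ⁻¹ᵁ A)) = F ⁻¹ᵁ A ⊓ W := by
    rw [← Scheme.Hom.comp_preimage, Scheme.Hom.resLE_comp_ι, Scheme.Hom.comp_preimage,
      Scheme.Hom.image_preimage_eq_opensRange_inf, Scheme.Opens.opensRange_ι, inf_comm]
  rw [← he]
  exact h2

/-- Ampleness of `q₁^*L₁ ⊗ q₂^*L₂` on a quasi-compact `T` with maps `q_i : T ⟶ U_i`, `L_i` ample on `U_i`,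
provided `q₁⁻¹ B₁ ⊓ q₂⁻¹ B₂` is affine for affine opens `B_i ⊆ U_i`. -/
theorem isAmple_tensor_pullback_of_affine_inf {T U₁ U₂ : Scheme.{u}} [CompactSpace T]
    (q₁ : T ⟶ U₁) (q₂ : T ⟶ U₂) {L₁ : U₁.Modules} {L₂ : U₂.Modules} (h₁ : CohB1.IsAmple L₁)
    (h₂ : CohB1.IsAmple L₂)
    (H : ∀ (B₁ : U₁.Opens) (B₂ : U₂.Opens), IsAffineOpen B₁ → IsAffineOpen B₂ →
      IsAffineOpen (q₁ ⁻¹ᵁ B₁ ⊓ q₂ ⁻¹ᵁ B₂)) :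
    CohB1.IsAmple (CohB1.tensorMod ((Scheme.Modules.pullback q₁).obj L₁)
      ((Scheme.Modules.pullback q₂).obj L₂)) := by
  refine ⟨isInvertible_tensorMod (isInvertible_pullback _ h₁.1) (isInvertible_pullback _ h₂.1),
    inferInstance, fun z => ?_⟩
  obtain ⟨n, s, hxs, haffs⟩ := h₁.2.2 (q₁ z)
  obtain ⟨n', t, hyt, hafft⟩ := h₂.2.2 (q₂ z)
  obtain ⟨m, w, hw⟩ := preimage_inf_mem_genLocusFamily q₁ q₂ h₁.1 h₂.1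
    (⟨n, s, rfl⟩ : CohB1.genLocus _ s ∈ genLocusFamily L₁)
    (⟨n', t, rfl⟩ : CohB1.genLocus _ t ∈ genLocusFamily L₂)
  refine ⟨m, w, ?_, ?_⟩
  · rw [← hw]; exact ⟨hxs, hyt⟩
  · rw [← hw]; exact H _ _ haffs hafft

section Rel

variable {X₁ X₂ Y₁ Y₂ S : Scheme.{u}} (a₁ : Y₁ ⟶ S) (a₂ : Y₂ ⟶ S) (f₁ : X₁ ⟶ Y₁) (f₂ : X₂ ⟶ Y₂)

/-- The product morphism `f₁ ×_S f₂ : X₁ ×_S X₂ ⟶ Y₁ ×_S Y₂`. -/
noncomputable abbrev prodMap : pullback (f₁ ≫ a₁) (f₂ ≫ a₂) ⟶ pullback a₁ a₂ :=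
  pullback.map (f₁ ≫ a₁) (f₂ ≫ a₂) a₁ a₂ f₁ f₂ (𝟙 S) (Category.comp_id (f₁ ≫ a₁))
    (Category.comp_id (f₂ ≫ a₂))

instance quasiCompact_prodMap [QuasiCompact f₁] [QuasiCompact f₂] :
    QuasiCompact (prodMap a₁ a₂ f₁ f₂) :=
  MorphismProperty.pullbackMap (P := @QuasiCompact) (f := f₁ ≫ a₁) (g := f₂ ≫ a₂) (f' := a₁)
    (g' := a₂) (i₁ := f₁) (i₂ := f₂) inferInstance inferInstance rfl rfl

theorem prodMap_fst :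
    prodMap a₁ a₂ f₁ f₂ ≫ pullback.fst a₁ a₂ = pullback.fst (f₁ ≫ a₁) (f₂ ≫ a₂) ≫ f₁ :=
  pullback.lift_fst _ _ _

theorem prodMap_snd :
    prodMap a₁ a₂ f₁ f₂ ≫ pullback.snd a₁ a₂ = pullback.snd (f₁ ≫ a₁) (f₂ ≫ a₂) ≫ f₂ :=
  pullback.lift_snd _ _ _

theorem prodMap_fst_apply (z : ↥(pullback (f₁ ≫ a₁) (f₂ ≫ a₂))) :
    pullback.fst a₁ a₂ (prodMap a₁ a₂ f₁ f₂ z) = f₁ (pullback.fst (f₁ ≫ a₁) (f₂ ≫ a₂) z) := by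
  rw [← Scheme.Hom.comp_apply, ← Scheme.Hom.comp_apply, prodMap_fst]

theorem prodMap_snd_apply (z : ↥(pullback (f₁ ≫ a₁) (f₂ ≫ a₂))) :
    pullback.snd a₁ a₂ (prodMap a₁ a₂ f₁ f₂ z) = f₂ (pullback.snd (f₁ ≫ a₁) (f₂ ≫ a₂) z) := by
  rw [← Scheme.Hom.comp_apply, ← Scheme.Hom.comp_apply, prodMap_snd]

/-- Core step of S4428: over an affine open `A` of `Y₁ ×_S Y₂` contained in `q₁⁻¹ V₁ ⊓ q₂⁻¹ V₂` with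
`V_i` affine mapping into a common affine open `S₀` of `S`. -/
theorem isAmple_externalTensor_restrict [QuasiCompact f₁] [QuasiCompact f₂]
    (L₁ : X₁.Modules) (L₂ : X₂.Modules)
    {S₀ : S.Opens} (hS₀ : IsAffineOpen S₀) {V₁ : Y₁.Opens} {V₂ : Y₂.Opens}
    (hV₁ : IsAffineOpen V₁) (hV₂ : IsAffineOpen V₂) (hV₁S : V₁ ≤ a₁ ⁻¹ᵁ S₀) (hV₂S : V₂ ≤ a₂ ⁻¹ᵁ S₀)
    (hL₁ : CohB1.IsAmple (L₁.restrict (f₁ ⁻¹ᵁ V₁).ι)) (hL₂ : CohB1.IsAmple (L₂.restrict (f₂ ⁻¹ᵁ V₂).ι))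
    {A : (pullback a₁ a₂).Opens} (hA : IsAffineOpen A)
    (hle : A ≤ (pullback.fst a₁ a₂) ⁻¹ᵁ V₁ ⊓ (pullback.snd a₁ a₂) ⁻¹ᵁ V₂) :
    CohB1.IsAmple ((CohB1.tensorMod
      ((Scheme.Modules.pullback (pullback.fst (f₁ ≫ a₁) (f₂ ≫ a₂))).obj L₁)
      ((Scheme.Modules.pullback (pullback.snd (f₁ ≫ a₁) (f₂ ≫ a₂))).obj L₂)).restrict
        ((prodMap a₁ a₂ f₁ f₂) ⁻¹ᵁ A).ι) := by
  set F := prodMap a₁ a₂ f₁ f₂ with hF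
  set p₁ := pullback.fst (f₁ ≫ a₁) (f₂ ≫ a₂) with hp₁
  set p₂ := pullback.snd (f₁ ≫ a₁) (f₂ ≫ a₂) with hp₂
  set T := F ⁻¹ᵁ A with hT
  have hTU₁ : T ≤ p₁ ⁻¹ᵁ (f₁ ⁻¹ᵁ V₁) := fun z hz => by
    have h1 : pullback.fst a₁ a₂ (F z) ∈ V₁ := (hle hz).1
    rw [prodMap_fst_apply] at h1
    exact h1
  have hTU₂ : T ≤ p₂ ⁻¹ᵁ (f₂ ⁻¹ᵁ V₂) := fun z hz => by
    have h1 : pullback.snd a₁ a₂ (F z) ∈ V₂ := (hle hz).2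
    rw [prodMap_snd_apply] at h1
    exact h1
  let q₁ := p₁.resLE (f₁ ⁻¹ᵁ V₁) T hTU₁
  let q₂ := p₂.resLE (f₂ ⁻¹ᵁ V₂) T hTU₂
  have w₁ : T.ι ≫ p₁ = q₁ ≫ (f₁ ⁻¹ᵁ V₁).ι := (Scheme.Hom.resLE_comp_ι p₁ hTU₁).symm
  have w₂ : T.ι ≫ p₂ = q₂ ≫ (f₂ ⁻¹ᵁ V₂).ι := (Scheme.Hom.resLE_comp_ι p₂ hTU₂).symm
  have hcT : CompactSpace (↑T : Scheme.{u}) :=
    isCompact_iff_compactSpace.mp (QuasiCompact.isCompact_preimage (f := F) _ A.2 hA.isCompact)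
  let e := restrictTensorIso T.ι ((Scheme.Modules.pullback p₁).obj L₁)
      ((Scheme.Modules.pullback p₂).obj L₂) ≪≫
    Groth.Agent.Lib.Lead.ModTensor.tensorIso
      (pullRestrictIso T.ι p₁ q₁ (f₁ ⁻¹ᵁ V₁).ι w₁ L₁) (pullRestrictIso T.ι p₂ q₂ (f₂ ⁻¹ᵁ V₂).ι w₂ L₂)
  refine isAmple_of_iso e.symm (isAmple_tensor_pullback_of_affine_inf q₁ q₂ hL₁ hL₂ ?_)
  intro B₁ B₂ hB₁ hB₂
  set C₁ := (f₁ ⁻¹ᵁ V₁).ι ''ᵁ B₁ with hC₁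
  set C₂ := (f₂ ⁻¹ᵁ V₂).ι ''ᵁ B₂ with hC₂
  have hC₁a : IsAffineOpen C₁ := hB₁.image_of_isOpenImmersion _
  have hC₂a : IsAffineOpen C₂ := hB₂.image_of_isOpenImmersion _
  have hC₁U : C₁ ≤ f₁ ⁻¹ᵁ V₁ := (f₁ ⁻¹ᵁ V₁).ι_image_le B₁
  have hC₂U : C₂ ≤ f₂ ⁻¹ᵁ V₂ := (f₂ ⁻¹ᵁ V₂).ι_image_le B₂
  have hW : IsAffineOpen (p₁ ⁻¹ᵁ C₁ ⊓ p₂ ⁻¹ᵁ C₂) :=
    isAffineOpen_preimage_inf (f₁ ≫ a₁) (f₂ ≫ a₂) hC₁a hC₂a hS₀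
      (fun x hx => hV₁S (hC₁U hx)) (fun x hx => hV₂S (hC₂U hx))
  have hQ₀ : IsAffineOpen ((pullback.fst a₁ a₂) ⁻¹ᵁ V₁ ⊓ (pullback.snd a₁ a₂) ⁻¹ᵁ V₂) :=
    isAffineOpen_preimage_inf a₁ a₂ hV₁ hV₂ hS₀ hV₁S hV₂S
  have hWQ : p₁ ⁻¹ᵁ C₁ ⊓ p₂ ⁻¹ᵁ C₂ ≤
      F ⁻¹ᵁ ((pullback.fst a₁ a₂) ⁻¹ᵁ V₁ ⊓ (pullback.snd a₁ a₂) ⁻¹ᵁ V₂) := by
    rintro z ⟨hz₁, hz₂⟩
    refine ⟨?_, ?_⟩
    · change pullback.fst a₁ a₂ (F z) ∈ V₁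
      rw [prodMap_fst_apply]
      exact hC₁U hz₁
    · change pullback.snd a₁ a₂ (F z) ∈ V₂
      rw [prodMap_snd_apply]
      exact hC₂U hz₂
  have h1 := isAffineOpen_preimage_inf_of_le F hW hQ₀ hA hWQ hle
  rw [← Scheme.Hom.isAffineOpen_iff_of_isOpenImmersion T.ι]
  have he : T.ι ''ᵁ (q₁ ⁻¹ᵁ B₁ ⊓ q₂ ⁻¹ᵁ B₂) = F ⁻¹ᵁ A ⊓ (p₁ ⁻¹ᵁ C₁ ⊓ p₂ ⁻¹ᵁ C₂) := by
    have e1 : q₁ ⁻¹ᵁ B₁ ⊓ q₂ ⁻¹ᵁ B₂ = T.ι ⁻¹ᵁ (p₁ ⁻¹ᵁ C₁ ⊓ p₂ ⁻¹ᵁ C₂) := by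
      rw [Scheme.Hom.resLE_preimage, Scheme.Hom.resLE_preimage]
      rfl
    rw [e1, Scheme.Hom.image_preimage_eq_opensRange_inf, Scheme.Opens.opensRange_ι]
  rw [he]
  exact h1

/-- **S4428**: the external tensor product of relatively ample modules is ample relative to the
product morphism. -/
theorem isRelAmple_externalTensor [QuasiCompact f₁] [QuasiCompact f₂]
    {L₁ : X₁.Modules} {L₂ : X₂.Modules}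
    (hL₁ : RelAmple.IsRelAmple f₁ L₁) (hL₂ : RelAmple.IsRelAmple f₂ L₂) :
    RelAmple.IsRelAmple (prodMap a₁ a₂ f₁ f₂)
      (CohB1.tensorMod ((Scheme.Modules.pullback (pullback.fst (f₁ ≫ a₁) (f₂ ≫ a₂))).obj L₁)
        ((Scheme.Modules.pullback (pullback.snd (f₁ ≫ a₁) (f₂ ≫ a₂))).obj L₂)) := by
  refine ⟨inferInstance, fun V => ?_⟩
  refine Groth.Agent.Lib.helper12.AmpleLocal.isAmple_restrict_preimage_of_cover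
    (prodMap a₁ a₂ f₁ f₂) V.2 fun q hq => ?_
  obtain ⟨S₀, hS₀, hqS₀, -⟩ := (Opens.isBasis_iff_nbhd.mp S.isBasis_affineOpens)
    (show a₁ (pullback.fst a₁ a₂ q) ∈ (⊤ : S.Opens) from trivial)
  have hqS₀' : a₂ (pullback.snd a₁ a₂ q) ∈ S₀ := by
    have : a₂ (pullback.snd a₁ a₂ q) = a₁ (pullback.fst a₁ a₂ q) := by
      rw [← Scheme.Hom.comp_apply, ← Scheme.Hom.comp_apply, pullback.condition]
    rw [this]; exact hqS₀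
  obtain ⟨V₁, hV₁, hqV₁, hV₁S⟩ := (Opens.isBasis_iff_nbhd.mp Y₁.isBasis_affineOpens)
    (show pullback.fst a₁ a₂ q ∈ a₁ ⁻¹ᵁ S₀ from hqS₀)
  obtain ⟨V₂, hV₂, hqV₂, hV₂S⟩ := (Opens.isBasis_iff_nbhd.mp Y₂.isBasis_affineOpens)
    (show pullback.snd a₁ a₂ q ∈ a₂ ⁻¹ᵁ S₀ from hqS₀')
  obtain ⟨r, hle, hqr⟩ := V.2.exists_basicOpen_le
    (V := (pullback.fst a₁ a₂) ⁻¹ᵁ V₁ ⊓ (pullback.snd a₁ a₂) ⁻¹ᵁ V₂) ⟨q, ⟨hqV₁, hqV₂⟩⟩ hq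
  exact ⟨r, hqr, isAmple_externalTensor_restrict a₁ a₂ f₁ f₂ L₁ L₂ hS₀ hV₁ hV₂ hV₁S hV₂S
    (hL₁.2 ⟨V₁, hV₁⟩) (hL₂.2 ⟨V₂, hV₂⟩) (V.2.basicOpen r) hle⟩

end Rel

end Groth.Agent.Lib.helper12.ExtTensorRel
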