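import Mathlib
import Groth.Agent.Lib.Helper12.Ferrand7

/-!
# Ferrand pushouts: finiteness over a Noetherian base (helper12)

* `finiteType_of_Pr`: Artin–Tate for fibre products of rings `B ×_A A'`.
-/

set_option autoImplicit false
universe u
open CategoryTheory AlgebraicGeometry Opposite TopologicalSpace PrimeSpectrum Limits

namespace Groth.Agent.Lib.Helper12.Ferrand9
open SpecPushout Ferrand1 Ferrand

section Algebra
variable {Λ A A' B : Type u} [CommRing Λ] [CommRing A] [CommRing A'] [CommRing B]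
  {p : A' →+* A} {q : B →+* A}

/-- **Artin–Tate for fibre products**: over a Noetherian ring, `B ×_A A'` is of finite type when
`B` and `A'` are, `A' → A` is surjective and `B → A` is integral. -/
theorem finiteType_of_Pr [IsNoetherianRing Λ] (γ : Λ →+* Pr p q)
    (hp : Function.Surjective p) (hq : q.IsIntegral)
    (h₁ : ((φ₁ p q).comp γ).FiniteType) (h₂ : ((φ₂ p q).comp γ).FiniteType) : γ.FiniteType := by
  let _ : Algebra Λ (Pr p q) := γ.toAlgebra
  let _ : Algebra Λ B := ((φ₁ p q).comp γ).toAlgebra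
  let _ : Algebra Λ A' := ((φ₂ p q).comp γ).toAlgebra
  let _ : Algebra (Pr p q) B := (φ₁ p q).toAlgebra
  let _ : Algebra (Pr p q) A' := (φ₂ p q).toAlgebra
  have : IsScalarTower Λ (Pr p q) (B × A') := IsScalarTower.of_algebraMap_eq (fun x => rfl)
  have : Algebra.FiniteType Λ B := h₁
  have : Algebra.FiniteType Λ A' := h₂
  have : Algebra.IsIntegral (Pr p q) B :=
    ⟨fun b => by
      obtain ⟨x, rfl⟩ := φ₁_surjective q hp b
      exact isIntegral_algebraMap (R := Pr p q) (A := B) (x := x)⟩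
  have : Algebra.IsIntegral (Pr p q) A' := ⟨fun a => φ₂_isIntegral q hp hq a⟩
  have hft : Algebra.FiniteType Λ (B × A') := inferInstance
  have hint : Algebra.IsIntegral (Pr p q) (B × A') := inferInstance
  have hft' : Algebra.FiniteType (Pr p q) (B × A') :=
    Algebra.FiniteType.of_restrictScalars_finiteType Λ _ _
  have hfin : Module.Finite (Pr p q) (B × A') := Algebra.IsIntegral.finite
  have hinj : Function.Injective (algebraMap (Pr p q) (B × A')) := by
    intro x y hxy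
    exact Subtype.ext hxy
  exact ⟨fg_of_fg_of_fg Λ (Pr p q) (B × A') hft.out hfin.fg_top hinj⟩

end Algebra

section Geometry
variable {X Y Z S : Scheme.{u}} {i : Z ⟶ X} {j : Z ⟶ Y} [IsClosedImmersion i]
variable {f : X ⟶ S} {t : Y ⟶ S} (hsq : i ≫ f = j ≫ t)

include hsq in
theorem γ_mem (k : GoodPair i j) (O : S.Opens) (hU : k.U ≤ f ⁻¹ᵁ O) (hV : k.V ≤ t ⁻¹ᵁ O)
    (x : Γ(S, O)) : k.q ((t.appLE O k.V hV).hom x) = k.p ((f.appLE O k.U hU).hom x) := by
  have h1 : t.appLE O k.V hV ≫ j.appLE k.V k.W k.W_le = (j ≫ t).appLE O k.W _ :=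
    Scheme.Hom.appLE_comp_appLE ..
  have h2 : f.appLE O k.U hU ≫ i.appLE k.U k.W le_rfl = (i ≫ f).appLE O k.W _ :=
    Scheme.Hom.appLE_comp_appLE ..
  have h3 := appLE_congr_hom (i ≫ f) (j ≫ t) hsq O k.W
    (le_rfl.trans ((Opens.map i.base).map (homOfLE hU)).le)
    (k.W_le.trans ((Opens.map j.base).map (homOfLE hV)).le)
  change (t.appLE O k.V hV ≫ j.appLE k.V k.W k.W_le) x =
    (f.appLE O k.U hU ≫ i.appLE k.U k.W le_rfl) x
  rw [h1, h2, h3]

/-- structure map of the chart ring of a good pair lying over an open `O` of the base -/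
noncomputable def γ (k : GoodPair i j) (O : S.Opens) (hU : k.U ≤ f ⁻¹ᵁ O) (hV : k.V ≤ t ⁻¹ᵁ O) :
    Γ(S, O) →+* k.R :=
  (RingHom.prod (t.appLE O k.V hV).hom (f.appLE O k.U hU).hom).codRestrict k.R
    (γ_mem hsq k O hU hV)

theorem φ₁_γ (k : GoodPair i j) (O : S.Opens) (hU : k.U ≤ f ⁻¹ᵁ O) (hV : k.V ≤ t ⁻¹ᵁ O) :
    (φ₁ k.p k.q).comp (γ hsq k O hU hV) = (t.appLE O k.V hV).hom := rfl

theorem φ₂_γ (k : GoodPair i j) (O : S.Opens) (hU : k.U ≤ f ⁻¹ᵁ O) (hV : k.V ≤ t ⁻¹ᵁ O) :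
    (φ₂ k.p k.q).comp (γ hsq k O hU hV) = (f.appLE O k.U hU).hom := rfl

/-- the chart of a good pair over `O` maps to `Spec Γ(S, O)` -/
noncomputable def g (k : GoodPair i j) (O : S.Opens) (hU : k.U ≤ f ⁻¹ᵁ O) (hV : k.V ≤ t ⁻¹ᵁ O) :
    (chart i j).obj k ⟶ Spec Γ(S, O) :=
  Spec.map (CommRingCat.ofHom (γ hsq k O hU hV))

theorem aC_g (k : GoodPair i j) (O : S.Opens) (hU : k.U ≤ f ⁻¹ᵁ O) (hV : k.V ≤ t ⁻¹ᵁ O) :
    aC i j k ≫ g hsq k O hU hV = Spec.map (f.appLE O k.U hU) := by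
  change Spec.map _ ≫ Spec.map _ = Spec.map _
  rw [← Spec.map_comp]; rfl

theorem bC_g (k : GoodPair i j) (O : S.Opens) (hU : k.U ≤ f ⁻¹ᵁ O) (hV : k.V ≤ t ⁻¹ᵁ O) :
    bC i j k ≫ g hsq k O hU hV = Spec.map (t.appLE O k.V hV) := by
  change Spec.map _ ≫ Spec.map _ = Spec.map _
  rw [← Spec.map_comp]; rfl

theorem locallyOfFiniteType_g [IsLocallyNoetherian S] [LocallyOfFiniteType f]
    [LocallyOfFiniteType t] [IsIntegralHom j] (k : GoodPair i j) (O : S.Opens)
    (hO : IsAffineOpen O) (hU : k.U ≤ f ⁻¹ᵁ O) (hV : k.V ≤ t ⁻¹ᵁ O) :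
    LocallyOfFiniteType (g hsq k O hU hV) := by
  have : IsNoetherianRing Γ(S, O) := IsLocallyNoetherian.component_noetherian ⟨O, hO⟩
  have h1 : (γ hsq k O hU hV).FiniteType := by
    refine finiteType_of_Pr _ k.p_surjective (q_isIntegral i j k) ?_ ?_
    · rw [φ₁_γ]
      exact LocallyOfFiniteType.finiteType_appLE t hO k.hV hV
    · rw [φ₂_γ]
      exact LocallyOfFiniteType.finiteType_appLE f hO k.hU hU
  exact (HasRingHomProperty.Spec_iff (P := @LocallyOfFiniteType)).mpr h1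

variable (hcov : ∀ y : Y, ∃ k : GoodPair i j, y ∈ k.V) (π : P i j ⟶ S)
  (ha : a i j hcov ≫ π = f) (hb : b i j hcov ≫ π = t)

include ha hb in
theorem ιP_π (k : GoodPair i j) (O : S.Opens) (hO : IsAffineOpen O) (hU : k.U ≤ f ⁻¹ᵁ O)
    (hV : k.V ≤ t ⁻¹ᵁ O) :
    ιP i j k ≫ π = g hsq k O hU hV ≫ hO.fromSpec := by
  apply (isPushout_chart i j k).hom_ext
  · rw [← Category.assoc, ← fromSpec_a i j hcov k, Category.assoc, ha, ← Category.assoc, aC_g,
      IsAffineOpen.SpecMap_appLE_fromSpec f hO k.hU hU]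
  · rw [← Category.assoc, ← fromSpec_b i j hcov k, Category.assoc, hb, ← Category.assoc, bC_g,
      IsAffineOpen.SpecMap_appLE_fromSpec t hO k.hV hV]

include hsq ha hb in
theorem locallyOfFiniteType_chart [IsLocallyNoetherian S] [LocallyOfFiniteType f]
    [LocallyOfFiniteType t] [IsIntegralHom j] (k : GoodPair i j) (O : S.Opens)
    (hO : IsAffineOpen O) (hU : k.U ≤ f ⁻¹ᵁ O) (hV : k.V ≤ t ⁻¹ᵁ O) :
    LocallyOfFiniteType (ιP i j k ≫ π) := by
  rw [ιP_π hsq hcov π ha hb k O hO hU hV]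
  have := locallyOfFiniteType_g hsq k O hO hU hV
  infer_instance

include ha hb in
/-- every point of `P` lies in the chart of a good pair lying over an affine open of the base -/
theorem exists_small (x : P i j) : ∃ (k : GoodPair i j) (O : S.Opens), IsAffineOpen O ∧
    k.U ≤ f ⁻¹ᵁ O ∧ k.V ≤ t ⁻¹ᵁ O ∧ x ∈ Set.range (ιP i j k).base := by
  obtain ⟨k, w, hw₀⟩ := Scheme.IsLocallyDirected.ι_jointly_surjective (chart i j) x
  have hw₀' : (ιP i j k).base w = x := hw₀
  subst hw₀'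
  obtain ⟨O, hO, hxO, -⟩ := exists_isAffineOpen_mem_and_subset (X := S)
    (x := π.base ((ιP i j k).base w)) (U := ⊤) trivial
  let s : Set (PrimeSpectrum k.R) := {w' | (ιP i j k ≫ π).base w' ∈ O}
  have hopen : IsOpen s := O.isOpen.preimage (ιP i j k ≫ π).continuous
  have hw : (show PrimeSpectrum k.R from w) ∈ s := by
    change (ιP i j k ≫ π).base w ∈ O
    rw [Scheme.Hom.comp_apply]; exact hxO
  obtain ⟨_, ⟨r, rfl⟩, hwr, hrO⟩ :=
    PrimeSpectrum.isTopologicalBasis_basic_opens.exists_subset_of_mem_open hw hopen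
  refine ⟨k.loc r, O, hO, ?_, ?_, ?_⟩
  · intro x' hx'
    have hx'U : x' ∈ k.U := X.basicOpen_le _ hx'
    obtain ⟨x'', rfl⟩ := exists_fromSpec_eq k.hU x' hx'U
    have hnm : r.1.2 ∉ x''.asIdeal := (fromSpec_mem_basicOpen k.hU r.1.2 x'').mp hx'
    have h1 : (show PrimeSpectrum k.R from (aC i j k).base x'') ∈
        (PrimeSpectrum.basicOpen r : Set (PrimeSpectrum k.R)) := hnm
    have h2 : (ιP i j k ≫ π).base ((aC i j k).base x'') ∈ O := hrO h1
    have h3 : f.base (k.hU.fromSpec.base x'') = (ιP i j k ≫ π).base ((aC i j k).base x'') := by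
      rw [← ha, ← Scheme.Hom.comp_apply, ← Scheme.Hom.comp_apply, ← Category.assoc, fromSpec_a,
        Category.assoc]
    change f.base _ ∈ O
    rw [h3]; exact h2
  · intro y' hy'
    have hy'V : y' ∈ k.V := Y.basicOpen_le _ hy'
    obtain ⟨y'', rfl⟩ := exists_fromSpec_eq k.hV y' hy'V
    have hnm : r.1.1 ∉ y''.asIdeal := (fromSpec_mem_basicOpen k.hV r.1.1 y'').mp hy'
    have h1 : (show PrimeSpectrum k.R from (bC i j k).base y'') ∈
        (PrimeSpectrum.basicOpen r : Set (PrimeSpectrum k.R)) := hnm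
    have h2 : (ιP i j k ≫ π).base ((bC i j k).base y'') ∈ O := hrO h1
    have h3 : t.base (k.hV.fromSpec.base y'') = (ιP i j k ≫ π).base ((bC i j k).base y'') := by
      rw [← hb, ← Scheme.Hom.comp_apply, ← Scheme.Hom.comp_apply, ← Category.assoc, fromSpec_b,
        Category.assoc]
    change t.base _ ∈ O
    rw [h3]; exact h2
  · have hl : k.loc r ≤ k := ple_loc k r
    have hrl : IsAwayHom (resR (leOfHom (homOfLE hl)).refines) r := isAwayHom_resR _ _ rfl rfl
    obtain ⟨w', hw'⟩ := exists_map_eq (homOfLE hl) r hrl w hwr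
    refine ⟨w', ?_⟩
    rw [← hw', ← Scheme.Hom.comp_apply, chart_map_ιP]

set_option backward.isDefEq.respectTransparency.types false in
include hsq ha hb in
/-- **finite type**: over a locally Noetherian base the pushout of finite-type schemes along a closed
immersion and an integral morphism is locally of finite type. -/
theorem locallyOfFiniteType_π [IsLocallyNoetherian S] [LocallyOfFiniteType f]
    [LocallyOfFiniteType t] [IsIntegralHom j] : LocallyOfFiniteType π := by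
  let J := {k : GoodPair i j // ∃ O : S.Opens, IsAffineOpen O ∧ k.U ≤ f ⁻¹ᵁ O ∧ k.V ≤ t ⁻¹ᵁ O}
  let 𝒰 : (P i j).OpenCover :=
    Scheme.Cover.mkOfCovers J (fun k => (chart i j).obj k.1) (fun k => ιP i j k.1)
      (fun x => by
        obtain ⟨k, O, hO, hU, hV, w, hw⟩ := exists_small hcov π ha hb x
        exact ⟨⟨k, O, hO, hU, hV⟩, w, hw⟩)
  refine IsZariskiLocalAtSource.of_openCover 𝒰 (fun (k : J) => ?_)
  obtain ⟨O, hO, hU, hV⟩ := k.2
  exact locallyOfFiniteType_chart hsq hcov π ha hb k.1 O hO hU hV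

end Geometry

end Groth.Agent.Lib.Helper12.Ferrand9
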