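import Mathlib

/-!
# Properness from a jointly surjective pair (helper12)

If `a : X ⟶ P`, `b : Y ⟶ P` are jointly surjective and `a ≫ π`, `b ≫ π` are universally closed then
so is `π`; if moreover `a`, `b` are universally closed and `a ≫ π`, `b ≫ π` separated then `π` is
separated.
-/

set_option autoImplicit false
universe u
open CategoryTheory AlgebraicGeometry Limits

namespace Groth.Agent.Lib.Helper12.JointProper

variable {X Y P S : Scheme.{u}} (a : X ⟶ P) (b : Y ⟶ P) (π : P ⟶ S)

set_option backward.isDefEq.respectTransparency.types false in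
theorem universallyClosed_of_joint
    (hs : ∀ x : P, (∃ x' : X, a.base x' = x) ∨ (∃ y : Y, b.base y = x))
    [UniversallyClosed (a ≫ π)] [UniversallyClosed (b ≫ π)] : UniversallyClosed π := by
  constructor
  intro P' S' i₁ i₂ π' H
  have ha : IsClosedMap (pullback.fst i₁ a ≫ π').base := UniversallyClosed.universally_isClosedMap _ _ _
    ((IsPullback.of_hasPullback i₁ a).paste_horiz H)
  have hb : IsClosedMap (pullback.fst i₁ b ≫ π').base := UniversallyClosed.universally_isClosedMap _ _ _
    ((IsPullback.of_hasPullback i₁ b).paste_horiz H)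
  intro K hK
  have e : π'.base '' K = (pullback.fst i₁ a ≫ π').base '' ((pullback.fst i₁ a).base ⁻¹' K) ∪
      (pullback.fst i₁ b ≫ π').base '' ((pullback.fst i₁ b).base ⁻¹' K) := by
    ext s
    constructor
    · rintro ⟨w, hw, rfl⟩
      rcases hs (i₁.base w) with ⟨x', hx'⟩ | ⟨y, hy⟩
      · obtain ⟨z, hz, -⟩ := Scheme.Pullback.exists_preimage_pullback (f := i₁) (g := a) w x' hx'.symm
        left
        refine ⟨z, ?_, ?_⟩
        · change (pullback.fst i₁ a).base z ∈ K
          rw [hz]; exact hw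
        · rw [Scheme.Hom.comp_apply, hz]
      · obtain ⟨z, hz, -⟩ := Scheme.Pullback.exists_preimage_pullback (f := i₁) (g := b) w y hy.symm
        right
        refine ⟨z, ?_, ?_⟩
        · change (pullback.fst i₁ b).base z ∈ K
          rw [hz]; exact hw
        · rw [Scheme.Hom.comp_apply, hz]
    · rintro (⟨z, hz, rfl⟩ | ⟨z, hz, rfl⟩)
      · exact ⟨_, hz, (Scheme.Hom.comp_apply _ _ _).symm⟩
      · exact ⟨_, hz, (Scheme.Hom.comp_apply _ _ _).symm⟩
  rw [e]
  exact (ha _ (hK.preimage (pullback.fst i₁ a).continuous)).union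
    (hb _ (hK.preimage (pullback.fst i₁ b).continuous))

/-- the map `X ×_S X ⟶ P ×_S P` -/
noncomputable abbrev sq : pullback (a ≫ π) (a ≫ π) ⟶ pullback π π :=
  pullback.map (a ≫ π) (a ≫ π) π π a a (𝟙 S) (by simp) (by simp)

theorem diagonal_sq : pullback.diagonal (a ≫ π) ≫ sq a π = a ≫ pullback.diagonal π := by
  apply pullback.hom_ext
  · rw [Category.assoc, Category.assoc, pullback.lift_fst, pullback.diagonal_fst_assoc,
      pullback.diagonal_fst, Category.comp_id]
  · rw [Category.assoc, Category.assoc, pullback.lift_snd, pullback.diagonal_snd_assoc,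
      pullback.diagonal_snd, Category.comp_id]

theorem isClosedMap_sq [UniversallyClosed a] : IsClosedMap (sq a π).base := by
  have : UniversallyClosed (sq a π) :=
    MorphismProperty.pullbackMap (P := @UniversallyClosed) (f := a ≫ π) (g := a ≫ π) (f' := π)
      (g' := π) (i₁ := a) (i₂ := a) ‹_› ‹_› rfl rfl
  exact (sq a π).isClosedMap

theorem isSeparated_of_joint
    (hs : ∀ x : P, (∃ x' : X, a.base x' = x) ∨ (∃ y : Y, b.base y = x))
    [UniversallyClosed a] [UniversallyClosed b]
    [IsSeparated (a ≫ π)] [IsSeparated (b ≫ π)] : IsSeparated π := by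
  refine ⟨IsClosedImmersion.of_isPreimmersion _ ?_⟩
  have e : Set.range (pullback.diagonal π).base =
      (sq a π).base '' Set.range (pullback.diagonal (a ≫ π)).base ∪
        (sq b π).base '' Set.range (pullback.diagonal (b ≫ π)).base := by
    ext s
    constructor
    · rintro ⟨x, rfl⟩
      rcases hs x with ⟨x', rfl⟩ | ⟨y, rfl⟩
      · left
        refine ⟨_, ⟨x', rfl⟩, ?_⟩
        rw [← Scheme.Hom.comp_apply, diagonal_sq, Scheme.Hom.comp_apply]
      · right
        refine ⟨_, ⟨y, rfl⟩, ?_⟩
        rw [← Scheme.Hom.comp_apply, diagonal_sq, Scheme.Hom.comp_apply]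
    · rintro (⟨_, ⟨x', rfl⟩, rfl⟩ | ⟨_, ⟨y, rfl⟩, rfl⟩)
      · refine ⟨a.base x', ?_⟩
        rw [← Scheme.Hom.comp_apply, ← diagonal_sq, Scheme.Hom.comp_apply]
      · refine ⟨b.base y, ?_⟩
        rw [← Scheme.Hom.comp_apply, ← diagonal_sq, Scheme.Hom.comp_apply]
  rw [e]
  exact (isClosedMap_sq a π _ (pullback.diagonal (a ≫ π)).isClosedEmbedding.isClosed_range).union
    (isClosedMap_sq b π _ (pullback.diagonal (b ≫ π)).isClosedEmbedding.isClosed_range)

theorem quasiCompact_of_joint
    (hs : ∀ x : P, (∃ x' : X, a.base x' = x) ∨ (∃ y : Y, b.base y = x))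
    [QuasiCompact (a ≫ π)] [QuasiCompact (b ≫ π)] : QuasiCompact π := by
  rw [quasiCompact_iff_forall_isAffineOpen]
  intro O hO
  have h1 : IsCompact ((a ≫ π) ⁻¹ᵁ O : Set X) :=
    (quasiCompact_iff_forall_isAffineOpen (f := a ≫ π)).mp inferInstance O hO
  have h2 : IsCompact ((b ≫ π) ⁻¹ᵁ O : Set Y) :=
    (quasiCompact_iff_forall_isAffineOpen (f := b ≫ π)).mp inferInstance O hO
  have e : (π ⁻¹ᵁ O : Set P) =
      a.base '' ((a ≫ π) ⁻¹ᵁ O : Set X) ∪ b.base '' ((b ≫ π) ⁻¹ᵁ O : Set Y) := by
    ext x
    constructor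
    · intro hx
      rcases hs x with ⟨x', rfl⟩ | ⟨y, rfl⟩
      · left
        refine ⟨x', ?_, rfl⟩
        change (a ≫ π).base x' ∈ O
        rw [Scheme.Hom.comp_apply]; exact hx
      · right
        refine ⟨y, ?_, rfl⟩
        change (b ≫ π).base y ∈ O
        rw [Scheme.Hom.comp_apply]; exact hx
    · rintro (⟨x', hx', rfl⟩ | ⟨y, hy, rfl⟩)
      · change π.base (a.base x') ∈ O
        rw [← Scheme.Hom.comp_apply]; exact hx'
      · change π.base (b.base y) ∈ O
        rw [← Scheme.Hom.comp_apply]; exact hy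
  rw [e]
  exact (h1.image a.continuous).union (h2.image b.continuous)

/-- properness descends along a jointly surjective pair of universally closed maps (given finite
type) -/
theorem isProper_of_joint
    (hs : ∀ x : P, (∃ x' : X, a.base x' = x) ∨ (∃ y : Y, b.base y = x))
    [UniversallyClosed a] [UniversallyClosed b] [IsProper (a ≫ π)] [IsProper (b ≫ π)]
    [LocallyOfFiniteType π] : IsProper π := by
  have := universallyClosed_of_joint a b π hs
  have := isSeparated_of_joint a b π hs
  exact {}

end Groth.Agent.Lib.Helper12.JointProper
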