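import Mathlib
import Groth.Agent.Lib.Helper12.Ferrand9
import Groth.Agent.Lib.Helper12.JointProper

/-!
# Ferrand pushouts over a base: finite type, quasi-compact, proper (helper12)

For an arbitrary pushout `P` of a closed immersion `i : Z ⟶ X` along an integral `j : Z ⟶ Y` (with
good pairs) over a base `S`: `P ⟶ S` is locally of finite type (Noetherian base), quasi-compact and
proper when `X`, `Y` are.
-/

set_option autoImplicit false
universe u
open CategoryTheory AlgebraicGeometry Opposite TopologicalSpace PrimeSpectrum Limits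

namespace Groth.Agent.Lib.Helper12.Ferrand10
open Ferrand

variable {X Y Z S : Scheme.{u}} (i : Z ⟶ X) (j : Z ⟶ Y) [IsClosedImmersion i]
  (hcov : ∀ y : Y, ∃ (U : X.Opens) (V : Y.Opens), IsAffineOpen U ∧ IsAffineOpen V ∧ y ∈ V ∧
      i ⁻¹ᵁ U = j ⁻¹ᵁ V)
  (f : X ⟶ S) (t : Y ⟶ S) (hsq : i ≫ f = j ≫ t)
  {P : Scheme.{u}} (a : X ⟶ P) (b : Y ⟶ P) (hP : IsPushout i j a b)
  (π : P ⟶ S) (ha : a ≫ π = f) (hb : b ≫ π = t)

include hcov hsq hP ha hb in
theorem locallyOfFiniteType [IsLocallyNoetherian S] [LocallyOfFiniteType f]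
    [LocallyOfFiniteType t] [IsIntegralHom j] : LocallyOfFiniteType π := by
  have hcov' : ∀ y : Y, ∃ k : GoodPair i j, y ∈ k.V := by
    intro y
    obtain ⟨U, V, hU, hV, hy, h⟩ := hcov y
    exact ⟨⟨U, V, hU, hV, h⟩, hy⟩
  have h1 := Ferrand.isPushout i j hcov'
  have ea : Ferrand.a i j hcov' ≫ (h1.isoIsPushout _ _ hP).hom = a := h1.inl_isoIsPushout_hom _ _ hP
  have eb : Ferrand.b i j hcov' ≫ (h1.isoIsPushout _ _ hP).hom = b := h1.inr_isoIsPushout_hom _ _ hP
  have h2 : LocallyOfFiniteType ((h1.isoIsPushout _ _ hP).hom ≫ π) :=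
    Ferrand9.locallyOfFiniteType_π hsq hcov' _ (by rw [← Category.assoc, ea, ha])
      (by rw [← Category.assoc, eb, hb])
  have e : π = (h1.isoIsPushout _ _ hP).inv ≫ (h1.isoIsPushout _ _ hP).hom ≫ π := by simp
  rw [e]
  infer_instance

include hcov hP ha hb in
theorem quasiCompact [QuasiCompact f] [QuasiCompact t] : QuasiCompact π := by
  have : QuasiCompact (a ≫ π) := by rw [ha]; infer_instance
  have : QuasiCompact (b ≫ π) := by rw [hb]; infer_instance
  exact JointProper.quasiCompact_of_joint a b π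
    (Ferrand7.joint_surjective_of_isPushout i j hcov a b hP)

include hcov hP ha hb in
theorem isProper [IsIntegralHom j] [IsProper f] [IsProper t] [LocallyOfFiniteType π] :
    IsProper π := by
  have : IsProper (a ≫ π) := by rw [ha]; infer_instance
  have : IsProper (b ≫ π) := by rw [hb]; infer_instance
  obtain ⟨-, h2, h3, -⟩ := Ferrand6.of_isPushout i j hcov a b hP
  have : IsIntegralHom a := h3 inferInstance
  exact JointProper.isProper_of_joint a b π
    (Ferrand7.joint_surjective_of_isPushout i j hcov a b hP)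

/-- good pairs from the standing hypothesis of the pinching rows -/
theorem hcov_of_hstd {X Y T Z : Scheme.{u}} (f : X ⟶ Y) (t : T ⟶ Y) (ξ : Z ⟶ T) (ι : Z ⟶ X)
    [IsAffineHom t] (hsq : ι ≫ f = ξ ≫ t)
    (hstd : ∀ y : Y, ∃ U : Y.Opens, IsAffineOpen U ∧ y ∈ U ∧ ∃ V : X.Opens, IsAffineOpen V ∧
      V ≤ f ⁻¹ᵁ U ∧ ∀ z : Z, (ξ ≫ t).base z ∈ U → ι.base z ∈ V) (y' : T) :
    ∃ (U : X.Opens) (V : T.Opens), IsAffineOpen U ∧ IsAffineOpen V ∧ y' ∈ V ∧
      ι ⁻¹ᵁ U = ξ ⁻¹ᵁ V := by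
  obtain ⟨U, hU, hyU, V, hV, hVU, hZ⟩ := hstd (t.base y')
  refine ⟨V, t ⁻¹ᵁ U, hV, hU.preimage t, hyU, ?_⟩
  ext z
  constructor
  · intro hz
    have h1 : f.base (ι.base z) ∈ U := hVU hz
    have h2 : (ι ≫ f).base z ∈ U := by simpa using h1
    rw [hsq] at h2
    simpa using h2
  · intro hz
    have h2 : (ξ ≫ t).base z ∈ U := by simpa using hz
    exact hZ z h2

end Groth.Agent.Lib.Helper12.Ferrand10
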