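import Mathlib
import Groth.Agent.Lib.Helper12.Ferrand4

/-!
# Ferrand pushouts: good pairs for an integral morphism (helper12)

For a closed immersion `i : Z ⟶ X` and an integral `j : Z ⟶ Y` such that every fibre of `j` lies in
the preimage of an affine open of `X`, every point of `Y` lies in a good pair (Stacks 0E24-type
lemma).  Consequently the pushout exists (`exists_pushout_of_integral`).
-/

set_option autoImplicit false
universe u
open CategoryTheory AlgebraicGeometry Opposite TopologicalSpace PrimeSpectrum Limits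

namespace Groth.Agent.Lib.Helper12.Ferrand5
open Ferrand Ferrand1

section Algebra
variable {B D : Type*} [CommRing B] [CommRing D] (φ : B →+* D)

/-- for `α` integral over `B` there is `d ∈ D` which, on the fibre over `𝔭`, vanishes exactly where `α`
does not -/
theorem exists_indicator (hφ : φ.IsIntegral) (𝔭 : Ideal B) [h𝔭 : 𝔭.IsPrime] (α : D) :
    ∃ d : D, ∀ 𝔮 : Ideal D, 𝔮.IsPrime → 𝔮.comap φ = 𝔭 → (d ∈ 𝔮 ↔ α ∉ 𝔮) := by
  obtain ⟨P, hP, hPα⟩ := hφ α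
  have hex : ∃ m, P.coeff m ∉ 𝔭 := ⟨P.natDegree, by
    rw [hP.coeff_natDegree]; exact (Ideal.ne_top_iff_one 𝔭).mp h𝔭.ne_top⟩
  classical
  let N := Nat.find hex
  have hN : P.coeff N ∉ 𝔭 := Nat.find_spec hex
  have hmin : ∀ m < N, P.coeff m ∈ 𝔭 := fun m hm => by
    by_contra h; exact Nat.find_min hex hm h
  have hNle : N ≤ P.natDegree := Nat.find_min' hex (by
    rw [hP.coeff_natDegree]; exact (Ideal.ne_top_iff_one 𝔭).mp h𝔭.ne_top)
  obtain ⟨M', hM'⟩ : ∃ M', P.natDegree + 1 = N + (M' + 1) := ⟨P.natDegree - N, by omega⟩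
  have hsum : ∑ m ∈ Finset.range N, φ (P.coeff m) * α ^ m +
      ∑ l ∈ Finset.range (M' + 1), φ (P.coeff (N + l)) * α ^ (N + l) = 0 := by
    rw [← Finset.sum_range_add (fun m => φ (P.coeff m) * α ^ m), ← hM',
      ← Polynomial.eval₂_eq_sum_range]
    exact hPα
  refine ⟨∑ l ∈ Finset.range (M' + 1), φ (P.coeff (N + l)) * α ^ l, fun 𝔮 h𝔮 hcomap => ?_⟩
  have hlow : ∑ m ∈ Finset.range N, φ (P.coeff m) * α ^ m ∈ 𝔮 := by
    refine Ideal.sum_mem _ (fun m hm => Ideal.mul_mem_right _ _ ?_)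
    have : P.coeff m ∈ 𝔮.comap φ := by rw [hcomap]; exact hmin m (Finset.mem_range.mp hm)
    exact this
  have hmul : α ^ N * ∑ l ∈ Finset.range (M' + 1), φ (P.coeff (N + l)) * α ^ l ∈ 𝔮 := by
    have e : α ^ N * ∑ l ∈ Finset.range (M' + 1), φ (P.coeff (N + l)) * α ^ l =
        ∑ l ∈ Finset.range (M' + 1), φ (P.coeff (N + l)) * α ^ (N + l) := by
      rw [Finset.mul_sum]
      refine Finset.sum_congr rfl (fun l _ => ?_)
      rw [pow_add]; ring
    rw [e, eq_neg_of_add_eq_zero_right hsum]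
    exact 𝔮.neg_mem hlow
  have hd : ∑ l ∈ Finset.range (M' + 1), φ (P.coeff (N + l)) * α ^ l =
      α * (∑ l ∈ Finset.range M', φ (P.coeff (N + (l + 1))) * α ^ l) + φ (P.coeff N) := by
    rw [Finset.sum_range_succ', Finset.mul_sum]
    simp only [pow_zero, mul_one, add_zero]
    congr 1
    refine Finset.sum_congr rfl (fun l _ => ?_)
    rw [pow_succ]; ring
  constructor
  · intro hdq hα
    apply hN
    have : φ (P.coeff N) ∈ 𝔮 := by
      have h2 := 𝔮.sub_mem hdq (𝔮.mul_mem_right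
        (∑ l ∈ Finset.range M', φ (P.coeff (N + (l + 1))) * α ^ l) hα)
      rw [hd] at h2
      simpa using h2
    rw [← hcomap]; exact this
  · intro hα
    rcases h𝔮.mem_or_mem hmul with h | h
    · exact absurd (h𝔮.mem_of_pow_mem _ h) hα
    · exact h

variable {C : Type*} [CommRing C]

/-- **prime avoidance on an integral fibre**: an ideal `K` whose image generates the unit ideal
and whose elements absorb `D` up to powers contains an element not vanishing on the fibre. -/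
theorem exists_avoiding (hφ : φ.IsIntegral) (ρ : C →+* D) (K : Ideal C)
    (hK : ∀ a ∈ K, ∀ d : D, ∃ a' ∈ K, ∃ N : ℕ, ρ a' = ρ a ^ (N + 1) * d)
    (hspan : Ideal.span (ρ '' (K : Set C)) = ⊤) (𝔭 : Ideal B) [h𝔭 : 𝔭.IsPrime] :
    ∃ a ∈ K, ∀ 𝔮 : Ideal D, 𝔮.IsPrime → 𝔮.comap φ = 𝔭 → ρ a ∉ 𝔮 := by
  classical
  obtain ⟨s, hsK, hs⟩ := (Ideal.span_eq_top_iff_finite _).mp hspan
  have key : ∀ t : Finset D, (↑t : Set D) ⊆ ρ '' (K : Set C) → ∃ a ∈ K, ∀ 𝔮 : Ideal D, 𝔮.IsPrime →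
      𝔮.comap φ = 𝔭 → (∃ x ∈ t, x ∉ 𝔮) → ρ a ∉ 𝔮 := by
    intro t
    induction t using Finset.induction_on with
    | empty =>
      intro _
      exact ⟨0, K.zero_mem, fun 𝔮 _ _ h => by obtain ⟨x, hx, -⟩ := h; simp at hx⟩
    | insert x t hxt ih =>
      intro hsub
      obtain ⟨a₁, ha₁, h₁⟩ := ih (fun y hy => hsub (Finset.mem_insert_of_mem hy))
      obtain ⟨a₂, ha₂, rfl⟩ := hsub (Finset.mem_insert_self x t)
      obtain ⟨d₁, hd₁⟩ := exists_indicator φ hφ 𝔭 (ρ a₁)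
      obtain ⟨a₂', ha₂', N, hN⟩ := hK a₂ ha₂ d₁
      refine ⟨a₁ + a₂', K.add_mem ha₁ ha₂', fun 𝔮 h𝔮 hcomap hex => ?_⟩
      rw [map_add]
      by_cases hq : ρ a₁ ∈ 𝔮
      · have hd : d₁ ∉ 𝔮 := fun h => (hd₁ 𝔮 h𝔮 hcomap).mp h hq
        have hx : ρ a₂ ∉ 𝔮 := by
          obtain ⟨x', hx', hx'q⟩ := hex
          rcases Finset.mem_insert.mp hx' with rfl | hx't
          · exact hx'q
          · exact absurd hq (h₁ 𝔮 h𝔮 hcomap ⟨x', hx't, hx'q⟩)
        have h2 : ρ a₂' ∉ 𝔮 := by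
          rw [hN]
          intro h
          rcases h𝔮.mem_or_mem h with h | h
          · exact hx (h𝔮.mem_of_pow_mem _ h)
          · exact hd h
        intro h
        exact h2 (by simpa using 𝔮.sub_mem h hq)
      · have hd : d₁ ∈ 𝔮 := (hd₁ 𝔮 h𝔮 hcomap).mpr hq
        have h2 : ρ a₂' ∈ 𝔮 := by rw [hN]; exact 𝔮.mul_mem_left _ hd
        intro h
        exact hq (by simpa using 𝔮.sub_mem h h2)
  obtain ⟨a, ha, h⟩ := key s hsK
  refine ⟨a, ha, fun 𝔮 h𝔮 hcomap => h 𝔮 h𝔮 hcomap ?_⟩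
  by_contra hcon
  push Not at hcon
  have : Ideal.span (↑s : Set D) ≤ 𝔮 := Ideal.span_le.mpr (fun x hx => hcon x hx)
  rw [hs] at this
  exact h𝔮.ne_top (top_le_iff.mp this)

end Algebra

section Geometry

theorem res_res {S : Scheme.{u}} {U V W : S.Opens} (h₁ : V ≤ U) (h₂ : W ≤ V) (x : Γ(S, U)) :
    (S.presheaf.map (homOfLE h₂).op).hom ((S.presheaf.map (homOfLE h₁).op).hom x) =
      (S.presheaf.map (homOfLE (h₂.trans h₁)).op).hom x := by
  rw [← CommRingCat.comp_apply, ← Functor.map_comp]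
  rfl

/-- absorbing property of the ideal of sections whose nonvanishing locus lies in `W`. -/
theorem idealLE_absorb {S : Scheme.{u}} {U W : S.Opens} (hU : IsAffineOpen U) (hW : IsAffineOpen W)
    (hWU : W ≤ U) (a : Γ(S, U)) (ha : a ∈ idealLE U W) (d : Γ(S, W)) :
    ∃ a' ∈ idealLE U W, ∃ N : ℕ, (S.presheaf.map (homOfLE hWU).op).hom a' =
      (S.presheaf.map (homOfLE hWU).op).hom a ^ (N + 1) * d := by
  have hle : S.basicOpen a ≤ W := ha
  have e1 : S.basicOpen ((S.presheaf.map (homOfLE hWU).op).hom a) = S.basicOpen a := by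
    rw [Scheme.basicOpen_res]; exact inf_eq_right.mpr hle
  have h1 := isAwayHom_res hU a (S.basicOpen a) rfl (S.basicOpen_le a)
  have h2 := isAwayHom_res hW ((S.presheaf.map (homOfLE hWU).op).hom a) (S.basicOpen a) e1.symm hle
  obtain ⟨m, c, hc⟩ := h1.surj ((S.presheaf.map (homOfLE hle).op).hom d)
  have h3 : (S.presheaf.map (homOfLE hle).op).hom ((S.presheaf.map (homOfLE hWU).op).hom c) =
      (S.presheaf.map (homOfLE hle).op).hom (d * (S.presheaf.map (homOfLE hWU).op).hom a ^ m) := by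
    rw [res_res, ← hc, map_mul, map_pow, res_res]
  obtain ⟨n, hn⟩ := h2.eq _ _ h3
  refine ⟨a * a ^ n * c, Ideal.mul_mem_right _ _ (Ideal.mul_mem_right _ _ ha), n + m, ?_⟩
  rw [map_mul, map_mul, map_pow, mul_assoc, hn]
  ring

theorem idealLE_span {S : Scheme.{u}} {U W : S.Opens} (hU : IsAffineOpen U) (hW : IsAffineOpen W)
    (hWU : W ≤ U) :
    Ideal.span ((S.presheaf.map (homOfLE hWU).op).hom '' (idealLE U W : Set Γ(S, U))) = ⊤ := by
  rw [← hW.self_le_iSup_basicOpen_iff]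
  intro z hz
  obtain ⟨a, haW, hza⟩ := hU.exists_basicOpen_le ⟨z, hz⟩ (hWU hz)
  refine Opens.mem_iSup.mpr ⟨⟨_, a, haW, rfl⟩, ?_⟩
  change z ∈ S.basicOpen ((S.presheaf.map (homOfLE hWU).op).hom a)
  rw [Scheme.basicOpen_res]
  exact ⟨hz, hza⟩

variable {X Y Z : Scheme.{u}} (i : Z ⟶ X) [IsClosedImmersion i] (j : Z ⟶ Y) [IsIntegralHom j]

/-- a closed map: shrink an affine neighbourhood of `y` so that its preimage lies in a given open
containing the fibre. -/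
theorem exists_basicOpen_preimage_le {V₀ : Y.Opens} (hV₀ : IsAffineOpen V₀) (y : Y) (hy : y ∈ V₀)
    (O : Z.Opens) (hO : j ⁻¹' {y} ⊆ (O : Set Z)) :
    ∃ g : Γ(Y, V₀), y ∈ Y.basicOpen g ∧ j ⁻¹ᵁ (Y.basicOpen g) ≤ O := by
  have hcl : IsClosed (j '' ((O : Set Z)ᶜ)) := j.isClosedMap _ O.isOpen.isClosed_compl
  have hy' : y ∉ j '' ((O : Set Z)ᶜ) := by
    rintro ⟨z, hz, rfl⟩
    exact hz (hO rfl)
  let O' : Y.Opens := ⟨(j '' ((O : Set Z)ᶜ))ᶜ, hcl.isOpen_compl⟩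
  obtain ⟨g, hg, hyg⟩ := hV₀.exists_basicOpen_le (V := O') ⟨y, hy'⟩ hy
  refine ⟨g, hyg, fun z hz => ?_⟩
  by_contra hzO
  exact hg hz ⟨z, hzO, rfl⟩

theorem exists_goodPair
    (h : ∀ y : Y, ∃ U : X.Opens, IsAffineOpen U ∧ j ⁻¹' {y} ⊆ (i ⁻¹ᵁ U : Set Z)) (y : Y) :
    ∃ (U : X.Opens) (V : Y.Opens), IsAffineOpen U ∧ IsAffineOpen V ∧ y ∈ V ∧
      i ⁻¹ᵁ U = j ⁻¹ᵁ V := by
  obtain ⟨U₀, hU₀, hfib⟩ := h y
  have hZ' : IsAffineOpen (i ⁻¹ᵁ U₀) := hU₀.preimage i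
  obtain ⟨V₀, hV₀, hyV₀, -⟩ :=
    exists_isAffineOpen_mem_and_subset (X := Y) (x := y) (U := ⊤) trivial
  obtain ⟨g, hyg, hgle⟩ := exists_basicOpen_preimage_le j hV₀ y hyV₀ (i ⁻¹ᵁ U₀) hfib
  have hV₁ : IsAffineOpen (Y.basicOpen g) := hV₀.basicOpen g
  have hW : IsAffineOpen (j ⁻¹ᵁ Y.basicOpen g) := hV₁.preimage j
  obtain ⟨p, hp⟩ := exists_fromSpec_eq hV₁ y hyg
  have hφ : (j.app (Y.basicOpen g)).hom.IsIntegral := j.isIntegral_app _ hV₁
  have : p.asIdeal.IsPrime := p.isPrime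
  obtain ⟨a, haK, ha⟩ := exists_avoiding (j.app (Y.basicOpen g)).hom hφ
    (Z.presheaf.map (homOfLE hgle).op).hom (idealLE (i ⁻¹ᵁ U₀) (j ⁻¹ᵁ Y.basicOpen g))
    (idealLE_absorb hZ' hW hgle) (idealLE_span hZ' hW hgle) p.asIdeal
  have hfib2 : j ⁻¹' {y} ⊆ (Z.basicOpen a : Set Z) := by
    intro z hz
    have hzy : j z = y := hz
    have hzW : z ∈ j ⁻¹ᵁ Y.basicOpen g := by
      change j z ∈ Y.basicOpen g
      rw [hzy]; exact hyg
    obtain ⟨q, hq⟩ := exists_fromSpec_eq hW z hzW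
    have hcomap : q.asIdeal.comap (j.app (Y.basicOpen g)).hom = p.asIdeal := by
      have e : Spec.map (j.app (Y.basicOpen g)) q = p := by
        apply hV₁.fromSpec.isOpenEmbedding.injective
        rw [hp, ← Scheme.Hom.comp_apply, Scheme.Hom.app_eq_appLE,
          IsAffineOpen.SpecMap_appLE_fromSpec j hV₁ hW le_rfl, Scheme.Hom.comp_apply, hq, hzy]
      rw [← e]
      rfl
    have h1 := ha q.asIdeal q.isPrime hcomap
    have h2 : z ∈ Z.basicOpen ((Z.presheaf.map (homOfLE hgle).op).hom a) := by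
      rw [← hq]; exact (fromSpec_mem_basicOpen hW _ q).mpr h1
    rw [Scheme.basicOpen_res] at h2
    exact h2.2
  obtain ⟨h₁, hyh₁, hh₁le⟩ := exists_basicOpen_preimage_le j hV₁ y hyg (Z.basicOpen a) hfib2
  have hV : IsAffineOpen (Y.basicOpen h₁) := hV₁.basicOpen h₁
  have e1 : j ⁻¹ᵁ Y.basicOpen h₁ = Z.basicOpen (j.app _ h₁) := Scheme.preimage_basicOpen j h₁
  have haW : Z.basicOpen a ≤ j ⁻¹ᵁ Y.basicOpen g := haK
  obtain ⟨f', hf'⟩ := hZ'.basicOpen_basicOpen_is_basicOpen a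
    ((Z.presheaf.map (homOfLE haW).op).hom (j.app _ h₁))
  obtain ⟨ã, hã⟩ := i.app_surjective U₀ hU₀ f'
  refine ⟨X.basicOpen ã, Y.basicOpen h₁, hU₀.basicOpen ã, hV, hyh₁, ?_⟩
  rw [Scheme.preimage_basicOpen, hã, hf', Scheme.basicOpen_res, e1]
  exact inf_eq_right.mpr (e1 ▸ hh₁le)

/-- **Ferrand**: the pushout of a closed immersion and an integral morphism exists when the fibres
of the integral morphism lie in affine opens; the square is bicartesian, `a` is integral and `b` a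
closed immersion. -/
theorem exists_pushout_of_integral
    (h : ∀ y : Y, ∃ U : X.Opens, IsAffineOpen U ∧ j ⁻¹' {y} ⊆ (i ⁻¹ᵁ U : Set Z)) :
    ∃ (P : Scheme.{u}) (a : X ⟶ P) (b : Y ⟶ P), IsPushout i j a b ∧ IsPullback i j a b ∧
      IsIntegralHom a ∧ IsClosedImmersion b := by
  obtain ⟨P, a, b, h1, h2, h3, h4, -⟩ := Ferrand.exists_pushout i j (exists_goodPair i j h)
  exact ⟨P, a, b, h1, h2, h4 inferInstance, h3⟩

end Geometry

end Groth.Agent.Lib.Helper12.Ferrand5
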