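import Mathlib
import Groth.Agent.Lib.Helper12.SpecPushout

/-!
# Ferrand pushout squares that stay pushouts after every base change (helper12)

`SplitData K P B A' A`: a commutative square of `K`-algebras `P → B`, `P → A'`, `B → A`, `A' → A`
together with `K`-linear maps witnessing that `0 → P → B × A' → A` is split exact and `A' → A` is
split surjective. Then `P = B ×_A A'` (`bijective_toPr`), `Spec` of the square is a pushout of schemes
(`isPushout_spec`), and the data base-changes along any `K`-algebra `R` (`baseChange`).
-/

set_option autoImplicit false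
universe u
open CategoryTheory Limits AlgebraicGeometry TensorProduct

namespace Groth.Agent.Lib.Helper12.FerrandBC

/-- a universally cartesian square of `K`-algebras with `A' → A` split surjective -/
structure SplitData (K P B A' A : Type u) [CommRing K] [CommRing P] [CommRing B] [CommRing A']
    [CommRing A] [Algebra K P] [Algebra K B] [Algebra K A'] [Algebra K A] where
  ι₁ : P →ₐ[K] B
  ι₂ : P →ₐ[K] A'
  q : B →ₐ[K] A
  p : A' →ₐ[K] A
  comm : ∀ x, q (ι₁ x) = p (ι₂ x)
  ρ₂ : A' →ₗ[K] P
  τ : A →ₗ[K] B
  s : A →ₗ[K] A'
  h1 : ∀ x, ρ₂ (ι₂ x) = x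
  h2 : ∀ y, ι₂ (ρ₂ y) + s (p y - q (τ (p y))) = y
  h3 : ∀ y, ι₁ (ρ₂ y) = τ (p y)
  h4 : ∀ b, τ (q b) = b
  h5 : ∀ a, p (s a) = a

namespace SplitData

section
variable {K P B A' A : Type u} [CommRing K] [CommRing P] [CommRing B] [CommRing A']
    [CommRing A] [Algebra K P] [Algebra K B] [Algebra K A'] [Algebra K A]
    (D : SplitData K P B A' A)

theorem p_surjective : Function.Surjective D.p := fun a => ⟨D.s a, D.h5 a⟩

open SpecPushout in
/-- the map to the concrete fibre product -/
def toPr : P →+* Pr (D.p : A' →+* A) (D.q : B →+* A) :=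
  RingHom.codRestrict (RingHom.prod (D.ι₁ : P →+* B) (D.ι₂ : P →+* A')) _
    (fun x => D.comm x)

open SpecPushout in
theorem bijective_toPr : Function.Bijective D.toPr := by
  constructor
  · intro x y hxy
    have h : D.ι₂ x = D.ι₂ y := congrArg (fun z => z.1.2) hxy
    rw [← D.h1 x, ← D.h1 y, h]
  · rintro ⟨⟨b, a'⟩, hba⟩
    have hba' : D.q b = D.p a' := hba
    refine ⟨D.ρ₂ a', Subtype.ext (Prod.ext ?_ ?_)⟩
    · change D.ι₁ (D.ρ₂ a') = b
      rw [D.h3, ← hba', D.h4]
    · change D.ι₂ (D.ρ₂ a') = a'
      have := D.h2 a'
      rw [← hba', D.h4, sub_self, map_zero, add_zero] at this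
      exact this

open SpecPushout in
/-- `Spec` of a split Ferrand square is a pushout of schemes -/
theorem isPushout_spec :
    IsPushout (Spec.map (CommRingCat.ofHom (D.p : A' →+* A)))
      (Spec.map (CommRingCat.ofHom (D.q : B →+* A)))
      (Spec.map (CommRingCat.ofHom (D.ι₂ : P →+* A')))
      (Spec.map (CommRingCat.ofHom (D.ι₁ : P →+* B))) := by
  let e : P ≃+* Pr (D.p : A' →+* A) (D.q : B →+* A) := RingEquiv.ofBijective D.toPr D.bijective_toPr
  have h := isPushout_Pr (p := (D.p : A' →+* A)) (D.q : B →+* A) D.p_surjective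
  refine h.of_iso (Iso.refl _) (Iso.refl _) (Iso.refl _)
    (Scheme.Spec.mapIso (e.toCommRingCatIso).op) ?_ ?_ ?_ ?_
  · simp
  · simp
  · rw [Iso.refl_hom, Category.id_comp]
    change Spec.map _ ≫ Spec.map _ = _
    rw [← Spec.map_comp]
    rfl
  · rw [Iso.refl_hom, Category.id_comp]
    change Spec.map _ ≫ Spec.map _ = _
    rw [← Spec.map_comp]
    rfl

end

section BC
variable {K P B A' A : Type u} [CommRing K] [CommRing P] [CommRing B] [CommRing A']
    [CommRing A] [Algebra K P] [Algebra K B] [Algebra K A'] [Algebra K A]
    (D : SplitData K P B A' A) (R : Type u) [CommRing R] [Algebra K R]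

/-- base change of split Ferrand data along `K → R` -/
noncomputable def baseChange : SplitData K (P ⊗[K] R) (B ⊗[K] R) (A' ⊗[K] R) (A ⊗[K] R) where
  ι₁ := Algebra.TensorProduct.map D.ι₁ (AlgHom.id K R)
  ι₂ := Algebra.TensorProduct.map D.ι₂ (AlgHom.id K R)
  q := Algebra.TensorProduct.map D.q (AlgHom.id K R)
  p := Algebra.TensorProduct.map D.p (AlgHom.id K R)
  comm x := by
    induction x using TensorProduct.induction_on with
    | zero => simp
    | tmul a r => simp [D.comm]
    | add x y hx hy => simp only [map_add, hx, hy]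
  ρ₂ := LinearMap.rTensor R D.ρ₂
  τ := LinearMap.rTensor R D.τ
  s := LinearMap.rTensor R D.s
  h1 x := by
    induction x using TensorProduct.induction_on with
    | zero => simp
    | tmul a r => simp [D.h1]
    | add x y hx hy => simp only [map_add, hx, hy]
  h2 y := by
    induction y using TensorProduct.induction_on with
    | zero => simp
    | tmul a r =>
      simp only [Algebra.TensorProduct.map_tmul, LinearMap.rTensor_tmul, AlgHom.coe_id, id_eq,
        ← TensorProduct.sub_tmul, ← TensorProduct.add_tmul, D.h2]
    | add x y hx hy =>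
      simp only [map_add, map_sub] at hx hy ⊢
      linear_combination hx + hy
  h3 y := by
    induction y using TensorProduct.induction_on with
    | zero => simp
    | tmul a r => simp [D.h3]
    | add x y hx hy => simp only [map_add, hx, hy]
  h4 b := by
    induction b using TensorProduct.induction_on with
    | zero => simp
    | tmul a r => simp [D.h4]
    | add x y hx hy => simp only [map_add, hx, hy]
  h5 a := by
    induction a using TensorProduct.induction_on with
    | zero => simp
    | tmul a r => simp [D.h5]
    | add x y hx hy => simp only [map_add, hx, hy]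

end BC

end SplitData

end Groth.Agent.Lib.Helper12.FerrandBC
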