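import Mathlib
import Groth.Prelude.Def_CoactBr
import Groth.Agent.Lib.Helper12.FerrandBC
import Groth.Agent.Lib.Helper12.PushoutLocal

/-!
# Base change of split Ferrand squares to arbitrary schemes (helper12)

For `D : SplitData k P B A' A` and any `t : S ⟶ Spec k`, the base change along `t` of the square
`Spec A → Spec A'`, `Spec A → Spec B`, `Spec A' → Spec P`, `Spec B → Spec P` is a pushout of schemes
(`isPushout_left`) and of `S`-schemes (`isPushout_over`).
-/

set_option autoImplicit false
universe u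
open CategoryTheory Limits AlgebraicGeometry TensorProduct

namespace Groth.Agent.Lib.Helper12.FerrandBC

theorem lift_nat {𝒞 : Type*} [Category 𝒞] {X X' S0 S Q Q' : 𝒞} (f : X ⟶ S0) (f' : X' ⟶ S0)
    (t : S ⟶ S0) [HasPullback f t] [HasPullback f' t] (φ : X' ⟶ X) (hφ : φ ≫ f = f')
    (e : Q ⟶ pullback f t) (e' : Q' ⟶ pullback f' t) (m : Q' ⟶ Q)
    (h₁ : m ≫ e ≫ pullback.fst f t = e' ≫ pullback.fst f' t ≫ φ)
    (h₂ : m ≫ e ≫ pullback.snd f t = e' ≫ pullback.snd f' t) :
    e' ≫ pullback.lift (pullback.fst f' t ≫ φ) (pullback.snd f' t)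
      (by rw [Category.assoc, hφ, pullback.condition]) = m ≫ e := by
  apply pullback.hom_ext
  · rw [Category.assoc, pullback.lift_fst, Category.assoc, h₁]
  · rw [Category.assoc, pullback.lift_snd, Category.assoc, h₂]

section Nat
variable (k : Type u) [CommRing k] {C C' : Type u} [CommRing C] [CommRing C'] [Algebra k C]
  [Algebra k C'] (R₀ : Type u) [CommRing R₀] [Algebra k R₀] (g : C →ₐ[k] C')

theorem sp_hom : (CoactBr.sp k C).hom = Spec.map (CommRingCat.ofHom (algebraMap k C)) := rfl

/-- `pullbackSpecIso`, typed for `Over.pullback` -/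
noncomputable def eC (C : Type u) [CommRing C] [Algebra k C] :
    ((Over.pullback (Spec.map (CommRingCat.ofHom (algebraMap k R₀)))).obj (CoactBr.sp k C)).left ≅
      Spec (.of (C ⊗[k] R₀)) :=
  pullbackSpecIso k C R₀

theorem eC_inv_fst (C : Type u) [CommRing C] [Algebra k C] :
    (eC k R₀ C).inv ≫ pullback.fst (CoactBr.sp k C).hom
        (Spec.map (CommRingCat.ofHom (algebraMap k R₀))) =
      Spec.map (CommRingCat.ofHom Algebra.TensorProduct.includeLeftRingHom) :=
  pullbackSpecIso_inv_fst k C R₀

theorem eC_inv_snd (C : Type u) [CommRing C] [Algebra k C] :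
    (eC k R₀ C).inv ≫ pullback.snd (CoactBr.sp k C).hom
        (Spec.map (CommRingCat.ofHom (algebraMap k R₀))) =
      Spec.map (CommRingCat.ofHom (R := R₀) (S := C ⊗[k] R₀)
        (RingHomClass.toRingHom Algebra.TensorProduct.includeRight)) :=
  pullbackSpecIso_inv_snd k C R₀

/-- naturality of `pullbackSpecIso` in the first variable -/
theorem eC_inv_map :
    (eC k R₀ C').inv ≫
        ((Over.pullback (Spec.map (CommRingCat.ofHom (algebraMap k R₀)))).map (CoactBr.pt g)).left =
      Spec.map (CommRingCat.ofHom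
        (Algebra.TensorProduct.map g (AlgHom.id k R₀)).toRingHom) ≫ (eC k R₀ C).inv := by
  refine lift_nat (CoactBr.sp k C).hom (CoactBr.sp k C').hom
    (Spec.map (CommRingCat.ofHom (algebraMap k R₀))) (Spec.map (CommRingCat.ofHom g.toRingHom))
    (Over.w (CoactBr.pt g)) (eC k R₀ C).inv (eC k R₀ C').inv _ ?_ ?_
  · have key : Spec.map (CommRingCat.ofHom
          (Algebra.TensorProduct.map g (AlgHom.id k R₀)).toRingHom) ≫
        Spec.map (CommRingCat.ofHom (Algebra.TensorProduct.includeLeftRingHom
          (R := k) (A := C) (B := R₀))) =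
        Spec.map (CommRingCat.ofHom (Algebra.TensorProduct.includeLeftRingHom
          (R := k) (A := C') (B := R₀))) ≫ Spec.map (CommRingCat.ofHom g.toRingHom) := by
      rw [← Spec.map_comp, ← Spec.map_comp]
      congr 1
    exact (congrArg (_ ≫ ·) (eC_inv_fst k R₀ C)).trans (key.trans
      ((congrArg (· ≫ _) (eC_inv_fst k R₀ C')).symm.trans (Category.assoc _ _ _)))
  · have key : Spec.map (CommRingCat.ofHom
          (Algebra.TensorProduct.map g (AlgHom.id k R₀)).toRingHom) ≫
        Spec.map (CommRingCat.ofHom (R := R₀) (S := C ⊗[k] R₀)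
          (RingHomClass.toRingHom Algebra.TensorProduct.includeRight)) =
        Spec.map (CommRingCat.ofHom (R := R₀) (S := C' ⊗[k] R₀)
          (RingHomClass.toRingHom Algebra.TensorProduct.includeRight)) := by
      rw [← Spec.map_comp]
      congr 1
      ext x
      simp
    exact (congrArg (_ ≫ ·) (eC_inv_snd k R₀ C)).trans (key.trans (eC_inv_snd k R₀ C').symm)

end Nat

section Main
variable {k P B A' A : Type u} [CommRing k] [CommRing P] [CommRing B] [CommRing A']
    [CommRing A] [Algebra k P] [Algebra k B] [Algebra k A'] [Algebra k A]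
    (D : SplitData k P B A' A)

theorem isPushout_left_algebraMap (R₀ : Type u) [CommRing R₀] [Algebra k R₀] :
    IsPushout
      ((Over.pullback (Spec.map (CommRingCat.ofHom (algebraMap k R₀)))).map (CoactBr.pt D.p)).left
      ((Over.pullback (Spec.map (CommRingCat.ofHom (algebraMap k R₀)))).map (CoactBr.pt D.q)).left
      ((Over.pullback (Spec.map (CommRingCat.ofHom (algebraMap k R₀)))).map (CoactBr.pt D.ι₂)).left
      ((Over.pullback (Spec.map (CommRingCat.ofHom (algebraMap k R₀)))).map (CoactBr.pt D.ι₁)).left := by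
  refine (D.baseChange R₀).isPushout_spec.of_iso (eC k R₀ A).symm (eC k R₀ A').symm
    (eC k R₀ B).symm (eC k R₀ P).symm ?_ ?_ ?_ ?_
  · exact (eC_inv_map k R₀ D.p).symm
  · exact (eC_inv_map k R₀ D.q).symm
  · exact (eC_inv_map k R₀ D.ι₂).symm
  · exact (eC_inv_map k R₀ D.ι₁).symm

theorem isPushout_left_spec (R₀ : CommRingCat.{u}) (t : Spec R₀ ⟶ Spec (CommRingCat.of k)) :
    IsPushout ((Over.pullback t).map (CoactBr.pt D.p)).left
      ((Over.pullback t).map (CoactBr.pt D.q)).left
      ((Over.pullback t).map (CoactBr.pt D.ι₂)).left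
      ((Over.pullback t).map (CoactBr.pt D.ι₁)).left := by
  obtain ⟨φ, rfl⟩ : ∃ φ : CommRingCat.of k ⟶ R₀, Spec.map φ = t :=
    ⟨Spec.preimage t, Spec.map_preimage t⟩
  letI : Algebra k R₀ := φ.hom.toAlgebra
  exact isPushout_left_algebraMap D R₀

end Main

theorem pullbackComp_nat {S S' S0 : Scheme.{u}} (j : S' ⟶ S) (t : S ⟶ S0) {X' X : Over S0}
    (φ : X' ⟶ X) :
    ((Over.pullback (j ≫ t)).map φ).left ≫ ((Over.pullbackComp j t).hom.app X).left =
      ((Over.pullbackComp j t).hom.app X').left ≫
        ((Over.pullback j).map ((Over.pullback t).map φ)).left :=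
  congrArg (fun m => m.left) ((Over.pullbackComp j t).hom.naturality φ)

/-- the isomorphism `X ×_{S0} S' ≅ (X ×_{S0} S) ×_S S'` of schemes -/
noncomputable def compIso {S S' S0 : Scheme.{u}} (j : S' ⟶ S) (t : S ⟶ S0) (X : Over S0) :
    ((Over.pullback (j ≫ t)).obj X).left ≅ ((Over.pullback j).obj ((Over.pullback t).obj X)).left :=
  (Over.forget _).mapIso ((Over.pullbackComp j t).app X)

theorem compIso_hom {S S' S0 : Scheme.{u}} (j : S' ⟶ S) (t : S ⟶ S0) (X : Over S0) :
    (compIso j t X).hom = ((Over.pullbackComp j t).hom.app X).left := rfl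

section Main2
variable {k P B A' A : Type u} [CommRing k] [CommRing P] [CommRing B] [CommRing A']
    [CommRing A] [Algebra k P] [Algebra k B] [Algebra k A'] [Algebra k A]
    (D : SplitData k P B A' A)

theorem pt_comm : CoactBr.pt D.p ≫ CoactBr.pt D.ι₂ = CoactBr.pt D.q ≫ CoactBr.pt D.ι₁ := by
  rw [← CoactBr.pt_comp, ← CoactBr.pt_comp]
  congr 1
  ext x
  exact (D.comm x).symm

/-- **Base change of a split Ferrand square is a pushout of `S`-schemes**, for any `S`. -/
theorem isPushout_over (S : Scheme.{u}) (t : S ⟶ Spec (CommRingCat.of k)) :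
    IsPushout ((Over.pullback t).map (CoactBr.pt D.p)) ((Over.pullback t).map (CoactBr.pt D.q))
      ((Over.pullback t).map (CoactBr.pt D.ι₂)) ((Over.pullback t).map (CoactBr.pt D.ι₁)) := by
  apply PushoutLocal.isPushout_of_forall (PushoutLocal.specAffineCover S)
  · rw [← Functor.map_comp, ← Functor.map_comp, pt_comm]
  · intro U
    have h := isPushout_left_spec D Γ(S, (show S.affineOpens from U).1)
      ((PushoutLocal.specAffineCover S).f U ≫ t)
    refine h.of_iso (compIso _ t _) (compIso _ t _) (compIso _ t _) (compIso _ t _) ?_ ?_ ?_ ?_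
    · exact pullbackComp_nat _ t _
    · exact pullbackComp_nat _ t _
    · exact pullbackComp_nat _ t _
    · exact pullbackComp_nat _ t _

theorem isPushout_left (S : Scheme.{u}) (t : S ⟶ Spec (CommRingCat.of k)) :
    IsPushout ((Over.pullback t).map (CoactBr.pt D.p)).left
      ((Over.pullback t).map (CoactBr.pt D.q)).left
      ((Over.pullback t).map (CoactBr.pt D.ι₂)).left
      ((Over.pullback t).map (CoactBr.pt D.ι₁)).left :=
  (isPushout_over D S t).map (Over.forget S)

end Main2

end Groth.Agent.Lib.Helper12.FerrandBC
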