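import Mathlib
import Groth.Agent.Lib.Helper12.SpecPushout

/-!
# Fibre squares of algebras and their base change (helper12)

`FibreData k P B A' A`: a cartesian square of `k`-algebras `P = B ×_A A'` with `A' → A` surjective.
`D.IsCartFor R₀`: the square stays cartesian after `- ⊗[k] R₀` (i.e. `P ⊗ R₀ → (B × A') ⊗ R₀` stays
injective).  This holds if `A` is `k`-flat, if `R₀` is `k`-flat, or if `B → A` is injective with
`k`-projective cokernel.  `D.baseChange R₀ h` is the base-changed fibre square and `isPushout_spec`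
says `Spec` of a fibre square is a pushout of schemes.
-/

set_option autoImplicit false
universe u
open CategoryTheory Limits AlgebraicGeometry TensorProduct

namespace Groth.Agent.Lib.Helper12.FerrandBC3

/-- a cartesian square of `k`-algebras with `A' → A` surjective -/
structure FibreData (k P B A' A : Type u) [CommRing k] [CommRing P] [CommRing B] [CommRing A']
    [CommRing A] [Algebra k P] [Algebra k B] [Algebra k A'] [Algebra k A] where
  ι₁ : P →ₐ[k] B
  ι₂ : P →ₐ[k] A'
  q : B →ₐ[k] A
  p : A' →ₐ[k] A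
  comm : ∀ x, q (ι₁ x) = p (ι₂ x)
  surj : Function.Surjective p
  inj : ∀ x y, ι₁ x = ι₁ y → ι₂ x = ι₂ y → x = y
  ex : ∀ (b : B) (a' : A'), q b = p a' → ∃ x, ι₁ x = b ∧ ι₂ x = a'

namespace FibreData

section
variable {k P B A' A : Type u} [CommRing k] [CommRing P] [CommRing B] [CommRing A']
    [CommRing A] [Algebra k P] [Algebra k B] [Algebra k A'] [Algebra k A]
    (D : FibreData k P B A' A)

open SpecPushout in
/-- the map to the concrete fibre product -/
def toPr : P →+* Pr (D.p : A' →+* A) (D.q : B →+* A) :=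
  RingHom.codRestrict (RingHom.prod (D.ι₁ : P →+* B) (D.ι₂ : P →+* A')) _
    (fun x => D.comm x)

open SpecPushout in
theorem bijective_toPr : Function.Bijective D.toPr := by
  constructor
  · intro x y hxy
    exact D.inj x y (congrArg (fun z => z.1.1) hxy) (congrArg (fun z => z.1.2) hxy)
  · rintro ⟨⟨b, a'⟩, hba⟩
    obtain ⟨x, hx₁, hx₂⟩ := D.ex b a' hba
    exact ⟨x, Subtype.ext (Prod.ext hx₁ hx₂)⟩

open SpecPushout in
/-- `Spec` of a fibre square is a pushout of schemes -/
theorem isPushout_spec :
    IsPushout (Spec.map (CommRingCat.ofHom (D.p : A' →+* A)))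
      (Spec.map (CommRingCat.ofHom (D.q : B →+* A)))
      (Spec.map (CommRingCat.ofHom (D.ι₂ : P →+* A')))
      (Spec.map (CommRingCat.ofHom (D.ι₁ : P →+* B))) := by
  let e : P ≃+* Pr (D.p : A' →+* A) (D.q : B →+* A) := RingEquiv.ofBijective D.toPr D.bijective_toPr
  have h := isPushout_Pr (p := (D.p : A' →+* A)) (D.q : B →+* A) D.surj
  refine h.of_iso (Iso.refl _) (Iso.refl _) (Iso.refl _)
    (Scheme.Spec.mapIso (e.toCommRingCatIso).op) ?_ ?_ ?_ ?_
  · simp
  · simp
  · rw [Iso.refl_hom, Category.id_comp]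
    change Spec.map _ ≫ Spec.map _ = _
    rw [← Spec.map_comp]
    rfl
  · rw [Iso.refl_hom, Category.id_comp]
    change Spec.map _ ≫ Spec.map _ = _
    rw [← Spec.map_comp]
    rfl

/-- `P → B × A'` -/
def mA : P →ₗ[k] B × A' := LinearMap.prod D.ι₁.toLinearMap D.ι₂.toLinearMap

/-- `B × A' → A`, the difference -/
def mB : B × A' →ₗ[k] A := LinearMap.coprod D.q.toLinearMap (-D.p.toLinearMap)

@[simp] theorem mA_apply (x : P) : D.mA x = (D.ι₁ x, D.ι₂ x) := rfl

theorem mB_apply (x : B × A') : D.mB x = D.q x.1 - D.p x.2 := by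
  simp [mB, sub_eq_add_neg]

theorem mA_injective : Function.Injective D.mA := by
  intro x y h
  rw [mA_apply, mA_apply, Prod.mk.injEq] at h
  exact D.inj x y h.1 h.2

theorem mB_surjective : Function.Surjective D.mB := by
  intro a
  obtain ⟨a', ha'⟩ := D.surj a
  exact ⟨(0, -a'), by rw [mB_apply]; simp [ha']⟩

theorem exact : Function.Exact D.mA D.mB := by
  intro x
  rw [mB_apply, sub_eq_zero]
  constructor
  · intro h
    obtain ⟨y, h1, h2⟩ := D.ex x.1 x.2 h
    exact ⟨y, by rw [mA_apply, h1, h2]⟩
  · rintro ⟨y, rfl⟩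
    exact D.comm y

variable (R₀ : Type u) [CommRing R₀] [Algebra k R₀]

/-- the square stays cartesian after `- ⊗[k] R₀` -/
def IsCartFor : Prop := Function.Injective (D.mA.rTensor R₀)

theorem isCartFor_of_flat_right [Module.Flat k R₀] : D.IsCartFor R₀ :=
  Module.Flat.rTensor_preserves_injective_linearMap _ D.mA_injective

theorem isCartFor_of_flat [Module.Flat k A] : D.IsCartFor R₀ :=
  (LinearMap.lTensor_inj_iff_rTensor_inj _ _).mp
    (LinearMap.lTensor_injective_of_exact_of_flat D.mB D.mB_surjective D.mA D.mA_injective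
      D.exact R₀)

theorem map_eq_rTensor {X Y : Type u} [CommRing X] [CommRing Y] [Algebra k X] [Algebra k Y]
    (φ : X →ₐ[k] Y) (z : X ⊗[k] R₀) :
    Algebra.TensorProduct.map φ (AlgHom.id k R₀) z = φ.toLinearMap.rTensor R₀ z := by
  induction z using TensorProduct.induction_on with
  | zero => simp
  | tmul c p => simp
  | add x y hx hy => rw [map_add, map_add, hx, hy]

/-- criterion: `B → A` injective with `k`-projective cokernel -/
theorem isCartFor_of_projective_coker (hq : Function.Injective D.q)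
    [Module.Projective k (A ⧸ LinearMap.range D.q.toLinearMap)] : D.IsCartFor R₀ := by
  have hι₂ : Function.Injective D.ι₂.toLinearMap := by
    intro x y h
    refine D.inj x y (hq ?_) h
    rw [D.comm, D.comm]
    exact congrArg D.p h
  have hsurj : Function.Surjective
      ((LinearMap.range D.q.toLinearMap).mkQ ∘ₗ D.p.toLinearMap) :=
    (Submodule.mkQ_surjective _).comp D.surj
  have hex : Function.Exact D.ι₂.toLinearMap
      ((LinearMap.range D.q.toLinearMap).mkQ ∘ₗ D.p.toLinearMap) := by
    intro a'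
    rw [LinearMap.comp_apply, Submodule.mkQ_apply, Submodule.Quotient.mk_eq_zero]
    constructor
    · rintro ⟨b, hb⟩
      obtain ⟨x, -, hx⟩ := D.ex b a' hb
      exact ⟨x, hx⟩
    · rintro ⟨x, rfl⟩
      exact ⟨D.ι₁ x, D.comm x⟩
  have h1 : Function.Injective (D.ι₂.toLinearMap.rTensor R₀) :=
    (LinearMap.lTensor_inj_iff_rTensor_inj _ _).mp
      (LinearMap.lTensor_injective_of_exact_of_flat _ hsurj _ hι₂ hex R₀)
  have h2 : D.ι₂.toLinearMap = (LinearMap.snd k B A') ∘ₗ D.mA := rfl
  rw [h2, LinearMap.rTensor_comp] at h1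
  exact Function.Injective.of_comp h1

theorem prodLeft_apply (w : (B × A') ⊗[k] R₀) : TensorProduct.prodLeft k k B A' R₀ w =
    ((LinearMap.fst k B A').rTensor R₀ w, (LinearMap.snd k B A').rTensor R₀ w) := by
  induction w using TensorProduct.induction_on with
  | zero => simp only [map_zero]; rfl
  | tmul c p =>
    obtain ⟨c₁, c₂⟩ := c
    rw [TensorProduct.prodLeft_tmul]
    rfl
  | add a b ha hb => rw [map_add, ha, hb, map_add, map_add]; rfl

/-- base change of a fibre square along `k → R₀` when it stays cartesian -/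
noncomputable def baseChange (h : D.IsCartFor R₀) :
    FibreData k (P ⊗[k] R₀) (B ⊗[k] R₀) (A' ⊗[k] R₀) (A ⊗[k] R₀) where
  ι₁ := Algebra.TensorProduct.map D.ι₁ (AlgHom.id k R₀)
  ι₂ := Algebra.TensorProduct.map D.ι₂ (AlgHom.id k R₀)
  q := Algebra.TensorProduct.map D.q (AlgHom.id k R₀)
  p := Algebra.TensorProduct.map D.p (AlgHom.id k R₀)
  comm x := by
    induction x using TensorProduct.induction_on with
    | zero => simp
    | tmul a r => simp [D.comm]
    | add x y hx hy => simp only [map_add, hx, hy]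
  surj := by
    intro z
    obtain ⟨w, hw⟩ := LinearMap.rTensor_surjective R₀ (g := D.p.toLinearMap) D.surj z
    exact ⟨w, by rw [map_eq_rTensor, hw]⟩
  inj x y h₁ h₂ := by
    apply h
    apply (TensorProduct.prodLeft k k B A' R₀).injective
    rw [prodLeft_apply, prodLeft_apply, ← LinearMap.comp_apply, ← LinearMap.comp_apply,
      ← LinearMap.comp_apply, ← LinearMap.comp_apply, ← LinearMap.rTensor_comp,
      ← LinearMap.rTensor_comp]
    rw [map_eq_rTensor, map_eq_rTensor] at h₁ h₂
    exact Prod.ext h₁ h₂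
  ex b a' hba := by
    rw [map_eq_rTensor, map_eq_rTensor] at hba
    have hinl : D.mB ∘ₗ (LinearMap.inl k B A') = D.q.toLinearMap := by
      ext b; simp [mB]
    have hinr : D.mB ∘ₗ (LinearMap.inr k B A') = -D.p.toLinearMap := by
      ext b; simp [mB]
    have hw : D.mB.rTensor R₀
        ((LinearMap.inl k B A').rTensor R₀ b + (LinearMap.inr k B A').rTensor R₀ a') = 0 := by
      rw [map_add, ← LinearMap.comp_apply, ← LinearMap.comp_apply, ← LinearMap.rTensor_comp,
        ← LinearMap.rTensor_comp, hinl, hinr, LinearMap.rTensor_neg, LinearMap.neg_apply, hba]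
      exact add_neg_cancel _
    obtain ⟨z, hz⟩ := (rTensor_exact R₀ D.exact D.mB_surjective _).1 hw
    refine ⟨z, ?_, ?_⟩
    · have hfst : (LinearMap.fst k B A') ∘ₗ D.mA = D.ι₁.toLinearMap := rfl
      rw [map_eq_rTensor, ← hfst, LinearMap.rTensor_comp, LinearMap.comp_apply, hz, map_add,
        ← LinearMap.comp_apply, ← LinearMap.comp_apply, ← LinearMap.rTensor_comp,
        ← LinearMap.rTensor_comp, LinearMap.fst_comp_inl, LinearMap.fst_comp_inr]
      simp
    · have hsnd : (LinearMap.snd k B A') ∘ₗ D.mA = D.ι₂.toLinearMap := rfl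
      rw [map_eq_rTensor, ← hsnd, LinearMap.rTensor_comp, LinearMap.comp_apply, hz, map_add,
        ← LinearMap.comp_apply, ← LinearMap.comp_apply, ← LinearMap.rTensor_comp,
        ← LinearMap.rTensor_comp, LinearMap.snd_comp_inl, LinearMap.snd_comp_inr]
      simp

end

end FibreData

end Groth.Agent.Lib.Helper12.FerrandBC3
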