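import Mathlib
import Groth.Prelude.Def_CoactBr
import Groth.Agent.Lib.Helper12.FerrandBC3
import Groth.Agent.Lib.Helper12.FerrandBC2

/-!
# Base change of fibre squares to arbitrary schemes (helper12)

For `D : FibreData k P B A' A` and `t : S ⟶ Spec k` such that `D` stays cartesian over the rings of
all affine opens of `S`, the base change along `t` of the square `Spec A → Spec A'`, `Spec A → Spec B`,
`Spec A' → Spec P`, `Spec B → Spec P` is a pushout of schemes.
-/

set_option autoImplicit false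
universe u
open CategoryTheory Limits AlgebraicGeometry TensorProduct

namespace Groth.Agent.Lib.Helper12.FerrandBC3
open FerrandBC

namespace FibreData

variable {k P B A' A : Type u} [CommRing k] [CommRing P] [CommRing B] [CommRing A']
    [CommRing A] [Algebra k P] [Algebra k B] [Algebra k A'] [Algebra k A]
    (D : FibreData k P B A' A)

/-- `IsCartFor` for a ring homomorphism `k →+* R₀` -/
def IsCartForHom {R₀ : Type u} [CommRing R₀] (φ : k →+* R₀) : Prop :=
  @IsCartFor k P B A' A _ _ _ _ _ _ _ _ _ D R₀ _ φ.toAlgebra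

theorem isCartForHom_of_flat {R₀ : Type u} [CommRing R₀] (φ : k →+* R₀) (hφ : φ.Flat) :
    D.IsCartForHom φ := by
  letI : Algebra k R₀ := φ.toAlgebra
  have : Module.Flat k R₀ := hφ
  exact D.isCartFor_of_flat_right R₀

theorem isCartForHom_of_flat_corner [Module.Flat k A] {R₀ : Type u} [CommRing R₀] (φ : k →+* R₀) :
    D.IsCartForHom φ := by
  letI : Algebra k R₀ := φ.toAlgebra
  exact D.isCartFor_of_flat R₀

theorem isCartForHom_of_projective_coker (hq : Function.Injective D.q)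
    [Module.Projective k (A ⧸ LinearMap.range D.q.toLinearMap)]
    {R₀ : Type u} [CommRing R₀] (φ : k →+* R₀) : D.IsCartForHom φ := by
  letI : Algebra k R₀ := φ.toAlgebra
  exact D.isCartFor_of_projective_coker R₀ hq

theorem isPushout_left_algebraMap (R₀ : Type u) [CommRing R₀] [Algebra k R₀]
    (h : D.IsCartFor R₀) :
    IsPushout
      ((Over.pullback (Spec.map (CommRingCat.ofHom (algebraMap k R₀)))).map (CoactBr.pt D.p)).left
      ((Over.pullback (Spec.map (CommRingCat.ofHom (algebraMap k R₀)))).map (CoactBr.pt D.q)).left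
      ((Over.pullback (Spec.map (CommRingCat.ofHom (algebraMap k R₀)))).map (CoactBr.pt D.ι₂)).left
      ((Over.pullback (Spec.map (CommRingCat.ofHom (algebraMap k R₀)))).map (CoactBr.pt D.ι₁)).left := by
  refine (D.baseChange R₀ h).isPushout_spec.of_iso (eC k R₀ A).symm (eC k R₀ A').symm
    (eC k R₀ B).symm (eC k R₀ P).symm ?_ ?_ ?_ ?_
  · exact (eC_inv_map k R₀ D.p).symm
  · exact (eC_inv_map k R₀ D.q).symm
  · exact (eC_inv_map k R₀ D.ι₂).symm
  · exact (eC_inv_map k R₀ D.ι₁).symm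

theorem isPushout_left_spec (R₀ : CommRingCat.{u}) (t : Spec R₀ ⟶ Spec (CommRingCat.of k))
    (h : D.IsCartForHom (Spec.preimage t).hom) :
    IsPushout ((Over.pullback t).map (CoactBr.pt D.p)).left
      ((Over.pullback t).map (CoactBr.pt D.q)).left
      ((Over.pullback t).map (CoactBr.pt D.ι₂)).left
      ((Over.pullback t).map (CoactBr.pt D.ι₁)).left := by
  obtain ⟨φ, rfl⟩ : ∃ φ : CommRingCat.of k ⟶ R₀, Spec.map φ = t :=
    ⟨Spec.preimage t, Spec.map_preimage t⟩
  rw [Spec.preimage_map] at h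
  letI : Algebra k R₀ := φ.hom.toAlgebra
  exact isPushout_left_algebraMap D R₀ h

theorem pt_comm : CoactBr.pt D.p ≫ CoactBr.pt D.ι₂ = CoactBr.pt D.q ≫ CoactBr.pt D.ι₁ := by
  rw [← CoactBr.pt_comp, ← CoactBr.pt_comp]
  congr 1
  ext x
  exact (D.comm x).symm

/-- **Base change of a fibre square is a pushout of `S`-schemes** when it stays cartesian over all
affine opens of `S`. -/
theorem isPushout_over (S : Scheme.{u}) (t : S ⟶ Spec (CommRingCat.of k))
    (h : ∀ U : S.affineOpens, D.IsCartForHom (Spec.preimage (U.2.fromSpec ≫ t)).hom) :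
    IsPushout ((Over.pullback t).map (CoactBr.pt D.p)) ((Over.pullback t).map (CoactBr.pt D.q))
      ((Over.pullback t).map (CoactBr.pt D.ι₂)) ((Over.pullback t).map (CoactBr.pt D.ι₁)) := by
  apply PushoutLocal.isPushout_of_forall (PushoutLocal.specAffineCover S)
  · rw [← Functor.map_comp, ← Functor.map_comp, pt_comm]
  · intro U
    have h' := isPushout_left_spec D Γ(S, (show S.affineOpens from U).1)
      ((PushoutLocal.specAffineCover S).f U ≫ t) (h U)
    refine h'.of_iso (compIso _ t _) (compIso _ t _) (compIso _ t _) (compIso _ t _) ?_ ?_ ?_ ?_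
    · exact pullbackComp_nat _ t _
    · exact pullbackComp_nat _ t _
    · exact pullbackComp_nat _ t _
    · exact pullbackComp_nat _ t _

theorem isPushout_left (S : Scheme.{u}) (t : S ⟶ Spec (CommRingCat.of k))
    (h : ∀ U : S.affineOpens, D.IsCartForHom (Spec.preimage (U.2.fromSpec ≫ t)).hom) :
    IsPushout ((Over.pullback t).map (CoactBr.pt D.p)).left
      ((Over.pullback t).map (CoactBr.pt D.q)).left
      ((Over.pullback t).map (CoactBr.pt D.ι₂)).left
      ((Over.pullback t).map (CoactBr.pt D.ι₁)).left :=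
  (isPushout_over D S t h).map (Over.forget S)

end FibreData

/-- a cartesian square of rings with `A' → A` surjective (no base ring) -/
structure FibreSq (P B A' A : Type u) [CommRing P] [CommRing B] [CommRing A'] [CommRing A] where
  ι₁ : P →+* B
  ι₂ : P →+* A'
  q : B →+* A
  p : A' →+* A
  comm : ∀ x, q (ι₁ x) = p (ι₂ x)
  surj : Function.Surjective p
  inj : ∀ x y, ι₁ x = ι₁ y → ι₂ x = ι₂ y → x = y
  ex : ∀ (b : B) (a' : A'), q b = p a' → ∃ x, ι₁ x = b ∧ ι₂ x = a'

namespace FibreSq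

open SpecPushout in
/-- the concrete fibre product -/
def ofPr {A A' B : Type u} [CommRing A] [CommRing A'] [CommRing B] (p : A' →+* A) (q : B →+* A)
    (hp : Function.Surjective p) : FibreSq (Pr p q) B A' A where
  ι₁ := φ₁ p q
  ι₂ := φ₂ p q
  q := q
  p := p
  comm x := x.2
  surj := hp
  inj x y h1 h2 := Subtype.ext (Prod.ext h1 h2)
  ex b a' h := ⟨⟨(b, a'), h⟩, rfl, rfl⟩

variable {P B A' A : Type u} [CommRing P] [CommRing B] [CommRing A'] [CommRing A]
  (D : FibreSq P B A' A) {k : Type u} [CommRing k] (γ : k →+* P)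

/-- the fibre square as a square of `k`-algebras via `γ : k →+* P` -/
def toFibreData : @FibreData k P B A' A _ _ _ _ _ γ.toAlgebra (D.ι₁.comp γ).toAlgebra
    (D.ι₂.comp γ).toAlgebra (D.q.comp (D.ι₁.comp γ)).toAlgebra :=
  letI := γ.toAlgebra
  letI := (D.ι₁.comp γ).toAlgebra
  letI := (D.ι₂.comp γ).toAlgebra
  letI := (D.q.comp (D.ι₁.comp γ)).toAlgebra
  { ι₁ := ⟨D.ι₁, fun _ => rfl⟩
    ι₂ := ⟨D.ι₂, fun _ => rfl⟩
    q := ⟨D.q, fun _ => rfl⟩
    p := ⟨D.p, fun r => (D.comm (γ r)).symm⟩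
    comm := D.comm
    surj := D.surj
    inj := D.inj
    ex := D.ex }

/-- the square stays cartesian after base change along `φ : k →+* R₀` -/
def IsCartForHom {R₀ : Type u} [CommRing R₀] (φ : k →+* R₀) : Prop :=
  @FibreData.IsCartForHom k P B A' A _ _ _ _ _ γ.toAlgebra (D.ι₁.comp γ).toAlgebra
    (D.ι₂.comp γ).toAlgebra (D.q.comp (D.ι₁.comp γ)).toAlgebra (D.toFibreData γ) R₀ _ φ

theorem isCartForHom_of_flat {R₀ : Type u} [CommRing R₀] (φ : k →+* R₀) (hφ : φ.Flat) :
    D.IsCartForHom γ φ :=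
  @FibreData.isCartForHom_of_flat k P B A' A _ _ _ _ _ γ.toAlgebra (D.ι₁.comp γ).toAlgebra
    (D.ι₂.comp γ).toAlgebra (D.q.comp (D.ι₁.comp γ)).toAlgebra (D.toFibreData γ) R₀ _ φ hφ

theorem isCartForHom_of_flat_corner (h : (D.q.comp (D.ι₁.comp γ)).Flat)
    {R₀ : Type u} [CommRing R₀] (φ : k →+* R₀) : D.IsCartForHom γ φ :=
  @FibreData.isCartForHom_of_flat_corner k P B A' A _ _ _ _ _ γ.toAlgebra (D.ι₁.comp γ).toAlgebra
    (D.ι₂.comp γ).toAlgebra (D.q.comp (D.ι₁.comp γ)).toAlgebra (D.toFibreData γ) h R₀ _ φ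

/-- **base change of `Spec` of a fibre square** along `t : S ⟶ Spec k`, with arbitrary names for the
structure morphisms. -/
theorem isPushout_left (S : Scheme.{u}) (t : S ⟶ Spec (CommRingCat.of k))
    (h : ∀ U : S.affineOpens, D.IsCartForHom γ (Spec.preimage (U.2.fromSpec ≫ t)).hom)
    (sP : Spec (CommRingCat.of P) ⟶ Spec (CommRingCat.of k))
    (sB : Spec (CommRingCat.of B) ⟶ Spec (CommRingCat.of k))
    (sA' : Spec (CommRingCat.of A') ⟶ Spec (CommRingCat.of k))
    (sA : Spec (CommRingCat.of A) ⟶ Spec (CommRingCat.of k))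
    (hP : sP = Spec.map (CommRingCat.ofHom γ))
    (hB : sB = Spec.map (CommRingCat.ofHom (D.ι₁.comp γ)))
    (hA' : sA' = Spec.map (CommRingCat.ofHom (D.ι₂.comp γ)))
    (hA : sA = Spec.map (CommRingCat.ofHom (D.q.comp (D.ι₁.comp γ))))
    (w₁ : Spec.map (CommRingCat.ofHom D.p) ≫ sA' = sA)
    (w₂ : Spec.map (CommRingCat.ofHom D.q) ≫ sB = sA)
    (w₃ : Spec.map (CommRingCat.ofHom D.ι₂) ≫ sP = sA')
    (w₄ : Spec.map (CommRingCat.ofHom D.ι₁) ≫ sP = sB) :
    IsPushout
      ((Over.pullback t).map (Over.homMk (Spec.map (CommRingCat.ofHom D.p)) w₁ :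
        Over.mk sA ⟶ Over.mk sA')).left
      ((Over.pullback t).map (Over.homMk (Spec.map (CommRingCat.ofHom D.q)) w₂ :
        Over.mk sA ⟶ Over.mk sB)).left
      ((Over.pullback t).map (Over.homMk (Spec.map (CommRingCat.ofHom D.ι₂)) w₃ :
        Over.mk sA' ⟶ Over.mk sP)).left
      ((Over.pullback t).map (Over.homMk (Spec.map (CommRingCat.ofHom D.ι₁)) w₄ :
        Over.mk sB ⟶ Over.mk sP)).left := by
  subst hP hB hA' hA
  exact @FibreData.isPushout_left k P B A' A _ _ _ _ _ γ.toAlgebra (D.ι₁.comp γ).toAlgebra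
    (D.ι₂.comp γ).toAlgebra (D.q.comp (D.ι₁.comp γ)).toAlgebra (D.toFibreData γ) S t h

end FibreSq

end Groth.Agent.Lib.Helper12.FerrandBC3
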