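import Mathlib
import Groth.Agent.Lib.Helper12.PushoutLocal

/-!
# Pushouts of schemes are local on the target: abstract pullback form (helper12)

`isPushout_of_local`: a commutative square `Z → X, Y → W` of schemes is a pushout if for every member
`W_k` of a locally directed open cover of `W` we are given pullbacks `X_k, Y_k, Z_k` of `X, Y, Z` to
(a scheme isomorphic over `W` to) `W_k` whose induced square is a pushout.
-/

set_option autoImplicit false
universe u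
open CategoryTheory Limits AlgebraicGeometry

namespace Groth.Agent.Lib.Helper12.PushoutLocal

section
variable {Z X Y W : Scheme.{u}} (i₁ : Z ⟶ X) (i₂ : Z ⟶ Y) (π₁ : X ⟶ W) (π₂ : Y ⟶ W)
  (w : i₁ ≫ π₁ = i₂ ≫ π₂)
  (𝒰 : Scheme.OpenCover.{u} W) [Category 𝒰.I₀] [𝒰.LocallyDirected]
  (Zk Xk Yk Wk : 𝒰.I₀ → Scheme.{u})
  (ζ : ∀ k, Zk k ⟶ Z) (ξ : ∀ k, Xk k ⟶ X) (η : ∀ k, Yk k ⟶ Y) (ω : ∀ k, Wk k ⟶ W)
  (i₁k : ∀ k, Zk k ⟶ Xk k) (i₂k : ∀ k, Zk k ⟶ Yk k) (π₁k : ∀ k, Xk k ⟶ Wk k)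
  (π₂k : ∀ k, Yk k ⟶ Wk k)
  (hX : ∀ k, IsPullback (ξ k) (π₁k k) π₁ (ω k))
  (hY : ∀ k, IsPullback (η k) (π₂k k) π₂ (ω k))
  (hZ : ∀ k, IsPullback (ζ k) (i₁k k ≫ π₁k k) (i₁ ≫ π₁) (ω k))
  (hi₁ : ∀ k, i₁k k ≫ ξ k = ζ k ≫ i₁) (hi₂ : ∀ k, i₂k k ≫ η k = ζ k ≫ i₂)
  (e : ∀ k, Wk k ≅ 𝒰.X k) (he : ∀ k, (e k).hom ≫ 𝒰.f k = ω k)
  (hpo : ∀ k, IsPushout (i₁k k) (i₂k k) (π₁k k) (π₂k k))

omit [Category 𝒰.I₀] [𝒰.LocallyDirected] in
include hX he in
theorem hX' (k : 𝒰.I₀) : IsPullback (ξ k) (π₁k k ≫ (e k).hom) π₁ (𝒰.f k) :=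
  IsPullback.of_iso (hX k) (Iso.refl _) (Iso.refl _) (e k) (Iso.refl _) (by simp) (by simp)
    (by simp) (by simp [he])

omit [Category 𝒰.I₀] [𝒰.LocallyDirected] in
include hY he in
theorem hY' (k : 𝒰.I₀) : IsPullback (η k) (π₂k k ≫ (e k).hom) π₂ (𝒰.f k) :=
  IsPullback.of_iso (hY k) (Iso.refl _) (Iso.refl _) (e k) (Iso.refl _) (by simp) (by simp)
    (by simp) (by simp [he])

omit [Category 𝒰.I₀] [𝒰.LocallyDirected] in
include hZ he in
theorem hZ' (k : 𝒰.I₀) : IsPullback (ζ k) ((i₁k k ≫ π₁k k) ≫ (e k).hom) (i₁ ≫ π₁) (𝒰.f k) :=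
  IsPullback.of_iso (hZ k) (Iso.refl _) (Iso.refl _) (e k) (Iso.refl _) (by simp) (by simp)
    (by simp) (by simp [he])

omit [Category 𝒰.I₀] [𝒰.LocallyDirected] in
theorem hW' (k : 𝒰.I₀) : IsPullback (𝒰.f k) (𝟙 (𝒰.X k)) (𝟙 W) (𝒰.f k) :=
  IsPullback.of_vert_isIso ⟨by simp⟩

include w hX hY hZ hi₁ hi₂ he hpo in
/-- pushouts are local on the target (abstract pullback form) -/
theorem isPushout_of_local : IsPushout i₁ i₂ π₁ π₂ := by
  refine isPushout_left_of_forall 𝒰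
    (Over.homMk i₁ rfl : Over.mk (i₁ ≫ π₁) ⟶ Over.mk π₁)
    (Over.homMk i₂ w.symm : Over.mk (i₁ ≫ π₁) ⟶ Over.mk π₂)
    (Over.homMk π₁ (Category.comp_id _) : Over.mk π₁ ⟶ Over.mk (𝟙 W))
    (Over.homMk π₂ (Category.comp_id _) : Over.mk π₂ ⟶ Over.mk (𝟙 W))
    (by ext; exact w) (fun k => ?_)
  have hw : i₁k k ≫ π₁k k = i₂k k ≫ π₂k k := (hpo k).w
  refine (hpo k).of_iso (hZ' i₁ π₁ 𝒰 Zk Xk Wk ζ ω i₁k π₁k hZ e he k).isoPullback
    (hX' π₁ 𝒰 Xk Wk ξ ω π₁k hX e he k).isoPullback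
    (hY' π₂ 𝒰 Yk Wk η ω π₂k hY e he k).isoPullback
    ((e k) ≪≫ (hW' 𝒰 k).isoPullback) ?_ ?_ ?_ ?_
  · apply pullback.hom_ext
    · simp only [Over.mk_hom, Category.assoc, IsPullback.isoPullback_hom_fst, Over.pullback_map_left,
        pullback.lift_fst, IsPullback.isoPullback_hom_fst_assoc, Over.homMk_left]
      exact hi₁ k
    · simp only [Over.mk_hom, Category.assoc, IsPullback.isoPullback_hom_snd, Over.pullback_map_left,
        pullback.lift_snd]
  · apply pullback.hom_ext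
    · simp only [Over.mk_hom, Category.assoc, IsPullback.isoPullback_hom_fst, Over.pullback_map_left,
        pullback.lift_fst, IsPullback.isoPullback_hom_fst_assoc, Over.homMk_left]
      exact hi₂ k
    · simp only [Over.mk_hom, Category.assoc, IsPullback.isoPullback_hom_snd, Over.pullback_map_left,
        pullback.lift_snd]
      rw [← Category.assoc, ← hw, Category.assoc]
  · apply pullback.hom_ext
    · simp only [Over.mk_hom, Category.assoc, IsPullback.isoPullback_hom_fst, Over.pullback_map_left,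
        pullback.lift_fst, IsPullback.isoPullback_hom_fst_assoc, Over.homMk_left, Iso.trans_hom]
      rw [he]
      exact (hX k).w.symm
    · simp only [Over.mk_hom, Category.assoc, IsPullback.isoPullback_hom_snd, Over.pullback_map_left,
        pullback.lift_snd, Category.comp_id, Iso.trans_hom]
  · apply pullback.hom_ext
    · simp only [Over.mk_hom, Category.assoc, IsPullback.isoPullback_hom_fst, Over.pullback_map_left,
        pullback.lift_fst, IsPullback.isoPullback_hom_fst_assoc, Over.homMk_left, Iso.trans_hom]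
      rw [he]
      exact (hY k).w.symm
    · simp only [Over.mk_hom, Category.assoc, IsPullback.isoPullback_hom_snd, Over.pullback_map_left,
        pullback.lift_snd, Category.comp_id, Iso.trans_hom]

end

end Groth.Agent.Lib.Helper12.PushoutLocal
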