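import Mathlib
import Groth.Agent.Lib.Helper12.Ferrand9
import Groth.Agent.Lib.Helper12.FerrandBC4
import Groth.Agent.Lib.Helper12.PushoutLocal2

/-!
# Base change of Ferrand pushouts (helper12)

`isPushout_baseChange`: for the glued pushout `P` of `i : Z ⟶ X` (closed immersion) along
`j : Z ⟶ Y`, a morphism `π : P ⟶ 𝔹` and `u : 𝔹' ⟶ 𝔹`, the base change of the pushout square along `u`
is a pushout of schemes as soon as all chart fibre squares `Γ(Y,V) ×_{Γ(Z,W)} Γ(X,U)` stay cartesian
after base change to the affine opens of `𝔹'` lying over the relevant affine open of `𝔹`.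
-/

set_option autoImplicit false
universe u
open CategoryTheory AlgebraicGeometry Opposite TopologicalSpace PrimeSpectrum Limits

namespace Groth.Agent.Lib.Helper12.FerrandBC5
open SpecPushout Ferrand1 Ferrand Ferrand9 FerrandBC3

/-- a standard pasting: `X ×_𝔹 T = X ×_P (P ×_𝔹 T)` -/
theorem isPullback_map_fst {X' P' B₀ T' : Scheme.{u}} (f' : X' ⟶ P') (π' : P' ⟶ B₀) (t' : T' ⟶ B₀)
    (h₁ : (f' ≫ π') ≫ 𝟙 B₀ = f' ≫ π') (h₂ : t' ≫ 𝟙 B₀ = 𝟙 T' ≫ t') :
    IsPullback (pullback.fst (f' ≫ π') t')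
      (pullback.map (f' ≫ π') t' π' t' f' (𝟙 T') (𝟙 B₀) h₁ h₂) f'
      (pullback.fst π' t') := by
  have e : pullback.map (f' ≫ π') t' π' t' f' (𝟙 T') (𝟙 B₀) h₁ h₂ ≫
      pullback.snd π' t' = pullback.snd (f' ≫ π') t' := by
    rw [pullback.lift_snd, Category.comp_id]
  have e' : pullback.fst (f' ≫ π') t' ≫ f' =
      pullback.map (f' ≫ π') t' π' t' f' (𝟙 T') (𝟙 B₀) h₁ h₂ ≫ pullback.fst π' t' := by
    rw [pullback.lift_fst]
  refine IsPullback.of_bot ?_ e' (IsPullback.of_hasPullback π' t')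
  rw [e]
  exact IsPullback.of_hasPullback (f' ≫ π') t'

section
variable {X Y Z 𝔹 : Scheme.{u}} {i : Z ⟶ X} {j : Z ⟶ Y} [IsClosedImmersion i]
  (hcov : ∀ y : Y, ∃ k : GoodPair i j, y ∈ k.V) (π : P i j ⟶ 𝔹)

/-- good pairs lying over an affine open of the base -/
def IsSmall (k : GoodPair i j) : Prop :=
  ∃ O : 𝔹.Opens, IsAffineOpen O ∧ k.U ≤ (a i j hcov ≫ π) ⁻¹ᵁ O ∧ k.V ≤ (b i j hcov ≫ π) ⁻¹ᵁ O

theorem IsSmall.of_le {k l : GoodPair i j} (hk : IsSmall hcov π k) (hl : l ≤ k) :
    IsSmall hcov π l := by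
  obtain ⟨O, hO, hU, hV⟩ := hk
  exact ⟨O, hO, hl.refines.1.trans hU, hl.refines.2.trans hV⟩

theorem hsq : i ≫ a i j hcov ≫ π = j ≫ b i j hcov ≫ π := by
  rw [← Category.assoc, w i j hcov, Category.assoc]

/-- the cover of `P` by the charts of small good pairs -/
noncomputable def coverPs : (P i j).OpenCover :=
  Scheme.Cover.mkOfCovers {k : GoodPair i j // IsSmall hcov π k}
    (fun k => (chart i j).obj k.1) (fun k => ιP i j k.1)
    (fun x => by
      obtain ⟨k, O, hO, hU, hV, w, hw⟩ := exists_small hcov π rfl rfl x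
      exact ⟨⟨k, O, hO, hU, hV⟩, w, hw⟩)

noncomputable instance : Preorder (coverPs hcov π).I₀ :=
  inferInstanceAs (Preorder {k : GoodPair i j // IsSmall hcov π k})

noncomputable instance : (coverPs hcov π).LocallyDirected where
  trans {k k'} f := (chart i j).map (X := k.1) (Y := k'.1) (homOfLE (leOfHom f))
  trans_id k := (chart i j).map_id k.1
  trans_comp {k k' k''} f g :=
    (chart i j).map_comp (X := k.1) (Y := k'.1) (Z := k''.1) (homOfLE (leOfHom f))
      (homOfLE (leOfHom g))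
  w {k k'} f := chart_map_ιP i j (k := k.1) (k' := k'.1) (homOfLE (leOfHom f))
  directed {k k'} x := by
    obtain ⟨l, f, f', w, hw⟩ := directedP i j k.1 k'.1 x
    exact ⟨⟨l, k.2.of_le hcov π (leOfHom f)⟩, homOfLE (leOfHom f), homOfLE (leOfHom f'), w, hw⟩
  property_trans {k k'} f :=
    isOpenImmersion_chart_map i j (k := k.1) (k' := k'.1) (homOfLE (leOfHom f))

end

/-- base change of an `Over` morphism is cartesian over it -/
theorem isPullback_over_map {B₀ T' : Scheme.{u}} (t' : T' ⟶ B₀) {X' W' : Over B₀} (g' : X' ⟶ W') :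
    IsPullback (pullback.fst X'.hom t') ((Over.pullback t').map g').left g'.left
      (pullback.fst W'.hom t') := by
  have e : ((Over.pullback t').map g').left ≫ pullback.snd W'.hom t' = pullback.snd X'.hom t' := by
    simp only [Over.pullback_map_left, pullback.lift_snd]
  have e' : pullback.fst X'.hom t' ≫ g'.left =
      ((Over.pullback t').map g').left ≫ pullback.fst W'.hom t' := by
    simp only [Over.pullback_map_left, pullback.lift_fst]
  refine IsPullback.of_bot ?_ e' (IsPullback.of_hasPullback W'.hom t')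
  rw [e, Over.w g']
  exact IsPullback.of_hasPullback X'.hom t'

theorem over_map_snd {B₀ T' : Scheme.{u}} (t' : T' ⟶ B₀) {X' W' : Over B₀} (g' : X' ⟶ W') :
    ((Over.pullback t').map g').left ≫ pullback.snd W'.hom t' = pullback.snd X'.hom t' := by
  simp only [Over.pullback_map_left, pullback.lift_snd]

section Local
variable {X Y Z 𝔹 𝔹' : Scheme.{u}} {i : Z ⟶ X} {j : Z ⟶ Y} [IsClosedImmersion i]
  (hcov : ∀ y : Y, ∃ k : GoodPair i j, y ∈ k.V) (π : P i j ⟶ 𝔹) (u : 𝔹' ⟶ 𝔹)
  (k : GoodPair i j) (O : 𝔹.Opens) (hO : IsAffineOpen O)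
  (hU : k.U ≤ (a i j hcov ≫ π) ⁻¹ᵁ O) (hV : k.V ≤ (b i j hcov ≫ π) ⁻¹ᵁ O)

/-- the fibre square of rings of a chart -/
noncomputable abbrev sq (k : GoodPair i j) : FibreSq k.R Γ(Y, k.V) Γ(X, k.U) Γ(Z, k.W) :=
  FibreSq.ofPr k.p k.q k.p_surjective

/-- `u⁻¹(O) ⟶ Spec Γ(𝔹, O)` -/
noncomputable abbrev tO : pullback u hO.fromSpec ⟶ Spec Γ(𝔹, O) := pullback.snd u hO.fromSpec

/-- chart to `Spec Γ(𝔹, O)` -/
noncomputable abbrev gk : (chart i j).obj k ⟶ Spec Γ(𝔹, O) := g (hsq hcov π) k O hU hV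

theorem gk_fromSpec : gk hcov π k O hU hV ≫ hO.fromSpec = ιP i j k ≫ π :=
  (ιP_π (hsq hcov π) hcov π rfl rfl k O hO hU hV).symm

/-- structure maps to `Spec Γ(𝔹, O)` -/
noncomputable abbrev sX : Spec Γ(X, k.U) ⟶ Spec Γ(𝔹, O) := aC i j k ≫ gk hcov π k O hU hV
noncomputable abbrev sY : Spec Γ(Y, k.V) ⟶ Spec Γ(𝔹, O) := bC i j k ≫ gk hcov π k O hU hV
noncomputable abbrev sZ : Spec Γ(Z, k.W) ⟶ Spec Γ(𝔹, O) :=
  Spec.map (i.appLE k.U k.W le_rfl) ≫ aC i j k ≫ gk hcov π k O hU hV

theorem sZ_eq : sZ hcov π k O hU hV =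
    Spec.map (j.appLE k.V k.W k.W_le) ≫ bC i j k ≫ gk hcov π k O hU hV := by
  unfold sZ
  rw [← Category.assoc, (isPushout_chart i j k).w, Category.assoc]

/-- the four `Over (Spec Γ(𝔹, O))` morphisms of the chart square -/
noncomputable abbrev mi : Over.mk (sZ hcov π k O hU hV) ⟶ Over.mk (sX hcov π k O hU hV) :=
  Over.homMk (Spec.map (i.appLE k.U k.W le_rfl)) rfl
noncomputable abbrev mj : Over.mk (sZ hcov π k O hU hV) ⟶ Over.mk (sY hcov π k O hU hV) :=
  Over.homMk (Spec.map (j.appLE k.V k.W k.W_le)) (sZ_eq hcov π k O hU hV).symm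
noncomputable abbrev ma : Over.mk (sX hcov π k O hU hV) ⟶ Over.mk (gk hcov π k O hU hV) :=
  Over.homMk (aC i j k) rfl
noncomputable abbrev mb : Over.mk (sY hcov π k O hU hV) ⟶ Over.mk (gk hcov π k O hU hV) :=
  Over.homMk (bC i j k) rfl

/-- the four `Over 𝔹` morphisms of the global square -/
noncomputable abbrev Mi : Over.mk (i ≫ a i j hcov ≫ π) ⟶ Over.mk (a i j hcov ≫ π) :=
  Over.homMk i rfl
noncomputable abbrev Mj : Over.mk (i ≫ a i j hcov ≫ π) ⟶ Over.mk (b i j hcov ≫ π) :=
  Over.homMk j (hsq hcov π).symm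
noncomputable abbrev Ma : Over.mk (a i j hcov ≫ π) ⟶ Over.mk π := Over.homMk (a i j hcov) rfl
noncomputable abbrev Mb : Over.mk (b i j hcov ≫ π) ⟶ Over.mk π := Over.homMk (b i j hcov) rfl

/-- the local pushout -/
theorem hpo
    (H : ∀ U' : (pullback u hO.fromSpec).affineOpens,
      (sq k).IsCartForHom (γ (hsq hcov π) k O hU hV)
        (Spec.preimage (U'.2.fromSpec ≫ pullback.snd u hO.fromSpec)).hom) :
    IsPushout ((Over.pullback (tO u O hO)).map (mi hcov π k O hU hV)).left
      ((Over.pullback (tO u O hO)).map (mj hcov π k O hU hV)).left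
      ((Over.pullback (tO u O hO)).map (ma hcov π k O hU hV)).left
      ((Over.pullback (tO u O hO)).map (mb hcov π k O hU hV)).left := by
  refine FibreSq.isPushout_left (sq k) (γ (hsq hcov π) k O hU hV) (pullback u hO.fromSpec)
    (tO u O hO) H (gk hcov π k O hU hV) (sY hcov π k O hU hV) (sX hcov π k O hU hV)
    (sZ hcov π k O hU hV) rfl ?_ ?_ ?_ rfl (sZ_eq hcov π k O hU hV).symm rfl rfl
  · change Spec.map _ ≫ Spec.map _ = _
    rw [← Spec.map_comp]; rfl
  · change Spec.map _ ≫ Spec.map _ = _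
    rw [← Spec.map_comp]; rfl
  · rw [sZ_eq]
    change Spec.map _ ≫ Spec.map _ ≫ Spec.map _ = _
    rw [← Spec.map_comp, ← Spec.map_comp]; rfl

theorem sX_fromSpec : sX hcov π k O hU hV ≫ hO.fromSpec = k.hU.fromSpec ≫ a i j hcov ≫ π := by
  rw [Category.assoc, gk_fromSpec, ← Category.assoc, ← fromSpec_a, Category.assoc]

theorem sY_fromSpec : sY hcov π k O hU hV ≫ hO.fromSpec = k.hV.fromSpec ≫ b i j hcov ≫ π := by
  rw [Category.assoc, gk_fromSpec, ← Category.assoc, ← fromSpec_b, Category.assoc]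

theorem sZ_fromSpec :
    sZ hcov π k O hU hV ≫ hO.fromSpec = k.hW.fromSpec ≫ i ≫ a i j hcov ≫ π := by
  unfold sZ
  rw [Category.assoc, Category.assoc, gk_fromSpec, ← Category.assoc (aC i j k), ← fromSpec_a,
    Category.assoc, IsAffineOpen.SpecMap_appLE_fromSpec_assoc i k.hU k.hW le_rfl]

/-- local-to-global maps -/
noncomputable def ω : pullback (gk hcov π k O hU hV) (tO u O hO) ⟶ pullback π u :=
  pullback.map _ _ _ _ (ιP i j k) (pullback.fst u hO.fromSpec) hO.fromSpec
    (gk_fromSpec hcov π k O hO hU hV) pullback.condition.symm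

noncomputable def ξ : pullback (sX hcov π k O hU hV) (tO u O hO) ⟶ pullback (a i j hcov ≫ π) u :=
  pullback.map _ _ _ _ k.hU.fromSpec (pullback.fst u hO.fromSpec) hO.fromSpec
    (sX_fromSpec hcov π k O hO hU hV) pullback.condition.symm

noncomputable def η : pullback (sY hcov π k O hU hV) (tO u O hO) ⟶ pullback (b i j hcov ≫ π) u :=
  pullback.map _ _ _ _ k.hV.fromSpec (pullback.fst u hO.fromSpec) hO.fromSpec
    (sY_fromSpec hcov π k O hO hU hV) pullback.condition.symm

noncomputable def ζ :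
    pullback (sZ hcov π k O hU hV) (tO u O hO) ⟶ pullback (i ≫ a i j hcov ≫ π) u :=
  pullback.map _ _ _ _ k.hW.fromSpec (pullback.fst u hO.fromSpec) hO.fromSpec
    (sZ_fromSpec hcov π k O hO hU hV) pullback.condition.symm

theorem hWpb : IsPullback (ω hcov π u k O hO hU hV)
    (pullback.fst (gk hcov π k O hU hV) (tO u O hO)) (pullback.fst π u) (ιP i j k) := by
  have hright : IsPullback (pullback.snd π u) (pullback.fst π u) u π :=
    (IsPullback.of_hasPullback π u).flip
  have hl : IsPullback (pullback.snd (gk hcov π k O hU hV) (tO u O hO))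
      (pullback.fst (gk hcov π k O hU hV) (tO u O hO)) (tO u O hO) (gk hcov π k O hU hV) :=
    (IsPullback.of_hasPullback _ _).flip
  have hr : IsPullback (pullback.fst u hO.fromSpec) (tO u O hO) u hO.fromSpec :=
    IsPullback.of_hasPullback u hO.fromSpec
  have hbig := hl.paste_horiz hr
  rw [gk_fromSpec] at hbig
  have e : ω hcov π u k O hO hU hV ≫ pullback.snd π u =
      pullback.snd (gk hcov π k O hU hV) (tO u O hO) ≫ pullback.fst u hO.fromSpec := by
    unfold ω; rw [pullback.lift_snd]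
  rw [← e] at hbig
  refine IsPullback.of_right hbig ?_ hright
  unfold ω; rw [pullback.lift_fst]

theorem ξ_fst : ξ hcov π u k O hO hU hV ≫ pullback.fst (a i j hcov ≫ π) u =
    pullback.fst (sX hcov π k O hU hV) (tO u O hO) ≫ k.hU.fromSpec := by
  unfold ξ; rw [pullback.lift_fst]
theorem ξ_snd : ξ hcov π u k O hO hU hV ≫ pullback.snd (a i j hcov ≫ π) u =
    pullback.snd (sX hcov π k O hU hV) (tO u O hO) ≫ pullback.fst u hO.fromSpec := by
  unfold ξ; rw [pullback.lift_snd]
theorem η_fst : η hcov π u k O hO hU hV ≫ pullback.fst (b i j hcov ≫ π) u =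
    pullback.fst (sY hcov π k O hU hV) (tO u O hO) ≫ k.hV.fromSpec := by
  unfold η; rw [pullback.lift_fst]
theorem η_snd : η hcov π u k O hO hU hV ≫ pullback.snd (b i j hcov ≫ π) u =
    pullback.snd (sY hcov π k O hU hV) (tO u O hO) ≫ pullback.fst u hO.fromSpec := by
  unfold η; rw [pullback.lift_snd]
theorem ζ_fst : ζ hcov π u k O hO hU hV ≫ pullback.fst (i ≫ a i j hcov ≫ π) u =
    pullback.fst (sZ hcov π k O hU hV) (tO u O hO) ≫ k.hW.fromSpec := by
  unfold ζ; rw [pullback.lift_fst]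
theorem ζ_snd : ζ hcov π u k O hO hU hV ≫ pullback.snd (i ≫ a i j hcov ≫ π) u =
    pullback.snd (sZ hcov π k O hU hV) (tO u O hO) ≫ pullback.fst u hO.fromSpec := by
  unfold ζ; rw [pullback.lift_snd]
theorem ω_fst : ω hcov π u k O hO hU hV ≫ pullback.fst π u =
    pullback.fst (gk hcov π k O hU hV) (tO u O hO) ≫ ιP i j k := by
  unfold ω; rw [pullback.lift_fst]
theorem ω_snd : ω hcov π u k O hO hU hV ≫ pullback.snd π u =
    pullback.snd (gk hcov π k O hU hV) (tO u O hO) ≫ pullback.fst u hO.fromSpec := by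
  unfold ω; rw [pullback.lift_snd]

theorem hXpb : IsPullback (ξ hcov π u k O hO hU hV)
    ((Over.pullback (tO u O hO)).map (ma hcov π k O hU hV)).left
    ((Over.pullback u).map (Ma hcov π)).left (ω hcov π u k O hO hU hV) := by
  have R1 := isPullback_over_map u (Ma hcov π)
  have R2 := isPullback_over_map (tO u O hO) (ma hcov π k O hU hV)
  have R3 := isPullback_X i j hcov k
  have hbig := R2.paste_horiz R3
  have w1 : ((Over.pullback u).map (Ma hcov π)).left ≫ pullback.fst π u =
      pullback.fst (a i j hcov ≫ π) u ≫ a i j hcov := R1.w.symm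
  have w1' : ((Over.pullback u).map (Ma hcov π)).left ≫ pullback.snd π u =
      pullback.snd (a i j hcov ≫ π) u := over_map_snd u (Ma hcov π)
  have w2 : ((Over.pullback (tO u O hO)).map (ma hcov π k O hU hV)).left ≫
      pullback.fst (gk hcov π k O hU hV) (tO u O hO) =
      pullback.fst (sX hcov π k O hU hV) (tO u O hO) ≫ aC i j k := R2.w.symm
  have w2' : ((Over.pullback (tO u O hO)).map (ma hcov π k O hU hV)).left ≫
      pullback.snd (gk hcov π k O hU hV) (tO u O hO) =
      pullback.snd (sX hcov π k O hU hV) (tO u O hO) := over_map_snd (tO u O hO) (ma hcov π k O hU hV)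
  refine IsPullback.of_right (h₁₂ := pullback.fst (a i j hcov ≫ π) u)
    (h₂₂ := pullback.fst π u) (v₁₃ := a i j hcov) ?_ ?_ R1
  · rw [ξ_fst, ω_fst]; exact hbig
  · apply pullback.hom_ext
    · rw [Category.assoc, w1, reassoc_of% ξ_fst, Category.assoc, ω_fst, reassoc_of% w2, fromSpec_a]
    · rw [Category.assoc, w1', ξ_snd, Category.assoc, ω_snd, reassoc_of% w2']

theorem hYpb : IsPullback (η hcov π u k O hO hU hV)
    ((Over.pullback (tO u O hO)).map (mb hcov π k O hU hV)).left
    ((Over.pullback u).map (Mb hcov π)).left (ω hcov π u k O hO hU hV) := by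
  have R1 := isPullback_over_map u (Mb hcov π)
  have R2 := isPullback_over_map (tO u O hO) (mb hcov π k O hU hV)
  have R3 := isPullback_Y i j hcov k
  have hbig := R2.paste_horiz R3
  have w1 : ((Over.pullback u).map (Mb hcov π)).left ≫ pullback.fst π u =
      pullback.fst (b i j hcov ≫ π) u ≫ b i j hcov := R1.w.symm
  have w1' : ((Over.pullback u).map (Mb hcov π)).left ≫ pullback.snd π u =
      pullback.snd (b i j hcov ≫ π) u := over_map_snd u (Mb hcov π)
  have w2 : ((Over.pullback (tO u O hO)).map (mb hcov π k O hU hV)).left ≫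
      pullback.fst (gk hcov π k O hU hV) (tO u O hO) =
      pullback.fst (sY hcov π k O hU hV) (tO u O hO) ≫ bC i j k := R2.w.symm
  have w2' : ((Over.pullback (tO u O hO)).map (mb hcov π k O hU hV)).left ≫
      pullback.snd (gk hcov π k O hU hV) (tO u O hO) =
      pullback.snd (sY hcov π k O hU hV) (tO u O hO) := over_map_snd (tO u O hO) (mb hcov π k O hU hV)
  refine IsPullback.of_right (h₁₂ := pullback.fst (b i j hcov ≫ π) u)
    (h₂₂ := pullback.fst π u) (v₁₃ := b i j hcov) ?_ ?_ R1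
  · rw [η_fst, ω_fst]; exact hbig
  · apply pullback.hom_ext
    · rw [Category.assoc, w1, reassoc_of% η_fst, Category.assoc, ω_fst, reassoc_of% w2, fromSpec_b]
    · rw [Category.assoc, w1', η_snd, Category.assoc, ω_snd, reassoc_of% w2']

theorem hZpb : IsPullback (ζ hcov π u k O hO hU hV)
    (((Over.pullback (tO u O hO)).map (mi hcov π k O hU hV)).left ≫
      ((Over.pullback (tO u O hO)).map (ma hcov π k O hU hV)).left)
    (((Over.pullback u).map (Mi hcov π)).left ≫ ((Over.pullback u).map (Ma hcov π)).left)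
    (ω hcov π u k O hO hU hV) := by
  have R1 := isPullback_over_map u (Mi hcov π ≫ Ma hcov π)
  have R2 := isPullback_over_map (tO u O hO) (mi hcov π k O hU hV ≫ ma hcov π k O hU hV)
  have R3 := isPullback_Z i j hcov k
  rw [Functor.map_comp, Over.comp_left] at R1 R2
  have hbig := R2.paste_horiz R3
  have w1 : (((Over.pullback u).map (Mi hcov π)).left ≫ ((Over.pullback u).map (Ma hcov π)).left) ≫
      pullback.fst π u = pullback.fst (i ≫ a i j hcov ≫ π) u ≫ i ≫ a i j hcov := R1.w.symm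
  have w1' : (((Over.pullback u).map (Mi hcov π)).left ≫
      ((Over.pullback u).map (Ma hcov π)).left) ≫ pullback.snd π u =
      pullback.snd (i ≫ a i j hcov ≫ π) u := by
    rw [Category.assoc]
    exact (congrArg (_ ≫ ·) (over_map_snd u (Ma hcov π))).trans (over_map_snd u (Mi hcov π))
  have w2 : (((Over.pullback (tO u O hO)).map (mi hcov π k O hU hV)).left ≫
      ((Over.pullback (tO u O hO)).map (ma hcov π k O hU hV)).left) ≫
      pullback.fst (gk hcov π k O hU hV) (tO u O hO) =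
      pullback.fst (sZ hcov π k O hU hV) (tO u O hO) ≫
        Spec.map (i.appLE k.U k.W le_rfl) ≫ aC i j k := R2.w.symm
  have w2' : (((Over.pullback (tO u O hO)).map (mi hcov π k O hU hV)).left ≫
      ((Over.pullback (tO u O hO)).map (ma hcov π k O hU hV)).left) ≫
      pullback.snd (gk hcov π k O hU hV) (tO u O hO) =
      pullback.snd (sZ hcov π k O hU hV) (tO u O hO) := by
    rw [Category.assoc]
    exact (congrArg (_ ≫ ·) (over_map_snd (tO u O hO) (ma hcov π k O hU hV))).trans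
      (over_map_snd (tO u O hO) (mi hcov π k O hU hV))
  refine IsPullback.of_right (h₁₂ := pullback.fst (i ≫ a i j hcov ≫ π) u)
    (h₂₂ := pullback.fst π u) (v₁₃ := i ≫ a i j hcov) ?_ ?_ R1
  · rw [ζ_fst, ω_fst]; exact hbig
  · have w2r := w2
    have w2r' := w2'
    rw [Category.assoc] at w2r w2r'
    apply pullback.hom_ext
    · rw [Category.assoc, w1, reassoc_of% ζ_fst, Category.assoc, ω_fst]
      simp only [Category.assoc]
      rw [reassoc_of% w2r, ← fromSpec_a i j hcov k,
        IsAffineOpen.SpecMap_appLE_fromSpec_assoc i k.hU k.hW le_rfl]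
    · rw [Category.assoc, w1', ζ_snd, Category.assoc, ω_snd]
      simp only [Category.assoc]
      rw [reassoc_of% w2r']

theorem hi₁ : ((Over.pullback (tO u O hO)).map (mi hcov π k O hU hV)).left ≫
    ξ hcov π u k O hO hU hV = ζ hcov π u k O hO hU hV ≫ ((Over.pullback u).map (Mi hcov π)).left := by
  have R1 := isPullback_over_map u (Mi hcov π)
  have R2 := isPullback_over_map (tO u O hO) (mi hcov π k O hU hV)
  have w1 : ((Over.pullback u).map (Mi hcov π)).left ≫ pullback.fst (a i j hcov ≫ π) u =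
      pullback.fst (i ≫ a i j hcov ≫ π) u ≫ i := R1.w.symm
  have w1' : ((Over.pullback u).map (Mi hcov π)).left ≫ pullback.snd (a i j hcov ≫ π) u =
      pullback.snd (i ≫ a i j hcov ≫ π) u := over_map_snd u (Mi hcov π)
  have w2 : ((Over.pullback (tO u O hO)).map (mi hcov π k O hU hV)).left ≫
      pullback.fst (sX hcov π k O hU hV) (tO u O hO) =
      pullback.fst (sZ hcov π k O hU hV) (tO u O hO) ≫ Spec.map (i.appLE k.U k.W le_rfl) :=
    R2.w.symm
  have w2' : ((Over.pullback (tO u O hO)).map (mi hcov π k O hU hV)).left ≫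
      pullback.snd (sX hcov π k O hU hV) (tO u O hO) =
      pullback.snd (sZ hcov π k O hU hV) (tO u O hO) :=
    over_map_snd (tO u O hO) (mi hcov π k O hU hV)
  apply pullback.hom_ext
  · rw [Category.assoc, ξ_fst, reassoc_of% w2, Category.assoc, w1, reassoc_of% ζ_fst,
      IsAffineOpen.SpecMap_appLE_fromSpec i k.hU k.hW le_rfl]
  · rw [Category.assoc, ξ_snd, reassoc_of% w2', Category.assoc, w1', ζ_snd]

theorem hi₂ : ((Over.pullback (tO u O hO)).map (mj hcov π k O hU hV)).left ≫
    η hcov π u k O hO hU hV = ζ hcov π u k O hO hU hV ≫ ((Over.pullback u).map (Mj hcov π)).left := by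
  have R1 := isPullback_over_map u (Mj hcov π)
  have R2 := isPullback_over_map (tO u O hO) (mj hcov π k O hU hV)
  have w1 : ((Over.pullback u).map (Mj hcov π)).left ≫ pullback.fst (b i j hcov ≫ π) u =
      pullback.fst (i ≫ a i j hcov ≫ π) u ≫ j := R1.w.symm
  have w1' : ((Over.pullback u).map (Mj hcov π)).left ≫ pullback.snd (b i j hcov ≫ π) u =
      pullback.snd (i ≫ a i j hcov ≫ π) u := over_map_snd u (Mj hcov π)
  have w2 : ((Over.pullback (tO u O hO)).map (mj hcov π k O hU hV)).left ≫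
      pullback.fst (sY hcov π k O hU hV) (tO u O hO) =
      pullback.fst (sZ hcov π k O hU hV) (tO u O hO) ≫ Spec.map (j.appLE k.V k.W k.W_le) :=
    R2.w.symm
  have w2' : ((Over.pullback (tO u O hO)).map (mj hcov π k O hU hV)).left ≫
      pullback.snd (sY hcov π k O hU hV) (tO u O hO) =
      pullback.snd (sZ hcov π k O hU hV) (tO u O hO) :=
    over_map_snd (tO u O hO) (mj hcov π k O hU hV)
  apply pullback.hom_ext
  · rw [Category.assoc, η_fst, reassoc_of% w2, Category.assoc, w1, reassoc_of% ζ_fst,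
      IsAffineOpen.SpecMap_appLE_fromSpec j k.hV k.hW k.W_le]
  · rw [Category.assoc, η_snd, reassoc_of% w2', Category.assoc, w1', ζ_snd]

end Local

section Main
variable {X Y Z 𝔹 𝔹' : Scheme.{u}} {i : Z ⟶ X} {j : Z ⟶ Y} [IsClosedImmersion i]
  (hcov : ∀ y : Y, ∃ k : GoodPair i j, y ∈ k.V) (π : P i j ⟶ 𝔹) (u : 𝔹' ⟶ 𝔹)

/-- **Base change of Ferrand pushouts**: the base change along `u : 𝔹' ⟶ 𝔹` of the glued pushout
square (viewed over `𝔹` via `π`) is a pushout of schemes, provided the chart fibre squares stay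
cartesian over the affine opens of `𝔹'` above affine opens of `𝔹`. -/
theorem isPushout_baseChange
    (H : ∀ (k : GoodPair i j) (O : 𝔹.Opens) (hO : IsAffineOpen O)
      (hU : k.U ≤ (a i j hcov ≫ π) ⁻¹ᵁ O) (hV : k.V ≤ (b i j hcov ≫ π) ⁻¹ᵁ O)
      (U' : (pullback u hO.fromSpec).affineOpens),
      (sq k).IsCartForHom (γ (hsq hcov π) k O hU hV)
        (Spec.preimage (U'.2.fromSpec ≫ pullback.snd u hO.fromSpec)).hom) :
    IsPushout ((Over.pullback u).map (Mi hcov π)).left ((Over.pullback u).map (Mj hcov π)).left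
      ((Over.pullback u).map (Ma hcov π)).left ((Over.pullback u).map (Mb hcov π)).left := by
  have hw : ((Over.pullback u).map (Mi hcov π)).left ≫ ((Over.pullback u).map (Ma hcov π)).left =
      ((Over.pullback u).map (Mj hcov π)).left ≫ ((Over.pullback u).map (Mb hcov π)).left := by
    rw [← Over.comp_left, ← Over.comp_left, ← Functor.map_comp, ← Functor.map_comp]
    congr 2
    ext
    exact w i j hcov
  let J := {k : GoodPair i j // IsSmall hcov π k}
  let O : J → 𝔹.Opens := fun k => k.2.choose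
  have hO : ∀ k : J, IsAffineOpen (O k) := fun k => k.2.choose_spec.1
  have hU : ∀ k : J, k.1.U ≤ (a i j hcov ≫ π) ⁻¹ᵁ (O k) := fun k => k.2.choose_spec.2.1
  have hV : ∀ k : J, k.1.V ≤ (b i j hcov ≫ π) ⁻¹ᵁ (O k) := fun k => k.2.choose_spec.2.2
  exact PushoutLocal.isPushout_of_local _ _ _ _ hw
    ((coverPs hcov π).pullback₁ (pullback.fst π u))
    (fun (k : J) => pullback (sZ hcov π k.1 (O k) (hU k) (hV k)) (tO u (O k) (hO k)))
    (fun (k : J) => pullback (sX hcov π k.1 (O k) (hU k) (hV k)) (tO u (O k) (hO k)))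
    (fun (k : J) => pullback (sY hcov π k.1 (O k) (hU k) (hV k)) (tO u (O k) (hO k)))
    (fun (k : J) => pullback (gk hcov π k.1 (O k) (hU k) (hV k)) (tO u (O k) (hO k)))
    (fun (k : J) => ζ hcov π u k.1 (O k) (hO k) (hU k) (hV k))
    (fun (k : J) => ξ hcov π u k.1 (O k) (hO k) (hU k) (hV k))
    (fun (k : J) => η hcov π u k.1 (O k) (hO k) (hU k) (hV k))
    (fun (k : J) => ω hcov π u k.1 (O k) (hO k) (hU k) (hV k))
    (fun (k : J) => ((Over.pullback (tO u (O k) (hO k))).map (mi hcov π k.1 (O k) (hU k) (hV k))).left)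
    (fun (k : J) => ((Over.pullback (tO u (O k) (hO k))).map (mj hcov π k.1 (O k) (hU k) (hV k))).left)
    (fun (k : J) => ((Over.pullback (tO u (O k) (hO k))).map (ma hcov π k.1 (O k) (hU k) (hV k))).left)
    (fun (k : J) => ((Over.pullback (tO u (O k) (hO k))).map (mb hcov π k.1 (O k) (hU k) (hV k))).left)
    (fun (k : J) => hXpb hcov π u k.1 (O k) (hO k) (hU k) (hV k))
    (fun (k : J) => hYpb hcov π u k.1 (O k) (hO k) (hU k) (hV k))
    (fun (k : J) => hZpb hcov π u k.1 (O k) (hO k) (hU k) (hV k))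
    (fun (k : J) => hi₁ hcov π u k.1 (O k) (hO k) (hU k) (hV k))
    (fun (k : J) => hi₂ hcov π u k.1 (O k) (hO k) (hU k) (hV k))
    (fun (k : J) => (hWpb hcov π u k.1 (O k) (hO k) (hU k) (hV k)).isoPullback)
    (fun (k : J) => (hWpb hcov π u k.1 (O k) (hO k) (hU k) (hV k)).isoPullback_hom_fst)
    (fun (k : J) => hpo hcov π u k.1 (O k) (hO k) (hU k) (hV k)
      (H k.1 (O k) (hO k) (hU k) (hV k)))

end Main

end Groth.Agent.Lib.Helper12.FerrandBC5
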