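import Mathlib
import Groth.Agent.Lib.Helper12.FerrandBC4
import Groth.Agent.Lib.Helper12.Ferrand1

/-!
# Fibre squares: staying cartesian after base change is stable under localization (helper12)

`isCartFor_of_away` / `FibreSq.isCartForHom_of_away`: if a fibre square `P = B ×_A A'` stays cartesian
after `- ⊗[k] R₀`, then so does its localization away from an element `r : P`.
Also `isCartFor_iff` (joint injectivity of `P ⊗ R₀ → B ⊗ R₀`, `P ⊗ R₀ → A' ⊗ R₀`), and the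
localization lemmas `tm_surj`, `tm_eq_zero`, `tm_isUnit` for `B ⊗[k] R₀ → B_s ⊗[k] R₀`.
-/

set_option autoImplicit false
universe u
open CategoryTheory Limits AlgebraicGeometry TensorProduct

namespace Groth.Agent.Lib.Helper12.FerrandBC9
open Ferrand1 FerrandBC3

section Tensor
variable {k B B₁ R₀ : Type u} [CommRing k] [CommRing B] [CommRing B₁] [CommRing R₀]
  [Algebra k B] [Algebra k B₁] [Algebra k R₀] (ρ : B →ₐ[k] B₁) (s : B)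

/-- the base-changed ring map -/
noncomputable abbrev tm : B ⊗[k] R₀ →ₐ[k] B₁ ⊗[k] R₀ :=
  Algebra.TensorProduct.map ρ (AlgHom.id k R₀)

theorem tm_surj (hρ : IsAwayHom (ρ : B →+* B₁) s) (z' : B₁ ⊗[k] R₀) :
    ∃ (n : ℕ) (z : B ⊗[k] R₀), ((ρ s ^ n) ⊗ₜ[k] (1 : R₀)) * z' = tm (R₀ := R₀) ρ z := by
  induction z' using TensorProduct.induction_on with
  | zero => exact ⟨0, 0, by simp⟩
  | tmul b' c =>
    obtain ⟨n, a, ha⟩ := hρ.surj b'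
    refine ⟨n, a ⊗ₜ c, ?_⟩
    have ha' : ρ s ^ n * b' = ρ a := by rw [mul_comm]; exact ha
    rw [Algebra.TensorProduct.tmul_mul_tmul, one_mul, ha']
    simp
  | add x y hx hy =>
    obtain ⟨n₁, z₁, h₁⟩ := hx
    obtain ⟨n₂, z₂, h₂⟩ := hy
    refine ⟨n₁ + n₂, ((s ^ n₂) ⊗ₜ 1) * z₁ + ((s ^ n₁) ⊗ₜ 1) * z₂, ?_⟩
    have e1 : ((ρ s ^ (n₁ + n₂)) ⊗ₜ[k] (1 : R₀)) = ((ρ s ^ n₂) ⊗ₜ[k] (1 : R₀)) * ((ρ s ^ n₁) ⊗ₜ[k] (1 : R₀)) := by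
      rw [Algebra.TensorProduct.tmul_mul_tmul, one_mul, ← pow_add, add_comm]
    have e2 : ((ρ s ^ (n₁ + n₂)) ⊗ₜ[k] (1 : R₀)) = ((ρ s ^ n₁) ⊗ₜ[k] (1 : R₀)) * ((ρ s ^ n₂) ⊗ₜ[k] (1 : R₀)) := by
      rw [Algebra.TensorProduct.tmul_mul_tmul, one_mul, ← pow_add]
    rw [mul_add]
    nth_rw 1 [e1]
    rw [e2, mul_assoc, mul_assoc, h₁, h₂, map_add, map_mul, map_mul]
    simp

theorem tm_isUnit (hρ : IsAwayHom (ρ : B →+* B₁) s) : IsUnit (ρ s ⊗ₜ[k] (1 : R₀)) := by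
  have h1 : IsUnit (ρ s) := hρ.unit
  exact h1.map (Algebra.TensorProduct.includeLeft : B₁ →ₐ[k] B₁ ⊗[k] R₀)

theorem tm_eq_zero (hρ : IsAwayHom (ρ : B →+* B₁) s) (z : B ⊗[k] R₀)
    (hz : tm (R₀ := R₀) ρ z = 0) : ∃ n : ℕ, ((s ^ n) ⊗ₜ[k] (1 : R₀)) * z = 0 := by
  let _ : Algebra B B₁ := (ρ : B →+* B₁).toAlgebra
  have : IsScalarTower k B B₁ := IsScalarTower.of_algebraMap_eq' (by
    ext x; exact (ρ.commutes x).symm)
  have : IsLocalization (Submonoid.powers s) B₁ := hρ.isLocalization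
  let _ : Algebra (B ⊗[k] R₀) (B₁ ⊗[k] R₀) := (tm (R₀ := R₀) ρ : B ⊗[k] R₀ →+* B₁ ⊗[k] R₀).toAlgebra
  have : IsScalarTower B (B ⊗[k] R₀) (B₁ ⊗[k] R₀) := IsScalarTower.of_algebraMap_eq' (by
    ext x
    change _ = tm (R₀ := R₀) ρ (x ⊗ₜ 1)
    simp [RingHom.algebraMap_toAlgebra])
  have hloc := IsLocalization.tensorProduct_tensorProduct k R₀ (Submonoid.powers s) B₁ (by
    ext x
    change tm (R₀ := R₀) ρ (1 ⊗ₜ x) = _
    simp)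
  obtain ⟨⟨m, hm⟩, hmz⟩ := (IsLocalization.map_eq_zero_iff
    (Algebra.algebraMapSubmonoid (B ⊗[k] R₀) (Submonoid.powers s)) (B₁ ⊗[k] R₀) z).mp hz
  obtain ⟨_, ⟨n, rfl⟩, rfl⟩ := hm
  exact ⟨n, hmz⟩

end Tensor

section Cart
variable {k P B A' A : Type u} [CommRing k] [CommRing P] [CommRing B] [CommRing A']
    [CommRing A] [Algebra k P] [Algebra k B] [Algebra k A'] [Algebra k A]
    (D : FibreData k P B A' A) (R₀ : Type u) [CommRing R₀] [Algebra k R₀]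

theorem isCartFor_iff : D.IsCartFor R₀ ↔
    ∀ x : P ⊗[k] R₀, tm (R₀ := R₀) D.ι₁ x = 0 → tm (R₀ := R₀) D.ι₂ x = 0 → x = 0 := by
  have key : ∀ x : P ⊗[k] R₀, D.mA.rTensor R₀ x = 0 ↔
      (tm (R₀ := R₀) D.ι₁ x = 0 ∧ tm (R₀ := R₀) D.ι₂ x = 0) := by
    intro x
    have hfst : (LinearMap.fst k B A') ∘ₗ D.mA = D.ι₁.toLinearMap := rfl
    have hsnd : (LinearMap.snd k B A') ∘ₗ D.mA = D.ι₂.toLinearMap := rfl
    rw [← (TensorProduct.prodLeft k k B A' R₀).map_eq_zero_iff, FibreData.prodLeft_apply,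
      ← LinearMap.comp_apply, ← LinearMap.comp_apply, ← LinearMap.rTensor_comp,
      ← LinearMap.rTensor_comp, hfst, hsnd, Prod.mk_eq_zero, FibreData.map_eq_rTensor,
      FibreData.map_eq_rTensor]
  unfold FibreData.IsCartFor
  rw [injective_iff_map_eq_zero]
  constructor
  · intro h x h1 h2
    exact h x ((key x).mpr ⟨h1, h2⟩)
  · intro h x hx
    exact h x ((key x).mp hx).1 ((key x).mp hx).2

variable {P₁ B₁ A'₁ A₁ : Type u} [CommRing P₁] [CommRing B₁] [CommRing A'₁]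
    [CommRing A₁] [Algebra k P₁] [Algebra k B₁] [Algebra k A'₁] [Algebra k A₁]
    (D₁ : FibreData k P₁ B₁ A'₁ A₁)

/-- a fibre square that stays cartesian after base change still does so after localizing away from
an element of `P` -/
theorem isCartFor_of_away (ρP : P →ₐ[k] P₁) (ρB : B →ₐ[k] B₁) (ρA' : A' →ₐ[k] A'₁) (r : P)
    (hP : IsAwayHom (ρP : P →+* P₁) r) (hB : IsAwayHom (ρB : B →+* B₁) (D.ι₁ r))
    (hA' : IsAwayHom (ρA' : A' →+* A'₁) (D.ι₂ r))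
    (h₁ : ∀ x, D₁.ι₁ (ρP x) = ρB (D.ι₁ x)) (h₂ : ∀ x, D₁.ι₂ (ρP x) = ρA' (D.ι₂ x))
    (h : D.IsCartFor R₀) : D₁.IsCartFor R₀ := by
  rw [isCartFor_iff] at h ⊢
  intro z' hz1 hz2
  obtain ⟨n, z, hz⟩ := tm_surj (R₀ := R₀) ρP r hP z'
  have c1 : ∀ y, tm (R₀ := R₀) ρB (tm (R₀ := R₀) D.ι₁ y) =
      tm (R₀ := R₀) D₁.ι₁ (tm (R₀ := R₀) ρP y) := by
    intro y
    have e : ρB.comp D.ι₁ = D₁.ι₁.comp ρP := AlgHom.ext (fun x => (h₁ x).symm)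
    have := congrArg (fun f => Algebra.TensorProduct.map f ((AlgHom.id k R₀).comp (AlgHom.id k R₀))) e
    simp only [Algebra.TensorProduct.map_comp] at this
    exact AlgHom.congr_fun this y
  have c2 : ∀ y, tm (R₀ := R₀) ρA' (tm (R₀ := R₀) D.ι₂ y) =
      tm (R₀ := R₀) D₁.ι₂ (tm (R₀ := R₀) ρP y) := by
    intro y
    have e : ρA'.comp D.ι₂ = D₁.ι₂.comp ρP := AlgHom.ext (fun x => (h₂ x).symm)
    have := congrArg (fun f => Algebra.TensorProduct.map f ((AlgHom.id k R₀).comp (AlgHom.id k R₀))) e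
    simp only [Algebra.TensorProduct.map_comp] at this
    exact AlgHom.congr_fun this y
  have e1 : tm (R₀ := R₀) ρB (tm (R₀ := R₀) D.ι₁ z) = 0 := by
    rw [c1, ← hz, map_mul, hz1, mul_zero]
  have e2 : tm (R₀ := R₀) ρA' (tm (R₀ := R₀) D.ι₂ z) = 0 := by
    rw [c2, ← hz, map_mul, hz2, mul_zero]
  obtain ⟨m₁, hm₁⟩ := tm_eq_zero (R₀ := R₀) ρB (D.ι₁ r) hB _ e1
  obtain ⟨m₂, hm₂⟩ := tm_eq_zero (R₀ := R₀) ρA' (D.ι₂ r) hA' _ e2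
  have hw : ((r ^ (m₁ + m₂)) ⊗ₜ[k] (1 : R₀)) * z = 0 := by
    apply h
    · rw [map_mul, Algebra.TensorProduct.map_tmul, map_pow, pow_add, AlgHom.id_apply,
        show ((D.ι₁ r ^ m₁ * D.ι₁ r ^ m₂) ⊗ₜ[k] (1 : R₀)) =
          ((D.ι₁ r ^ m₂) ⊗ₜ[k] (1 : R₀)) * ((D.ι₁ r ^ m₁) ⊗ₜ[k] (1 : R₀)) by
          rw [Algebra.TensorProduct.tmul_mul_tmul, one_mul, mul_comm], mul_assoc, hm₁, mul_zero]
    · rw [map_mul, Algebra.TensorProduct.map_tmul, map_pow, pow_add, AlgHom.id_apply,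
        show ((D.ι₂ r ^ m₁ * D.ι₂ r ^ m₂) ⊗ₜ[k] (1 : R₀)) =
          ((D.ι₂ r ^ m₁) ⊗ₜ[k] (1 : R₀)) * ((D.ι₂ r ^ m₂) ⊗ₜ[k] (1 : R₀)) by
          rw [Algebra.TensorProduct.tmul_mul_tmul, one_mul], mul_assoc, hm₂, mul_zero]
  have hfin : ((ρP r ^ (m₁ + m₂ + n)) ⊗ₜ[k] (1 : R₀)) * z' = 0 := by
    rw [pow_add, show ((ρP r ^ (m₁ + m₂) * ρP r ^ n) ⊗ₜ[k] (1 : R₀)) =
          ((ρP r ^ (m₁ + m₂)) ⊗ₜ[k] (1 : R₀)) * ((ρP r ^ n) ⊗ₜ[k] (1 : R₀)) by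
          rw [Algebra.TensorProduct.tmul_mul_tmul, one_mul], mul_assoc, hz]
    have : tm (R₀ := R₀) ρP (((r ^ (m₁ + m₂)) ⊗ₜ[k] (1 : R₀)) * z) = 0 := by rw [hw, map_zero]
    rw [map_mul, Algebra.TensorProduct.map_tmul, map_pow, AlgHom.id_apply] at this
    exact this
  have hu : IsUnit ((ρP r ^ (m₁ + m₂ + n)) ⊗ₜ[k] (1 : R₀)) := by
    have := (tm_isUnit (R₀ := R₀) ρP r hP).pow (m₁ + m₂ + n)
    rwa [Algebra.TensorProduct.tmul_pow, one_pow] at this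
  exact (hu.mul_right_eq_zero).mp hfin

end Cart

section Sq
variable {P B A' A P₁ B₁ A'₁ A₁ : Type u} [CommRing P] [CommRing B] [CommRing A'] [CommRing A]
  [CommRing P₁] [CommRing B₁] [CommRing A'₁] [CommRing A₁]

theorem FibreSq.isCartForHom_of_away (D : FibreSq P B A' A) (D₁ : FibreSq P₁ B₁ A'₁ A₁)
    {k : Type u} [CommRing k] (γ : k →+* P) (γ₁ : k →+* P₁)
    (ρP : P →+* P₁) (ρB : B →+* B₁) (ρA' : A' →+* A'₁) (r : P)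
    (hP : IsAwayHom ρP r) (hB : IsAwayHom ρB (D.ι₁ r)) (hA' : IsAwayHom ρA' (D.ι₂ r))
    (hγ : ρP.comp γ = γ₁)
    (h₁ : ∀ x, D₁.ι₁ (ρP x) = ρB (D.ι₁ x)) (h₂ : ∀ x, D₁.ι₂ (ρP x) = ρA' (D.ι₂ x))
    {R₀ : Type u} [CommRing R₀] (φ : k →+* R₀) (h : D.IsCartForHom γ φ) :
    D₁.IsCartForHom γ₁ φ := by
  subst hγ
  let _ : Algebra k P := γ.toAlgebra
  let _ : Algebra k B := (D.ι₁.comp γ).toAlgebra
  let _ : Algebra k A' := (D.ι₂.comp γ).toAlgebra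
  let _ : Algebra k A := (D.q.comp (D.ι₁.comp γ)).toAlgebra
  let _ : Algebra k P₁ := (ρP.comp γ).toAlgebra
  let _ : Algebra k B₁ := (D₁.ι₁.comp (ρP.comp γ)).toAlgebra
  let _ : Algebra k A'₁ := (D₁.ι₂.comp (ρP.comp γ)).toAlgebra
  let _ : Algebra k A₁ := (D₁.q.comp (D₁.ι₁.comp (ρP.comp γ))).toAlgebra
  let _ : Algebra k R₀ := φ.toAlgebra
  let ρP' : P →ₐ[k] P₁ := ⟨ρP, fun _ => rfl⟩
  let ρB' : B →ₐ[k] B₁ := ⟨ρB, fun c => (h₁ (γ c)).symm⟩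
  let ρA'' : A' →ₐ[k] A'₁ := ⟨ρA', fun c => (h₂ (γ c)).symm⟩
  exact isCartFor_of_away (D.toFibreData γ) R₀ (D₁.toFibreData (ρP.comp γ)) ρP' ρB' ρA'' r hP hB hA'
    h₁ h₂ h

end Sq
end Groth.Agent.Lib.Helper12.FerrandBC9
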