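import Mathlib
import Groth.Agent.Lib.Helper12.FerrandBC5
import Groth.Agent.Lib.Helper12.FerrandBC9

/-!
# Base change of Ferrand pushouts: universally cartesian charts (helper12)

`IsUCart hsq k`: the chart fibre square of the good pair `k` (lying over some affine open `O` of the
base) stays cartesian after every base change `Γ(S, O) → R₀`.  This is stable under principal
refinement (`IsUCart.of_le`).  `isPushout_baseChange'`: if the charts of universally cartesian good
pairs cover the pushout, then the pushout commutes with arbitrary base change.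
-/

set_option autoImplicit false
universe u
open CategoryTheory AlgebraicGeometry Opposite TopologicalSpace PrimeSpectrum Limits

namespace Groth.Agent.Lib.Helper12.FerrandBC10
open SpecPushout Ferrand1 Ferrand Ferrand9 FerrandBC3 FerrandBC5 FerrandBC9

section General
variable {X Y Z S : Scheme.{u}} {i : Z ⟶ X} {j : Z ⟶ Y} [IsClosedImmersion i]
variable {f : X ⟶ S} {t : Y ⟶ S} (hsq : i ≫ f = j ≫ t)

/-- the chart fibre square of `k` over `O` stays cartesian after every base change -/
def IsUCartOver (k : GoodPair i j) (O : S.Opens) (hU : k.U ≤ f ⁻¹ᵁ O) (hV : k.V ≤ t ⁻¹ᵁ O) : Prop :=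
  ∀ (R₀ : Type u) [CommRing R₀] (φ : Γ(S, O) →+* R₀),
    (FibreSq.ofPr k.p k.q k.p_surjective).IsCartForHom (γ hsq k O hU hV) φ

/-- universally cartesian good pairs -/
def IsUCart (k : GoodPair i j) : Prop :=
  ∃ (O : S.Opens) (_ : IsAffineOpen O) (hU : k.U ≤ f ⁻¹ᵁ O) (hV : k.V ≤ t ⁻¹ᵁ O),
    IsUCartOver hsq k O hU hV

theorem resR_γ {k l : GoodPair i j} (h : Refines l k) (O : S.Opens) (hU : k.U ≤ f ⁻¹ᵁ O)
    (hV : k.V ≤ t ⁻¹ᵁ O) :
    (resR h).comp (γ hsq k O hU hV) = γ hsq l O (h.1.trans hU) (h.2.trans hV) := by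
  ext x
  · change (Y.presheaf.map (homOfLE h.2).op).hom ((t.appLE O k.V hV).hom x) =
      (t.appLE O l.V (h.2.trans hV)).hom x
    rw [← CommRingCat.comp_apply, Scheme.Hom.appLE_map]
  · change (X.presheaf.map (homOfLE h.1).op).hom ((f.appLE O k.U hU).hom x) =
      (f.appLE O l.U (h.1.trans hU)).hom x
    rw [← CommRingCat.comp_apply, Scheme.Hom.appLE_map]

theorem IsUCartOver.of_le {k l : GoodPair i j} (O : S.Opens) (hU : k.U ≤ f ⁻¹ᵁ O)
    (hV : k.V ≤ t ⁻¹ᵁ O) (hk : IsUCartOver hsq k O hU hV) (hl : l ≤ k) :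
    IsUCartOver hsq l O (hl.refines.1.trans hU) (hl.refines.2.trans hV) := by
  obtain ⟨r, hrU, hrV⟩ := id hl
  intro R₀ _ φ
  refine FibreSq.isCartForHom_of_away (FibreSq.ofPr k.p k.q k.p_surjective)
    (FibreSq.ofPr l.p l.q l.p_surjective) (γ hsq k O hU hV) _ (resR hl.refines) (resB hl.refines)
    (resA hl.refines) r (isAwayHom_resR hl.refines r hrU hrV)
    (isAwayHom_res k.hV r.1.1 l.V hrV hl.refines.2) (isAwayHom_res k.hU r.1.2 l.U hrU hl.refines.1)
    (resR_γ hsq hl.refines O hU hV) (fun _ => rfl) (fun _ => rfl) φ (hk R₀ φ)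

theorem IsUCart.of_le {k l : GoodPair i j} (hk : IsUCart hsq k) (hl : l ≤ k) : IsUCart hsq l := by
  obtain ⟨O, hO, hU, hV, h⟩ := hk
  exact ⟨O, hO, _, _, h.of_le hsq O hU hV hl⟩

end General

section Main
variable {X Y Z 𝔹 𝔹' : Scheme.{u}} {i : Z ⟶ X} {j : Z ⟶ Y} [IsClosedImmersion i]
  (hcov : ∀ y : Y, ∃ k : GoodPair i j, y ∈ k.V) (π : P i j ⟶ 𝔹) (u : 𝔹' ⟶ 𝔹)

/-- the cover of `P` by the charts of universally cartesian good pairs -/
noncomputable def coverU
    (hG : ∀ x : P i j, ∃ k : GoodPair i j, IsUCart (hsq hcov π) k ∧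
      x ∈ Set.range (ιP i j k).base) : (P i j).OpenCover :=
  Scheme.Cover.mkOfCovers {k : GoodPair i j // IsUCart (hsq hcov π) k}
    (fun k => (chart i j).obj k.1) (fun k => ιP i j k.1)
    (fun x => by
      obtain ⟨k, hk, w, hw⟩ := hG x
      exact ⟨⟨k, hk⟩, w, hw⟩)

variable (hG : ∀ x : P i j, ∃ k : GoodPair i j, IsUCart (hsq hcov π) k ∧
      x ∈ Set.range (ιP i j k).base)

noncomputable instance : Preorder (coverU hcov π hG).I₀ :=
  inferInstanceAs (Preorder {k : GoodPair i j // IsUCart (hsq hcov π) k})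

noncomputable instance : (coverU hcov π hG).LocallyDirected where
  trans {k k'} f := (chart i j).map (X := k.1) (Y := k'.1) (homOfLE (leOfHom f))
  trans_id k := (chart i j).map_id k.1
  trans_comp {k k' k''} f g :=
    (chart i j).map_comp (X := k.1) (Y := k'.1) (Z := k''.1) (homOfLE (leOfHom f))
      (homOfLE (leOfHom g))
  w {k k'} f := chart_map_ιP i j (k := k.1) (k' := k'.1) (homOfLE (leOfHom f))
  directed {k k'} x := by
    obtain ⟨l, f, f', w, hw⟩ := directedP i j k.1 k'.1 x
    exact ⟨⟨l, k.2.of_le (hsq hcov π) (leOfHom f)⟩, homOfLE (leOfHom f), homOfLE (leOfHom f'), w, hw⟩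
  property_trans {k k'} f :=
    isOpenImmersion_chart_map i j (k := k.1) (k' := k'.1) (homOfLE (leOfHom f))

include hG in
/-- **Base change of Ferrand pushouts** when the universally cartesian charts cover. -/
theorem isPushout_baseChange' :
    IsPushout ((Over.pullback u).map (Mi hcov π)).left ((Over.pullback u).map (Mj hcov π)).left
      ((Over.pullback u).map (Ma hcov π)).left ((Over.pullback u).map (Mb hcov π)).left := by
  have hw : ((Over.pullback u).map (Mi hcov π)).left ≫ ((Over.pullback u).map (Ma hcov π)).left =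
      ((Over.pullback u).map (Mj hcov π)).left ≫ ((Over.pullback u).map (Mb hcov π)).left := by
    rw [← Over.comp_left, ← Over.comp_left, ← Functor.map_comp, ← Functor.map_comp]
    congr 2
    ext
    exact w i j hcov
  let J := {k : GoodPair i j // IsUCart (hsq hcov π) k}
  let O : J → 𝔹.Opens := fun k => k.2.choose
  have hO : ∀ k : J, IsAffineOpen (O k) := fun k => k.2.choose_spec.choose
  have hU : ∀ k : J, k.1.U ≤ (a i j hcov ≫ π) ⁻¹ᵁ (O k) := fun k => k.2.choose_spec.choose_spec.choose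
  have hV : ∀ k : J, k.1.V ≤ (b i j hcov ≫ π) ⁻¹ᵁ (O k) :=
    fun k => k.2.choose_spec.choose_spec.choose_spec.choose
  have hH : ∀ k : J, IsUCartOver (hsq hcov π) k.1 (O k) (hU k) (hV k) :=
    fun k => k.2.choose_spec.choose_spec.choose_spec.choose_spec
  exact PushoutLocal.isPushout_of_local _ _ _ _ hw
    ((coverU hcov π hG).pullback₁ (pullback.fst π u))
    (fun (k : J) => pullback (sZ hcov π k.1 (O k) (hU k) (hV k)) (tO u (O k) (hO k)))
    (fun (k : J) => pullback (sX hcov π k.1 (O k) (hU k) (hV k)) (tO u (O k) (hO k)))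
    (fun (k : J) => pullback (sY hcov π k.1 (O k) (hU k) (hV k)) (tO u (O k) (hO k)))
    (fun (k : J) => pullback (gk hcov π k.1 (O k) (hU k) (hV k)) (tO u (O k) (hO k)))
    (fun (k : J) => ζ hcov π u k.1 (O k) (hO k) (hU k) (hV k))
    (fun (k : J) => ξ hcov π u k.1 (O k) (hO k) (hU k) (hV k))
    (fun (k : J) => η hcov π u k.1 (O k) (hO k) (hU k) (hV k))
    (fun (k : J) => ω hcov π u k.1 (O k) (hO k) (hU k) (hV k))
    (fun (k : J) => ((Over.pullback (tO u (O k) (hO k))).map (mi hcov π k.1 (O k) (hU k) (hV k))).left)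
    (fun (k : J) => ((Over.pullback (tO u (O k) (hO k))).map (mj hcov π k.1 (O k) (hU k) (hV k))).left)
    (fun (k : J) => ((Over.pullback (tO u (O k) (hO k))).map (ma hcov π k.1 (O k) (hU k) (hV k))).left)
    (fun (k : J) => ((Over.pullback (tO u (O k) (hO k))).map (mb hcov π k.1 (O k) (hU k) (hV k))).left)
    (fun (k : J) => hXpb hcov π u k.1 (O k) (hO k) (hU k) (hV k))
    (fun (k : J) => hYpb hcov π u k.1 (O k) (hO k) (hU k) (hV k))
    (fun (k : J) => hZpb hcov π u k.1 (O k) (hO k) (hU k) (hV k))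
    (fun (k : J) => hi₁ hcov π u k.1 (O k) (hO k) (hU k) (hV k))
    (fun (k : J) => hi₂ hcov π u k.1 (O k) (hO k) (hU k) (hV k))
    (fun (k : J) => (hWpb hcov π u k.1 (O k) (hO k) (hU k) (hV k)).isoPullback)
    (fun (k : J) => (hWpb hcov π u k.1 (O k) (hO k) (hU k) (hV k)).isoPullback_hom_fst)
    (fun (k : J) => hpo hcov π u k.1 (O k) (hO k) (hU k) (hV k)
      (fun U' => hH k _ _))

end Main

end Groth.Agent.Lib.Helper12.FerrandBC10
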