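import Mathlib
import Groth.Prelude.Def_W4c3jacimperfPinch
import Groth.Agent.Lib.Helper12.FerrandBC10
import Groth.Agent.Lib.Helper12.Ferrand10

/-!
# Pinching commutes with arbitrary base change (projective cokernel) (helper12)

* `app_injective_of_flat_surjective`: sections inject along a flat surjective morphism.
* `isUCartOver_std`: the standard good pairs `(V, t⁻¹U)` are universally cartesian if `ξ` is
  faithfully flat and the cokernel `Γ(Z_U)/Γ(T_U)` is projective over `Γ(Y, U)`.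
* `isUCartOver_off`: good pairs `(U', ∅)` away from `Z` are universally cartesian.
* `isPushout_baseChange_of_isPushout'`: base change of an arbitrary pushout when universally cartesian
  charts cover.
* `isPushout_baseChange_pinch`: the statement of the pinching row.
-/

set_option autoImplicit false
universe u
open CategoryTheory AlgebraicGeometry Opposite TopologicalSpace Limits

namespace Groth.Agent.Lib.Helper12.FerrandBC11
open SpecPushout Ferrand1 Ferrand Ferrand9 FerrandBC3 FerrandBC5 FerrandBC9 FerrandBC10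

theorem stalkMap_injective_of_flat {Z T : Scheme.{u}} (ξ : Z ⟶ T) [Flat ξ] (z : Z) :
    Function.Injective (ξ.stalkMap z).hom := by
  algebraize [(ξ.stalkMap z).hom]
  have : Module.FaithfullyFlat (T.presheaf.stalk (ξ.base z)) (Z.presheaf.stalk z) :=
    @Module.FaithfullyFlat.of_flat_of_isLocalHom _ _ _ _ _ _ _
      (Flat.stalkMap ξ z) (ξ.toLRSHom.prop z)
  exact ‹RingHom.FaithfullyFlat _›.injective

theorem app_injective_of_flat_surjective {Z T : Scheme.{u}} (ξ : Z ⟶ T) [Flat ξ] [Surjective ξ]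
    (V' : T.Opens) : Function.Injective (ξ.app V').hom := by
  rw [injective_iff_map_eq_zero]
  intro s hs
  refine TopCat.Presheaf.section_ext T.sheaf V' s 0 (fun y hy => ?_)
  obtain ⟨z, rfl⟩ := ξ.surjective y
  apply stalkMap_injective_of_flat ξ z
  change (ξ.stalkMap z) (T.presheaf.germ V' (ξ.base z) hy s) = (ξ.stalkMap z) (T.presheaf.germ V' (ξ.base z) hy 0)
  rw [Scheme.Hom.germ_stalkMap_apply, Scheme.Hom.germ_stalkMap_apply]
  change Z.presheaf.germ _ z hy ((ξ.app V').hom s) = Z.presheaf.germ _ z hy ((ξ.app V').hom 0)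
  rw [hs, map_zero (ξ.app V').hom]

theorem appLE_injective_of_flat_surjective {Z T : Scheme.{u}} (ξ : Z ⟶ T) [Flat ξ] [Surjective ξ]
    (V' : T.Opens) (W : Z.Opens) (hW : W = ξ ⁻¹ᵁ V') :
    Function.Injective (ξ.appLE V' W hW.le).hom := by
  subst hW
  rw [← Scheme.Hom.app_eq_appLE]
  exact app_injective_of_flat_surjective ξ V'

variable {X Y T Z : Scheme.{u}} {f : X ⟶ Y} {t : T ⟶ Y} {ξ : Z ⟶ T} {ι : Z ⟶ X}

theorem coker_transport (U : Y.Opens) (W : Z.Opens) (hW : W = (ξ ≫ t) ⁻¹ᵁ U)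
    (hle : W ≤ ξ ⁻¹ᵁ (t ⁻¹ᵁ U))
    (hv : @Pinch.CokerProjective Γ(Y, U) Γ(Z, (ξ ≫ t) ⁻¹ᵁ U) Γ(T, t ⁻¹ᵁ U) _ _ _
      ((ξ ≫ t).app U).hom.toAlgebra (ξ.app (t ⁻¹ᵁ U)).hom) :
    @Pinch.CokerProjective Γ(Y, U) Γ(Z, W) Γ(T, t ⁻¹ᵁ U) _ _ _
      (((ξ.appLE (t ⁻¹ᵁ U) W hle).hom.comp (t.appLE U (t ⁻¹ᵁ U) le_rfl).hom).toAlgebra)
      (ξ.appLE (t ⁻¹ᵁ U) W hle).hom := by
  subst hW
  have e1 : ((ξ.appLE (t ⁻¹ᵁ U) ((ξ ≫ t) ⁻¹ᵁ U) hle).hom.comp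
      (t.appLE U (t ⁻¹ᵁ U) le_rfl).hom) = ((ξ ≫ t).app U).hom := by
    rw [← CommRingCat.hom_comp, Scheme.Hom.appLE_comp_appLE, ← Scheme.Hom.app_eq_appLE]
  have e2 : (ξ.appLE (t ⁻¹ᵁ U) ((ξ ≫ t) ⁻¹ᵁ U) hle).hom = (ξ.app (t ⁻¹ᵁ U)).hom := by
    rw [Scheme.Hom.app_eq_appLE]
    rfl
  rw [e1, e2]
  exact hv

variable [IsClosedImmersion ι] (hsq : ι ≫ f = ξ ≫ t)

/-- the standard good pairs of the pinching rows are universally cartesian when `ξ` is faithfully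
flat and the cokernel of `O_T → ξ_* O_Z` is projective over the base -/
theorem isUCartOver_std [Flat ξ] [Surjective ξ] (U : Y.Opens) (V : X.Opens)
    (hV : IsAffineOpen V) (hVU : V ≤ f ⁻¹ᵁ U) (h : ι ⁻¹ᵁ V = ξ ⁻¹ᵁ (t ⁻¹ᵁ U))
    (hTU : IsAffineOpen (t ⁻¹ᵁ U))
    (hv : @Pinch.CokerProjective Γ(Y, U) Γ(Z, (ξ ≫ t) ⁻¹ᵁ U) Γ(T, t ⁻¹ᵁ U) _ _ _
      ((ξ ≫ t).app U).hom.toAlgebra (ξ.app (t ⁻¹ᵁ U)).hom) :
    IsUCartOver hsq (⟨V, t ⁻¹ᵁ U, hV, hTU, h⟩ : GoodPair ι ξ) U hVU le_rfl := by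
  intro R₀ _ φ
  set k₀ : GoodPair ι ξ := ⟨V, t ⁻¹ᵁ U, hV, hTU, h⟩ with hk₀
  have hv' := coker_transport (ξ := ξ) (t := t) U k₀.W h k₀.W_le hv
  have hq : Function.Injective k₀.q := appLE_injective_of_flat_surjective ξ (t ⁻¹ᵁ U) k₀.W h
  let γ₀ := γ hsq k₀ U hVU le_rfl
  let D := FibreSq.ofPr k₀.p k₀.q k₀.p_surjective
  let _ : Algebra Γ(Y, U) k₀.R := γ₀.toAlgebra
  let _ : Algebra Γ(Y, U) Γ(T, t ⁻¹ᵁ U) := (D.ι₁.comp γ₀).toAlgebra
  let _ : Algebra Γ(Y, U) Γ(X, V) := (D.ι₂.comp γ₀).toAlgebra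
  let _ : Algebra Γ(Y, U) Γ(Z, k₀.W) := (D.q.comp (D.ι₁.comp γ₀)).toAlgebra
  have hrange : LinearMap.range (D.toFibreData γ₀).q.toLinearMap =
      Submodule.span Γ(Y, U) (Set.range k₀.q) := by
    rw [← Submodule.span_eq (LinearMap.range (D.toFibreData γ₀).q.toLinearMap), LinearMap.coe_range]
    rfl
  have hproj : Module.Projective Γ(Y, U)
      (Γ(Z, k₀.W) ⧸ LinearMap.range (D.toFibreData γ₀).q.toLinearMap) := by
    rw [hrange]
    exact hv'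
  exact FibreData.isCartForHom_of_projective_coker (D.toFibreData γ₀) hq φ

/-- good pairs away from `Z` are universally cartesian -/
theorem isUCartOver_off (O : Y.Opens) (U' : X.Opens) (hU' : IsAffineOpen U')
    (hU'O : U' ≤ f ⁻¹ᵁ O) (h : ι ⁻¹ᵁ U' = ξ ⁻¹ᵁ ⊥) :
    IsUCartOver hsq (⟨U', ⊥, hU', isAffineOpen_bot T, h⟩ : GoodPair ι ξ) O hU'O bot_le := by
  intro R₀ _ φ
  refine FibreSq.isCartForHom_of_flat_corner _ _ ?_ φ
  have hbot : ι ⁻¹ᵁ U' = ⊥ := h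
  have hss : Subsingleton Γ(Z, ι ⁻¹ᵁ U') := by
    rw [hbot]; infer_instance
  let g := (FibreSq.ofPr (GoodPair.p (⟨U', ⊥, hU', isAffineOpen_bot T, h⟩ : GoodPair ι ξ))
    (GoodPair.q ⟨U', ⊥, hU', isAffineOpen_bot T, h⟩)
    (GoodPair.p_surjective ⟨U', ⊥, hU', isAffineOpen_bot T, h⟩)).q.comp
    ((FibreSq.ofPr (GoodPair.p (⟨U', ⊥, hU', isAffineOpen_bot T, h⟩ : GoodPair ι ξ))
    (GoodPair.q ⟨U', ⊥, hU', isAffineOpen_bot T, h⟩)
    (GoodPair.p_surjective ⟨U', ⊥, hU', isAffineOpen_bot T, h⟩)).ι₁.comp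
      (γ hsq (⟨U', ⊥, hU', isAffineOpen_bot T, h⟩ : GoodPair ι ξ) O hU'O bot_le))
  change g.Flat
  let _ : Algebra Γ(Y, O) Γ(Z, ι ⁻¹ᵁ U') := g.toAlgebra
  have : Module.Free Γ(Y, O) Γ(Z, ι ⁻¹ᵁ U') := Module.Free.of_subsingleton _ _
  change Module.Flat Γ(Y, O) Γ(Z, ι ⁻¹ᵁ U')
  infer_instance

omit [IsClosedImmersion ι] in
theorem preimage_eq_of_hstd (U : Y.Opens) (V : X.Opens) (hsq : ι ≫ f = ξ ≫ t) (hVU : V ≤ f ⁻¹ᵁ U)
    (hZ : ∀ z : Z, (ξ ≫ t).base z ∈ U → ι.base z ∈ V) : ι ⁻¹ᵁ V = ξ ⁻¹ᵁ (t ⁻¹ᵁ U) := by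
  ext z
  constructor
  · intro hz
    have h1 : f.base (ι.base z) ∈ U := hVU hz
    have h2 : (ι ≫ f).base z ∈ U := by simpa using h1
    rw [hsq] at h2
    simpa using h2
  · intro hz
    have h2 : (ξ ≫ t).base z ∈ U := by simpa using hz
    exact hZ z h2

theorem IsUCartOver.congr {X Y Z S : Scheme.{u}} {i : Z ⟶ X} {j : Z ⟶ Y} [IsClosedImmersion i]
    {f f' : X ⟶ S} {t t' : Y ⟶ S} (hf : f = f') (ht : t = t') (hsq : i ≫ f = j ≫ t)
    (hsq' : i ≫ f' = j ≫ t') (k : GoodPair i j) (O : S.Opens) (hU : k.U ≤ f ⁻¹ᵁ O)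
    (hV : k.V ≤ t ⁻¹ᵁ O) (h : IsUCartOver hsq k O hU hV) :
    IsUCartOver hsq' k O (hf ▸ hU) (ht ▸ hV) := by
  subst hf ht
  exact h

section Cover
variable [IsAffineHom t] [Flat ξ] [Surjective ξ]
  (hstd : ∀ y : Y, ∃ U : Y.Opens, IsAffineOpen U ∧ y ∈ U ∧ ∃ V : X.Opens, IsAffineOpen V ∧
      V ≤ f ⁻¹ᵁ U ∧ ∀ z : Z, (ξ ≫ t).base z ∈ U → ι.base z ∈ V)
  (hv : ∀ U : Y.affineOpens, @Pinch.CokerProjective Γ(Y, U) Γ(Z, (ξ ≫ t) ⁻¹ᵁ U) Γ(T, t ⁻¹ᵁ U) _ _ _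
      ((ξ ≫ t).app U).hom.toAlgebra (ξ.app (t ⁻¹ᵁ U)).hom)
  (hcov : ∀ y : T, ∃ k : GoodPair ι ξ, y ∈ k.V) (π : P ι ξ ⟶ Y)
  (ha : a ι ξ hcov ≫ π = f) (hb : b ι ξ hcov ≫ π = t)

include hsq hstd hv ha hb in
theorem exists_isUCart (x : P ι ξ) : ∃ k : GoodPair ι ξ, IsUCart (FerrandBC5.hsq hcov π) k ∧
    x ∈ Set.range (ιP ι ξ k).base := by
  have key : ∀ y' : T, ∃ k : GoodPair ι ξ, IsUCart (FerrandBC5.hsq hcov π) k ∧
      (b ι ξ hcov).base y' ∈ Set.range (ιP ι ξ k).base := by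
    intro y'
    obtain ⟨U, hU, hyU, V, hV, hVU, hZ⟩ := hstd (t.base y')
    have h := preimage_eq_of_hstd U V hsq hVU hZ
    have hTU : IsAffineOpen (t ⁻¹ᵁ U) := hU.preimage t
    refine ⟨⟨V, t ⁻¹ᵁ U, hV, hTU, h⟩, ⟨U, hU, ?_, ?_, ?_⟩, ?_⟩
    · rw [ha]; exact hVU
    · rw [hb]
    · exact IsUCartOver.congr ha.symm hb.symm hsq (FerrandBC5.hsq hcov π) _ U hVU le_rfl
        (isUCartOver_std hsq U V hV hVU h hTU (hv ⟨U, hU⟩))
    · have h1 : y' ∈ b ι ξ hcov ⁻¹ᵁ (ιP ι ξ ⟨V, t ⁻¹ᵁ U, hV, hTU, h⟩).opensRange := by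
        rw [b_preimage]; exact hyU
      exact h1
  rcases Ferrand.joint_surjective ι ξ hcov x with ⟨x₀, rfl⟩ | ⟨y', rfl⟩
  · by_cases hx₀ : x₀ ∈ Set.range ι.base
    · obtain ⟨z, rfl⟩ := hx₀
      have e : (a ι ξ hcov).base (ι.base z) = (b ι ξ hcov).base (ξ.base z) := by
        rw [← Scheme.Hom.comp_apply, ← Scheme.Hom.comp_apply, Ferrand.w]
      rw [e]
      exact key _
    · obtain ⟨O, hO, hxO, -⟩ := exists_isAffineOpen_mem_and_subset (X := Y)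
        (x := f.base x₀) (U := ⊤) trivial
      have hcl : IsClosed (Set.range ι.base) := ι.isClosedEmbedding.isClosed_range
      let Ω : X.Opens := ⟨(Set.range ι.base)ᶜ, hcl.isOpen_compl⟩ ⊓ f ⁻¹ᵁ O
      obtain ⟨U', hU', hxU', hU'Ω⟩ := exists_isAffineOpen_mem_and_subset (X := X)
        (x := x₀) (U := Ω) ⟨hx₀, hxO⟩
      have h : ι ⁻¹ᵁ U' = ξ ⁻¹ᵁ ⊥ := by
        ext z
        constructor
        · intro hz
          exact absurd ⟨z, rfl⟩ (hU'Ω hz).1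
        · intro hz
          exact absurd hz (by simp)
      have hU'O : U' ≤ f ⁻¹ᵁ O := fun x hx => (hU'Ω hx).2
      refine ⟨⟨U', ⊥, hU', isAffineOpen_bot T, h⟩, ⟨O, hO, ?_, bot_le, ?_⟩, ?_⟩
      · rw [ha]; exact hU'O
      · exact IsUCartOver.congr ha.symm hb.symm hsq (FerrandBC5.hsq hcov π) _ O hU'O bot_le
          (isUCartOver_off hsq O U' hU' hU'O h)
      · have h1 : x₀ ∈ a ι ξ hcov ⁻¹ᵁ (ιP ι ξ ⟨U', ⊥, hU', isAffineOpen_bot T, h⟩).opensRange := by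
          rw [a_preimage]; exact hxU'
        exact h1
  · exact key y'

end Cover

section Transport
variable {X Y Z 𝔹 𝔹' : Scheme.{u}} (i : Z ⟶ X) (j : Z ⟶ Y) [IsClosedImmersion i]

/-- the glued pushout with free names for the structure maps -/
theorem isPushout_glued' (hcov : ∀ y : Y, ∃ k : GoodPair i j, y ∈ k.V) (π : P i j ⟶ 𝔹)
    (u : 𝔹' ⟶ 𝔹) (fX : X ⟶ 𝔹) (fY : Y ⟶ 𝔹) (fZ : Z ⟶ 𝔹)
    (hX : a i j hcov ≫ π = fX) (hY : b i j hcov ≫ π = fY) (hZ : i ≫ fX = fZ) (hZ' : j ≫ fY = fZ)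
    (hG : ∀ x : P i j, ∃ k : GoodPair i j, IsUCart (FerrandBC5.hsq hcov π) k ∧
      x ∈ Set.range (ιP i j k).base) :
    IsPushout ((Over.pullback u).map (Over.homMk i hZ : Over.mk fZ ⟶ Over.mk fX)).left
      ((Over.pullback u).map (Over.homMk j hZ' : Over.mk fZ ⟶ Over.mk fY)).left
      ((Over.pullback u).map (Over.homMk (a i j hcov) hX : Over.mk fX ⟶ Over.mk π)).left
      ((Over.pullback u).map (Over.homMk (b i j hcov) hY : Over.mk fY ⟶ Over.mk π)).left := by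
  subst hX hY hZ
  exact isPushout_baseChange' hcov π u hG

/-- **base change of an arbitrary pushout along a closed immersion**, universally cartesian charts -/
theorem isPushout_baseChange_of_isPushout'
    (hcov : ∀ y : Y, ∃ (U : X.Opens) (V : Y.Opens), IsAffineOpen U ∧ IsAffineOpen V ∧ y ∈ V ∧
      i ⁻¹ᵁ U = j ⁻¹ᵁ V)
    {P' : Scheme.{u}} (a' : X ⟶ P') (b' : Y ⟶ P') (hP : IsPushout i j a' b') (π' : P' ⟶ 𝔹)
    (u : 𝔹' ⟶ 𝔹) (fX : X ⟶ 𝔹) (fY : Y ⟶ 𝔹) (fZ : Z ⟶ 𝔹)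
    (hX : a' ≫ π' = fX) (hY : b' ≫ π' = fY) (hZ : i ≫ fX = fZ) (hZ' : j ≫ fY = fZ)
    (hG : ∀ (hcov' : ∀ y : Y, ∃ k : GoodPair i j, y ∈ k.V) (π : P i j ⟶ 𝔹)
      (_ : a i j hcov' ≫ π = fX) (_ : b i j hcov' ≫ π = fY) (x : P i j),
      ∃ k : GoodPair i j, IsUCart (FerrandBC5.hsq hcov' π) k ∧ x ∈ Set.range (ιP i j k).base) :
    IsPushout ((Over.pullback u).map (Over.homMk i hZ : Over.mk fZ ⟶ Over.mk fX)).left
      ((Over.pullback u).map (Over.homMk j hZ' : Over.mk fZ ⟶ Over.mk fY)).left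
      ((Over.pullback u).map (Over.homMk a' hX : Over.mk fX ⟶ Over.mk π')).left
      ((Over.pullback u).map (Over.homMk b' hY : Over.mk fY ⟶ Over.mk π')).left := by
  have hcov' : ∀ y : Y, ∃ k : GoodPair i j, y ∈ k.V := by
    intro y
    obtain ⟨U, V, hU, hV, hy, h⟩ := hcov y
    exact ⟨⟨U, V, hU, hV, h⟩, hy⟩
  have h1 := Ferrand.isPushout i j hcov'
  have ea : Ferrand.a i j hcov' ≫ (h1.isoIsPushout _ _ hP).hom = a' := h1.inl_isoIsPushout_hom _ _ hP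
  have eb : Ferrand.b i j hcov' ≫ (h1.isoIsPushout _ _ hP).hom = b' := h1.inr_isoIsPushout_hom _ _ hP
  have hX₀ : a i j hcov' ≫ (h1.isoIsPushout _ _ hP).hom ≫ π' = fX := by
    rw [← Category.assoc, ea, hX]
  have hY₀ : b i j hcov' ≫ (h1.isoIsPushout _ _ hP).hom ≫ π' = fY := by
    rw [← Category.assoc, eb, hY]
  have key := isPushout_glued' i j hcov' ((h1.isoIsPushout _ _ hP).hom ≫ π') u fX fY fZ hX₀ hY₀
    hZ hZ' (hG hcov' _ hX₀ hY₀)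
  let E : Over.mk ((h1.isoIsPushout _ _ hP).hom ≫ π') ≅ Over.mk π' :=
    Over.isoMk (h1.isoIsPushout _ _ hP) rfl
  refine key.of_iso (Iso.refl _) (Iso.refl _) (Iso.refl _)
    ((Over.forget _).mapIso ((Over.pullback u).mapIso E)) ?_ ?_ ?_ ?_
  · simp
  · simp
  · rw [Iso.refl_hom, Category.id_comp]
    change ((Over.pullback u).map _).left ≫ ((Over.pullback u).map E.hom).left = _
    rw [← Over.comp_left, ← Functor.map_comp]
    congr 2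
    ext
    exact ea
  · rw [Iso.refl_hom, Category.id_comp]
    change ((Over.pullback u).map _).left ≫ ((Over.pullback u).map E.hom).left = _
    rw [← Over.comp_left, ← Functor.map_comp]
    congr 2
    ext
    exact eb

end Transport

/-- **Pinching commutes with arbitrary base change** when `ξ` is faithfully flat and the cokernel of
`O_T → ξ_* O_Z` is projective over the base. -/
theorem isPushout_baseChange_pinch [IsAffineHom t] [Flat ξ] [Surjective ξ]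
    (hstd : ∀ y : Y, ∃ U : Y.Opens, IsAffineOpen U ∧ y ∈ U ∧ ∃ V : X.Opens, IsAffineOpen V ∧
      V ≤ f ⁻¹ᵁ U ∧ ∀ z : Z, (ξ ≫ t).base z ∈ U → ι.base z ∈ V)
    (hv : ∀ U : Y.affineOpens, @Pinch.CokerProjective Γ(Y, U) Γ(Z, (ξ ≫ t) ⁻¹ᵁ U) Γ(T, t ⁻¹ᵁ U) _ _ _
      ((ξ ≫ t).app U).hom.toAlgebra (ξ.app (t ⁻¹ᵁ U)).hom)
    {P : Scheme.{u}} (a : X ⟶ P) (b : T ⟶ P) (hP : IsPushout ι ξ a b)
    (p : P ⟶ Y) (hap : a ≫ p = f) (hbp : b ≫ p = t) {Y' : Scheme.{u}} (g : Y' ⟶ Y) :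
    IsPushout ((Over.pullback g).map (Over.homMk ι hsq : Over.mk (ξ ≫ t) ⟶ Over.mk f)).left
      ((Over.pullback g).map (Over.homMk ξ rfl : Over.mk (ξ ≫ t) ⟶ Over.mk t)).left
      ((Over.pullback g).map (Over.homMk a hap : Over.mk f ⟶ Over.mk p)).left
      ((Over.pullback g).map (Over.homMk b hbp : Over.mk t ⟶ Over.mk p)).left :=
  isPushout_baseChange_of_isPushout' ι ξ (Ferrand10.hcov_of_hstd f t ξ ι hsq hstd) a b hP p g f t
    (ξ ≫ t) hap hbp hsq rfl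
    (fun hcov' π ha hb x => exists_isUCart hsq hstd hv hcov' π ha hb x)

end Groth.Agent.Lib.Helper12.FerrandBC11
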