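import Mathlib
import Groth.Agent.Lib.Helper12.FerrandBC5

/-!
# Base change of Ferrand pushouts: flat base change and flat corner (helper12)
-/

set_option autoImplicit false
universe u
open CategoryTheory AlgebraicGeometry Opposite TopologicalSpace PrimeSpectrum Limits

namespace Groth.Agent.Lib.Helper12.FerrandBC5
open SpecPushout Ferrand1 Ferrand Ferrand9 FerrandBC3

variable {X Y Z 𝔹 𝔹' : Scheme.{u}} {i : Z ⟶ X} {j : Z ⟶ Y} [IsClosedImmersion i]
  (hcov : ∀ y : Y, ∃ k : GoodPair i j, y ∈ k.V) (π : P i j ⟶ 𝔹) (u : 𝔹' ⟶ 𝔹)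

set_option backward.isDefEq.respectTransparency.types false in
/-- flat base change of the glued pushout -/
theorem isPushout_baseChange_of_flat [Flat u] :
    IsPushout ((Over.pullback u).map (Mi hcov π)).left ((Over.pullback u).map (Mj hcov π)).left
      ((Over.pullback u).map (Ma hcov π)).left ((Over.pullback u).map (Mb hcov π)).left := by
  refine isPushout_baseChange hcov π u (fun k O hO hU hV U' => ?_)
  refine FibreSq.isCartForHom_of_flat _ _ _ ?_
  have h0 : Flat (pullback.snd u hO.fromSpec) := inferInstance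
  have h1 : Flat (U'.2.fromSpec ≫ pullback.snd u hO.fromSpec) := inferInstance
  rw [← Spec.map_preimage (U'.2.fromSpec ≫ pullback.snd u hO.fromSpec)] at h1
  exact (HasRingHomProperty.Spec_iff (P := @Flat)).mp h1

/-- arbitrary base change of the glued pushout when `Z` is flat over the base -/
theorem isPushout_baseChange_of_flat_corner [Flat (i ≫ a i j hcov ≫ π)] :
    IsPushout ((Over.pullback u).map (Mi hcov π)).left ((Over.pullback u).map (Mj hcov π)).left
      ((Over.pullback u).map (Ma hcov π)).left ((Over.pullback u).map (Mb hcov π)).left := by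
  refine isPushout_baseChange hcov π u (fun k O hO hU hV U' => ?_)
  refine FibreSq.isCartForHom_of_flat_corner _ _ ?_ _
  have h2 : (b i j hcov ≫ π).appLE O k.V hV ≫ j.appLE k.V k.W k.W_le =
      (j ≫ b i j hcov ≫ π).appLE O k.W _ := Scheme.Hom.appLE_comp_appLE ..
  have h3 := appLE_congr_hom (i ≫ a i j hcov ≫ π) (j ≫ b i j hcov ≫ π) (hsq hcov π) O k.W
    (le_rfl.trans ((Opens.map i.base).map (homOfLE hU)).le)
    (k.W_le.trans ((Opens.map j.base).map (homOfLE hV)).le)
  have h4 : (k.q.comp ((φ₁ k.p k.q).comp (γ (hsq hcov π) k O hU hV))) =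
      ((i ≫ a i j hcov ≫ π).appLE O k.W
        (le_rfl.trans ((Opens.map i.base).map (homOfLE hU)).le)).hom := by
    rw [h3, ← h2]
    rfl
  change (k.q.comp ((φ₁ k.p k.q).comp (γ (hsq hcov π) k O hU hV))).Flat
  rw [h4]
  exact Flat.flat_appLE (i ≫ a i j hcov ≫ π) hO k.hW _

end Groth.Agent.Lib.Helper12.FerrandBC5
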