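import Mathlib
import Groth.Agent.Lib.Helper12.FerrandBC6

/-!
# Base change of arbitrary pushouts along a closed immersion (helper12)

`isPushout_baseChange_of_isPushout`: for ANY pushout `P'` of a closed immersion `i : Z ⟶ X` along
`j : Z ⟶ Y` (given good affine pairs), viewed over a base `𝔹` via `π' : P' ⟶ 𝔹`, the base change
along `u : 𝔹' ⟶ 𝔹` is again a pushout of schemes if `u` is flat or if `Z` is flat over `𝔹`.
-/

set_option autoImplicit false
universe u
open CategoryTheory AlgebraicGeometry Opposite TopologicalSpace PrimeSpectrum Limits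

namespace Groth.Agent.Lib.Helper12.FerrandBC7
open Ferrand FerrandBC5

variable {X Y Z 𝔹 𝔹' : Scheme.{u}} (i : Z ⟶ X) (j : Z ⟶ Y) [IsClosedImmersion i]

/-- the glued pushout with free names for the structure maps -/
theorem isPushout_glued (hcov : ∀ y : Y, ∃ k : GoodPair i j, y ∈ k.V) (π : P i j ⟶ 𝔹)
    (u : 𝔹' ⟶ 𝔹) (fX : X ⟶ 𝔹) (fY : Y ⟶ 𝔹) (fZ : Z ⟶ 𝔹)
    (hX : a i j hcov ≫ π = fX) (hY : b i j hcov ≫ π = fY) (hZ : i ≫ fX = fZ) (hZ' : j ≫ fY = fZ)
    (hyp : Flat u ∨ Flat fZ) :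
    IsPushout ((Over.pullback u).map (Over.homMk i hZ : Over.mk fZ ⟶ Over.mk fX)).left
      ((Over.pullback u).map (Over.homMk j hZ' : Over.mk fZ ⟶ Over.mk fY)).left
      ((Over.pullback u).map (Over.homMk (a i j hcov) hX : Over.mk fX ⟶ Over.mk π)).left
      ((Over.pullback u).map (Over.homMk (b i j hcov) hY : Over.mk fY ⟶ Over.mk π)).left := by
  subst hX hY hZ
  rcases hyp with h | h
  · exact isPushout_baseChange_of_flat hcov π u
  · exact isPushout_baseChange_of_flat_corner hcov π u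

/-- **base change of an arbitrary pushout along a closed immersion** -/
theorem isPushout_baseChange_of_isPushout
    (hcov : ∀ y : Y, ∃ (U : X.Opens) (V : Y.Opens), IsAffineOpen U ∧ IsAffineOpen V ∧ y ∈ V ∧
      i ⁻¹ᵁ U = j ⁻¹ᵁ V)
    {P' : Scheme.{u}} (a' : X ⟶ P') (b' : Y ⟶ P') (hP : IsPushout i j a' b') (π' : P' ⟶ 𝔹)
    (u : 𝔹' ⟶ 𝔹) (fX : X ⟶ 𝔹) (fY : Y ⟶ 𝔹) (fZ : Z ⟶ 𝔹)
    (hX : a' ≫ π' = fX) (hY : b' ≫ π' = fY) (hZ : i ≫ fX = fZ) (hZ' : j ≫ fY = fZ)
    (hyp : Flat u ∨ Flat fZ) :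
    IsPushout ((Over.pullback u).map (Over.homMk i hZ : Over.mk fZ ⟶ Over.mk fX)).left
      ((Over.pullback u).map (Over.homMk j hZ' : Over.mk fZ ⟶ Over.mk fY)).left
      ((Over.pullback u).map (Over.homMk a' hX : Over.mk fX ⟶ Over.mk π')).left
      ((Over.pullback u).map (Over.homMk b' hY : Over.mk fY ⟶ Over.mk π')).left := by
  have hcov' : ∀ y : Y, ∃ k : GoodPair i j, y ∈ k.V := by
    intro y
    obtain ⟨U, V, hU, hV, hy, h⟩ := hcov y
    exact ⟨⟨U, V, hU, hV, h⟩, hy⟩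
  have h1 := Ferrand.isPushout i j hcov'
  have ea : Ferrand.a i j hcov' ≫ (h1.isoIsPushout _ _ hP).hom = a' := h1.inl_isoIsPushout_hom _ _ hP
  have eb : Ferrand.b i j hcov' ≫ (h1.isoIsPushout _ _ hP).hom = b' := h1.inr_isoIsPushout_hom _ _ hP
  have hX₀ : a i j hcov' ≫ (h1.isoIsPushout _ _ hP).hom ≫ π' = fX := by
    rw [← Category.assoc, ea, hX]
  have hY₀ : b i j hcov' ≫ (h1.isoIsPushout _ _ hP).hom ≫ π' = fY := by
    rw [← Category.assoc, eb, hY]
  have key := isPushout_glued i j hcov' ((h1.isoIsPushout _ _ hP).hom ≫ π') u fX fY fZ hX₀ hY₀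
    hZ hZ' hyp
  let E : Over.mk ((h1.isoIsPushout _ _ hP).hom ≫ π') ≅ Over.mk π' :=
    Over.isoMk (h1.isoIsPushout _ _ hP) rfl
  refine key.of_iso (Iso.refl _) (Iso.refl _) (Iso.refl _)
    ((Over.forget _).mapIso ((Over.pullback u).mapIso E)) ?_ ?_ ?_ ?_
  · simp
  · simp
  · rw [Iso.refl_hom, Category.id_comp]
    change ((Over.pullback u).map _).left ≫ ((Over.pullback u).map E.hom).left = _
    rw [← Over.comp_left, ← Functor.map_comp]
    congr 2
    ext
    exact ea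
  · rw [Iso.refl_hom, Category.id_comp]
    change ((Over.pullback u).map _).left ≫ ((Over.pullback u).map E.hom).left = _
    rw [← Over.comp_left, ← Functor.map_comp]
    congr 2
    ext
    exact eb

/-- `pullback.map` along identities is the `Over.pullback` functor -/
theorem map_eq_over_pullback_map {A B S S' : Scheme.{u}} (fA : A ⟶ S) (fB : B ⟶ S) (g : S' ⟶ S)
    (m : A ⟶ B) (hm : m ≫ fB = fA) (h1 : fA ≫ 𝟙 S = m ≫ fB) (h2 : g ≫ 𝟙 S = 𝟙 S' ≫ g) :
    pullback.map fA g fB g m (𝟙 S') (𝟙 S) h1 h2 =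
      ((Over.pullback g).map (Over.homMk m hm : Over.mk fA ⟶ Over.mk fB)).left := by
  apply pullback.hom_ext
  · simp only [Over.pullback_map_left, Over.homMk_left, Over.mk_hom]
    rw [pullback.lift_fst, pullback.lift_fst]
  · simp only [Over.pullback_map_left, Over.homMk_left, Over.mk_hom]
    rw [pullback.lift_snd, pullback.lift_snd, Category.comp_id]

end Groth.Agent.Lib.Helper12.FerrandBC7
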