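import Mathlib
import Groth.Agent.Lib.Helper12.FerrandBC7

/-!
# Base change of pushouts, abstract pullback form (helper12)

Transport of a pushout square of `Over.pullback`-pullbacks to arbitrary chosen pullbacks.
-/

set_option autoImplicit false
universe u
open CategoryTheory AlgebraicGeometry Limits

namespace Groth.Agent.Lib.Helper12.FerrandBC8

/-- transport a base-changed pushout square (in `Over.pullback` form) to arbitrary pullbacks -/
theorem isPushout_of_abstract {S T : Scheme.{u}} (g : T ⟶ S) {Z X Y P : Scheme.{u}}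
    (i : Z ⟶ X) (j : Z ⟶ Y) (a : X ⟶ P) (b : Y ⟶ P) (π : P ⟶ S)
    (fX : X ⟶ S) (fY : Y ⟶ S) (fZ : Z ⟶ S)
    (hX : a ≫ π = fX) (hY : b ≫ π = fY) (hZ : i ≫ fX = fZ) (hZ' : j ≫ fY = fZ)
    (key : IsPushout ((Over.pullback g).map (Over.homMk i hZ : Over.mk fZ ⟶ Over.mk fX)).left
      ((Over.pullback g).map (Over.homMk j hZ' : Over.mk fZ ⟶ Over.mk fY)).left
      ((Over.pullback g).map (Over.homMk a hX : Over.mk fX ⟶ Over.mk π)).left
      ((Over.pullback g).map (Over.homMk b hY : Over.mk fY ⟶ Over.mk π)).left)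
    {ZT XT YT PT : Scheme.{u}}
    (pZ : ZT ⟶ Z) (sZ : ZT ⟶ T) (hZT : IsPullback pZ sZ fZ g)
    (pX : XT ⟶ X) (sX : XT ⟶ T) (hXT : IsPullback pX sX fX g)
    (pY : YT ⟶ Y) (sY : YT ⟶ T) (hYT : IsPullback pY sY fY g)
    (pP : PT ⟶ P) (sP : PT ⟶ T) (hPT : IsPullback pP sP π g)
    (iT : ZT ⟶ XT) (jT : ZT ⟶ YT) (aT : XT ⟶ PT) (bT : YT ⟶ PT)
    (hi₁ : iT ≫ pX = pZ ≫ i) (hi₂ : iT ≫ sX = sZ)
    (hj₁ : jT ≫ pY = pZ ≫ j) (hj₂ : jT ≫ sY = sZ)
    (ha₁ : aT ≫ pP = pX ≫ a) (ha₂ : aT ≫ sP = sX)
    (hb₁ : bT ≫ pP = pY ≫ b) (hb₂ : bT ≫ sP = sY) :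
    IsPushout iT jT aT bT := by
  refine key.of_iso hZT.isoPullback.symm hXT.isoPullback.symm hYT.isoPullback.symm
    hPT.isoPullback.symm ?_ ?_ ?_ ?_
  · rw [Iso.symm_hom, Iso.symm_hom, Iso.comp_inv_eq, Category.assoc, Iso.eq_inv_comp]
    apply pullback.hom_ext
    · simp only [Over.pullback_obj_left, Over.mk_left, Over.mk_hom, Over.pullback_map_left,
        Over.homMk_left, Category.assoc, pullback.lift_fst, IsPullback.isoPullback_hom_fst_assoc,
        IsPullback.isoPullback_hom_fst, hi₁]
    · simp only [Over.pullback_obj_left, Over.mk_left, Over.mk_hom, Over.pullback_map_left,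
        Over.homMk_left, Category.assoc, pullback.lift_snd, IsPullback.isoPullback_hom_snd,
        hi₂]
  · rw [Iso.symm_hom, Iso.symm_hom, Iso.comp_inv_eq, Category.assoc, Iso.eq_inv_comp]
    apply pullback.hom_ext
    · simp only [Over.pullback_obj_left, Over.mk_left, Over.mk_hom, Over.pullback_map_left,
        Over.homMk_left, Category.assoc, pullback.lift_fst, IsPullback.isoPullback_hom_fst_assoc,
        IsPullback.isoPullback_hom_fst, hj₁]
    · simp only [Over.pullback_obj_left, Over.mk_left, Over.mk_hom, Over.pullback_map_left,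
        Over.homMk_left, Category.assoc, pullback.lift_snd, IsPullback.isoPullback_hom_snd,
        hj₂]
  · rw [Iso.symm_hom, Iso.symm_hom, Iso.comp_inv_eq, Category.assoc, Iso.eq_inv_comp]
    apply pullback.hom_ext
    · simp only [Over.pullback_obj_left, Over.mk_left, Over.mk_hom, Over.pullback_map_left,
        Over.homMk_left, Category.assoc, pullback.lift_fst, IsPullback.isoPullback_hom_fst_assoc,
        IsPullback.isoPullback_hom_fst, ha₁]
    · simp only [Over.pullback_obj_left, Over.mk_left, Over.mk_hom, Over.pullback_map_left,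
        Over.homMk_left, Category.assoc, pullback.lift_snd, IsPullback.isoPullback_hom_snd,
        ha₂]
  · rw [Iso.symm_hom, Iso.symm_hom, Iso.comp_inv_eq, Category.assoc, Iso.eq_inv_comp]
    apply pullback.hom_ext
    · simp only [Over.pullback_obj_left, Over.mk_left, Over.mk_hom, Over.pullback_map_left,
        Over.homMk_left, Category.assoc, pullback.lift_fst, IsPullback.isoPullback_hom_fst_assoc,
        IsPullback.isoPullback_hom_fst, hb₁]
    · simp only [Over.pullback_obj_left, Over.mk_left, Over.mk_hom, Over.pullback_map_left,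
        Over.homMk_left, Category.assoc, pullback.lift_snd, IsPullback.isoPullback_hom_snd,
        hb₂]

end Groth.Agent.Lib.Helper12.FerrandBC8
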