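import Mathlib
import Groth.Agent.Lib.Helper12.Ferrand10
import Groth.Agent.Lib.Helper12.FerrandBC4

/-!
# Flatness of Ferrand pushouts over a base (helper12)

If `X`, `Y`, `Z` are flat over `S` then so is the pushout `X ⊔_Z Y` (closed immersion `Z → X`, good
pairs): on a chart the ring is the kernel of the surjection `B × A' → A` of flat modules.
-/

set_option autoImplicit false
universe u
open CategoryTheory AlgebraicGeometry Opposite TopologicalSpace PrimeSpectrum Limits TensorProduct

namespace Groth.Agent.Lib.Helper12.FerrandFlat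
open SpecPushout Ferrand1 Ferrand Ferrand9 FerrandBC3

section Algebra

theorem flat_prod {k B A' : Type u} [CommRing k] [AddCommGroup B] [Module k B] [AddCommGroup A']
    [Module k A'] [Module.Flat k B] [Module.Flat k A'] : Module.Flat k (B × A') := by
  rw [Module.Flat.iff_rTensor_preserves_injective_linearMap]
  intro N N' _ _ _ _ f hf
  have h1 : ∀ z, TensorProduct.prodRight k k N' B A' (f.rTensor (B × A') z) =
      LinearMap.prodMap (f.rTensor B) (f.rTensor A') (TensorProduct.prodRight k k N B A' z) := by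
    intro z
    induction z using TensorProduct.induction_on with
    | zero => simp only [map_zero]
    | tmul n m => simp
    | add x y hx hy => simp only [map_add, hx, hy]
  have h2 : Function.Injective (LinearMap.prodMap (f.rTensor B) (f.rTensor A')) := by
    rw [LinearMap.coe_prodMap]
    exact Function.Injective.prodMap (Module.Flat.rTensor_preserves_injective_linearMap f hf)
      (Module.Flat.rTensor_preserves_injective_linearMap f hf)
  intro x y hxy
  apply (TensorProduct.prodRight k k N B A').injective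
  apply h2
  rw [← h1, ← h1, hxy]

/-- Kernel of a surjection of flat modules is flat. -/
theorem flat_ker_of_exact {A : Type u} [CommRing A] {M' M M'' : Type u}
    [AddCommGroup M'] [AddCommGroup M] [AddCommGroup M''] [Module A M'] [Module A M] [Module A M'']
    (g : M' →ₗ[A] M) (f : M →ₗ[A] M'') (hg : Function.Injective g) (hf : Function.Surjective f)
    (H : Function.Exact g f) [Module.Flat A M] [Module.Flat A M''] : Module.Flat A M' := by
  rw [Module.Flat.iff_rTensor_preserves_injective_linearMap]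
  intro N N' _ _ _ _ i hi
  have hgN : Function.Injective (g.lTensor N) :=
    LinearMap.lTensor_injective_of_exact_of_flat f hf g hg H N
  have h1 : Function.Injective ((i.rTensor M) ∘ (g.lTensor N)) :=
    (Module.Flat.rTensor_preserves_injective_linearMap (M := M) i hi).comp hgN
  have h2 : (i.rTensor M) ∘ (g.lTensor N) = (g.lTensor N') ∘ (i.rTensor M') := by
    funext y
    simp only [Function.comp_apply]
    rw [← LinearMap.comp_apply, ← LinearMap.comp_apply, LinearMap.rTensor_comp_lTensor,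
        LinearMap.lTensor_comp_rTensor]
  rw [h2] at h1
  exact Function.Injective.of_comp h1

/-- the fibre product of flat algebras over a flat algebra is flat -/
theorem FibreData.flat {k P B A' A : Type u} [CommRing k] [CommRing P] [CommRing B] [CommRing A']
    [CommRing A] [Algebra k P] [Algebra k B] [Algebra k A'] [Algebra k A]
    (D : FibreData k P B A' A) [Module.Flat k B] [Module.Flat k A'] [Module.Flat k A] :
    Module.Flat k P := by
  have : Module.Flat k (B × A') := flat_prod
  exact flat_ker_of_exact D.mA D.mB D.mA_injective D.mB_surjective D.exact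

theorem FibreSq.flat {P B A' A : Type u} [CommRing P] [CommRing B] [CommRing A'] [CommRing A]
    (D : FibreSq P B A' A) {k : Type u} [CommRing k] (γ : k →+* P)
    (hB : (D.ι₁.comp γ).Flat) (hA' : (D.ι₂.comp γ).Flat) (hA : (D.q.comp (D.ι₁.comp γ)).Flat) :
    γ.Flat :=
  @FibreData.flat k P B A' A _ _ _ _ _ γ.toAlgebra (D.ι₁.comp γ).toAlgebra
    (D.ι₂.comp γ).toAlgebra (D.q.comp (D.ι₁.comp γ)).toAlgebra (D.toFibreData γ) hB hA' hA

end Algebra

section Geometry
variable {X Y Z S : Scheme.{u}} {i : Z ⟶ X} {j : Z ⟶ Y} [IsClosedImmersion i]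
variable {f : X ⟶ S} {t : Y ⟶ S} (hsq : i ≫ f = j ≫ t)

theorem flat_g [Flat f] [Flat t] [Flat (i ≫ f)] (k : GoodPair i j) (O : S.Opens)
    (hO : IsAffineOpen O) (hU : k.U ≤ f ⁻¹ᵁ O) (hV : k.V ≤ t ⁻¹ᵁ O) :
    Flat (g hsq k O hU hV) := by
  have h1 : (γ hsq k O hU hV).Flat := by
    refine FibreSq.flat (FibreSq.ofPr k.p k.q k.p_surjective) _ ?_ ?_ ?_
    · change ((φ₁ k.p k.q).comp (γ hsq k O hU hV)).Flat
      rw [φ₁_γ]
      exact Flat.flat_appLE t hO k.hV hV
    · change ((φ₂ k.p k.q).comp (γ hsq k O hU hV)).Flat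
      rw [φ₂_γ]
      exact Flat.flat_appLE f hO k.hU hU
    · have h2 : t.appLE O k.V hV ≫ j.appLE k.V k.W k.W_le = (j ≫ t).appLE O k.W _ :=
        Scheme.Hom.appLE_comp_appLE ..
      have h3 := appLE_congr_hom (i ≫ f) (j ≫ t) hsq O k.W
        (le_rfl.trans ((Opens.map i.base).map (homOfLE hU)).le)
        (k.W_le.trans ((Opens.map j.base).map (homOfLE hV)).le)
      have h4 : (k.q.comp ((φ₁ k.p k.q).comp (γ hsq k O hU hV))) =
          ((i ≫ f).appLE O k.W
            (le_rfl.trans ((Opens.map i.base).map (homOfLE hU)).le)).hom := by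
        rw [h3, ← h2]
        rfl
      change (k.q.comp ((φ₁ k.p k.q).comp (γ hsq k O hU hV))).Flat
      rw [h4]
      exact Flat.flat_appLE (i ≫ f) hO k.hW _
  exact (HasRingHomProperty.Spec_iff (P := @Flat)).mpr h1

variable (hcov : ∀ y : Y, ∃ k : GoodPair i j, y ∈ k.V) (π : P i j ⟶ S)
  (ha : a i j hcov ≫ π = f) (hb : b i j hcov ≫ π = t)

include hsq ha hb in
theorem flat_chart [Flat f] [Flat t] [Flat (i ≫ f)] (k : GoodPair i j) (O : S.Opens)
    (hO : IsAffineOpen O) (hU : k.U ≤ f ⁻¹ᵁ O) (hV : k.V ≤ t ⁻¹ᵁ O) :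
    Flat (ιP i j k ≫ π) := by
  rw [ιP_π hsq hcov π ha hb k O hO hU hV]
  have := flat_g hsq k O hO hU hV
  infer_instance

set_option backward.isDefEq.respectTransparency.types false in
include hsq ha hb in
/-- **flatness**: the pushout of flat `S`-schemes along a closed immersion from a flat `S`-scheme is
flat over `S`. -/
theorem flat_π [Flat f] [Flat t] [Flat (i ≫ f)] : Flat π := by
  let J := {k : GoodPair i j // ∃ O : S.Opens, IsAffineOpen O ∧ k.U ≤ f ⁻¹ᵁ O ∧ k.V ≤ t ⁻¹ᵁ O}
  let 𝒰 : (P i j).OpenCover :=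
    Scheme.Cover.mkOfCovers J (fun k => (chart i j).obj k.1) (fun k => ιP i j k.1)
      (fun x => by
        obtain ⟨k, O, hO, hU, hV, w, hw⟩ := exists_small hcov π ha hb x
        exact ⟨⟨k, O, hO, hU, hV⟩, w, hw⟩)
  refine IsZariskiLocalAtSource.of_openCover 𝒰 (fun (k : J) => ?_)
  obtain ⟨O, hO, hU, hV⟩ := k.2
  exact flat_chart hsq hcov π ha hb k.1 O hO hU hV

end Geometry

section Arbitrary
variable {X Y Z S : Scheme.{u}} (i : Z ⟶ X) (j : Z ⟶ Y) [IsClosedImmersion i]
  (hcov : ∀ y : Y, ∃ (U : X.Opens) (V : Y.Opens), IsAffineOpen U ∧ IsAffineOpen V ∧ y ∈ V ∧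
      i ⁻¹ᵁ U = j ⁻¹ᵁ V)
  (f : X ⟶ S) (t : Y ⟶ S) (hsq : i ≫ f = j ≫ t)
  {P : Scheme.{u}} (a : X ⟶ P) (b : Y ⟶ P) (hP : IsPushout i j a b)
  (π : P ⟶ S) (ha : a ≫ π = f) (hb : b ≫ π = t)

set_option backward.isDefEq.respectTransparency.types false in
include hcov hsq hP ha hb in
/-- flatness of an arbitrary pushout over a base -/
theorem flat [Flat f] [Flat t] [Flat (i ≫ f)] : Flat π := by
  have hcov' : ∀ y : Y, ∃ k : GoodPair i j, y ∈ k.V := by
    intro y
    obtain ⟨U, V, hU, hV, hy, h⟩ := hcov y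
    exact ⟨⟨U, V, hU, hV, h⟩, hy⟩
  have h1 := Ferrand.isPushout i j hcov'
  have ea : Ferrand.a i j hcov' ≫ (h1.isoIsPushout _ _ hP).hom = a := h1.inl_isoIsPushout_hom _ _ hP
  have eb : Ferrand.b i j hcov' ≫ (h1.isoIsPushout _ _ hP).hom = b := h1.inr_isoIsPushout_hom _ _ hP
  have h2 : Flat ((h1.isoIsPushout _ _ hP).hom ≫ π) :=
    flat_π hsq hcov' _ (by rw [← Category.assoc, ea, ha])
      (by rw [← Category.assoc, eb, hb])
  have e : π = (h1.isoIsPushout _ _ hP).inv ≫ (h1.isoIsPushout _ _ hP).hom ≫ π := by simp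
  rw [e]
  infer_instance

end Arbitrary

end Groth.Agent.Lib.Helper12.FerrandFlat
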