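import Mathlib
import Groth.Prelude.Def_EtMil
import Groth.Agent.Lib.Helper8.MilnorGlue
import Groth.Agent.Lib.Helper8.PinchAlg

set_option autoImplicit false
universe u
open TensorProduct

namespace Groth.Agent.Lib.Helper12.MilnorAlg

open Groth.Agent.Lib.helper12 Groth.Agent.Lib.helper8

variable {B' B A' A : Type u} [CommRing B'] [CommRing B] [CommRing A'] [CommRing A]
    [Algebra B' B] [Algebra B' A'] [Algebra B A] [Algebra A' A] [Algebra B' A] [IsScalarTower B' B A]
    [IsScalarTower B' A' A]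
    {D' D C' C : Type u} [CommRing D'] [CommRing D] [CommRing C'] [CommRing C]
    [Algebra D' D] [Algebra D' C'] [Algebra D C] [Algebra C' C] [Algebra D' C] [IsScalarTower D' D C]
    [IsScalarTower D' C' C]
    [Algebra B' D'] [Algebra B D] [Algebra A' C'] [Algebra A C]
    [Algebra B' D] [IsScalarTower B' B D] [IsScalarTower B' D' D]
    [Algebra B' C'] [IsScalarTower B' A' C'] [IsScalarTower B' D' C']
    [Algebra B C] [IsScalarTower B A C] [IsScalarTower B D C]
    [Algebra A' C] [IsScalarTower A' A C] [IsScalarTower A' C' C]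
    [Algebra.IsPushout B D A C] [Algebra.IsPushout A' C' A C]

variable (B' B A' A D' D C' C)

/-- the glueing isomorphism `A ⊗_B D ≅ C ≅ A ⊗_{A'} C'` -/
noncomputable def φ : A ⊗[B] D ≃ₗ[A] A ⊗[A'] C' :=
  haveI : Algebra.IsPushout B A D C := Algebra.IsPushout.symm inferInstance
  haveI : Algebra.IsPushout A' A C' C := Algebra.IsPushout.symm inferInstance
  (Algebra.IsPushout.equiv B A D C).toLinearEquiv.trans
    (Algebra.IsPushout.equiv A' A C' C).symm.toLinearEquiv

theorem mem_glue_iff (x : D × C') :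
    x ∈ EtMil.glue B' (φ B A' A D C' C) ↔ algebraMap D C x.1 = algebraMap C' C x.2 := by
  haveI : Algebra.IsPushout B A D C := Algebra.IsPushout.symm inferInstance
  haveI : Algebra.IsPushout A' A C' C := Algebra.IsPushout.symm inferInstance
  change (Algebra.IsPushout.equiv A' A C' C).symm ((Algebra.IsPushout.equiv B A D C) (1 ⊗ₜ x.1)) =
    1 ⊗ₜ x.2 ↔ _
  rw [AlgEquiv.symm_apply_eq, Algebra.IsPushout.equiv_tmul, Algebra.IsPushout.equiv_tmul, map_one,
    one_mul, one_mul]


variable {B' B A' A D' D C' C}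

/-- `D' → D ×_φ C'` -/
noncomputable def toGlue : D' →ₗ[B'] EtMil.glue B' (φ B A' A D C' C) :=
  LinearMap.codRestrict _
    ((IsScalarTower.toAlgHom B' D' D).toLinearMap.prod (IsScalarTower.toAlgHom B' D' C').toLinearMap)
    (fun d' => by
      rw [mem_glue_iff]
      change algebraMap D C (algebraMap D' D d') = algebraMap C' C (algebraMap D' C' d')
      rw [← IsScalarTower.algebraMap_apply, ← IsScalarTower.algebraMap_apply])

theorem toGlue_bijective (hsq' : EtMil.IsFibreSquare D' D C' C) :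
    Function.Bijective (toGlue (B' := B') (B := B) (A' := A') (A := A) (D' := D') (D := D)
      (C' := C') (C := C)) := by
  constructor
  · intro x y hxy
    have h1 : algebraMap D' D x = algebraMap D' D y := congrArg (fun z => z.1.1) hxy
    have h2 : algebraMap D' C' x = algebraMap D' C' y := congrArg (fun z => z.1.2) hxy
    obtain ⟨z, -, hz⟩ := hsq'.2 (algebraMap D' D x) (algebraMap D' C' x) (by
      rw [← IsScalarTower.algebraMap_apply, ← IsScalarTower.algebraMap_apply])
    rw [hz x ⟨rfl, rfl⟩, hz y ⟨h1.symm, h2.symm⟩]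
  · rintro ⟨⟨d, c'⟩, h⟩
    rw [mem_glue_iff] at h
    obtain ⟨z, ⟨hz1, hz2⟩, -⟩ := hsq'.2 d c' h
    exact ⟨z, Subtype.ext (Prod.ext hz1 hz2)⟩

/-- `D' ≃ D ×_φ C'` -/
noncomputable def glueEquiv (hsq' : EtMil.IsFibreSquare D' D C' C) :
    D' ≃ₗ[B'] EtMil.glue B' (φ B A' A D C' C) :=
  LinearEquiv.ofBijective toGlue (toGlue_bijective hsq')

/-- `B ⊗_{B'} D' ≃ D` -/
noncomputable def eB (hsq : EtMil.IsFibreSquare B' B A' A) (hsq' : EtMil.IsFibreSquare D' D C' C) :
    B ⊗[B'] D' ≃ₗ[B] D :=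
  (TensorProduct.AlgebraTensorModule.congr (LinearEquiv.refl B B) (glueEquiv hsq')).trans
    (Mil.glueFstEquiv (φ B A' A D C' C) hsq)

theorem eB_tmul (hsq : EtMil.IsFibreSquare B' B A' A) (hsq' : EtMil.IsFibreSquare D' D C' C)
    (b : B) (d' : D') : eB hsq hsq' (b ⊗ₜ d') = b • algebraMap D' D d' := rfl

/-- `A' ⊗_{B'} D' ≃ C'` -/
noncomputable def eA' (hsq : EtMil.IsFibreSquare B' B A' A) (hsq' : EtMil.IsFibreSquare D' D C' C) :
    A' ⊗[B'] D' ≃ₗ[A'] C' :=
  (TensorProduct.AlgebraTensorModule.congr (LinearEquiv.refl A' A') (glueEquiv hsq')).trans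
    (Mil.glueSndEquiv (φ B A' A D C' C) hsq)

theorem eA'_tmul (hsq : EtMil.IsFibreSquare B' B A' A) (hsq' : EtMil.IsFibreSquare D' D C' C)
    (a' : A') (d' : D') : eA' hsq hsq' (a' ⊗ₜ d') = a' • algebraMap D' C' d' := rfl

/-- `D = B ⊗_{B'} D'` -/
theorem isPushout_left (hsq : EtMil.IsFibreSquare B' B A' A)
    (hsq' : EtMil.IsFibreSquare D' D C' C) : Algebra.IsPushout B' B D' D :=
  ⟨IsBaseChange.of_equiv (eB hsq hsq') (fun x => by
    rw [eB_tmul, one_smul]; rfl)⟩

/-- `C' = A' ⊗_{B'} D'` -/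
theorem isPushout_right (hsq : EtMil.IsFibreSquare B' B A' A)
    (hsq' : EtMil.IsFibreSquare D' D C' C) : Algebra.IsPushout B' A' D' C' :=
  ⟨IsBaseChange.of_equiv (eA' hsq hsq') (fun x => by
    rw [eA'_tmul, one_smul]; rfl)⟩

end Groth.Agent.Lib.Helper12.MilnorAlg
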