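import Mathlib
import Groth.Prelude.Def_EtMil
import Groth.Agent.Lib.Helper8.MilnorGlue
import Groth.Agent.Lib.Helper8.PinchAlg

set_option autoImplicit false
set_option linter.style.haveILetI false
universe u
open TensorProduct

namespace Groth.Agent.Lib.Helper12.MilnorAlg

open Groth.Agent.Lib.helper8 Groth.Agent.Lib.helper8.PinchAlg

section Pinch

variable {B' B A' A : Type u} [CommRing B'] [CommRing B] [CommRing A'] [CommRing A]
    [Algebra B' B] [Algebra B' A'] [Algebra B A] [Algebra A' A] [Algebra B' A] [IsScalarTower B' B A]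
    [IsScalarTower B' A' A]

theorem isPinch_of_isFibreSquare (hsq : EtMil.IsFibreSquare B' B A' A) : IsPinch B' B A' := by
  refine ⟨?_, ?_, ?_⟩
  · intro b
    obtain ⟨a', ha'⟩ := hsq.1 (algebraMap B A b)
    obtain ⟨b', ⟨hb', -⟩, -⟩ := hsq.2 b a' ha'.symm
    exact ⟨b', hb'⟩
  · rw [eq_bot_iff]
    rintro x ⟨h1, h2⟩
    obtain ⟨z, -, hz⟩ := hsq.2 0 0 (by rw [map_zero, map_zero])
    rw [Ideal.mem_bot, hz x ⟨h2, h1⟩, hz 0 ⟨map_zero _, map_zero _⟩]
  · intro a ha
    have h1 : Ideal.map (algebraMap B' A') (RingHom.ker (algebraMap B' B)) ≤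
        RingHom.ker (algebraMap A' A) := by
      rw [Ideal.map_le_iff_le_comap]
      intro i hi
      rw [Ideal.mem_comap, RingHom.mem_ker, ← IsScalarTower.algebraMap_apply,
        IsScalarTower.algebraMap_apply B' B A, (RingHom.mem_ker).mp hi, map_zero]
    have h2 : algebraMap A' A a = 0 := h1 ha
    obtain ⟨b', ⟨hb1, hb2⟩, -⟩ := hsq.2 0 a (by rw [map_zero, h2])
    exact ⟨b', hb1, hb2⟩

end Pinch

section FT

variable {R S : Type u} [CommRing R] [CommRing S] [Algebra R S]

/-- a finite type base change is generated by the image of a finitely generated subalgebra -/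
theorem exists_adjoin_baseChange_eq_top (T : Type u) [CommRing T] [Algebra R T]
    [Algebra.FiniteType S (S ⊗[R] T)] :
    ∃ t : Finset T, (Subalgebra.toSubmodule (Algebra.adjoin R (t : Set T))).baseChange S = ⊤ := by
  classical
  obtain ⟨s, hs⟩ := (Algebra.FiniteType.out : (⊤ : Subalgebra S (S ⊗[R] T)).FG)
  choose F hF using fun x : S ⊗[R] T => TensorProduct.exists_finset x
  refine ⟨s.biUnion (fun x => (F x).image Prod.snd), ?_⟩
  set E := Algebra.adjoin R ((s.biUnion (fun x => (F x).image Prod.snd) : Finset T) : Set T) with hE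
  let ES : Subalgebra S (S ⊗[R] T) := (Algebra.TensorProduct.map (AlgHom.id S S) E.val).range
  have h1 : ES = ⊤ := by
    rw [eq_top_iff, ← hs, Algebra.adjoin_le_iff]
    intro x hx
    rw [hF x]
    refine Subalgebra.sum_mem _ (fun i hi => ?_)
    have : i.2 ∈ E := Algebra.subset_adjoin (by
      rw [Finset.mem_coe, Finset.mem_biUnion]
      exact ⟨x, hx, Finset.mem_image_of_mem _ hi⟩)
    exact ⟨i.1 ⊗ₜ ⟨i.2, this⟩, rfl⟩
  have key : ∀ z : S ⊗[R] E, (LinearMap.baseChange S (Subalgebra.toSubmodule E).subtype) z =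
      Algebra.TensorProduct.map (AlgHom.id S S) E.val z := by
    intro z
    induction z with
    | zero => simp
    | tmul a b => rfl
    | add a b ha hb => rw [map_add, map_add, ha, hb]
  rw [eq_top_iff]
  intro y _
  have hy : y ∈ ES := by rw [h1]; trivial
  obtain ⟨z, rfl⟩ := hy
  exact ⟨z, key z⟩

variable {Q Bq : Type u} [CommRing Q] [CommRing Bq] [Algebra R Q] [Algebra R Bq]

/-- **Pinching: finite type descends.** -/
theorem finiteType_of_pinch (hp : IsPinch R Q Bq) (T : Type u) [CommRing T] [Algebra R T]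
    [Algebra.FiniteType Q (Q ⊗[R] T)] [Algebra.FiniteType Bq (Bq ⊗[R] T)] :
    Algebra.FiniteType R T := by
  classical
  obtain ⟨t₁, ht₁⟩ := exists_adjoin_baseChange_eq_top (R := R) (S := Q) T
  obtain ⟨t₂, ht₂⟩ := exists_adjoin_baseChange_eq_top (R := R) (S := Bq) T
  set E := Algebra.adjoin R ((t₁ ∪ t₂ : Finset T) : Set T) with hE
  set N : Submodule R T := Subalgebra.toSubmodule E with hN
  have hle₁ : Subalgebra.toSubmodule (Algebra.adjoin R (t₁ : Set T)) ≤ N :=
    Subalgebra.toSubmodule.monotone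
      (Algebra.adjoin_mono (by intro x hx; exact Finset.mem_union_left _ hx))
  have hle₂ : Subalgebra.toSubmodule (Algebra.adjoin R (t₂ : Set T)) ≤ N :=
    Subalgebra.toSubmodule.monotone
      (Algebra.adjoin_mono (by intro x hx; exact Finset.mem_union_right _ hx))
  have h₁ : N.baseChange Q = ⊤ := top_le_iff.mp (ht₁ ▸ Submodule.baseChange_mono Q hle₁)
  have h₂ : N.baseChange Bq = ⊤ := top_le_iff.mp (ht₂ ▸ Submodule.baseChange_mono Bq hle₂)
  haveI := subsingleton_tensor_quotient (S := Q) T N h₁
  haveI := subsingleton_tensor_quotient (S := Bq) T N h₂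
  haveI : Subsingleton (T ⧸ N) := subsingleton_of_pinch hp (T ⧸ N)
  have hN' : E = ⊤ := by
    rw [eq_top_iff]
    intro m _
    have : m ∈ N := by
      rw [← Submodule.Quotient.mk_eq_zero N]
      exact Subsingleton.elim _ _
    exact this
  exact ⟨⟨t₁ ∪ t₂, hN'⟩⟩

end FT

section Poly

variable {R Q Bq : Type u} [CommRing R] [CommRing Q] [CommRing Bq] [Algebra R Q] [Algebra R Bq]

attribute [local instance] MvPolynomial.algebraMvPolynomial

/-- pinching data passes to polynomial rings -/
theorem isPinch_mvPolynomial (hp : IsPinch R Q Bq) (σ : Type) :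
    IsPinch (MvPolynomial σ R) (MvPolynomial σ Q) (MvPolynomial σ Bq) := by
  classical
  refine ⟨MvPolynomial.map_surjective _ hp.surj, ?_, ?_⟩
  · rw [eq_bot_iff]
    rintro p ⟨h1, h2⟩
    rw [Ideal.mem_bot]
    ext m
    have h1' : algebraMap R Bq (MvPolynomial.coeff m p) = 0 := by
      have := congrArg (MvPolynomial.coeff m) ((RingHom.mem_ker).mp h1)
      rwa [MvPolynomial.algebraMap_def, MvPolynomial.coeff_map, MvPolynomial.coeff_zero] at this
    have h2' : algebraMap R Q (MvPolynomial.coeff m p) = 0 := by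
      have := congrArg (MvPolynomial.coeff m) ((RingHom.mem_ker).mp h2)
      rwa [MvPolynomial.algebraMap_def, MvPolynomial.coeff_map, MvPolynomial.coeff_zero] at this
    have : MvPolynomial.coeff m p ∈
        RingHom.ker (algebraMap R Bq) ⊓ RingHom.ker (algebraMap R Q) := ⟨h1', h2'⟩
    rw [hp.inf_eq_bot] at this
    rw [MvPolynomial.coeff_zero]
    exact this
  · intro a ha
    rw [MvPolynomial.algebraMap_def, MvPolynomial.algebraMap_def, MvPolynomial.ker_map,
      Ideal.map_map, MvPolynomial.map_comp_C, ← Ideal.map_map, MvPolynomial.mem_map_C_iff] at ha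
    choose g hg1 hg2 using fun m => hp.exists_mem _ (ha m)
    refine ⟨∑ m ∈ a.support, MvPolynomial.monomial m (g m), ?_, ?_⟩
    · rw [RingHom.mem_ker, map_sum]
      refine Finset.sum_eq_zero (fun m _ => ?_)
      rw [MvPolynomial.algebraMap_def, MvPolynomial.map_monomial, (RingHom.mem_ker).mp (hg1 m),
        MvPolynomial.monomial_zero]
    · rw [map_sum]
      conv_rhs => rw [← MvPolynomial.support_sum_monomial_coeff a]
      refine Finset.sum_congr rfl (fun m _ => ?_)
      rw [MvPolynomial.algebraMap_def, MvPolynomial.map_monomial, hg2 m]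

end Poly

section FlatInf

variable {R S : Type*} [CommRing R] [CommRing S] [Algebra R S]

theorem one_tmul_eq_zero_of_mem_smul_top' {X : Type*} [AddCommGroup X] [Module R X] (w : X)
    (hw : w ∈ (RingHom.ker (algebraMap R S)) • (⊤ : Submodule R X)) :
    ((1 : S) ⊗ₜ[R] w : S ⊗[R] X) = 0 := by
  refine Submodule.smul_induction_on hw ?_ ?_
  · intro j hj y _
    rw [← TensorProduct.smul_tmul, Algebra.smul_def, RingHom.mem_ker.mp hj, zero_mul,
      TensorProduct.zero_tmul]
  · intro y z hy hz
    rw [TensorProduct.tmul_add, hy, hz, add_zero]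

/-- for a flat quotient `F/K`, `K ∩ J F = J K` -/
theorem mem_smul_ker_of_flat (hsurj : Function.Surjective (algebraMap R S))
    {F M : Type*} [AddCommGroup F] [Module R F] [AddCommGroup M] [Module R M] [Module.Flat R M]
    (π : F →ₗ[R] M) (hπ : Function.Surjective π) (z : F) (hz : π z = 0)
    (hz' : z ∈ (RingHom.ker (algebraMap R S)) • (⊤ : Submodule R F)) :
    z ∈ (RingHom.ker (algebraMap R S)) • LinearMap.ker π := by
  set K := LinearMap.ker π with hK
  have hinj : Function.Injective (K.subtype.lTensor S) :=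
    LinearMap.lTensor_injective_of_exact_of_flat π hπ K.subtype K.subtype_injective
      π.exact_subtype_ker_map S
  have h1 : ((1 : S) ⊗ₜ[R] (⟨z, hz⟩ : K) : S ⊗[R] K) = 0 := by
    apply hinj
    rw [LinearMap.lTensor_tmul, map_zero]
    exact one_tmul_eq_zero_of_mem_smul_top' z hz'
  have h2 := Mil.mem_smul_top_of_one_tmul_eq_zero hsurj K ⟨z, hz⟩ h1
  have h3 : K.subtype ⟨z, hz⟩ ∈ ((RingHom.ker (algebraMap R S)) • (⊤ : Submodule R K)).map
      K.subtype := Submodule.mem_map_of_mem h2
  rw [Submodule.map_smul'', Submodule.map_top, Submodule.range_subtype] at h3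
  exact h3

end FlatInf

section FG

variable {R Q Bq : Type u} [CommRing R] [CommRing Q] [CommRing Bq] [Algebra R Q] [Algebra R Bq]

theorem exists_fg_le_of_map_fg {R S : Type*} [CommRing R] [CommRing S] (f : R →+* S) (K : Ideal R)
    (h : (K.map f).FG) : ∃ K₀ : Ideal R, K₀ ≤ K ∧ K₀.FG ∧ K₀.map f = K.map f := by
  classical
  have h' : (Submodule.span S (f '' (K : Set R))).FG := h
  obtain ⟨s', hs', hspan⟩ := (Submodule.fg_span_iff_fg_span_finset_subset _).mp h'
  obtain ⟨t, ht, rfl⟩ := Finset.subset_set_image_iff.mp hs'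
  refine ⟨Ideal.span (t : Set R), Ideal.span_le.mpr ht, ⟨t, rfl⟩, ?_⟩
  rw [Ideal.map_span]
  change _ = Submodule.span S (f '' (K : Set R))
  rw [hspan, Finset.coe_image]

/-- **Pinching: finite generation of ideals descends**, given the Tor-vanishing condition (iii). -/
theorem fg_of_pinch_ideal (hp : IsPinch R Q Bq) (K : Ideal R)
    (h1 : (K.map (algebraMap R Q)).FG) (h2 : (K.map (algebraMap R Bq)).FG)
    (h3 : ∀ z ∈ K, z ∈ RingHom.ker (algebraMap R Q) → z ∈ RingHom.ker (algebraMap R Q) * K) :
    K.FG := by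
  obtain ⟨K₁, hK₁, hfg₁, hmap₁⟩ := exists_fg_le_of_map_fg _ K h1
  obtain ⟨K₂, hK₂, hfg₂, hmap₂⟩ := exists_fg_le_of_map_fg _ K h2
  set J := RingHom.ker (algebraMap R Q) with hJ
  have key : J * K ≤ K₂ := by
    rw [Ideal.mul_le]
    intro j hj κ hκ
    have hκ' : algebraMap R Bq κ ∈ Submodule.span Bq (algebraMap R Bq '' (K₂ : Set R)) := by
      change algebraMap R Bq κ ∈ K₂.map (algebraMap R Bq)
      rw [hmap₂]
      exact Ideal.mem_map_of_mem _ hκ
    have hP : ∀ y ∈ Submodule.span Bq (algebraMap R Bq '' (K₂ : Set R)),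
        ∀ a ∈ Ideal.map (algebraMap R Bq) J, ∃ w ∈ K₂, w ∈ J ∧ algebraMap R Bq w = a * y := by
      intro y hy
      induction hy using Submodule.span_induction with
      | mem y hy =>
        obtain ⟨k, hk, rfl⟩ := hy
        intro a ha
        obtain ⟨i, hi, rfl⟩ := hp.exists_mem a ha
        exact ⟨i * k, K₂.mul_mem_left _ hk, J.mul_mem_right _ hi, map_mul _ _ _⟩
      | zero =>
        intro a _
        exact ⟨0, K₂.zero_mem, J.zero_mem, by rw [map_zero, mul_zero]⟩
      | add x y _ _ hx hy =>
        intro a ha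
        obtain ⟨w₁, hw₁, hw₁', e₁⟩ := hx a ha
        obtain ⟨w₂, hw₂, hw₂', e₂⟩ := hy a ha
        exact ⟨w₁ + w₂, K₂.add_mem hw₁ hw₂, J.add_mem hw₁' hw₂', by
          rw [map_add, e₁, e₂, mul_add]⟩
      | smul r y _ hy =>
        intro a ha
        obtain ⟨w, hw, hw', e⟩ := hy (a * r) (Ideal.mul_mem_right _ _ ha)
        exact ⟨w, hw, hw', by rw [e, smul_eq_mul, mul_assoc]⟩
    obtain ⟨w, hw, hw', e⟩ := hP _ hκ' (algebraMap R Bq j) (Ideal.mem_map_of_mem _ hj)
    have : j * κ - w ∈ RingHom.ker (algebraMap R Bq) ⊓ RingHom.ker (algebraMap R Q) := by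
      constructor
      · show j * κ - w ∈ RingHom.ker (algebraMap R Bq)
        rw [RingHom.mem_ker, map_sub, map_mul, e, sub_self]
      · exact J.sub_mem (J.mul_mem_right _ hj) hw'
    rw [hp.inf_eq_bot, Ideal.mem_bot, sub_eq_zero] at this
    rw [this]
    exact hw
  have hle : K ≤ K₁ ⊔ K₂ := by
    intro x hx
    have h4 : algebraMap R Q x ∈ K₁.map (algebraMap R Q) := by
      rw [hmap₁]
      exact Ideal.mem_map_of_mem _ hx
    rw [Ideal.mem_map_iff_of_surjective _ hp.surj] at h4
    obtain ⟨y, hy, hxy⟩ := h4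
    have h5 : x - y ∈ J := by
      rw [hJ, RingHom.mem_ker, map_sub, hxy, sub_self]
    have h6 : x - y ∈ K₂ := key (h3 _ (K.sub_mem hx (hK₁ hy)) h5)
    have : x = y + (x - y) := by ring
    rw [this]
    exact Submodule.add_mem_sup hy h6
  have : K = K₁ ⊔ K₂ := le_antisymm hle (sup_le hK₁ hK₂)
  rw [this]
  exact Submodule.FG.sup hfg₁ hfg₂

end FG


section FP

variable {R S : Type u} [CommRing R] [CommRing S] [Algebra R S]

attribute [local instance] MvPolynomial.algebraMvPolynomial

/-- the extension of the kernel of a presentation to the base-changed polynomial ring is finitely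
generated if the base change is finitely presented. -/
theorem map_ker_fg {σ : Type} [Finite σ] (T : Type u) [CommRing T] [Algebra R T]
    (f : MvPolynomial σ R →ₐ[R] T) (hf : Function.Surjective f)
    [Algebra.FinitePresentation S (S ⊗[R] T)] :
    ((RingHom.ker f.toRingHom).map (algebraMap (MvPolynomial σ R) (MvPolynomial σ S))).FG := by
  let fS : MvPolynomial σ S →ₐ[S] S ⊗[R] T :=
    MvPolynomial.aeval (fun i => (1 : S) ⊗ₜ[R] f (MvPolynomial.X i))
  let eP : S ⊗[R] MvPolynomial σ R ≃ₐ[S] MvPolynomial σ S := MvPolynomial.algebraTensorAlgEquiv R S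
  have hcomp : fS.comp eP.toAlgHom = Algebra.TensorProduct.map (AlgHom.id S S) f := by
    apply Algebra.TensorProduct.ext
    · ext
    · apply MvPolynomial.algHom_ext
      intro i
      simp [fS, eP]
  have hcomp' : ∀ z, fS (eP z) = Algebra.TensorProduct.map (AlgHom.id S S) f z :=
    fun z => congrArg (fun g => g z) hcomp
  have hmap : ∀ z, Algebra.TensorProduct.map (AlgHom.id S S) f z = f.toLinearMap.lTensor S z := by
    intro z
    induction z with
    | zero => simp
    | tmul a b => rfl
    | add a b ha hb => rw [map_add, map_add, ha, hb]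
  have hfS : Function.Surjective fS := by
    intro y
    obtain ⟨z, hz⟩ := LinearMap.lTensor_surjective S (g := f.toLinearMap) hf y
    exact ⟨eP z, by rw [hcomp', hmap, hz]⟩
  have hker : (RingHom.ker fS.toRingHom).FG :=
    Algebra.FinitePresentation.ker_fG_of_surjective fS hfS
  have heq : (RingHom.ker f.toRingHom).map (algebraMap (MvPolynomial σ R) (MvPolynomial σ S)) =
      RingHom.ker fS.toRingHom := by
    apply le_antisymm
    · rw [Ideal.map_le_iff_le_comap]
      intro k hk
      rw [Ideal.mem_comap, RingHom.mem_ker]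
      have h1 : eP ((1 : S) ⊗ₜ[R] k) = algebraMap (MvPolynomial σ R) (MvPolynomial σ S) k := by
        rw [MvPolynomial.algebraTensorAlgEquiv_tmul, one_smul]
        rfl
      change fS _ = 0
      rw [← h1, hcomp', Algebra.TensorProduct.map_tmul]
      have : f k = 0 := hk
      rw [this, tmul_zero]
    · intro q hq
      have hq' : fS q = 0 := hq
      have h1 : f.toLinearMap.lTensor S (eP.symm q) = 0 := by
        rw [← hmap, ← hcomp', AlgEquiv.apply_symm_apply, hq']
      have hex := lTensor_exact S (LinearMap.exact_subtype_ker_map f.toLinearMap) hf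
      have hall : ∀ w : S ⊗[R] LinearMap.ker f.toLinearMap,
          eP ((LinearMap.ker f.toLinearMap).subtype.lTensor S w) ∈
            (RingHom.ker f.toRingHom).map
              (algebraMap (MvPolynomial σ R) (MvPolynomial σ S)) := by
        intro w
        induction w with
        | zero => simp
        | tmul s k =>
          rw [LinearMap.lTensor_tmul, MvPolynomial.algebraTensorAlgEquiv_tmul, Algebra.smul_def]
          refine Ideal.mul_mem_left _ _ (Ideal.mem_map_of_mem _ ?_)
          exact k.2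
        | add a b ha hb =>
          rw [map_add, map_add]
          exact Ideal.add_mem _ ha hb
      obtain ⟨w, hw⟩ := (hex (eP.symm q)).mp h1
      have hq2 : q = eP ((LinearMap.ker f.toLinearMap).subtype.lTensor S w) := by
        rw [hw, AlgEquiv.apply_symm_apply]
      rw [hq2]
      exact hall w
  rw [heq]
  exact hker

variable {Q Bq : Type u} [CommRing Q] [CommRing Bq] [Algebra R Q] [Algebra R Bq]

/-- **Pinching: finite presentation of flat algebras descends.** -/
theorem finitePresentation_of_pinch_alg (hp : IsPinch R Q Bq) (T : Type u) [CommRing T]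
    [Algebra R T] [Module.Flat R T] [Algebra.FinitePresentation Q (Q ⊗[R] T)]
    [Algebra.FinitePresentation Bq (Bq ⊗[R] T)] : Algebra.FinitePresentation R T := by
  haveI : Algebra.FiniteType R T := finiteType_of_pinch hp T
  obtain ⟨n, f, hf⟩ := Algebra.FiniteType.iff_quotient_mvPolynomial''.mp
    (inferInstance : Algebra.FiniteType R T)
  refine Algebra.FinitePresentation.of_surjective hf ?_
  refine fg_of_pinch_ideal (isPinch_mvPolynomial hp (Fin n)) _ (map_ker_fg T f hf)
    (map_ker_fg T f hf) ?_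
  intro z hz hz'
  rw [MvPolynomial.algebraMap_def, MvPolynomial.ker_map] at hz' ⊢
  have h1 : z ∈ (RingHom.ker (algebraMap R Q)) • (⊤ : Submodule R (MvPolynomial (Fin n) R)) := by
    rw [Ideal.smul_top_eq_map]
    exact hz'
  have h2 := mem_smul_ker_of_flat hp.surj f.toLinearMap hf z hz h1
  refine Submodule.smul_induction_on h2 ?_ ?_
  · intro i hi k hk
    rw [Algebra.smul_def]
    exact Ideal.mul_mem_mul (Ideal.mem_map_of_mem _ hi) hk
  · intro x y hx hy
    exact Ideal.add_mem _ hx hy

end FP

section Away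

variable {R Q Bq : Type u} [CommRing R] [CommRing Q] [CommRing Bq] [Algebra R Q] [Algebra R Bq]

/-- if `t ∈ ker (R → Q)` becomes a unit in the `R`-algebra `T`, then `R → T` factors through
`R → Bq`: away from the pinched locus, `Spec Bq → Spec R` is an isomorphism. -/
theorem exists_ringHom_of_isUnit (hp : IsPinch R Q Bq) {T : Type*} [CommRing T] [Algebra R T]
    (t : R) (ht : t ∈ RingHom.ker (algebraMap R Q)) (hu : IsUnit (algebraMap R T t)) :
    ∃ ψ : Bq →+* T, ψ.comp (algebraMap R Bq) = algebraMap R T := by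
  set J := RingHom.ker (algebraMap R Q) with hJ
  have huniq : ∀ i ∈ J, ∀ i' ∈ J, algebraMap R Bq i = algebraMap R Bq i' → i = i' := by
    intro i hi i' hi' h
    have : i - i' ∈ RingHom.ker (algebraMap R Bq) ⊓ RingHom.ker (algebraMap R Q) := by
      constructor
      · show i - i' ∈ RingHom.ker (algebraMap R Bq)
        rw [RingHom.mem_ker, map_sub, h, sub_self]
      · exact J.sub_mem hi hi'
    rw [hp.inf_eq_bot, Ideal.mem_bot, sub_eq_zero] at this
    exact this
  have hex : ∀ b : Bq, ∃ i ∈ J, algebraMap R Bq i = algebraMap R Bq t * b := fun b =>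
    hp.exists_mem _ (Ideal.mul_mem_right _ _ (Ideal.mem_map_of_mem _ ht))
  choose σ hσ1 hσ2 using hex
  obtain ⟨u, hu'⟩ := hu
  have h_one : σ 1 = t := huniq _ (hσ1 1) _ ht (by rw [hσ2, mul_one])
  have h_zero : σ 0 = 0 := huniq _ (hσ1 0) _ J.zero_mem (by rw [hσ2, mul_zero, map_zero])
  have h_add : ∀ a b, σ (a + b) = σ a + σ b := fun a b =>
    huniq _ (hσ1 _) _ (J.add_mem (hσ1 a) (hσ1 b)) (by rw [hσ2, map_add, hσ2, hσ2, mul_add])
  have h_mul : ∀ a b, σ a * σ b = t * σ (a * b) := fun a b =>
    huniq _ (J.mul_mem_right _ (hσ1 a)) _ (J.mul_mem_right _ ht) (by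
      rw [map_mul, map_mul, hσ2, hσ2, hσ2]; ring)
  have h_alg : ∀ r, σ (algebraMap R Bq r) = t * r := fun r =>
    huniq _ (hσ1 _) _ (J.mul_mem_right _ ht) (by rw [hσ2, map_mul])
  refine ⟨{ toFun := fun b => (↑u⁻¹ : T) * algebraMap R T (σ b)
            map_one' := by
              show (↑u⁻¹ : T) * algebraMap R T (σ 1) = 1
              rw [h_one, ← hu', Units.inv_mul]
            map_mul' := fun a b => by
              show (↑u⁻¹ : T) * algebraMap R T (σ (a * b)) =
                (↑u⁻¹ : T) * algebraMap R T (σ a) * ((↑u⁻¹ : T) * algebraMap R T (σ b))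
              have : algebraMap R T (σ a) * algebraMap R T (σ b) =
                  (u : T) * algebraMap R T (σ (a * b)) := by
                rw [← map_mul, h_mul, map_mul, hu']
              calc (↑u⁻¹ : T) * algebraMap R T (σ (a * b))
                  = (↑u⁻¹ : T) * (↑u⁻¹ : T) * ((u : T) * algebraMap R T (σ (a * b))) := by
                    rw [mul_assoc, ← mul_assoc (↑u⁻¹ : T) (u : T), Units.inv_mul, one_mul]
                _ = _ := by rw [← this]; ring
            map_zero' := by
              show (↑u⁻¹ : T) * algebraMap R T (σ 0) = 0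
              rw [h_zero, map_zero, mul_zero]
            map_add' := fun a b => by
              show (↑u⁻¹ : T) * algebraMap R T (σ (a + b)) =
                (↑u⁻¹ : T) * algebraMap R T (σ a) + (↑u⁻¹ : T) * algebraMap R T (σ b)
              rw [h_add, map_add, mul_add] }, ?_⟩
  ext r
  show (↑u⁻¹ : T) * algebraMap R T (σ (algebraMap R Bq r)) = algebraMap R T r
  rw [h_alg, map_mul, ← hu', ← mul_assoc, Units.inv_mul, one_mul]

/-- a field-valued point of `Spec R` lifts to `Spec Q` or to `Spec Bq`. -/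
theorem exists_ringHom_of_field (hp : IsPinch R Q Bq) (κ : Type*) [Field κ] [Algebra R κ] :
    (∃ ψ : Q →+* κ, ψ.comp (algebraMap R Q) = algebraMap R κ) ∨
    (∃ ψ : Bq →+* κ, ψ.comp (algebraMap R Bq) = algebraMap R κ) := by
  by_cases h : RingHom.ker (algebraMap R Q) ≤ RingHom.ker (algebraMap R κ)
  · left
    refine ⟨(algebraMap R Q).liftOfSurjective hp.surj ⟨algebraMap R κ, h⟩, ?_⟩
    exact (algebraMap R Q).liftOfRightInverse_comp _ _ ⟨_, h⟩
  · right
    obtain ⟨t, ht, ht'⟩ := SetLike.not_le_iff_exists.mp h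
    exact exists_ringHom_of_isUnit hp t ht (Ne.isUnit ht')

end Away

section Fibre

variable {R S : Type u} [CommRing R] [CommRing S] [Algebra R S]

/-- if `R → κ` factors through `S`, the fibre of `T` at `κ` is a base change of `S ⊗ T`. -/
theorem formallySmooth_tensor_of_factor (T : Type u) [CommRing T] [Algebra R T]
    [Algebra.FormallySmooth S (S ⊗[R] T)] (κ : Type u) [CommRing κ] [Algebra R κ]
    (ψ : S →+* κ) (hψ : ψ.comp (algebraMap R S) = algebraMap R κ) :
    Algebra.FormallySmooth κ (κ ⊗[R] T) := by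
  let _ : Algebra S κ := ψ.toAlgebra
  haveI : IsScalarTower R S κ := IsScalarTower.of_algebraMap_eq (fun r => by
    show algebraMap R κ r = ψ (algebraMap R S r)
    rw [← hψ]; rfl)
  exact Algebra.FormallySmooth.of_equiv (Algebra.TensorProduct.cancelBaseChange R S κ κ T)

end Fibre

section Smooth

variable {R Q Bq : Type u} [CommRing R] [CommRing Q] [CommRing Bq] [Algebra R Q] [Algebra R Bq]

/-- **Pinching: smoothness descends.** -/
theorem smooth_of_pinch (hp : IsPinch R Q Bq) (T : Type u) [CommRing T] [Algebra R T]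
    [Algebra.Smooth Q (Q ⊗[R] T)] [Algebra.Smooth Bq (Bq ⊗[R] T)]
    [Module.Flat R T] [Algebra.FinitePresentation R T] : Algebra.Smooth R T := by
  refine Algebra.Smooth.of_formallySmooth_fiber (fun I _ => ?_)
  rcases exists_ringHom_of_field hp I.ResidueField with ⟨ψ, hψ⟩ | ⟨ψ, hψ⟩
  · exact formallySmooth_tensor_of_factor T I.ResidueField ψ hψ
  · exact formallySmooth_tensor_of_factor T I.ResidueField ψ hψ

end Smooth

section Unramified

variable {R Q Bq T TQ TB : Type u} [CommRing R] [CommRing Q] [CommRing Bq] [CommRing T]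
  [CommRing TQ] [CommRing TB] [Algebra R Q] [Algebra R Bq] [Algebra R T]
  [Algebra T TQ] [Algebra T TB] [Algebra Q TQ] [Algebra Bq TB] [Algebra R TQ] [Algebra R TB]
  [IsScalarTower R T TQ] [IsScalarTower R Q TQ] [IsScalarTower R T TB] [IsScalarTower R Bq TB]
  [Algebra.IsPushout R Q T TQ] [Algebra.IsPushout R Bq T TB]

/-- **Pinching: formal unramifiedness descends.** -/
theorem formallyUnramified_of_pinch (hpT : IsPinch T TQ TB)
    [Algebra.FormallyUnramified Q TQ] [Algebra.FormallyUnramified Bq TB] :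
    Algebra.FormallyUnramified R T := by
  haveI : Subsingleton (TQ ⊗[T] Ω[T⁄R]) :=
    (KaehlerDifferential.tensorKaehlerEquiv R Q T TQ).toEquiv.subsingleton
  haveI : Subsingleton (TB ⊗[T] Ω[T⁄R]) :=
    (KaehlerDifferential.tensorKaehlerEquiv R Bq T TB).toEquiv.subsingleton
  exact ⟨subsingleton_of_pinch hpT Ω[T⁄R]⟩

end Unramified

end Groth.Agent.Lib.Helper12.MilnorAlg
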