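import Mathlib
import Groth.Prelude.Def_EtMil
import Groth.Agent.Lib.Helper12.MilnorAlg1
import Groth.Agent.Lib.Helper12.MilnorAlg2
import Groth.Agent.Lib.Helper12.Ferrand1

/-!
# Milnor squares of algebras, `RingHom` form (helper12)

`milnor_ringHom`: for fibre product rings `Pr p q = B ×_A A'`, `Pr p₁ q₁ = B₁ ×_{A₁} A'₁` and
compatible maps `α : A' → A'₁`, `β : B → B₁`, `γ : A → A₁` with `A₁ = B₁ ⊗_B A = A'₁ ⊗_{A'} A`, the map
`μ : B' ≅ Pr p q → Pr p₁ q₁` is of finite type / flat / flat+f.p. / smooth / étale / finite iff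
both `α` and `β` are; moreover `B₁ = B ⊗_{B'} Pr₁` and `A'₁ = A' ⊗_{B'} Pr₁`.
-/

set_option autoImplicit false
set_option linter.style.haveILetI false
universe u
open TensorProduct CategoryTheory

namespace Groth.Agent.Lib.Helper12.MilnorAlg

open Groth.Agent.Lib.helper8 Groth.Agent.Lib.helper8.PinchAlg
open Groth.Agent.Lib.Helper12.SpecPushout Groth.Agent.Lib.Helper12.Ferrand1

/-- the statement of S6900 as a library theorem -/
theorem milnor_algebra (B' B A' A : Type u) [CommRing B'] [CommRing B] [CommRing A'] [CommRing A]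
    [Algebra B' B] [Algebra B' A'] [Algebra B A] [Algebra A' A] [Algebra B' A] [IsScalarTower B' B A] [IsScalarTower B' A' A]
    (hsq : EtMil.IsFibreSquare B' B A' A)
    (D' D C' C : Type u) [CommRing D'] [CommRing D] [CommRing C'] [CommRing C]
    [Algebra D' D] [Algebra D' C'] [Algebra D C] [Algebra C' C] [Algebra D' C] [IsScalarTower D' D C] [IsScalarTower D' C' C]
    (hsq' : EtMil.IsFibreSquare D' D C' C)
    [Algebra B' D'] [Algebra B D] [Algebra A' C'] [Algebra A C]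
    [Algebra B' D] [IsScalarTower B' B D] [IsScalarTower B' D' D]
    [Algebra B' C'] [IsScalarTower B' A' C'] [IsScalarTower B' D' C']
    [Algebra B C] [IsScalarTower B A C] [IsScalarTower B D C]
    [Algebra A' C] [IsScalarTower A' A C] [IsScalarTower A' C' C]
    [Algebra.IsPushout B D A C] [Algebra.IsPushout A' C' A C] :
    (Algebra.FiniteType B' D' ↔ Algebra.FiniteType B D ∧ Algebra.FiniteType A' C') ∧
    (Module.Flat B' D' ↔ Module.Flat B D ∧ Module.Flat A' C') ∧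
    (Module.Flat B' D' ∧ Algebra.FinitePresentation B' D' ↔
      (Module.Flat B D ∧ Algebra.FinitePresentation B D) ∧ (Module.Flat A' C' ∧ Algebra.FinitePresentation A' C')) ∧
    (Algebra.Smooth B' D' ↔ Algebra.Smooth B D ∧ Algebra.Smooth A' C') ∧
    (Algebra.Etale B' D' ↔ Algebra.Etale B D ∧ Algebra.Etale A' C') := by
  classical
  have hL : Algebra.IsPushout B' B D' D :=
    isPushout_left hsq hsq'
  have hR : Algebra.IsPushout B' A' D' C' :=
    isPushout_right hsq hsq'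
  let eD : B ⊗[B'] D' ≃ₐ[B] D := Algebra.IsPushout.equiv B' B D' D
  let eC : A' ⊗[B'] D' ≃ₐ[A'] C' := Algebra.IsPushout.equiv B' A' D' C'
  have hp := isPinch_of_isFibreSquare hsq
  have hp' := isPinch_of_isFibreSquare hsq'
  have hFlat : Module.Flat B D ∧ Module.Flat A' C' → Module.Flat B' D' := by
    rintro ⟨h1, h2⟩
    have : Module.Flat B (B ⊗[B'] D') := Module.Flat.of_linearEquiv eD.toLinearEquiv
    have : Module.Flat A' (A' ⊗[B'] D') := Module.Flat.of_linearEquiv eC.toLinearEquiv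
    exact flat_of_pinch hp D'
  have hFP : (Module.Flat B D ∧ Algebra.FinitePresentation B D) ∧
      (Module.Flat A' C' ∧ Algebra.FinitePresentation A' C') →
      Module.Flat B' D' ∧ Algebra.FinitePresentation B' D' := by
    rintro ⟨⟨h1, h1'⟩, ⟨h2, h2'⟩⟩
    have := hFlat ⟨h1, h2⟩
    have : Algebra.FinitePresentation B (B ⊗[B'] D') := Algebra.FinitePresentation.equiv eD.symm
    have : Algebra.FinitePresentation A' (A' ⊗[B'] D') :=
      Algebra.FinitePresentation.equiv eC.symm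
    exact ⟨inferInstance,
      finitePresentation_of_pinch_alg hp D'⟩
  have hSm : Algebra.Smooth B D ∧ Algebra.Smooth A' C' → Algebra.Smooth B' D' := by
    rintro ⟨h1, h2⟩
    obtain ⟨hfl, hfp⟩ := hFP ⟨⟨inferInstance, h1.finitePresentation⟩,
      ⟨inferInstance, h2.finitePresentation⟩⟩
    have : Algebra.Smooth B (B ⊗[B'] D') := Algebra.Smooth.of_equiv eD.symm
    have : Algebra.Smooth A' (A' ⊗[B'] D') := Algebra.Smooth.of_equiv eC.symm
    exact smooth_of_pinch hp D'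
  refine ⟨⟨?_, ?_⟩, ⟨?_, hFlat⟩, ⟨?_, hFP⟩, ⟨?_, hSm⟩, ⟨?_, ?_⟩⟩
  · intro h
    exact ⟨Algebra.FiniteType.equiv inferInstance eD, Algebra.FiniteType.equiv inferInstance eC⟩
  · rintro ⟨h1, h2⟩
    have : Algebra.FiniteType B (B ⊗[B'] D') := Algebra.FiniteType.equiv h1 eD.symm
    have : Algebra.FiniteType A' (A' ⊗[B'] D') := Algebra.FiniteType.equiv h2 eC.symm
    exact finiteType_of_pinch hp D'
  · intro h
    exact ⟨Module.Flat.of_linearEquiv eD.symm.toLinearEquiv,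
      Module.Flat.of_linearEquiv eC.symm.toLinearEquiv⟩
  · rintro ⟨h, h'⟩
    exact ⟨⟨Module.Flat.of_linearEquiv eD.symm.toLinearEquiv, Algebra.FinitePresentation.equiv eD⟩,
      ⟨Module.Flat.of_linearEquiv eC.symm.toLinearEquiv, Algebra.FinitePresentation.equiv eC⟩⟩
  · intro h
    exact ⟨Algebra.Smooth.of_equiv eD, Algebra.Smooth.of_equiv eC⟩
  · intro h
    exact ⟨Algebra.Etale.of_equiv eD, Algebra.Etale.of_equiv eC⟩
  · rintro ⟨h1, h2⟩
    have := hSm ⟨inferInstance, inferInstance⟩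
    have : Algebra.FormallyUnramified B' D' :=
      formallyUnramified_of_pinch (R := B') (Q := B) (Bq := A')
        (T := D') (TQ := D) (TB := C') hp'
    exact ⟨Algebra.FormallyEtale.of_formallyUnramified_and_formallySmooth, inferInstance⟩


section

variable {A A' B A₁ A'₁ B₁ B' : Type u} [CommRing A] [CommRing A'] [CommRing B] [CommRing A₁]
  [CommRing A'₁] [CommRing B₁] [CommRing B']
  (p : A' →+* A) (q : B →+* A) (p₁ : A'₁ →+* A₁) (q₁ : B₁ →+* A₁)
  (α : A' →+* A'₁) (β : B →+* B₁) (γ : A →+* A₁)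
  (hp : p₁.comp α = γ.comp p) (hq : q₁.comp β = γ.comp q)

include hp hq in
theorem milnor_ringHom (hps : Function.Surjective p) (hp₁s : Function.Surjective p₁)
    (γ₀ : B' →+* Pr p q) (hγ₀ : Function.Bijective γ₀)
    (po1 : IsPushout (CommRingCat.ofHom β) (CommRingCat.ofHom q) (CommRingCat.ofHom q₁)
      (CommRingCat.ofHom γ))
    (po2 : IsPushout (CommRingCat.ofHom α) (CommRingCat.ofHom p) (CommRingCat.ofHom p₁)
      (CommRingCat.ofHom γ)) :
    (((mapPr p q p₁ q₁ α β γ hp hq).comp γ₀).FiniteType ↔ β.FiniteType ∧ α.FiniteType) ∧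
    (((mapPr p q p₁ q₁ α β γ hp hq).comp γ₀).Flat ↔ β.Flat ∧ α.Flat) ∧
    ((((mapPr p q p₁ q₁ α β γ hp hq).comp γ₀).Flat ∧
        ((mapPr p q p₁ q₁ α β γ hp hq).comp γ₀).FinitePresentation) ↔
      (β.Flat ∧ β.FinitePresentation) ∧ (α.Flat ∧ α.FinitePresentation)) ∧
    (((mapPr p q p₁ q₁ α β γ hp hq).comp γ₀).Smooth ↔ β.Smooth ∧ α.Smooth) ∧
    (((mapPr p q p₁ q₁ α β γ hp hq).comp γ₀).Etale ↔ β.Etale ∧ α.Etale) ∧
    (((mapPr p q p₁ q₁ α β γ hp hq).comp γ₀).Finite ↔ β.Finite ∧ α.Finite) ∧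
    IsPushout (CommRingCat.ofHom ((φ₁ p q).comp γ₀))
      (CommRingCat.ofHom ((mapPr p q p₁ q₁ α β γ hp hq).comp γ₀))
      (CommRingCat.ofHom β) (CommRingCat.ofHom (φ₁ p₁ q₁)) ∧
    IsPushout (CommRingCat.ofHom ((φ₂ p q).comp γ₀))
      (CommRingCat.ofHom ((mapPr p q p₁ q₁ α β γ hp hq).comp γ₀))
      (CommRingCat.ofHom α) (CommRingCat.ofHom (φ₂ p₁ q₁)) := by
  set μ := (mapPr p q p₁ q₁ α β γ hp hq).comp γ₀ with hμ
  -- algebra structures
  letI aB'B : Algebra B' B := ((φ₁ p q).comp γ₀).toAlgebra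
  letI aB'A' : Algebra B' A' := ((φ₂ p q).comp γ₀).toAlgebra
  letI aBA : Algebra B A := q.toAlgebra
  letI aA'A : Algebra A' A := p.toAlgebra
  letI aB'A : Algebra B' A := (q.comp ((φ₁ p q).comp γ₀)).toAlgebra
  haveI t1 : IsScalarTower B' B A := IsScalarTower.of_algebraMap_eq (fun _ => rfl)
  haveI t2 : IsScalarTower B' A' A := IsScalarTower.of_algebraMap_eq (fun x => q_φ₁ p q (γ₀ x))
  letI aD'D : Algebra (Pr p₁ q₁) B₁ := (φ₁ p₁ q₁).toAlgebra
  letI aD'C' : Algebra (Pr p₁ q₁) A'₁ := (φ₂ p₁ q₁).toAlgebra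
  letI aDC : Algebra B₁ A₁ := q₁.toAlgebra
  letI aC'C : Algebra A'₁ A₁ := p₁.toAlgebra
  letI aD'C : Algebra (Pr p₁ q₁) A₁ := (q₁.comp (φ₁ p₁ q₁)).toAlgebra
  haveI t3 : IsScalarTower (Pr p₁ q₁) B₁ A₁ := IsScalarTower.of_algebraMap_eq (fun _ => rfl)
  haveI t4 : IsScalarTower (Pr p₁ q₁) A'₁ A₁ :=
    IsScalarTower.of_algebraMap_eq (fun x => q_φ₁ p₁ q₁ x)
  letI aB'D' : Algebra B' (Pr p₁ q₁) := μ.toAlgebra
  letI aBD : Algebra B B₁ := β.toAlgebra
  letI aA'C' : Algebra A' A'₁ := α.toAlgebra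
  letI aAC : Algebra A A₁ := γ.toAlgebra
  letI aB'D : Algebra B' B₁ := ((φ₁ p₁ q₁).comp μ).toAlgebra
  haveI t5 : IsScalarTower B' B B₁ := IsScalarTower.of_algebraMap_eq (fun _ => rfl)
  haveI t6 : IsScalarTower B' (Pr p₁ q₁) B₁ := IsScalarTower.of_algebraMap_eq (fun _ => rfl)
  letI aB'C' : Algebra B' A'₁ := ((φ₂ p₁ q₁).comp μ).toAlgebra
  haveI t7 : IsScalarTower B' A' A'₁ := IsScalarTower.of_algebraMap_eq (fun _ => rfl)
  haveI t8 : IsScalarTower B' (Pr p₁ q₁) A'₁ := IsScalarTower.of_algebraMap_eq (fun _ => rfl)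
  letI aBC : Algebra B A₁ := (q₁.comp β).toAlgebra
  haveI t9 : IsScalarTower B A A₁ := IsScalarTower.of_algebraMap_eq (fun x =>
    congrArg (fun f : B →+* A₁ => f x) hq)
  haveI t10 : IsScalarTower B B₁ A₁ := IsScalarTower.of_algebraMap_eq (fun _ => rfl)
  letI aA'C : Algebra A' A₁ := (p₁.comp α).toAlgebra
  haveI t11 : IsScalarTower A' A A₁ := IsScalarTower.of_algebraMap_eq (fun x =>
    congrArg (fun f : A' →+* A₁ => f x) hp)
  haveI t12 : IsScalarTower A' A'₁ A₁ := IsScalarTower.of_algebraMap_eq (fun _ => rfl)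
  haveI po1' : Algebra.IsPushout B B₁ A A₁ := CommRingCat.isPushout_iff_isPushout.mp po1
  haveI po2' : Algebra.IsPushout A' A'₁ A A₁ := CommRingCat.isPushout_iff_isPushout.mp po2
  have hsq : EtMil.IsFibreSquare B' B A' A := by
    refine ⟨hps, fun b a' hba' => ?_⟩
    obtain ⟨x, hx⟩ := hγ₀.2 ⟨(b, a'), hba'⟩
    refine ⟨x, ⟨?_, ?_⟩, ?_⟩
    · show (φ₁ p q) (γ₀ x) = b
      rw [hx]; rfl
    · show (φ₂ p q) (γ₀ x) = a'
      rw [hx]; rfl
    · rintro y ⟨hy1, hy2⟩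
      apply hγ₀.1
      rw [hx]
      exact Subtype.ext (Prod.ext hy1 hy2)
  have hsq' : EtMil.IsFibreSquare (Pr p₁ q₁) B₁ A'₁ A₁ := by
    refine ⟨hp₁s, fun b a' hba' => ?_⟩
    refine ⟨⟨(b, a'), hba'⟩, ⟨rfl, rfl⟩, ?_⟩
    rintro y ⟨hy1, hy2⟩
    exact Subtype.ext (Prod.ext hy1 hy2)
  haveI hL : Algebra.IsPushout B' B (Pr p₁ q₁) B₁ := isPushout_left hsq hsq'
  haveI hR : Algebra.IsPushout B' A' (Pr p₁ q₁) A'₁ := isPushout_right hsq hsq'
  have hpinch := isPinch_of_isFibreSquare hsq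
  let eD : B ⊗[B'] (Pr p₁ q₁) ≃ₐ[B] B₁ := Algebra.IsPushout.equiv B' B (Pr p₁ q₁) B₁
  let eC : A' ⊗[B'] (Pr p₁ q₁) ≃ₐ[A'] A'₁ := Algebra.IsPushout.equiv B' A' (Pr p₁ q₁) A'₁
  have hfin : Module.Finite B' (Pr p₁ q₁) ↔ Module.Finite B B₁ ∧ Module.Finite A' A'₁ := by
    constructor
    · intro h
      exact ⟨Module.Finite.equiv eD.toLinearEquiv, Module.Finite.equiv eC.toLinearEquiv⟩
    · rintro ⟨h1, h2⟩
      haveI : Module.Finite B (B ⊗[B'] (Pr p₁ q₁)) := Module.Finite.equiv eD.symm.toLinearEquiv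
      haveI : Module.Finite A' (A' ⊗[B'] (Pr p₁ q₁)) := Module.Finite.equiv eC.symm.toLinearEquiv
      exact finite_of_pinch hpinch (Pr p₁ q₁)
  have key := Groth.Agent.Lib.Helper12.MilnorAlg.milnor_algebra B' B A' A hsq (Pr p₁ q₁) B₁ A'₁ A₁ hsq'
  refine ⟨key.1, key.2.1, key.2.2.1, key.2.2.2.1, key.2.2.2.2, hfin, ?_, ?_⟩
  · exact CommRingCat.isPushout_iff_isPushout.mpr hL
  · exact CommRingCat.isPushout_iff_isPushout.mpr hR

end

end Groth.Agent.Lib.Helper12.MilnorAlg
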