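import Mathlib
import Groth.Agent.Lib.Helper12.MilnorAlg3
import Groth.Agent.Lib.Helper12.Ferrand9
import Groth.Agent.Lib.Helper12.Ferrand7

set_option autoImplicit false
set_option linter.style.haveILetI false
universe u
open CategoryTheory AlgebraicGeometry Opposite TopologicalSpace Limits

namespace Groth.Agent.Lib.Helper12.FerrandFun

open Groth.Agent.Lib.Helper12.SpecPushout Groth.Agent.Lib.Helper12.Ferrand1
  Groth.Agent.Lib.Helper12.Ferrand Groth.Agent.Lib.Helper12.MilnorAlg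

section Charts

variable {X Y Z X' Y' Z' : Scheme.{u}} {i : Z ⟶ X} {j : Z ⟶ Y} {i' : Z' ⟶ X'} {j' : Z' ⟶ Y'}
  {f : X' ⟶ X} {g : Y' ⟶ Y} {c : Z' ⟶ Z}
  (hX : IsPullback i' c f i) (hY : IsPullback j' c g j)
  (k : GoodPair i j) (k' : GoodPair i' j') (hU : k'.U ≤ f ⁻¹ᵁ k.U) (hV : k'.V ≤ g ⁻¹ᵁ k.V)

include hX hU in
theorem W_le_W : k'.W ≤ c ⁻¹ᵁ k.W := by
  intro z hz
  have h1 : f.base (i'.base z) ∈ k.U := hU hz
  have h2 : (i' ≫ f).base z ∈ k.U := by simpa using h1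
  rw [hX.w] at h2
  simpa using h2

/-- restriction of `f` to the charts -/
noncomputable def αk : Γ(X, k.U) →+* Γ(X', k'.U) := (f.appLE k.U k'.U hU).hom
/-- restriction of `g` to the charts -/
noncomputable def βk : Γ(Y, k.V) →+* Γ(Y', k'.V) := (g.appLE k.V k'.V hV).hom
/-- restriction of `c` to the charts -/
noncomputable def γk : Γ(Z, k.W) →+* Γ(Z', k'.W) :=
  (c.appLE k.W k'.W (W_le_W hX k k' hU)).hom

theorem hp_k : k'.p.comp (αk k k' hU) = (γk hX k k' hU).comp k.p := by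
  have h1 : f.appLE k.U k'.U hU ≫ i'.appLE k'.U k'.W le_rfl = (i' ≫ f).appLE k.U k'.W _ :=
    Scheme.Hom.appLE_comp_appLE ..
  have h2 : i.appLE k.U k.W le_rfl ≫ c.appLE k.W k'.W (W_le_W hX k k' hU) =
      (c ≫ i).appLE k.U k'.W _ := Scheme.Hom.appLE_comp_appLE ..
  have h3 := appLE_congr_hom (i' ≫ f) (c ≫ i) hX.w k.U k'.W
    (le_rfl.trans ((Opens.map i'.base).map (homOfLE hU)).le)
    ((W_le_W hX k k' hU).trans le_rfl)
  have : f.appLE k.U k'.U hU ≫ i'.appLE k'.U k'.W le_rfl =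
      i.appLE k.U k.W le_rfl ≫ c.appLE k.W k'.W (W_le_W hX k k' hU) := by
    rw [h1, h2, h3]
  exact congrArg CommRingCat.Hom.hom this

include hX hY in
theorem hq_k : k'.q.comp (βk k k' hV) = (γk hX k k' hU).comp k.q := by
  have h1 : g.appLE k.V k'.V hV ≫ j'.appLE k'.V k'.W k'.W_le = (j' ≫ g).appLE k.V k'.W _ :=
    Scheme.Hom.appLE_comp_appLE ..
  have h2 : j.appLE k.V k.W k.W_le ≫ c.appLE k.W k'.W (W_le_W hX k k' hU) =
      (c ≫ j).appLE k.V k'.W _ := Scheme.Hom.appLE_comp_appLE ..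
  have h3 := appLE_congr_hom (j' ≫ g) (c ≫ j) hY.w k.V k'.W
    (k'.W_le.trans ((Opens.map j'.base).map (homOfLE hV)).le)
    ((W_le_W hX k k' hU).trans ((Opens.map c.base).map (homOfLE k.W_le)).le)
  have : g.appLE k.V k'.V hV ≫ j'.appLE k'.V k'.W k'.W_le =
      j.appLE k.V k.W k.W_le ≫ c.appLE k.W k'.W (W_le_W hX k k' hU) := by
    rw [h1, h2, h3]
  exact congrArg CommRingCat.Hom.hom this

include hX in
/-- `Γ(Z', W') = Γ(X', U') ⊗_{Γ(X, U)} Γ(Z, W)` -/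
theorem po2_k [IsAffineHom i] : IsPushout (CommRingCat.ofHom (αk k k' hU)) (CommRingCat.ofHom k.p)
    (CommRingCat.ofHom k'.p) (CommRingCat.ofHom (γk hX k k' hU)) := by
  have hUY : k'.W = i' ⁻¹ᵁ k'.U ⊓ c ⁻¹ᵁ k.W :=
    (inf_eq_left.mpr (W_le_W hX k k' hU)).symm
  have := isIso_pushoutSection_of_isAffineOpen hX (US := k.U) (UT := k.W) (UX := k'.U)
    (UY := k'.W) le_rfl hU hUY k.hU k.hW k'.hU
  exact (isIso_pushoutSection_iff hX le_rfl hU hUY).mp this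

include hX hY in
/-- `Γ(Z', W') = Γ(Y', V') ⊗_{Γ(Y, V)} Γ(Z, W)` -/
theorem po1_k [IsAffineHom i] : IsPushout (CommRingCat.ofHom (βk k k' hV)) (CommRingCat.ofHom k.q)
    (CommRingCat.ofHom k'.q) (CommRingCat.ofHom (γk hX k k' hU)) := by
  have hUY : k'.W = j' ⁻¹ᵁ k'.V ⊓ c ⁻¹ᵁ k.W := by
    rw [← k'.h]
    exact (inf_eq_left.mpr (W_le_W hX k k' hU)).symm
  have := isIso_pushoutSection_of_isAffineOpen hY (US := k.V) (UT := k.W) (UX := k'.V)
    (UY := k'.W) k.W_le hV hUY k.hV k.hW k'.hV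
  exact (isIso_pushoutSection_iff hY k.W_le hV hUY).mp this

end Charts

section Model

variable {X Y Z P : Scheme.{u}} {i : Z ⟶ X} {j : Z ⟶ Y} [IsClosedImmersion i]
  (hcov : ∀ y : Y, ∃ k : GoodPair i j, y ∈ k.V) {a : X ⟶ P} {b : Y ⟶ P}
  (hP : IsPushout i j a b)

/-- comparison isomorphism between the glued model and an arbitrary pushout -/
noncomputable def eP : Ferrand.P i j ≅ P := (Ferrand.isPushout i j hcov).isoIsPushout _ _ hP

theorem a_eP : Ferrand.a i j hcov ≫ (eP hcov hP).hom = a :=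
  (Ferrand.isPushout i j hcov).inl_isoIsPushout_hom _ _ hP

theorem b_eP : Ferrand.b i j hcov ≫ (eP hcov hP).hom = b :=
  (Ferrand.isPushout i j hcov).inr_isoIsPushout_hom _ _ hP

include hcov hP in
theorem joint_surj (x : P) : (∃ x' : X, a.base x' = x) ∨ (∃ y : Y, b.base y = x) := by
  rcases Ferrand.joint_surjective i j hcov ((eP hcov hP).inv.base x) with ⟨x', hx'⟩ | ⟨y, hy⟩
  · left
    refine ⟨x', ?_⟩
    rw [← a_eP hcov hP, Scheme.Hom.comp_apply]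
    erw [hx']
    rw [← Scheme.Hom.comp_apply, Iso.inv_hom_id]
    rfl
  · right
    refine ⟨y, ?_⟩
    rw [← b_eP hcov hP, Scheme.Hom.comp_apply]
    erw [hy]
    rw [← Scheme.Hom.comp_apply, Iso.inv_hom_id]
    rfl

variable [IsAffineHom a] [IsAffineHom b] (O : P.Opens) (hO : IsAffineOpen O)

/-- the good pair of preimages of an affine open of the pushout -/
noncomputable def kO : GoodPair i j :=
  ⟨a ⁻¹ᵁ O, b ⁻¹ᵁ O, hO.preimage a, hO.preimage b, by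
    rw [← Scheme.Hom.comp_preimage, ← Scheme.Hom.comp_preimage, hP.w]⟩

/-- the structure map `Γ(P, O) → Γ(Y, b⁻¹O) ×_{Γ(Z, W)} Γ(X, a⁻¹O)` -/
noncomputable def γO : Γ(P, O) →+* (kO hP O hO).R :=
  Groth.Agent.Lib.Helper12.Ferrand9.γ (f := a) (t := b) hP.w (kO hP O hO) O le_rfl le_rfl

theorem ιP_kO : ιP i j (kO hP O hO) ≫ (eP hcov hP).hom =
    Groth.Agent.Lib.Helper12.Ferrand9.g (f := a) (t := b) hP.w (kO hP O hO) O le_rfl le_rfl ≫
      hO.fromSpec :=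
  Groth.Agent.Lib.Helper12.Ferrand9.ιP_π hP.w hcov (eP hcov hP).hom (a_eP hcov hP) (b_eP hcov hP)
    (kO hP O hO) O hO le_rfl le_rfl

theorem range_ιP_kO :
    Set.range (ιP i j (kO hP O hO) ≫ (eP hcov hP).hom).base = (O : Set P) := by
  ext x
  have hx₀ : (eP hcov hP).hom.base ((eP hcov hP).inv.base x) = x := by
    rw [← Scheme.Hom.comp_apply, Iso.inv_hom_id]; rfl
  have key : x ∈ Set.range (ιP i j (kO hP O hO) ≫ (eP hcov hP).hom).base ↔
      (eP hcov hP).inv.base x ∈ (ιP i j (kO hP O hO)).opensRange := by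
    constructor
    · rintro ⟨w, hw⟩
      refine ⟨w, ?_⟩
      rw [← hw, Scheme.Hom.comp_apply, ← Scheme.Hom.comp_apply _ (eP hcov hP).inv,
        Iso.hom_inv_id]
      rfl
    · rintro ⟨w, hw⟩
      refine ⟨w, ?_⟩
      rw [Scheme.Hom.comp_apply]
      erw [hw]
      exact hx₀
  rw [key]
  rcases Ferrand.joint_surjective i j hcov ((eP hcov hP).inv.base x) with ⟨x', hx'⟩ | ⟨y, hy⟩
  · have h1 : a.base x' = x := by
      rw [← a_eP hcov hP, Scheme.Hom.comp_apply]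
      erw [hx']
      exact hx₀
    rw [← hx', ← h1]
    change x' ∈ Ferrand.a i j hcov ⁻¹ᵁ (ιP i j (kO hP O hO)).opensRange ↔ x' ∈ a ⁻¹ᵁ O
    rw [Ferrand.a_preimage]
    rfl
  · have h1 : b.base y = x := by
      rw [← b_eP hcov hP, Scheme.Hom.comp_apply]
      erw [hy]
      exact hx₀
    rw [← hy, ← h1]
    change y ∈ Ferrand.b i j hcov ⁻¹ᵁ (ιP i j (kO hP O hO)).opensRange ↔ y ∈ b ⁻¹ᵁ O
    rw [Ferrand.b_preimage]
    rfl

include hcov in
/-- **sections of a pushout**: `Γ(P, O)` is the fibre product of `Γ(X, a⁻¹O)` and `Γ(Y, b⁻¹O)` -/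
theorem bijective_γO : Function.Bijective (γO hP O hO) := by
  have hr : Set.range (ιP i j (kO hP O hO) ≫ (eP hcov hP).hom).base =
      Set.range hO.fromSpec.base := by
    rw [range_ιP_kO hcov hP O hO, hO.range_fromSpec]
  have h1 : Groth.Agent.Lib.Helper12.Ferrand9.g (f := a) (t := b) hP.w (kO hP O hO) O le_rfl le_rfl =
      (IsOpenImmersion.isoOfRangeEq _ _ hr).hom := by
    rw [← cancel_mono hO.fromSpec, IsOpenImmersion.isoOfRangeEq_hom_fac, ιP_kO]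
  have h2 : IsIso (Groth.Agent.Lib.Helper12.Ferrand9.g (f := a) (t := b) hP.w (kO hP O hO) O
      le_rfl le_rfl) := by
    rw [h1]; infer_instance
  have h3 : IsIso (Spec.map (CommRingCat.ofHom (γO hP O hO))) := h2
  exact isIso_SpecMap_iff.mp h3

end Model

section Fun

variable {X Y Z P X' Y' Z' P' : Scheme.{u}} {i : Z ⟶ X} {j : Z ⟶ Y} [IsClosedImmersion i]
  {i' : Z' ⟶ X'} {j' : Z' ⟶ Y'} [IsClosedImmersion i']
  (hcov : ∀ y : Y, ∃ k : GoodPair i j, y ∈ k.V)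
  (hcov' : ∀ y : Y', ∃ k : GoodPair i' j', y ∈ k.V)
  {a : X ⟶ P} {b : Y ⟶ P} (hP : IsPushout i j a b)
  {a' : X' ⟶ P'} {b' : Y' ⟶ P'} (hP' : IsPushout i' j' a' b')
  {f : X' ⟶ X} {g : Y' ⟶ Y} {c : Z' ⟶ Z}
  (hX : IsPullback i' c f i) (hY : IsPullback j' c g j)
  (h : P' ⟶ P) (ha : a' ≫ h = f ≫ a) (hb : b' ≫ h = g ≫ b)

include hX hY hP in
theorem hsq' : i' ≫ f ≫ a = j' ≫ g ≫ b := by
  rw [← Category.assoc, hX.w, ← Category.assoc, hY.w, Category.assoc, Category.assoc, hP.w]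

/-- the structure map of the model of `P'` to `P` -/
noncomputable def π' : Ferrand.P i' j' ⟶ P := (eP hcov' hP').hom ≫ h

include ha in
theorem a_π' : Ferrand.a i' j' hcov' ≫ π' hcov' hP' h = f ≫ a := by
  rw [π', ← Category.assoc, a_eP, ha]

include hb in
theorem b_π' : Ferrand.b i' j' hcov' ≫ π' hcov' hP' h = g ≫ b := by
  rw [π', ← Category.assoc, b_eP, hb]

variable [IsAffineHom a] [IsAffineHom b] (O : P.Opens) (hO : IsAffineOpen O)
  (k' : GoodPair i' j') (hU' : k'.U ≤ (f ≫ a) ⁻¹ᵁ O) (hV' : k'.V ≤ (g ≫ b) ⁻¹ᵁ O)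

/-- the ring map of the chart of `k'` over `O` -/
noncomputable def γ' : Γ(P, O) →+* k'.R :=
  Groth.Agent.Lib.Helper12.Ferrand9.γ (f := f ≫ a) (t := g ≫ b) (hsq' hP hX hY) k' O hU' hV'

include ha hb in
theorem ιP_π' : ιP i' j' k' ≫ π' hcov' hP' h =
    Groth.Agent.Lib.Helper12.Ferrand9.g (f := f ≫ a) (t := g ≫ b) (hsq' hP hX hY) k' O hU' hV' ≫
      hO.fromSpec :=
  Groth.Agent.Lib.Helper12.Ferrand9.ιP_π (hsq' hP hX hY) hcov' (π' hcov' hP' h)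
    (a_π' hcov' hP' h ha) (b_π' hcov' hP' h hb) k' O hO hU' hV'

theorem γ'_eq : γ' hP hX hY O k' hU' hV' =
    (mapPr (kO hP O hO).p (kO hP O hO).q k'.p k'.q (αk (kO hP O hO) k' hU')
      (βk (kO hP O hO) k' hV') (γk hX (kO hP O hO) k' hU') (hp_k hX (kO hP O hO) k' hU')
      (hq_k hX hY (kO hP O hO) k' hU' hV')).comp (γO hP O hO) := by
  ext s
  · change ((g ≫ b).appLE O k'.V hV').hom s =
      (g.appLE (b ⁻¹ᵁ O) k'.V hV').hom ((b.appLE O (b ⁻¹ᵁ O) le_rfl).hom s)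
    rw [← Scheme.Hom.appLE_comp_appLE g b O (b ⁻¹ᵁ O) k'.V le_rfl hV']
    rfl
  · change ((f ≫ a).appLE O k'.U hU').hom s =
      (f.appLE (a ⁻¹ᵁ O) k'.U hU').hom ((a.appLE O (a ⁻¹ᵁ O) le_rfl).hom s)
    rw [← Scheme.Hom.appLE_comp_appLE f a O (a ⁻¹ᵁ O) k'.U le_rfl hU']
    rfl

include hcov hO in
/-- **chart-level comparison**: the ring map of a chart of `P' → P` has one of the standard
properties iff the corresponding ring maps of `X' → X` and `Y' → Y` have it; and the chart squares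
are cocartesian. -/
theorem charts_iff :
    ((γ' hP hX hY O k' hU' hV').FiniteType ↔
      (g.appLE (b ⁻¹ᵁ O) k'.V hV').hom.FiniteType ∧ (f.appLE (a ⁻¹ᵁ O) k'.U hU').hom.FiniteType) ∧
    ((γ' hP hX hY O k' hU' hV').Flat ↔
      (g.appLE (b ⁻¹ᵁ O) k'.V hV').hom.Flat ∧ (f.appLE (a ⁻¹ᵁ O) k'.U hU').hom.Flat) ∧
    (((γ' hP hX hY O k' hU' hV').Flat ∧ (γ' hP hX hY O k' hU' hV').FinitePresentation) ↔
      ((g.appLE (b ⁻¹ᵁ O) k'.V hV').hom.Flat ∧
        (g.appLE (b ⁻¹ᵁ O) k'.V hV').hom.FinitePresentation) ∧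
      ((f.appLE (a ⁻¹ᵁ O) k'.U hU').hom.Flat ∧
        (f.appLE (a ⁻¹ᵁ O) k'.U hU').hom.FinitePresentation)) ∧
    ((γ' hP hX hY O k' hU' hV').Smooth ↔
      (g.appLE (b ⁻¹ᵁ O) k'.V hV').hom.Smooth ∧ (f.appLE (a ⁻¹ᵁ O) k'.U hU').hom.Smooth) ∧
    ((γ' hP hX hY O k' hU' hV').Etale ↔
      (g.appLE (b ⁻¹ᵁ O) k'.V hV').hom.Etale ∧ (f.appLE (a ⁻¹ᵁ O) k'.U hU').hom.Etale) ∧
    ((γ' hP hX hY O k' hU' hV').Finite ↔
      (g.appLE (b ⁻¹ᵁ O) k'.V hV').hom.Finite ∧ (f.appLE (a ⁻¹ᵁ O) k'.U hU').hom.Finite) ∧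
    IsPushout (b.appLE O (b ⁻¹ᵁ O) le_rfl) (CommRingCat.ofHom (γ' hP hX hY O k' hU' hV'))
      (g.appLE (b ⁻¹ᵁ O) k'.V hV') (CommRingCat.ofHom (φ₁ k'.p k'.q)) ∧
    IsPushout (a.appLE O (a ⁻¹ᵁ O) le_rfl) (CommRingCat.ofHom (γ' hP hX hY O k' hU' hV'))
      (f.appLE (a ⁻¹ᵁ O) k'.U hU') (CommRingCat.ofHom (φ₂ k'.p k'.q)) := by
  rw [γ'_eq hP hX hY O hO k' hU' hV']
  exact milnor_ringHom _ _ _ _ _ _ _ _ _ (kO hP O hO).p_surjective k'.p_surjective (γO hP O hO)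
    (bijective_γO hcov hP O hO) (po1_k hX hY (kO hP O hO) k' hU' hV') (po2_k hX (kO hP O hO) k' hU')

end Fun

section Global

variable {X Y Z P X' Y' Z' P' : Scheme.{u}} {i : Z ⟶ X} {j : Z ⟶ Y} [IsClosedImmersion i]
  {i' : Z' ⟶ X'} {j' : Z' ⟶ Y'} [IsClosedImmersion i']
  (hcov : ∀ y : Y, ∃ k : GoodPair i j, y ∈ k.V)
  (hcov' : ∀ y : Y', ∃ k : GoodPair i' j', y ∈ k.V)
  {a : X ⟶ P} {b : Y ⟶ P} (hP : IsPushout i j a b)
  {a' : X' ⟶ P'} {b' : Y' ⟶ P'} (hP' : IsPushout i' j' a' b')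
  {f : X' ⟶ X} {g : Y' ⟶ Y} {c : Z' ⟶ Z}
  (hX : IsPullback i' c f i) (hY : IsPullback j' c g j)
  (h : P' ⟶ P) (ha : a' ≫ h = f ≫ a) (hb : b' ≫ h = g ≫ b)
  [IsAffineHom a] [IsAffineHom b]

/-- index type of the small charts of `P'` -/
def Small : Type u :=
  {k' : GoodPair i' j' // ∃ O : P.Opens, IsAffineOpen O ∧ k'.U ≤ (f ≫ a) ⁻¹ᵁ O ∧
    k'.V ≤ (g ≫ b) ⁻¹ᵁ O}

include hcov' hP' ha hb in
theorem exists_small' (x : Ferrand.P i' j') : ∃ k : Small (a := a) (b := b) (f := f) (g := g)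
    (i' := i') (j' := j'), x ∈ Set.range (ιP i' j' k.1).base := by
  obtain ⟨k', O, hO, hU, hV, w, hw⟩ := Groth.Agent.Lib.Helper12.Ferrand9.exists_small hcov'
    (π' hcov' hP' h) (a_π' hcov' hP' h ha) (b_π' hcov' hP' h hb) x
  exact ⟨⟨k', O, hO, hU, hV⟩, w, hw⟩

include hcov' hP' ha hb in
theorem exists_small_X (x' : X') : ∃ k : Small (a := a) (b := b) (f := f) (g := g)
    (i' := i') (j' := j'), x' ∈ Set.range k.1.hU.fromSpec.base := by
  obtain ⟨k, w, hw⟩ := exists_small' hcov' hP' h ha hb ((Ferrand.a i' j' hcov').base x')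
  refine ⟨k, ?_⟩
  have h1 : x' ∈ Ferrand.a i' j' hcov' ⁻¹ᵁ (ιP i' j' k.1).opensRange := ⟨w, hw⟩
  rw [Ferrand.a_preimage] at h1
  rw [k.1.hU.range_fromSpec]
  exact h1

include hcov' hP' ha hb in
theorem exists_small_Y (y' : Y') : ∃ k : Small (a := a) (b := b) (f := f) (g := g)
    (i' := i') (j' := j'), y' ∈ Set.range k.1.hV.fromSpec.base := by
  obtain ⟨k, w, hw⟩ := exists_small' hcov' hP' h ha hb ((Ferrand.b i' j' hcov').base y')
  refine ⟨k, ?_⟩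
  have h1 : y' ∈ Ferrand.b i' j' hcov' ⁻¹ᵁ (ιP i' j' k.1).opensRange := ⟨w, hw⟩
  rw [Ferrand.b_preimage] at h1
  rw [k.1.hV.range_fromSpec]
  exact h1

set_option backward.isDefEq.respectTransparency.types false in
include hcov' hP hP' hX hY ha hb in
/-- **local-to-global**: a property of morphisms with an associated ring-hom property holds for
`h : P' → P` iff it holds for `X' → X` and `Y' → Y`, provided the corresponding statement holds
for the ring maps of all small charts. -/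
theorem iff_of_charts (PP : MorphismProperty Scheme.{u})
    (Q : ∀ {R S : Type u} [CommRing R] [CommRing S], (R →+* S) → Prop)
    [HasRingHomProperty PP Q] [PP.IsStableUnderComposition] [PP.IsStableUnderBaseChange]
    (hopen : ∀ {S T : Scheme.{u}} (ι : S ⟶ T) [IsOpenImmersion ι], PP ι)
    (H : ∀ (O : P.Opens) (_ : IsAffineOpen O) (k' : GoodPair i' j')
      (hU' : k'.U ≤ (f ≫ a) ⁻¹ᵁ O) (hV' : k'.V ≤ (g ≫ b) ⁻¹ᵁ O),
      Q (γ' hP hX hY O k' hU' hV') ↔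
        Q (g.appLE (b ⁻¹ᵁ O) k'.V hV').hom ∧ Q (f.appLE (a ⁻¹ᵁ O) k'.U hU').hom) :
    PP h ↔ PP f ∧ PP g := by
  have hπ : PP h ↔ PP (π' hcov' hP' h) :=
    (PP.cancel_left_of_respectsIso (eP hcov' hP').hom h).symm
  -- a general fact
  have hSpec : ∀ {R S : CommRingCat.{u}} (φ : R ⟶ S) {T : Scheme.{u}} (ι : Spec R ⟶ T)
      [IsOpenImmersion ι], PP (Spec.map φ ≫ ι) ↔ Q φ.hom := by
    intro R S φ T ι _
    rw [← HasRingHomProperty.Spec_iff (P := PP)]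
    exact ⟨fun hh => PP.of_postcomp (W' := @IsOpenImmersion) _ ι inferInstance hh,
      fun hh => PP.comp_mem _ _ hh (hopen ι)⟩
  have key1 : ∀ (O : P.Opens) (hO : IsAffineOpen O) (k' : GoodPair i' j')
      (hU' : k'.U ≤ (f ≫ a) ⁻¹ᵁ O) (hV' : k'.V ≤ (g ≫ b) ⁻¹ᵁ O),
      PP (ιP i' j' k' ≫ π' hcov' hP' h) ↔ Q (γ' hP hX hY O k' hU' hV') := by
    intro O hO k' hU' hV'
    rw [ιP_π' hcov' hP hP' hX hY h ha hb O hO k' hU' hV']
    exact hSpec (CommRingCat.ofHom (γ' hP hX hY O k' hU' hV')) hO.fromSpec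
  have key2 : ∀ (O : P.Opens) (hO : IsAffineOpen O) (k' : GoodPair i' j')
      (hU' : k'.U ≤ (f ≫ a) ⁻¹ᵁ O),
      PP (k'.hU.fromSpec ≫ f) ↔ Q (f.appLE (a ⁻¹ᵁ O) k'.U hU').hom := by
    intro O hO k' hU'
    rw [← IsAffineOpen.SpecMap_appLE_fromSpec f (hO.preimage a) k'.hU hU']
    exact hSpec _ _
  have key3 : ∀ (O : P.Opens) (hO : IsAffineOpen O) (k' : GoodPair i' j')
      (hV' : k'.V ≤ (g ≫ b) ⁻¹ᵁ O),
      PP (k'.hV.fromSpec ≫ g) ↔ Q (g.appLE (b ⁻¹ᵁ O) k'.V hV').hom := by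
    intro O hO k' hV'
    rw [← IsAffineOpen.SpecMap_appLE_fromSpec g (hO.preimage b) k'.hV hV']
    exact hSpec _ _
  let 𝒰P : (Ferrand.P i' j').OpenCover :=
    Scheme.Cover.mkOfCovers (Small (a := a) (b := b) (f := f) (g := g) (i' := i') (j' := j'))
      (fun k => (chart i' j').obj k.1) (fun k => ιP i' j' k.1)
      (fun x => exists_small' hcov' hP' h ha hb x)
  let 𝒰X : X'.OpenCover :=
    Scheme.Cover.mkOfCovers (Small (a := a) (b := b) (f := f) (g := g) (i' := i') (j' := j'))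
      (fun k => Spec Γ(X', k.1.U)) (fun k => k.1.hU.fromSpec)
      (fun x => exists_small_X hcov' hP' h ha hb x)
  let 𝒰Y : Y'.OpenCover :=
    Scheme.Cover.mkOfCovers (Small (a := a) (b := b) (f := f) (g := g) (i' := i') (j' := j'))
      (fun k => Spec Γ(Y', k.1.V)) (fun k => k.1.hV.fromSpec)
      (fun x => exists_small_Y hcov' hP' h ha hb x)
  rw [hπ]
  constructor
  · intro hh
    have hQ : ∀ k : Small (a := a) (b := b) (f := f) (g := g) (i' := i') (j' := j'),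
        PP (k.1.hV.fromSpec ≫ g) ∧ PP (k.1.hU.fromSpec ≫ f) := by
      rintro ⟨k', O, hO, hU', hV'⟩
      have h1 : PP (ιP i' j' k' ≫ π' hcov' hP' h) := PP.comp_mem _ _ (hopen _) hh
      have h2 := (H O hO k' hU' hV').mp ((key1 O hO k' hU' hV').mp h1)
      exact ⟨(key3 O hO k' hV').mpr h2.1, (key2 O hO k' hU').mpr h2.2⟩
    exact ⟨IsZariskiLocalAtSource.of_openCover 𝒰X (fun k => (hQ k).2),
      IsZariskiLocalAtSource.of_openCover 𝒰Y (fun k => (hQ k).1)⟩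
  · rintro ⟨hf, hg⟩
    refine IsZariskiLocalAtSource.of_openCover 𝒰P (fun k => ?_)
    obtain ⟨k', O, hO, hU', hV'⟩ := k
    refine (key1 O hO k' hU' hV').mpr ((H O hO k' hU' hV').mpr ⟨?_, ?_⟩)
    · exact (key3 O hO k' hV').mp (PP.comp_mem _ _ (hopen _) hg)
    · exact (key2 O hO k' hU').mp (PP.comp_mem _ _ (hopen _) hf)

end Global

end Groth.Agent.Lib.Helper12.FerrandFun
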