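import Mathlib
import Groth.Agent.Lib.Helper12.FerrandFun1

set_option autoImplicit false
set_option linter.style.haveILetI false
set_option linter.overlappingInstances false
universe u
open CategoryTheory AlgebraicGeometry Opposite TopologicalSpace Limits

namespace Groth.Agent.Lib.Helper12.FerrandFun

open Groth.Agent.Lib.Helper12.SpecPushout Groth.Agent.Lib.Helper12.Ferrand1
  Groth.Agent.Lib.Helper12.Ferrand Groth.Agent.Lib.Helper12.MilnorAlg

section Cart

variable {X Y Z P X' Y' Z' P' : Scheme.{u}} {i : Z ⟶ X} {j : Z ⟶ Y} [IsClosedImmersion i]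
  {i' : Z' ⟶ X'} {j' : Z' ⟶ Y'} [IsClosedImmersion i']
  (hcov : ∀ y : Y, ∃ k : GoodPair i j, y ∈ k.V)
  (hcov' : ∀ y : Y', ∃ k : GoodPair i' j', y ∈ k.V)
  {a : X ⟶ P} {b : Y ⟶ P} (hP : IsPushout i j a b)
  {a' : X' ⟶ P'} {b' : Y' ⟶ P'} (hP' : IsPushout i' j' a' b')
  {f : X' ⟶ X} {g : Y' ⟶ Y} {c : Z' ⟶ Z}
  (hX : IsPullback i' c f i) (hY : IsPullback j' c g j)
  (h : P' ⟶ P) (ha : a' ≫ h = f ≫ a) (hb : b' ≫ h = g ≫ b)
  [IsAffineHom a] [IsAffineHom b]

include hcov hcov' hP hP' hX hY ha hb in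
theorem isPullback_chart_X (O : P.Opens) (hO : IsAffineOpen O) (k' : GoodPair i' j')
    (hU' : k'.U ≤ (f ≫ a) ⁻¹ᵁ O) (hV' : k'.V ≤ (g ≫ b) ⁻¹ᵁ O) :
    IsPullback (aC i' j' k') (k'.hU.fromSpec ≫ f) (ιP i' j' k' ≫ π' hcov' hP' h) a := by
  have hL : IsPullback (Spec.map (f.appLE (a ⁻¹ᵁ O) k'.U hU')) (aC i' j' k')
      (Spec.map (a.appLE O (a ⁻¹ᵁ O) le_rfl))
      (Groth.Agent.Lib.Helper12.Ferrand9.g (f := f ≫ a) (t := g ≫ b) (hsq' hP hX hY) k' O hU' hV') :=
    isPullback_SpecMap_of_isPushout _ _ _ _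
      (charts_iff hcov hP hX hY O hO k' hU' hV').2.2.2.2.2.2.2
  have hR : IsPullback (hO.preimage a).fromSpec (Spec.map (a.appLE O (a ⁻¹ᵁ O) le_rfl)) a
      hO.fromSpec :=
    (IsOpenImmersion.isPullback _ _ _ _
      (IsAffineOpen.SpecMap_appLE_fromSpec a hO (hO.preimage a) le_rfl).symm
      (by rw [hO.opensRange_fromSpec, (hO.preimage a).opensRange_fromSpec])).flip
  have := (hL.paste_horiz hR).flip
  rw [IsAffineOpen.SpecMap_appLE_fromSpec f (hO.preimage a) k'.hU hU',
    ← ιP_π' hcov' hP hP' hX hY h ha hb O hO k' hU' hV'] at this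
  exact this

include hcov hcov' hP hP' hX hY ha hb in
theorem isPullback_chart_Y (O : P.Opens) (hO : IsAffineOpen O) (k' : GoodPair i' j')
    (hU' : k'.U ≤ (f ≫ a) ⁻¹ᵁ O) (hV' : k'.V ≤ (g ≫ b) ⁻¹ᵁ O) :
    IsPullback (bC i' j' k') (k'.hV.fromSpec ≫ g) (ιP i' j' k' ≫ π' hcov' hP' h) b := by
  have hL : IsPullback (Spec.map (g.appLE (b ⁻¹ᵁ O) k'.V hV')) (bC i' j' k')
      (Spec.map (b.appLE O (b ⁻¹ᵁ O) le_rfl))
      (Groth.Agent.Lib.Helper12.Ferrand9.g (f := f ≫ a) (t := g ≫ b) (hsq' hP hX hY) k' O hU' hV') :=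
    isPullback_SpecMap_of_isPushout _ _ _ _
      (charts_iff hcov hP hX hY O hO k' hU' hV').2.2.2.2.2.2.1
  have hR : IsPullback (hO.preimage b).fromSpec (Spec.map (b.appLE O (b ⁻¹ᵁ O) le_rfl)) b
      hO.fromSpec :=
    (IsOpenImmersion.isPullback _ _ _ _
      (IsAffineOpen.SpecMap_appLE_fromSpec b hO (hO.preimage b) le_rfl).symm
      (by rw [hO.opensRange_fromSpec, (hO.preimage b).opensRange_fromSpec])).flip
  have := (hL.paste_horiz hR).flip
  rw [IsAffineOpen.SpecMap_appLE_fromSpec g (hO.preimage b) k'.hV hV',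
    ← ιP_π' hcov' hP hP' hX hY h ha hb O hO k' hU' hV'] at this
  exact this

/-- the open cover of the model of `P'` by small charts -/
noncomputable def coverSmall : (Ferrand.P i' j').OpenCover :=
  Scheme.Cover.mkOfCovers (Small (a := a) (b := b) (f := f) (g := g) (i' := i') (j' := j'))
    (fun k => (chart i' j').obj k.1) (fun k => ιP i' j' k.1)
    (fun x => exists_small' hcov' hP' h ha hb x)

include hcov hP hX hY ha hb in
/-- **cartesian square**: `X' = P' ×_P X` (model form) -/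
theorem isPullback_model_X :
    IsPullback (Ferrand.a i' j' hcov') f (π' hcov' hP' h) a := by
  refine Scheme.isPullback_of_openCover _ _ _ _ (coverSmall hcov' hP' h ha hb)
    (fun (k : Small (a := a) (b := b) (f := f) (g := g) (i' := i') (j' := j')) => ?_)
  obtain ⟨O, hO, hU', hV'⟩ := k.2
  have h1 := isPullback_chart_X hcov hcov' hP hP' hX hY h ha hb O hO k.1 hU' hV'
  have h2 := Ferrand.isPullback_X i' j' hcov' k.1
  refine IsPullback.of_iso h1 h2.isoPullback (Iso.refl _) (Iso.refl _) (Iso.refl _) ?_ ?_ ?_ ?_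
  · exact (Category.comp_id _).trans h2.isoPullback_hom_snd.symm
  · exact (Category.comp_id _).trans
      ((congrArg (· ≫ f) h2.isoPullback_hom_fst.symm).trans (Category.assoc _ _ _))
  · exact (Category.comp_id _).trans (Category.id_comp _).symm
  · exact (Category.comp_id _).trans (Category.id_comp _).symm

include hcov hP hX hY ha hb in
/-- **cartesian square**: `Y' = P' ×_P Y` (model form) -/
theorem isPullback_model_Y :
    IsPullback (Ferrand.b i' j' hcov') g (π' hcov' hP' h) b := by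
  refine Scheme.isPullback_of_openCover _ _ _ _ (coverSmall hcov' hP' h ha hb)
    (fun (k : Small (a := a) (b := b) (f := f) (g := g) (i' := i') (j' := j')) => ?_)
  obtain ⟨O, hO, hU', hV'⟩ := k.2
  have h1 := isPullback_chart_Y hcov hcov' hP hP' hX hY h ha hb O hO k.1 hU' hV'
  have h2 := Ferrand.isPullback_Y i' j' hcov' k.1
  refine IsPullback.of_iso h1 h2.isoPullback (Iso.refl _) (Iso.refl _) (Iso.refl _) ?_ ?_ ?_ ?_
  · exact (Category.comp_id _).trans h2.isoPullback_hom_snd.symm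
  · exact (Category.comp_id _).trans
      ((congrArg (· ≫ g) h2.isoPullback_hom_fst.symm).trans (Category.assoc _ _ _))
  · exact (Category.comp_id _).trans (Category.id_comp _).symm
  · exact (Category.comp_id _).trans (Category.id_comp _).symm

include hcov hcov' hP hP' hX hY ha hb in
/-- **cartesian square**: `X' = P' ×_P X` -/
theorem isPullback_X : IsPullback a' f h a := by
  refine IsPullback.of_iso (isPullback_model_X hcov hcov' hP hP' hX hY h ha hb) (Iso.refl _)
    (eP hcov' hP') (Iso.refl _) (Iso.refl _) ?_ ?_ ?_ ?_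
  · exact (a_eP hcov' hP').trans (Category.id_comp _).symm
  · exact (Category.comp_id _).trans (Category.id_comp _).symm
  · exact Category.comp_id _
  · exact (Category.comp_id _).trans (Category.id_comp _).symm

include hcov hcov' hP hP' hX hY ha hb in
/-- **cartesian square**: `Y' = P' ×_P Y` -/
theorem isPullback_Y : IsPullback b' g h b := by
  refine IsPullback.of_iso (isPullback_model_Y hcov hcov' hP hP' hX hY h ha hb) (Iso.refl _)
    (eP hcov' hP') (Iso.refl _) (Iso.refl _) ?_ ?_ ?_ ?_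
  · exact (b_eP hcov' hP').trans (Category.id_comp _).symm
  · exact (Category.comp_id _).trans (Category.id_comp _).symm
  · exact Category.comp_id _
  · exact (Category.comp_id _).trans (Category.id_comp _).symm

end Cart

section Affine

variable {X Y Z P X' Y' Z' P' : Scheme.{u}} {i : Z ⟶ X} {j : Z ⟶ Y} [IsClosedImmersion i]
  {i' : Z' ⟶ X'} {j' : Z' ⟶ Y'} [IsClosedImmersion i']
  (hcov : ∀ y : Y, ∃ k : GoodPair i j, y ∈ k.V)
  (hcov' : ∀ y : Y', ∃ k : GoodPair i' j', y ∈ k.V)
  {a : X ⟶ P} {b : Y ⟶ P} (hP : IsPushout i j a b)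
  {a' : X' ⟶ P'} {b' : Y' ⟶ P'} (hP' : IsPushout i' j' a' b')
  {f : X' ⟶ X} {g : Y' ⟶ Y} {c : Z' ⟶ Z}
  (hX : IsPullback i' c f i) (hY : IsPullback j' c g j)
  (h : P' ⟶ P) (ha : a' ≫ h = f ≫ a) (hb : b' ≫ h = g ≫ b)
  [IsAffineHom a] [IsAffineHom b] [IsAffineHom f] [IsAffineHom g]
  (O : P.Opens) (hO : IsAffineOpen O)

/-- the good pair of full preimages of an affine open of `P`, when `f`, `g` are affine -/
noncomputable def kO' : GoodPair i' j' :=
  ⟨(f ≫ a) ⁻¹ᵁ O, (g ≫ b) ⁻¹ᵁ O, hO.preimage (f ≫ a), hO.preimage (g ≫ b), by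
    rw [← Scheme.Hom.comp_preimage, ← Scheme.Hom.comp_preimage, hsq' hP hX hY]⟩

include ha hb in
theorem preimage_eq_opensRange :
    π' hcov' hP' h ⁻¹ᵁ O = (ιP i' j' (kO' hP hX hY O hO)).opensRange := by
  ext x
  rcases Ferrand.joint_surjective i' j' hcov' x with ⟨x', rfl⟩ | ⟨y', rfl⟩
  · have h1 : (Ferrand.a i' j' hcov').base x' ∈
        (ιP i' j' (kO' hP hX hY O hO)).opensRange ↔ x' ∈ (kO' hP hX hY O hO).U := by
      rw [← Ferrand.a_preimage i' j' hcov' (kO' hP hX hY O hO)]
      rfl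
    rw [SetLike.mem_coe, SetLike.mem_coe, h1]
    change (π' hcov' hP' h).base ((Ferrand.a i' j' hcov').base x') ∈ O ↔ (f ≫ a).base x' ∈ O
    rw [← Scheme.Hom.comp_apply, a_π' hcov' hP' h ha]
  · have h1 : (Ferrand.b i' j' hcov').base y' ∈
        (ιP i' j' (kO' hP hX hY O hO)).opensRange ↔ y' ∈ (kO' hP hX hY O hO).V := by
      rw [← Ferrand.b_preimage i' j' hcov' (kO' hP hX hY O hO)]
      rfl
    rw [SetLike.mem_coe, SetLike.mem_coe, h1]
    change (π' hcov' hP' h).base ((Ferrand.b i' j' hcov').base y') ∈ O ↔ (g ≫ b).base y' ∈ O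
    rw [← Scheme.Hom.comp_apply, b_π' hcov' hP' h hb]

include ha hb in
/-- the chart of the full preimage is the base change of `P' → P` to the affine open `O` -/
theorem isPullback_chart_O :
    IsPullback (Groth.Agent.Lib.Helper12.Ferrand9.g (f := f ≫ a) (t := g ≫ b) (hsq' hP hX hY)
      (kO' hP hX hY O hO) O le_rfl le_rfl) (ιP i' j' (kO' hP hX hY O hO)) hO.fromSpec
      (π' hcov' hP' h) :=
  IsOpenImmersion.isPullback _ _ _ _
    (ιP_π' hcov' hP hP' hX hY h ha hb O hO (kO' hP hX hY O hO) le_rfl le_rfl)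
    (by rw [hO.opensRange_fromSpec]; exact preimage_eq_opensRange hcov' hP hP' hX hY h ha hb O hO)

include ha hb in
/-- a property local at the target holds for `P' → P` if it holds for the ring maps of the charts
of full preimages -/
theorem of_affine_charts (Q : MorphismProperty Scheme.{u}) [IsZariskiLocalAtTarget Q]
    (H : ∀ (O : P.Opens) (hO : IsAffineOpen O),
      Q (Groth.Agent.Lib.Helper12.Ferrand9.g (f := f ≫ a) (t := g ≫ b) (hsq' hP hX hY)
        (kO' hP hX hY O hO) O le_rfl le_rfl)) : Q (π' hcov' hP' h) := by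
  let 𝒰 : P.OpenCover :=
    Scheme.Cover.mkOfCovers P.affineOpens (fun O => Spec Γ(P, O.1)) (fun O => O.2.fromSpec)
      (fun x => by
        obtain ⟨O, hO, hxO, -⟩ :=
          exists_isAffineOpen_mem_and_subset (X := P) (x := x) (U := ⊤) trivial
        refine ⟨⟨O, hO⟩, ?_⟩
        change x ∈ Set.range hO.fromSpec.base
        rw [hO.range_fromSpec]
        exact hxO)
      (fun O => IsAffineOpen.isOpenImmersion_fromSpec O.2)
  refine IsZariskiLocalAtTarget.of_openCover 𝒰 (fun (O : P.affineOpens) => ?_)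
  change Q (pullback.snd (π' hcov' hP' h) O.2.fromSpec)
  have hpb := (isPullback_chart_O hcov' hP hP' hX hY h ha hb O.1 O.2).flip
  have e := hpb.isoPullback_hom_snd
  have := H O.1 O.2
  rw [← e] at this
  exact (Q.cancel_left_of_respectsIso hpb.isoPullback.hom _).mp this

set_option backward.isDefEq.respectTransparency.types false in
include hcov hP hX hY ha hb in
/-- **finiteness**: if `X' → X` and `Y' → Y` are finite then so is `P' → P` (model form) -/
theorem isFinite_π' [IsFinite f] [IsFinite g] : IsFinite (π' hcov' hP' h) := by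
  refine of_affine_charts hcov' hP hP' hX hY h ha hb @IsFinite (fun O hO => ?_)
  change IsFinite (Spec.map (CommRingCat.ofHom (γ' hP hX hY O (kO' hP hX hY O hO) le_rfl le_rfl)))
  rw [IsFinite.SpecMap_iff]
  refine (charts_iff hcov hP hX hY O hO (kO' hP hX hY O hO) le_rfl le_rfl).2.2.2.2.2.1.mpr ⟨?_, ?_⟩
  · have := g.finite_app (b ⁻¹ᵁ O) (hO.preimage b)
    rwa [Scheme.Hom.app_eq_appLE] at this
  · have := f.finite_app (a ⁻¹ᵁ O) (hO.preimage a)
    rwa [Scheme.Hom.app_eq_appLE] at this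

include hcov hcov' hP hP' hX hY ha hb in
/-- **finiteness**: if `X' → X` and `Y' → Y` are finite then so is `P' → P` -/
theorem isFinite_h [IsFinite f] [IsFinite g] : IsFinite h := by
  have h1 := isFinite_π' hcov hcov' hP hP' hX hY h ha hb
  have e : h = (eP hcov' hP').inv ≫ π' hcov' hP' h := by
    rw [π', Iso.inv_hom_id_assoc]
  rw [e]
  infer_instance

end Affine

end Groth.Agent.Lib.Helper12.FerrandFun
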