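import Mathlib
import Groth.Agent.Lib.Helper12.EpiDescent
import Groth.Agent.Lib.Helper11.CounitEpi
import Groth.Agent.Lib.Helper25.QCohCoprod

/-!
# Faithfully flat descent of global generation (helper12)

* `FI X I`, `ιF`, `descF`, `canonF`: the free module `O_X^{(I)}` with `X.Modules`-typed API.
* `isGloballyGenerated_of_pullback`: `f : X ⟶ Y` qcqs over an affine base, `Y' ⟶ Y` flat surjective with
  `Y'` affine, `F` quasi-coherent with `p^* F` globally generated on `X ×_Y Y'` ⇒ `F` globally generated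
  (flat base change of global sections + faithfully flat descent of epimorphisms).
* `isGloballyGenerated_pullback`: global generation is preserved by pullback.
-/

set_option autoImplicit false
set_option linter.style.haveILetI false
universe u
open CategoryTheory CategoryTheory.Limits AlgebraicGeometry TopologicalSpace Opposite TensorProduct
open Scheme.Modules
open Groth.Agent.Lib.helper8.PullbackUnit Groth.Agent.Lib.helper8.FlatBC
open Groth.Agent.Lib.helper12.AmpleDescent Groth.Agent.Lib.helper12.EpiDescent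
open Groth.Agent.Lib.helper11.GenLocus Groth.Agent.Lib.helper11.SerreGG
open Groth.Agent.Lib.helper12.AmpleBasis Groth.Agent.Lib.helper12.QAffDescent
open Groth.Agent.Lib.helper11.InvMod Groth.Agent.Lib.helper12.TwistExtend

namespace Groth.Agent.Lib.helper12.GGDescent

variable {X : Scheme.{u}}

/-- the section named by a composite `O ⟶ O ⟶ M` -/
theorem sec_comp (φ : Coh.structureModule X ⟶ Coh.structureModule X) {M : X.Modules}
    (t : Coh.structureModule X ⟶ M) (U : X.Opens) :
    sec (φ ≫ t) U = fn φ U • sec t U :=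
  app_apply t U (fn φ U)

/-- morphisms `O ⟶ M` agreeing as sections over an open equal to `⊤` are equal -/
theorem hom_ext_of_sec {M : X.Modules} (a b : Coh.structureModule X ⟶ M) (S : X.Opens)
    (hS : (⊤ : X.Opens) ≤ S) (h : sec a S = sec b S) : a = b := by
  apply Groth.Agent.Lib.helper12.SecExtend.hom_ext_val_top
  rw [← SecTwist.map_val a (homOfLE hS), ← SecTwist.map_val b (homOfLE hS)]
  exact congrArg _ h

noncomputable def FI (X : Scheme.{u}) (I : Type u) : X.Modules := SheafOfModules.free I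
noncomputable def ιF {I : Type u} (σ : I) : Coh.structureModule X ⟶ FI X I := SheafOfModules.ιFree σ
noncomputable def descF {I : Type u} {M : X.Modules} (μ : I → (Coh.structureModule X ⟶ M)) : FI X I ⟶ M :=
  M.freeHomEquiv.symm (fun σ => M.unitHomEquiv (μ σ))
theorem ιF_descF {I : Type u} {M : X.Modules} (μ : I → (Coh.structureModule X ⟶ M)) (σ : I) :
    ιF σ ≫ descF μ = μ σ := by
  have h := SheafOfModules.unitHomEquiv_symm_freeHomEquiv_apply (descF μ) σ
  refine h.symm.trans ?_
  unfold descF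
  rw [Equiv.apply_symm_apply]
  exact Equiv.symm_apply_apply _ _
theorem FI_hom_ext {I : Type u} {M : X.Modules} (a b : FI X I ⟶ M) (h : ∀ σ, ιF σ ≫ a = ιF σ ≫ b) : a = b := by
  apply M.freeHomEquiv.injective
  funext σ
  apply M.unitHomEquiv.symm.injective
  exact (SheafOfModules.unitHomEquiv_symm_freeHomEquiv_apply a σ).trans
    ((h σ).trans (SheafOfModules.unitHomEquiv_symm_freeHomEquiv_apply b σ).symm)
noncomputable def canonF (M : X.Modules) {I : Type u} (τ : I → M.val.obj (op ⊤)) : FI X I ⟶ M := canonBy M τ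
theorem ιF_canonF (M : X.Modules) {I : Type u} (τ : I → M.val.obj (op ⊤)) (σ : I) :
    ιF σ ≫ canonF M τ = homOfSec M (τ σ) := ιFree_canonBy M τ σ

variable {X' Y Y' : Scheme.{u}} {f : X ⟶ Y} {g : Y' ⟶ Y} {p : X' ⟶ X} {q : X' ⟶ Y'}

/-- **faithfully flat descent of global generation** over an affine base -/
theorem isGloballyGenerated_of_pullback [IsAffine Y] [IsAffine Y'] [QuasiCompact f]
    [QuasiSeparated f] [Flat g] [Surjective g] (H : IsPullback p q f g) (F : X.Modules)
    [F.IsQuasicoherent] (h : Curv2.IsGloballyGenerated ((Scheme.Modules.pullback p).obj F)) :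
    Curv2.IsGloballyGenerated F := by
  haveI : CompactSpace X := QuasiCompact.compactSpace_of_compactSpace f
  haveI : QuasiSeparatedSpace X := quasiSeparatedSpace_of_quasiSeparated f
  haveI : Surjective p := MorphismProperty.of_isPullback (P := @Surjective) H.flip inferInstance
  haveI : Flat p := MorphismProperty.of_isPullback (P := @Flat) H.flip inferInstance
  haveI : IsAffineHom p := MorphismProperty.of_isPullback (P := @IsAffineHom) H.flip inferInstance
  obtain ⟨ι', π', hπ'⟩ := h
  let F' := (Scheme.Modules.pullback p).obj F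
  have hW : (⊤ : X.Opens) ≤ f ⁻¹ᵁ ⊤ := le_top
  have e : (⊤ : Y'.Opens) ≤ g ⁻¹ᵁ ⊤ := le_top
  letI : Algebra Γ(Y, ⊤) Γ(Y', ⊤) := (g.appLE ⊤ ⊤ e).hom.toAlgebra
  have halg : algebraMap Γ(Y, ⊤) Γ(Y', ⊤) = (g.appLE ⊤ ⊤ e).hom := rfl
  haveI : Module.Flat Γ(Y, ⊤) Γ(Y', ⊤) := by
    have h0 := Scheme.Hom.flat_appTop g
    rw [← appLE_top_top g e] at h0
    exact h0
  let S : X'.Opens := sharp p q ⊤ ⊤
  have hS : (⊤ : X'.Opens) ≤ S := fun x _ => ⟨trivial, trivial⟩
  have hbij := κ_bijective_of_isQuasiSeparated F ⊤ hW H e halg (isAffineOpen_top Y)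
    (isAffineOpen_top Y') isCompact_univ isQuasiSeparated_univ
  let I : Type u := F.val.obj (op ⊤)
  have eT : (⊤ : X'.Opens) ≤ p ⁻¹ᵁ ⊤ := le_top
  let ρT : I → F'.val.obj (op ⊤) := fun σ => ρ p eT F σ
  let c' : FI X' I ⟶ F' := canonF F' ρT
  have hρS : ∀ σ : I, sec (ιF σ ≫ c') S =
      ρ p (inf_le_left : S ≤ p ⁻¹ᵁ ⊤) F σ := by
    intro σ
    have hc : ιF σ ≫ c' = homOfSec F' (ρT σ) := ιF_canonF F' ρT σ
    rw [hc]
    refine (val_homOfSec F' (ρT σ) S).trans ?_
    have h1 := ρ_res p eT F (inf_le_left : S ≤ p ⁻¹ᵁ ⊤) (le_refl ⊤) (le_top : S ≤ ⊤) σ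
    refine h1.trans ?_
    congr 1
    change F.val.map (𝟙 _) σ = σ
    rw [F.val.map_id]
    rfl
  -- every element in the image of `κ` is the section of a map factoring through `c'`
  have key : ∀ z, ∃ μ : Coh.structureModule X' ⟶ FI X' I,
      sec (μ ≫ c') S = κ F ⊤ hW H e halg z := by
    intro z
    induction z using TensorProduct.induction_on with
    | zero =>
      refine ⟨0, ?_⟩
      rw [zero_comp, map_zero]
      rfl
    | tmul a σ =>
      let a' : (Coh.structureModule X').val.obj (op ⊤) := (q.appTop).hom a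
      let σ' : I := σ
      refine ⟨homOfSec (Coh.structureModule X') a' ≫ ιF σ', ?_⟩
      have h7 : κ F ⊤ hW H e halg (a ⊗ₜ σ) =
          a • kW (g' := p) (f' := q) (V' := ⊤) F ⊤ hW σ := tlift_tmul _ _ a σ
      rw [h7, Category.assoc, sec_comp, hρS σ']
      have h8 : fn (homOfSec (Coh.structureModule X') a') S =
          (q.appLE ⊤ S inf_le_right).hom a := by
        refine (val_homOfSec (Coh.structureModule X') a' S).trans ?_
        change X'.presheaf.map (homOfLE (le_top : S ≤ ⊤)).op ((q.appTop).hom a) = _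
        have eq : (⊤ : X'.Opens) ≤ q ⁻¹ᵁ ⊤ := le_top
        have h8' : q.appTop ≫ X'.presheaf.map (homOfLE (le_top : S ≤ ⊤)).op =
            q.appLE ⊤ S inf_le_right := by
          rw [← appLE_top_top q eq]
          exact Scheme.Hom.appLE_map q eq (homOfLE (le_top : S ≤ ⊤)).op
        exact congr($(h8').hom a)
      rw [h8]
      rfl
    | add z₁ z₂ h₁ h₂ =>
      obtain ⟨μ₁, h₁⟩ := h₁
      obtain ⟨μ₂, h₂⟩ := h₂
      refine ⟨μ₁ + μ₂, ?_⟩
      rw [Preadditive.add_comp, map_add, ← h₁, ← h₂]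
      rfl
  let π'' : FI X' ι' ⟶ F' := π'
  have hfac : ∀ i' : ι', ∃ μ : Coh.structureModule X' ⟶ FI X' I, μ ≫ c' = ιF i' ≫ π'' := by
    intro i'
    obtain ⟨z, hz⟩ := hbij.2 (sec (ιF i' ≫ π'') S)
    obtain ⟨μ, hμ⟩ := key z
    exact ⟨μ, hom_ext_of_sec _ _ S hS (hμ.trans hz)⟩
  choose μ hμ using hfac
  let lam : FI X' ι' ⟶ FI X' I := descF μ
  have hlam : lam ≫ c' = π'' := by
    apply FI_hom_ext
    intro i'
    rw [← Category.assoc, ιF_descF]
    exact hμ i'
  haveI : Epi π'' := hπ'
  haveI : Epi c' := by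
    haveI : Epi (lam ≫ c') := by rw [hlam]; infer_instance
    exact epi_of_epi lam c'
  -- compare with the pullback of the canonical map of `F`
  let c : FI X I ⟶ F := canonF F (fun σ : I => σ)
  let Λ : FI X' I ⟶ (Scheme.Modules.pullback p).obj (FI X I) :=
    descF (fun σ => (pullbackUnitIso p).inv ≫ (Scheme.Modules.pullback p).map (ιF σ))
  have hΛ : Λ ≫ (Scheme.Modules.pullback p).map c = c' := by
    apply FI_hom_ext
    intro σ
    rw [← Category.assoc, ιF_descF, Category.assoc, ← Functor.map_comp]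
    have hc : ιF σ ≫ c = homOfSec F σ := ιF_canonF F (fun σ : I => σ) σ
    rw [hc]
    apply hom_ext_of_sec _ _ S hS
    have h9 : sec (homOfSec F σ) ⊤ = σ := by
      refine (val_homOfSec F σ ⊤).trans ?_
      change F.val.map (𝟙 _) σ = σ
      rw [F.val.map_id]
      rfl
    refine (sec_pullback_map p (homOfSec F σ) (inf_le_left : S ≤ p ⁻¹ᵁ ⊤)).trans ?_
    rw [h9]
    exact (hρS σ).symm
  haveI : Epi ((Scheme.Modules.pullback p).map c) := by
    haveI : Epi (Λ ≫ (Scheme.Modules.pullback p).map c) := by rw [hΛ]; infer_instance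
    exact epi_of_epi Λ _
  haveI : (FI X I).IsQuasicoherent :=
    Groth.Agent.Lib.helper25.QCohCoprod.isQuasicoherent_coproduct X
      (fun _ : I => SheafOfModules.unit X.ringCatSheaf)
      (fun _ => Groth.Agent.Lib.helper12.AmpleBasis.structureModule_qcoh X)
  have hce : Epi c := epi_of_epi_pullback p c inferInstance
  exact ⟨I, c, hce⟩

/-- global generation is preserved by pullback -/
theorem isGloballyGenerated_pullback (p : X' ⟶ X) {F : X.Modules}
    (h : Curv2.IsGloballyGenerated F) :
    Curv2.IsGloballyGenerated ((Scheme.Modules.pullback p).obj F) := by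
  obtain ⟨ι, π, hπ⟩ := h
  have h1 : Epi ((Scheme.Modules.pullback p).map π) :=
    @Groth.Agent.Lib.helper11.CounitEpi.epi_pullback_map _ _ p _ _ π hπ
  have g0 : Curv2.IsGloballyGenerated (SheafOfModules.free ι : X'.Modules) :=
    ⟨ι, 𝟙 _, inferInstance⟩
  have g1 : Curv2.IsGloballyGenerated
      ((Scheme.Modules.pullback p).obj (SheafOfModules.free ι : X.Modules)) :=
    Groth.Agent.Lib.helper11.CounitEpi.isGloballyGenerated_of_iso
      (Groth.Agent.Lib.helper11.CounitEpi.pullbackFreeIso p ι).symm g0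
  obtain ⟨κ', π', hπ'⟩ := g1
  exact ⟨κ', π' ≫ (Scheme.Modules.pullback p).map π,
    @epi_comp _ _ _ _ _ π' hπ' _ h1⟩

end Groth.Agent.Lib.helper12.GGDescent
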