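import Mathlib
import Groth.Agent.Lib.Lead.HomBC1

/-!
# Sections of a base-changed module over the preimage of an affine open (helper12)

`A → B` a ring map, `X` over `Spec A`, `p : X' ⟶ X` exhibiting `X' = X ×_A Spec B`, `N` quasi-coherent on `X`,
`W ⊆ X` an affine open.
* `isBC_sections_affine`: `ρ : Γ(N, W) → Γ(p^*N, p⁻¹W ⊓ q⁻¹⊤)` is a base change along `A → B` (no flatness needed;
  the affine-open analogue of lead's `HomBC.isBC_sections`).
* `bijective_sum_of_isBC`: if `k : N → P` is a base change along `R → R'` and `R'` is free over `R` with basis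
  `b : Fin d → R'`, then `(n_i) ↦ ∑ b_i • k (n_i)` is bijective.
* `bijective_sum_sections`: the combination.
-/

set_option autoImplicit false
set_option linter.style.haveILetI false
set_option linter.unusedSectionVars false

universe u
open CategoryTheory CategoryTheory.Limits AlgebraicGeometry Opposite TopologicalSpace TensorProduct
open Groth.Agent.Lib.helper8.PullbackUnit Groth.Agent.Lib.helper8.FlatBC
open Groth.Agent.Lib.helper12.QAffDescent

namespace Groth.Agent.Lib.helper12.FinBC

open Groth.Agent.Lib.Lead.HomBC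

section Alg

variable {R R' : Type u} [CommRing R] [CommRing R'] [Algebra R R'] {N P : Type u}
  [AddCommGroup N] [Module R N] [AddCommGroup P] [Module R' P] {k : N →+ P}

theorem bijective_sum_of_isBC (hk : IsBC (algebraMap R R') k) {d : ℕ}
    (b : Module.Basis (Fin d) R R') :
    Function.Bijective (fun n : Fin d → N => ∑ i, b i • k (n i)) := by
  have hb := (isBC_iff_bijective_tlift k hk.map_smul).mp hk
  let e1 : R' ⊗[R] N ≃ₗ[R] (Fin d →₀ N) := TensorProduct.equivFinsuppOfBasisLeft b
  let e2 : (Fin d →₀ N) ≃ (Fin d → N) := Finsupp.equivFunOnFinite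
  have key : (fun n : Fin d → N => ∑ i, b i • k (n i)) =
      (tlift k hk.map_smul) ∘ e1.symm ∘ e2.symm := by
    funext n
    simp only [Function.comp_apply]
    have h1 : e1.symm (e2.symm n) = ∑ i, b i ⊗ₜ[R] n i := by
      rw [TensorProduct.equivFinsuppOfBasisLeft_symm_apply]
      rw [Finsupp.sum_fintype _ _ (fun i => by simp)]
      rfl
    rw [h1, map_sum]
    refine Finset.sum_congr rfl fun i _ => ?_
    rw [tlift_tmul]
  rw [key]
  exact hb.comp (e1.symm.bijective.comp e2.symm.bijective)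

end Alg

section A

variable {A B : Type u} [CommRing A] [CommRing B] [Algebra A B]
variable {X X' : Scheme.{u}} (f : X ⟶ Spec (CommRingCat.of A)) (q : X' ⟶ Spec (CommRingCat.of B))
  (p : X' ⟶ X) (W : X.Opens)

/-- the open `p⁻¹ W ⊓ q⁻¹ ⊤` of `X'` -/
noncomputable abbrev SW : X'.Opens := sharp p q ⊤ W

theorem SW_le : SW q p W ≤ p ⁻¹ᵁ W := inf_le_left

theorem le_SW : p ⁻¹ᵁ W ≤ SW q p W := fun _ hx => ⟨hx, trivial⟩

/-- the ring map `A → Γ(X, W)` -/
noncomputable def tgAW : A →+* Γ(X, W) :=
  (X.presheaf.map (homOfLE (le_top : W ≤ ⊤)).op).hom.comp (Coh.toGlobal f)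

/-- the ring map `B → Γ(X', SW)` -/
noncomputable def tgBW : B →+* Γ(X', SW q p W) :=
  (X'.presheaf.map (homOfLE (le_top : SW q p W ≤ ⊤)).op).hom.comp (Coh.toGlobal q)

theorem tgAW_apply (r : A) :
    tgAW f W r = (f.appLE ⊤ W le_top).hom ((Scheme.ΓSpecIso (CommRingCat.of A)).inv.hom r) := by
  have h := Scheme.Hom.appLE_map f (U := ⊤) (V := ⊤) (show (⊤ : X.Opens) ≤ f ⁻¹ᵁ ⊤ from le_top)
    (homOfLE (le_top : W ≤ ⊤)).op
  rw [appLE_top_top] at h
  exact congr($(h).hom ((Scheme.ΓSpecIso (CommRingCat.of A)).inv.hom r))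

theorem tgBW_apply (r : B) :
    tgBW q p W r = (q.appLE ⊤ (SW q p W) inf_le_right).hom
      ((Scheme.ΓSpecIso (CommRingCat.of B)).inv.hom r) := by
  have h := Scheme.Hom.appLE_map q (U := ⊤) (V := ⊤) (show (⊤ : X'.Opens) ≤ q ⁻¹ᵁ ⊤ from le_top)
    (homOfLE (le_top : SW q p W ≤ ⊤)).op
  rw [appLE_top_top] at h
  exact congr($(h).hom ((Scheme.ΓSpecIso (CommRingCat.of B)).inv.hom r))

variable (H : IsPullback p q f (Spec.map (CommRingCat.ofHom (algebraMap A B))))
  (N : X.Modules) [N.IsQuasicoherent]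

include H in
/-- **base change of sections over an affine open** -/
theorem isBC_sections_affine (hWa : IsAffineOpen W) :
    letI : Module A Γ(N, W) := Module.compHom _ (tgAW f W)
    letI : Module B Γ((Scheme.Modules.pullback p).obj N, SW q p W) := Module.compHom _ (tgBW q p W)
    IsBC (algebraMap A B) (ρ p (SW_le q p W) N) := by
  let g := Spec.map (CommRingCat.ofHom (algebraMap A B))
  have e : (⊤ : (Spec (CommRingCat.of B)).Opens) ≤ g ⁻¹ᵁ ⊤ := le_top
  have hW : W ≤ f ⁻¹ᵁ ⊤ := le_top
  letI : Algebra Γ(Spec (CommRingCat.of A), ⊤) Γ(Spec (CommRingCat.of B), ⊤) :=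
    (g.appLE ⊤ ⊤ e).hom.toAlgebra
  have halg : algebraMap Γ(Spec (CommRingCat.of A), ⊤) Γ(Spec (CommRingCat.of B), ⊤) =
    (g.appLE ⊤ ⊤ e).hom := rfl
  have hbij := κ_bijective_of_isAffineOpen N W hW H e halg (isAffineOpen_top _)
    (isAffineOpen_top _) hWa
  rw [κ, ← isBC_iff_bijective_tlift] at hbij
  rw [halg] at hbij
  letI mA : Module A Γ(N, W) := Module.compHom _ (tgAW f W)
  letI mB : Module B Γ((Scheme.Modules.pullback p).obj N, SW q p W) := Module.compHom _ (tgBW q p W)
  refine IsBC.cancel' (N := NW f N ⊤ W hW) (P := PW p q N ⊤ W) (mN := mA) (mP := mB)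
    (isPushout_ΓSpec (A := A) (B := B)) ?_ ?_ hbij
  · intro r n
    exact (congrArg (fun t : Γ(X, W) => (t • (show Γ(N, W) from n) : Γ(N, W))) (tgAW_apply f W r))
  · intro r n
    exact (congrArg (fun t : Γ(X', SW q p W) =>
      (t • (show Γ((Scheme.Modules.pullback p).obj N, SW q p W) from n) :
      Γ((Scheme.Modules.pullback p).obj N, SW q p W))) (tgBW_apply q p W r))

include H in
/-- for `B` free over `A` with basis `b`, the sections of `p^*N` over the preimage of an affine open `W` are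
`d` copies of `Γ(N, W)` -/
theorem bijective_sum_sections (hWa : IsAffineOpen W) {d : ℕ} (b : Module.Basis (Fin d) A B) :
    Function.Bijective (fun n : Fin d → Γ(N, W) =>
      ∑ i, tgBW q p W (b i) • ρ p (SW_le q p W) N (n i)) := by
  letI mA : Module A Γ(N, W) := Module.compHom _ (tgAW f W)
  letI mB : Module B Γ((Scheme.Modules.pullback p).obj N, SW q p W) := Module.compHom _ (tgBW q p W)
  exact bijective_sum_of_isBC (isBC_sections_affine f q p W H N hWa) b

end A

end Groth.Agent.Lib.helper12.FinBC
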