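import Mathlib
import Groth.Agent.Lib.Helper12.FinBC1
import Groth.Agent.Lib.Helper8.ClosedImmUnit

/-!
# Push-pull along a finite free base change is a finite direct power (helper12)

`A → B` a ring map with `B` free over `A` with basis `b : Fin d → B`, `X` over `Spec A`, `p : X' ⟶ X` exhibiting
`X' = X ×_A Spec B`, `N` quasi-coherent on `X`.
* `bijective_map_sigmaDesc`: an additive functor to abelian groups turns `Sigma.desc ψ` into a bijection as soon as
  `(x_i) ↦ ∑ G(ψ_i)(x_i)` is bijective.
* `ψ q p N b : ∐ (fun _ : Fin d => N) ⟶ p_* p^* N` with components `unit ≫ p_*(b_i • -)`;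
  `isIso_ψ`: it is an isomorphism.
-/

set_option autoImplicit false
set_option linter.style.haveILetI false
set_option linter.unusedSectionVars false

universe u
open CategoryTheory CategoryTheory.Limits AlgebraicGeometry Opposite TopologicalSpace TensorProduct
open Groth.Agent.Lib.helper8.PullbackUnit Groth.Agent.Lib.helper8.FlatBC

namespace Groth.Agent.Lib.helper12.FinBC

section Abstract

variable {C : Type*} [Category C] [Preadditive C]

/-- projections of a constant finite coproduct -/
noncomputable def sigmaπ {d : ℕ} (M : C) [HasCoproduct (fun _ : Fin d => M)] (j : Fin d) :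
    (∐ fun _ : Fin d => M) ⟶ M :=
  Sigma.desc fun i => if i = j then 𝟙 M else 0

theorem ι_sigmaπ {d : ℕ} (M : C) [HasCoproduct (fun _ : Fin d => M)] (i j : Fin d) :
    Sigma.ι (fun _ : Fin d => M) i ≫ sigmaπ M j = if i = j then 𝟙 M else 0 := by
  unfold sigmaπ
  rw [Sigma.ι_desc]

theorem sum_sigmaπ_ι {d : ℕ} (M : C) [HasCoproduct (fun _ : Fin d => M)] :
    ∑ j, sigmaπ M j ≫ Sigma.ι (fun _ : Fin d => M) j = 𝟙 _ := by
  refine Sigma.hom_ext _ _ fun i => ?_
  rw [Preadditive.comp_sum, Category.comp_id]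
  rw [Finset.sum_eq_single i]
  · rw [← Category.assoc, ι_sigmaπ, if_pos rfl, Category.id_comp]
  · intro j _ hj
    rw [← Category.assoc, ι_sigmaπ, if_neg (Ne.symm hj), zero_comp]
  · intro h
    exact absurd (Finset.mem_univ i) h

theorem ab_hom_sum_apply {P Q : Ab.{u}} {ι : Type*} (s : Finset ι) (φ : ι → (P ⟶ Q)) (y : P) :
    (∑ i ∈ s, φ i).hom y = ∑ i ∈ s, (φ i).hom y := by
  have : (∑ i ∈ s, φ i).hom = ∑ i ∈ s, (φ i).hom := map_sum AddCommGrpCat.homAddEquiv φ s
  rw [this, AddMonoidHom.finsetSum_apply]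

theorem bijective_map_sigmaDesc (G : C ⥤ Ab.{u}) [G.Additive] {d : ℕ} {M N : C}
    [HasCoproduct (fun _ : Fin d => M)] (ψ : Fin d → (M ⟶ N))
    (h : Function.Bijective (fun x : Fin d → G.obj M => ∑ i, (G.map (ψ i)).hom (x i))) :
    Function.Bijective (G.map (Sigma.desc ψ)).hom := by
  let Af : (Fin d → G.obj M) → G.obj (∐ fun _ : Fin d => M) :=
    fun x => ∑ i, (G.map (Sigma.ι (fun _ : Fin d => M) i)).hom (x i)
  let Bf : G.obj (∐ fun _ : Fin d => M) → (Fin d → G.obj M) :=
    fun y i => (G.map (sigmaπ M i)).hom y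
  have hAB : ∀ y, Af (Bf y) = y := by
    intro y
    have h1 := congrArg (fun φ => (G.map φ).hom y) (sum_sigmaπ_ι (d := d) M)
    simp only [G.map_sum, G.map_id] at h1
    change ∑ i, (G.map (Sigma.ι (fun _ : Fin d => M) i)).hom ((G.map (sigmaπ M i)).hom y) = y
    refine Eq.trans ?_ (h1.trans rfl)
    rw [ab_hom_sum_apply]
    refine Finset.sum_congr rfl fun i _ => ?_
    rw [G.map_comp]
    rfl
  have hSA : ∀ x, (G.map (Sigma.desc ψ)).hom (Af x) = ∑ i, (G.map (ψ i)).hom (x i) := by
    intro x
    change (G.map (Sigma.desc ψ)).hom (∑ i, (G.map (Sigma.ι (fun _ : Fin d => M) i)).hom (x i)) = _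
    rw [map_sum]
    refine Finset.sum_congr rfl fun i _ => ?_
    have : Sigma.ι (fun _ : Fin d => M) i ≫ Sigma.desc ψ = ψ i := Sigma.ι_desc _ _
    rw [← this, G.map_comp]
    rfl
  have hA0 : Af 0 = 0 := by
    change ∑ i, (G.map (Sigma.ι (fun _ : Fin d => M) i)).hom 0 = 0
    simp
  constructor
  · rw [injective_iff_map_eq_zero]
    intro y hy
    rw [← hAB y] at hy ⊢
    rw [hSA] at hy
    have h0 : (fun x : Fin d → G.obj M => ∑ i, (G.map (ψ i)).hom (x i)) 0 = 0 := by simp
    have : Bf y = 0 := h.1 (hy.trans h0.symm)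
    rw [this, hA0]
  · intro z
    obtain ⟨x, hx⟩ := h.2 z
    exact ⟨Af x, (hSA x).trans hx⟩

end Abstract

section Sec

variable {X : Scheme.{u}}

/-- sections over `U` as a functor to abelian groups -/
noncomputable def secF (U : X.Opens) : X.Modules ⥤ Ab.{u} where
  obj M := Γ(M, U)
  map φ := φ.app U
  map_id _ := rfl
  map_comp _ _ := rfl

instance (U : X.Opens) : (secF U).Additive := ⟨rfl⟩

theorem bijective_res_of_le_of_le (M : X.Modules) {U V : X.Opens} (h : U ≤ V) (h' : V ≤ U) :
    Function.Bijective (M.presheaf.map (homOfLE h).op).hom := by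
  obtain rfl : U = V := le_antisymm h h'
  have : (homOfLE h).op = 𝟙 _ := rfl
  rw [this, M.presheaf.map_id]
  exact Function.bijective_id

end Sec

section A


variable {A B : Type u} [CommRing A] [CommRing B] [Algebra A B]
variable {X X' : Scheme.{u}} (f : X ⟶ Spec (CommRingCat.of A)) (q : X' ⟶ Spec (CommRingCat.of B))
  (p : X' ⟶ X) (N : X.Modules)

/-- `N ⟶ p_* p^* N`: the unit followed by multiplication by `b` -/
noncomputable def ψc (b : B) : N ⟶ (Scheme.Modules.pushforward p).obj ((Scheme.Modules.pullback p).obj N) :=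
  (Scheme.Modules.pullbackPushforwardAdjunction p).unit.app N ≫
    (Scheme.Modules.pushforward p).map (Formal.smulModΓ ((Scheme.Modules.pullback p).obj N) (Coh.toGlobal q b))

/-- `N^d ⟶ p_* p^* N` with components `ψc (b i)` -/
noncomputable def ψ {d : ℕ} (b : Fin d → B) :
    (∐ fun _ : Fin d => N) ⟶ (Scheme.Modules.pushforward p).obj ((Scheme.Modules.pullback p).obj N) :=
  Sigma.desc fun i => ψc q p N (b i)

theorem res_ψc_app (b : B) (W : X.Opens) (n : Γ(N, W)) :
    ((Scheme.Modules.pullback p).obj N).presheaf.map (homOfLE (SW_le q p W)).op ((ψc q p N b).app W n) =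
      tgBW q p W b • ρ p (SW_le q p W) N n := by
  rw [ρ_apply]
  have h1 : (ψc q p N b).app W n =
      (X'.presheaf.map (homOfLE (le_top : p ⁻¹ᵁ W ≤ ⊤)).op (Coh.toGlobal q b) •
        (show Γ((Scheme.Modules.pullback p).obj N, p ⁻¹ᵁ W) from
          (((Scheme.Modules.pullbackPushforwardAdjunction p).unit.app N).app W).hom n) :
        Γ((Scheme.Modules.pullback p).obj N, p ⁻¹ᵁ W)) := rfl
  rw [h1]
  refine (Scheme.Modules.map_smul ((Scheme.Modules.pullback p).obj N) (homOfLE (SW_le q p W)) _ _).trans ?_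
  congr 1
  change (X'.presheaf.map (homOfLE (le_top : p ⁻¹ᵁ W ≤ ⊤)).op ≫
    X'.presheaf.map (homOfLE (SW_le q p W)).op).hom (Coh.toGlobal q b) = _
  rw [← X'.presheaf.map_comp]
  rfl

variable (H : IsPullback p q f (Spec.map (CommRingCat.ofHom (algebraMap A B))))
  [N.IsQuasicoherent]

include H in
/-- **push-pull along a finite free base change is a direct power** -/
theorem isIso_ψ {d : ℕ} (b : Module.Basis (Fin d) A B) : IsIso (ψ q p N b) := by
  rw [Groth.Agent.Lib.helper8.ClosedImmUnit.isIso_iff_bijective_app_affine]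
  intro W hW
  have hS := bijective_sum_sections f q p W H N hW b
  have hr := bijective_res_of_le_of_le ((Scheme.Modules.pullback p).obj N) (SW_le q p W) (le_SW q p W)
  have hkey : Function.Bijective (fun x : Fin d → (secF W).obj N =>
      ∑ i, ((secF W).map (ψc q p N (b i))).hom (x i)) := by
    refine (Function.Bijective.of_comp_iff' hr _).mp ?_
    have hcomp : ((((Scheme.Modules.pullback p).obj N).presheaf.map (homOfLE (SW_le q p W)).op).hom ∘
        (fun x : Fin d → (secF W).obj N => ∑ i, ((secF W).map (ψc q p N (b i))).hom (x i))) =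
        (fun n : Fin d → Γ(N, W) => ∑ i, tgBW q p W (b i) • ρ p (SW_le q p W) N (n i)) := by
      funext x
      simp only [Function.comp_apply]
      rw [map_sum]
      exact Finset.sum_congr rfl fun i _ => res_ψc_app q p N (b i) W (x i)
    exact Eq.mpr (congrArg Function.Bijective hcomp) hS
  exact bijective_map_sigmaDesc (secF W) (fun i => ψc q p N (b i)) hkey

/-- the isomorphism `N^d ≅ p_* p^* N` -/
noncomputable def powIso {d : ℕ} (b : Module.Basis (Fin d) A B) :
    (∐ fun _ : Fin d => N) ≅ (Scheme.Modules.pushforward p).obj ((Scheme.Modules.pullback p).obj N) :=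
  haveI := isIso_ψ f q p N H b
  asIso (ψ q p N b)

end A

end Groth.Agent.Lib.helper12.FinBC
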