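import Mathlib
import Groth.Agent.Lib.Helper12.FinBC2
import Groth.Agent.Lib.Lead.HomBC3

/-!
# Descent of isomorphism classes of coherent modules along a finite field extension (helper12)

* `nonempty_iso_of_sigma_iso`: in a Krull–Schmidt class, `A^d ≅ B^d` with `0 < d` implies `A ≅ B`.
* `nonempty_iso_of_bcMod_iso_finite`: `X` proper over a field `k`, `K / k` a finite field extension, `F`, `G`
  coherent on `X` with `F_K ≅ G_K`: then `F ≅ G` (via `F^d ≅ π_* π^* F ≅ π_* π^* G ≅ G^d`, `d = [K : k]`).
-/

set_option autoImplicit false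
set_option linter.style.haveILetI false
set_option linter.unusedSectionVars false

universe u v
open CategoryTheory CategoryTheory.Limits AlgebraicGeometry Opposite TopologicalSpace

namespace Groth.Agent.Lib.helper12.FinBC

open Groth.Agent.Lib.Lead.NoriFin

section KS

variable {C : Type u} [Category.{v} C] [Abelian C] {P : C → Prop} (h : KSClass P)

include h in
theorem nonempty_iso_of_sigma_iso {A B : C} (hA : P A) (hB : P B) {d : ℕ} (hd : 0 < d)
    (e : (∐ fun _ : Fin d => A) ≅ ∐ fun _ : Fin d => B) : Nonempty (A ≅ B) := by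
  refine nonempty_iso_of_mult_eq h hA hB fun c => ?_
  have h1 := mult_congr h (P_sigma h (fun _ : Fin d => A) (fun _ => hA)) e c
  rw [mult_sigma h _ (fun _ => hA), mult_sigma h _ (fun _ => hB)] at h1
  simp only [Finset.sum_const, Finset.card_univ, Fintype.card_fin, smul_eq_mul] at h1
  exact Nat.eq_of_mul_eq_mul_left hd h1

end KS

section Fin

open W4c1astiltbs12

variable (k : Type u) [Field k] {X : Scheme.{u}} (p : X ⟶ Spec (CommRingCat.of k)) [IsProper p]
  (K : Type u) [Field K] [Algebra k K] [Module.Finite k K]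

theorem nonempty_iso_of_bcMod_iso_finite (F G : X.Modules) (hF : Coh.IsCoh F) (hG : Coh.IsCoh G)
    (e : bcMod p K F ≅ bcMod p K G) : Nonempty (F ≅ G) := by
  haveI : F.IsQuasicoherent := hF.1
  haveI : G.IsQuasicoherent := hG.1
  let b : Module.Basis (Fin (Module.finrank k K)) k K := Module.finBasis k K
  have H : IsPullback (proj p K) (pullback.snd p (Spec.map (CommRingCat.ofHom (algebraMap k K)))) p
      (Spec.map (CommRingCat.ofHom (algebraMap k K))) := IsPullback.of_hasPullback _ _
  let e1 := powIso p (pullback.snd p (Spec.map (CommRingCat.ofHom (algebraMap k K)))) (proj p K) F H b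
  let e2 := powIso p (pullback.snd p (Spec.map (CommRingCat.ofHom (algebraMap k K)))) (proj p K) G H b
  have e3 : (∐ fun _ : Fin (Module.finrank k K) => F) ≅ ∐ fun _ : Fin (Module.finrank k K) => G :=
    e1 ≪≫ (Scheme.Modules.pushforward (proj p K)).mapIso e ≪≫ e2.symm
  exact nonempty_iso_of_sigma_iso (Groth.Agent.Lib.Lead.HomBC.ksClass k p) hF hG Module.finrank_pos e3

end Fin

end Groth.Agent.Lib.helper12.FinBC
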