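import Mathlib

/-!
# A finiteness criterion: generators whose `N`-th powers are polynomials of lower degree
-/

set_option autoImplicit false

namespace Groth.Agent.Lib.helper12.FinPowRed

open MvPolynomial

/-- If `B` is generated over `A` by finitely many elements `d i`, and each `(d i) ^ N` is a
polynomial of total degree `< N` in the `d j`, then `B` is a finite `A`-module. -/
theorem finite_of_pow_eq_aeval {A B : Type*} [CommRing A] [CommRing B] [Algebra A B]
    {ι : Type*} [Finite ι] (d : ι → B) (hd : Algebra.adjoin A (Set.range d) = ⊤) (N : ℕ)
    (r : ι → MvPolynomial ι A) (hr : ∀ i, (r i).totalDegree < N)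
    (h : ∀ i, d i ^ N = aeval d (r i)) : Module.Finite A B := by
  classical
  have key : ∀ m : ℕ, ∀ p : MvPolynomial ι A, p.totalDegree ≤ m →
      ∃ q ∈ restrictDegree ι A (N - 1), aeval d q = aeval d p := by
    intro m
    induction m using Nat.strong_induction_on with
    | _ m ih =>
    intro p hp
    have hmono : ∀ v ∈ p.support, ∃ q ∈ restrictDegree ι A (N - 1),
        aeval d q = aeval d (monomial v (coeff v p)) := by
      intro v hv
      have hvdeg : (v.sum fun _ e => e) ≤ m := (le_totalDegree hv).trans hp
      by_cases hcase : ∀ i, v i ≤ N - 1
      · refine ⟨monomial v (coeff v p), ?_, rfl⟩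
        rw [mem_restrictDegree]
        intro s hs i
        have := support_monomial_subset hs
        rw [Finset.mem_singleton] at this
        rw [this]
        exact hcase i
      · push Not at hcase
        obtain ⟨i, hi⟩ := hcase
        have hN : 0 < N := lt_of_le_of_lt (Nat.zero_le _) (hr i)
        have hNi : N ≤ v i := by omega
        set v' : ι →₀ ℕ := v - Finsupp.single i N with hv'
        have hvv' : v = v' + Finsupp.single i N := by
          ext j
          by_cases hj : j = i
          · subst hj; simp [hv']; omega
          · simp [hv', Finsupp.single_apply, Ne.symm hj]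
        have hsum : (v.sum fun _ e => e) = (v'.sum fun _ e => e) + N := by
          conv_lhs => rw [hvv']
          rw [Finsupp.sum_add_index' (fun _ => rfl) (fun _ _ _ => rfl),
            Finsupp.sum_single_index rfl]
        set c := coeff v p with hc
        have hmon : monomial v c = monomial v' c * X i ^ N := by
          conv_lhs => rw [hvv']
          rw [monomial_add_single]
        let p' : MvPolynomial ι A := monomial v' c * r i
        have hp' : aeval d p' = aeval d (monomial v c) := by
          rw [hmon, map_mul, map_mul, map_pow, aeval_X, h i]
        have hdeg : p'.totalDegree < m := by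
          have h1 : p'.totalDegree ≤ (monomial v' c).totalDegree + (r i).totalDegree :=
            totalDegree_mul _ _
          have h2 : (monomial v' c).totalDegree ≤ v'.sum fun _ e => e :=
            totalDegree_monomial_le _ _
          have h3 := hr i
          omega
        obtain ⟨q, hq, hq'⟩ := ih _ hdeg p' le_rfl
        exact ⟨q, hq, hq'.trans hp'⟩
    choose! q hq hq' using hmono
    refine ⟨∑ v ∈ p.support, q v, Submodule.sum_mem _ (fun v hv => hq v hv), ?_⟩
    have hpsum : aeval d p = ∑ v ∈ p.support, aeval d (monomial v (coeff v p)) := by
      rw [← map_sum, ← p.as_sum]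
    rw [hpsum, map_sum]
    exact Finset.sum_congr rfl (fun v hv => hq' v hv)
  have hsurj : Function.Surjective (aeval d : MvPolynomial ι A →ₐ[A] B) := by
    rw [← AlgHom.range_eq_top, ← Algebra.adjoin_range_eq_range_aeval, hd]
  let φ : restrictDegree ι A (N - 1) →ₗ[A] B :=
    (aeval d : MvPolynomial ι A →ₐ[A] B).toLinearMap.domRestrict (restrictDegree ι A (N - 1))
  have hφ : Function.Surjective φ := by
    intro b
    obtain ⟨p, rfl⟩ := hsurj b
    obtain ⟨q, hq, hq'⟩ := key p.totalDegree p le_rfl
    exact ⟨⟨q, hq⟩, hq'⟩
  exact Module.Finite.of_surjective φ hφ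

end Groth.Agent.Lib.helper12.FinPowRed
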