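import Mathlib
import Groth.Agent.Lib.Helper12.Ferrand3

/-!
# Prime avoidance for finite sets of points of an affine open (helper12)

* `CosetAvoid.exists_mem_forall_notMem`: prime avoidance inside an ideal.
* `CosetAvoid.exists_add_notMem`: coset prime avoidance (`g + a ∉ 𝔭` with `a ∈ I`).
* `FiniteAvoid.exists_basicOpen_of_finite`: a finite subset of an affine open disjoint from a closed
  set lies in a basic open disjoint from that closed set.
* `FiniteAvoid.exists_add_basicOpen`: coset version.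
-/

set_option autoImplicit false
universe u
open CategoryTheory AlgebraicGeometry Opposite TopologicalSpace PrimeSpectrum Limits

namespace Groth.Agent.Lib.Helper12.CosetAvoid

variable {R : Type*} [CommRing R]

theorem exists_mem_forall_notMem (I : Ideal R) (s : Finset (Ideal R)) (hp : ∀ 𝔭 ∈ s, 𝔭.IsPrime)
    (hI : ∀ 𝔭 ∈ s, ¬ I ≤ 𝔭) : ∃ g ∈ I, ∀ 𝔭 ∈ s, g ∉ 𝔭 := by
  by_contra hcon
  push Not at hcon
  have h1 : (I : Set R) ⊆ ⋃ 𝔭 ∈ (↑s : Set (Ideal R)), (𝔭 : Set R) := by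
    intro g hg
    obtain ⟨𝔭, h𝔭, hg𝔭⟩ := hcon g hg
    exact Set.mem_biUnion (show 𝔭 ∈ (↑s : Set (Ideal R)) from h𝔭) hg𝔭
  obtain ⟨𝔭, h𝔭, hle⟩ := (Ideal.subset_union_prime (f := id) ⊥ ⊥ (fun 𝔭 h𝔭 _ _ => hp 𝔭 h𝔭)).mp h1
  exact hI 𝔭 h𝔭 hle

/-- coset prime avoidance -/
theorem exists_add_notMem (g : R) (I : Ideal R) (s : Finset (Ideal R))
    (hp : ∀ 𝔭 ∈ s, 𝔭.IsPrime) (h : ∀ 𝔭 ∈ s, I ≤ 𝔭 → g ∉ 𝔭) :
    ∃ a ∈ I, ∀ 𝔭 ∈ s, g + a ∉ 𝔭 := by
  classical
  induction s using Finset.strongInduction with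
  | H s ih =>
    rcases s.eq_empty_or_nonempty with rfl | hne
    · exact ⟨0, I.zero_mem, by simp⟩
    · obtain ⟨𝔭₀, h𝔭₀, hmin⟩ := s.exists_minimal hne
      have hp₀ : 𝔭₀.IsPrime := hp 𝔭₀ h𝔭₀
      obtain ⟨a', ha', h'⟩ := ih (s.erase 𝔭₀) (Finset.erase_ssubset h𝔭₀)
        (fun 𝔭 h𝔭 => hp 𝔭 (Finset.mem_of_mem_erase h𝔭))
        (fun 𝔭 h𝔭 => h 𝔭 (Finset.mem_of_mem_erase h𝔭))
      by_cases hcase : g + a' ∈ 𝔭₀
      · have hI₀ : ¬ I ≤ 𝔭₀ := by
          intro hle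
          apply h 𝔭₀ h𝔭₀ hle
          have := 𝔭₀.sub_mem hcase (hle ha')
          simpa using this
        have hJ : ¬ (insert I (s.erase 𝔭₀)).inf id ≤ 𝔭₀ := by
          rw [Ideal.IsPrime.inf_le' hp₀]
          rintro ⟨𝔮, h𝔮, hle⟩
          rcases Finset.mem_insert.mp h𝔮 with rfl | h𝔮'
          · exact hI₀ hle
          · have h𝔮s : 𝔮 ∈ s := Finset.mem_of_mem_erase h𝔮'
            have hne' : 𝔮 ≠ 𝔭₀ := Finset.ne_of_mem_erase h𝔮'
            have hle' : 𝔮 ≤ 𝔭₀ := hle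
            exact hne' (le_antisymm hle' (hmin h𝔮s hle'))
        obtain ⟨b, hb, hb₀⟩ := SetLike.not_le_iff_exists.mp hJ
        have hbI : b ∈ I := by
          have := (Finset.inf_le (f := id) (Finset.mem_insert_self I (s.erase 𝔭₀))) hb
          exact this
        have hbq : ∀ 𝔮 ∈ s.erase 𝔭₀, b ∈ 𝔮 := fun 𝔮 h𝔮 =>
          (Finset.inf_le (f := id) (Finset.mem_insert_of_mem h𝔮)) hb
        refine ⟨a' + b, I.add_mem ha' hbI, fun 𝔭 h𝔭 => ?_⟩
        by_cases he : 𝔭 = 𝔭₀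
        · subst he
          intro hmem
          apply hb₀
          have := 𝔭.sub_mem hmem hcase
          have e : g + (a' + b) - (g + a') = b := by ring
          rwa [e] at this
        · have h𝔭' : 𝔭 ∈ s.erase 𝔭₀ := Finset.mem_erase.mpr ⟨he, h𝔭⟩
          intro hmem
          apply h' 𝔭 h𝔭'
          have := 𝔭.sub_mem hmem (hbq 𝔭 h𝔭')
          have e : g + (a' + b) - b = g + a' := by ring
          rwa [e] at this
      · refine ⟨a', ha', fun 𝔭 h𝔭 => ?_⟩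
        by_cases he : 𝔭 = 𝔭₀
        · subst he; exact hcase
        · exact h' 𝔭 (Finset.mem_erase.mpr ⟨he, h𝔭⟩)

end Groth.Agent.Lib.Helper12.CosetAvoid

namespace Groth.Agent.Lib.Helper12.FiniteAvoid
open Ferrand CosetAvoid

variable {S : Scheme.{u}} {U : S.Opens} (hU : IsAffineOpen U)

/-- the finite set of primes of `Γ(S, U)` of the points of a finite subset of `S` -/
theorem finite_primes (E : Set S) (hE : E.Finite) :
    {𝔭 : Ideal Γ(S, U) | ∃ y : Spec Γ(S, U), y.asIdeal = 𝔭 ∧ hU.fromSpec.base y ∈ E}.Finite := by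
  have h1 : (hU.fromSpec.base ⁻¹' E).Finite :=
    hE.preimage (hU.fromSpec.isOpenEmbedding.injective.injOn)
  refine (h1.image (fun y : Spec Γ(S, U) => y.asIdeal)).subset ?_
  rintro 𝔭 ⟨y, rfl, hy⟩
  exact ⟨y, hy, rfl⟩

include hU in
theorem exists_basicOpen_of_finite (E : Set S) (hE : E.Finite) (C : Set S) (hC : IsClosed C)
    (hdisj : ∀ e ∈ E, e ∉ C) :
    ∃ g : Γ(S, U), (∀ e ∈ E, e ∈ U → e ∈ S.basicOpen g) ∧ ∀ x ∈ S.basicOpen g, x ∉ C := by
  classical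
  let t : Set (PrimeSpectrum Γ(S, U)) := hU.fromSpec.base ⁻¹' C
  have ht : IsClosed t := hC.preimage hU.fromSpec.continuous
  let I : Ideal Γ(S, U) := vanishingIdeal t
  have hzl : zeroLocus (I : Set Γ(S, U)) = t := by
    rw [zeroLocus_vanishingIdeal_eq_closure, ht.closure_eq]
  have hfin := finite_primes hU E hE
  obtain ⟨g, hgI, hg⟩ := exists_mem_forall_notMem I hfin.toFinset
    (fun 𝔭 h𝔭 => by
      obtain ⟨y, rfl, -⟩ := hfin.mem_toFinset.mp h𝔭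
      exact y.isPrime)
    (fun 𝔭 h𝔭 hle => by
      obtain ⟨y, rfl, hy⟩ := hfin.mem_toFinset.mp h𝔭
      have : y ∈ zeroLocus (I : Set Γ(S, U)) := (mem_zeroLocus _ _).mpr hle
      rw [hzl] at this
      exact hdisj _ hy this)
  refine ⟨g, fun e he heU => ?_, fun x hx hxC => ?_⟩
  · obtain ⟨y, rfl⟩ := exists_fromSpec_eq hU e heU
    rw [fromSpec_mem_basicOpen]
    exact hg _ (hfin.mem_toFinset.mpr ⟨y, rfl, he⟩)
  · obtain ⟨y, rfl⟩ := exists_fromSpec_eq hU x (S.basicOpen_le g hx)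
    rw [fromSpec_mem_basicOpen] at hx
    apply hx
    have hyt : y ∈ t := hxC
    rw [← hzl] at hyt
    exact (mem_zeroLocus _ _).mp hyt hgI

include hU in
theorem exists_add_basicOpen (g : Γ(S, U)) (I : Ideal Γ(S, U)) (E : Set S) (hE : E.Finite)
    (h : ∀ y : Spec Γ(S, U), hU.fromSpec.base y ∈ E → I ≤ y.asIdeal →
      hU.fromSpec.base y ∈ S.basicOpen g) :
    ∃ a ∈ I, ∀ e ∈ E, e ∈ U → e ∈ S.basicOpen (g + a) := by
  classical
  have hfin := finite_primes hU E hE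
  obtain ⟨a, haI, ha⟩ := exists_add_notMem g I hfin.toFinset
    (fun 𝔭 h𝔭 => by
      obtain ⟨y, rfl, -⟩ := hfin.mem_toFinset.mp h𝔭
      exact y.isPrime)
    (fun 𝔭 h𝔭 hle => by
      obtain ⟨y, rfl, hy⟩ := hfin.mem_toFinset.mp h𝔭
      exact (fromSpec_mem_basicOpen hU g y).mp (h y hy hle))
  refine ⟨a, haI, fun e he heU => ?_⟩
  obtain ⟨y, rfl⟩ := exists_fromSpec_eq hU e heU
  rw [fromSpec_mem_basicOpen]
  exact ha _ (hfin.mem_toFinset.mpr ⟨y, rfl, he⟩)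

end Groth.Agent.Lib.Helper12.FiniteAvoid
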