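import Mathlib
import Groth.Agent.Lib.Helper12.FiniteAvoid
import Groth.Agent.Lib.Helper12.Ferrand7
import Groth.Agent.Lib.Helper12.Ferrand5

/-!
# Finite sets of points in affine opens of a pushout of two closed immersions (helper12)

* `exists_goodPair_of_finite`: compatible finite sets `E₁ ⊆ U₁`, `E₂ ⊆ U₂` in affine opens lie in a
  good pair.
* `exists_affineOpen_of_finite`: in a pushout `X₁ ⊔_Y X₂` of two closed immersions, a finite set whose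
  preimages lie in affine opens lies in an affine open.
-/

set_option autoImplicit false
universe u
open CategoryTheory AlgebraicGeometry Opposite TopologicalSpace PrimeSpectrum Limits

namespace Groth.Agent.Lib.Helper12.FiniteChart
open Ferrand FiniteAvoid

variable {X Y Z : Scheme.{u}} (i : Z ⟶ X) (j : Z ⟶ Y) [IsClosedImmersion i] [IsClosedImmersion j]

/-- points of `Spec Γ(X, U)` containing the kernel of restriction to `Z` come from `Z` -/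
theorem exists_of_ker_le' {U : X.Opens} (hU : IsAffineOpen U) (y : Spec Γ(X, U))
    (hy : RingHom.ker (i.app U).hom ≤ y.asIdeal) :
    ∃ z : Z, i.base z = hU.fromSpec.base y := by
  have hW : IsAffineOpen (i ⁻¹ᵁ U) := hU.preimage i
  have hsurj : Function.Surjective (i.app U).hom := i.app_surjective U hU
  have : y ∈ Set.range (comap (i.app U).hom) := by
    rw [_root_.range_comap_of_surjective _ _ hsurj]
    exact hy
  obtain ⟨y', rfl⟩ := this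
  refine ⟨hW.fromSpec.base y', ?_⟩
  have h1 := IsAffineOpen.SpecMap_appLE_fromSpec i hU hW le_rfl
  have h2 := congrArg (fun φ : Spec Γ(Z, i ⁻¹ᵁ U) ⟶ X => φ.base y') h1
  simp only [Scheme.Hom.comp_base] at h2
  rw [← Scheme.Hom.app_eq_appLE] at h2
  exact h2.symm

/-- a good pair containing two compatible finite sets lying in affine opens -/
theorem exists_goodPair_of_finite (U₁ : X.Opens) (hU₁ : IsAffineOpen U₁) (U₂ : Y.Opens)
    (hU₂ : IsAffineOpen U₂) (E₁ : Set X) (E₂ : Set Y) (hE₁ : E₁.Finite) (hE₂ : E₂.Finite)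
    (h₁ : E₁ ⊆ (U₁ : Set X)) (h₂ : E₂ ⊆ (U₂ : Set Y))
    (hF : ∀ z : Z, i.base z ∈ E₁ ↔ j.base z ∈ E₂) :
    ∃ (U : X.Opens) (V : Y.Opens), IsAffineOpen U ∧ IsAffineOpen V ∧ i ⁻¹ᵁ U = j ⁻¹ᵁ V ∧
      E₁ ⊆ (U : Set X) ∧ E₂ ⊆ (V : Set Y) := by
  -- step 1
  have hC₁ : IsClosed (i.base '' ((j ⁻¹ᵁ U₂ : Z.Opens) : Set Z)ᶜ) :=
    i.isClosedEmbedding.isClosedMap _ (j ⁻¹ᵁ U₂).isOpen.isClosed_compl
  obtain ⟨g₁, hg₁E, hg₁C⟩ := exists_basicOpen_of_finite hU₁ E₁ hE₁ _ hC₁ (by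
    rintro e he ⟨z, hz, rfl⟩
    exact hz (h₂ ((hF z).mp he)))
  have hU₁' : IsAffineOpen (X.basicOpen g₁) := hU₁.basicOpen g₁
  have hle₁ : i ⁻¹ᵁ (X.basicOpen g₁) ≤ j ⁻¹ᵁ U₂ := by
    intro z hz
    by_contra hzn
    exact hg₁C _ hz ⟨z, hzn, rfl⟩
  -- step 2
  have hC₂ : IsClosed (j.base '' ((i ⁻¹ᵁ (X.basicOpen g₁) : Z.Opens) : Set Z)ᶜ) :=
    j.isClosedEmbedding.isClosedMap _ (i ⁻¹ᵁ (X.basicOpen g₁)).isOpen.isClosed_compl
  obtain ⟨g₂, hg₂E, hg₂C⟩ := exists_basicOpen_of_finite hU₂ E₂ hE₂ _ hC₂ (by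
    rintro e he ⟨z, hz, rfl⟩
    exact hz (hg₁E _ ((hF z).mpr he) (h₁ ((hF z).mpr he))))
  have hV : IsAffineOpen (Y.basicOpen g₂) := hU₂.basicOpen g₂
  have hle₂ : j ⁻¹ᵁ (Y.basicOpen g₂) ≤ i ⁻¹ᵁ (X.basicOpen g₁) := by
    intro z hz
    by_contra hzn
    exact hg₂C _ hz ⟨z, hzn, rfl⟩
  -- step 3
  have hZ' : IsAffineOpen (i ⁻¹ᵁ U₁) := hU₁.preimage i
  have e1 : j ⁻¹ᵁ Y.basicOpen g₂ = Z.basicOpen (j.app _ g₂) := Scheme.preimage_basicOpen j g₂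
  have e2 : i ⁻¹ᵁ X.basicOpen g₁ = Z.basicOpen (i.app _ g₁) := Scheme.preimage_basicOpen i g₁
  have haW : Z.basicOpen (i.app _ g₁) ≤ j ⁻¹ᵁ U₂ := e2 ▸ hle₁
  obtain ⟨f', hf'⟩ := hZ'.basicOpen_basicOpen_is_basicOpen (i.app _ g₁)
    ((Z.presheaf.map (homOfLE haW).op).hom (j.app _ g₂))
  obtain ⟨gl, hgl⟩ := i.app_surjective U₁ hU₁ f'
  have hpre : ∀ a ∈ RingHom.ker (i.app U₁).hom, i ⁻¹ᵁ X.basicOpen (gl + a) = j ⁻¹ᵁ Y.basicOpen g₂ := by
    intro a ha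
    rw [Scheme.preimage_basicOpen, map_add]
    have ha' : (i.app U₁).hom a = 0 := ha
    have : (i.app U₁) a = 0 := ha'
    rw [this, add_zero, hgl, hf', Scheme.basicOpen_res, e1]
    exact inf_eq_right.mpr (e1 ▸ e2 ▸ hle₂)
  -- step 4
  obtain ⟨a, haI, haE⟩ := exists_add_basicOpen hU₁ gl (RingHom.ker (i.app U₁).hom) E₁ hE₁ (by
    intro y hyE hle
    obtain ⟨z, hz⟩ := exists_of_ker_le' i hU₁ y hle
    rw [← hz]
    have hzE : i.base z ∈ E₁ := hz ▸ hyE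
    have h3 : z ∈ j ⁻¹ᵁ Y.basicOpen g₂ := hg₂E _ ((hF z).mp hzE) (h₂ ((hF z).mp hzE))
    rw [← hpre 0 (Ideal.zero_mem _), add_zero] at h3
    exact h3)
  refine ⟨X.basicOpen (gl + a), Y.basicOpen g₂, hU₁.basicOpen _, hV, hpre a haI, ?_, ?_⟩
  · intro e he
    exact haE e he (h₁ he)
  · intro e he
    exact hg₂E e he (h₂ he)


/-- **finite sets in affine opens of a pushout of two closed immersions** -/
theorem exists_affineOpen_of_finite {P : Scheme.{u}} (a : X ⟶ P) (b : Y ⟶ P)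
    (hP : IsPushout i j a b) (E : Set P) (hE : E.Finite)
    (h₁ : ∃ U₁ : X.Opens, IsAffineOpen U₁ ∧ a.base ⁻¹' E ⊆ (U₁ : Set X))
    (h₂ : ∃ U₂ : Y.Opens, IsAffineOpen U₂ ∧ b.base ⁻¹' E ⊆ (U₂ : Set Y)) :
    ∃ U : P.Opens, IsAffineOpen U ∧ E ⊆ (U : Set P) := by
  have haff : ∀ y : Y, ∃ U : X.Opens, IsAffineOpen U ∧
      j.base ⁻¹' {y} ⊆ (i ⁻¹ᵁ U : Set Z) := by
    intro y
    by_cases hy : ∃ z : Z, j.base z = y
    · obtain ⟨z, rfl⟩ := hy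
      obtain ⟨U, hU, hzU, -⟩ := exists_isAffineOpen_mem_and_subset (X := X)
        (x := i.base z) (U := ⊤) trivial
      refine ⟨U, hU, fun z' hz' => ?_⟩
      have : z' = z := j.isClosedEmbedding.injective hz'
      rw [this]
      exact hzU
    · refine ⟨⊥, isAffineOpen_bot _, fun z' hz' => ?_⟩
      exact absurd ⟨z', hz'⟩ hy
  have hcov := Ferrand5.exists_goodPair i j haff
  obtain ⟨-, hb, -, ha⟩ := Ferrand6.of_isPushout i j hcov a b hP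
  have : IsClosedImmersion a := ha inferInstance
  obtain ⟨U₁, hU₁, hE₁⟩ := h₁
  obtain ⟨U₂, hU₂, hE₂⟩ := h₂
  have hfin₁ : (a.base ⁻¹' E).Finite := hE.preimage a.isClosedEmbedding.injective.injOn
  have hfin₂ : (b.base ⁻¹' E).Finite := hE.preimage b.isClosedEmbedding.injective.injOn
  have hF : ∀ z : Z, i.base z ∈ a.base ⁻¹' E ↔ j.base z ∈ b.base ⁻¹' E := by
    intro z
    change a.base (i.base z) ∈ E ↔ b.base (j.base z) ∈ E
    rw [← Scheme.Hom.comp_apply, ← Scheme.Hom.comp_apply, hP.w]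
  obtain ⟨U, V, hU, hV, hUV, hEU, hEV⟩ := exists_goodPair_of_finite i j U₁ hU₁ U₂ hU₂ _ _
    hfin₁ hfin₂ hE₁ hE₂ hF
  have hcov' : ∀ y : Y, ∃ k : GoodPair i j, y ∈ k.V := by
    intro y
    obtain ⟨U, V, hU, hV, hy, h⟩ := hcov y
    exact ⟨⟨U, V, hU, hV, h⟩, hy⟩
  have h1 := Ferrand.isPushout i j hcov'
  have ea : Ferrand.a i j hcov' ≫ (h1.isoIsPushout _ _ hP).hom = a := h1.inl_isoIsPushout_hom _ _ hP
  have eb : Ferrand.b i j hcov' ≫ (h1.isoIsPushout _ _ hP).hom = b := h1.inr_isoIsPushout_hom _ _ hP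
  let k : GoodPair i j := ⟨U, V, hU, hV, hUV⟩
  have : IsAffine ((chart i j).obj k) := inferInstanceAs (IsAffine (Spec _))
  refine ⟨(ιP i j k ≫ (h1.isoIsPushout _ _ hP).hom).opensRange,
    isAffineOpen_opensRange (ιP i j k ≫ (h1.isoIsPushout _ _ hP).hom), fun x hx => ?_⟩
  rcases Ferrand7.joint_surjective_of_isPushout i j hcov a b hP x with ⟨x₁, rfl⟩ | ⟨x₂, rfl⟩
  · have hx₁ : x₁ ∈ Ferrand.a i j hcov' ⁻¹ᵁ (ιP i j k).opensRange := by
      rw [a_preimage]; exact hEU hx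
    obtain ⟨w, hw⟩ := hx₁
    refine ⟨w, ?_⟩
    rw [Scheme.Hom.comp_apply, hw, ← Scheme.Hom.comp_apply, ea]
  · have hx₂ : x₂ ∈ Ferrand.b i j hcov' ⁻¹ᵁ (ιP i j k).opensRange := by
      rw [b_preimage]; exact hEV hx
    obtain ⟨w, hw⟩ := hx₂
    refine ⟨w, ?_⟩
    rw [Scheme.Hom.comp_apply, hw, ← Scheme.Hom.comp_apply, eb]

end Groth.Agent.Lib.Helper12.FiniteChart
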