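import Groth.Agent.Lib.Helper12.PolyAlg
import Groth.Agent.Lib.Helper28.ProjPolySpec
import Groth.Agent.Lib.Helper28.PolyGrade3
import Groth.Agent.Lib.Helper28.RelProjExists

/-!
# Finite morphisms are projective (helper12)

* `exists_iso_spec`: for `Ŝ = 𝒜[T]` (presented as in helper28's `ProjPolySpec`), `Spec 𝒜 ≅ Proj Ŝ` over `Y`.
* `exists_iso_spec_directImage`: for an affine morphism `f : X ⟶ Y`, `X ≅ Spec f_* O_X` over `Y`.
* `isProjective_of_isFinite`: a finite morphism is projective (EGA II 6.1.11).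
-/

set_option autoImplicit false
universe u

open CategoryTheory CategoryTheory.Limits AlgebraicGeometry TopologicalSpace Opposite
open scoped HomogeneousIdeal

namespace Groth.Agent.Lib.helper12.FiniteProj

open Groth.Agent.Lib.helper28 Groth.Agent.Lib.helper28.PolyGrade

section Theta

variable {Y P : Scheme.{u}} (𝒜 : RelSpec.QCAlg Y) (Sh : RelProj.QCGrAlg Y)
  (ι : 𝒜 ⟶ Sh.toQCAlg)
  (hι : ∀ (U : Y.Opens) (hU : IsAffineOpen U) (a : 𝒜.presheaf.obj (op U)),
    (ι.hom.app (op U)).hom a ∈ Sh.deg U hU 0)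
  (z : Sh.presheaf.obj (op ⊤))
  (hz : ∀ (U : Y.Opens) (hU : IsAffineOpen U),
    (Sh.presheaf.map (homOfLE le_top).op).hom z ∈ Sh.deg U hU 1)
  (hpoly : ∀ (U : Y.Opens) (_ : IsAffineOpen U),
    Function.Bijective (Polynomial.eval₂RingHom (ι.hom.app (op U)).hom
      ((Sh.presheaf.map (homOfLE le_top).op).hom z)))

/-- `𝒜(U) → Ŝ(U)_0`. -/
def σ (U : Y.Opens) (hU : IsAffineOpen U) : 𝒜.presheaf.obj (op U) →+* Sh.deg U hU 0 where
  toFun a := ⟨(ι.hom.app (op U)).hom a, hι U hU a⟩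
  map_one' := Subtype.ext (map_one _)
  map_mul' a b := Subtype.ext (map_mul _ a b)
  map_zero' := Subtype.ext (map_zero _)
  map_add' a b := Subtype.ext (map_add _ a b)

/-- The ring isomorphism `𝒜(U) ≃ Ŝ(U)_(z)`. -/
noncomputable def awayEquiv (U : Y.Opens) (hU : IsAffineOpen U) :
    𝒜.presheaf.obj (op U) ≃+* HomogeneousLocalization.Away (Sh.deg U hU)
      ((Sh.presheaf.map (homOfLE le_top).op).hom z) :=
  RingEquiv.ofBijective _ (bijective_fromZero (Sh.deg U hU) (ι.hom.app (op U)).hom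
    ((Sh.presheaf.map (homOfLE le_top).op).hom z) (hι U hU) (hz U hU) (hpoly U hU)
    (σ 𝒜 Sh ι hι U hU) (fun _ => rfl))

/-- `θ_U : Ŝ(U)_(z) → 𝒜(U)`. -/
noncomputable def θ (U : Y.Opens) (hU : IsAffineOpen U) :
    CommRingCat.of (HomogeneousLocalization.Away (Sh.deg U hU)
      ((Sh.presheaf.map (homOfLE le_top).op).hom z)) ⟶ 𝒜.presheaf.obj (op U) :=
  CommRingCat.ofHom (awayEquiv 𝒜 Sh ι hι z hz hpoly U hU).symm.toRingHom

theorem hθ (U : Y.Opens) (hU : IsAffineOpen U)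
    (q : HomogeneousLocalization.Away (Sh.deg U hU) ((Sh.presheaf.map (homOfLE le_top).op).hom z))
    (k : ℕ) (a : 𝒜.presheaf.obj (op U))
    (hq : q.val = Localization.mk ((ι.hom.app (op U)).hom a *
          (Sh.presheaf.map (homOfLE le_top).op).hom z ^ k)
        ⟨(Sh.presheaf.map (homOfLE le_top).op).hom z ^ k,
          pow_mem (Submonoid.mem_powers ((Sh.presheaf.map (homOfLE le_top).op).hom z)) k⟩) :
    (θ 𝒜 Sh ι hι z hz hpoly U hU).hom q = a := by
  have h1 : q = awayEquiv 𝒜 Sh ι hι z hz hpoly U hU a := by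
    apply HomogeneousLocalization.val_injective
    rw [hq]
    change _ = (HomogeneousLocalization.fromZeroRingHom (Sh.deg U hU) _
      (σ 𝒜 Sh ι hι U hU a)).val
    rw [HomogeneousLocalization.fromZeroRingHom]
    change _ = Localization.mk ((ι.hom.app (op U)).hom a) ⟨1, one_mem _⟩
    rw [Localization.mk_eq_mk_iff, Localization.r_iff_exists]
    refine ⟨1, ?_⟩
    simp only [OneMemClass.coe_one, one_mul]
    ring
  rw [h1]
  exact (awayEquiv 𝒜 Sh ι hι z hz hpoly U hU).symm_apply_apply a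

include hι hz hpoly in
/-- `Spec 𝒜 ≅ Proj 𝒜[T]` over `Y`. -/
theorem exists_iso_spec (p : P ⟶ Y)
    (chart : ∀ (U : Y.Opens) (hU : IsAffineOpen U),
      (((p ⁻¹ᵁ U : P.Opens) : Scheme.{u}) ≅ Proj (Sh.deg U hU)))
    (hP : RelProj.IsRelProj Sh p chart) :
    ∃ i : 𝒜.spec ≅ P, i.hom ≫ p = 𝒜.π := by
  obtain ⟨i, hi, -⟩ := ProjPolySpec.existsUnique_map 𝒜 Sh ι p chart hι z hz hpoly hP
    (θ 𝒜 Sh ι hι z hz hpoly) (hθ 𝒜 Sh ι hι z hz hpoly)
  have h1 := ProjPolySpec.isIso_map 𝒜 Sh ι p chart hι z hz hpoly hP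
    (θ 𝒜 Sh ι hι z hz hpoly) (hθ 𝒜 Sh ι hι z hz hpoly) i hi
  have h2 := ProjPolySpec.map_comp_p 𝒜 Sh ι p chart hι z hz hP
    (θ 𝒜 Sh ι hι z hz hpoly) (hθ 𝒜 Sh ι hι z hz hpoly) i hi
  exact ⟨asIso i, h2⟩

end Theta

section Affine

variable {X Y : Scheme.{u}} (f : X ⟶ Y) [IsAffineHom f]

/-- Morphisms out of a relative spectrum agreeing on all charts are equal. -/
theorem spec_hom_ext (A : RelSpec.QCAlg Y) {Z : Scheme.{u}} (a b : A.spec ⟶ Z)
    (h : ∀ (U : Y.Opens) (hU : IsAffineOpen U), A.ι U hU ≫ a = A.ι U hU ≫ b) : a = b := by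
  apply colimit.hom_ext
  intro U
  exact h U.1 U.2

/-- The chartwise morphisms `Spec Γ(X, f⁻¹U) ⟶ X`. -/
noncomputable def chartToX (U : Y.Opens) (hU : IsAffineOpen U) :
    Spec ((RelSpec.QCAlg.directImage f).presheaf.obj (op U)) ⟶ X :=
  (hU.preimage f).fromSpec

theorem exists_specToX : ∃ i : (RelSpec.QCAlg.directImage f).spec ⟶ X,
    ∀ (U : Y.Opens) (hU : IsAffineOpen U),
      (RelSpec.QCAlg.directImage f).ι U hU ≫ i = chartToX f U hU := by
  obtain ⟨i, hi, -⟩ := ProjPolySpec.existsUnique_desc (RelSpec.QCAlg.directImage f)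
    (chartToX f) (by
      intro U hU r
      exact (hU.preimage f).map_fromSpec ((hU.basicOpen r).preimage f)
        ((Opens.map f.base).map (homOfLE (Y.basicOpen_le r))).op)
  exact ⟨i, hi⟩

theorem specToX_comp (i : (RelSpec.QCAlg.directImage f).spec ⟶ X)
    (hi : ∀ (U : Y.Opens) (hU : IsAffineOpen U),
      (RelSpec.QCAlg.directImage f).ι U hU ≫ i = chartToX f U hU) :
    i ≫ f = (RelSpec.QCAlg.directImage f).π := by
  apply spec_hom_ext
  intro U hU
  rw [← Category.assoc, hi U hU, (RelSpec.QCAlg.directImage f).ι_π U hU]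
  change (hU.preimage f).fromSpec ≫ f = Spec.map (f.app U) ≫ hU.fromSpec
  have h := IsAffineOpen.SpecMap_appLE_fromSpec f hU (hU.preimage f) le_rfl
  rw [← h, Scheme.Hom.app_eq_appLE]

theorem isIso_specToX (i : (RelSpec.QCAlg.directImage f).spec ⟶ X)
    (hi : ∀ (U : Y.Opens) (hU : IsAffineOpen U),
      (RelSpec.QCAlg.directImage f).ι U hU ≫ i = chartToX f U hU) : IsIso i := by
  have hif := specToX_comp f i hi
  let 𝒰 : X.OpenCover := {
    I₀ := {U : Y.Opens // IsAffineOpen U}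
    X := fun U => ((f ⁻¹ᵁ U.1 : X.Opens) : Scheme.{u})
    f := fun U => (f ⁻¹ᵁ U.1).ι
    mem₀ := by
      rw [Scheme.presieve₀_mem_precoverage_iff]
      refine ⟨fun x => ?_, fun U => inferInstance⟩
      obtain ⟨_, ⟨U, hU, rfl⟩, hxU, -⟩ := Y.isBasis_affineOpens.exists_subset_of_mem_open
        (Set.mem_univ (f.base x)) isOpen_univ
      refine ⟨⟨U, hU⟩, ?_⟩
      change x ∈ Set.range (f ⁻¹ᵁ U).ι.base
      rw [Scheme.Opens.range_ι]
      exact hxU }
  refine (IsZariskiLocalAtTarget.iff_of_openCover (P := MorphismProperty.isomorphisms Scheme)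
    𝒰).mpr ?_
  intro U
  change IsIso (pullback.snd i (f ⁻¹ᵁ U.1).ι)
  obtain ⟨U, hU⟩ := U
  let g : Spec ((RelSpec.QCAlg.directImage f).presheaf.obj (op U)) ⟶
      ((f ⁻¹ᵁ U : X.Opens) : Scheme.{u}) := (hU.preimage f).isoSpec.inv
  have hg : IsIso g := by
    change IsIso (hU.preimage f).isoSpec.inv
    infer_instance
  have hoi : IsOpenImmersion ((RelSpec.QCAlg.directImage f).ι U hU) :=
    (RelSpec.QCAlg.directImage f).glueData.cover.map_prop _
  have sq : IsPullback g ((RelSpec.QCAlg.directImage f).ι U hU) (f ⁻¹ᵁ U).ι i := by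
    refine @IsOpenImmersion.isPullback _ _ _ _ _ _ _ _ hoi inferInstance ?_ ?_
    · exact hi U hU
    · have h1 : (f ⁻¹ᵁ U).ι.opensRange = f ⁻¹ᵁ U := Scheme.Opens.opensRange_ι _
      have h2 := (RelSpec.QCAlg.directImage f).π_preimage U hU
      rw [h1]
      refine Eq.trans ?_ h2
      rw [← hif, Scheme.Hom.comp_preimage]
  have e := sq.flip.isoPullback_hom_snd
  have e' : pullback.snd i (f ⁻¹ᵁ U).ι = sq.flip.isoPullback.inv ≫ g :=
    ((Iso.inv_comp_eq _).mpr e.symm).symm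
  rw [e']
  infer_instance

/-- For an affine morphism `f : X ⟶ Y`, `X ≅ Spec f_* O_X` over `Y`. -/
theorem exists_iso_spec_directImage :
    ∃ c : X ≅ (RelSpec.QCAlg.directImage f).spec, c.hom ≫ (RelSpec.QCAlg.directImage f).π = f := by
  obtain ⟨i, hi⟩ := exists_specToX f
  have h1 := isIso_specToX f i hi
  have h2 := specToX_comp f i hi
  refine ⟨(asIso i).symm, ?_⟩
  change inv i ≫ _ = f
  rw [IsIso.inv_comp_eq, h2]

end Affine

/-- **A finite morphism is projective** (EGA II 6.1.11): `X = Spec 𝒜 = Proj 𝒜[T]` with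
`𝒜 = f_* O_X`. -/
theorem isProjective_of_isFinite {X Y : Scheme.{u}} (f : X ⟶ Y) [IsFinite f] :
    RelProj.IsProjective f := by
  let 𝒜 := RelSpec.QCAlg.directImage f
  obtain ⟨P, p, chart, hP⟩ := RelProjExists.exists_relProj (PolyAlg.polyGrAlg 𝒜)
  obtain ⟨i, hi⟩ := exists_iso_spec 𝒜 (PolyAlg.polyGrAlg 𝒜) (PolyAlg.ι 𝒜) (PolyAlg.ι_mem 𝒜)
    (PolyAlg.z 𝒜) (PolyAlg.z_mem 𝒜) (PolyAlg.hpoly 𝒜) p chart hP
  obtain ⟨c, hc⟩ := exists_iso_spec_directImage f
  refine ⟨PolyAlg.polyGrAlg 𝒜, P, p, chart, c ≪≫ i, PolyAlg.isGenDegOne 𝒜,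
    PolyAlg.isFTDeg_one 𝒜 ?_, hP, ?_⟩
  · intro U hU
    exact IsFinite.finite_app f U hU
  · rw [Iso.trans_hom, Category.assoc, hi, hc]

end Groth.Agent.Lib.helper12.FiniteProj
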