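import Mathlib

/-!
# helper12: tensoring a projective module with a product

For a projective module `P`, the canonical map `P ⊗ (Π i, M i) → Π i, P ⊗ M i` is injective; more
generally this holds with a submodule `L` of the product in place of the product.
-/

set_option autoImplicit false
universe u v w

namespace Groth.Agent.Lib.helper12.FrobSplit

open TensorProduct

section proj

variable (R : Type u) [CommRing R] (P : Type v) [AddCommGroup P] [Module R P]
  {ι : Type w} (M : ι → Type*) [∀ i, AddCommGroup (M i)] [∀ i, Module R (M i)]

/-- for a projective module `P`, the map `P ⊗ Π M i → Π P ⊗ M i` is injective. -/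
theorem pi_lTensor_proj_injective [Module.Projective R P] :
    Function.Injective (LinearMap.pi fun i =>
      LinearMap.lTensor P (LinearMap.proj i : (Π i, M i) →ₗ[R] M i)) := by
  classical
  obtain ⟨s, hs⟩ := Module.projective_def'.1 (inferInstance : Module.Projective R P)
  rw [← LinearMap.ker_eq_bot, LinearMap.ker_eq_bot']
  intro x hx
  have hx' : ∀ i, LinearMap.lTensor P (LinearMap.proj i : (Π i, M i) →ₗ[R] M i) x = 0 :=
    fun i => congrFun hx i
  -- injectivity of `s ⊗ id`
  have hinj : Function.Injective (LinearMap.rTensor (Π i, M i) s) := by
    apply Function.LeftInverse.injective (g := LinearMap.rTensor (Π i, M i)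
      (Finsupp.linearCombination R id))
    intro y
    rw [← LinearMap.comp_apply, ← LinearMap.rTensor_comp, hs, LinearMap.rTensor_id,
      LinearMap.id_apply]
  apply hinj
  rw [map_zero]
  apply (TensorProduct.finsuppScalarLeft R (Π i, M i) P).injective
  rw [map_zero]
  apply Finsupp.ext
  intro q
  funext i
  rw [TensorProduct.finsuppScalarLeft_apply, ← LinearMap.comp_apply, ← LinearMap.rTensor_comp]
  -- naturality
  have hnat : ∀ y : P ⊗[R] (Π i, M i),
      (TensorProduct.lid R (Π i, M i)
        (LinearMap.rTensor (Π i, M i) (Finsupp.lapply q ∘ₗ s) y)) i =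
      TensorProduct.lid R (M i) (LinearMap.rTensor (M i) (Finsupp.lapply q ∘ₗ s)
        (LinearMap.lTensor P (LinearMap.proj i : (Π i, M i) →ₗ[R] M i) y)) := by
    intro y
    induction y using TensorProduct.induction_on with
    | zero => simp
    | tmul a b => simp
    | add a b ha hb => simp only [map_add, Pi.add_apply, ha, hb]
  rw [hnat, hx' i]
  simp

/-- the same with a submodule of the product. -/
theorem pi_lTensor_proj_subtype_injective [Module.Projective R P] (L : Submodule R (Π i, M i)) :
    Function.Injective (LinearMap.pi fun i =>
      LinearMap.lTensor P ((LinearMap.proj i : (Π i, M i) →ₗ[R] M i).comp L.subtype)) := by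
  have h1 : Function.Injective (LinearMap.lTensor P L.subtype) :=
    Module.Flat.lTensor_preserves_injective_linearMap _ L.injective_subtype
  have h2 := pi_lTensor_proj_injective R P M
  have : (LinearMap.pi fun i =>
      LinearMap.lTensor P ((LinearMap.proj i : (Π i, M i) →ₗ[R] M i).comp L.subtype)) =
      (LinearMap.pi fun i => LinearMap.lTensor P (LinearMap.proj i : (Π i, M i) →ₗ[R] M i)) ∘ₗ
        LinearMap.lTensor P L.subtype := by
    apply LinearMap.ext
    intro y
    funext i
    simp only [LinearMap.pi_apply, LinearMap.comp_apply, LinearMap.lTensor_comp]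
  rw [this]
  exact h2.comp h1

end proj

end Groth.Agent.Lib.helper12.FrobSplit
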