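import Mathlib
import Groth.Prelude.Def_FrobAlg

/-!
# helper12: iterated Frobenius push-forwards of a ring whose Frobenius is projective

`PT p R n` is `R` with the `R`-module structure through the `n`-th iterate of Frobenius. If
`PT p R 1` (= `FrobAlg.Twist p R`) is projective, then so is every `PT p R n`, and the Frobenius
of `R` is split.
-/

set_option autoImplicit false
universe u

namespace Groth.Agent.Lib.helper12.FrobSplit

set_option linter.unusedVariables false in
/-- `R` with the `R`-module structure through the `n`-th iterate of Frobenius. -/
@[nolint unusedArguments]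
def PT (p : ℕ) (R : Type u) (n : ℕ) : Type u := R

section

variable (p : ℕ) [hp : Fact p.Prime] (R : Type u) [CommRing R] [CharP R p] (n : ℕ)

instance : CommRing (PT p R n) := inferInstanceAs (CommRing R)

/-- the identity `R ≃ PT p R n` of rings. -/
def toPT : R ≃+* PT p R n := RingEquiv.refl R

instance : Algebra R (PT p R n) :=
  ((toPT p R n : R →+* PT p R n).comp (iterateFrobenius R p n)).toAlgebra

theorem smul_PT (a : R) (x : PT p R n) :
    a • x = toPT p R n (a ^ p ^ n * (toPT p R n).symm x) := by
  rw [Algebra.smul_def]
  rfl

theorem toPT_symm_smul (a : R) (x : PT p R n) :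
    (toPT p R n).symm (a • x) = a ^ p ^ n * (toPT p R n).symm x := by
  rw [smul_PT]
  rfl

/-- `PT p R 0` is `R`. -/
def PTzero : R ≃ₗ[R] PT p R 0 where
  toFun := toPT p R 0
  invFun := (toPT p R 0).symm
  left_inv := (toPT p R 0).left_inv
  right_inv := (toPT p R 0).right_inv
  map_add' := map_add _
  map_smul' a x := by
    rw [smul_PT, RingHom.id_apply, pow_zero, pow_one, smul_eq_mul]
    rfl

/-- `PT p R 1` is the Frobenius twist of the prelude. -/
def PTone : FrobAlg.Twist p R ≃ₗ[R] PT p R 1 where
  toFun x := toPT p R 1 ((FrobAlg.toTwist p R).symm x)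
  invFun x := FrobAlg.toTwist p R ((toPT p R 1).symm x)
  left_inv _ := rfl
  right_inv _ := rfl
  map_add' _ _ := rfl
  map_smul' a x := by
    rw [smul_PT, RingHom.id_apply, pow_one, Algebra.smul_def, FrobAlg.algebraMap_twist]
    rfl

end

section projective

variable (p : ℕ) [hp : Fact p.Prime] (R : Type u) [CommRing R] [CharP R p]

theorem projective_finsupp (ι : Type*) (M : Type*) [AddCommGroup M] [Module R M]
    [Module.Projective R M] : Module.Projective R (ι →₀ M) := by
  classical
  exact Module.Projective.of_equiv (finsuppLequivDFinsupp (ι := ι) (M := M) R).symm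

theorem pow_smul_PT_one (n : ℕ) (a : R) (x : PT p R 1) :
    (a ^ p ^ n) • x = toPT p R 1 (a ^ p ^ (n + 1) * (toPT p R 1).symm x) := by
  rw [smul_PT, pow_one, ← pow_mul, ← pow_succ]

/-- all the `PT p R n` are projective as soon as `PT p R 1` is. -/
theorem projective_PT [Module.Projective R (PT p R 1)] : ∀ n, Module.Projective R (PT p R n)
  | 0 => Module.Projective.of_equiv (PTzero p R)
  | n + 1 => by
    have ih := projective_PT n
    classical
    obtain ⟨s, hs⟩ := Module.projective_def'.1 (inferInstance : Module.Projective R (PT p R 1))
    have := projective_finsupp R (PT p R 1) (PT p R n)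
    let i : PT p R (n + 1) →ₗ[R] (PT p R 1 →₀ PT p R n) :=
      { toFun := fun r => (s (toPT p R 1 ((toPT p R (n + 1)).symm r))).mapRange
          (toPT p R n) (map_zero _)
        map_add' := fun x y => by
          rw [map_add, map_add, map_add]
          exact Finsupp.mapRange_add (f := (toPT p R n : R →+ PT p R n)) (map_add _) _ _
        map_smul' := fun a r => by
          rw [RingHom.id_apply, toPT_symm_smul, map_mul]
          have h1 : toPT p R 1 (a ^ p ^ (n + 1)) * toPT p R 1 ((toPT p R (n + 1)).symm r) =
              (a ^ p ^ n) • toPT p R 1 ((toPT p R (n + 1)).symm r) := by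
            rw [pow_smul_PT_one, map_mul]
            rfl
          rw [h1, map_smul]
          apply Finsupp.ext
          intro j
          rw [Finsupp.mapRange_apply, Finsupp.smul_apply, Finsupp.smul_apply,
            Finsupp.mapRange_apply, smul_PT, smul_eq_mul]
          rfl }
    let ret : (PT p R 1 →₀ PT p R n) →ₗ[R] PT p R (n + 1) :=
      { toFun := fun c => toPT p R (n + 1) ((toPT p R 1).symm
          (Finsupp.linearCombination R id (c.mapRange (toPT p R n).symm (map_zero _))))
        map_add' := fun x y => by
          rw [Finsupp.mapRange_add (fun a b => map_add (toPT p R n).symm a b),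
            map_add, map_add, map_add]
        map_smul' := fun a c => by
          rw [RingHom.id_apply, smul_PT]
          congr 1
          have h1 : (a • c).mapRange (toPT p R n).symm (map_zero _) =
              (a ^ p ^ n) • c.mapRange (toPT p R n).symm (map_zero _) := by
            apply Finsupp.ext
            intro j
            rw [Finsupp.mapRange_apply, Finsupp.smul_apply, Finsupp.smul_apply,
              Finsupp.mapRange_apply, toPT_symm_smul, smul_eq_mul]
          rw [h1, map_smul, pow_smul_PT_one]
          rfl }
    refine Module.Projective.of_split i ret ?_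
    apply LinearMap.ext
    intro r
    change toPT p R (n + 1) ((toPT p R 1).symm (Finsupp.linearCombination R id
      (((s (toPT p R 1 ((toPT p R (n + 1)).symm r))).mapRange (toPT p R n) (map_zero _)).mapRange
        (toPT p R n).symm (map_zero _)))) = r
    have h2 : ((s (toPT p R 1 ((toPT p R (n + 1)).symm r))).mapRange (toPT p R n)
        (map_zero _)).mapRange (toPT p R n).symm (map_zero _) =
        s (toPT p R 1 ((toPT p R (n + 1)).symm r)) := by
      apply Finsupp.ext
      intro j
      rfl
    rw [h2, ← LinearMap.comp_apply, hs]
    rfl

end projective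

end Groth.Agent.Lib.helper12.FrobSplit
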