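import Groth.Agent.Lib.Helper12.FrobSplit2

/-!
# helper12: Frobenius splitting and the retractions of the perfection

If `PT p R 1` is projective then Frobenius of `R` is split; from a splitting we construct an
`R`-linear retraction `ρ₀ : PerfectClosure R p → R` and retractions of the maps
`PT p R n → PerfectClosure R p`, `x ↦ x^(1/p^n)`.
-/

set_option autoImplicit false
universe u

namespace Groth.Agent.Lib.helper12.FrobSplit

section splitting

variable (p : ℕ) [hp : Fact p.Prime] (R : Type u) [CommRing R] [CharP R p]

/-- a projective Frobenius push-forward gives a Frobenius splitting. -/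
theorem exists_splitting [Module.Projective R (PT p R 1)] :
    ∃ f : PT p R 1 →ₗ[R] R, f (toPT p R 1 1) = 1 := by
  classical
  obtain ⟨s, hs⟩ := Module.projective_def'.1 (inferInstance : Module.Projective R (PT p R 1))
  by_contra hne
  push Not at hne
  let J : Ideal R := LinearMap.range
    (LinearMap.applyₗ (toPT p R 1 1) : (PT p R 1 →ₗ[R] R) →ₗ[R] R)
  have hJ : J ≠ ⊤ := by
    intro h
    have h1 : (1 : R) ∈ J := h ▸ Submodule.mem_top
    obtain ⟨f, hf⟩ := h1
    exact hne f hf
  obtain ⟨m, hm, hJm⟩ := Ideal.exists_le_maximal J hJ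
  have hcoef : ∀ j, s (toPT p R 1 1) j ∈ m := fun j => hJm ⟨(Finsupp.lapply j).comp s, rfl⟩
  have h1 : Finsupp.linearCombination R id (s (toPT p R 1 1)) = toPT p R 1 1 :=
    congrArg (fun g => g (toPT p R 1 1)) hs
  apply hm.ne_top
  rw [Ideal.eq_top_iff_one]
  have h2 : (toPT p R 1).symm (Finsupp.linearCombination R id (s (toPT p R 1 1))) ∈ m := by
    rw [Finsupp.linearCombination_apply, Finsupp.sum, map_sum]
    apply Ideal.sum_mem
    intro j _
    rw [id, toPT_symm_smul]
    exact m.mul_mem_right _ (Ideal.pow_mem_of_mem _ (hcoef j) _ (pow_pos hp.out.pos _))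
  rw [h1] at h2
  exact h2

end splitting

section retraction

variable (p : ℕ) [hp : Fact p.Prime] (R : Type u) [CommRing R] [CharP R p]
  (f : PT p R 1 →ₗ[R] R) (hf : f (toPT p R 1 1) = 1)

/-- the splitting as a function `R → R`. -/
def fR : R → R := fun r => f (toPT p R 1 r)

theorem fR_add (x y : R) : fR p R f (x + y) = fR p R f x + fR p R f y := by
  unfold fR
  rw [map_add, map_add]

theorem fR_pow_mul (a r : R) : fR p R f (a ^ p * r) = a * fR p R f r := by
  unfold fR
  have : toPT p R 1 (a ^ p * r) = a • toPT p R 1 r := by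
    rw [smul_PT, pow_one]
    rfl
  rw [this, map_smul, smul_eq_mul]

include hf in
theorem fR_one : fR p R f 1 = 1 := hf

include hf in
theorem fR_pow (a : R) : fR p R f (a ^ p) = a := by
  have := fR_pow_mul p R f a 1
  rwa [mul_one, fR_one p R f hf, mul_one] at this

theorem fR_iter_add (k : ℕ) (x y : R) :
    (fR p R f)^[k] (x + y) = (fR p R f)^[k] x + (fR p R f)^[k] y := by
  induction k generalizing x y with
  | zero => rfl
  | succ k ih => rw [Function.iterate_succ_apply, Function.iterate_succ_apply,
      Function.iterate_succ_apply, fR_add, ih]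

theorem fR_iter_pow_mul (k : ℕ) (a r : R) :
    (fR p R f)^[k] (a ^ p ^ k * r) = a * (fR p R f)^[k] r := by
  induction k generalizing a r with
  | zero => simp
  | succ k ih =>
    rw [Function.iterate_succ_apply, Function.iterate_succ_apply, pow_succ, pow_mul, fR_pow_mul,
      ih]

include hf in
theorem fR_iter_one (k : ℕ) : (fR p R f)^[k] 1 = 1 := by
  induction k with
  | zero => rfl
  | succ k ih => rw [Function.iterate_succ_apply, fR_one p R f hf, ih]

include hf in
theorem fR_iter_pow (k : ℕ) (a : R) : (fR p R f)^[k] (a ^ p ^ k) = a := by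
  have := fR_iter_pow_mul p R f k a 1
  rwa [mul_one, fR_iter_one p R f hf, mul_one] at this

include hf in
theorem fR_iter_add_pow (m k : ℕ) (a : R) :
    (fR p R f)^[m + k] (a ^ p ^ k) = (fR p R f)^[m] a := by
  rw [Function.iterate_add_apply, fR_iter_pow p R f hf]

end retraction

section rho

variable (p : ℕ) [hp : Fact p.Prime] (R : Type u) [CommRing R] [CharP R p]

/-- the algebra structure on the perfection. -/
@[reducible] def algPC : Algebra R (PerfectClosure R p) := (PerfectClosure.of R p).toAlgebra

attribute [local instance] algPC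

theorem smul_PC (a : R) (z : PerfectClosure R p) : a • z = PerfectClosure.of R p a * z := rfl

variable (f : PT p R 1 →ₗ[R] R) (hf : f (toPT p R 1 1) = 1)

/-- the retraction `ρ₀` as a function. -/
def rho0Fun (z : PerfectClosure R p) : R :=
  PerfectClosure.liftOn z (fun x => (fR p R f)^[x.1] x.2) (by
    rintro _ _ ⟨n, x⟩
    change (fR p R f)^[n] x = (fR p R f)^[n + 1] (frobenius R p x)
    rw [Function.iterate_succ_apply, frobenius_def, fR_pow p R f hf])

theorem rho0Fun_mk (n : ℕ) (x : R) :
    rho0Fun p R f hf (PerfectClosure.mk R p (n, x)) = (fR p R f)^[n] x := rfl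

/-- the `R`-linear retraction of `R → PerfectClosure R p` attached to a Frobenius splitting. -/
noncomputable def rho0 : PerfectClosure R p →ₗ[R] R where
  toFun := rho0Fun p R f hf
  map_add' := by
    intro x y
    induction x using PerfectClosure.induction_on with
    | _ x =>
      induction y using PerfectClosure.induction_on with
      | _ y =>
        obtain ⟨m, a⟩ := x
        obtain ⟨m', b⟩ := y
        rw [PerfectClosure.mk_add_mk]
        simp only [rho0Fun_mk]
        rw [fR_iter_add, iterate_frobenius, iterate_frobenius, fR_iter_add_pow p R f hf,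
          add_comm m m', fR_iter_add_pow p R f hf]
  map_smul' := by
    intro a z
    induction z using PerfectClosure.induction_on with
    | _ z =>
      obtain ⟨m, r⟩ := z
      rw [smul_PC, PerfectClosure.of_apply, PerfectClosure.mk_mul_mk]
      simp only [rho0Fun_mk, zero_add, Function.iterate_zero, id_eq, RingHom.id_apply]
      rw [iterate_frobenius, fR_iter_pow_mul, smul_eq_mul]

theorem rho0_of (x : R) : rho0 p R f hf (PerfectClosure.of R p x) = x := rfl

end rho

section jn

open TensorProduct

variable (p : ℕ) [hp : Fact p.Prime] (R : Type u) [CommRing R] [CharP R p]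

attribute [local instance] algPC

/-- `x ↦ x^(1/p^n)`, an `R`-linear map from `PT p R n` to the perfection. -/
noncomputable def jn (n : ℕ) : PT p R n →ₗ[R] PerfectClosure R p where
  toFun x := (iterateFrobeniusEquiv (PerfectClosure R p) p n).symm
    (PerfectClosure.of R p ((toPT p R n).symm x))
  map_add' x y := by rw [map_add, map_add, map_add]
  map_smul' a x := by
    rw [RingHom.id_apply, toPT_symm_smul, map_mul, map_mul, smul_PC, map_pow]
    congr 1
    rw [← iterateFrobeniusEquiv_def (PerfectClosure R p) p n, RingEquiv.symm_apply_apply]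

theorem jn_apply (n : ℕ) (x : PT p R n) : jn p R n x =
    (iterateFrobeniusEquiv (PerfectClosure R p) p n).symm
      (PerfectClosure.of R p ((toPT p R n).symm x)) := rfl

variable (f : PT p R 1 →ₗ[R] R) (hf : f (toPT p R 1 1) = 1)

/-- the retraction of `jn`. -/
noncomputable def sigman (n : ℕ) : PerfectClosure R p →ₗ[R] PT p R n where
  toFun z := toPT p R n (rho0 p R f hf (iterateFrobeniusEquiv (PerfectClosure R p) p n z))
  map_add' x y := by rw [map_add, map_add, map_add]
  map_smul' a z := by
    rw [RingHom.id_apply, smul_PC, map_mul, iterateFrobeniusEquiv_def, ← map_pow, ← smul_PC,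
      map_smul, smul_PT, smul_eq_mul]
    rfl

theorem sigman_jn (n : ℕ) (x : PT p R n) : sigman p R f hf n (jn p R n x) = x := by
  change toPT p R n (rho0 p R f hf (iterateFrobeniusEquiv (PerfectClosure R p) p n
    ((iterateFrobeniusEquiv (PerfectClosure R p) p n).symm
      (PerfectClosure.of R p ((toPT p R n).symm x))))) = x
  rw [RingEquiv.apply_symm_apply, rho0_of]
  rfl

include hf in
theorem jn_rTensor_injective (n : ℕ) (M : Type*) [AddCommGroup M] [Module R M] :
    Function.Injective (LinearMap.rTensor M (jn p R n)) := by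
  apply Function.LeftInverse.injective (g := LinearMap.rTensor M (sigman p R f hf n))
  intro y
  have : sigman p R f hf n ∘ₗ jn p R n = LinearMap.id :=
    LinearMap.ext fun x => sigman_jn p R f hf n x
  rw [← LinearMap.comp_apply, ← LinearMap.rTensor_comp, this, LinearMap.rTensor_id,
    LinearMap.id_apply]

theorem exists_jn (z : PerfectClosure R p) :
    ∃ (N : ℕ) (r : R), ∀ k, z = jn p R (N + k) (toPT p R (N + k) (r ^ p ^ k)) := by
  induction z using PerfectClosure.induction_on with
  | _ x =>
    obtain ⟨N, r⟩ := x
    refine ⟨N, r, fun k => ?_⟩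
    rw [jn_apply, RingEquiv.eq_symm_apply, iterateFrobeniusEquiv_def]
    have h1 : PerfectClosure.mk R p (N, r) ^ p ^ N = PerfectClosure.of R p r := by
      rw [← PerfectClosure.iterate_frobenius_mk, iterate_frobenius]
    rw [pow_add, pow_mul, h1, ← map_pow]
    rfl

theorem exists_rTensor_jn {L : Type*} [AddCommGroup L] [Module R L]
    (x : PerfectClosure R p ⊗[R] L) :
    ∃ N, ∀ n, N ≤ n → x ∈ LinearMap.range (LinearMap.rTensor L (jn p R n)) := by
  induction x using TensorProduct.induction_on with
  | zero => exact ⟨0, fun n _ => zero_mem _⟩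
  | tmul z l =>
    obtain ⟨N, r, hr⟩ := exists_jn p R z
    refine ⟨N, fun n hn => ?_⟩
    obtain ⟨k, rfl⟩ := Nat.exists_eq_add_of_le hn
    exact ⟨toPT p R (N + k) (r ^ p ^ k) ⊗ₜ l, by rw [LinearMap.rTensor_tmul, ← hr k]⟩
  | add x y hx hy =>
    obtain ⟨N, hN⟩ := hx
    obtain ⟨N', hN'⟩ := hy
    exact ⟨max N N', fun n hn => add_mem (hN n (le_trans (le_max_left _ _) hn))
      (hN' n (le_trans (le_max_right _ _) hn))⟩

end jn

end Groth.Agent.Lib.helper12.FrobSplit
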