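import Groth.Agent.Lib.Helper12.FrobSplit1
import Groth.Agent.Lib.Helper12.FrobSplit3

/-!
# helper12: the perfection of a Frobenius-projective ring is Mittag-Leffler-like

For `R` of characteristic `p` with projective Frobenius push-forward, `R' = PerfectClosure R p`
and a submodule `L` of a product `Π i, M i`, the map `R' ⊗ L → Π i, R' ⊗ M i` is injective.
-/

set_option autoImplicit false
universe u

namespace Groth.Agent.Lib.helper12.FrobSplit

open TensorProduct

theorem pi_lTensor_perfectClosure_injective (p : ℕ) [hp : Fact p.Prime] (R : Type u) [CommRing R]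
    [CharP R p] [Module.Projective R (FrobAlg.Twist p R)] {ι : Type*} (M : ι → Type*)
    [∀ i, AddCommGroup (M i)] [∀ i, Module R (M i)] (L : Submodule R (Π i, M i)) :
    letI : Algebra R (PerfectClosure R p) := (PerfectClosure.of R p).toAlgebra
    Function.Injective (LinearMap.pi fun i => LinearMap.lTensor (PerfectClosure R p)
      ((LinearMap.proj i : (Π i, M i) →ₗ[R] M i).comp L.subtype)) := by
  letI : Algebra R (PerfectClosure R p) := (PerfectClosure.of R p).toAlgebra
  haveI : Module.Projective R (PT p R 1) := Module.Projective.of_equiv (PTone p R)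
  obtain ⟨f, hf⟩ := exists_splitting p R
  rw [← LinearMap.ker_eq_bot, LinearMap.ker_eq_bot']
  intro x hx
  obtain ⟨N, hN⟩ := exists_rTensor_jn p R x
  obtain ⟨y, rfl⟩ := hN N le_rfl
  have hP := projective_PT p R N
  have hy : y = 0 := by
    apply pi_lTensor_proj_subtype_injective R (PT p R N) M L
    rw [map_zero]
    funext i
    apply jn_rTensor_injective p R f hf N (M i)
    rw [LinearMap.pi_apply, Pi.zero_apply, map_zero]
    have h1 := congrFun hx i
    rw [LinearMap.pi_apply, Pi.zero_apply] at h1
    rw [← h1, ← LinearMap.comp_apply, ← LinearMap.comp_apply, LinearMap.rTensor_comp_lTensor,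
      LinearMap.lTensor_comp_rTensor]
  rw [hy, map_zero]

end Groth.Agent.Lib.helper12.FrobSplit
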