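import Mathlib
import Groth.Agent.Lib.Helper12.GGExt
import Groth.Agent.Lib.Lead.DimOneVanish
import Groth.Agent.Lib.Helper28.SecEpi
import Groth.Agent.Lib.Helper18.Punctual
import Groth.Agent.Lib.Helper7.CohKer
import Groth.Agent.Lib.Lead.RankAdd
import Groth.Agent.Lib.Helper8.DevMaster

/-!
# Modules supported at closed points are globally generated (helper12)

* `exists_global_of_sections_vanish`: such a module is flasque, so every local section extends.
* `gg_of_sections_vanish`: it is globally generated.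
-/

set_option autoImplicit false
set_option backward.isDefEq.respectTransparency false

universe u

open CategoryTheory MonoidalCategory AlgebraicGeometry Opposite Limits TopologicalSpace

namespace Groth.Agent.Lib.helper12.GGPunctual

open Groth.Agent.Lib.helper12.TwistExtend Groth.Agent.Lib.helper12.AmpleBasis
  Groth.Agent.Lib.helper12.GGTensor Groth.Agent.Lib.Lead.ModTensor
  Groth.Agent.Lib.helper12.TensorCocont

variable {X : Scheme.{u}}

theorem exists_global_of_sections_vanish [IsLocallyNoetherian X] (M : X.Modules) (U : X.Opens)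
    (hU : ∀ x : X, x ∉ U → IsClosed ({x} : Set X))
    (h0 : ∀ O : X.Opens, O ≤ U → Subsingleton Γ(M, O)) (V : X.Opens) (s : M.val.obj (op V)) :
    ∃ σ : M.val.obj (op ⊤), res M (le_top : V ≤ ⊤) σ = s := by
  have hfl := Groth.Agent.Lib.Lead.DimOneVanish.isFlasque_of_sections_vanish M U hU h0
  have hepi : Epi ((Coh.toAb M).obj.map (homOfLE (le_top : V ≤ ⊤)).op) := hfl.epi _
  have hsurj := (AddCommGrpCat.epi_iff_surjective _).mp hepi
  obtain ⟨σ, hσ⟩ := hsurj s
  exact ⟨σ, hσ⟩

/-- A module without sections off a set of closed points is globally generated. -/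
theorem gg_of_sections_vanish [IsLocallyNoetherian X] (M : X.Modules) (U : X.Opens)
    (hU : ∀ x : X, x ∉ U → IsClosed ({x} : Set X))
    (h0 : ∀ O : X.Opens, O ≤ U → Subsingleton Γ(M, O)) : Curv2.IsGloballyGenerated M := by
  let ι : Type u := M.val.obj (op ⊤)
  let p : (SheafOfModules.free ι : X.Modules) ⟶ M := Sigma.desc (fun σ : ι => homOfSec M σ)
  refine ⟨ι, p, ?_⟩
  refine Groth.Agent.Lib.helper28.SecEpi.epi_of_locally_surjective p ?_
  intro V s y hy
  obtain ⟨σ, hσ⟩ := exists_global_of_sections_vanish M U hU h0 V s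
  refine ⟨V, le_rfl, hy, ?_⟩
  let e : Coh.structureModule X ⟶ (SheafOfModules.free ι : X.Modules) := SheafOfModules.ιFree σ
  have he : e ≫ p = homOfSec M σ := Sigma.ι_desc _ _
  refine ⟨(e.val.app (op V)).hom (1 : X.ringCatSheaf.obj.obj (op V)), ?_⟩
  have h1 : SecTwist.val (homOfSec M σ) V = res M (le_top : V ≤ ⊤) σ := val_homOfSec M σ V
  have h2 : (p.val.app (op V)).hom ((e.val.app (op V)).hom (1 : X.ringCatSheaf.obj.obj (op V))) =
      SecTwist.val (homOfSec M σ) V := by
    rw [← he]
    rfl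
  have h3 : M.presheaf.map (homOfLE (le_refl V)).op s = s := by
    have : (homOfLE (le_refl V)).op = 𝟙 (op V) := rfl
    rw [this, M.presheaf.map_id]
    rfl
  rw [h3]
  exact h2.trans (h1.trans hσ)

/-- **Torsion cokernel**: on a Noetherian scheme of dimension `≤ 1` with `H¹(O) = 0`, if
`φ : E₁ ⟶ E₂` is a morphism of coherent modules whose cokernel is supported at closed points and
`E₁` is globally generated with `H¹(E₁ ⊗ ω) = 0`, then the same holds for `E₂`. -/
theorem defAmple_of_cokernel_torsion [IsNoetherian X] (hd : topologicalKrullDim X ≤ 1)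
    (hO : Subsingleton (Coh.HH X (Coh.structureModule X) 1)) (ω : X.Modules)
    {E₁ E₂ : X.Modules} (hE₁ : Coh.IsCoh E₁) (hE₂ : Coh.IsCoh E₂) (φ : E₁ ⟶ E₂)
    (htors : ∀ x ∈ CohB1.support (cokernel φ), IsClosed ({x} : Set X))
    (hgg : Curv2.IsGloballyGenerated E₁)
    (hH : Subsingleton (Coh.HH X (CohB1.tensorMod E₁ ω) 1)) :
    Curv2.IsGloballyGenerated E₂ ∧ Subsingleton (Coh.HH X (CohB1.tensorMod E₂ ω) 1) := by
  have hd' : topologicalKrullDim X ≤ ((1 : ℕ) : WithBot ℕ∞) := by simpa using hd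
  have hH2 : ∀ M : X.Modules, Subsingleton (Coh.HH X M 2) := fun M =>
    Groth.Agent.Lib.Lead.GrothVanish.subsingleton_HH_of_dim_le X 1 hd' _ 2 (by norm_num)
  set Q := cokernel φ with hQ
  have hQcoh : Coh.IsCoh Q := Groth.Agent.Lib.helper7.CohKer.isCoh_cokernel hE₁ hE₂ φ
  have hcl : IsClosed (CohB1.support Q) :=
    Groth.Agent.Lib.helper8.Dev.isClosed_support_of_isCoh Q hQcoh
  let W : X.Opens := ⟨(CohB1.support Q)ᶜ, hcl.isOpen_compl⟩
  have hWcl : ∀ x : X, x ∉ W → IsClosed ({x} : Set X) := fun x hx => by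
    refine htors x ?_
    by_contra h
    exact hx h
  have hW0 : ∀ P : X.Opens, P ≤ W → Subsingleton Γ(Q, P) := fun P hP => by
    refine ⟨fun s t => ?_⟩
    refine TopCat.Presheaf.section_ext ⟨Q.presheaf, Q.isSheaf⟩ P _ _ (fun x hx => ?_)
    have h1 : x ∉ CohB1.support Q := hP hx
    have h2 : Subsingleton (Q.presheaf.stalk x) := by
      by_contra h2
      exact h1 h2
    exact h2.elim _ _
  -- the image
  let I := kernel (cokernel.π φ)
  let q : E₁ ⟶ I := kernel.lift (cokernel.π φ) φ (cokernel.condition φ)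
  have hq : Epi q := (inferInstance : Epi (Abelian.factorThruImage φ))
  let S : ShortComplex X.Modules :=
    ShortComplex.mk (kernel.ι (cokernel.π φ)) (cokernel.π φ) (kernel.condition _)
  have hS : S.ShortExact :=
    { exact := ShortComplex.exact_of_f_is_kernel _ (kernelIsKernel (cokernel.π φ)) }
  have hggI : Curv2.IsGloballyGenerated I := gg_of_epi q hgg
  have hH1E₁ : Subsingleton (Coh.HH X E₁ 1) := subsingleton_H1_of_gg hd hO hgg
  have hH1I : Subsingleton (Coh.HH X I 1) := subsingleton_HH_of_epi q 1 hH1E₁ (hH2 _)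
  have hggQ : Curv2.IsGloballyGenerated Q := gg_of_sections_vanish Q W hWcl hW0
  refine ⟨Groth.Agent.Lib.helper12.GGExt.gg_of_shortExact hS hggI hggQ hH1I, ?_⟩
  have hqω : Epi (tensorMap q (𝟙 ω)) := epi_tensorMap_right ω q
  have h₁ : Subsingleton (Coh.HH X (CohB1.tensorMod I ω) 1) :=
    subsingleton_HH_of_epi (tensorMap q (𝟙 ω)) 1 hH (hH2 _)
  have h₃ : Subsingleton (Coh.HH X (CohB1.tensorMod Q ω) 1) :=
    Groth.Agent.Lib.Lead.DimOneVanish.subsingleton_HH_of_sections_vanish _ W hWcl
      (fun P hP => Groth.Agent.Lib.Helper18.Punctual.subsingleton_sections_tensor Q ω P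
        (fun P' hP' => hW0 P' (hP'.trans hP))) 0
  exact Groth.Agent.Lib.helper12.GGExt.subsingleton_H1_tensorRight_of_shortExact hd hS ω h₁ h₃

end Groth.Agent.Lib.helper12.GGPunctual
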