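import Groth.Agent.Lib.Helper12.GTwistSecHom
import Groth.Agent.Lib.Helper28.GTwistAll
import Groth.Agent.Lib.Helper12.AmplePow
import Groth.Agent.Lib.Lead.ModTensor

set_option autoImplicit false
set_option linter.style.haveILetI false
universe u

open CategoryTheory CategoryTheory.Limits AlgebraicGeometry Opposite TopologicalSpace
open Scheme.Modules

namespace Groth.Agent.Lib.helper12.GTwistAmple

open Groth.Agent.Lib.helper12.GTwistSecHom Groth.Agent.Lib.helper11.IsoLocus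

noncomputable section

variable {A σ : Type u} [CommRing A] [SetLike σ A] [AddSubgroupClass σ A] (𝒜 : ℕ → σ)
  [GradedRing 𝒜]

theorem pow_mem_one {f : A} (hf : f ∈ 𝒜 1) (p : ℕ) : f ^ p ∈ 𝒜 p := by
  have := SetLike.pow_mem_graded p hf
  simpa [smul_eq_mul] using this

theorem hcov_pow (hcov : ∀ x : ProjectiveSpectrum 𝒜, ∃ f ∈ 𝒜 1, f ∉ x.asHomogeneousIdeal)
    (n : ℕ) (x : ProjectiveSpectrum 𝒜) : ∃ g ∈ 𝒜 n, g ∉ x.asHomogeneousIdeal := by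
  obtain ⟨f, hf, hfx⟩ := hcov x
  exact ⟨f ^ n, pow_mem_one 𝒜 hf n,
    fun h => hfx (x.isPrime.mem_of_pow_mem n h)⟩

/-- `O(n)`, `n > 0`, is ample on a quasi-compact `Proj` covered by the `D₊(f)`, `deg f = 1`. -/
theorem isAmple_twist (hcov : ∀ x : ProjectiveSpectrum 𝒜, ∃ f ∈ 𝒜 1, f ∉ x.asHomogeneousIdeal)
    [CompactSpace (Proj 𝒜)] (n : ℕ) (hn : 0 < n) :
    CohB1.IsAmple (GrTwist.twist 𝒜 (n : ℤ)) := by
  refine ⟨Groth.Agent.Lib.helper28.GTwistAll.isInvertible_twist 𝒜 hcov n, inferInstance, fun x => ?_⟩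
  obtain ⟨g, hg, hgx⟩ := hcov_pow 𝒜 hcov n x
  have hloc : CohB1.genLocus (CohB1.tensorPow (GrTwist.twist 𝒜 (n : ℤ)) (0 + 1))
      (secHom 𝒜 (⟨g, hg⟩ : 𝒜 n) ≫
        (Groth.Agent.Lib.Lead.ModTensor.tensorPowOne (GrTwist.twist 𝒜 (n : ℤ))).symm.hom) =
      Proj.basicOpen 𝒜 g := by
    rw [genLocus_comp_iso]
    exact genLocus_secHom 𝒜 hn (⟨g, hg⟩ : 𝒜 n) (hcov_pow 𝒜 hcov n)
  refine ⟨0, secHom 𝒜 (⟨g, hg⟩ : 𝒜 n) ≫
        (Groth.Agent.Lib.Lead.ModTensor.tensorPowOne (GrTwist.twist 𝒜 (n : ℤ))).symm.hom, ?_, ?_⟩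
  · rw [hloc]
    exact (ProjectiveSpectrum.mem_basicOpen 𝒜 g x).mpr hgx
  · rw [hloc]
    exact Proj.isAffineOpen_basicOpen 𝒜 g hg hn

end

end Groth.Agent.Lib.helper12.GTwistAmple
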