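import Groth.Agent.Lib.Helper12.GTwistSecHom
import Groth.Agent.Lib.Helper28.GTwistQCoh
import Groth.Agent.Lib.Helper12.AmplePow
import Groth.Agent.Lib.Lead.ModTensor

set_option autoImplicit false
set_option linter.style.haveILetI false
universe u

open CategoryTheory CategoryTheory.Limits AlgebraicGeometry Opposite TopologicalSpace
open Scheme.Modules

namespace Groth.Agent.Lib.helper12.GTwistOpenAmple

open Groth.Agent.Lib.helper12.GTwistSecHom Groth.Agent.Lib.helper11.IsoLocus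
  Groth.Agent.Lib.helper11.InvMod

noncomputable section

variable {A σ : Type u} [CommRing A] [SetLike σ A] [AddSubgroupClass σ A] (𝒜 : ℕ → σ)
  [GradedRing 𝒜]

/-- `O(d)` restricted to a quasi-compact open of `Proj` covered by `D₊(g)`'s, `g ∈ 𝒜 d`, contained
in it, is ample. -/
theorem isAmple_restrict_twist {d : ℕ} (hd : 0 < d) {X : Scheme.{u}} [CompactSpace X]
    (j : X ⟶ Proj 𝒜) [IsOpenImmersion j]
    (hcov : ∀ y : X, ∃ g ∈ 𝒜 d, g ∉ (show ProjectiveSpectrum 𝒜 from j y).asHomogeneousIdeal ∧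
      Proj.basicOpen 𝒜 g ≤ j.opensRange) :
    CohB1.IsAmple ((GrTwist.twist 𝒜 (d : ℤ)).restrict j) := by
  refine ⟨fun y => ?_, inferInstance, fun y => ?_⟩
  · obtain ⟨g, hg, hgy, -⟩ := hcov y
    have h1 := Groth.Agent.Lib.helper28.GTwistInv.isTrivOn_twist_mul 𝒜 hd hg 1
    rw [one_mul] at h1
    exact ⟨j ⁻¹ᵁ Proj.basicOpen 𝒜 g, (ProjectiveSpectrum.mem_basicOpen 𝒜 g _).mpr hgy,
      IsTrivOn.restrict j h1⟩
  · obtain ⟨g, hg, hgy, hgV⟩ := hcov y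
    let L := (GrTwist.twist 𝒜 (d : ℤ)).restrict j
    let s₀ : Coh.structureModule X ⟶ L :=
      (restrictUnitIso j).inv ≫ (restrictFunctor j).map (secHom 𝒜 (⟨g, hg⟩ : 𝒜 d))
    have hloc0 : CohB1.genLocus L s₀ = j ⁻¹ᵁ Proj.basicOpen 𝒜 g := by
      rw [genLocus_restrict]
      ext z
      constructor
      · intro hz
        obtain ⟨g', hg', hg'z, -⟩ := hcov z
        refine (ProjectiveSpectrum.mem_basicOpen 𝒜 g _).mpr ?_
        exact notMem_of_mem_genLocus 𝒜 (⟨g, hg⟩ : 𝒜 d) (j z) hz (⟨g', hg'⟩ : 𝒜 d)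
          (⟨1, SetLike.GradedOne.one_mem⟩ : 𝒜 0) hg'z (one_notMem 𝒜 _) (by simp)
      · intro hz
        exact basicOpen_le_genLocus 𝒜 hd (⟨g, hg⟩ : 𝒜 d) hz
    have hloc : CohB1.genLocus (CohB1.tensorPow L (0 + 1))
        (s₀ ≫ (Groth.Agent.Lib.Lead.ModTensor.tensorPowOne L).symm.hom) =
        j ⁻¹ᵁ Proj.basicOpen 𝒜 g := by
      rw [genLocus_comp_iso]
      exact hloc0
    refine ⟨0, s₀ ≫ (Groth.Agent.Lib.Lead.ModTensor.tensorPowOne L).symm.hom, ?_, ?_⟩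
    · rw [hloc]
      exact (ProjectiveSpectrum.mem_basicOpen 𝒜 g _).mpr hgy
    · rw [hloc]
      exact (Proj.isAffineOpen_basicOpen 𝒜 g hg hd).preimage_of_isOpenImmersion j hgV

/-- A quasi-compact open of `Proj` is covered by `D₊(g)`'s contained in it with all `g` of one
positive degree. -/
theorem exists_degree_cover {X : Scheme.{u}} [CompactSpace X]
    (j : X ⟶ Proj 𝒜) [IsOpenImmersion j] :
    ∃ d : ℕ, 0 < d ∧ ∀ y : X, ∃ g ∈ 𝒜 d,
      g ∉ (show ProjectiveSpectrum 𝒜 from j y).asHomogeneousIdeal ∧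
      Proj.basicOpen 𝒜 g ≤ j.opensRange := by
  classical
  let S : Set (ℕ × A) :=
    {p | 0 < p.1 ∧ p.2 ∈ 𝒜 p.1 ∧ Proj.basicOpen 𝒜 p.2 ≤ j.opensRange}
  have hK : IsCompact (Set.range j) := isCompact_range j.continuous
  have hcov : Set.range j ⊆ ⋃ p ∈ S, ((Proj.basicOpen 𝒜 p.2 : (Proj 𝒜).Opens) : Set ↥(Proj 𝒜)) := by
    rintro x ⟨y, rfl⟩
    have hxV : (show ProjectiveSpectrum 𝒜 from j y) ∈ (j.opensRange : Opens _) := ⟨y, rfl⟩
    obtain ⟨k, h, hh, hhx, hhV⟩ :=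
      Groth.Agent.Lib.helper28.GTildeSec.exists_homogeneous_basicOpen 𝒜 j.opensRange _ hxV
    obtain ⟨⟨e, f⟩, hfy⟩ : ∃ i : (Σ i : PNat, 𝒜 i), j y ∈ Proj.basicOpen 𝒜 (i.2 : A) := by
      have h := Groth.Agent.Lib.helper28.GTwistQCoh.iSup_basicOpen_eq_top 𝒜
      have hx : j y ∈ (⊤ : (Proj 𝒜).Opens) := trivial
      rw [← h, Opens.mem_iSup] at hx
      exact hx
    have hfy' : f.1 ∉ (show ProjectiveSpectrum 𝒜 from j y).asHomogeneousIdeal :=
      (ProjectiveSpectrum.mem_basicOpen 𝒜 _ _).mp hfy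
    simp only [Set.mem_iUnion]
    refine ⟨((e : ℕ) + k, f.1 * h), ⟨?_, SetLike.mul_mem_graded f.2 hh, ?_⟩, ?_⟩
    · have := e.pos; omega
    · intro z hz
      exact hhV z fun hmem =>
        (ProjectiveSpectrum.mem_basicOpen 𝒜 (f.1 * h) z).mp hz (Ideal.mul_mem_left _ _ hmem)
    · exact (ProjectiveSpectrum.mem_basicOpen 𝒜 (f.1 * h) _).mpr fun hmem =>
        ((show ProjectiveSpectrum 𝒜 from j y).isPrime.mem_or_mem hmem).elim hfy' hhx
  obtain ⟨b', hb'S, hfin, hb'cov⟩ := hK.elim_finite_subcover_image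
    (fun p _ => (Proj.basicOpen 𝒜 p.2 : (Proj 𝒜).Opens).2) hcov
  let t : Finset (ℕ × A) := hfin.toFinset
  let d : ℕ := ∏ p ∈ t, p.1
  have hd : 0 < d := Finset.prod_pos fun p hp => (hb'S (hfin.mem_toFinset.mp hp)).1
  refine ⟨d, hd, fun y => ?_⟩
  have hy := hb'cov ⟨y, rfl⟩
  simp only [Set.mem_iUnion] at hy
  obtain ⟨p, hp, hyp⟩ := hy
  obtain ⟨hp1, hp2, hp3⟩ := hb'S hp
  have hdvd : p.1 ∣ d := Finset.dvd_prod_of_mem _ (hfin.mem_toFinset.mpr hp)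
  have hm : 0 < d / p.1 := Nat.div_pos (Nat.le_of_dvd hd hdvd) hp1
  have hyp' : p.2 ∉ (show ProjectiveSpectrum 𝒜 from j y).asHomogeneousIdeal :=
    (ProjectiveSpectrum.mem_basicOpen 𝒜 _ _).mp hyp
  refine ⟨p.2 ^ (d / p.1), ?_, ?_, ?_⟩
  · have := SetLike.pow_mem_graded (d / p.1) hp2
    rwa [smul_eq_mul, Nat.div_mul_cancel hdvd] at this
  · exact fun h => hyp' ((show ProjectiveSpectrum 𝒜 from j y).isPrime.mem_of_pow_mem _ h)
  · intro z hz
    refine hp3 ((ProjectiveSpectrum.mem_basicOpen 𝒜 p.2 z).mpr fun hmem => ?_)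
    exact (ProjectiveSpectrum.mem_basicOpen 𝒜 _ z).mp hz
      (Ideal.pow_mem_of_mem _ hmem _ hm)

/-- For a quasi-compact open subscheme `j : X ⟶ Proj 𝒜` some `O(d)`, `d > 0`, restricts to an ample
module. -/
theorem exists_isAmple_restrict {X : Scheme.{u}} [CompactSpace X]
    (j : X ⟶ Proj 𝒜) [IsOpenImmersion j] :
    ∃ d : ℕ, 0 < d ∧ CohB1.IsAmple ((GrTwist.twist 𝒜 (d : ℤ)).restrict j) := by
  obtain ⟨d, hd, hcov⟩ := exists_degree_cover 𝒜 j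
  exact ⟨d, hd, isAmple_restrict_twist 𝒜 hd j hcov⟩

theorem exists_isAmple_pullback {X : Scheme.{u}} [CompactSpace X]
    (j : X ⟶ Proj 𝒜) [IsOpenImmersion j] :
    ∃ d : ℕ, 0 < d ∧
      CohB1.IsAmple ((Scheme.Modules.pullback j).obj (GrTwist.twist 𝒜 (d : ℤ))) := by
  obtain ⟨d, hd, h⟩ := exists_isAmple_restrict 𝒜 j
  exact ⟨d, hd, Groth.Agent.Lib.helper12.AmplePow.isAmple_of_iso
    ((restrictFunctorIsoPullback j).app (GrTwist.twist 𝒜 (d : ℤ))) h⟩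

end

end Groth.Agent.Lib.helper12.GTwistOpenAmple
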