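/-
helper12: Gabber's idempotent lifting `Idem(A[1/t]) ≃ Idem(Â[1/t])` for a henselian pair `(A, tA)`.
-/
import Mathlib

set_option autoImplicit false
set_option linter.style.haveILetI false
set_option linter.unusedSectionVars false

namespace Groth.Agent.Lib.helper12.GabberIdem

open Polynomial

section Z

/-- An idempotent of `B[1/τ]` which is the image of an element of the Jacobson radical of `B`
is zero. -/
lemma idem_eq_zero_of_mem_jacobson {B : Type*} [CommRing B] (τ : B) (Λ : Type*) [CommRing Λ]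
    [Algebra B Λ] [IsLocalization.Away τ Λ] {x : B} (hx : x ∈ Ideal.jacobson (⊥ : Ideal B))
    (hf : IsIdempotentElem (algebraMap B Λ x)) : algebraMap B Λ x = 0 := by
  have h1 : algebraMap B Λ (x * x) = algebraMap B Λ x := by rw [map_mul]; exact hf
  obtain ⟨⟨_, j, rfl⟩, hj⟩ := (IsLocalization.eq_iff_exists (Submonoid.powers τ) Λ).1 h1
  have hu : IsUnit (x * (-1) + 1) := Ideal.mem_jacobson_bot.1 hx (-1)
  have h2 : τ ^ j * x * (x * (-1) + 1) = 0 := by
    simp only at hj
    linear_combination (-1 : B) * hj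
  have h3 : τ ^ j * x = 0 := (hu.mul_left_eq_zero).1 h2
  have h4 : algebraMap B Λ (τ ^ j) * algebraMap B Λ x = 0 := by
    rw [← map_mul, h3, map_zero]
  have hunit : IsUnit (algebraMap B Λ (τ ^ j)) := by
    rw [map_pow]; exact (IsLocalization.Away.algebraMap_isUnit τ).pow j
  exact (hunit.mul_right_eq_zero).1 h4

end Z

lemma sub_cube_of_idem {Λ : Type*} [CommRing Λ] {p q : Λ} (hp : IsIdempotentElem p)
    (hq : IsIdempotentElem q) : (p - q) * ((p - q) * (p - q)) = p - q := by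
  have h1 := hp.eq
  have h2 := hq.eq
  linear_combination (p - 3 * q + 1) * h1 + (3 * p - q - 1) * h2

/-- Two idempotents whose difference squares to zero are equal. -/
lemma idem_eq_of_sq_eq_zero {Λ : Type*} [CommRing Λ] {p q : Λ} (hp : IsIdempotentElem p)
    (hq : IsIdempotentElem q) (h : (p - q) * (p - q) = 0) : p = q := by
  have := sub_cube_of_idem hp hq
  rw [h, mul_zero] at this
  exact sub_eq_zero.1 this.symm

lemma sq_sub_idem {Λ : Type*} [CommRing Λ] {p q : Λ} (hp : IsIdempotentElem p)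
    (hq : IsIdempotentElem q) : IsIdempotentElem ((p - q) * (p - q)) := by
  show _ * _ = _
  have := sub_cube_of_idem hp hq
  calc (p - q) * (p - q) * ((p - q) * (p - q))
      = (p - q) * ((p - q) * ((p - q) * (p - q))) := by ring
    _ = (p - q) * (p - q) := by rw [this]

section Main

variable {A Ah : Type*} [CommRing A] [CommRing Ah] (φ : A →+* Ah) (t : A)
  (hA : HenselianRing A (Ideal.span {t}))
  (hb : φ t ∈ Ideal.jacobson (⊥ : Ideal Ah))
  (hc : ∀ (M : ℕ) (x : Ah), ∃ a : A, φ a - x ∈ Ideal.span {φ t ^ M})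
  (hd : ∀ (M : ℕ) (a : A), φ a ∈ Ideal.span {φ t ^ M} → a ∈ Ideal.span {t ^ M})
  (L Lh : Type*) [CommRing L] [CommRing Lh] [Algebra A L] [Algebra Ah Lh]
  [IsLocalization.Away t L] [IsLocalization.Away (φ t) Lh]
  (ψ : L →+* Lh) (hψ : ∀ a, ψ (algebraMap A L a) = algebraMap Ah Lh (φ a))

include hA hd hψ in
theorem idem_unique (e₀ e₀' : L) (h0 : IsIdempotentElem e₀) (h0' : IsIdempotentElem e₀')
    (h : ψ e₀ = ψ e₀') : e₀ = e₀' := by
  apply idem_eq_of_sq_eq_zero h0 h0'
  have hf := sq_sub_idem h0 h0'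
  set f := (e₀ - e₀') * (e₀ - e₀') with hfdef
  have hψf : ψ f = 0 := by
    rw [hfdef, map_mul, map_sub, h, sub_self, mul_zero]
  obtain ⟨n, y, hy⟩ := IsLocalization.Away.surj t f
  have h1 : algebraMap Ah Lh (φ y) = algebraMap Ah Lh 0 := by
    rw [← hψ, ← hy, map_mul, hψf, zero_mul, map_zero]
  obtain ⟨⟨_, k, rfl⟩, hk⟩ := (IsLocalization.eq_iff_exists (Submonoid.powers (φ t)) Lh).1 h1
  simp only [mul_zero] at hk
  have h2 : φ (t ^ k * y) ∈ Ideal.span {φ t ^ (n + k + 1)} := by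
    rw [map_mul, map_pow, hk]; exact zero_mem _
  obtain ⟨z, hz⟩ := Ideal.mem_span_singleton'.1 (hd _ _ h2)
  have hunit : IsUnit (algebraMap A L t ^ (n + k)) :=
    (IsLocalization.Away.algebraMap_isUnit t).pow _
  have h3 : f = algebraMap A L (z * t) := by
    apply (hunit.mul_left_inj).1
    have : f * algebraMap A L t ^ (n + k) = algebraMap A L (t ^ k * y) := by
      rw [pow_add, ← mul_assoc, hy, map_mul, map_pow]; ring
    rw [this, ← hz]
    simp only [map_mul, map_pow]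
    ring
  have hjac : z * t ∈ Ideal.jacobson (⊥ : Ideal A) :=
    Ideal.mul_mem_left _ _ (hA.jac (Ideal.mem_span_singleton_self t))
  rw [h3] at hf ⊢
  exact idem_eq_zero_of_mem_jacobson t L hjac hf

include hA hb hc hd hψ in
theorem exists_idem (e : Lh) (he : IsIdempotentElem e) :
    ∃ e₀ : L, IsIdempotentElem e₀ ∧ ψ e₀ = e := by
  -- write `e = â / τ ^ N` with `â * â = τ ^ N * â` exactly
  obtain ⟨N₀, â₀, h₀⟩ := IsLocalization.Away.surj (φ t) e
  have h1 : algebraMap Ah Lh (â₀ * â₀) = algebraMap Ah Lh (φ t ^ N₀ * â₀) := by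
    rw [map_mul, map_mul, map_pow, ← h₀]
    have := he.eq
    linear_combination (algebraMap Ah Lh (φ t) ^ N₀ * algebraMap Ah Lh (φ t) ^ N₀) * this
  obtain ⟨⟨_, k, rfl⟩, hk⟩ := (IsLocalization.eq_iff_exists (Submonoid.powers (φ t)) Lh).1 h1
  simp only at hk
  obtain ⟨N, hN⟩ : ∃ N, N = N₀ + k := ⟨_, rfl⟩
  obtain ⟨â, hâdef⟩ : ∃ â, â = φ t ^ k * â₀ := ⟨_, rfl⟩
  have hâ : â * â = φ t ^ N * â := by
    rw [hâdef, hN, pow_add]
    linear_combination (φ t ^ k) * hk
  have he' : e * algebraMap Ah Lh (φ t) ^ N = algebraMap Ah Lh â := by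
    rw [hâdef, hN, pow_add, ← mul_assoc, h₀, map_mul, map_pow]; ring
  -- approximate `â` by `a ∈ A`
  obtain ⟨a, ha⟩ := hc (3 * N + 1) â
  obtain ⟨ŵ, hŵ⟩ := Ideal.mem_span_singleton'.1 ha
  have h2 : φ (a * a - t ^ N * a) ∈ Ideal.span {φ t ^ (3 * N + 1)} := by
    rw [Ideal.mem_span_singleton']
    refine ⟨2 * â * ŵ + ŵ ^ 2 * φ t ^ (3 * N + 1) - φ t ^ N * ŵ, ?_⟩
    rw [map_sub, map_mul, map_mul, map_pow]
    have hφa : φ a = â + ŵ * φ t ^ (3 * N + 1) := by rw [hŵ]; ring
    rw [hφa]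
    linear_combination (-1 : Ah) * hâ
  obtain ⟨c, hc'⟩ := Ideal.mem_span_singleton'.1 (hd _ _ h2)
  have htjac : t ∈ Ideal.jacobson (⊥ : Ideal A) := hA.jac (Ideal.mem_span_singleton_self t)
  -- the unit `v`
  have hv : IsUnit (t * (4 * t ^ N * c) + 1) := Ideal.mem_jacobson_bot.1 htjac _
  obtain ⟨vi, hvi⟩ := hv.exists_right_inv
  -- Hensel
  obtain ⟨i, hi⟩ : ∃ i, i = vi * t ^ (N + 1) * c := ⟨_, rfl⟩
  have hmonic : (X ^ 2 + (X + C i) : A[X]).Monic := by
    apply monic_X_pow_add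
    refine lt_of_le_of_lt (degree_add_le _ _) ?_
    refine max_lt ?_ ?_
    · exact lt_of_le_of_lt degree_X_le (by norm_num)
    · exact lt_of_le_of_lt degree_C_le (by norm_num)
  have heval0 : (X ^ 2 + (X + C i) : A[X]).eval 0 ∈ Ideal.span {t} := by
    simp only [eval_add, eval_pow, eval_X, eval_C]
    rw [Ideal.mem_span_singleton']
    refine ⟨vi * t ^ N * c, ?_⟩
    rw [hi]; ring
  have hder : IsUnit (Ideal.Quotient.mk (Ideal.span {t})
      ((X ^ 2 + (X + C i) : A[X]).derivative.eval 0)) := by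
    simp
  obtain ⟨s, hs, hs0⟩ := hA.is_henselian _ hmonic 0 heval0 hder
  rw [sub_zero] at hs0
  rw [IsRoot.def] at hs
  simp only [eval_add, eval_pow, eval_X, eval_C] at hs
  have hsjac : s ∈ Ideal.jacobson (⊥ : Ideal A) := hA.jac hs0
  have hsu : IsUnit (s * 1 + 1) := Ideal.mem_jacobson_bot.1 hsjac 1
  obtain ⟨si, hsi⟩ := hsu.exists_right_inv
  -- s = t^(N+1) * s'
  obtain ⟨s', hs'⟩ : ∃ s', s' = -(vi * c * si) := ⟨_, rfl⟩
  have hss' : s = t ^ (N + 1) * s' := by
    rw [hs']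
    rw [hi] at hs
    linear_combination (-s) * hsi + si * hs
  -- the corrected element
  obtain ⟨a₁, ha₁def⟩ : ∃ a₁, a₁ = a + (2 * a - t ^ N) * s := ⟨_, rfl⟩
  have ha₁ : a₁ * a₁ = t ^ N * a₁ := by
    rw [ha₁def]
    rw [hi] at hs
    have e3 : t ^ (3 * N + 1) = t ^ N * t ^ N * t ^ N * t := by ring
    rw [e3] at hc'
    linear_combination (-1 + 4 * vi * t ^ (N + 1) * c) * hc' + (2 * a - t ^ N) ^ 2 * hs -
      (t ^ N * t ^ N * t ^ N * t) * c * hvi
  -- the idempotent of `L`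
  have hunitL : IsUnit (algebraMap A L t ^ N) :=
    (IsLocalization.Away.algebraMap_isUnit t).pow _
  have hunitLh : IsUnit (algebraMap Ah Lh (φ t) ^ N) :=
    (IsLocalization.Away.algebraMap_isUnit (φ t)).pow _
  obtain ⟨e₁, he₁⟩ : ∃ e₁ : L, e₁ * algebraMap A L t ^ N = algebraMap A L a₁ := by
    obtain ⟨w, hw⟩ := hunitL.exists_left_inv
    refine ⟨algebraMap A L a₁ * w, ?_⟩
    rw [mul_assoc, hw, mul_one]
  have he₁idem : IsIdempotentElem e₁ := by
    show e₁ * e₁ = e₁
    apply (hunitL.mul_left_inj).1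
    apply (hunitL.mul_left_inj).1
    have h3 := congrArg (algebraMap A L) ha₁
    rw [map_mul, map_mul, map_pow, ← he₁] at h3
    linear_combination h3
  refine ⟨e₁, he₁idem, ?_⟩
  have hψt : ψ (algebraMap A L t) = algebraMap Ah Lh (φ t) := hψ t
  have hp : ψ e₁ * algebraMap Ah Lh (φ t) ^ N = algebraMap Ah Lh (φ a₁) := by
    rw [← hψt, ← map_pow, ← map_mul, he₁, hψ]
  have hpidem : IsIdempotentElem (ψ e₁) := he₁idem.map ψ
  -- `ψ e₁ - e` is the image of an element of `τ Âh`
  obtain ⟨zh, hzh⟩ : ∃ zh : Ah, φ a₁ - â = φ t ^ N * (φ t * zh) := by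
    refine ⟨ŵ * φ t ^ (2 * N) + (2 * φ a - φ t ^ N) * φ s', ?_⟩
    rw [ha₁def, hss']
    simp only [map_add, map_mul, map_sub, map_pow, map_ofNat]
    have e3 : φ t ^ (3 * N + 1) = φ t ^ N * φ t ^ N * φ t ^ N * φ t := by ring
    rw [e3] at hŵ
    linear_combination (-1 : Ah) * hŵ
  have hd1 : ψ e₁ - e = algebraMap Ah Lh (φ t * zh) := by
    apply (hunitLh.mul_left_inj).1
    rw [sub_mul, hp, he', ← map_sub, hzh, map_mul, map_pow]
    ring
  apply idem_eq_of_sq_eq_zero hpidem he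
  have hsq := sq_sub_idem hpidem he
  rw [hd1, ← map_mul] at hsq ⊢
  apply idem_eq_zero_of_mem_jacobson (φ t) Lh _ hsq
  rw [mul_assoc]
  exact Ideal.mul_mem_right _ _ hb

end Main

section Adic

universe u

variable {A : Type u} [CommRing A] (t : A)

lemma mem_span_pow_of_evalₐ_eq_zero (M : ℕ) (x : AdicCompletion (Ideal.span {t}) A)
    (h : AdicCompletion.evalₐ (Ideal.span {t}) M x = 0) :
    x ∈ Ideal.span {algebraMap A (AdicCompletion (Ideal.span {t}) A) t ^ M} := by
  have fg : (Ideal.span {t}).FG := ⟨{t}, by simp⟩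
  have h1 : x ∈ LinearMap.ker (AdicCompletion.eval (Ideal.span {t}) A M) := by
    rw [LinearMap.mem_ker,
      ← AdicCompletion.factor_evalₐ_eq_eval (Ideal.span {t}) x (by simp), h, map_zero]
  rw [← AdicCompletion.pow_smul_top_eq_ker_eval fg, Ideal.smul_top_eq_map,
    Submodule.restrictScalars_mem, Ideal.span_singleton_pow, Ideal.map_span,
    Set.image_singleton, map_pow] at h1
  exact h1

lemma mem_span_pow_of_algebraMap_mem (M : ℕ) (a : A)
    (h : algebraMap A (AdicCompletion (Ideal.span {t}) A) a ∈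
      Ideal.span {algebraMap A (AdicCompletion (Ideal.span {t}) A) t ^ M}) :
    a ∈ Ideal.span {t ^ M} := by
  obtain ⟨y, hy⟩ := Ideal.mem_span_singleton'.1 h
  have h1 := congrArg (AdicCompletion.evalₐ (Ideal.span {t}) M) hy
  rw [map_mul, map_pow, AlgHom.commutes, AlgHom.commutes, Ideal.Quotient.algebraMap_eq,
    ← map_pow] at h1
  have h2 : Ideal.Quotient.mk (Ideal.span {t} ^ M) (t ^ M) = 0 := by
    rw [Ideal.Quotient.eq_zero_iff_mem]
    exact Ideal.pow_mem_pow (Ideal.mem_span_singleton_self t) M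
  rw [h2, mul_zero] at h1
  have h3 := Ideal.Quotient.eq_zero_iff_mem.1 h1.symm
  rwa [Ideal.span_singleton_pow] at h3

/-- **Gabber's idempotent lifting**: for a henselian pair `(A, tA)`, every idempotent of `Â[1/t]`
comes from a unique idempotent of `A[1/t]`. -/
theorem existsUnique_idem_adic [hA : HenselianRing A (Ideal.span {t})]
    (e : Localization.Away (algebraMap A (AdicCompletion (Ideal.span {t}) A) t))
    (he : IsIdempotentElem e) :
    ∃! e₀ : Localization.Away t, IsIdempotentElem e₀ ∧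
      Localization.awayMap (algebraMap A (AdicCompletion (Ideal.span {t}) A)) t e₀ = e := by
  have fg : (Ideal.span {t}).FG := ⟨{t}, by simp⟩
  have hb : algebraMap A (AdicCompletion (Ideal.span {t}) A) t ∈
      Ideal.jacobson (⊥ : Ideal (AdicCompletion (Ideal.span {t}) A)) := by
    haveI := AdicCompletion.isAdicComplete_self (Ideal.span {t}) fg
    exact IsAdicComplete.le_jacobson_bot _
      (Ideal.mem_map_of_mem _ (Ideal.mem_span_singleton_self t))
  have hc : ∀ (M : ℕ) (x : AdicCompletion (Ideal.span {t}) A), ∃ a : A,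
      algebraMap A (AdicCompletion (Ideal.span {t}) A) a - x ∈
        Ideal.span {algebraMap A (AdicCompletion (Ideal.span {t}) A) t ^ M} := by
    intro M x
    obtain ⟨a, ha⟩ := Ideal.Quotient.mk_surjective (AdicCompletion.evalₐ (Ideal.span {t}) M x)
    refine ⟨a, mem_span_pow_of_evalₐ_eq_zero t M _ ?_⟩
    rw [map_sub, AlgHom.commutes, Ideal.Quotient.algebraMap_eq, ha, sub_self]
  have hd := mem_span_pow_of_algebraMap_mem t
  have hψ : ∀ a, Localization.awayMap (algebraMap A (AdicCompletion (Ideal.span {t}) A)) t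
      (algebraMap A (Localization.Away t) a) =
      algebraMap _ _ (algebraMap A (AdicCompletion (Ideal.span {t}) A) a) := by
    intro a
    exact IsLocalization.map_eq _ a
  obtain ⟨e₀, he₀, he₀e⟩ := exists_idem (algebraMap A (AdicCompletion (Ideal.span {t}) A)) t hA hb
    hc hd (Localization.Away t)
    (Localization.Away (algebraMap A (AdicCompletion (Ideal.span {t}) A) t)) _ hψ e he
  refine ⟨e₀, ⟨he₀, he₀e⟩, ?_⟩
  rintro e₀' ⟨he₀', he₀'e⟩
  exact idem_unique (algebraMap A (AdicCompletion (Ideal.span {t}) A)) t hA hd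
    (Localization.Away t)
    (Localization.Away (algebraMap A (AdicCompletion (Ideal.span {t}) A) t)) _ hψ e₀' e₀ he₀' he₀
    (he₀'e.trans he₀e.symm)

end Adic

end Groth.Agent.Lib.helper12.GabberIdem
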