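/-
helper12: matrix approximation over Gabber–Ramero pairs, part 1: the `t`-adic lattice calculus
`IsInt u k X` ("`X ∈ t^k · M(A)`") in matrices over `L = A[1/t]`.
-/
import Mathlib

set_option autoImplicit false
set_option linter.unusedSectionVars false

namespace Groth.Agent.Lib.helper12.GabberMat

section Calculus

variable {A L : Type*} [CommRing A] [CommRing L] [Algebra A L] (u : Lˣ)

/-- the scalar `x` lies in `u ^ k · (image of A)`. -/
def IsIntS (k : ℤ) (x : L) : Prop := ∃ y : A, x = ((u ^ k : Lˣ) : L) * algebraMap A L y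

/-- the matrix `X` lies in `u ^ k · M(image of A)`. -/
def IsInt {r s : ℕ} (k : ℤ) (X : Matrix (Fin r) (Fin s) L) : Prop :=
  ∃ Y : Matrix (Fin r) (Fin s) A, X = ((u ^ k : Lˣ) : L) • Y.map (algebraMap A L)

variable {u}

lemma isInt_iff {r s : ℕ} {k : ℤ} {X : Matrix (Fin r) (Fin s) L} :
    IsInt (A := A) u k X ↔ ∀ i j, IsIntS (A := A) u k (X i j) := by
  constructor
  · rintro ⟨Y, rfl⟩ i j
    exact ⟨Y i j, by simp⟩
  · intro h
    choose Y hY using h
    refine ⟨Matrix.of Y, ?_⟩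
    ext i j
    simp [hY i j]

lemma IsInt.mul {r s q : ℕ} {j k : ℤ} {X : Matrix (Fin r) (Fin s) L} {Y : Matrix (Fin s) (Fin q) L}
    (hX : IsInt (A := A) u j X) (hY : IsInt (A := A) u k Y) : IsInt (A := A) u (j + k) (X * Y) := by
  obtain ⟨X₀, rfl⟩ := hX
  obtain ⟨Y₀, rfl⟩ := hY
  refine ⟨X₀ * Y₀, ?_⟩
  rw [Matrix.smul_mul, Matrix.mul_smul, smul_smul, Matrix.map_mul, zpow_add, Units.val_mul]

lemma IsInt.add {r s : ℕ} {k : ℤ} {X Y : Matrix (Fin r) (Fin s) L}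
    (hX : IsInt (A := A) u k X) (hY : IsInt (A := A) u k Y) : IsInt (A := A) u k (X + Y) := by
  obtain ⟨X₀, rfl⟩ := hX
  obtain ⟨Y₀, rfl⟩ := hY
  refine ⟨X₀ + Y₀, ?_⟩
  rw [← smul_add, Matrix.map_add _ (map_add _)]

lemma IsInt.neg {r s : ℕ} {k : ℤ} {X : Matrix (Fin r) (Fin s) L}
    (hX : IsInt (A := A) u k X) : IsInt (A := A) u k (-X) := by
  obtain ⟨X₀, rfl⟩ := hX
  refine ⟨-X₀, ?_⟩
  rw [← smul_neg, Matrix.map_neg _ (map_neg _)]

lemma IsInt.sub {r s : ℕ} {k : ℤ} {X Y : Matrix (Fin r) (Fin s) L}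
    (hX : IsInt (A := A) u k X) (hY : IsInt (A := A) u k Y) : IsInt (A := A) u k (X - Y) := by
  rw [sub_eq_add_neg]; exact hX.add hY.neg

lemma isInt_one {r : ℕ} : IsInt (A := A) u 0 (1 : Matrix (Fin r) (Fin r) L) :=
  ⟨1, by rw [zpow_zero, Units.val_one, one_smul, Matrix.map_one _ (map_zero _) (map_one _)]⟩

lemma isInt_map {r s : ℕ} (Y : Matrix (Fin r) (Fin s) A) :
    IsInt (A := A) u 0 (Y.map (algebraMap A L)) :=
  ⟨Y, by rw [zpow_zero, Units.val_one, one_smul]⟩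

lemma IsInt.nsmul {r s : ℕ} {k : ℤ} {X : Matrix (Fin r) (Fin s) L} (n : ℕ)
    (hX : IsInt (A := A) u k X) : IsInt (A := A) u k (n • X) := by
  obtain ⟨X₀, rfl⟩ := hX
  refine ⟨n • X₀, ?_⟩
  rw [smul_comm]
  congr 1
  ext i j
  simp [nsmul_eq_mul]

variable {t : A} (hu : (u : L) = algebraMap A L t)

include hu

lemma zpow_natCast_eq (n : ℕ) : ((u ^ (n : ℤ) : Lˣ) : L) = algebraMap A L (t ^ n) := by
  rw [zpow_natCast, Units.val_pow_eq_pow_val, hu, map_pow]

lemma IsIntS.mono {j k : ℤ} (hjk : j ≤ k) {x : L} (hx : IsIntS (A := A) u k x) :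
    IsIntS (A := A) u j x := by
  obtain ⟨y, rfl⟩ := hx
  obtain ⟨n, hn⟩ := Int.eq_ofNat_of_zero_le (sub_nonneg.2 hjk)
  refine ⟨t ^ n * y, ?_⟩
  have : k = j + (n : ℤ) := by omega
  rw [this, zpow_add, Units.val_mul, zpow_natCast_eq hu, map_mul]
  ring

lemma IsInt.mono {r s : ℕ} {j k : ℤ} (hjk : j ≤ k) {X : Matrix (Fin r) (Fin s) L}
    (hX : IsInt (A := A) u k X) : IsInt (A := A) u j X := by
  rw [isInt_iff] at hX ⊢
  exact fun i j' => (hX i j').mono hu hjk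

end Calculus

section Loc

variable {A L : Type*} [CommRing A] [CommRing L] [Algebra A L] {t : A} [IsLocalization.Away t L]
  {u : Lˣ} (hu : (u : L) = algebraMap A L t)

include hu

lemma exists_isIntS (x : L) : ∃ N : ℕ, IsIntS (A := A) u (-(N : ℤ)) x := by
  obtain ⟨n, a, ha⟩ := IsLocalization.Away.surj t x
  refine ⟨n, a, ?_⟩
  rw [← ha, ← hu, zpow_neg, zpow_natCast, ← Units.val_pow_eq_pow_val, mul_comm x, ← mul_assoc,
    ← Units.val_mul, inv_mul_cancel, Units.val_one, one_mul]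

lemma exists_isInt {r s : ℕ} (X : Matrix (Fin r) (Fin s) L) :
    ∃ N : ℕ, IsInt (A := A) u (-(N : ℤ)) X := by
  choose N hN using fun i j => exists_isIntS (A := A) hu (X i j)
  refine ⟨∑ i, ∑ j, N i j, isInt_iff.2 fun i j => (hN i j).mono hu ?_⟩
  have h1 : N i j ≤ ∑ j', N i j' := Finset.single_le_sum (f := fun j' => N i j')
    (fun _ _ => Nat.zero_le _) (Finset.mem_univ j)
  have h2 : ∑ j', N i j' ≤ ∑ i', ∑ j', N i' j' := Finset.single_le_sum
    (f := fun i' => ∑ j', N i' j') (fun _ _ => Nat.zero_le _) (Finset.mem_univ i)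
  have := h1.trans h2
  omega

end Loc

section Compare

variable {A Ah L Lh : Type*} [CommRing A] [CommRing Ah] [CommRing L] [CommRing Lh]
  [Algebra A L] [Algebra Ah Lh] [Algebra L Lh]
  (φ : A →+* Ah) {t : A} [IsLocalization.Away t L] [IsLocalization.Away (φ t) Lh]
  {u : Lˣ} {uh : Lhˣ} (hu : (u : L) = algebraMap A L t)
  (huh : (uh : Lh) = algebraMap Ah Lh (φ t))
  (hψ : ∀ a, algebraMap L Lh (algebraMap A L a) = algebraMap Ah Lh (φ a))

include hu huh hψ

lemma map_u_zpow (k : ℤ) : algebraMap L Lh ((u ^ k : Lˣ) : L) = ((uh ^ k : Lhˣ) : Lh) := by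
  have h1 : Units.map (algebraMap L Lh : L →* Lh) u = uh := by
    apply Units.ext
    rw [Units.coe_map, huh, ← hψ, ← hu]
    rfl
  rw [← h1, ← map_zpow, Units.coe_map]
  rfl

lemma IsIntS.map {k : ℤ} {x : L} (hx : IsIntS (A := A) u k x) :
    IsIntS (A := Ah) uh k (algebraMap L Lh x) := by
  obtain ⟨y, rfl⟩ := hx
  exact ⟨φ y, by rw [map_mul, map_u_zpow φ hu huh hψ, hψ]⟩

lemma IsInt.map {r s : ℕ} {k : ℤ} {X : Matrix (Fin r) (Fin s) L} (hX : IsInt (A := A) u k X) :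
    IsInt (A := Ah) uh k (X.map (algebraMap L Lh)) := by
  rw [isInt_iff] at hX ⊢
  intro i j
  exact (hX i j).map φ hu huh hψ

variable (hc : ∀ (M : ℕ) (x : Ah), ∃ a : A, φ a - x ∈ Ideal.span {φ t ^ M})

include hc in
lemma exists_approxS (k : ℤ) (x : Lh) :
    ∃ y : L, IsIntS (A := Ah) uh k (algebraMap L Lh y - x) := by
  obtain ⟨N, xh, rfl⟩ := exists_isIntS (A := Ah) huh x
  obtain ⟨a, ha⟩ := hc (k + N).toNat xh
  obtain ⟨w, hw⟩ := Ideal.mem_span_singleton'.1 ha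
  refine ⟨((u ^ (-(N : ℤ)) : Lˣ) : L) * algebraMap A L a, ?_⟩
  have h1 : IsIntS (A := Ah) uh ((k + N).toNat - N : ℤ) (algebraMap L Lh
      (((u ^ (-(N : ℤ)) : Lˣ) : L) * algebraMap A L a) -
      ((uh ^ (-(N : ℤ)) : Lhˣ) : Lh) * algebraMap Ah Lh xh) := by
    refine ⟨w, ?_⟩
    rw [map_mul, map_u_zpow φ hu huh hψ, hψ, ← mul_sub, ← map_sub, ← hw, map_mul, map_pow,
      ← huh, sub_eq_add_neg ((k + N).toNat : ℤ), add_comm ((k + N).toNat : ℤ), zpow_add,
      Units.val_mul, zpow_natCast, Units.val_pow_eq_pow_val]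
    ring
  exact h1.mono huh (by omega)

include hc in
lemma exists_approx {r s : ℕ} (k : ℤ) (X : Matrix (Fin r) (Fin s) Lh) :
    ∃ Y : Matrix (Fin r) (Fin s) L, IsInt (A := Ah) uh k (Y.map (algebraMap L Lh) - X) := by
  choose Y hY using fun i j => exists_approxS φ hu huh hψ hc k (X i j)
  exact ⟨Matrix.of Y, isInt_iff.2 fun i j => by simpa using hY i j⟩

variable (hd : ∀ (M : ℕ) (a : A), φ a ∈ Ideal.span {φ t ^ M} → a ∈ Ideal.span {t ^ M})

include hd in
lemma IsIntS.of_map {k : ℤ} {x : L} (hx : IsIntS (A := Ah) uh k (algebraMap L Lh x)) :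
    IsIntS (A := A) u k x := by
  obtain ⟨N, y, rfl⟩ := exists_isIntS (A := A) hu x
  by_cases hkN : k + N ≤ 0
  · have h0 : IsIntS (A := A) u (-(N : ℤ)) (((u ^ (-(N : ℤ)) : Lˣ) : L) * algebraMap A L y) :=
      ⟨y, rfl⟩
    exact h0.mono hu (by omega)
  obtain ⟨n, hn⟩ := Int.eq_ofNat_of_zero_le (le_of_lt (not_le.1 hkN))
  obtain ⟨w, hw⟩ := hx
  rw [map_mul, map_u_zpow φ hu huh hψ, hψ] at hw
  -- `algh (φ y) = uh ^ (k + N) * algh w`
  have h1 : algebraMap Ah Lh (φ y) = algebraMap Ah Lh (φ t ^ n * w) := by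
    have h2 : algebraMap Ah Lh (φ y) = ((uh ^ (N : ℤ) : Lhˣ) : Lh) *
        (((uh ^ (-(N : ℤ)) : Lhˣ) : Lh) * algebraMap Ah Lh (φ y)) := by
      rw [← mul_assoc, ← Units.val_mul, ← zpow_add]; simp
    rw [h2, hw, ← mul_assoc, ← Units.val_mul, ← zpow_add, add_comm, hn, zpow_natCast,
      Units.val_pow_eq_pow_val, huh, map_mul, map_pow]
  obtain ⟨⟨_, j, rfl⟩, hj⟩ := (IsLocalization.eq_iff_exists (Submonoid.powers (φ t)) Lh).1 h1
  simp only at hj
  have h3 : φ (t ^ j * y) ∈ Ideal.span {φ t ^ (j + n)} := by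
    rw [map_mul, map_pow, hj, Ideal.mem_span_singleton']
    exact ⟨w, by ring⟩
  obtain ⟨z, hz⟩ := Ideal.mem_span_singleton'.1 (hd _ _ h3)
  refine ⟨z, ?_⟩
  -- `alg y = u ^ n * alg z`
  have h4 : algebraMap A L y = ((u ^ (n : ℤ) : Lˣ) : L) * algebraMap A L z := by
    have hunit : IsUnit (algebraMap A L t ^ j) :=
      (IsLocalization.Away.algebraMap_isUnit t).pow j
    apply (hunit.mul_right_inj).1
    rw [zpow_natCast, Units.val_pow_eq_pow_val, hu, ← map_pow, ← map_pow, ← map_mul, ← map_mul,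
      ← map_mul, ← hz]
    congr 1
    ring
  rw [h4, ← mul_assoc, ← Units.val_mul, ← zpow_add]
  congr 3
  omega

include hd in
lemma IsInt.of_map {r s : ℕ} {k : ℤ} {X : Matrix (Fin r) (Fin s) L}
    (hX : IsInt (A := Ah) uh k (X.map (algebraMap L Lh))) : IsInt (A := A) u k X := by
  rw [isInt_iff] at hX ⊢
  intro i j
  exact IsIntS.of_map φ hu huh hψ hd (by simpa using hX i j)

end Compare

section Unit

variable {A L : Type*} [CommRing A] [CommRing L] [Algebra A L] {t : A} {u : Lˣ}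
  (hu : (u : L) = algebraMap A L t) (ht : t ∈ Ideal.jacobson (⊥ : Ideal A))

include ht in
lemma isUnit_one_add_smul {r : ℕ} (Y : Matrix (Fin r) (Fin r) A) : IsUnit (1 + t • Y) := by
  rw [Matrix.isUnit_iff_isUnit_det]
  have h1 : (1 + t • Y).det - 1 ∈ Ideal.span {t} := by
    rw [← Ideal.Quotient.eq_zero_iff_mem, map_sub, map_one, RingHom.map_det]
    have : (Ideal.Quotient.mk (Ideal.span {t})).mapMatrix (1 + t • Y) = 1 := by
      ext i j
      simp only [RingHom.mapMatrix_apply, Matrix.map_apply, Matrix.add_apply, Matrix.smul_apply,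
        smul_eq_mul, map_add, map_mul]
      rw [Ideal.Quotient.eq_zero_iff_mem.2 (Ideal.mem_span_singleton_self t), zero_mul, add_zero]
      by_cases hij : i = j
      · subst hij; simp
      · simp [hij]
    rw [this, Matrix.det_one, sub_self]
  obtain ⟨z, hz⟩ := Ideal.mem_span_singleton'.1 h1
  have h2 : (1 + t • Y).det - 1 ∈ Ideal.jacobson (⊥ : Ideal A) := by
    rw [← hz]; exact Ideal.mul_mem_left _ _ ht
  have := Ideal.mem_jacobson_bot.1 h2 1
  simpa using this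

include hu ht in
lemma isUnit_one_add {r : ℕ} {X : Matrix (Fin r) (Fin r) L} (hX : IsInt (A := A) u 1 X) :
    IsUnit (1 + X) := by
  obtain ⟨Y, rfl⟩ := hX
  have h1 : (1 : Matrix (Fin r) (Fin r) L) + ((u ^ (1 : ℤ) : Lˣ) : L) • Y.map (algebraMap A L) =
      (algebraMap A L).mapMatrix (1 + t • Y) := by
    rw [zpow_one, hu, map_add, map_one]
    congr 1
    ext i j
    simp only [Matrix.smul_apply, Matrix.map_apply, RingHom.mapMatrix_apply, smul_eq_mul, map_mul]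
  rw [h1]
  exact (isUnit_one_add_smul ht Y).map _

include hu ht in
/-- two-sided inverse of `1 + X` for `X ∈ t M(A)`. -/
lemma exists_inv_one_add {r : ℕ} {X : Matrix (Fin r) (Fin r) L} (hX : IsInt (A := A) u 1 X) :
    ∃ W : Matrix (Fin r) (Fin r) L, (1 + X) * W = 1 ∧ W * (1 + X) = 1 := by
  obtain ⟨w, hw⟩ := isUnit_one_add hu ht hX
  exact ⟨((w⁻¹ : (Matrix (Fin r) (Fin r) L)ˣ) : Matrix (Fin r) (Fin r) L),
    by rw [← hw]; exact w.mul_inv, by rw [← hw]; exact w.inv_mul⟩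

end Unit

end Groth.Agent.Lib.helper12.GabberMat
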