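/-
helper12: finitely generated projective modules as images of idempotent matrices
(`IsImage p P`), base change, conjugation, stably free modules.
-/
import Mathlib

set_option autoImplicit false
set_option linter.unusedSectionVars false

namespace Groth.Agent.Lib.helper12.ProjIdem

open TensorProduct

variable {Λ : Type*} [CommRing Λ]

/-- `P` is a model of the image of the (idempotent) matrix `p`. -/
def IsImage {n : ℕ} (p : Matrix (Fin n) (Fin n) Λ) (P : Type*) [AddCommGroup P] [Module Λ P] :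
    Prop :=
  ∃ (f : (Fin n → Λ) →ₗ[Λ] P) (g : P →ₗ[Λ] (Fin n → Λ)),
    f ∘ₗ g = LinearMap.id ∧ g ∘ₗ f = Matrix.mulVecLin p

section Basic

variable {n : ℕ} {p : Matrix (Fin n) (Fin n) Λ} {P : Type*} [AddCommGroup P] [Module Λ P]

lemma mulVecLin_injective {m n : ℕ} :
    Function.Injective (Matrix.mulVecLin : Matrix (Fin m) (Fin n) Λ → _) := by
  intro a b h
  have : Matrix.toLin' a = Matrix.toLin' b := by
    rw [Matrix.toLin'_apply', Matrix.toLin'_apply']; exact h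
  exact Matrix.toLin'.injective this

lemma IsImage.idem (h : IsImage p P) : p * p = p := by
  obtain ⟨f, g, hfg, hgf⟩ := h
  apply mulVecLin_injective
  rw [Matrix.mulVecLin_mul, ← hgf]
  calc (g ∘ₗ f) ∘ₗ (g ∘ₗ f) = g ∘ₗ (f ∘ₗ g) ∘ₗ f := by
        simp only [LinearMap.comp_assoc]
    _ = g ∘ₗ f := by rw [hfg, LinearMap.id_comp]

lemma IsImage.finite (h : IsImage p P) : Module.Finite Λ P := by
  obtain ⟨f, g, hfg, -⟩ := h
  refine Module.Finite.of_surjective f ?_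
  intro x
  exact ⟨g x, by simpa using congrArg (fun φ => φ x) hfg⟩

lemma IsImage.projective (h : IsImage p P) : Module.Projective Λ P := by
  obtain ⟨f, g, hfg, -⟩ := h
  exact Module.Projective.of_split g f hfg

variable (P) in
lemma exists_isImage [Module.Finite Λ P] [Module.Projective Λ P] :
    ∃ (n : ℕ) (p : Matrix (Fin n) (Fin n) Λ), IsImage p P := by
  obtain ⟨n, f, g, -, -, hfg⟩ := Module.Finite.exists_comp_eq_id_of_projective Λ P
  refine ⟨n, LinearMap.toMatrix' (g ∘ₗ f), f, g, hfg, ?_⟩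
  rw [← Matrix.toLin'_apply', Matrix.toLin'_toMatrix']

lemma IsImage.nonempty_linearEquiv {Q : Type*} [AddCommGroup Q] [Module Λ Q]
    (h : IsImage p P) (h' : IsImage p Q) : Nonempty (P ≃ₗ[Λ] Q) := by
  obtain ⟨f, g, hfg, hgf⟩ := h
  obtain ⟨f', g', hfg', hgf'⟩ := h'
  refine ⟨LinearEquiv.ofLinearMap (f' ∘ₗ g) (f ∘ₗ g') ?_ ?_⟩
  · calc (f' ∘ₗ g) ∘ₗ (f ∘ₗ g') = f' ∘ₗ (g ∘ₗ f) ∘ₗ g' := by simp only [LinearMap.comp_assoc]
      _ = f' ∘ₗ (g' ∘ₗ f') ∘ₗ g' := by rw [hgf, hgf']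
      _ = (f' ∘ₗ g') ∘ₗ (f' ∘ₗ g') := by simp only [LinearMap.comp_assoc]
      _ = LinearMap.id := by rw [hfg', LinearMap.id_comp]
  · calc (f ∘ₗ g') ∘ₗ (f' ∘ₗ g) = f ∘ₗ (g' ∘ₗ f') ∘ₗ g := by simp only [LinearMap.comp_assoc]
      _ = f ∘ₗ (g ∘ₗ f) ∘ₗ g := by rw [hgf, hgf']
      _ = (f ∘ₗ g) ∘ₗ (f ∘ₗ g) := by simp only [LinearMap.comp_assoc]
      _ = LinearMap.id := by rw [hfg, LinearMap.id_comp]

lemma IsImage.of_linearEquiv {Q : Type*} [AddCommGroup Q] [Module Λ Q]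
    (h : IsImage p P) (e : P ≃ₗ[Λ] Q) : IsImage p Q := by
  obtain ⟨f, g, hfg, hgf⟩ := h
  refine ⟨e.toLinearMap ∘ₗ f, g ∘ₗ e.symm.toLinearMap, ?_, ?_⟩
  · refine LinearMap.ext fun x => ?_
    have := congrArg (fun φ => φ (e.symm x)) hfg
    simp only [LinearMap.comp_apply, LinearMap.id_apply] at this
    simp [this]
  · refine LinearMap.ext fun x => ?_
    have := congrArg (fun φ => φ x) hgf
    simp only [LinearMap.comp_apply] at this
    simp [this]

lemma isImage_range (hp : p * p = p) : IsImage p (LinearMap.range (Matrix.mulVecLin p)) := by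
  refine ⟨(Matrix.mulVecLin p).rangeRestrict, Submodule.subtype _, ?_, ?_⟩
  · refine LinearMap.ext fun x => ?_
    obtain ⟨x, y, rfl⟩ := x
    apply Subtype.ext
    show p.mulVecLin (p.mulVecLin y) = p.mulVecLin y
    rw [← LinearMap.comp_apply, ← Matrix.mulVecLin_mul, hp]
  · refine LinearMap.ext fun x => ?_
    simp

/-- Conjugate idempotents have the same image. -/
lemma IsImage.conj {q w w' : Matrix (Fin n) (Fin n) Λ} (hw : w * w' = 1) (hw' : w' * w = 1)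
    (hpq : p * w = w * q) (h : IsImage p P) : IsImage q P := by
  obtain ⟨f, g, hfg, hgf⟩ := h
  refine ⟨f ∘ₗ Matrix.mulVecLin w, Matrix.mulVecLin w' ∘ₗ g, ?_, ?_⟩
  · calc (f ∘ₗ Matrix.mulVecLin w) ∘ₗ (Matrix.mulVecLin w' ∘ₗ g)
        = f ∘ₗ (Matrix.mulVecLin w ∘ₗ Matrix.mulVecLin w') ∘ₗ g := by
          simp only [LinearMap.comp_assoc]
      _ = LinearMap.id := by
          rw [← Matrix.mulVecLin_mul, hw, Matrix.mulVecLin_one, LinearMap.id_comp, hfg]
  · calc (Matrix.mulVecLin w' ∘ₗ g) ∘ₗ (f ∘ₗ Matrix.mulVecLin w)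
        = Matrix.mulVecLin w' ∘ₗ (g ∘ₗ f) ∘ₗ Matrix.mulVecLin w := by
          simp only [LinearMap.comp_assoc]
      _ = Matrix.mulVecLin q := by
          rw [hgf, ← Matrix.mulVecLin_mul, ← Matrix.mulVecLin_mul, hpq, ← Matrix.mul_assoc, hw',
            Matrix.one_mul]

end Basic

section BaseChange

variable {n : ℕ} {p : Matrix (Fin n) (Fin n) Λ} {P : Type*} [AddCommGroup P] [Module Λ P]
  (Λ' : Type*) [CommRing Λ'] [Algebra Λ Λ']

lemma piScalarRight_baseChange_mulVecLin {m n : ℕ} (a : Matrix (Fin m) (Fin n) Λ) :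
    (TensorProduct.piScalarRight Λ Λ' Λ' (Fin m)).toLinearMap ∘ₗ
      (Matrix.mulVecLin a).baseChange Λ' ∘ₗ
        (TensorProduct.piScalarRight Λ Λ' Λ' (Fin n)).symm.toLinearMap =
      Matrix.mulVecLin (a.map (algebraMap Λ Λ')) := by
  refine LinearMap.pi_ext' fun j => ?_
  refine LinearMap.ext_ring ?_
  ext i
  simp [Matrix.mulVec_single, Algebra.smul_def, mul_comm]

lemma IsImage.baseChange (h : IsImage p P) :
    IsImage (p.map (algebraMap Λ Λ')) (Λ' ⊗[Λ] P) := by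
  obtain ⟨f, g, hfg, hgf⟩ := h
  refine ⟨f.baseChange Λ' ∘ₗ (TensorProduct.piScalarRight Λ Λ' Λ' (Fin n)).symm.toLinearMap,
    (TensorProduct.piScalarRight Λ Λ' Λ' (Fin n)).toLinearMap ∘ₗ g.baseChange Λ', ?_, ?_⟩
  · calc (f.baseChange Λ' ∘ₗ (TensorProduct.piScalarRight Λ Λ' Λ' (Fin n)).symm.toLinearMap) ∘ₗ
          ((TensorProduct.piScalarRight Λ Λ' Λ' (Fin n)).toLinearMap ∘ₗ g.baseChange Λ')
        = f.baseChange Λ' ∘ₗ ((TensorProduct.piScalarRight Λ Λ' Λ' (Fin n)).symm.toLinearMap ∘ₗ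
          (TensorProduct.piScalarRight Λ Λ' Λ' (Fin n)).toLinearMap) ∘ₗ g.baseChange Λ' := by
          simp only [LinearMap.comp_assoc]
      _ = LinearMap.id := by
          rw [LinearEquiv.symm_comp, LinearMap.id_comp, ← LinearMap.baseChange_comp, hfg,
            LinearMap.baseChange_id]
  · rw [← piScalarRight_baseChange_mulVecLin, ← hgf, LinearMap.baseChange_comp]
    simp only [LinearMap.comp_assoc]

end BaseChange

section Iso

variable {m n : ℕ} {p : Matrix (Fin m) (Fin m) Λ} {q : Matrix (Fin n) (Fin n) Λ}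
  {M N : Type*} [AddCommGroup M] [Module Λ M] [AddCommGroup N] [Module Λ N]

lemma toMatrix'_mulVecLin {m n : ℕ} (a : Matrix (Fin m) (Fin n) Λ) :
    LinearMap.toMatrix' (Matrix.mulVecLin a) = a := by
  rw [← Matrix.toLin'_apply', LinearMap.toMatrix'_toLin']

lemma mulVecLin_toMatrix' {m n : ℕ} (φ : (Fin n → Λ) →ₗ[Λ] (Fin m → Λ)) :
    Matrix.mulVecLin (LinearMap.toMatrix' φ) = φ := by
  rw [← Matrix.toLin'_apply', Matrix.toLin'_toMatrix']

/-- An isomorphism between images of idempotent matrices gives matrices `α`, `β`. -/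
lemma IsImage.exists_matrix_of_linearEquiv (hM : IsImage p M) (hN : IsImage q N)
    (e : M ≃ₗ[Λ] N) :
    ∃ (α : Matrix (Fin n) (Fin m) Λ) (β : Matrix (Fin m) (Fin n) Λ),
      β * α = p ∧ α * β = q ∧ β * q = β ∧ α * p = α := by
  obtain ⟨f, g, hfg, hgf⟩ := hM
  obtain ⟨f', g', hfg', hgf'⟩ := hN
  have e1 : e.symm.toLinearMap ∘ₗ e.toLinearMap = LinearMap.id := by
    ext x; simp
  have e2 : e.toLinearMap ∘ₗ e.symm.toLinearMap = LinearMap.id := by
    ext x; simp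
  refine ⟨LinearMap.toMatrix' (g' ∘ₗ e.toLinearMap ∘ₗ f),
    LinearMap.toMatrix' (g ∘ₗ e.symm.toLinearMap ∘ₗ f'), ?_, ?_, ?_, ?_⟩
  · rw [← LinearMap.toMatrix'_comp, ← toMatrix'_mulVecLin p, ← hgf]
    congr 1
    calc (g ∘ₗ e.symm.toLinearMap ∘ₗ f') ∘ₗ (g' ∘ₗ e.toLinearMap ∘ₗ f)
        = g ∘ₗ e.symm.toLinearMap ∘ₗ (f' ∘ₗ g') ∘ₗ e.toLinearMap ∘ₗ f := by
          simp only [LinearMap.comp_assoc]
      _ = g ∘ₗ (e.symm.toLinearMap ∘ₗ e.toLinearMap) ∘ₗ f := by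
          rw [hfg', LinearMap.id_comp]; simp only [LinearMap.comp_assoc]
      _ = g ∘ₗ f := by rw [e1, LinearMap.id_comp]
  · rw [← LinearMap.toMatrix'_comp, ← toMatrix'_mulVecLin q, ← hgf']
    congr 1
    calc (g' ∘ₗ e.toLinearMap ∘ₗ f) ∘ₗ (g ∘ₗ e.symm.toLinearMap ∘ₗ f')
        = g' ∘ₗ e.toLinearMap ∘ₗ (f ∘ₗ g) ∘ₗ e.symm.toLinearMap ∘ₗ f' := by
          simp only [LinearMap.comp_assoc]
      _ = g' ∘ₗ (e.toLinearMap ∘ₗ e.symm.toLinearMap) ∘ₗ f' := by
          rw [hfg, LinearMap.id_comp]; simp only [LinearMap.comp_assoc]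
      _ = g' ∘ₗ f' := by rw [e2, LinearMap.id_comp]
  · conv_lhs => rw [← toMatrix'_mulVecLin q, ← hgf']
    rw [← LinearMap.toMatrix'_comp]
    congr 1
    calc (g ∘ₗ e.symm.toLinearMap ∘ₗ f') ∘ₗ (g' ∘ₗ f')
        = g ∘ₗ e.symm.toLinearMap ∘ₗ (f' ∘ₗ g') ∘ₗ f' := by simp only [LinearMap.comp_assoc]
      _ = g ∘ₗ e.symm.toLinearMap ∘ₗ f' := by rw [hfg', LinearMap.id_comp]
  · conv_lhs => rw [← toMatrix'_mulVecLin p, ← hgf]
    rw [← LinearMap.toMatrix'_comp]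
    congr 1
    calc (g' ∘ₗ e.toLinearMap ∘ₗ f) ∘ₗ (g ∘ₗ f)
        = g' ∘ₗ e.toLinearMap ∘ₗ (f ∘ₗ g) ∘ₗ f := by simp only [LinearMap.comp_assoc]
      _ = g' ∘ₗ e.toLinearMap ∘ₗ f := by rw [hfg, LinearMap.id_comp]

/-- Matrices `α`, `β` as above give an isomorphism between the images. -/
lemma IsImage.nonempty_linearEquiv_of_matrix (hM : IsImage p M) (hN : IsImage q N)
    (α : Matrix (Fin n) (Fin m) Λ) (β : Matrix (Fin m) (Fin n) Λ)
    (h1 : β * α = p) (h2 : α * β = q) (h3 : β * q = β) (h4 : α * p = α) :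
    Nonempty (M ≃ₗ[Λ] N) := by
  obtain ⟨f, g, hfg, hgf⟩ := hM
  obtain ⟨f', g', hfg', hgf'⟩ := hN
  refine ⟨LinearEquiv.ofLinearMap (f' ∘ₗ Matrix.mulVecLin α ∘ₗ g)
    (f ∘ₗ Matrix.mulVecLin β ∘ₗ g') ?_ ?_⟩
  · calc (f' ∘ₗ Matrix.mulVecLin α ∘ₗ g) ∘ₗ (f ∘ₗ Matrix.mulVecLin β ∘ₗ g')
        = f' ∘ₗ (Matrix.mulVecLin α ∘ₗ (g ∘ₗ f) ∘ₗ Matrix.mulVecLin β) ∘ₗ g' := by
          simp only [LinearMap.comp_assoc]
      _ = f' ∘ₗ (g' ∘ₗ f') ∘ₗ g' := by
          rw [hgf, ← Matrix.mulVecLin_mul, ← Matrix.mulVecLin_mul, ← Matrix.mul_assoc, h4, h2, hgf']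
      _ = (f' ∘ₗ g') ∘ₗ (f' ∘ₗ g') := by simp only [LinearMap.comp_assoc]
      _ = LinearMap.id := by rw [hfg', LinearMap.id_comp]
  · calc (f ∘ₗ Matrix.mulVecLin β ∘ₗ g') ∘ₗ (f' ∘ₗ Matrix.mulVecLin α ∘ₗ g)
        = f ∘ₗ (Matrix.mulVecLin β ∘ₗ (g' ∘ₗ f') ∘ₗ Matrix.mulVecLin α) ∘ₗ g := by
          simp only [LinearMap.comp_assoc]
      _ = f ∘ₗ (g ∘ₗ f) ∘ₗ g := by
          rw [hgf', ← Matrix.mulVecLin_mul, ← Matrix.mulVecLin_mul, ← Matrix.mul_assoc, h3, h1, hgf]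
      _ = (f ∘ₗ g) ∘ₗ (f ∘ₗ g) := by simp only [LinearMap.comp_assoc]
      _ = LinearMap.id := by rw [hfg, LinearMap.id_comp]

end Iso

section StablyFree

variable {m n : ℕ} {M : Type*} [AddCommGroup M] [Module Λ M]

lemma exists_matrix_of_stablyFree (e : (M × (Fin n → Λ)) ≃ₗ[Λ] (Fin m → Λ)) :
    ∃ (G : Matrix (Fin n) (Fin m) Λ) (H : Matrix (Fin m) (Fin n) Λ),
      G * H = 1 ∧ IsImage (1 - H * G) M := by
  refine ⟨LinearMap.toMatrix' (LinearMap.snd Λ M (Fin n → Λ) ∘ₗ e.symm.toLinearMap),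
    LinearMap.toMatrix' (e.toLinearMap ∘ₗ LinearMap.inr Λ M (Fin n → Λ)), ?_,
    LinearMap.fst Λ M (Fin n → Λ) ∘ₗ e.symm.toLinearMap,
    e.toLinearMap ∘ₗ LinearMap.inl Λ M (Fin n → Λ), ?_, ?_⟩
  · rw [← LinearMap.toMatrix'_comp, ← LinearMap.toMatrix'_id]
    congr 1
    refine LinearMap.ext fun x => ?_
    simp
  · refine LinearMap.ext fun x => ?_
    simp
  · have hsub : Matrix.mulVecLin (1 - LinearMap.toMatrix' (e.toLinearMap ∘ₗ
        LinearMap.inr Λ M (Fin n → Λ)) * LinearMap.toMatrix'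
          (LinearMap.snd Λ M (Fin n → Λ) ∘ₗ e.symm.toLinearMap)) =
        LinearMap.id - (e.toLinearMap ∘ₗ LinearMap.inr Λ M (Fin n → Λ)) ∘ₗ
          (LinearMap.snd Λ M (Fin n → Λ) ∘ₗ e.symm.toLinearMap) := by
      rw [← mulVecLin_toMatrix' (LinearMap.id - _), map_sub, LinearMap.toMatrix'_id,
        LinearMap.toMatrix'_comp]
    rw [hsub]
    refine LinearMap.ext fun x => ?_
    simp only [LinearMap.comp_apply, LinearEquiv.coe_coe, LinearMap.fst_apply, LinearMap.inl_apply,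
      LinearMap.sub_apply, LinearMap.id_apply, LinearMap.snd_apply, LinearMap.inr_apply]
    obtain ⟨y, rfl⟩ := e.surjective x
    rw [LinearEquiv.symm_apply_apply, ← map_sub]
    congr 1
    ext <;> simp

lemma nonempty_stablyFree_of_matrix (G : Matrix (Fin n) (Fin m) Λ) (H : Matrix (Fin m) (Fin n) Λ)
    (hGH : G * H = 1) (hM : IsImage (1 - H * G) M) :
    Nonempty ((M × (Fin n → Λ)) ≃ₗ[Λ] (Fin m → Λ)) := by
  obtain ⟨f, g, hfg, hgf⟩ := hM
  have hginj : Function.Injective g := by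
    intro x y hxy
    have hx := congrArg (fun φ => φ x) hfg
    have hy := congrArg (fun φ => φ y) hfg
    simp only [LinearMap.comp_apply, LinearMap.id_apply] at hx hy
    rw [← hx, ← hy, hxy]
  have hfsurj : Function.Surjective f := fun x =>
    ⟨g x, by simpa using congrArg (fun φ => φ x) hfg⟩
  have hfH : f ∘ₗ Matrix.mulVecLin H = 0 := by
    refine LinearMap.ext fun z => ?_
    apply hginj
    have : (g ∘ₗ f) ∘ₗ Matrix.mulVecLin H = 0 := by
      rw [hgf, ← Matrix.mulVecLin_mul, Matrix.sub_mul, Matrix.one_mul, Matrix.mul_assoc, hGH,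
        Matrix.mul_one, sub_self]
      exact Matrix.mulVecLin_zero
    have h2 := congrArg (fun φ => φ z) this
    simpa using h2
  have hGg : Matrix.mulVecLin G ∘ₗ g = 0 := by
    refine LinearMap.ext fun y => ?_
    obtain ⟨x, rfl⟩ := hfsurj y
    have : Matrix.mulVecLin G ∘ₗ (g ∘ₗ f) = 0 := by
      rw [hgf, ← Matrix.mulVecLin_mul, Matrix.mul_sub, Matrix.mul_one, ← Matrix.mul_assoc, hGH,
        Matrix.one_mul, sub_self]
      exact Matrix.mulVecLin_zero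
    have h2 := congrArg (fun φ => φ x) this
    simpa using h2
  refine ⟨LinearEquiv.ofLinearMap (g.coprod (Matrix.mulVecLin H)) (f.prod (Matrix.mulVecLin G))
    ?_ ?_⟩
  · refine LinearMap.ext fun x => ?_
    have h1 := congrArg (fun φ => φ x) hgf
    simp only [LinearMap.comp_apply] at h1
    simp only [LinearMap.comp_apply, LinearMap.prod_apply, Function.prod, LinearMap.coprod_apply,
      LinearMap.id_apply]
    rw [h1, ← LinearMap.comp_apply, ← Matrix.mulVecLin_mul, ← LinearMap.add_apply,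
      ← Matrix.mulVecLin_add, sub_add_cancel, Matrix.mulVecLin_one, LinearMap.id_apply]
  · refine LinearMap.ext fun ⟨y, z⟩ => ?_
    have h1 := congrArg (fun φ => φ y) hfg
    have h2 := congrArg (fun φ => φ z) hfH
    have h3 := congrArg (fun φ => φ y) hGg
    have h4 := congrArg (fun v => Matrix.mulVecLin v z) hGH
    simp only [LinearMap.comp_apply, LinearMap.id_apply, LinearMap.zero_apply] at h1 h2 h3
    rw [Matrix.mulVecLin_mul, Matrix.mulVecLin_one] at h4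
    simp only [LinearMap.comp_apply, LinearMap.id_apply] at h4
    simp only [LinearMap.comp_apply, LinearMap.prod_apply, Function.prod, LinearMap.coprod_apply,
      LinearMap.id_apply, map_add, h1, h2, h3, h4]
    simp

end StablyFree

end Groth.Agent.Lib.helper12.ProjIdem
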