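/-
helper12: matrix approximation over Gabber–Ramero pairs, part 2: descent of isomorphisms of
finitely generated projective modules and extension of stably free modules (Zariski pairs).
-/
import Groth.Agent.Lib.Helper12.GabberMat
import Groth.Agent.Lib.Helper12.ProjIdem

set_option autoImplicit false
set_option linter.unusedSectionVars false

namespace Groth.Agent.Lib.helper12.GabberMat

open Groth.Agent.Lib.helper12.ProjIdem

section Refine

variable {Λ : Type*} [CommRing Λ] {m n : ℕ}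

/-- pure algebra: an approximate isomorphism between images of idempotents whose defects
`βα - p`, `αβ - q` are such that `1 + defect` is invertible can be corrected. -/
lemma exists_refine (p : Matrix (Fin m) (Fin m) Λ) (q : Matrix (Fin n) (Fin n) Λ)
    (hp : p * p = p) (hq : q * q = q)
    (α : Matrix (Fin n) (Fin m) Λ) (β : Matrix (Fin m) (Fin n) Λ)
    (hαp : α * p = α) (hqα : q * α = α) (hβq : β * q = β)
    (y : Matrix (Fin m) (Fin m) Λ) (hy : y * (1 + (β * α - p)) = 1)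
    (y' : Matrix (Fin n) (Fin n) Λ) (hy' : (1 + (α * β - q)) * y' = 1) :
    ∃ β₁ : Matrix (Fin m) (Fin n) Λ, β₁ * α = p ∧ α * β₁ = q ∧ β₁ * q = β₁ ∧ α * p = α := by
  have h1 : (1 + (β * α - p)) * p = β * α := by
    rw [Matrix.add_mul, Matrix.sub_mul, Matrix.one_mul, Matrix.mul_assoc, hαp, hp]
    abel
  have h2 : q * (1 + (α * β - q)) = α * β := by
    rw [Matrix.mul_add, Matrix.mul_sub, Matrix.mul_one, ← Matrix.mul_assoc, hqα, hq]
    abel
  have h3 : (y * β) * α = p := by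
    rw [Matrix.mul_assoc, ← h1, ← Matrix.mul_assoc, hy, Matrix.one_mul]
  have h4 : α * (β * y') = q := by
    rw [← Matrix.mul_assoc, ← h2, Matrix.mul_assoc, hy', Matrix.mul_one]
  have h5 : (y * β) * q = y * β := by rw [Matrix.mul_assoc, hβq]
  refine ⟨y * β, h3, ?_, h5, hαp⟩
  calc α * (y * β) = α * ((y * β) * q) := by rw [h5]
    _ = α * ((y * β) * (α * (β * y'))) := by rw [h4]
    _ = α * (((y * β) * α) * (β * y')) := by simp only [Matrix.mul_assoc]
    _ = (α * p) * (β * y') := by rw [h3, Matrix.mul_assoc]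
    _ = q := by rw [hαp, h4]

end Refine

section Descent

variable {A Ah L Lh : Type*} [CommRing A] [CommRing Ah] [CommRing L] [CommRing Lh]
  [Algebra A L] [Algebra Ah Lh] [Algebra L Lh]
  (φ : A →+* Ah) {t : A} [IsLocalization.Away t L] [IsLocalization.Away (φ t) Lh]
  {u : Lˣ} {uh : Lhˣ} (hu : (u : L) = algebraMap A L t)
  (huh : (uh : Lh) = algebraMap Ah Lh (φ t))
  (hψ : ∀ a, algebraMap L Lh (algebraMap A L a) = algebraMap Ah Lh (φ a))
  (hc : ∀ (M : ℕ) (x : Ah), ∃ a : A, φ a - x ∈ Ideal.span {φ t ^ M})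
  (hd : ∀ (M : ℕ) (a : A), φ a ∈ Ideal.span {φ t ^ M} → a ∈ Ideal.span {t ^ M})
  (ht : t ∈ Ideal.jacobson (⊥ : Ideal A))

include hu huh hψ hc hd ht

/-- matrix form of descent of isomorphisms. -/
theorem exists_matrix_descent {m n : ℕ} (p : Matrix (Fin m) (Fin m) L)
    (q : Matrix (Fin n) (Fin n) L) (hp : p * p = p) (hq : q * q = q)
    (αh : Matrix (Fin n) (Fin m) Lh) (βh : Matrix (Fin m) (Fin n) Lh)
    (h1 : βh * αh = p.map (algebraMap L Lh)) (h2 : αh * βh = q.map (algebraMap L Lh))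
    (h3 : βh * q.map (algebraMap L Lh) = βh) (h4 : αh * p.map (algebraMap L Lh) = αh) :
    ∃ (α : Matrix (Fin n) (Fin m) L) (β : Matrix (Fin m) (Fin n) L),
      β * α = p ∧ α * β = q ∧ β * q = β ∧ α * p = α := by
  obtain ⟨Np, hNp⟩ := exists_isInt (A := A) hu p
  obtain ⟨Nq, hNq⟩ := exists_isInt (A := A) hu q
  obtain ⟨Nα, hNα⟩ := exists_isInt (A := Ah) huh αh
  obtain ⟨Nβ, hNβ⟩ := exists_isInt (A := Ah) huh βh
  obtain ⟨D, hD⟩ : ∃ D : ℤ, D = -((Np + Nq + Nα + Nβ : ℕ) : ℤ) := ⟨_, rfl⟩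
  have hD0 : D ≤ 0 := by omega
  have hDp : IsInt (A := Ah) uh D (p.map (algebraMap L Lh)) :=
    (hNp.mono hu (j := D) (by push_cast at hD; omega)).map φ hu huh hψ
  have hDq : IsInt (A := Ah) uh D (q.map (algebraMap L Lh)) :=
    (hNq.mono hu (j := D) (by push_cast at hD; omega)).map φ hu huh hψ
  have hDα : IsInt (A := Ah) uh D αh := hNα.mono huh (by push_cast at hD; omega)
  have hDβ : IsInt (A := Ah) uh D βh := hNβ.mono huh (by push_cast at hD; omega)
  obtain ⟨α₀, hα₀⟩ := exists_approx φ hu huh hψ hc (1 - 3 * D) αh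
  obtain ⟨β₀, hβ₀⟩ := exists_approx φ hu huh hψ hc (1 - 3 * D) βh
  -- auxiliary identities over `Lh`
  have hqα : q.map (algebraMap L Lh) * αh = αh := by
    rw [← h2, Matrix.mul_assoc, h1, h4]
  have hpβ : p.map (algebraMap L Lh) * βh = βh := by
    rw [← h1, Matrix.mul_assoc, h2, h3]
  -- errors
  have hEα : IsInt (A := Ah) uh (1 - D) ((q * α₀ * p).map (algebraMap L Lh) - αh) := by
    have : (q * α₀ * p).map (algebraMap L Lh) - αh =
        q.map (algebraMap L Lh) * (α₀.map (algebraMap L Lh) - αh) * p.map (algebraMap L Lh) := by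
      rw [Matrix.map_mul, Matrix.map_mul, Matrix.mul_sub, Matrix.sub_mul, hqα, h4]
    rw [this]
    exact ((hDq.mul hα₀).mul hDp).mono huh (by omega)
  have hEβ : IsInt (A := Ah) uh (1 - D) ((p * β₀ * q).map (algebraMap L Lh) - βh) := by
    have : (p * β₀ * q).map (algebraMap L Lh) - βh =
        p.map (algebraMap L Lh) * (β₀.map (algebraMap L Lh) - βh) * q.map (algebraMap L Lh) := by
      rw [Matrix.map_mul, Matrix.map_mul, Matrix.mul_sub, Matrix.sub_mul, hpβ, h3]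
    rw [this]
    exact ((hDp.mul hβ₀).mul hDq).mono huh (by omega)
  -- defects are small
  have hx : IsInt (A := A) u 1 ((p * β₀ * q) * (q * α₀ * p) - p) := by
    apply IsInt.of_map φ hu huh hψ hd
    have : ((p * β₀ * q) * (q * α₀ * p) - p).map (algebraMap L Lh) =
        βh * ((q * α₀ * p).map (algebraMap L Lh) - αh) +
        ((p * β₀ * q).map (algebraMap L Lh) - βh) * αh +
        ((p * β₀ * q).map (algebraMap L Lh) - βh) *
          ((q * α₀ * p).map (algebraMap L Lh) - αh) := by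
      rw [Matrix.map_sub _ (map_sub _), Matrix.map_mul, ← h1]
      simp only [Matrix.mul_sub, Matrix.sub_mul]
      abel
    rw [this]
    refine ((hDβ.mul hEα).mono huh (by omega)).add ((hEβ.mul hDα).mono huh (by omega)) |>.add
      ((hEβ.mul hEα).mono huh (by omega))
  have hx' : IsInt (A := A) u 1 ((q * α₀ * p) * (p * β₀ * q) - q) := by
    apply IsInt.of_map φ hu huh hψ hd
    have : ((q * α₀ * p) * (p * β₀ * q) - q).map (algebraMap L Lh) =
        αh * ((p * β₀ * q).map (algebraMap L Lh) - βh) +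
        ((q * α₀ * p).map (algebraMap L Lh) - αh) * βh +
        ((q * α₀ * p).map (algebraMap L Lh) - αh) *
          ((p * β₀ * q).map (algebraMap L Lh) - βh) := by
      rw [Matrix.map_sub _ (map_sub _), Matrix.map_mul, ← h2]
      simp only [Matrix.mul_sub, Matrix.sub_mul]
      abel
    rw [this]
    refine ((hDα.mul hEβ).mono huh (by omega)).add ((hEα.mul hDβ).mono huh (by omega)) |>.add
      ((hEα.mul hEβ).mono huh (by omega))
  obtain ⟨y, -, hy⟩ := exists_inv_one_add hu ht hx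
  obtain ⟨y', hy', -⟩ := exists_inv_one_add hu ht hx'
  obtain ⟨β₁, hβ₁⟩ := exists_refine p q hp hq (q * α₀ * p) (p * β₀ * q)
    (by rw [Matrix.mul_assoc, hp]) (by rw [← Matrix.mul_assoc, ← Matrix.mul_assoc, hq])
    (by rw [Matrix.mul_assoc, hq]) y hy y' hy'
  exact ⟨q * α₀ * p, β₁, hβ₁⟩

open TensorProduct in
/-- module form of descent of isomorphisms (Zariski pair `(A, tA)`). -/
theorem nonempty_linearEquiv_of_baseChange (M N : Type*) [AddCommGroup M] [Module L M]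
    [Module.Finite L M] [Module.Projective L M] [AddCommGroup N] [Module L N]
    [Module.Finite L N] [Module.Projective L N]
    (e : Nonempty ((Lh ⊗[L] M) ≃ₗ[Lh] (Lh ⊗[L] N))) : Nonempty (M ≃ₗ[L] N) := by
  obtain ⟨m, p, hM⟩ := exists_isImage (Λ := L) M
  obtain ⟨n, q, hN⟩ := exists_isImage (Λ := L) N
  obtain ⟨e⟩ := e
  obtain ⟨αh, βh, h1, h2, h3, h4⟩ :=
    (hM.baseChange Lh).exists_matrix_of_linearEquiv (hN.baseChange Lh) e
  obtain ⟨α, β, h1', h2', h3', h4'⟩ :=
    exists_matrix_descent φ hu huh hψ hc hd ht p q hM.idem hN.idem αh βh h1 h2 h3 h4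
  exact hM.nonempty_linearEquiv_of_matrix hN α β h1' h2' h3' h4'

/-- matrix form of the extension of stably free modules. -/
theorem exists_matrix_stablyFree (hth : φ t ∈ Ideal.jacobson (⊥ : Ideal Ah)) {m n : ℕ}
    (Gh : Matrix (Fin n) (Fin m) Lh) (Hh : Matrix (Fin m) (Fin n) Lh) (hGH : Gh * Hh = 1) :
    ∃ (G : Matrix (Fin n) (Fin m) L) (H : Matrix (Fin m) (Fin n) L), G * H = 1 ∧
      ∃ (α β : Matrix (Fin m) (Fin m) Lh),
        β * α = (1 - H * G).map (algebraMap L Lh) ∧ α * β = 1 - Hh * Gh ∧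
        β * (1 - Hh * Gh) = β ∧ α * (1 - H * G).map (algebraMap L Lh) = α := by
  obtain ⟨NG, hNG⟩ := exists_isInt (A := Ah) huh Gh
  obtain ⟨NH, hNH⟩ := exists_isInt (A := Ah) huh Hh
  obtain ⟨D, hD⟩ : ∃ D : ℤ, D = -((NG + NH : ℕ) : ℤ) := ⟨_, rfl⟩
  have hD0 : D ≤ 0 := by omega
  have hDG : IsInt (A := Ah) uh D Gh := hNG.mono huh (by push_cast at hD; omega)
  have hDH : IsInt (A := Ah) uh D Hh := hNH.mono huh (by push_cast at hD; omega)
  obtain ⟨G, hG⟩ := exists_approx φ hu huh hψ hc (1 - D) Gh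
  obtain ⟨H₀, hH₀⟩ := exists_approx φ hu huh hψ hc (1 - D) Hh
  have hx : IsInt (A := A) u 1 (G * H₀ - 1) := by
    apply IsInt.of_map φ hu huh hψ hd
    have : (G * H₀ - 1).map (algebraMap L Lh) =
        Gh * (H₀.map (algebraMap L Lh) - Hh) + (G.map (algebraMap L Lh) - Gh) * Hh +
        (G.map (algebraMap L Lh) - Gh) * (H₀.map (algebraMap L Lh) - Hh) := by
      rw [Matrix.map_sub _ (map_sub _), Matrix.map_mul, Matrix.map_one _ (map_zero _) (map_one _),
        ← hGH]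
      simp only [Matrix.mul_sub, Matrix.sub_mul]
      abel
    rw [this]
    refine ((hDG.mul hH₀).mono huh (by omega)).add ((hG.mul hDH).mono huh (by omega)) |>.add
      ((hG.mul hH₀).mono huh (by omega))
  obtain ⟨y, hy, -⟩ := exists_inv_one_add hu ht hx
  have hGH' : G * (H₀ * y) = 1 := by
    rw [← Matrix.mul_assoc, ← hy]
    congr 1
    abel
  refine ⟨G, H₀ * y, hGH', ?_⟩
  -- the comparison matrix `W`
  have hthL : φ t ∈ Ideal.jacobson (⊥ : Ideal Ah) := hth
  have hW : IsInt (A := Ah) uh 1 (Hh * (G.map (algebraMap L Lh) - Gh)) :=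
    (hDH.mul hG).mono huh (by omega)
  obtain ⟨W', hWW', hW'W⟩ := exists_inv_one_add huh hthL hW
  obtain ⟨W, hWdef⟩ : ∃ W, W = 1 + Hh * (G.map (algebraMap L Lh) - Gh) := ⟨_, rfl⟩
  rw [← hWdef] at hWW' hW'W
  obtain ⟨Gm, hGm⟩ : ∃ Gm, Gm = G.map (algebraMap L Lh) := ⟨_, rfl⟩
  obtain ⟨Hm, hHm⟩ : ∃ Hm, Hm = (H₀ * y).map (algebraMap L Lh) := ⟨_, rfl⟩
  have hGHm : Gm * Hm = 1 := by
    rw [hGm, hHm, ← Matrix.map_mul, hGH', Matrix.map_one _ (map_zero _) (map_one _)]
  have hGW : Gh * W = Gm := by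
    rw [hWdef, Matrix.mul_add, Matrix.mul_one, ← Matrix.mul_assoc, hGH, Matrix.one_mul, hGm]
    abel
  have hGW' : Gm * W' = Gh := by
    rw [← hGW, Matrix.mul_assoc, hWW', Matrix.mul_one]
  have hP' : (1 - H₀ * y * G).map (algebraMap L Lh) = 1 - Hm * Gm := by
    rw [Matrix.map_sub _ (map_sub _), Matrix.map_one _ (map_zero _) (map_one _), Matrix.map_mul,
      hHm, hGm]
  rw [hP']
  have hGP' : Gm * (1 - Hm * Gm) = 0 := by
    rw [Matrix.mul_sub, Matrix.mul_one, ← Matrix.mul_assoc, hGHm, Matrix.one_mul, sub_self]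
  have hGPh : Gh * (1 - Hh * Gh) = 0 := by
    rw [Matrix.mul_sub, Matrix.mul_one, ← Matrix.mul_assoc, hGH, Matrix.one_mul, sub_self]
  have hPhidem : (1 - Hh * Gh) * (1 - Hh * Gh) = 1 - Hh * Gh := by
    rw [Matrix.sub_mul, Matrix.one_mul, Matrix.mul_assoc, hGPh, Matrix.mul_zero, sub_zero]
  have hP'idem : (1 - Hm * Gm) * (1 - Hm * Gm) = 1 - Hm * Gm := by
    rw [Matrix.sub_mul, Matrix.one_mul, Matrix.mul_assoc, hGP', Matrix.mul_zero, sub_zero]
  have hA1 : (1 - Hh * Gh) * (W * (1 - Hm * Gm)) = W * (1 - Hm * Gm) := by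
    rw [Matrix.sub_mul, Matrix.one_mul, Matrix.mul_assoc Hh Gh, ← Matrix.mul_assoc Gh W, hGW,
      hGP', Matrix.mul_zero, sub_zero]
  have hA2 : (1 - Hm * Gm) * (W' * (1 - Hh * Gh)) = W' * (1 - Hh * Gh) := by
    rw [Matrix.sub_mul, Matrix.one_mul, Matrix.mul_assoc Hm Gm, ← Matrix.mul_assoc Gm W', hGW',
      hGPh, Matrix.mul_zero, sub_zero]
  refine ⟨W * (1 - Hm * Gm), W' * (1 - Hh * Gh), ?_, ?_, ?_, ?_⟩
  · rw [Matrix.mul_assoc, hA1, ← Matrix.mul_assoc, hW'W, Matrix.one_mul]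
  · rw [Matrix.mul_assoc, hA2, ← Matrix.mul_assoc, hWW', Matrix.one_mul]
  · rw [Matrix.mul_assoc, hPhidem]
  · rw [Matrix.mul_assoc, hP'idem]

open TensorProduct in
/-- module form of the extension of stably free modules. -/
theorem exists_stablyFree_extension (hth : φ t ∈ Ideal.jacobson (⊥ : Ideal Ah)) {m n : ℕ}
    (M' : Type*) [AddCommGroup M'] [Module Lh M']
    (e : (M' × (Fin n → Lh)) ≃ₗ[Lh] (Fin m → Lh)) :
    ∃ (G : Matrix (Fin n) (Fin m) L) (H : Matrix (Fin m) (Fin n) L), G * H = 1 ∧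
      Nonempty ((Lh ⊗[L] LinearMap.range (Matrix.mulVecLin (1 - H * G))) ≃ₗ[Lh] M') := by
  obtain ⟨Gh, Hh, hGH, hM'⟩ := exists_matrix_of_stablyFree e
  obtain ⟨G, H, hGH', α, β, h1, h2, h3, h4⟩ :=
    exists_matrix_stablyFree φ hu huh hψ hc hd ht hth Gh Hh hGH
  refine ⟨G, H, hGH', ?_⟩
  have hidem : (1 - H * G) * (1 - H * G) = 1 - H * G := by
    have hGP : G * (1 - H * G) = 0 := by
      rw [Matrix.mul_sub, Matrix.mul_one, ← Matrix.mul_assoc, hGH', Matrix.one_mul, sub_self]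
    rw [Matrix.sub_mul, Matrix.one_mul, Matrix.mul_assoc, hGP, Matrix.mul_zero, sub_zero]
  exact ((isImage_range hidem).baseChange Lh).nonempty_linearEquiv_of_matrix hM' α β h1 h2 h3 h4

end Descent

end Groth.Agent.Lib.helper12.GabberMat
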