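/-
helper12: matrix approximation over Gabber–Ramero pairs, part 3: lifting idempotent matrices
from `Â[1/t]` to `A[1/t]` for a henselian pair `(A, tA)`.
-/
import Groth.Agent.Lib.Helper12.GabberMat2
import Groth.Agent.Lib.Helper26.HenselPairIdem

set_option autoImplicit false
set_option linter.unusedSectionVars false

namespace Groth.Agent.Lib.helper12.GabberMat

open Groth.Agent.Lib.helper12.ProjIdem Polynomial

section Root

/-- pure (noncommutative) algebra: correcting an approximate idempotent `e` by a root `s` of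
`X² + X + η/(1+4η)`, `η = e² - e`. -/
lemma idem_of_root {R : Type*} [Ring R] (e s iv : R) (hes : Commute e s)
    (hs : s * s + s + iv = 0) (hiv : (1 + 4 • (e * e - e)) * iv = e * e - e) :
    (e + (2 • e - 1) * s) * (e + (2 • e - 1) * s) = e + (2 • e - 1) * s := by
  have hse : s * e = e * s := hes.eq.symm
  have hse' : ∀ x, s * (e * x) = e * (s * x) := fun x => by rw [← mul_assoc, hse, mul_assoc]
  have h1 : (e + (2 • e - 1) * s) * (e + (2 • e - 1) * s) - (e + (2 • e - 1) * s) =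
      (e * e - e) + (1 + 4 • (e * e - e)) * (s * s + s) := by
    simp only [mul_add, add_mul, mul_sub, sub_mul, smul_mul_assoc, mul_smul_comm,
      one_mul, mul_assoc, hse, hse', smul_sub, smul_add]
    abel
  have h2 : s * s + s = -iv := by
    rw [← add_eq_zero_iff_eq_neg]; exact hs
  rw [← sub_eq_zero, h1, h2, mul_neg, hiv, add_neg_cancel]

end Root

section Correct

variable {A L : Type*} [CommRing A] [CommRing L] [Algebra A L] {t : A} {u : Lˣ}
  (hu : (u : L) = algebraMap A L t)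

include hu in
/-- core of the idempotent correction, for an abstract commutative henselian `A`-algebra `B`
mapping to `M_n(A)`. -/
lemma exists_idem_correct_core {n : ℕ} (p₀ : Matrix (Fin n) (Fin n) L) (K : ℕ) (hK : 1 ≤ K)
    (c : Matrix (Fin n) (Fin n) A)
    (hη : p₀ * p₀ - p₀ = ((u ^ (K : ℤ) : Lˣ) : L) • c.map (algebraMap A L))
    (B : Type*) [CommRing B] [Algebra A B]
    (hB : HenselianRing B (Ideal.span {algebraMap A B t}))
    (ev : B →ₐ[A] Matrix (Fin n) (Fin n) A) (Z : B) (hZ : ev Z = c)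
    (hcomm : ∀ x : B, Commute p₀ ((ev x).map (algebraMap A L))) :
    ∃ S : Matrix (Fin n) (Fin n) L, IsInt (A := A) u (K : ℤ) S ∧
      (p₀ + (2 • p₀ - 1) * S) * (p₀ + (2 • p₀ - 1) * S) = p₀ + (2 • p₀ - 1) * S := by
  -- the ring hom `ev' : B → M_n(L)`
  obtain ⟨ev', hev'⟩ : ∃ ev' : B →+* Matrix (Fin n) (Fin n) L,
      ∀ x, ev' x = (ev x).map (algebraMap A L) :=
    ⟨(algebraMap A L).mapMatrix.comp (ev : B →+* Matrix (Fin n) (Fin n) A), fun x => rfl⟩
  have hjac := hB.jac
  obtain ⟨Y, hYdef⟩ : ∃ Y : B, Y = algebraMap A B (t ^ K) * Z := ⟨_, rfl⟩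
  have hevY : ev' Y = p₀ * p₀ - p₀ := by
    rw [hη, hev', hYdef, map_mul, hZ, AlgHom.commutes, Matrix.map_mul,
      Matrix.map_algebraMap _ _ (map_zero _) rfl, zpow_natCast_eq hu, Algebra.algebraMap_eq_smul_one,
      Matrix.smul_mul, Matrix.one_mul, algebraMap_smul]
  have hYmem : Y ∈ Ideal.span {algebraMap A B t} := by
    rw [hYdef, Ideal.mem_span_singleton']
    refine ⟨algebraMap A B (t ^ (K - 1)) * Z, ?_⟩
    rw [mul_comm _ (algebraMap A B t), ← mul_assoc, ← map_mul, ← pow_succ', Nat.sub_add_cancel hK]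
  -- the unit `v = 1 + 4Y`
  have hv : IsUnit (1 + 4 • Y) := by
    have := Ideal.mem_jacobson_bot.1 (hjac hYmem) 4
    have h' : (1 + 4 • Y) = Y * 4 + 1 := by ring
    rw [h']; exact this
  obtain ⟨vu, hvu⟩ := hv
  obtain ⟨iv, hivdef⟩ : ∃ iv : B, iv = Y * ↑vu⁻¹ := ⟨_, rfl⟩
  have hviv : (1 + 4 • Y) * iv = Y := by
    rw [hivdef, ← hvu, mul_comm, mul_assoc, Units.inv_mul, mul_one]
  have hivmem : iv ∈ Ideal.span {algebraMap A B t} := by
    rw [hivdef]; exact Ideal.mul_mem_right _ _ hYmem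
  -- the Hensel root
  have hmonic : (X ^ 2 + (X + C iv) : B[X]).Monic := by
    nontriviality B
    apply monic_X_pow_add
    rw [degree_X_add_C]; norm_num
  obtain ⟨s, hsroot, hsmem⟩ := hB.is_henselian (X ^ 2 + (X + C iv)) hmonic 0
    (by simpa using hivmem) (by simp)
  rw [sub_zero] at hsmem
  have hs : s * s + s + iv = 0 := by
    have := hsroot
    simp only [IsRoot.def, eval_add, eval_pow, eval_X, eval_C] at this
    rw [← this]; ring
  have hw : IsUnit (s + 1) := by
    have := Ideal.mem_jacobson_bot.1 (hjac hsmem) 1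
    rwa [mul_one] at this
  obtain ⟨wu, hwu⟩ := hw
  obtain ⟨g, hg⟩ : ∃ g : B, s = Y * g := by
    refine ⟨-(↑vu⁻¹ * ↑wu⁻¹), ?_⟩
    have h1 : s * (s + 1) = -iv := by
      rw [← add_eq_zero_iff_eq_neg, ← hs]; ring
    have h2 : s = -iv * ↑wu⁻¹ := by
      rw [← h1, ← hwu, mul_assoc, Units.mul_inv, mul_one]
    rw [h2, hivdef]; ring
  refine ⟨ev' s, ?_, ?_⟩
  · rw [hg, map_mul, hevY, hev']
    have h1 : IsInt (A := A) u (K : ℤ) (p₀ * p₀ - p₀) := ⟨c, hη⟩
    have := h1.mul (isInt_map (u := u) (L := L) (ev g))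
    rwa [add_zero] at this
  · apply idem_of_root p₀ (ev' s) (ev' iv)
    · rw [hev']; exact hcomm s
    · rw [← map_mul, ← map_add, ← map_add, hs, map_zero]
    · rw [← hevY, ← map_nsmul, ← map_one ev', ← map_add, ← map_mul, hviv]

end Correct

section Correct2

universe w

variable {A : Type w} [CommRing A] {L : Type*} [CommRing L] [Algebra A L] {t : A} {u : Lˣ}
  (hu : (u : L) = algebraMap A L t)

include hu in
/-- idempotent correction over `A[1/t]` for a henselian pair `(A, tA)`: if `p₀² - p₀ ∈ t^K M_n(A)`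
with `K ≥ 1`, there is an idempotent `p` with `p - p₀ ∈ (2p₀ - 1) t^K M_n(A)`. -/
theorem exists_idem_correct (hA : HenselianRing A (Ideal.span {t})) {n : ℕ}
    (p₀ : Matrix (Fin n) (Fin n) L) (K : ℕ) (hK : 1 ≤ K)
    (hη : IsInt (A := A) u (K : ℤ) (p₀ * p₀ - p₀)) :
    ∃ S : Matrix (Fin n) (Fin n) L, IsInt (A := A) u (K : ℤ) S ∧
      (p₀ + (2 • p₀ - 1) * S) * (p₀ + (2 • p₀ - 1) * S) = p₀ + (2 • p₀ - 1) * S := by
  obtain ⟨c, hc⟩ := hη
  have hmonic := Matrix.charpoly_monic c
  have : Module.Finite A (A[X] ⧸ Ideal.span {c.charpoly}) := hmonic.finite_quotient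
  have : Algebra.IsIntegral A (A[X] ⧸ Ideal.span {c.charpoly}) := inferInstance
  have hB := Groth.Agent.Lib.helper26.HenselPair.henselianRing_map_of_isIntegral hA
    (A[X] ⧸ Ideal.span {c.charpoly})
  rw [Ideal.map_span, Set.image_singleton] at hB
  have hker : ∀ a ∈ Ideal.span {c.charpoly},
      (Polynomial.aeval c : A[X] →ₐ[A] Matrix (Fin n) (Fin n) A) a = 0 := by
    intro a ha
    obtain ⟨b, rfl⟩ := Ideal.mem_span_singleton'.1 ha
    rw [map_mul, Matrix.aeval_self_charpoly, mul_zero]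
  have hcc : Commute p₀ (c.map (algebraMap A L)) := by
    have h1 : c.map (algebraMap A L) = ((u ^ (K : ℤ) : Lˣ)⁻¹ : Lˣ).val • (p₀ * p₀ - p₀) := by
      rw [hc, smul_smul, Units.inv_mul, one_smul]
    rw [h1]
    exact (((Commute.refl p₀).mul_right (Commute.refl p₀)).sub_right (Commute.refl p₀)).smul_right _
  refine exists_idem_correct_core hu p₀ K hK c hc _ hB
    (Ideal.Quotient.liftₐ (Ideal.span {c.charpoly}) (Polynomial.aeval c) hker)
    (Ideal.Quotient.mk _ X) ?_ ?_
  · rw [Ideal.Quotient.liftₐ_apply, Ideal.Quotient.lift_mk]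
    simp
  · intro x
    obtain ⟨f, rfl⟩ := Ideal.Quotient.mk_surjective x
    rw [Ideal.Quotient.liftₐ_apply, Ideal.Quotient.lift_mk]
    change Commute p₀ ((Polynomial.aeval c f).map (algebraMap A L))
    induction f using Polynomial.induction_on' with
    | add f g hf hg =>
      rw [map_add, Matrix.map_add _ (map_add _)]; exact hf.add_right hg
    | monomial k a =>
      rw [aeval_monomial, Matrix.map_mul, Matrix.map_algebraMap _ _ (map_zero _) rfl,
        ← RingHom.mapMatrix_apply, map_pow, RingHom.mapMatrix_apply]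
      exact (Algebra.commute_algebraMap_right a p₀).mul_right (hcc.pow_right k)

end Correct2

section Lift

lemma conj_idem {R : Type*} [Ring R] (e f : R) (he : e * e = e) (hf : f * f = f) :
    e * (1 + (2 • e - 1) * (f - e)) = (1 + (2 • e - 1) * (f - e)) * f := by
  have he' : ∀ x, e * (e * x) = e * x := fun x => by rw [← mul_assoc, he]
  have h1 : e * (1 + (2 • e - 1) * (f - e)) = e * f := by
    simp only [mul_add, mul_sub, sub_mul, smul_mul_assoc, mul_smul_comm, one_mul, mul_one,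
      he, he']
    abel
  have h2 : (1 + (2 • e - 1) * (f - e)) * f = e * f := by
    simp only [add_mul, mul_sub, sub_mul, smul_mul_assoc, one_mul, mul_assoc, hf, he']
    abel
  rw [h1, h2]

universe w

variable {A : Type w} {Ah L Lh : Type*} [CommRing A] [CommRing Ah] [CommRing L] [CommRing Lh]
  [Algebra A L] [Algebra Ah Lh] [Algebra L Lh]
  (φ : A →+* Ah) {t : A} [IsLocalization.Away t L] [IsLocalization.Away (φ t) Lh]
  {u : Lˣ} {uh : Lhˣ} (hu : (u : L) = algebraMap A L t)
  (huh : (uh : Lh) = algebraMap Ah Lh (φ t))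
  (hψ : ∀ a, algebraMap L Lh (algebraMap A L a) = algebraMap Ah Lh (φ a))
  (hc : ∀ (M : ℕ) (x : Ah), ∃ a : A, φ a - x ∈ Ideal.span {φ t ^ M})
  (hd : ∀ (M : ℕ) (a : A), φ a ∈ Ideal.span {φ t ^ M} → a ∈ Ideal.span {t ^ M})
  (hA : HenselianRing A (Ideal.span {t}))
  (hth : φ t ∈ Ideal.jacobson (⊥ : Ideal Ah))

include hu huh hψ hc hd hA hth

/-- matrix form of the lifting of idempotents (henselian pair `(A, tA)`). -/
theorem exists_idem_lift {n : ℕ} (ph : Matrix (Fin n) (Fin n) Lh) (hph : ph * ph = ph) :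
    ∃ (p : Matrix (Fin n) (Fin n) L) (w w' : Matrix (Fin n) (Fin n) Lh),
      p * p = p ∧ w * w' = 1 ∧ w' * w = 1 ∧ ph * w = w * p.map (algebraMap L Lh) := by
  obtain ⟨N, hN⟩ := exists_isInt (A := Ah) huh ph
  obtain ⟨p₀, hp₀⟩ := exists_approx φ hu huh hψ hc (3 * (N : ℤ) + 1) ph
  obtain ⟨E, hE⟩ : ∃ E, E = p₀.map (algebraMap L Lh) - ph := ⟨_, rfl⟩
  rw [← hE] at hp₀
  have hp₀m : p₀.map (algebraMap L Lh) = ph + E := by rw [hE]; abel
  have hp₀int : IsInt (A := A) u (-(N : ℤ)) p₀ := by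
    apply IsInt.of_map φ hu huh hψ hd
    rw [hp₀m]
    exact hN.add (hp₀.mono huh (by omega))
  have hη : IsInt (A := A) u ((2 * N + 1 : ℕ) : ℤ) (p₀ * p₀ - p₀) := by
    apply IsInt.of_map φ hu huh hψ hd
    have : (p₀ * p₀ - p₀).map (algebraMap L Lh) = ph * E + E * ph + E * E - E := by
      rw [Matrix.map_sub _ (map_sub _), Matrix.map_mul, hp₀m]
      simp only [Matrix.mul_add, Matrix.add_mul, hph]
      abel
    rw [this]
    refine (((hN.mul hp₀).mono huh (by push_cast; omega)).add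
      ((hp₀.mul hN).mono huh (by push_cast; omega)) |>.add
      ((hp₀.mul hp₀).mono huh (by push_cast; omega))).sub (hp₀.mono huh (by push_cast; omega))
  obtain ⟨S, hS, hidem⟩ := exists_idem_correct hu hA p₀ (2 * N + 1) (by omega) hη
  obtain ⟨p, hpdef⟩ : ∃ p, p = p₀ + (2 • p₀ - 1) * S := ⟨_, rfl⟩
  rw [← hpdef] at hidem
  have hdiff : IsInt (A := A) u ((N : ℤ) + 1) (p - p₀) := by
    have h1 : p - p₀ = (2 • p₀ - 1) * S := by rw [hpdef]; abel
    rw [h1]
    have h2 : IsInt (A := A) u (-(N : ℤ)) (2 • p₀ - 1) :=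
      (hp₀int.nsmul 2).sub (isInt_one.mono hu (by omega))
    exact (h2.mul hS).mono hu (by push_cast; omega)
  have hF : IsInt (A := Ah) uh ((N : ℤ) + 1) (p.map (algebraMap L Lh) - ph) := by
    have h1 : p.map (algebraMap L Lh) - ph = (p - p₀).map (algebraMap L Lh) + E := by
      rw [Matrix.map_sub _ (map_sub _), hE]; abel
    rw [h1]
    exact (hdiff.map φ hu huh hψ).add (hp₀.mono huh (by omega))
  have hw : IsInt (A := Ah) uh 1 ((2 • ph - 1) * (p.map (algebraMap L Lh) - ph)) := by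
    have h2 : IsInt (A := Ah) uh (-(N : ℤ)) (2 • ph - 1) :=
      (hN.nsmul 2).sub (isInt_one.mono huh (by omega))
    exact (h2.mul hF).mono huh (by omega)
  obtain ⟨w', hww', hw'w⟩ := exists_inv_one_add huh hth hw
  refine ⟨p, _, w', hidem, hww', hw'w, ?_⟩
  apply conj_idem _ _ hph
  rw [← Matrix.map_mul, hidem]

open TensorProduct in
/-- module form: every finitely generated projective `Lh`-module is extended from a finitely
generated projective `L`-module (the image of an idempotent matrix). -/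
theorem exists_projective_extension (M' : Type*) [AddCommGroup M'] [Module Lh M']
    [Module.Finite Lh M'] [Module.Projective Lh M'] :
    ∃ (n : ℕ) (p : Matrix (Fin n) (Fin n) L), p * p = p ∧
      Nonempty ((Lh ⊗[L] LinearMap.range (Matrix.mulVecLin p)) ≃ₗ[Lh] M') := by
  obtain ⟨n, ph, hM'⟩ := exists_isImage (Λ := Lh) M'
  obtain ⟨p, w, w', hp, hww', hw'w, hconj⟩ :=
    exists_idem_lift φ hu huh hψ hc hd hA hth ph hM'.idem
  refine ⟨n, p, hp, ?_⟩
  have h1 : IsImage (p.map (algebraMap L Lh)) M' := hM'.conj hww' hw'w hconj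
  exact ((isImage_range hp).baseChange Lh).nonempty_linearEquiv h1

end Lift

end Groth.Agent.Lib.helper12.GabberMat
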