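/-
helper12: glue lemmas instantiating the abstract matrix approximation package `GabberMat`
for `A → Â` (the `t`-adic completion), `L = A[1/t]`, `Lh = Â[1/t]`.
-/
import Groth.Agent.Lib.Helper12.GabberMat2
import Groth.Agent.Lib.Helper12.GabberIdem

set_option autoImplicit false

namespace Groth.Agent.Lib.helper12.GabberMat

open Groth.Agent.Lib.helper12.GabberIdem

section Adic

universe u

variable {A : Type u} [CommRing A] (t : A)

lemma adic_hb : algebraMap A (AdicCompletion (Ideal.span {t}) A) t ∈
    Ideal.jacobson (⊥ : Ideal (AdicCompletion (Ideal.span {t}) A)) := by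
  have fg : (Ideal.span {t}).FG := ⟨{t}, by simp⟩
  have := AdicCompletion.isAdicComplete_self (Ideal.span {t}) fg
  exact IsAdicComplete.le_jacobson_bot _
    (Ideal.mem_map_of_mem _ (Ideal.mem_span_singleton_self t))

lemma adic_hc : ∀ (M : ℕ) (x : AdicCompletion (Ideal.span {t}) A), ∃ a : A,
    algebraMap A (AdicCompletion (Ideal.span {t}) A) a - x ∈
      Ideal.span {algebraMap A (AdicCompletion (Ideal.span {t}) A) t ^ M} := by
  intro M x
  obtain ⟨a, ha⟩ := Ideal.Quotient.mk_surjective (AdicCompletion.evalₐ (Ideal.span {t}) M x)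
  refine ⟨a, mem_span_pow_of_evalₐ_eq_zero t M _ ?_⟩
  rw [map_sub, AlgHom.commutes, Ideal.Quotient.algebraMap_eq, ha, sub_self]

lemma adic_hd : ∀ (M : ℕ) (a : A),
    algebraMap A (AdicCompletion (Ideal.span {t}) A) a ∈
      Ideal.span {algebraMap A (AdicCompletion (Ideal.span {t}) A) t ^ M} →
    a ∈ Ideal.span {t ^ M} :=
  mem_span_pow_of_algebraMap_mem t

lemma adic_hψ
    [Algebra (Localization.Away t)
      (Localization.Away (algebraMap A (AdicCompletion (Ideal.span {t}) A) t))]
    (halg : algebraMap (Localization.Away t)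
      (Localization.Away (algebraMap A (AdicCompletion (Ideal.span {t}) A) t)) =
      Localization.awayMap (algebraMap A (AdicCompletion (Ideal.span {t}) A)) t) :
    ∀ a, algebraMap (Localization.Away t)
      (Localization.Away (algebraMap A (AdicCompletion (Ideal.span {t}) A) t))
        (algebraMap A (Localization.Away t) a) =
      algebraMap _ _ (algebraMap A (AdicCompletion (Ideal.span {t}) A) a) := by
  intro a
  rw [halg]
  exact IsLocalization.map_eq _ a

end Adic

end Groth.Agent.Lib.helper12.GabberMat
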