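/-
helper12: idempotents of `B[1/t]` for `t` a regular element in the Jacobson radical of `B`
with `R ≅ B/tB`; application to `B = R{t}` (henselization of `(R[t], t)`).
-/
import Mathlib
import Groth.Agent.Lib.Helper26.PairHensFinite
import Groth.Agent.Lib.Helper26.PairHensCRT

set_option autoImplicit false
set_option linter.style.haveILetI false
set_option linter.unusedSectionVars false

namespace Groth.Agent.Lib.helper12.HensIdem

open Polynomial
open Groth.Agent.Lib.helper26.PairHens Groth.Agent.Lib.helper26.PairNbhd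
open Groth.Agent.Lib.helper26.HenselPair

universe u

section General

/-- Lifting idempotents modulo the nilradical. -/
lemma exists_idem_of_nilpotent {R : Type*} [CommRing R] (x : R) (hx : IsNilpotent (x * x - x)) :
    ∃ e : R, IsIdempotentElem e ∧ IsNilpotent (e - x) := by
  have hker : ∀ y ∈ RingHom.ker (Ideal.Quotient.mk (nilradical R)), IsNilpotent y := by
    intro y hy
    rw [Ideal.mk_ker] at hy
    exact mem_nilradical.1 hy
  have hid : IsIdempotentElem (Ideal.Quotient.mk (nilradical R) x) := by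
    show _ * _ = _
    rw [← map_mul, Ideal.Quotient.eq]
    exact mem_nilradical.2 hx
  obtain ⟨e, he, hex⟩ := exists_isIdempotentElem_eq_of_ker_isNilpotent _ hker _ ⟨x, rfl⟩ hid
  refine ⟨e, he, ?_⟩
  rw [Ideal.Quotient.eq] at hex
  exact mem_nilradical.1 hex

lemma nilradical_le_jac {B : Type*} [CommRing B] : nilradical B ≤ Ideal.jacobson (⊥ : Ideal B) :=
  Ideal.radical_le_jacobson

/-- Two idempotents whose difference lies in the Jacobson radical are equal. -/
lemma idem_eq_of_sub_mem_jacobson {B : Type*} [CommRing B] {u v : B} (hu : IsIdempotentElem u)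
    (hv : IsIdempotentElem v) (h : u - v ∈ Ideal.jacobson (⊥ : Ideal B)) : u = v := by
  have h1 : u * (1 - v) = 0 := by
    apply eq_zero_of_isIdempotentElem_of_mem_jacobson (hu.mul hv.one_sub)
    have : u * (1 - v) = u * (u - v) := by
      have := hu.eq
      linear_combination (-1 : B) * this
    rw [this]
    exact Ideal.mul_mem_left _ _ h
  have h2 : v * (1 - u) = 0 := by
    apply eq_zero_of_isIdempotentElem_of_mem_jacobson (hv.mul hu.one_sub)
    have : v * (1 - u) = (-v) * (u - v) := by
      have := hv.eq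
      linear_combination (-1 : B) * this
    rw [this]
    exact Ideal.mul_mem_left _ _ h
  linear_combination h1 - h2

/-- Two idempotents whose difference is nilpotent are equal. -/
lemma idem_eq_of_sub_nilpotent {B : Type*} [CommRing B] {u v : B} (hu : IsIdempotentElem u)
    (hv : IsIdempotentElem v) (h : IsNilpotent (u - v)) : u = v := by
  exact idem_eq_of_sub_mem_jacobson hu hv (nilradical_le_jac (mem_nilradical.2 h))

section Main

variable {R B : Type*} [CommRing R] [CommRing B] (c : R →+* B) (t : B)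
  (H1 : ∀ b : B, ∃ r : R, c r - b ∈ Ideal.span {t})
  (H2 : ∀ r : R, c r ∈ Ideal.span {t} → r = 0)
  (H3 : ∀ x : B, t * x = 0 → x = 0)
  (H4 : t ∈ Ideal.jacobson (⊥ : Ideal B))

include H1 H2 H3 H4

lemma isNilpotent_of_pow_mem (r : R) (h : ∃ k : ℕ, c r ^ k ∈ Ideal.span {t}) : IsNilpotent r := by
  obtain ⟨k, hk⟩ := h
  refine ⟨k, H2 _ ?_⟩
  rw [map_pow]; exact hk

lemma nilpotent_of_mul_pow {x : B} (n : ℕ) (h : IsNilpotent (t ^ n * x)) : IsNilpotent x := by
  obtain ⟨k, hk⟩ := h
  refine ⟨k, ?_⟩
  rw [mul_pow, ← pow_mul] at hk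
  generalize n * k = m at hk
  induction m with
  | zero => simpa using hk
  | succ m ih =>
    apply ih
    apply H3
    rw [← mul_assoc, ← pow_succ']
    exact hk

theorem exists_idem_aux (N : ℕ) : ∀ a : B, IsNilpotent (a * a - t ^ N * a) →
    ∃ r : R, IsIdempotentElem r ∧ IsNilpotent (c r * t ^ N - a) := by
  induction N with
  | zero =>
    intro a ha
    rw [pow_zero, one_mul] at ha
    obtain ⟨r₀, hr₀⟩ := H1 a
    have hr₀n : IsNilpotent (r₀ * r₀ - r₀) := by
      apply isNilpotent_of_pow_mem c t H1 H2 H3 H4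
      obtain ⟨k, hk⟩ := ha
      refine ⟨k, ?_⟩
      -- c (r₀² - r₀) ≡ a² - a mod t
      have h1 : c (r₀ * r₀ - r₀) - (a * a - a) ∈ Ideal.span {t} := by
        have : c (r₀ * r₀ - r₀) - (a * a - a) = (c r₀ - a) * (c r₀ + a - 1) := by
          rw [map_sub, map_mul]; ring
        rw [this]
        exact Ideal.mul_mem_right _ _ hr₀
      have h2 : c (r₀ * r₀ - r₀) ^ k - (a * a - a) ^ k ∈ Ideal.span {t} := by
        obtain ⟨q, hq⟩ := sub_dvd_pow_sub_pow (c (r₀ * r₀ - r₀)) (a * a - a) k
        rw [hq]
        exact Ideal.mul_mem_right _ _ h1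
      rw [hk, sub_zero] at h2
      exact h2
    obtain ⟨r, hr, hrr₀⟩ := exists_idem_of_nilpotent r₀ hr₀n
    obtain ⟨e', he', he'a⟩ := exists_idem_of_nilpotent a ha
    refine ⟨r, hr, ?_⟩
    rw [pow_zero, mul_one]
    have hcr : IsIdempotentElem (c r) := hr.map c
    have heq : c r = e' := by
      apply idem_eq_of_sub_mem_jacobson hcr he'
      have : c r - e' = c (r - r₀) + (c r₀ - a) + (-(e' - a)) := by
        rw [map_sub]; ring
      rw [this]
      refine Ideal.add_mem _ (Ideal.add_mem _ ?_ ?_) ?_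
      · exact nilradical_le_jac (mem_nilradical.2 (hrr₀.map c))
      · obtain ⟨q, hq⟩ := Ideal.mem_span_singleton'.1 hr₀
        rw [← hq]
        exact Ideal.mul_mem_left _ _ H4
      · exact nilradical_le_jac (mem_nilradical.2 he'a.neg)
    rw [heq]
    exact he'a
  | succ N ih =>
    intro a ha
    obtain ⟨r₀, hr₀⟩ := H1 a
    have hr₀n : IsNilpotent r₀ := by
      apply isNilpotent_of_pow_mem c t H1 H2 H3 H4
      obtain ⟨k, hk⟩ := ha
      refine ⟨2 * k, ?_⟩
      have h1 : c r₀ * c r₀ - (a * a - t ^ (N + 1) * a) ∈ Ideal.span {t} := by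
        have : c r₀ * c r₀ - (a * a - t ^ (N + 1) * a) =
            (c r₀ - a) * (c r₀ + a) + t * (t ^ N * a) := by ring
        rw [this]
        exact Ideal.add_mem _ (Ideal.mul_mem_right _ _ hr₀)
          (Ideal.mul_mem_right _ _ (Ideal.mem_span_singleton_self t))
      have h2 : (c r₀ * c r₀) ^ k - (a * a - t ^ (N + 1) * a) ^ k ∈ Ideal.span {t} := by
        obtain ⟨q, hq⟩ := sub_dvd_pow_sub_pow (c r₀ * c r₀) (a * a - t ^ (N + 1) * a) k
        rw [hq]
        exact Ideal.mul_mem_right _ _ h1
      rw [hk, sub_zero, ← pow_two, ← pow_mul] at h2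
      exact h2
    obtain ⟨b, hb⟩ := Ideal.mem_span_singleton'.1 hr₀
    -- a = c r₀ - b * t
    have ha' : a = c r₀ - t * b := by rw [mul_comm, hb]; ring
    have hν : IsNilpotent (c r₀) := hr₀n.map c
    have hb2 : IsNilpotent ((-b) * (-b) - t ^ N * (-b)) := by
      apply nilpotent_of_mul_pow c t H1 H2 H3 H4 2
      have : t ^ 2 * ((-b) * (-b) - t ^ N * (-b)) =
          (a * a - t ^ (N + 1) * a) + c r₀ * (2 * t * b - c r₀ + t ^ (N + 1)) := by
        rw [ha']; ring
      rw [this]
      exact Commute.isNilpotent_add (Commute.all _ _) ha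
        (Commute.isNilpotent_mul_right (Commute.all _ _) hν)
    obtain ⟨r, hr, hrn⟩ := ih (-b) hb2
    refine ⟨r, hr, ?_⟩
    have : c r * t ^ (N + 1) - a = t * (c r * t ^ N - (-b)) + (-(c r₀)) := by
      rw [ha']; ring
    rw [this]
    exact Commute.isNilpotent_add (Commute.all _ _)
      (Commute.isNilpotent_mul_left (Commute.all _ _) hrn) hν.neg

lemma eq_zero_of_pow_mul {x : B} (n : ℕ) (h : t ^ n * x = 0) : x = 0 := by
  induction n with
  | zero => simpa using h
  | succ m ih =>
    apply ih
    apply H3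
    rw [← mul_assoc, ← pow_succ']
    exact h

lemma eq_zero_of_algebraMap_eq_zero (L : Type*) [CommRing L] [Algebra B L]
    [IsLocalization.Away t L] {x : B} (h : algebraMap B L x = 0) : x = 0 := by
  rw [← map_zero (algebraMap B L), IsLocalization.eq_iff_exists (Submonoid.powers t) L] at h
  obtain ⟨⟨_, m, rfl⟩, hm⟩ := h
  rw [mul_zero] at hm
  exact eq_zero_of_pow_mul c t H1 H2 H3 H4 m hm

/-- Every idempotent of `B[1/t]` comes from a unique idempotent of `R`. -/
theorem existsUnique_idem (L : Type*) [CommRing L] [Algebra B L]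
    [IsLocalization.Away t L] (e : L) (he : IsIdempotentElem e) :
    ∃! r : R, IsIdempotentElem r ∧ algebraMap B L (c r) = e := by
  obtain ⟨N, a, ha⟩ := IsLocalization.Away.surj t e
  have hzero : a * a - t ^ N * a = 0 := by
    apply eq_zero_of_algebraMap_eq_zero c t H1 H2 H3 H4 L
    rw [map_sub, map_mul, map_mul, map_pow, ← ha]
    have := he.eq
    linear_combination (algebraMap B L t ^ N * algebraMap B L t ^ N) * this
  obtain ⟨r, hr, hrn⟩ := exists_idem_aux c t H1 H2 H3 H4 N a (by rw [hzero]; exact IsNilpotent.zero)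
  have hu : IsUnit (algebraMap B L t ^ N) :=
    (IsLocalization.Away.algebraMap_isUnit (S := L) t).pow N
  have hnil : IsNilpotent (algebraMap B L (c r) - e) := by
    have h1 : IsNilpotent ((algebraMap B L (c r) - e) * algebraMap B L t ^ N) := by
      have := hrn.map (algebraMap B L)
      rw [map_sub, map_mul, map_pow, ← ha] at this
      rwa [sub_mul]
    obtain ⟨k, hk⟩ := h1
    refine ⟨k, ?_⟩
    rw [mul_pow] at hk
    exact ((hu.pow k).mul_left_eq_zero).mp hk
  refine ⟨r, ⟨hr, idem_eq_of_sub_nilpotent (hr.map _ |>.map _) he hnil⟩, ?_⟩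
  rintro r' ⟨-, hr'⟩
  have h0 : c (r' - r) = 0 := by
    apply eq_zero_of_algebraMap_eq_zero c t H1 H2 H3 H4 L
    rw [map_sub, map_sub, hr', idem_eq_of_sub_nilpotent (hr.map _ |>.map _) he hnil, sub_self]
  have := H2 (r' - r) (by rw [h0]; exact zero_mem _)
  exact sub_eq_zero.1 this

end Main

end General

section Hens

variable {R : Type u} [CommRing R] {B : Type u} [CommRing B] [Algebra R[X] B]
  (hB : Hens2.IsPairHenselization R[X] (Ideal.span {(X : R[X])}) B)

include hB

lemma map_span_X : (Ideal.span {(X : R[X])}).map (algebraMap R[X] B) =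
    Ideal.span {algebraMap R[X] B X} := by
  rw [Ideal.map_span, Set.image_singleton]

lemma hens_H1 (b : B) : ∃ r : R, ((algebraMap R[X] B).comp C) r - b ∈
    Ideal.span {algebraMap R[X] B X} := by
  obtain ⟨p, hp⟩ := exists_sub_mem_of_isPairHenselization hB b
  rw [map_span_X hB] at hp
  refine ⟨p.coeff 0, ?_⟩
  have h1 : algebraMap R[X] B (C (p.coeff 0) - p) ∈ Ideal.span {algebraMap R[X] B X} := by
    obtain ⟨q, hq⟩ : (X : R[X]) ∣ C (p.coeff 0) - p := by
      rw [X_dvd_iff]; simp
    rw [hq, map_mul]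
    exact Ideal.mul_mem_right _ _ (Ideal.mem_span_singleton_self _)
  have : ((algebraMap R[X] B).comp C) (p.coeff 0) - b =
      algebraMap R[X] B (C (p.coeff 0) - p) + (algebraMap R[X] B p - b) := by
    rw [map_sub, RingHom.comp_apply]; ring
  rw [this]
  exact Ideal.add_mem _ h1 hp

lemma hens_H2 (r : R) (h : ((algebraMap R[X] B).comp C) r ∈ Ideal.span {algebraMap R[X] B X}) :
    r = 0 := by
  rw [RingHom.comp_apply, ← map_span_X hB] at h
  have h1 := mem_pow_of_algebraMap_mem hB 1 (C r) (by rwa [pow_one])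
  rw [pow_one, Ideal.mem_span_singleton, X_dvd_iff, coeff_C_zero] at h1
  exact h1

lemma hens_H3 (x : B) (h : algebraMap R[X] B X * x = 0) : x = 0 := by
  haveI : Module.Flat R[X] B := flat_of_isPairHenselization hB
  have hreg : IsSMulRegular B (algebraMap R[X] B X) :=
    IsSMulRegular.of_flat (monic_X (R := R)).isRegular.left.isSMulRegular
  exact hreg (by simpa [smul_eq_mul] using h)

lemma hens_H4 : algebraMap R[X] B X ∈ Ideal.jacobson (⊥ : Ideal B) := by
  apply hB.1.jac
  rw [map_span_X hB]
  exact Ideal.mem_span_singleton_self _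

/-- For any ring `R` and a henselization `B` of `R[t]` along `(t)`, every idempotent of `B[1/t]`
comes from a unique idempotent of `R`. -/
theorem existsUnique_idem_hens (e : Localization.Away (algebraMap R[X] B X))
    (he : IsIdempotentElem e) :
    ∃! r : R, IsIdempotentElem r ∧
      algebraMap B (Localization.Away (algebraMap R[X] B X))
        (algebraMap R[X] B (Polynomial.C r)) = e :=
  existsUnique_idem ((algebraMap R[X] B).comp C) (algebraMap R[X] B X) (hens_H1 hB) (hens_H2 hB)
    (hens_H3 hB) (hens_H4 hB) _ e he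

end Hens

end Groth.Agent.Lib.helper12.HensIdem
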