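/-
helper12: glue lemmas instantiating the abstract matrix approximation package `GabberMat`
for `R{t} → R[[t]]` (`B` a henselization of `(R[t], (t))`), `L = B[1/t]`, `Lh ≅ R((t))`.
-/
import Groth.Agent.Lib.Helper12.GabberMat3
import Groth.Agent.Lib.Helper12.HensIdem
import Groth.Agent.Lib.Helper26.PairHensFlat

set_option autoImplicit false

namespace Groth.Agent.Lib.helper12.GabberMat

open Polynomial

section Poly

variable {R : Type*} [CommRing R]

lemma algebraMap_polynomial_powerSeries (p : R[X]) :
    algebraMap R[X] (PowerSeries R) p = (p : PowerSeries R) := by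
  rw [PowerSeries.algebraMap_apply']
  simp

lemma exists_polynomial_sub_mem (M : ℕ) (x : PowerSeries R) :
    ∃ p : R[X], (p : PowerSeries R) - x ∈ Ideal.span {(PowerSeries.X : PowerSeries R) ^ M} := by
  refine ⟨PowerSeries.trunc M x, ?_⟩
  rw [Ideal.mem_span_singleton, PowerSeries.X_pow_dvd_iff]
  intro m hm
  rw [map_sub, Polynomial.coeff_coe, PowerSeries.coeff_trunc, if_pos hm, sub_self]

lemma polynomial_mem_span_X_pow (M : ℕ) (p : R[X])
    (h : (p : PowerSeries R) ∈ Ideal.span {(PowerSeries.X : PowerSeries R) ^ M}) :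
    p ∈ Ideal.span {(X : R[X]) ^ M} := by
  rw [Ideal.mem_span_singleton, PowerSeries.X_pow_dvd_iff] at h
  rw [Ideal.mem_span_singleton, Polynomial.X_pow_dvd_iff]
  intro d hd
  rw [← Polynomial.coeff_coe]
  exact h d hd

lemma X_mem_jacobson : (PowerSeries.X : PowerSeries R) ∈
    Ideal.jacobson (⊥ : Ideal (PowerSeries R)) := by
  rw [Ideal.mem_jacobson_bot]
  intro y
  rw [PowerSeries.isUnit_iff_constantCoeff]
  simp

end Poly

section Laurent

universe u

variable {R : Type u} [CommRing R] {B : Type u} [CommRing B] [Algebra R[X] B]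
  (hB : Hens2.IsPairHenselization R[X] (Ideal.span {(X : R[X])}) B)
  (ψ : B →ₐ[R[X]] PowerSeries R)

lemma laurent_φt : (ψ : B →+* PowerSeries R) (algebraMap R[X] B X) = PowerSeries.X := by
  rw [RingHom.coe_coe, AlgHom.commutes, algebraMap_polynomial_powerSeries]
  simp

lemma laurent_hc : ∀ (M : ℕ) (x : PowerSeries R), ∃ a : B,
    (ψ : B →+* PowerSeries R) a - x ∈
      Ideal.span {(ψ : B →+* PowerSeries R) (algebraMap R[X] B X) ^ M} := by
  intro M x
  obtain ⟨p, hp⟩ := exists_polynomial_sub_mem M x
  refine ⟨algebraMap R[X] B p, ?_⟩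
  rw [laurent_φt, RingHom.coe_coe, AlgHom.commutes, algebraMap_polynomial_powerSeries]
  exact hp

include hB in
lemma laurent_hA : HenselianRing B (Ideal.span {algebraMap R[X] B X}) := by
  have := hB.1
  rwa [HensIdem.map_span_X hB] at this

include hB in
lemma laurent_hd : ∀ (M : ℕ) (a : B),
    (ψ : B →+* PowerSeries R) a ∈
      Ideal.span {(ψ : B →+* PowerSeries R) (algebraMap R[X] B X) ^ M} →
    a ∈ Ideal.span {algebraMap R[X] B X ^ M} := by
  intro M a ha
  rw [laurent_φt] at ha
  obtain ⟨p, hp⟩ := Groth.Agent.Lib.helper26.PairHens.exists_sub_mem_pow hB M a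
  have hmap : (Ideal.span {(X : R[X])} ^ M).map (algebraMap R[X] B) =
      Ideal.span {algebraMap R[X] B X ^ M} := by
    rw [Ideal.span_singleton_pow, Ideal.map_span, Set.image_singleton, map_pow]
  rw [hmap] at hp
  -- `ψ` of the difference lies in `X^M`
  have h1 : (ψ : B →+* PowerSeries R) (algebraMap R[X] B p - a) ∈
      Ideal.span {(PowerSeries.X : PowerSeries R) ^ M} := by
    obtain ⟨y, hy⟩ := Ideal.mem_span_singleton'.1 hp
    rw [← hy, map_mul, map_pow, laurent_φt]
    exact Ideal.mul_mem_left _ _ (Ideal.mem_span_singleton_self _)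
  have h2 : (p : PowerSeries R) ∈ Ideal.span {(PowerSeries.X : PowerSeries R) ^ M} := by
    have h3 : (p : PowerSeries R) = (ψ : B →+* PowerSeries R) (algebraMap R[X] B p - a) +
        (ψ : B →+* PowerSeries R) a := by
      rw [map_sub, sub_add_cancel, RingHom.coe_coe, AlgHom.commutes,
        algebraMap_polynomial_powerSeries]
    rw [h3]
    exact Ideal.add_mem _ h1 ha
  have h4 := polynomial_mem_span_X_pow M p h2
  have h5 : algebraMap R[X] B p ∈ Ideal.span {algebraMap R[X] B X ^ M} := by
    obtain ⟨q, hq⟩ := Ideal.mem_span_singleton'.1 h4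
    rw [← hq, map_mul, map_pow]
    exact Ideal.mul_mem_left _ _ (Ideal.mem_span_singleton_self _)
  have h6 : a = algebraMap R[X] B p - (algebraMap R[X] B p - a) := by ring
  rw [h6]
  exact Ideal.sub_mem _ h5 hp

lemma laurent_hth : (ψ : B →+* PowerSeries R) (algebraMap R[X] B X) ∈
    Ideal.jacobson (⊥ : Ideal (PowerSeries R)) := by
  rw [laurent_φt]
  exact X_mem_jacobson

end Laurent

section Equiv

variable {R : Type*} [CommRing R] {L' : Type*} [CommRing L'] (e : L' ≃+* LaurentSeries R)

/-- a ring `L'` identified with `R((X))` compatibly with `R[[X]]` is `R[[X]][1/X]`. -/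
lemma isLocalization_away_of_equiv [Algebra (PowerSeries R) L']
    (halg : ∀ f, e (algebraMap (PowerSeries R) L' f) = HahnSeries.ofPowerSeries ℤ R f) :
    IsLocalization.Away (PowerSeries.X : PowerSeries R) L' := by
  let h : LaurentSeries R ≃ₐ[PowerSeries R] L' :=
    AlgEquiv.ofRingEquiv (f := e.symm) (by
      intro x
      rw [LaurentSeries.coe_algebraMap, ← halg, e.symm_apply_apply])
  exact IsLocalization.isLocalization_of_algEquiv _ h

end Equiv

end Groth.Agent.Lib.helper12.GabberMat
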