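/-
helper12: glue lemmas instantiating the abstract matrix approximation package `GabberMat`
for `R(t) → R((t))`: `A = R[t]` localized at `1 + tR[t]`, `L = A[1/t] = R(t)`, `Ah = R[[t]]`.
-/
import Groth.Agent.Lib.Helper12.GabberMatLaurent

set_option autoImplicit false

namespace Groth.Agent.Lib.helper12.GabberMat

open Polynomial

section Rat

variable (R : Type*) [CommRing R]

/-- polynomials with constant coefficient `1`. -/
def S1 : Submonoid R[X] where
  carrier := {f | f.coeff 0 = 1}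
  one_mem' := by simp
  mul_mem' := by
    intro a b ha hb
    change a.coeff 0 = 1 at ha
    change b.coeff 0 = 1 at hb
    change (a * b).coeff 0 = 1
    rw [Polynomial.mul_coeff_zero, ha, hb, mul_one]

/-- `R[t]` localized at `1 + tR[t]`. -/
abbrev A1 : Type _ := Localization (S1 R)

variable {R} in
lemma isUnit_coe_of_mem_S1 {f : R[X]} (hf : f ∈ S1 R) : IsUnit (f : PowerSeries R) := by
  rw [PowerSeries.isUnit_iff_constantCoeff]
  have h1 : PowerSeries.constantCoeff (f : PowerSeries R) = f.coeff 0 := by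
    rw [← PowerSeries.coeff_zero_eq_constantCoeff_apply, Polynomial.coeff_coe]
  rw [h1, hf]
  exact isUnit_one

/-- the map `A1 R → R[[t]]`. -/
noncomputable def φ1 : A1 R →+* PowerSeries R :=
  IsLocalization.lift (M := S1 R)
    (g := (Polynomial.coeToPowerSeries.ringHom : R[X] →+* PowerSeries R))
    (fun y => isUnit_coe_of_mem_S1 y.2)

lemma φ1_algebraMap (p : R[X]) : φ1 R (algebraMap R[X] (A1 R) p) = (p : PowerSeries R) := by
  rw [φ1, IsLocalization.lift_eq]
  rfl

lemma φ1_t1 : φ1 R (algebraMap R[X] (A1 R) X) = PowerSeries.X := by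
  rw [φ1_algebraMap]
  simp

lemma t1_mem_jacobson : algebraMap R[X] (A1 R) X ∈ Ideal.jacobson (⊥ : Ideal (A1 R)) := by
  rw [Ideal.mem_jacobson_bot]
  intro y
  obtain ⟨g, s, rfl⟩ := IsLocalization.exists_mk'_eq (S1 R) y
  have h1 : (algebraMap R[X] (A1 R) X * IsLocalization.mk' (A1 R) g s + 1) *
      algebraMap R[X] (A1 R) s = algebraMap R[X] (A1 R) (X * g + (s : R[X])) := by
    rw [add_mul, mul_assoc, IsLocalization.mk'_spec, one_mul, map_add, map_mul]
  have h2 : X * g + (s : R[X]) ∈ S1 R := by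
    change (X * g + (s : R[X])).coeff 0 = 1
    rw [coeff_add, mul_coeff_zero, coeff_X_zero, zero_mul, zero_add]
    exact s.2
  have h3 : IsUnit (algebraMap R[X] (A1 R) (X * g + (s : R[X]))) :=
    IsLocalization.map_units (A1 R) (⟨_, h2⟩ : S1 R)
  rw [← h1] at h3
  exact isUnit_of_mul_isUnit_left h3

lemma rat_hc : ∀ (M : ℕ) (x : PowerSeries R), ∃ a : A1 R,
    φ1 R a - x ∈ Ideal.span {φ1 R (algebraMap R[X] (A1 R) X) ^ M} := by
  intro M x
  obtain ⟨p, hp⟩ := exists_polynomial_sub_mem M x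
  refine ⟨algebraMap R[X] (A1 R) p, ?_⟩
  rw [φ1_t1, φ1_algebraMap]
  exact hp

lemma rat_hd : ∀ (M : ℕ) (a : A1 R),
    φ1 R a ∈ Ideal.span {φ1 R (algebraMap R[X] (A1 R) X) ^ M} →
    a ∈ Ideal.span {algebraMap R[X] (A1 R) X ^ M} := by
  intro M a ha
  rw [φ1_t1] at ha
  obtain ⟨g, s, rfl⟩ := IsLocalization.exists_mk'_eq (S1 R) a
  have h1 : IsLocalization.mk' (A1 R) g s * algebraMap R[X] (A1 R) s =
      algebraMap R[X] (A1 R) g := IsLocalization.mk'_spec _ _ _
  have h2 : (g : PowerSeries R) ∈ Ideal.span {(PowerSeries.X : PowerSeries R) ^ M} := by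
    have := congrArg (φ1 R) h1
    rw [map_mul, φ1_algebraMap, φ1_algebraMap] at this
    rw [← this]
    exact Ideal.mul_mem_right _ _ ha
  obtain ⟨q, hq⟩ := Ideal.mem_span_singleton'.1 (polynomial_mem_span_X_pow M g h2)
  obtain ⟨us, hus⟩ := IsLocalization.map_units (A1 R) s
  have h3 : IsLocalization.mk' (A1 R) g s =
      algebraMap R[X] (A1 R) q * ↑us⁻¹ * algebraMap R[X] (A1 R) X ^ M := by
    have h4 : IsLocalization.mk' (A1 R) g s =
        (IsLocalization.mk' (A1 R) g s * algebraMap R[X] (A1 R) s) * ↑us⁻¹ := by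
      rw [← hus, mul_assoc, Units.mul_inv, mul_one]
    rw [h4, h1, ← hq, map_mul, map_pow]
    ring
  rw [h3]
  exact Ideal.mul_mem_left _ _ (Ideal.mem_span_singleton_self _)

end Rat

section RatL

variable (R : Type*) [CommRing R] (L : Type*) [CommRing L] [Algebra R[X] L]
  [IsLocalization (Submonoid.closure ({f : R[X] | f.coeff 0 = 1} ∪ {X})) L]

lemma S1_le : S1 R ≤ Submonoid.closure ({f : R[X] | f.coeff 0 = 1} ∪ {X}) :=
  fun _ hf => Submonoid.subset_closure (Or.inl hf)

/-- the algebra structure `A1 R → L = R(t)`. -/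
@[instance_reducible]
noncomputable def algebraA1 : Algebra (A1 R) L :=
  (IsLocalization.lift (M := S1 R) (g := algebraMap R[X] L)
    (fun y => IsLocalization.map_units L
      (⟨y.1, S1_le R y.2⟩ : Submonoid.closure ({f : R[X] | f.coeff 0 = 1} ∪ {X})))).toAlgebra

lemma algebraA1_algebraMap (p : R[X]) :
    letI := algebraA1 R L
    algebraMap (A1 R) L (algebraMap R[X] (A1 R) p) = algebraMap R[X] L p :=
  IsLocalization.lift_eq _ _

lemma isLocalization_away_A1 :
    letI := algebraA1 R L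
    IsLocalization.Away (algebraMap R[X] (A1 R) X) L := by
  let _ := algebraA1 R L
  have : IsScalarTower R[X] (A1 R) L :=
    IsScalarTower.of_algebraMap_eq (fun p => (algebraA1_algebraMap R L p).symm)
  have h1 := IsLocalization.isLocalization_of_submonoid_le (A1 R) L (S1 R)
    (Submonoid.closure ({f : R[X] | f.coeff 0 = 1} ∪ {X})) (S1_le R)
  refine (IsLocalization.iff_of_le_of_exists_dvd
    (Submonoid.powers (algebraMap R[X] (A1 R) X)) _ ?_ ?_).2 h1
  · rw [Submonoid.powers_le]
    exact ⟨X, Submonoid.subset_closure (Or.inr rfl), rfl⟩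
  · rintro n ⟨s, hs, rfl⟩
    induction hs using Submonoid.closure_induction with
    | mem x hx =>
      rcases hx with hx | hx
      · exact ⟨1, one_mem _, (IsLocalization.map_units (A1 R) (⟨x, hx⟩ : S1 R)).dvd⟩
      · rw [hx]; exact ⟨_, Submonoid.mem_powers _, dvd_rfl⟩
    | one => exact ⟨1, one_mem _, by simp⟩
    | mul x y hx hy ihx ihy =>
      obtain ⟨m, hm, hxm⟩ := ihx
      obtain ⟨m', hm', hym⟩ := ihy
      exact ⟨m * m', mul_mem hm hm', by
        simp only [map_mul] at hxm hym ⊢; exact mul_dvd_mul hxm hym⟩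

end RatL

end Groth.Agent.Lib.helper12.GabberMat
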