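import Mathlib
import Groth.Agent.Lib.Helper18.HHConseq
import Groth.Agent.Lib.Helper18.HHZero

/-!
# Exactness of global sections from vanishing of `H¹` of the kernel (helper12)

* `exact_H0_of_subsingleton_H1`: for a complex `F → G → H` of `O_X`-modules exact at `G` with
  `H¹(X, ker (F → G)) = 0`, the sequence `H⁰(F) → H⁰(G) → H⁰(H)` is exact.
* `exact_sections_of_subsingleton_H1`: the same for sections over `⊤`.
-/

set_option autoImplicit false
universe u

open CategoryTheory CategoryTheory.Limits AlgebraicGeometry Opposite

namespace Groth.Agent.Lib.helper12.GammaExact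

open Groth.Agent.Lib.Helper18.HH

section Abstract

variable {C : Type*} [Category C] [Abelian C]

/-- `0 → ker f → X → im f → 0`. -/
theorem shortExact_kernel_image {X Y : C} (f : X ⟶ Y) :
    (ShortComplex.mk (kernel.ι f) (Abelian.factorThruImage f) (by
      rw [← cancel_mono (Abelian.image.ι f), Category.assoc, Abelian.image.fac, kernel.condition,
        zero_comp])).ShortExact := by
  refine ShortComplex.ShortExact.mk' ?_ inferInstance inferInstance
  refine ShortComplex.exact_of_f_is_kernel _ ?_
  exact isKernelOfComp (f := Abelian.factorThruImage f) (Abelian.image.ι f) f (kernelIsKernel f) _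
    (Abelian.image.fac f)

/-- `0 → im f → Y → coker f → 0`. -/
theorem shortExact_image_cokernel {X Y : C} (f : X ⟶ Y) :
    (ShortComplex.mk (Abelian.image.ι f) (cokernel.π f) (kernel.condition _)).ShortExact := by
  refine ShortComplex.ShortExact.mk' ?_ inferInstance inferInstance
  exact ShortComplex.exact_of_f_is_kernel _ (kernelIsKernel (cokernel.π f))

end Abstract

variable {X : Scheme.{u}}

/-- Exactness of `H⁰` from vanishing of `H¹` of the kernel. -/
theorem exact_H0_of_subsingleton_H1 (S : ShortComplex X.Modules) (hS : S.Exact)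
    (hK : Subsingleton (Coh.HH X (kernel S.f) 1)) :
    Function.Exact (map S.f 0) (map S.g 0) := by
  let Sa : ShortComplex X.Modules := ShortComplex.mk (kernel.ι S.f) (Abelian.factorThruImage S.f) (by
      rw [← cancel_mono (Abelian.image.ι S.f), Category.assoc, Abelian.image.fac, kernel.condition,
        zero_comp])
  let Sb : ShortComplex X.Modules :=
    ShortComplex.mk (Abelian.image.ι S.f) (cokernel.π S.f) (kernel.condition _)
  let Sc : ShortComplex X.Modules := ShortComplex.mk (cokernel.desc S.f S.g S.zero)
      (cokernel.π (cokernel.desc S.f S.g S.zero)) (cokernel.condition _)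
  have hSa : Sa.ShortExact := shortExact_kernel_image S.f
  have hSb : Sb.ShortExact := shortExact_image_cokernel S.f
  have hmono : Mono (cokernel.desc S.f S.g S.zero) := S.exact_iff_mono_cokernel_desc.mp hS
  have hSc : Sc.ShortExact :=
    ShortComplex.ShortExact.mk' (ShortComplex.exact_cokernel _) hmono inferInstance
  have hinj : Function.Injective (map (cokernel.desc S.f S.g S.zero) 0) :=
    injective_map_f_zero (S := Sc) hSc
  have hsurj : Function.Surjective (map (Abelian.factorThruImage S.f) 0) :=
    surjective_map_g (S := Sa) hSa 0 hK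
  have hex : Function.Exact (map (Abelian.image.ι S.f) 0) (map (cokernel.π S.f) 0) :=
    exact₂ (S := Sb) hSb 0
  have hf : map S.f 0 = (map (Abelian.image.ι S.f) 0).comp (map (Abelian.factorThruImage S.f) 0) := by
    rw [← map_comp, Abelian.image.fac]
  have hg : map S.g 0 = (map (cokernel.desc S.f S.g S.zero) 0).comp (map (cokernel.π S.f) 0) := by
    rw [← map_comp, cokernel.π_desc]
  intro s
  constructor
  · intro hs
    rw [hg, LinearMap.comp_apply] at hs
    have h1 : map (cokernel.π S.f) 0 s = 0 := hinj (by rw [hs, _root_.map_zero])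
    obtain ⟨t, ht⟩ := (hex s).1 h1
    obtain ⟨u, hu⟩ := hsurj t
    exact ⟨u, by rw [hf, LinearMap.comp_apply, hu, ht]⟩
  · rintro ⟨u, rfl⟩
    rw [← map_comp_apply, S.zero, map_zero]
    rfl

/-- Exactness of sections over `⊤` from vanishing of `H¹` of the kernel. -/
theorem exact_sections_of_subsingleton_H1 (S : ShortComplex X.Modules) (hS : S.Exact)
    (hK : Subsingleton (Coh.HH X (kernel S.f) 1)) :
    Function.Exact (S.f.val.app (op ⊤)).hom (S.g.val.app (op ⊤)).hom := by
  have h := exact_H0_of_subsingleton_H1 S hS hK
  intro s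
  constructor
  · intro hs
    have h1 : map S.g 0 ((equiv₀ S.X₂).symm s) = 0 := by
      rw [equiv₀_symm_naturality, hs, _root_.map_zero]
    obtain ⟨u, hu⟩ := (h _).1 h1
    refine ⟨equiv₀ S.X₁ u, ?_⟩
    rw [← equiv₀_naturality, hu, LinearEquiv.apply_symm_apply]
  · rintro ⟨u, rfl⟩
    have h1 := (h (map S.f 0 ((equiv₀ S.X₁).symm u))).2 ⟨_, rfl⟩
    rw [equiv₀_symm_naturality, equiv₀_symm_naturality] at h1
    have h2 := congrArg (equiv₀ S.X₃) h1
    rwa [LinearEquiv.apply_symm_apply, _root_.map_zero] at h2

end Groth.Agent.Lib.helper12.GammaExact
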