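import Mathlib

/-!
# Algebraic independence of a generic linear combination

Let `K` be a domain over a field `k`, `a : ι → K` and `w : K` with `(a i₀, w)` algebraically
independent over `k`.  In the polynomial ring `K[X_i]` the family
`X_i (i : ι), ∑ a_i X_i, w` is algebraically independent over `k`.
-/

set_option autoImplicit false

namespace Groth.Agent.Lib.helper12.GenLinIndep

open MvPolynomial

variable {k K : Type*} [Field k] [CommRing K] [IsDomain K] [Algebra k K]
  {ι : Type*} [Fintype ι] [DecidableEq ι]

/-- translation of the variables by constants from `k` -/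
noncomputable def shift (s : ι → k) : MvPolynomial ι K →ₐ[K] MvPolynomial ι K :=
  aeval (fun i => X i + algebraMap k (MvPolynomial ι K) (s i))

omit [IsDomain K] [Fintype ι] [DecidableEq ι] in
@[simp] lemma shift_X (s : ι → k) (i : ι) :
    shift (K := K) s (X i) = X i + algebraMap k (MvPolynomial ι K) (s i) := by
  simp [shift]

omit [IsDomain K] [Fintype ι] [DecidableEq ι] in
lemma shift_comp_shift_neg (s : ι → k) :
    (shift (K := K) (-s)).comp (shift s) = AlgHom.id K _ := by
  apply MvPolynomial.algHom_ext
  intro i
  simp [shift]

omit [IsDomain K] [Fintype ι] [DecidableEq ι] in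
lemma shift_injective (s : ι → k) : Function.Injective (shift (K := K) s) := by
  intro x y hxy
  have := congrArg (shift (K := K) (-s)) hxy
  rw [← AlgHom.comp_apply, ← AlgHom.comp_apply, shift_comp_shift_neg] at this
  exact this


/-- The generic linear combination `∑ a_i X_i` is algebraically independent of the variables
and of `w`, provided `(a i₀, w)` is algebraically independent over `k`. -/
theorem main (a : ι → K) (i₀ : ι) (w : K)
    (h : AlgebraicIndependent k ![a i₀, w]) :
    AlgebraicIndependent k
      (Sum.elim (X : ι → MvPolynomial ι K) ![∑ i, C (a i) * X i, C w]) := by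
  classical
  set P := MvPolynomial ι K with hP
  set u : P := ∑ i, C (a i) * X i with hu
  -- the big independent family
  have hX : AlgebraicIndependent K (X : ι → P) := MvPolynomial.algebraicIndependent_X ι K
  have hY : AlgebraicIndependent k
      (Sum.elim (X : ι → P) (algebraMap K P ∘ ![a i₀, w])) := h.sumElim_comp hX
  set Y : ι ⊕ Fin 2 → P := Sum.elim (X : ι → P) (algebraMap K P ∘ ![a i₀, w]) with hYdef
  set Z : ι ⊕ Fin 2 → P := Sum.elim (X : ι → P) ![u, C w] with hZdef
  have hagree : ∀ j : ι ⊕ Fin 2, j ≠ Sum.inr 0 → Z j = Y j := by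
    rintro (i | j) hj
    · rfl
    · fin_cases j
      · exact absurd rfl hj
      · rfl
  rw [AlgebraicIndependent.iff_transcendental_adjoin_image (Sum.inr 0)]
  refine ⟨?_, ?_⟩
  · have : (fun j : {j : ι ⊕ Fin 2 // j ≠ Sum.inr 0} => Z j) = Y ∘ Subtype.val := by
      funext j
      exact hagree j.1 j.2
    rw [this]
    exact hY.comp _ Subtype.val_injective
  · have himg : Z '' {Sum.inr 0}ᶜ = Y '' {Sum.inr 0}ᶜ := by
      apply Set.image_congr
      intro j hj
      exact hagree j hj
    rw [himg]
    set D := Algebra.adjoin k (Y '' {Sum.inr 0}ᶜ) with hD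
    have hYtr : Transcendental D (Y (Sum.inr 0)) :=
      hY.transcendental_adjoin (s := {Sum.inr 0}ᶜ) (i := Sum.inr 0) (by simp)
    intro halg
    apply hYtr
    -- the shift
    set s : ι → k := Pi.single i₀ 1 with hs
    set σ : P →ₐ[K] P := shift s with hσ
    have hσu : σ u = u + C (a i₀) := by
      rw [hu, map_sum]
      have : ∀ i, σ (C (a i) * X i) = C (a i) * X i + C (a i * algebraMap k K (s i)) := by
        intro i
        have hC : σ (C (a i)) = C (a i) := by
          rw [← MvPolynomial.algebraMap_eq]
          exact σ.commutes _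
        rw [map_mul, hC, hσ, shift_X, MvPolynomial.algebraMap_apply, mul_add, ← map_mul]
      simp_rw [this]
      rw [Finset.sum_add_distrib]
      congr 1
      rw [← map_sum]
      congr 1
      rw [Finset.sum_eq_single i₀]
      · simp [hs]
      · intro b _ hb
        simp [hs, hb]
      · intro hb
        exact absurd (Finset.mem_univ _) hb
    -- `σ` preserves `D`
    set σk : P →ₐ[k] P := σ.restrictScalars k with hσk
    have hσD : ∀ d ∈ D, σk d ∈ D := by
      have hle : D.map σk ≤ D := by
        rw [hD, AlgHom.map_adjoin]
        apply Algebra.adjoin_le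
        rintro _ ⟨_, ⟨j, hj, rfl⟩, rfl⟩
        rcases j with i | j
        · -- a variable
          have h1 : (X i : P) ∈ D :=
            Algebra.subset_adjoin ⟨Sum.inl i, by simp, rfl⟩
          have h2 : σk (Y (Sum.inl i)) = X i + algebraMap k P (s i) := shift_X s i
          rw [SetLike.mem_coe, h2]
          exact D.add_mem h1 (D.algebraMap_mem _)
        · fin_cases j
          · exact absurd rfl hj
          · have h1 : Y (Sum.inr 1) ∈ D := Algebra.subset_adjoin ⟨Sum.inr 1, by simp, rfl⟩
            have h2 : σk (Y (Sum.inr 1)) = Y (Sum.inr 1) := σ.commutes w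
            show σk (Y (Sum.inr 1)) ∈ D
            rw [h2]
            exact h1
      intro d hd
      exact hle ⟨d, hd, rfl⟩
    set σD : D →ₐ[k] D := (σk.comp D.val).codRestrict D (fun d => hσD d.1 d.2) with hσDdef
    have hσDinj : Function.Injective σD := by
      intro x y hxy
      apply Subtype.ext
      apply shift_injective s
      exact congrArg Subtype.val hxy
    have h1 : IsAlgebraic D (σ u) := by
      refine IsAlgebraic.ringHom_of_comp_eq (f := (σD : D →+* D)) (g := (σ : P →+* P)) halg
        hσDinj ?_
      ext d
      rfl
    have h2 : IsAlgebraic D (σ u - u) := h1.sub halg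
    have h3 : σ u - u = Y (Sum.inr 0) := by
      rw [hσu, add_sub_cancel_left]
      rfl
    rw [← h3]
    exact h2

end Groth.Agent.Lib.helper12.GenLinIndep
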