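import Mathlib

/-!
# A graded Skolem–Noether theorem for endomorphism algebras of graded vector spaces
-/

set_option autoImplicit false

namespace Groth.Agent.Lib.helper12.GrSkolem

open DirectSum

universe u v

variable {k : Type u} [Field k] {V W : Type v} [AddCommGroup V] [Module k V]
  [AddCommGroup W] [Module k W]

/-- a functional taking the value `1` at a given nonzero vector -/
theorem exists_dual_eq_one {v : V} (hv : v ≠ 0) : ∃ μ : V →ₗ[k] k, μ v = 1 := by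
  have hker : LinearMap.ker (LinearMap.toSpanSingleton k V v) = ⊥ :=
    LinearMap.ker_toSpanSingleton (R := k) (M := V) hv
  obtain ⟨g, hg⟩ := LinearMap.exists_leftInverse_of_injective _ hker
  refine ⟨g, ?_⟩
  have := congrArg (fun f => f 1) hg
  simpa using this

section core

variable (φ : Module.End k V ≃ₐ[k] Module.End k W) (lam : V →ₗ[k] k) (w₀ : W)

/-- the candidate intertwiner `v ↦ φ(λ(·) v) w₀` -/
noncomputable def gLin : V →ₗ[k] W :=
  (LinearMap.applyₗ w₀) ∘ₗ φ.toLinearMap ∘ₗ (LinearMap.smulRightₗ lam)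

theorem gLin_apply (v : V) : gLin φ lam w₀ v = φ (lam.smulRight v) w₀ := rfl

theorem smulRight_map (f : Module.End k V) (v : V) :
    lam.smulRight (f v) = f * lam.smulRight v := by
  ext x
  simp [Module.End.mul_apply]

theorem gLin_map (f : Module.End k V) (v : V) :
    gLin φ lam w₀ (f v) = φ f (gLin φ lam w₀ v) := by
  rw [gLin_apply, gLin_apply, smulRight_map, map_mul, Module.End.mul_apply]

variable {lam} {w₀} {v₀ : V} (hw₀ : φ (lam.smulRight v₀) w₀ = w₀)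
  (hw₀ne : w₀ ≠ 0)

include hw₀ hw₀ne

theorem gLin_injective : Function.Injective (gLin φ lam w₀) := by
  rw [injective_iff_map_eq_zero]
  intro v hv
  by_contra hne
  obtain ⟨μ, hμ⟩ := exists_dual_eq_one (k := k) hne
  have h1 : (μ.smulRight v₀ : Module.End k V) v = v₀ := by simp [hμ]
  have h2 := gLin_map φ lam w₀ (μ.smulRight v₀) v
  rw [h1, hv, map_zero, gLin_apply, hw₀] at h2
  exact hw₀ne h2

theorem gLin_surjective : Function.Surjective (gLin φ lam w₀) := by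
  intro w
  obtain ⟨ν, hν⟩ := exists_dual_eq_one (k := k) hw₀ne
  refine ⟨φ.symm (ν.smulRight w) v₀, ?_⟩
  rw [gLin_map, AlgEquiv.apply_symm_apply, gLin_apply, hw₀]
  simp [hν]

end core

section graded

variable [Nontrivial V]

/-- the projection to the `i`-th graded piece -/
noncomputable def proj (𝒱 : ℤ → Submodule k V) [Decomposition 𝒱] (i : ℤ) : V →ₗ[k] V :=
  (𝒱 i).subtype ∘ₗ (DirectSum.component k ℤ (fun i => 𝒱 i) i) ∘ₗ
    (decomposeLinearEquiv 𝒱).toLinearMap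

omit [Nontrivial V] in
theorem proj_apply (𝒱 : ℤ → Submodule k V) [Decomposition 𝒱] (i : ℤ) (x : V) :
    proj 𝒱 i x = (decompose 𝒱 x i : V) := rfl

omit [Nontrivial V] in
theorem proj_mem (𝒱 : ℤ → Submodule k V) [Decomposition 𝒱] (i : ℤ) (x : V) :
    proj 𝒱 i x ∈ 𝒱 i := by
  rw [proj_apply]
  exact (decompose 𝒱 x i).2

omit [Nontrivial V] in
theorem proj_of_mem_same (𝒱 : ℤ → Submodule k V) [Decomposition 𝒱] {i : ℤ} {x : V}
    (hx : x ∈ 𝒱 i) : proj 𝒱 i x = x := by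
  rw [proj_apply]
  exact decompose_of_mem_same 𝒱 hx

omit [Nontrivial V] in
theorem proj_of_mem_ne (𝒱 : ℤ → Submodule k V) [Decomposition 𝒱] {i j : ℤ} {x : V}
    (hx : x ∈ 𝒱 i) (hij : i ≠ j) : proj 𝒱 j x = 0 := by
  rw [proj_apply]
  exact decompose_of_mem_ne 𝒱 hx hij

theorem main (𝒱 : ℤ → Submodule k V) (h𝒱 : DirectSum.IsInternal 𝒱)
    (𝒲 : ℤ → Submodule k W) (h𝒲 : DirectSum.IsInternal 𝒲)
    (φ : Module.End k V ≃ₐ[k] Module.End k W)
    (hφ : ∀ (d : ℤ) (f : Module.End k V), (∀ (i : ℤ) (x : V), x ∈ 𝒱 i → f x ∈ 𝒱 (i + d)) →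
      ∀ (i : ℤ) (y : W), y ∈ 𝒲 i → φ f y ∈ 𝒲 (i + d)) :
    ∃ (n : ℤ) (g : V ≃ₗ[k] W),
      (∀ i : ℤ, Submodule.map (g : V →ₗ[k] W) (𝒱 i) = 𝒲 (i + n)) ∧
      (∀ f : Module.End k V, φ f = (g : V →ₗ[k] W) ∘ₗ f ∘ₗ (g.symm : W →ₗ[k] V)) ∧
      ∀ (n' : ℤ) (g' : V ≃ₗ[k] W),
        (∀ i : ℤ, Submodule.map (g' : V →ₗ[k] W) (𝒱 i) = 𝒲 (i + n')) →
        (∀ f : Module.End k V, φ f = (g' : V →ₗ[k] W) ∘ₗ f ∘ₗ (g'.symm : W →ₗ[k] V)) →
        n' = n ∧ ∃ c : kˣ, ∀ x : V, g' x = c • g x := by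
  classical
  let _ : Decomposition 𝒱 := h𝒱.chooseDecomposition
  let _ : Decomposition 𝒲 := h𝒲.chooseDecomposition
  -- a nonzero homogeneous vector
  obtain ⟨i₀, v₀, hv₀mem, hv₀ne⟩ : ∃ (i₀ : ℤ) (v₀ : V), v₀ ∈ 𝒱 i₀ ∧ v₀ ≠ 0 := by
    obtain ⟨v, hv⟩ := exists_ne (0 : V)
    by_contra hcon
    push Not at hcon
    apply hv
    have h0 : decompose 𝒱 v = 0 := by
      ext i
      have := hcon i (decompose 𝒱 v i : V) (decompose 𝒱 v i).2
      simpa using this
    exact (decompose 𝒱).injective (h0.trans (decompose_zero 𝒱).symm)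
  obtain ⟨lam₀, hlam₀⟩ := exists_dual_eq_one (k := k) hv₀ne
  set lam : V →ₗ[k] k := lam₀ ∘ₗ proj 𝒱 i₀ with hlam
  have hlam1 : lam v₀ = 1 := by
    rw [hlam, LinearMap.comp_apply, proj_of_mem_same 𝒱 hv₀mem, hlam₀]
  have hlam_ne : ∀ (j : ℤ) (x : V), x ∈ 𝒱 j → j ≠ i₀ → lam x = 0 := by
    intro j x hx hj
    rw [hlam, LinearMap.comp_apply, proj_of_mem_ne 𝒱 hx hj, map_zero]
  -- homogeneity of the rank one maps
  have hhom : ∀ (i : ℤ) (v : V), v ∈ 𝒱 i → ∀ (j : ℤ) (x : V), x ∈ 𝒱 j →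
      (lam.smulRight v : Module.End k V) x ∈ 𝒱 (j + (i - i₀)) := by
    intro i v hv j x hx
    rw [LinearMap.smulRight_apply]
    by_cases hj : j = i₀
    · subst hj
      have : j + (i - j) = i := by ring
      rw [this]
      exact Submodule.smul_mem _ _ hv
    · rw [hlam_ne j x hx hj, zero_smul]
      exact zero_mem _
  set e : Module.End k V := lam.smulRight v₀ with he
  have hee : e * e = e := by
    ext x
    simp [he, Module.End.mul_apply, hlam1]
  have hev₀ : e v₀ = v₀ := by simp [he, hlam1]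
  have hene : e ≠ 0 := by
    intro h0
    apply hv₀ne
    rw [← hev₀, h0, LinearMap.zero_apply]
  have hφe : φ e ≠ 0 := fun h0 => hene (by simpa using h0)
  obtain ⟨w₁, hw₁⟩ : ∃ w₁ : W, φ e w₁ ≠ 0 := by
    by_contra hcon
    push Not at hcon
    exact hφe (LinearMap.ext hcon)
  obtain ⟨j₀, hj₀⟩ : ∃ j₀ : ℤ, φ e (proj 𝒲 j₀ w₁) ≠ 0 := by
    by_contra hcon
    push Not at hcon
    apply hw₁
    rw [← sum_support_decompose 𝒲 w₁, map_sum]
    exact Finset.sum_eq_zero fun j _ => hcon j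
  set w₀ : W := φ e (proj 𝒲 j₀ w₁) with hw₀def
  have hw₀mem : w₀ ∈ 𝒲 j₀ := by
    have := hφ (i₀ - i₀) e (hhom i₀ v₀ hv₀mem) j₀ _ (proj_mem 𝒲 j₀ w₁)
    rwa [sub_self, add_zero] at this
  have hw₀ : φ (lam.smulRight v₀) w₀ = w₀ := by
    rw [← he, hw₀def, ← Module.End.mul_apply, ← map_mul, hee]
  -- the intertwiner
  let g : V ≃ₗ[k] W := LinearEquiv.ofBijective (gLin φ lam w₀)
    ⟨gLin_injective φ hw₀ hj₀, gLin_surjective φ hw₀ hj₀⟩
  have hg_apply : ∀ v, g v = φ (lam.smulRight v) w₀ := fun v => rfl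
  have hg_map : ∀ (f : Module.End k V) (v : V), g (f v) = φ f (g v) :=
    fun f v => gLin_map φ lam w₀ f v
  have hg_v₀ : g v₀ = w₀ := by rw [hg_apply, hw₀]
  have hg_mem : ∀ (i : ℤ) (v : V), v ∈ 𝒱 i → g v ∈ 𝒲 (i + (j₀ - i₀)) := by
    intro i v hv
    rw [hg_apply]
    have := hφ (i - i₀) _ (hhom i v hv) j₀ w₀ hw₀mem
    have e1 : j₀ + (i - i₀) = i + (j₀ - i₀) := by ring
    rwa [e1] at this
  have hconj : ∀ f : Module.End k V,
      φ f = (g : V →ₗ[k] W) ∘ₗ f ∘ₗ (g.symm : W →ₗ[k] V) := by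
    intro f
    ext w
    simp only [LinearMap.comp_apply, LinearEquiv.coe_coe]
    rw [hg_map, LinearEquiv.apply_symm_apply]
  have hmap : ∀ i : ℤ, Submodule.map (g : V →ₗ[k] W) (𝒱 i) = 𝒲 (i + (j₀ - i₀)) := by
    intro i
    apply le_antisymm
    · rintro _ ⟨v, hv, rfl⟩
      exact hg_mem i v hv
    · intro w hw
      have hcomm : proj 𝒲 (i + (j₀ - i₀)) ∘ₗ (g : V →ₗ[k] W) =
          (g : V →ₗ[k] W) ∘ₗ proj 𝒱 i := by
        apply decompose_lhom_ext 𝒱
        intro j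
        ext ⟨x, hx⟩
        simp only [LinearMap.comp_apply, LinearEquiv.coe_coe, Submodule.subtype_apply]
        by_cases hj : j = i
        · subst hj
          rw [proj_of_mem_same 𝒲 (hg_mem j x hx), proj_of_mem_same 𝒱 hx]
        · have hne : j + (j₀ - i₀) ≠ i + (j₀ - i₀) := fun h => hj (add_right_cancel h)
          rw [proj_of_mem_ne 𝒲 (hg_mem j x hx) hne, proj_of_mem_ne 𝒱 hx hj, map_zero]
      refine ⟨proj 𝒱 i (g.symm w), proj_mem 𝒱 i _, ?_⟩
      have := congrArg (fun F => F (g.symm w)) hcomm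
      simp only [LinearMap.comp_apply, LinearEquiv.coe_coe, LinearEquiv.apply_symm_apply] at this
      change g (proj 𝒱 i (g.symm w)) = w
      rw [← this, proj_of_mem_same 𝒲 hw]
  refine ⟨j₀ - i₀, g, hmap, hconj, ?_⟩
  intro n' g' hmap' hconj'
  have hg'_map : ∀ (f : Module.End k V) (x : V), g' (f x) = φ f (g' x) := by
    intro f x
    rw [hconj' f]
    simp
  set c : k := lam (g.symm (g' v₀)) with hc
  have hscal : ∀ x : V, g' x = c • g x := by
    intro x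
    have h1 : (lam.smulRight x : Module.End k V) v₀ = x := by simp [hlam1]
    have h2 := hg'_map (lam.smulRight x) v₀
    rw [h1] at h2
    have h3 := hg_map (lam.smulRight x) (g.symm (g' v₀))
    rw [LinearEquiv.apply_symm_apply] at h3
    rw [h2, ← h3, LinearMap.smulRight_apply, map_smul]
  have hg'v₀ : g' v₀ ≠ 0 := fun h0 => hv₀ne (by simpa using h0)
  have hcne : c ≠ 0 := by
    intro h0
    apply hg'v₀
    rw [hscal, h0, zero_smul]
  refine ⟨?_, Units.mk0 c hcne, fun x => by rw [hscal]; rfl⟩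
  have hm1 : g' v₀ ∈ 𝒲 (i₀ + n') := by
    rw [← hmap']
    exact ⟨v₀, hv₀mem, rfl⟩
  have hm2 : g' v₀ ∈ 𝒲 (i₀ + (j₀ - i₀)) := by
    rw [hscal]
    exact Submodule.smul_mem _ _ (hg_mem i₀ v₀ hv₀mem)
  exact add_left_cancel (degree_eq_of_mem_mem 𝒲 hm1 hm2 hg'v₀)

end graded

end Groth.Agent.Lib.helper12.GrSkolem
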