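import Mathlib

/-!
# Graded rings of finite type: `𝒜^{(d)}` is generated by `𝒜_d` for suitable `d` (helper12)

For an `ℕ`-graded commutative ring `𝒜` generated over `𝒜 0` by finitely many homogeneous elements
`v i` of positive degrees `dv i`, a positive common multiple `q` of the `dv i` and `m` larger than the
number of generators, the integer `d = m * q` satisfies `𝒜 (n * d) = (𝒜 d) ^ n` for `n > 0` and `𝒜 d` is
finitely generated over `𝒜 0` (all as `ℤ`-submodules).
-/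

open DirectSum

namespace Groth.Agent.Lib.helper12.GradedVeronese

variable {A : Type*} [CommRing A] (𝒜 : ℕ → AddSubgroup A) [GradedRing 𝒜]

/-- the degree `k` part as a `ℤ`-submodule -/
abbrev M (k : ℕ) : Submodule ℤ A := AddSubgroup.toIntSubmodule (𝒜 k)

omit [GradedRing 𝒜] in
lemma mem_M {k : ℕ} {x : A} : x ∈ M 𝒜 k ↔ x ∈ 𝒜 k := Iff.rfl

lemma M_mul_le (a b : ℕ) : M 𝒜 a * M 𝒜 b ≤ M 𝒜 (a + b) :=
  Submodule.mul_le.mpr fun _ hx _ hy => SetLike.mul_mem_graded (A := 𝒜) hx hy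

lemma M_zero_mul (k : ℕ) : M 𝒜 0 * M 𝒜 k = M 𝒜 k := by
  apply le_antisymm
  · simpa using M_mul_le 𝒜 0 k
  · intro x hx
    have : (1 : A) * x ∈ M 𝒜 0 * M 𝒜 k :=
      Submodule.mul_mem_mul (SetLike.GradedOne.one_mem (A := 𝒜)) hx
    simpa using this

lemma M_pow_le (a n : ℕ) : M 𝒜 a ^ n ≤ M 𝒜 (n * a) := by
  induction n with
  | zero =>
    simp only [pow_zero, zero_mul]
    rw [Submodule.one_le]
    exact SetLike.GradedOne.one_mem (A := 𝒜)
  | succ n ih =>
    rw [pow_succ, Nat.succ_mul]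
    exact (mul_le_mul' ih le_rfl).trans (M_mul_le 𝒜 _ _)

variable {ι' : Type*} [Fintype ι'] (v : ι' → A) (dv : ι' → ℕ)

/-- monomials in the `v i` of weighted degree `N` -/
def monos (N : ℕ) : Set A := {x | ∃ ai : ι' → ℕ, ∑ i, ai i * dv i = N ∧ x = ∏ i, v i ^ ai i}

lemma prod_pow_mem (hxd : ∀ i, v i ∈ 𝒜 (dv i)) (ai : ι' → ℕ) :
    ∏ i, v i ^ ai i ∈ 𝒜 (∑ i, ai i * dv i) := by
  have := SetLike.prod_pow_mem_graded (F := Finset.univ) 𝒜 dv v ai (fun i _ => hxd i)
  simpa [smul_eq_mul] using this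

lemma M_le_monos (hx : Algebra.adjoin (𝒜 0) (Set.range v) = ⊤) (hxd : ∀ i, v i ∈ 𝒜 (dv i)) (N : ℕ) :
    M 𝒜 N ≤ M 𝒜 0 * Submodule.span ℤ (monos v dv N) := by
  classical
  intro a ha
  have ha' : a ∈ 𝒜 N := ha
  have key : ∀ a' : A, ((decompose 𝒜 a' N : 𝒜 N) : A) ∈
      M 𝒜 0 * Submodule.span ℤ (monos v dv N) := by
    intro a'
    have h : a' ∈ Submodule.span (𝒜 0) (Submonoid.closure (Set.range v) : Set A) := by
      rw [← Algebra.adjoin_eq_span, hx]; trivial
    induction h using Submodule.span_induction with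
    | mem a ha'' =>
      obtain ⟨ai, rfl⟩ := Submonoid.exists_of_mem_closure_range _ _ ha''
      by_cases H : ∑ i, ai i * dv i = N
      · have hm : ∏ i, v i ^ ai i ∈ 𝒜 N := H ▸ prod_pow_mem 𝒜 v dv hxd ai
        rw [decompose_of_mem_same 𝒜 hm]
        have : (1 : A) * ∏ i, v i ^ ai i ∈ M 𝒜 0 * Submodule.span ℤ (monos v dv N) :=
          Submodule.mul_mem_mul (SetLike.GradedOne.one_mem (A := 𝒜))
            (Submodule.subset_span ⟨ai, H, rfl⟩)
        simpa using this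
      · rw [decompose_of_mem_ne 𝒜 (prod_pow_mem 𝒜 v dv hxd ai) H]
        exact zero_mem _
    | zero => simp
    | add s t _ _ hs ht =>
      rw [decompose_add, DirectSum.add_apply, AddMemClass.coe_add]
      exact add_mem hs ht
    | smul r x _ hx' =>
      rw [Algebra.smul_def]
      change ((decompose 𝒜 ((r : A) * x) N : 𝒜 N) : A) ∈ _
      rw [coe_decompose_mul_of_left_mem_zero 𝒜 r.2]
      have : (r : A) * ((decompose 𝒜 x N : 𝒜 N) : A) ∈
          M 𝒜 0 * (M 𝒜 0 * Submodule.span ℤ (monos v dv N)) :=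
        Submodule.mul_mem_mul r.2 hx'
      rw [← mul_assoc, M_zero_mul] at this
      exact this
  have := key a
  rwa [decompose_of_mem_same 𝒜 ha'] at this

lemma M_le_mul (hx : Algebra.adjoin (𝒜 0) (Set.range v) = ⊤) (hxd : ∀ i, v i ∈ 𝒜 (dv i))
    (hpos : ∀ i, 0 < dv i) (q : ℕ) (hdiv : ∀ i, dv i ∣ q)
    (N : ℕ) (hN : Fintype.card ι' * q ≤ N) (hN0 : 0 < N) :
    M 𝒜 N ≤ M 𝒜 q * M 𝒜 (N - q) := by
  classical
  refine (M_le_monos 𝒜 v dv hx hxd N).trans ?_
  have hmono : Submodule.span ℤ (monos v dv N) ≤ M 𝒜 q * M 𝒜 (N - q) := by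
    rw [Submodule.span_le]
    rintro _ ⟨ai, hai, rfl⟩
    obtain ⟨i, hi⟩ : ∃ i, q ≤ ai i * dv i := by
      by_contra hcon
      push Not at hcon
      rcases isEmpty_or_nonempty ι' with he | hne
      · simp at hai; omega
      · have : ∑ i, ai i * dv i < ∑ _i : ι', q :=
          Finset.sum_lt_sum_of_nonempty Finset.univ_nonempty (fun i _ => hcon i)
        simp only [Finset.sum_const, Finset.card_univ, smul_eq_mul] at this
        omega
    obtain ⟨qi, hqi⟩ := hdiv i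
    have hle : qi ≤ ai i := by
      rw [hqi, mul_comm] at hi
      exact Nat.le_of_mul_le_mul_right hi (hpos i)
    have hprod : ∏ j, v j ^ ai j =
        v i ^ qi * (v i ^ (ai i - qi) * ∏ j ∈ Finset.univ.erase i, v j ^ ai j) := by
      rw [← mul_assoc, ← pow_add, Nat.add_sub_cancel' hle]
      exact (Finset.mul_prod_erase Finset.univ (fun j => v j ^ ai j) (Finset.mem_univ i)).symm
    rw [hprod]
    refine Submodule.mul_mem_mul ?_ ?_
    · have := SetLike.pow_mem_graded (A := 𝒜) qi (hxd i)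
      rw [smul_eq_mul, mul_comm, ← hqi] at this
      exact this
    · have h1 := SetLike.pow_mem_graded (A := 𝒜) (ai i - qi) (hxd i)
      have h2 := SetLike.prod_pow_mem_graded (F := Finset.univ.erase i) 𝒜 dv v ai
        (fun j _ => hxd j)
      have h3 := SetLike.mul_mem_graded (A := 𝒜) h1 h2
      have hdeg : (ai i - qi) • dv i + ∑ k ∈ Finset.univ.erase i, ai k • dv k = N - q := by
        have h4 : ∑ k, ai k * dv k = ai i * dv i + ∑ k ∈ Finset.univ.erase i, ai k * dv k :=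
          (Finset.add_sum_erase _ _ (Finset.mem_univ i)).symm
        simp only [smul_eq_mul]
        rw [hai] at h4
        rw [Nat.sub_mul]
        have hb : qi * dv i ≤ ai i * dv i := Nat.mul_le_mul_right _ hle
        have hq' : q = qi * dv i := by rw [hqi, mul_comm]
        omega
      rw [hdeg] at h3
      exact h3
  calc M 𝒜 0 * Submodule.span ℤ (monos v dv N)
      ≤ M 𝒜 0 * (M 𝒜 q * M 𝒜 (N - q)) := mul_le_mul' le_rfl hmono
    _ = M 𝒜 q * (M 𝒜 0 * M 𝒜 (N - q)) := by rw [← mul_assoc, mul_comm (M 𝒜 0), mul_assoc]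
    _ = _ := by rw [M_zero_mul]

lemma M_add_le (hx : Algebra.adjoin (𝒜 0) (Set.range v) = ⊤) (hxd : ∀ i, v i ∈ 𝒜 (dv i))
    (hpos : ∀ i, 0 < dv i) (q : ℕ) (hq : 0 < q) (hdiv : ∀ i, dv i ∣ q)
    (m : ℕ) (hm : Fintype.card ι' < m) (j : ℕ) :
    M 𝒜 ((m + j) * q) ≤ M 𝒜 q ^ j * M 𝒜 (m * q) := by
  induction j with
  | zero => simp
  | succ j ih =>
    have h1 : Fintype.card ι' * q ≤ (m + (j + 1)) * q := Nat.mul_le_mul_right _ (by omega)
    have h2 : 0 < (m + (j + 1)) * q := Nat.mul_pos (by omega) hq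
    have h3 : (m + (j + 1)) * q - q = (m + j) * q := by
      rw [← add_assoc, Nat.succ_mul]; omega
    refine (M_le_mul 𝒜 v dv hx hxd hpos q hdiv _ h1 h2).trans ?_
    rw [h3, pow_succ', mul_assoc]
    exact mul_le_mul' le_rfl ih

theorem veronese (hx : Algebra.adjoin (𝒜 0) (Set.range v) = ⊤) (hxd : ∀ i, v i ∈ 𝒜 (dv i))
    (hpos : ∀ i, 0 < dv i) (q : ℕ) (hq : 0 < q) (hdiv : ∀ i, dv i ∣ q)
    (m : ℕ) (hm : Fintype.card ι' < m) :
    (∀ n, 0 < n → M 𝒜 (n * (m * q)) = M 𝒜 (m * q) ^ n) ∧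
    ∃ T : Finset A, (T : Set A) ⊆ (𝒜 (m * q) : Set A) ∧
      M 𝒜 (m * q) = M 𝒜 0 * Submodule.span ℤ (T : Set A) := by
  classical
  refine ⟨fun n hn => le_antisymm ?_ (M_pow_le 𝒜 _ _), ?_⟩
  · obtain ⟨k, rfl⟩ : ∃ k, n = k + 1 := ⟨n - 1, by omega⟩
    have h1 : (k + 1) * (m * q) = (m + k * m) * q := by ring
    rw [h1]
    refine (M_add_le 𝒜 v dv hx hxd hpos q hq hdiv m hm (k * m)).trans ?_
    rw [mul_comm k m, pow_mul, pow_succ]
    refine mul_le_mul' (pow_le_pow_left' ?_ k) le_rfl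
    exact M_pow_le 𝒜 q m
  · set d := m * q with hd
    let E : Finset (ι' → Fin (d + 1)) :=
      Finset.univ.filter (fun ai => ∑ i, (ai i : ℕ) * dv i = d)
    let T : Finset A := E.image (fun ai => ∏ i, v i ^ (ai i : ℕ))
    have hT : (T : Set A) ⊆ (𝒜 d : Set A) := by
      intro x hx'
      simp only [T, E, Finset.coe_image, Set.mem_image, Finset.coe_filter, Finset.mem_univ,
        true_and, Set.mem_ofPred_eq] at hx'
      obtain ⟨ai, hai, rfl⟩ := hx'
      have := prod_pow_mem 𝒜 v dv hxd (fun i => (ai i : ℕ))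
      rw [hai] at this
      exact this
    have hmonos : monos v dv d ⊆ (T : Set A) := by
      rintro _ ⟨ai, hai, rfl⟩
      have hle : ∀ i, ai i < d + 1 := by
        intro i
        have h1 : ai i * dv i ≤ ∑ i, ai i * dv i :=
          Finset.single_le_sum (f := fun i => ai i * dv i) (fun _ _ => Nat.zero_le _)
            (Finset.mem_univ i)
        have h2 : ai i ≤ ai i * dv i := Nat.le_mul_of_pos_right _ (hpos i)
        omega
      simp only [T, E, Finset.coe_image, Set.mem_image, Finset.coe_filter, Finset.mem_univ,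
        true_and, Set.mem_ofPred_eq]
      exact ⟨fun i => ⟨ai i, hle i⟩, hai, rfl⟩
    refine ⟨T, hT, le_antisymm ?_ ?_⟩
    · exact (M_le_monos 𝒜 v dv hx hxd d).trans (mul_le_mul' le_rfl (Submodule.span_mono hmonos))
    · have : Submodule.span ℤ (T : Set A) ≤ M 𝒜 d := Submodule.span_le.mpr hT
      exact (mul_le_mul' le_rfl this).trans (M_zero_mul 𝒜 d).le

end Groth.Agent.Lib.helper12.GradedVeronese
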