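import Mathlib

/-!
# Hilbert's Theorem 90 for cyclic extensions, universe polymorphic

Mathlib's `groupCohomology.exists_div_of_norm_eq_one` is stated for fields in `Type`.  We deduce the
general-universe version from Noether's cocycle form (which is universe polymorphic).
-/

set_option autoImplicit false
set_option linter.style.haveILetI false
set_option linter.unusedSectionVars false

namespace Groth.Agent.Lib.helper12.H90Cyc

open groupCohomology

variable {K L : Type*} [Field K] [Field L] [Algebra K L] [FiniteDimensional K L] [IsGalois K L]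

/-- Hilbert 90 for a cyclic Galois extension with generator `g`. -/
theorem exists_div_of_norm_eq_one (g : L ≃ₐ[K] L) (hg : ∀ σ, σ ∈ Subgroup.zpowers g) (x : Lˣ)
    (hx : Algebra.norm K (x : L) = 1) : ∃ y : Lˣ, (x : L) = (y : L) / g (y : L) := by
  classical
  set n := orderOf g with hn
  have hnpos : 0 < n := orderOf_pos g
  let F : ℕ → Lˣ := fun i => ∏ j ∈ Finset.range i, (g ^ j) • x
  have hFadd : ∀ a b, F (a + b) = F a * (g ^ a) • F b := by
    intro a b
    simp only [F]
    rw [Finset.prod_range_add, Finset.smul_prod']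
    congr 1
    refine Finset.prod_congr rfl fun j _ => ?_
    rw [smul_smul, ← pow_add]
  have hFn : F n = 1 := by
    apply Units.ext
    have h1 : ((F n : Lˣ) : L) = ∏ j ∈ Finset.range n, (g ^ j) (x : L) := by
      simp [F, Units.coe_prod, AlgEquiv.smul_units_def]
    rw [h1]
    have h2 : ∏ j ∈ Finset.range n, (g ^ j) (x : L) = ∏ σ : L ≃ₐ[K] L, σ (x : L) := by
      rw [← IsCyclic.image_range_orderOf hg, Finset.prod_image]
      intro a ha b hb hab
      exact pow_injOn_Iio_orderOf (by simpa using ha) (by simpa using hb) hab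
    rw [h2, ← Algebra.norm_eq_prod_automorphisms, hx, map_one]
    rfl
  have hFper : ∀ a q, F (a + q * n) = F a := by
    intro a q
    induction q with
    | zero => simp
    | succ q ih =>
      rw [Nat.succ_mul, ← add_assoc, hFadd, hFn, smul_one, mul_one, ih]
  have hFmod : ∀ a b, a ≡ b [MOD n] → F a = F b := by
    intro a b hab
    rw [← Nat.mod_add_div a n, ← Nat.mod_add_div b n, mul_comm n, mul_comm n, hFper, hFper]
    exact congrArg F hab
  have hex : ∀ σ : L ≃ₐ[K] L, ∃ i : ℕ, g ^ i = σ := by
    intro σ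
    have := hg σ
    rw [← mem_powers_iff_mem_zpowers] at this
    exact (Submonoid.mem_powers_iff _ _).mp this
  choose k hk using hex
  let f : (L ≃ₐ[K] L) → Lˣ := fun σ => F (k σ)
  have hf_eq : ∀ σ i, g ^ i = σ → f σ = F i := fun σ i hi =>
    hFmod _ _ (pow_eq_pow_iff_modEq.mp ((hk σ).trans hi.symm))
  have hcoc : IsMulCocycle₁ f := by
    intro σ τ
    have h1 : g ^ (k σ + k τ) = σ * τ := by rw [pow_add, hk, hk]
    rw [hf_eq _ _ h1, hFadd, hk σ, mul_comm]
  obtain ⟨β, hβ⟩ := isMulCoboundary₁_of_isMulCocycle₁_of_aut_to_units f hcoc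
  have hg1 : f g = x := by
    rw [hf_eq g 1 (pow_one g)]
    show ∏ j ∈ Finset.range 1, (g ^ j) • x = x
    rw [Finset.prod_range_one, pow_zero, one_smul]
  have h3 := hβ g
  rw [hg1] at h3
  refine ⟨β⁻¹, ?_⟩
  have h4 : (x : L) = g (β : L) / (β : L) := by
    have := congrArg (fun u : Lˣ => (u : L)) h3
    simp only [AlgEquiv.smul_units_def, Units.val_div_eq_div_val, Units.coe_map,
      MonoidHom.coe_coe] at this
    exact this.symm
  rw [h4, Units.val_inv_eq_inv_val, map_inv₀]
  field_simp

end Groth.Agent.Lib.helper12.H90Cyc
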