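import Mathlib
import Groth.Agent.Lib.Lead.GenDegOne
import Groth.Agent.Lib.Lead.ProjChart
import Groth.Agent.Lib.Lead.ProjMapG
import Groth.Agent.Lib.Helper19.ProjSpaceProper
import Groth.Agent.Lib.Helper28.TwistPn

/-!
# `Proj` of a graded ring generated in degree one with finite degree-one part is proper (helper12)
-/

set_option autoImplicit false
universe u

open CategoryTheory CategoryTheory.Limits AlgebraicGeometry HomogeneousLocalization
open scoped HomogeneousIdeal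

namespace Groth.Agent.Lib.helper12.ProjProper

variable {A σ : Type u} [CommRing A] [SetLike σ A] [AddSubgroupClass σ A]
  {𝒜 : ℕ → σ} [GradedRing 𝒜]

/-- The inclusion of the degree-zero part, as a ring hom. -/
def zeroIncl (𝒜 : ℕ → σ) [GradedRing 𝒜] : 𝒜 0 →+* A where
  toFun x := x.1
  map_one' := rfl
  map_mul' _ _ := rfl
  map_zero' := rfl
  map_add' _ _ := rfl

section

variable {R : Type u} [CommRing R] (ρ₀ : R →+* 𝒜 0) {m : ℕ} (t : Fin (m + 1) → A)
  (ht : ∀ i, t i ∈ 𝒜 1)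

/-- The evaluation homomorphism `R[X₀..X_m] → A`. -/
noncomputable def evalHom : MvPolynomial (Fin (m + 1)) R →+* A :=
  MvPolynomial.eval₂Hom ((zeroIncl 𝒜).comp ρ₀) t

include ht in
theorem evalHom_mem {d : ℕ} {a : MvPolynomial (Fin (m + 1)) R}
    (ha : a ∈ CohB1.polyGrading m R d) : evalHom ρ₀ t a ∈ 𝒜 d := by
  change MvPolynomial.eval₂ ((zeroIncl 𝒜).comp ρ₀) t a ∈ 𝒜 d
  rw [MvPolynomial.eval₂_eq]
  refine sum_mem fun k hk => ?_
  have hk' : MvPolynomial.coeff k a ≠ 0 := MvPolynomial.mem_support_iff.mp hk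
  have hw : Finsupp.weight (1 : Fin (m + 1) → ℕ) k = d := ha hk'
  have hdeg : ∑ i ∈ k.support, k i • 1 = d := by
    rw [← hw, Finsupp.weight_apply, Finsupp.sum]
    rfl
  have h0 : ((zeroIncl 𝒜).comp ρ₀) (MvPolynomial.coeff k a) ∈ 𝒜 0 := (ρ₀ _).2
  have h1 : ∏ i ∈ k.support, t i ^ k i ∈ 𝒜 (∑ i ∈ k.support, k i • 1) :=
    SetLike.prod_pow_mem_graded 𝒜 (fun _ => 1) t k fun i _ => ht i
  rw [hdeg] at h1
  have := SetLike.mul_mem_graded h0 h1
  rwa [zero_add] at this

/-- The evaluation homomorphism as a graded ring hom. -/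
noncomputable def evalGr : CohB1.polyGrading m R →+*ᵍ 𝒜 where
  toRingHom := evalHom ρ₀ t
  map_mem := fun ha => evalHom_mem ρ₀ t ht ha

theorem evalGr_X (i : Fin (m + 1)) : evalGr ρ₀ t ht (MvPolynomial.X i) = t i :=
  MvPolynomial.eval₂_X _ _ _

theorem evalGr_C (r : R) : evalGr ρ₀ t ht (MvPolynomial.C r) = (ρ₀ r : A) :=
  MvPolynomial.eval₂_C _ _ _

/-- Surjectivity in positive degrees. -/
theorem evalGr_surjOn
    (hgen : Subring.closure ((𝒜 0 : Set A) ∪ (𝒜 1 : Set A)) = ⊤)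
    (hT : ∀ x ∈ 𝒜 1, ∃ c : Fin (m + 1) → R, x = ∑ i, (ρ₀ (c i) : A) * t i) :
    ∀ k, 1 ≤ k → ∀ b ∈ 𝒜 k, ∃ a ∈ CohB1.polyGrading m R k, evalGr ρ₀ t ht a = b := by
  -- the image of degree `k`
  let M : ℕ → A → Prop := fun k b => ∃ a ∈ CohB1.polyGrading m R k, evalGr ρ₀ t ht a = b
  have hM1 : ∀ x ∈ 𝒜 1, M 1 x := by
    intro x hx
    obtain ⟨c, rfl⟩ := hT x hx
    refine ⟨∑ i, MvPolynomial.C (c i) * MvPolynomial.X i, ?_, ?_⟩
    · refine Submodule.sum_mem _ fun i _ => ?_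
      have h1 := SetLike.GradedMul.mul_mem
        (MvPolynomial.isHomogeneous_C (Fin (m + 1)) (c i) :
          MvPolynomial.C (c i) ∈ CohB1.polyGrading m R 0)
        (Groth.Agent.Lib.helper28.TwistPn.X_mem m R i)
      rwa [zero_add] at h1
    · rw [map_sum]
      refine Finset.sum_congr rfl fun i _ => ?_
      rw [map_mul, evalGr_C, evalGr_X]
  have hMmul : ∀ i j a b, M i a → M j b → M (i + j) (a * b) := by
    rintro i j _ _ ⟨a, ha, rfl⟩ ⟨b, hb, rfl⟩
    exact ⟨a * b, SetLike.GradedMul.mul_mem ha hb, map_mul _ _ _⟩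
  have hMzero : ∀ k, M k 0 := fun k => ⟨0, zero_mem _, map_zero _⟩
  have hMadd : ∀ k a b, M k a → M k b → M k (a + b) := by
    rintro k _ _ ⟨a, ha, rfl⟩ ⟨b, hb, rfl⟩
    exact ⟨a + b, add_mem ha hb, map_add _ _ _⟩
  have hMneg : ∀ k a, M k a → M k (-a) := by
    rintro k _ ⟨a, ha, rfl⟩
    exact ⟨-a, neg_mem ha, map_neg _ _⟩
  have key := Groth.Agent.Lib.Lead.GenDegOne.gen_induction hgen
    (fun k a => k = 0 ∨ ∀ c ∈ 𝒜 0, M k (c * a))
    (fun _ _ => Or.inl rfl)
    (fun a ha => Or.inr fun c hc => hM1 _ (by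
      have := SetLike.mul_mem_graded hc ha
      rwa [zero_add] at this))
    (fun i j a b hai hbj hPa hPb => by
      rcases Nat.eq_zero_or_pos i with rfl | hi
      · rcases Nat.eq_zero_or_pos j with rfl | hj
        · exact Or.inl rfl
        · rcases hPb with rfl | hPb
          · omega
          · refine Or.inr fun c hc => ?_
            have hca : c * a ∈ 𝒜 0 := by
              have := SetLike.mul_mem_graded hc hai
              rwa [zero_add] at this
            have := hPb (c * a) hca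
            rwa [zero_add, ← mul_assoc]
      · rcases hPa with rfl | hPa
        · omega
        · rcases Nat.eq_zero_or_pos j with rfl | hj
          · refine Or.inr fun c hc => ?_
            have hcb : c * b ∈ 𝒜 0 := by
              have := SetLike.mul_mem_graded hc hbj
              rwa [zero_add] at this
            have := hPa (c * b) hcb
            rwa [add_zero, show c * (a * b) = c * b * a by ring]
          · rcases hPb with rfl | hPb
            · omega
            · refine Or.inr fun c hc => ?_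
              have h1 := hPa c hc
              have h2 := hPb 1 SetLike.GradedOne.one_mem
              rw [one_mul] at h2
              have := hMmul i j _ _ h1 h2
              rwa [mul_assoc] at this)
    (fun k => Or.inr fun c _ => by rw [mul_zero]; exact hMzero k)
    (fun k a b _ _ hPa hPb => by
      rcases hPa with rfl | hPa
      · exact Or.inl rfl
      · rcases hPb with rfl | hPb
        · exact Or.inl rfl
        · exact Or.inr fun c hc => by rw [mul_add]; exact hMadd k _ _ (hPa c hc) (hPb c hc))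
    (fun k a _ hPa => by
      rcases hPa with rfl | hPa
      · exact Or.inl rfl
      · exact Or.inr fun c hc => by rw [mul_neg]; exact hMneg k _ (hPa c hc))
  intro k hk b hb
  rcases key k b hb with h | h
  · omega
  · have := h 1 SetLike.GradedOne.one_mem
    rwa [one_mul] at this

theorem irrelevant_le_evalGr
    (hgen : Subring.closure ((𝒜 0 : Set A) ∪ (𝒜 1 : Set A)) = ⊤)
    (hT : ∀ x ∈ 𝒜 1, ∃ c : Fin (m + 1) → R, x = ∑ i, (ρ₀ (c i) : A) * t i) :
    𝒜₊ ≤ ((CohB1.polyGrading m R)₊).map (evalGr ρ₀ t ht) := by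
  change (𝒜₊).toIdeal ≤ Ideal.map (evalGr ρ₀ t ht) ((CohB1.polyGrading m R)₊).toIdeal
  refine le_trans (Groth.Agent.Lib.Lead.GenDegOne.irrelevant_le_span hgen (Set.range t) ?_) ?_
  · intro x hx
    obtain ⟨c, rfl⟩ := hT x hx
    exact Ideal.sum_mem _ fun i _ => Ideal.mul_mem_left _ _ (Ideal.subset_span ⟨i, rfl⟩)
  · rw [Ideal.span_le]
    rintro _ ⟨i, rfl⟩
    rw [← evalGr_X ρ₀ t ht i]
    exact Ideal.mem_map_of_mem _ (HomogeneousIdeal.mem_irrelevant_of_mem _ Nat.one_pos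
      (Groth.Agent.Lib.helper28.TwistPn.X_mem m R i))

theorem isClosedImmersion_map_evalGr
    (hgen : Subring.closure ((𝒜 0 : Set A) ∪ (𝒜 1 : Set A)) = ⊤)
    (hT : ∀ x ∈ 𝒜 1, ∃ c : Fin (m + 1) → R, x = ∑ i, (ρ₀ (c i) : A) * t i) :
    IsClosedImmersion (Proj.map (evalGr ρ₀ t ht) (irrelevant_le_evalGr ρ₀ t ht hgen hT)) := by
  refine Groth.Agent.Lib.Lead.ProjMapG.map_of_forall_away @IsClosedImmersion _ _
    fun i hi s hs => ?_
  refine IsClosedImmersion.spec_of_surjective _ ?_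
  exact Groth.Agent.Lib.Lead.ProjChart.away_map_surjective_of_tnSurj (evalGr ρ₀ t ht)
    ⟨1, evalGr_surjOn ρ₀ t ht hgen hT⟩ hi s hs

theorem map_evalGr_toSpec
    (hgen : Subring.closure ((𝒜 0 : Set A) ∪ (𝒜 1 : Set A)) = ⊤)
    (hT : ∀ x ∈ 𝒜 1, ∃ c : Fin (m + 1) → R, x = ∑ i, (ρ₀ (c i) : A) * t i) :
    Proj.map (evalGr ρ₀ t ht) (irrelevant_le_evalGr ρ₀ t ht hgen hT) ≫
      (Proj.toSpecZero (CohB1.polyGrading m R) ≫
        Spec.map (CommRingCat.ofHom (algebraMap R (CohB1.polyGrading m R 0)))) =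
      Proj.toSpecZero 𝒜 ≫ Spec.map (CommRingCat.ofHom ρ₀) := by
  rw [← Category.assoc, Groth.Agent.Lib.Lead.ProjMapG.map_toSpecZero, Category.assoc,
    ← Spec.map_comp]
  congr 2
  ext r
  exact evalGr_C ρ₀ t ht r

end

/-- **Properness of `Proj`** of a graded ring generated in degree one with finite degree-one part,
over the base ring. -/
theorem isProper_of_gen (R : CommRingCat.{u}) (ρ₀ : R ⟶ CommRingCat.of (𝒜 0))
    (hgen : Subring.closure ((𝒜 0 : Set A) ∪ (𝒜 1 : Set A)) = ⊤)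
    (T : Finset A) (hT1 : ∀ t ∈ T, t ∈ 𝒜 1)
    (hT : ∀ x ∈ 𝒜 1, ∃ c : A → R, x = ∑ t ∈ T, ((ρ₀.hom (c t) : 𝒜 0) : A) * t) :
    IsProper (Proj.toSpecZero 𝒜 ≫ Spec.map ρ₀) := by
  classical
  let m := T.card
  let e : Fin m ≃ T := T.equivFin.symm
  let t : Fin (m + 1) → A := Fin.cases 0 (fun i => ((e i : T) : A))
  have ht : ∀ i, t i ∈ 𝒜 1 := by
    intro i
    refine Fin.cases ?_ (fun j => ?_) i
    · exact zero_mem _
    · exact hT1 _ (e j).2
  have hT' : ∀ x ∈ 𝒜 1, ∃ c : Fin (m + 1) → R, x = ∑ i, ((ρ₀.hom (c i) : 𝒜 0) : A) * t i := by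
    intro x hx
    obtain ⟨c, hc⟩ := hT x hx
    refine ⟨Fin.cases 0 (fun i => c ((e i : T) : A)), ?_⟩
    rw [Fin.sum_univ_succ]
    have h0 : ((ρ₀.hom ((Fin.cases 0 (fun i => c ((e i : T) : A)) : Fin (m + 1) → R) 0) : 𝒜 0) : A)
        * t 0 = 0 := by
      change _ * (0 : A) = 0
      rw [mul_zero]
    rw [h0, zero_add, hc, ← Finset.sum_coe_sort T]
    exact (Equiv.sum_comp e (fun s : T => ((ρ₀.hom (c (s : A)) : 𝒜 0) : A) * (s : A))).symm
  have h1 := isClosedImmersion_map_evalGr ρ₀.hom t ht hgen hT'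
  have h2 := map_evalGr_toSpec ρ₀.hom t ht hgen hT'
  have h3 : IsProper (Proj.toSpecZero (CohB1.polyGrading m R) ≫
      Spec.map (CommRingCat.ofHom (algebraMap R (CohB1.polyGrading m R 0)))) :=
    Groth.Agent.Lib.helper19.ProjSpaceProper.proper_toSpec m R
  have h4 : Proj.toSpecZero 𝒜 ≫ Spec.map ρ₀ = Proj.toSpecZero 𝒜 ≫
      Spec.map (CommRingCat.ofHom ρ₀.hom) := rfl
  rw [h4, ← h2]
  infer_instance

end Groth.Agent.Lib.helper12.ProjProper
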