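import Mathlib
import Groth.Agent.Lib.Helper12.HProjAffine

/-!
# H-projective morphisms are stable under base change (helper12)
-/

set_option autoImplicit false
universe u

open CategoryTheory CategoryTheory.Limits AlgebraicGeometry Opposite TopologicalSpace

namespace Groth.Agent.Lib.helper12.HProjBC

open Groth.Agent.Lib.helper19.ProjSpaceProper

/-- The canonical map `P^n_{S'} ⟶ P^n_S` over `g : S' ⟶ S`. -/
noncomputable def pnMap (n : ℕ) {S S' : Scheme.{u}} (g : S' ⟶ S) :
    CohB1.ProjSpaceOver n S' ⟶ CohB1.ProjSpaceOver n S :=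
  pullback.map (CohB1.ProjSpace.toSpec n (ULift.{u} ℤ)) (specULiftZIsTerminal.from S')
    (CohB1.ProjSpace.toSpec n (ULift.{u} ℤ)) (specULiftZIsTerminal.from S) (𝟙 _) g
    (𝟙 _) (by simp) (specULiftZIsTerminal.hom_ext _ _)

theorem pnMap_toBase (n : ℕ) {S S' : Scheme.{u}} (g : S' ⟶ S) :
    pnMap n g ≫ CohB1.ProjSpaceOver.toBase n S = CohB1.ProjSpaceOver.toBase n S' ≫ g :=
  pullback.lift_snd _ _ _

/-- `P^n_{S'} = P^n_S ×_S S'`. -/
theorem isPullback_pnMap (n : ℕ) {S S' : Scheme.{u}} (g : S' ⟶ S) :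
    IsPullback (pnMap n g) (CohB1.ProjSpaceOver.toBase n S') (CohB1.ProjSpaceOver.toBase n S) g := by
  have t : IsPullback (pullback.fst (CohB1.ProjSpace.toSpec n (ULift.{u} ℤ))
      (specULiftZIsTerminal.from S)) (CohB1.ProjSpaceOver.toBase n S)
      (CohB1.ProjSpace.toSpec n (ULift.{u} ℤ)) (specULiftZIsTerminal.from S) :=
    IsPullback.of_hasPullback _ _
  have s0 : IsPullback (pullback.fst (CohB1.ProjSpace.toSpec n (ULift.{u} ℤ))
      (specULiftZIsTerminal.from S')) (CohB1.ProjSpaceOver.toBase n S')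
      (CohB1.ProjSpace.toSpec n (ULift.{u} ℤ)) (specULiftZIsTerminal.from S') :=
    IsPullback.of_hasPullback _ _
  have e1 : pnMap n g ≫ pullback.fst (CohB1.ProjSpace.toSpec n (ULift.{u} ℤ))
      (specULiftZIsTerminal.from S) = pullback.fst (CohB1.ProjSpace.toSpec n (ULift.{u} ℤ))
      (specULiftZIsTerminal.from S') := by
    unfold pnMap pullback.map
    exact (pullback.lift_fst _ _ _).trans (Category.comp_id _)
  have e2 : g ≫ specULiftZIsTerminal.from S = specULiftZIsTerminal.from S' :=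
    specULiftZIsTerminal.hom_ext _ _
  have s0' : IsPullback (pnMap n g ≫ pullback.fst (CohB1.ProjSpace.toSpec n (ULift.{u} ℤ))
      (specULiftZIsTerminal.from S)) (CohB1.ProjSpaceOver.toBase n S')
      (CohB1.ProjSpace.toSpec n (ULift.{u} ℤ)) (g ≫ specULiftZIsTerminal.from S) := by
    rw [e1, e2]
    exact s0
  exact IsPullback.of_right s0' (pnMap_toBase n g) t

/-- H-projective morphisms are stable under base change. -/
theorem isHProjective_of_isPullback {X S X' S' : Scheme.{u}} {f : X ⟶ S} {g : S' ⟶ S}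
    {g' : X' ⟶ X} {f' : X' ⟶ S'} (sq : IsPullback g' f' f g) (h : RelProj.IsHProjective f) :
    RelProj.IsHProjective f' := by
  obtain ⟨n, i, hi, rfl⟩ := h
  have t := isPullback_pnMap n g
  have top := IsPullback.of_bot' sq t
  have hcl : IsClosedImmersion (t.lift (g' ≫ i) f' (by rw [Category.assoc, sq.w])) :=
    MorphismProperty.of_isPullback (P := @IsClosedImmersion) top hi
  exact ⟨n, _, hcl, t.lift_snd _ _ _⟩

/-- The restriction of a base change over `g⁻¹U` is the base change of the restriction over `U`. -/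
theorem isPullback_restrict {X S S' : Scheme.{u}} (f : X ⟶ S) (g : S' ⟶ S) (U : S.Opens) :
    ∃ top : ((pullback.snd f g ⁻¹ᵁ (g ⁻¹ᵁ U) : (pullback f g).Opens) : Scheme.{u}) ⟶
        ((f ⁻¹ᵁ U : X.Opens) : Scheme.{u}),
      IsPullback top (pullback.snd f g ∣_ (g ⁻¹ᵁ U)) (f ∣_ U) (g ∣_ U) := by
  have A := (isPullback_morphismRestrict (pullback.snd f g) (g ⁻¹ᵁ U)).flip
  have B : IsPullback (pullback.fst f g) (pullback.snd f g) f g := IsPullback.of_hasPullback f g
  have AB := A.paste_horiz B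
  have C := (isPullback_morphismRestrict f U).flip
  have e : (g ⁻¹ᵁ U).ι ≫ g = (g ∣_ U) ≫ U.ι := (morphismRestrict_ι g U).symm
  rw [e] at AB
  exact ⟨_, IsPullback.of_right' AB C⟩

end Groth.Agent.Lib.helper12.HProjBC
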