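import Mathlib
set_option linter.style.haveILetI false
set_option linter.unusedSectionVars false

namespace Groth.Agent.Lib.helper12.HWAbsN

section prod
variable {F A₁ A₂ : Type*} [Field F] [CommRing A₁] [CommRing A₂] [Algebra F A₁] [Algebra F A₂]
  [Module.Finite F A₁] [Module.Finite F A₂]

theorem norm_prod (a₁ : A₁) (a₂ : A₂) :
    Algebra.norm F ((a₁, a₂) : A₁ × A₂) = Algebra.norm F a₁ * Algebra.norm F a₂ := by
  rw [Algebra.norm_apply, Algebra.norm_apply, Algebra.norm_apply, ← LinearMap.det_prodMap]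
  congr 1
end prod

section main
variable {F A : Type*} [Field F] [Finite F] [CommRing A] [Algebra F A] [Module.Finite F A]

attribute [local instance] Ideal.Quotient.field

/-- the norm of a finite algebra over a finite field having a residue field as a direct factor is
surjective -/
theorem norm_surjective_of_factor (𝔮 𝔧 : Ideal A) [𝔮.IsMaximal] (hcop : 𝔮 ⊔ 𝔧 = ⊤)
    (hinf : 𝔮 ⊓ 𝔧 = ⊥) (c : F) : ∃ x : A, Algebra.norm F x = c := by
  classical
  let Φ : A →ₐ[F] (A ⧸ 𝔮) × (A ⧸ 𝔧) :=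
    AlgHom.prod (Ideal.Quotient.mkₐ F 𝔮) (Ideal.Quotient.mkₐ F 𝔧)
  have hΦ : ∀ x, Φ x = (Ideal.Quotient.mk 𝔮 x, Ideal.Quotient.mk 𝔧 x) := fun x => rfl
  have hinj : Function.Injective Φ := by
    rw [injective_iff_map_eq_zero]
    intro x hx
    rw [hΦ, Prod.mk_eq_zero, Ideal.Quotient.eq_zero_iff_mem, Ideal.Quotient.eq_zero_iff_mem] at hx
    have : x ∈ 𝔮 ⊓ 𝔧 := ⟨hx.1, hx.2⟩
    rwa [hinf, Ideal.mem_bot] at this
  have hsurj : Function.Surjective Φ := by
    rintro ⟨y₁, y₂⟩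
    obtain ⟨x₁, rfl⟩ := Ideal.Quotient.mk_surjective y₁
    obtain ⟨x₂, rfl⟩ := Ideal.Quotient.mk_surjective y₂
    have h1 : (1 : A) ∈ 𝔮 ⊔ 𝔧 := by rw [hcop]; trivial
    obtain ⟨u, hu, w, hw, huw⟩ := Submodule.mem_sup.1 h1
    refine ⟨x₁ * w + x₂ * u, ?_⟩
    rw [hΦ, Prod.mk.injEq]
    constructor
    · rw [Ideal.Quotient.eq]
      have : x₁ * w + x₂ * u - x₁ = x₂ * u - x₁ * u := by
        have : w = 1 - u := by rw [← huw]; ring
        rw [this]; ring
      rw [this]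
      exact 𝔮.sub_mem (𝔮.mul_mem_left _ hu) (𝔮.mul_mem_left _ hu)
    · rw [Ideal.Quotient.eq]
      have : x₁ * w + x₂ * u - x₂ = x₁ * w - x₂ * w := by
        have : u = 1 - w := by rw [← huw]; ring
        rw [this]; ring
      rw [this]
      exact 𝔧.sub_mem (𝔧.mul_mem_left _ hw) (𝔧.mul_mem_left _ hw)
  let e : A ≃ₐ[F] (A ⧸ 𝔮) × (A ⧸ 𝔧) := AlgEquiv.ofBijective Φ ⟨hinj, hsurj⟩
  have : Finite (A ⧸ 𝔮) := by
    have : Finite A := Module.finite_of_finite F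
    exact Quotient.finite _
  obtain ⟨g, hg⟩ := FiniteField.norm_surjective F (A ⧸ 𝔮) c
  obtain ⟨x, hx⟩ := hsurj (g, 1)
  refine ⟨x, ?_⟩
  rw [← Algebra.norm_eq_of_algEquiv e x]
  change Algebra.norm F (Φ x) = c
  rw [hx, norm_prod, hg, map_one, mul_one]

end main

end Groth.Agent.Lib.helper12.HWAbsN
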