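import Mathlib
set_option linter.style.haveILetI false
set_option linter.unusedSectionVars false

namespace Groth.Agent.Lib.helper12.HWValOver
open IsDedekindDomain HeightOneSpectrum NumberField
open scoped WithZero

variable {k K : Type*} [Field k] [NumberField k] [Field K] [NumberField K] [Algebra k K]
variable (v : HeightOneSpectrum (𝓞 k)) (W : HeightOneSpectrum (𝓞 K))

theorem val_eq_pow (hW : W.asIdeal.LiesOver v.asIdeal) (x : k) :
    W.valuation K (algebraMap k K x) =
      v.valuation k x ^ v.asIdeal.ramificationIdx' W.asIdeal :=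
  (valuation_liesOver K v W x).symm

theorem ramIdx_ne_zero (hW : W.asIdeal.LiesOver v.asIdeal) :
    v.asIdeal.ramificationIdx' W.asIdeal ≠ 0 :=
  Ideal.IsDedekindDomain.ramificationIdx'_ne_zero_of_liesOver W.asIdeal v.ne_bot

theorem val_over_le_one (hW : W.asIdeal.LiesOver v.asIdeal) {x : k} (h : v.valuation k x ≤ 1) :
    W.valuation K (algebraMap k K x) ≤ 1 := by
  rw [val_eq_pow v W hW]
  exact pow_le_one' h _

theorem val_over_lt_one (hW : W.asIdeal.LiesOver v.asIdeal) {x : k} (h : v.valuation k x < 1) :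
    W.valuation K (algebraMap k K x) < 1 := by
  rw [val_eq_pow v W hW]
  exact pow_lt_one' h (ramIdx_ne_zero v W hW)

theorem val_over_eq_one (hW : W.asIdeal.LiesOver v.asIdeal) {x : k} (h : v.valuation k x = 1) :
    W.valuation K (algebraMap k K x) = 1 := by
  rw [val_eq_pow v W hW, h, one_pow]

theorem val_over_le (hW : W.asIdeal.LiesOver v.asIdeal) {x : k} (h : v.valuation k x ≤ 1) :
    W.valuation K (algebraMap k K x) ≤ v.valuation k x := by
  rw [val_eq_pow v W hW]
  obtain ⟨e, he⟩ := Nat.exists_eq_succ_of_ne_zero (ramIdx_ne_zero v W hW)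
  rw [he, pow_succ]
  calc v.valuation k x ^ e * v.valuation k x ≤ 1 * v.valuation k x := by
        gcongr
        exact pow_le_one' h e
    _ = v.valuation k x := one_mul _

theorem val_over_lt_one_iff (hW : W.asIdeal.LiesOver v.asIdeal) {x : k} :
    W.valuation K (algebraMap k K x) < 1 ↔ v.valuation k x < 1 := by
  refine ⟨fun h => ?_, val_over_lt_one v W hW⟩
  by_contra hcon
  rw [not_lt] at hcon
  rw [val_eq_pow v W hW] at h
  exact absurd h (not_lt.2 (one_le_pow_of_one_le' hcon _))

theorem val_over_le_one_iff (hW : W.asIdeal.LiesOver v.asIdeal) {x : k} :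
    W.valuation K (algebraMap k K x) ≤ 1 ↔ v.valuation k x ≤ 1 := by
  refine ⟨fun h => ?_, val_over_le_one v W hW⟩
  by_contra hcon
  rw [not_le] at hcon
  rw [val_eq_pow v W hW] at h
  exact absurd h (not_le.2 (one_lt_pow' hcon (ramIdx_ne_zero v W hW)))

/-- the place of `k` below a place of `K` -/
theorem liesOver_under : W.asIdeal.LiesOver (HeightOneSpectrum.under (𝓞 k) W).asIdeal :=
  ⟨rfl⟩

theorem under_eq_of_liesOver (hW : W.asIdeal.LiesOver v.asIdeal) :
    HeightOneSpectrum.under (𝓞 k) W = v := by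
  apply HeightOneSpectrum.ext
  exact hW.over.symm

end Groth.Agent.Lib.helper12.HWValOver
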