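import Mathlib
import Groth.Agent.Lib.Helper12.HWValOver
set_option linter.style.haveILetI false
set_option linter.unusedSectionVars false

namespace Groth.Agent.Lib.helper12.HWCommon
open IsDedekindDomain HeightOneSpectrum NumberField Polynomial

variable {k K L : Type*} [Field k] [NumberField k] [Field K] [NumberField K] [Field L]
  [NumberField L] [Algebra k K] [Algebra K L] [Algebra k L] [IsScalarTower k K L]

theorem hunr_of_notMem (Sf : Finset (HeightOneSpectrum (𝓞 k)))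
    (hSram : ∀ Q : Ideal (𝓞 L), Q.IsPrime → Q ≠ ⊥ → Q.ramificationIdx (𝓞 K) ≠ 1 →
      ∃ v ∈ Sf, Q.LiesOver v.asIdeal)
    (v : HeightOneSpectrum (𝓞 k)) (hv : v ∉ Sf) :
    ∀ Q : Ideal (𝓞 L), Q.IsPrime → Q.LiesOver v.asIdeal → Q.ramificationIdx (𝓞 K) = 1 := by
  intro Q hQ hQv
  by_contra hne
  have hQ0 : Q ≠ ⊥ := Ideal.ne_bot_of_liesOver_of_ne_bot v.ne_bot Q
  obtain ⟨v', hv', hQv'⟩ := hSram Q hQ hQ0 hne
  have : v' = v := HeightOneSpectrum.ext (by rw [hQv'.over, hQv.over])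
  exact hv (this ▸ hv')

theorem valb_of_notMem (Sf : Finset (HeightOneSpectrum (𝓞 k))) (b : K)
    (hSb : ∀ W : HeightOneSpectrum (𝓞 K), W.valuation K b ≠ 1 →
      ∃ v ∈ Sf, W.asIdeal.LiesOver v.asIdeal)
    (v : HeightOneSpectrum (𝓞 k)) (hv : v ∉ Sf) :
    ∀ W : HeightOneSpectrum (𝓞 K), W.asIdeal.LiesOver v.asIdeal → W.valuation K b = 1 := by
  intro W hW
  by_contra hne
  obtain ⟨v', hv', hWv'⟩ := hSb W hne
  have : v' = v := HeightOneSpectrum.ext (by rw [hWv'.over, hW.over])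
  exact hv (this ▸ hv')

theorem val_aeval_le_one (v : HeightOneSpectrum (𝓞 k)) (W : HeightOneSpectrum (𝓞 K))
    (hW : W.asIdeal.LiesOver v.asIdeal) (g : k[X]) (hg : ∀ i, v.valuation k (g.coeff i) ≤ 1)
    (a : K) (ha : W.valuation K a ≤ 1) : W.valuation K (aeval a g) ≤ 1 := by
  rw [aeval_eq_sum_range]
  refine (W.valuation K).map_sum_le fun i _ => ?_
  rw [Algebra.smul_def, map_mul, map_pow]
  exact mul_le_one' (HWValOver.val_over_le_one v W hW (hg i)) (pow_le_one' ha i)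

end Groth.Agent.Lib.helper12.HWCommon
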