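import Mathlib
set_option linter.style.haveILetI false
set_option linter.unusedSectionVars false

namespace Groth.Agent.Lib.helper12.HWLocInt
open IsDedekindDomain HeightOneSpectrum NumberField

variable {k F : Type*} [Field k] [NumberField k] [Field F] [NumberField F] [Algebra k F]

/-- local integrality at all places above `v` gives a denominator prime to `v` -/
theorem exists_smul_integer (v : HeightOneSpectrum (𝓞 k)) (y : F)
    (hy : ∀ Q : HeightOneSpectrum (𝓞 F), Q.asIdeal.LiesOver v.asIdeal → Q.valuation F y ≤ 1) :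
    ∃ s : 𝓞 k, s ∉ v.asIdeal ∧ ∃ z : 𝓞 F,
      algebraMap (𝓞 F) F z = algebraMap (𝓞 k) F s * y := by
  classical
  -- the denominator ideal
  let 𝔡 : Ideal (𝓞 F) :=
    { carrier := {r | ∃ z : 𝓞 F, algebraMap (𝓞 F) F z = algebraMap (𝓞 F) F r * y}
      add_mem' := by
        rintro a b ⟨z₁, h₁⟩ ⟨z₂, h₂⟩
        exact ⟨z₁ + z₂, by rw [map_add, map_add, h₁, h₂, add_mul]⟩
      zero_mem' := ⟨0, by simp⟩
      smul_mem' := by
        rintro c a ⟨z, h⟩
        exact ⟨c * z, by rw [smul_eq_mul, map_mul, map_mul, h, mul_assoc]⟩ }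
  have h𝔡 : ∀ r, r ∈ 𝔡 ↔ ∃ z : 𝓞 F, algebraMap (𝓞 F) F z = algebraMap (𝓞 F) F r * y := fun r => Iff.rfl
  -- a nonzero global denominator
  have halg : IsAlgebraic (𝓞 k) y := by
    have : IsAlgebraic k y := Algebra.IsAlgebraic.isAlgebraic y
    exact (IsFractionRing.isAlgebraic_iff (𝓞 k) k F).2 this
  obtain ⟨m, hm0, hmint⟩ := halg.exists_integral_multiple
  have hxint : IsIntegral ℤ (m • y : F) := isIntegral_trans (R := ℤ) (A := 𝓞 k) _ hmint
  have hm𝔡 : algebraMap (𝓞 k) (𝓞 F) m ∈ 𝔡 := by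
    refine ⟨⟨m • y, hxint⟩, ?_⟩
    change m • y = _
    rw [Algebra.smul_def, ← IsScalarTower.algebraMap_apply]
  have hmF0 : algebraMap (𝓞 k) (𝓞 F) m ≠ 0 := by
    intro h
    apply hm0
    exact FaithfulSMul.algebraMap_injective (𝓞 k) (𝓞 F) (by rw [h, map_zero])
  -- claim 1
  have hcl1 : ∀ Q : HeightOneSpectrum (𝓞 F), Q.asIdeal.LiesOver v.asIdeal → ¬ 𝔡 ≤ Q.asIdeal := by
    intro Q hQ hle
    obtain ⟨n, d, hnd⟩ := exists_primeCompl_mul_eq_of_integer Q y (hy Q hQ)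
    have : (d : 𝓞 F) ∈ 𝔡 := ⟨n, by rw [← hnd, mul_comm]⟩
    exact d.2 (hle this)
  -- claim 2
  have hcl2 : 𝔡 ⊔ Ideal.map (algebraMap (𝓞 k) (𝓞 F)) v.asIdeal = ⊤ := by
    by_contra hne
    obtain ⟨M, hM, hle⟩ := Ideal.exists_le_maximal _ hne
    have hMbot : M ≠ ⊥ := by
      intro h
      have : algebraMap (𝓞 k) (𝓞 F) m ∈ M := hle (Ideal.mem_sup_left hm𝔡)
      rw [h, Ideal.mem_bot] at this
      exact hmF0 this
    let Q : HeightOneSpectrum (𝓞 F) := ⟨M, hM.isPrime, hMbot⟩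
    have hQv : Q.asIdeal.LiesOver v.asIdeal := by
      constructor
      have h1 : v.asIdeal ≤ Ideal.comap (algebraMap (𝓞 k) (𝓞 F)) M :=
        Ideal.map_le_iff_le_comap.1 (le_sup_right.trans hle)
      have hvmax : v.asIdeal.IsMaximal := v.isMaximal
      have h2 : Ideal.comap (algebraMap (𝓞 k) (𝓞 F)) M ≠ ⊤ :=
        (Ideal.comap_isPrime _ M).ne_top
      exact hvmax.eq_of_le h2 h1
    exact hcl1 Q hQv (le_sup_left.trans hle)
  -- factor the denominator downstairs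
  have hmspan : Ideal.span {m} ≠ ⊥ := by
    rwa [Ne, Ideal.span_singleton_eq_bot]
  have hvmax : v.asIdeal.IsMaximal := v.isMaximal
  obtain ⟨𝔠, hcop, hfac⟩ := Ideal.eq_prime_pow_mul_coprime hmspan v.asIdeal
  set j := Multiset.count v.asIdeal (UniqueFactorizationMonoid.normalizedFactors (Ideal.span {m}))
  -- an element of `𝔠` outside `v`
  have h𝔠 : ¬ 𝔠 ≤ v.asIdeal := by
    intro hle
    have : v.asIdeal ⊔ 𝔠 = v.asIdeal := sup_eq_left.2 hle
    rw [this] at hcop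
    exact hvmax.ne_top hcop
  obtain ⟨s, hs𝔠, hsv⟩ := Set.not_subset.1 h𝔠
  refine ⟨s, hsv, ?_⟩
  -- `s ∈ 𝔡`
  have hpow : 𝔡 ⊔ (Ideal.map (algebraMap (𝓞 k) (𝓞 F)) v.asIdeal) ^ j = ⊤ := Ideal.sup_pow_eq_top hcl2
  have h1 : (1 : 𝓞 F) ∈ 𝔡 ⊔ (Ideal.map (algebraMap (𝓞 k) (𝓞 F)) v.asIdeal) ^ j := by
    rw [hpow]; trivial
  obtain ⟨δ, hδ, π, hπ, hsum⟩ := Submodule.mem_sup.1 h1
  have hsF : algebraMap (𝓞 k) (𝓞 F) s ∈ 𝔡 := by
    have e1 : algebraMap (𝓞 k) (𝓞 F) s = algebraMap (𝓞 k) (𝓞 F) s * δ + algebraMap (𝓞 k) (𝓞 F) s * π := by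
      rw [← mul_add, hsum, mul_one]
    rw [e1]
    refine 𝔡.add_mem (𝔡.mul_mem_left _ hδ) ?_
    -- the second term lies in `map (m)`
    have h2 : algebraMap (𝓞 k) (𝓞 F) s * π ∈ Ideal.map (algebraMap (𝓞 k) (𝓞 F)) (Ideal.span {m}) := by
      rw [hfac, Ideal.map_mul, Ideal.map_pow, mul_comm]
      exact Ideal.mul_mem_mul (Ideal.mem_map_of_mem _ hs𝔠) hπ
    rw [Ideal.map_span, Set.image_singleton, Ideal.mem_span_singleton'] at h2
    obtain ⟨q, hq⟩ := h2
    rw [← hq]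
    exact 𝔡.mul_mem_left _ hm𝔡
  obtain ⟨z, hz⟩ := hsF
  exact ⟨z, by rw [hz]; rfl⟩

theorem val_intCast_le_one (v : HeightOneSpectrum (𝓞 k)) (n : ℤ) : v.valuation k (n : k) ≤ 1 := by
  have := v.valuation_le_one (K := k) (n : 𝓞 k)
  simpa using this

open scoped WithZero in
/-- a `k`-linear functional takes `v`-adically small values on elements that are small at all the
places above `v` -/
theorem exists_bound_functional (v : HeightOneSpectrum (𝓞 k)) (φ : F →ₗ[k] k) (ϖ : k)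
    (hϖ : v.valuation k ϖ = WithZero.exp (-1 : ℤ)) :
    ∃ C : ℕ, ∀ (ε : F) (N : ℕ),
      (∀ Q : HeightOneSpectrum (𝓞 F), Q.asIdeal.LiesOver v.asIdeal →
         Q.valuation F ε ≤ Q.valuation F (algebraMap k F ϖ) ^ N) →
      v.valuation k (φ ε) ≤ WithZero.exp ((C : ℤ) - N) := by
  classical
  set ω := RingOfIntegers.basis F with hω
  have hϖ0 : ϖ ≠ 0 := by
    rintro rfl
    rw [map_zero] at hϖ
    exact WithZero.exp_ne_zero hϖ.symm
  -- a bound for the values on the basis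
  have hC : ∃ C : ℕ, ∀ i, v.valuation k (φ (algebraMap (𝓞 F) F (ω i))) ≤ WithZero.exp (C : ℤ) := by
    have : ∀ i, ∃ C : ℕ, v.valuation k (φ (algebraMap (𝓞 F) F (ω i))) ≤ WithZero.exp (C : ℤ) := by
      intro i
      rcases eq_or_ne (v.valuation k (φ (algebraMap (𝓞 F) F (ω i)))) 0 with h | h
      · exact ⟨0, by rw [h]; exact zero_le⟩
      · refine ⟨(WithZero.log (v.valuation k (φ (algebraMap (𝓞 F) F (ω i))))).toNat, ?_⟩
        rw [← WithZero.log_le_iff_le_exp h]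
        exact Int.self_le_toNat _
    choose C hC using this
    refine ⟨Finset.univ.sup C, fun i => (hC i).trans ?_⟩
    rw [WithZero.exp_le_exp]
    exact_mod_cast Finset.le_sup (f := C) (Finset.mem_univ i)
  obtain ⟨C, hC⟩ := hC
  refine ⟨C, fun ε N hε => ?_⟩
  set y : F := ε / (algebraMap k F ϖ) ^ N with hy
  have hϖF : algebraMap k F ϖ ≠ 0 := (_root_.map_ne_zero _).2 hϖ0
  have hyint : ∀ Q : HeightOneSpectrum (𝓞 F), Q.asIdeal.LiesOver v.asIdeal →
      Q.valuation F y ≤ 1 := by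
    intro Q hQ
    rw [hy, map_div₀, map_pow]
    have hpos : 0 < Q.valuation F (algebraMap k F ϖ) ^ N :=
      pow_pos (zero_lt_iff.2 ((_root_.map_ne_zero _).2 hϖF)) N
    rw [div_le_iff₀ hpos, one_mul]
    exact hε Q hQ
  obtain ⟨s, hsv, z, hz⟩ := exists_smul_integer v y hyint
  -- expand `z`
  have hzsum : algebraMap (𝓞 F) F z = ∑ i, (ω.repr z i) • algebraMap (𝓞 F) F (ω i) := by
    conv_lhs => rw [← ω.sum_repr z]
    rw [map_sum]
    refine Finset.sum_congr rfl fun i _ => ?_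
    rw [zsmul_eq_mul, zsmul_eq_mul, map_mul, map_intCast]
  have hφz : v.valuation k (φ (algebraMap (𝓞 F) F z)) ≤ WithZero.exp (C : ℤ) := by
    rw [hzsum, map_sum]
    refine (v.valuation k).map_sum_le fun i _ => ?_
    rw [map_zsmul, zsmul_eq_mul, map_mul]
    calc v.valuation k ((ω.repr z i : ℤ) : k) * v.valuation k (φ (algebraMap (𝓞 F) F (ω i)))
        ≤ 1 * WithZero.exp (C : ℤ) := mul_le_mul' (val_intCast_le_one v _) (hC i)
      _ = WithZero.exp (C : ℤ) := one_mul _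
  have hs1 : v.valuation k (algebraMap (𝓞 k) k s) = 1 := by
    rw [HeightOneSpectrum.valuation_eq_one_iff_notMem]
    exact hsv
  have hφy : v.valuation k (φ y) ≤ WithZero.exp (C : ℤ) := by
    have h1 : algebraMap (𝓞 k) F s * y = (algebraMap (𝓞 k) k s) • y := by
      rw [Algebra.smul_def, ← IsScalarTower.algebraMap_apply]
    rw [hz, h1, map_smul, smul_eq_mul, map_mul, hs1, one_mul] at hφz
    exact hφz
  have hεy : ε = (ϖ ^ N) • y := by
    rw [hy, Algebra.smul_def, map_pow]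
    field_simp
  rw [hεy, map_smul, smul_eq_mul, map_mul, map_pow, hϖ, ← WithZero.exp_nsmul, sub_eq_add_neg,
    WithZero.exp_add, mul_comm]
  have : (N • (-1 : ℤ)) = -(N : ℤ) := by simp
  rw [this]
  exact mul_le_mul_left hφy _

end Groth.Agent.Lib.helper12.HWLocInt
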