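import Mathlib
import Groth.Agent.Lib.Helper12.NFHensel
set_option linter.style.haveILetI false
set_option linter.unusedSectionVars false

namespace Groth.Agent.Lib.helper12.HWRelNorm
open scoped TensorProduct

variable (k F K L : Type*) [Field k] [Field F] [Algebra k F] [Field K] [Algebra k K] [Field L]
  [Algebra K L] [Algebra k L] [IsScalarTower k K L]

/-- the algebra structure of `F ⊗ L` over `F ⊗ K` -/
@[reducible] noncomputable def relAlg : Algebra (F ⊗[k] K) (F ⊗[k] L) :=
  (Algebra.TensorProduct.map (AlgHom.id k F) (IsScalarTower.toAlgHom k K L)).toRingHom.toAlgebra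

attribute [local instance] relAlg

variable {k F K L}

theorem relAlg_algebraMap_tmul (γ : F) (κ : K) :
    algebraMap (F ⊗[k] K) (F ⊗[k] L) (γ ⊗ₜ κ) = γ ⊗ₜ algebraMap K L κ := by
  change (Algebra.TensorProduct.map (AlgHom.id k F) (IsScalarTower.toAlgHom k K L)) (γ ⊗ₜ κ) = _
  simp

theorem relAlg_smul_tmul (γ₁ γ₂ : F) (κ : K) (l : L) :
    (γ₁ ⊗ₜ[k] κ : F ⊗[k] K) • (γ₂ ⊗ₜ[k] l : F ⊗[k] L) = (γ₁ * γ₂) ⊗ₜ (κ • l) := by
  rw [Algebra.smul_def, relAlg_algebraMap_tmul, Algebra.TensorProduct.tmul_mul_tmul,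
    Algebra.smul_def]

instance : IsScalarTower F (F ⊗[k] K) (F ⊗[k] L) := by
  refine IsScalarTower.of_algebraMap_eq fun γ => ?_
  rw [Algebra.TensorProduct.algebraMap_apply, Algebra.TensorProduct.algebraMap_apply,
    relAlg_algebraMap_tmul]
  simp

variable [FiniteDimensional K L]

section basis
variable {d : ℕ} (β' : Module.Basis (Fin d) K L)

/-- the coordinate equivalence, `F`-linear version -/
noncomputable def coordF : (F ⊗[k] L) ≃ₗ[F] (Fin d → F ⊗[k] K) :=
  (TensorProduct.AlgebraTensorModule.congr (LinearEquiv.refl F F)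
    (β'.equivFun.restrictScalars k)) ≪≫ₗ (TensorProduct.piRight k F F (fun _ : Fin d => K))

theorem coordF_tmul (γ : F) (l : L) (j : Fin d) :
    coordF (k := k) (F := F) β' (γ ⊗ₜ l) j = γ ⊗ₜ β'.repr l j := by
  simp [coordF]

theorem coordF_smul (r : F ⊗[k] K) (m : F ⊗[k] L) :
    coordF (k := k) (F := F) β' (r • m) = r • coordF (k := k) (F := F) β' m := by
  induction r using TensorProduct.induction_on with
  | zero => simp
  | add r₁ r₂ h₁ h₂ => rw [add_smul, map_add, h₁, h₂, add_smul]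
  | tmul γ₁ κ =>
    induction m using TensorProduct.induction_on with
    | zero => simp
    | add m₁ m₂ h₁ h₂ => rw [smul_add, map_add, h₁, h₂, map_add, smul_add]
    | tmul γ₂ l =>
      ext j
      rw [relAlg_smul_tmul, coordF_tmul, Pi.smul_apply, coordF_tmul, smul_eq_mul,
        Algebra.TensorProduct.tmul_mul_tmul, map_smul]
      simp

/-- the coordinate equivalence over `F ⊗ K` -/
noncomputable def coordR : (F ⊗[k] L) ≃ₗ[F ⊗[k] K] (Fin d → F ⊗[k] K) :=
  { toFun := coordF (k := k) (F := F) β'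
    map_add' := (coordF (k := k) (F := F) β').map_add
    map_smul' := fun r m => coordF_smul β' r m
    invFun := (coordF (k := k) (F := F) β').symm
    left_inv := (coordF (k := k) (F := F) β').left_inv
    right_inv := (coordF (k := k) (F := F) β').right_inv }

/-- the basis of `F ⊗ L` over `F ⊗ K` induced by a basis of `L` over `K` -/
noncomputable def relBasis : Module.Basis (Fin d) (F ⊗[k] K) (F ⊗[k] L) :=
  Module.Basis.ofEquivFun (coordR (k := k) (F := F) β')

theorem relBasis_repr_tmul (γ : F) (l : L) (j : Fin d) :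
    (relBasis (k := k) (F := F) β').repr (γ ⊗ₜ l) j = γ ⊗ₜ β'.repr l j := by
  simp only [relBasis, Module.Basis.ofEquivFun_repr_apply]
  exact coordF_tmul β' γ l j

theorem relBasis_apply (j : Fin d) : relBasis (k := k) (F := F) β' j = (1 : F) ⊗ₜ β' j := by
  classical
  apply (relBasis (k := k) (F := F) β').repr.injective
  ext i
  rw [Module.Basis.repr_self, relBasis_repr_tmul, Module.Basis.repr_self]
  simp only [Finsupp.single_apply]
  split_ifs
  · rfl
  · simp

/-- the relative norm of a pure tensor `1 ⊗ y` -/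
theorem norm_one_tmul (y : L) :
    Algebra.norm (F ⊗[k] K) ((1 : F) ⊗ₜ[k] y) = (1 : F) ⊗ₜ[k] Algebra.norm K y := by
  classical
  obtain ⟨d, β'⟩ : ∃ d, Nonempty (Module.Basis (Fin d) K L) :=
    ⟨_, ⟨Module.finBasis K L⟩⟩
  obtain ⟨β'⟩ := β'
  rw [Algebra.norm_eq_matrix_det (relBasis (k := k) (F := F) β'), Algebra.norm_eq_matrix_det β']
  have hφ : ∀ κ : K, (1 : F) ⊗ₜ[k] κ =
      (Algebra.TensorProduct.includeRight : K →ₐ[k] F ⊗[k] K).toRingHom κ := fun κ => rfl
  rw [hφ, RingHom.map_det]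
  congr 1
  ext i j
  rw [Algebra.leftMulMatrix_eq_repr_mul, relBasis_apply, Algebra.TensorProduct.tmul_mul_tmul,
    one_mul, relBasis_repr_tmul, RingHom.mapMatrix_apply, Matrix.map_apply,
    Algebra.leftMulMatrix_eq_repr_mul]
  rfl

end basis

section top
variable [TopologicalSpace (F ⊗[k] K)] [IsTopologicalRing (F ⊗[k] K)] [TopologicalSpace F]
  [ContinuousSMul F (F ⊗[k] K)]

theorem continuous_relnorm_sum {n : ℕ} (B : Fin n → F ⊗[k] L) :
    Continuous fun a : Fin n → F => Algebra.norm (F ⊗[k] K) (∑ i, a i • B i) := by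
  classical
  obtain ⟨d, β'⟩ : ∃ d, Nonempty (Module.Basis (Fin d) K L) :=
    ⟨_, ⟨Module.finBasis K L⟩⟩
  obtain ⟨β'⟩ := β'
  set RB := relBasis (k := k) (F := F) β' with hRB
  have hsmul : ∀ (a : F) (m : F ⊗[k] L), Algebra.leftMulMatrix RB (a • m) =
      a • Algebra.leftMulMatrix RB m := by
    intro a m
    have h1 : a • m = (a • (1 : F ⊗[k] K)) • m := by rw [smul_assoc, one_smul]
    rw [h1, map_smul, smul_assoc, one_smul]
  have h1 : ∀ a : Fin n → F, Algebra.norm (F ⊗[k] K) (∑ i, a i • B i) =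
      (∑ i, a i • Algebra.leftMulMatrix RB (B i)).det := by
    intro a
    rw [Algebra.norm_eq_matrix_det RB, map_sum]
    simp_rw [hsmul]
  simp_rw [h1]
  refine Continuous.matrix_det ?_
  refine continuous_finsetSum _ fun i _ => ?_
  exact (continuous_apply i).smul continuous_const

variable [FiniteDimensional k L]

theorem exists_open_nhd_relnorm {n : ℕ} (b : Module.Basis (Fin n) k L) (x : F ⊗[k] L)
    (U : Set (F ⊗[k] K)) (hU : IsOpen U) (hx : Algebra.norm (F ⊗[k] K) x ∈ U) :
    ∃ V : Fin n → Set F, (∀ i, IsOpen (V i)) ∧ (∀ i, (V i).Nonempty) ∧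
      ∀ c : Fin n → k, (∀ i, algebraMap k F (c i) ∈ V i) →
        (1 : F) ⊗ₜ[k] (Algebra.norm K (∑ i, c i • b i)) ∈ U := by
  classical
  set B := Algebra.TensorProduct.basis F b with hB
  set G : (Fin n → F) → F ⊗[k] K := fun a => Algebra.norm (F ⊗[k] K) (∑ i, a i • B i) with hG
  have hGc : Continuous G := continuous_relnorm_sum (fun i => B i)
  set a₀ : Fin n → F := fun i => B.repr x i with ha₀
  have hGa₀ : G a₀ ∈ U := by
    have : ∑ i, a₀ i • B i = x := B.sum_repr x
    simp only [hG, this]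
    exact hx
  have hopen : IsOpen (G ⁻¹' U) := hU.preimage hGc
  obtain ⟨I, u, hu, hsub⟩ := isOpen_pi_iff.1 hopen a₀ hGa₀
  refine ⟨fun i => if i ∈ I then u i else Set.univ, fun i => ?_, fun i => ?_, fun c hc => ?_⟩
  · by_cases hi : i ∈ I
    · simp only [hi, if_true]; exact (hu i hi).1
    · simp only [hi, if_false]; exact isOpen_univ
  · by_cases hi : i ∈ I
    · simp only [hi, if_true]; exact ⟨a₀ i, (hu i hi).2⟩
    · simp only [hi, if_false]; exact Set.univ_nonempty
  · have hmem : (fun i => algebraMap k F (c i)) ∈ (I : Set (Fin n)).pi u := by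
      intro i hi
      have := hc i
      simp only [Finset.mem_coe.1 hi, if_true] at this
      exact this
    have h1 := hsub hmem
    simp only [Set.mem_preimage, hG] at h1
    have h2 : ∑ i, algebraMap k F (c i) • B i = (1 : F) ⊗ₜ[k] (∑ i, c i • b i) := by
      rw [TensorProduct.tmul_sum]
      refine Finset.sum_congr rfl fun i _ => ?_
      rw [hB, Algebra.TensorProduct.basis_apply, TensorProduct.tmul_smul, Algebra.smul_def]
      rw [Algebra.TensorProduct.algebraMap_apply, Algebra.TensorProduct.tmul_mul_tmul]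
      simp [Algebra.smul_def]
    rw [h2, norm_one_tmul] at h1
    exact h1

end top

section form
open Polynomial
variable [TopologicalSpace (F ⊗[k] K)] [ContinuousAdd (F ⊗[k] K)] [TopologicalSpace F]
  [IsTopologicalRing F] [ContinuousSMul F (F ⊗[k] K)]

omit [FiniteDimensional K L] in
theorem exists_nhds_relNormForm (f : K[X]) (U : Set (F ⊗[k] K)) (hU : IsOpen U) (c₀ d₀ : k)
    (h : (1 : F) ⊗ₜ[k] (NFHensel.normForm f (algebraMap k K c₀) (algebraMap k K d₀)) ∈ U) :
    ∃ C D : Set F, IsOpen C ∧ IsOpen D ∧ algebraMap k F c₀ ∈ C ∧ algebraMap k F d₀ ∈ D ∧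
      ∀ c d : k, algebraMap k F c ∈ C → algebraMap k F d ∈ D →
        (1 : F) ⊗ₜ[k] (NFHensel.normForm f (algebraMap k K c) (algebraMap k K d)) ∈ U := by
  set Φ : F × F → F ⊗[k] K := fun p => ∑ i ∈ Finset.range (f.natDegree + 1),
    (p.1 ^ i * p.2 ^ (f.natDegree - i)) • ((1 : F) ⊗ₜ[k] f.coeff i) with hΦ
  have hΦc : Continuous Φ := by
    refine continuous_finsetSum _ fun i _ => ?_
    refine Continuous.smul (M := F) (X := F ⊗[k] K) ?_ continuous_const
    fun_prop
  have hΦeq : ∀ c d : k, Φ (algebraMap k F c, algebraMap k F d) =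
      (1 : F) ⊗ₜ[k] (NFHensel.normForm f (algebraMap k K c) (algebraMap k K d)) := by
    intro c d
    simp only [hΦ, NFHensel.normForm, TensorProduct.tmul_sum]
    refine Finset.sum_congr rfl fun i _ => ?_
    have h1 : f.coeff i * (algebraMap k K c) ^ i * (algebraMap k K d) ^ (f.natDegree - i) =
        (c ^ i * d ^ (f.natDegree - i)) • f.coeff i := by
      rw [Algebra.smul_def, map_mul, map_pow, map_pow]
      ring
    rw [h1, TensorProduct.tmul_smul, ← map_pow, ← map_pow, ← map_mul, algebraMap_smul]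
  have hopen : IsOpen (Φ ⁻¹' U) := hU.preimage hΦc
  have hmem : (algebraMap k F c₀, algebraMap k F d₀) ∈ Φ ⁻¹' U := by
    rw [Set.mem_preimage, hΦeq]
    exact h
  obtain ⟨C, D, hC, hD, hc, hd, hsub⟩ := isOpen_prod_iff.1 hopen _ _ hmem
  refine ⟨C, D, hC, hD, hc, hd, fun c d hc' hd' => ?_⟩
  have := hsub (Set.mk_mem_prod hc' hd')
  rwa [Set.mem_preimage, hΦeq] at this

end form

end Groth.Agent.Lib.helper12.HWRelNorm
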