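import Mathlib
set_option linter.style.haveILetI false
set_option linter.unusedSectionVars false

namespace Groth.Agent.Lib.helper12.HWNormQuot

variable {R S : Type*} [CommRing R] [CommRing S] [Algebra R S]

open IsLocalRing Module Submodule IsLocalization.AtPrime

section IsLocalRing

local notation "p" => maximalIdeal R
local notation "pS" => Ideal.map (algebraMap R S) p

variable [Module.Free R S] [Module.Finite R S]

attribute [local instance] Ideal.Quotient.field

lemma norm_quotient_mk [IsLocalRing R] (x : S) :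
    Algebra.norm (R ⧸ p) (Ideal.Quotient.mk pS x) =
      Ideal.Quotient.mk p (Algebra.norm R x) := by
  classical
  let ι := Module.Free.ChooseBasisIndex R S
  let b : Module.Basis ι R S := Module.Free.chooseBasis R S
  rw [Algebra.norm_eq_matrix_det b, Algebra.norm_eq_matrix_det (basisQuotient b), RingHom.map_det]
  congr 1
  ext i j
  simp only [Algebra.leftMulMatrix_apply, Algebra.coe_lmul_eq_mul, LinearMap.toMatrix_apply,
    basisQuotient_apply, LinearMap.mul_apply', RingHom.mapMatrix_apply, Matrix.map_apply, ← map_mul,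
    basisQuotient_repr]

end IsLocalRing

section IsDedekindDomain

variable (p : Ideal R) [p.IsMaximal]
variable (Rₚ Sₚ : Type*) [CommRing Rₚ] [CommRing Sₚ] [Algebra R Rₚ] [IsLocalization.AtPrime Rₚ p]
variable [IsLocalRing Rₚ] [Algebra S Sₚ] [Algebra R Sₚ] [Algebra Rₚ Sₚ]
variable [IsLocalization (Algebra.algebraMapSubmonoid S p.primeCompl) Sₚ]
variable [IsScalarTower R S Sₚ] [IsScalarTower R Rₚ Sₚ]

attribute [local instance] Ideal.Quotient.field

local notation "pS" => Ideal.map (algebraMap R S) p
local notation "pSₚ" => Ideal.map (algebraMap Rₚ Sₚ) (maximalIdeal Rₚ)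

variable (S)

lemma norm_quotient_eq_norm_localization_quotient (x) :
    Algebra.norm (R ⧸ p) (Ideal.Quotient.mk pS x) =
      (equivQuotMaximalIdeal p Rₚ).symm
        (Algebra.norm (Rₚ ⧸ maximalIdeal Rₚ) (algebraMap S (Sₚ ⧸ pSₚ) x)) := by
  have : IsScalarTower R (Rₚ ⧸ maximalIdeal Rₚ) (Sₚ ⧸ pSₚ) := by
    apply IsScalarTower.of_algebraMap_eq'
    rw [IsScalarTower.algebraMap_eq R Rₚ (Rₚ ⧸ _), IsScalarTower.algebraMap_eq R Rₚ (Sₚ ⧸ _),
      ← RingHom.comp_assoc, ← IsScalarTower.algebraMap_eq Rₚ]
  rw [Algebra.norm_eq_of_equiv_equiv (equivQuotMaximalIdeal p Rₚ)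
    (equivQuotientMapMaximalIdeal S p Rₚ Sₚ)]
  · congr
  · ext x
    simp only [equivQuotMaximalIdeal, RingHom.quotientKerEquivOfSurjective,
      RingEquiv.coe_ringHom_trans, RingHom.coe_comp, RingHom.coe_coe, Function.comp_apply,
      Ideal.quotEquivOfEq_mk, RingHom.quotientKerEquivOfRightInverse.apply, RingHom.kerLift_mk,
      equivQuotientMapMaximalIdeal, Ideal.Quotient.algebraMap_quotient_map_quotient]
    rw [← IsScalarTower.algebraMap_apply, ← IsScalarTower.algebraMap_apply]

attribute [local instance] FractionRing.liftAlgebra in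
open nonZeroDivisors in
/-- The norm map on `B → A` coincides with the norm map on `B⧸pB → A⧸p`. -/
lemma norm_quotient_eq_of_isDedekindDomain (x) [IsDedekindDomain R] [IsDomain S]
    [Module.IsTorsionFree R S] [Module.Finite R S] [IsIntegrallyClosed S] :
    Algebra.norm (R ⧸ p) (Ideal.Quotient.mk pS x) =
      Ideal.Quotient.mk p (Algebra.intNorm R S x) := by
  let Rₚ := Localization.AtPrime p
  let Sₚ := Localization (Algebra.algebraMapSubmonoid S p.primeCompl)
  let : Algebra Rₚ Sₚ := localizationAlgebra p.primeCompl S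
  have : IsScalarTower R Rₚ Sₚ := IsScalarTower.of_algebraMap_eq'
    (by rw [RingHom.algebraMap_toAlgebra, IsLocalization.map_comp, ← IsScalarTower.algebraMap_eq])
  have : IsLocalization (Submonoid.map (algebraMap R S) (Ideal.primeCompl p)) Sₚ :=
    inferInstanceAs (IsLocalization (Algebra.algebraMapSubmonoid S p.primeCompl) Sₚ)
  have e : Algebra.algebraMapSubmonoid S p.primeCompl ≤ S⁰ :=
    Submonoid.map_le_of_le_comap _ <| p.primeCompl_le_nonZeroDivisors.trans
      (nonZeroDivisors_le_comap_nonZeroDivisors_of_injective _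
        (FaithfulSMul.algebraMap_injective _ _))
  have : IsDomain Sₚ := IsLocalization.isDomain_of_le_nonZeroDivisors _ e
  have : IsTorsionFree Rₚ Sₚ := by
    rw [isTorsionFree_iff_algebraMap_injective, RingHom.injective_iff_ker_eq_bot,
      RingHom.ker_eq_bot_iff_eq_zero]
    simp
  have : Module.Finite Rₚ Sₚ := .of_isLocalization R S p.primeCompl
  have : IsIntegrallyClosed Sₚ := isIntegrallyClosed_of_isLocalization _ _ e
  have : IsPrincipalIdealRing Rₚ := by
    by_cases hp : p = ⊥
    · infer_instance
    · have := (IsDedekindDomain.isDedekindDomainDvr R).2 p hp inferInstance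
      infer_instance
  have : Module.Free Rₚ Sₚ := Module.free_of_finite_type_torsion_free'
  have : FiniteDimensional (FractionRing R) (FractionRing S) := by
    have : IsIntegralClosure S R (FractionRing S) :=
      IsIntegralClosure.of_isIntegrallyClosed _ _ _
    have : Algebra.IsAlgebraic (FractionRing R) (FractionRing S) :=
      isAlgebraic_of_isFractionRing R S ..
    have : IsLocalization (Algebra.algebraMapSubmonoid S R⁰) (FractionRing S) :=
      IsIntegralClosure.isLocalization _ (FractionRing R) _ _
    exact .of_isLocalization R S R⁰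
  apply (equivQuotMaximalIdeal p Rₚ).injective
  rw [norm_quotient_eq_norm_localization_quotient S p Rₚ Sₚ, IsScalarTower.algebraMap_eq S Sₚ,
    RingHom.comp_apply, Ideal.Quotient.algebraMap_eq, norm_quotient_mk,
    RingEquiv.apply_symm_apply, ← Algebra.intNorm_eq_norm,
    ← Algebra.intNorm_eq_of_isLocalization (A := R) (B := S) p.primeCompl (Aₘ := Rₚ) (Bₘ := Sₚ) x,
    ← Ideal.Quotient.algebraMap_eq, ← IsScalarTower.algebraMap_apply]
  simp only [equivQuotMaximalIdeal, RingHom.quotientKerEquivOfSurjective, RingEquiv.coe_trans,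
    Function.comp_apply, Ideal.quotEquivOfEq_mk, RingHom.quotientKerEquivOfRightInverse.apply,
    RingHom.kerLift_mk]

end IsDedekindDomain

end Groth.Agent.Lib.helper12.HWNormQuot
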