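import Mathlib
import Groth.Agent.Lib.Helper12.HWNormQuot
import Groth.Agent.Lib.Helper12.HWAbsN
set_option linter.style.haveILetI false
set_option linter.unusedSectionVars false

namespace Groth.Agent.Lib.helper12.HWNperW
open IsDedekindDomain HeightOneSpectrum NumberField

variable {K L : Type*} [Field K] [NumberField K] [Field L] [NumberField L] [Algebra K L]

attribute [local instance] Ideal.Quotient.field

/-- if `W` is unramified in `L`, every residue class modulo `W` is the class of a norm from `𝓞 L`. -/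
theorem exists_intNorm_sub_mem (W : HeightOneSpectrum (𝓞 K))
    (hunr : ∀ Q : Ideal (𝓞 L), Q.IsPrime → Q.LiesOver W.asIdeal → Q.ramificationIdx (𝓞 K) = 1)
    (a : 𝓞 K) : ∃ y : 𝓞 L, Algebra.intNorm (𝓞 K) (𝓞 L) y - a ∈ W.asIdeal := by
  classical
  have hWmax : W.asIdeal.IsMaximal := W.isMaximal
  set p : Ideal (𝓞 K) := W.asIdeal with hp
  set pS : Ideal (𝓞 L) := Ideal.map (algebraMap (𝓞 K) (𝓞 L)) p with hpS
  have hpSbot : pS ≠ ⊥ := Ideal.map_ne_bot_of_ne_bot W.ne_bot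
  -- a prime above `W`
  obtain ⟨Q, hQmax, hQover⟩ := Ideal.exists_ideal_over_maximal_of_isIntegral (S := 𝓞 L) p
    (by
      rw [(RingHom.injective_iff_ker_eq_bot _).1 (FaithfulSMul.algebraMap_injective (𝓞 K) (𝓞 L))]
      exact bot_le)
  have hQprime : Q.IsPrime := hQmax.isPrime
  have hQlies : Q.LiesOver p := ⟨hQover.symm⟩
  have he := hunr Q hQprime hQlies
  obtain ⟨J, hcop, hfac⟩ := Ideal.eq_prime_pow_mul_coprime hpSbot Q
  rw [← Ideal.IsDedekindDomain.ramificationIdx_eq_normalizedFactors_count p Q hpSbot, he, pow_one] at hfac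
  -- the residue algebra
  have : Finite (𝓞 K ⧸ p) := Ideal.finiteQuotientOfFreeOfNeBot p W.ne_bot
  set π : 𝓞 L →+* 𝓞 L ⧸ pS := Ideal.Quotient.mk pS with hπ
  have hπsurj : Function.Surjective π := Ideal.Quotient.mk_surjective
  have hker : RingHom.ker π = pS := by rw [hπ]; exact Ideal.mk_ker
  have hpSQ : pS ≤ Q := by rw [hfac]; exact Ideal.mul_le_left
  have hpSJ : pS ≤ J := by rw [hfac]; exact Ideal.mul_le_right
  set 𝔮 : Ideal (𝓞 L ⧸ pS) := Ideal.map π Q with h𝔮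
  set 𝔧 : Ideal (𝓞 L ⧸ pS) := Ideal.map π J with h𝔧
  have hcomapQ : Ideal.comap π 𝔮 = Q := by
    rw [h𝔮, Ideal.comap_map_of_surjective π hπsurj, ← RingHom.ker_eq_comap_bot, hker,
      sup_eq_left.2 hpSQ]
  have hcomapJ : Ideal.comap π 𝔧 = J := by
    rw [h𝔧, Ideal.comap_map_of_surjective π hπsurj, ← RingHom.ker_eq_comap_bot, hker,
      sup_eq_left.2 hpSJ]
  have h𝔮max : 𝔮.IsMaximal := by
    rcases Ideal.map_eq_top_or_isMaximal_of_surjective π hπsurj hQmax with h | h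
    · exfalso
      have : Ideal.comap π 𝔮 = ⊤ := by rw [h𝔮, h, Ideal.comap_top]
      rw [hcomapQ] at this
      exact hQmax.ne_top this
    · exact h
  have hsup : 𝔮 ⊔ 𝔧 = ⊤ := by
    rw [h𝔮, h𝔧, ← Ideal.map_sup, hcop, Ideal.map_top]
  have hinf : 𝔮 ⊓ 𝔧 = ⊥ := by
    rw [eq_bot_iff]
    intro x hx
    obtain ⟨y, rfl⟩ := hπsurj x
    have h1 : y ∈ Q := by
      rw [← hcomapQ]; exact hx.1
    have h2 : y ∈ J := by
      rw [← hcomapJ]; exact hx.2
    have h3 : y ∈ Q * J := by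
      rw [Ideal.mul_eq_inf_of_coprime hcop]
      exact ⟨h1, h2⟩
    rw [← hfac] at h3
    rw [Ideal.mem_bot, hπ, Ideal.Quotient.eq_zero_iff_mem]
    exact h3
  obtain ⟨x, hx⟩ := HWAbsN.norm_surjective_of_factor (F := 𝓞 K ⧸ p) 𝔮 𝔧 hsup hinf
    (Ideal.Quotient.mk p a)
  obtain ⟨y, rfl⟩ := hπsurj x
  refine ⟨y, ?_⟩
  rw [hπ, HWNormQuot.norm_quotient_eq_of_isDedekindDomain (𝓞 L) p y] at hx
  rw [← Ideal.Quotient.eq]
  exact hx

end Groth.Agent.Lib.helper12.HWNperW
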