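import Mathlib
import Groth.Agent.Lib.Helper12.NFHensel
import Groth.Agent.Lib.Helper12.HWNperW
set_option linter.style.haveILetI false
set_option linter.unusedSectionVars false

namespace Groth.Agent.Lib.helper12.HWUnitNorm
open IsDedekindDomain HeightOneSpectrum NumberField
open scoped nonZeroDivisors

namespace NFMainAux
open IntermediateField
/-- all but finitely many members of a pencil through a primitive element are primitive -/
theorem finite_not_primitive {k L : Type*} [Field k] [Field L] [Algebra k L]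
    [FiniteDimensional k L] [Algebra.IsSeparable k L] (x₀ θ : L) (hθ : k⟮θ⟯ = ⊤) :
    {s : k | k⟮x₀ + s • θ⟯ ≠ ⊤}.Finite := by
  classical
  have hfin : Finite (IntermediateField k L) :=
    Field.finite_intermediateField_of_exists_primitive_element k L (Field.exists_primitive_element k L)
  have hsub : {s : k | k⟮x₀ + s • θ⟯ ≠ ⊤} ⊆
      ⋃ F ∈ {F : IntermediateField k L | F ≠ ⊤}, {s : k | x₀ + s • θ ∈ F} := by
    intro s hs
    simp only [Set.mem_iUnion]
    exact ⟨k⟮x₀ + s • θ⟯, hs, mem_adjoin_simple_self k _⟩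
  refine Set.Finite.subset ?_ hsub
  refine Set.Finite.biUnion (Set.toFinite _) fun F hF => ?_
  refine Set.Subsingleton.finite ?_
  intro s hs s' hs'
  by_contra hne
  apply hF
  have h1 : (s - s') • θ ∈ F := by
    have := F.sub_mem hs hs'
    simpa [sub_smul] using this
  have h2 : θ ∈ F := by
    have := F.smul_mem h1 (x := (s - s')⁻¹)
    rwa [smul_smul, inv_mul_cancel₀ (sub_ne_zero.2 hne), one_smul] at this
  rw [eq_top_iff, ← hθ]
  exact adjoin_simple_le_iff.2 h2
end NFMainAux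

variable {K L : Type*} [Field K] [NumberField K] [Field L] [NumberField L] [Algebra K L]

/-- if `W` is unramified in `L` then the trace `𝓞 L → 𝓞 K` is not identically zero modulo `W`. -/
theorem exists_intTrace_notMem (W : HeightOneSpectrum (𝓞 K))
    (hunr : ∀ Q : Ideal (𝓞 L), Q.IsPrime → Q.LiesOver W.asIdeal → Q.ramificationIdx (𝓞 K) = 1) :
    ∃ η : 𝓞 L, Algebra.intTrace (𝓞 K) (𝓞 L) η ∉ W.asIdeal := by
  classical
  by_contra hcon
  push Not at hcon
  have hWmax : W.asIdeal.IsMaximal := W.isMaximal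
  -- a prime above `W`
  obtain ⟨Q, hQmax, hQover⟩ := Ideal.exists_ideal_over_maximal_of_isIntegral (S := 𝓞 L) W.asIdeal
    (by
      rw [(RingHom.injective_iff_ker_eq_bot _).1 (FaithfulSMul.algebraMap_injective (𝓞 K) (𝓞 L))]
      exact bot_le)
  have hQprime : Q.IsPrime := hQmax.isPrime
  have hQlies : Q.LiesOver W.asIdeal := ⟨hQover.symm⟩
  have hQbot : Q ≠ ⊥ := Ideal.ne_bot_of_liesOver_of_ne_bot W.ne_bot Q
  have he := hunr Q hQprime hQlies
  have hunrQ : Algebra.IsUnramifiedAt (𝓞 K) Q := Ideal.ramificationIdx_eq_one_iff.1 he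
  have hnd : ¬ Q ∣ differentIdeal (𝓞 K) (𝓞 L) := not_dvd_differentIdeal_iff.2 hunrQ
  apply hnd
  rw [Ideal.dvd_iff_le]
  set I : Ideal (𝓞 L) := Ideal.map (algebraMap (𝓞 K) (𝓞 L)) W.asIdeal with hI
  have hIQ : I ≤ Q := by
    rw [hI, Ideal.map_le_iff_le_comap, ← hQover]
  have hIbot : I ≠ ⊥ := Ideal.map_ne_bot_of_ne_bot W.ne_bot
  refine le_trans ?_ hIQ
  rw [differentialIdeal_le_iff (K := K) (L := L) hIbot]
  rintro _ ⟨x, hx, rfl⟩
  simp only [LinearMap.coe_restrictScalars]
  -- `x ∈ I⁻¹`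
  have hx' : x ∈ (I : FractionalIdeal (𝓞 L)⁰ L)⁻¹ := hx
  have hIne : (I : FractionalIdeal (𝓞 L)⁰ L) ≠ 0 := by simpa using hIbot
  rw [FractionalIdeal.mem_inv_iff hIne] at hx'
  -- `1 ∈ P * P⁻¹`
  set P : FractionalIdeal (𝓞 K)⁰ K := (W.asIdeal : FractionalIdeal (𝓞 K)⁰ K) with hP
  have hPne : P ≠ 0 := by simpa [hP] using W.ne_bot
  have hPinv : P * P⁻¹ = 1 := mul_inv_cancel₀ hPne
  have key : ∀ t ∈ P * P⁻¹, Algebra.trace K L (t • x) ∈ (1 : Submodule (𝓞 K) K) := by
    intro t ht
    refine FractionalIdeal.mul_induction_on ht ?_ ?_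
    · intro a ha b hb
      -- `a ∈ W`, `b ∈ W⁻¹`
      obtain ⟨a', ha', rfl⟩ := (FractionalIdeal.mem_coeIdeal _).1 ha
      have hax : x * algebraMap (𝓞 L) L (algebraMap (𝓞 K) (𝓞 L) a') ∈ (1 : FractionalIdeal (𝓞 L)⁰ L) := by
        refine hx' _ ?_
        rw [FractionalIdeal.mem_coeIdeal]
        exact ⟨_, Ideal.mem_map_of_mem _ ha', rfl⟩
      obtain ⟨z, hz⟩ := (FractionalIdeal.mem_one_iff _).1 hax
      have htr : Algebra.trace K L (algebraMap (𝓞 K) K a' • x) =
          algebraMap (𝓞 K) K (Algebra.intTrace (𝓞 K) (𝓞 L) z) := by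
        rw [Algebra.algebraMap_intTrace (L := L), hz, Algebra.smul_def, mul_comm,
          ← IsScalarTower.algebraMap_apply, ← IsScalarTower.algebraMap_apply,
          IsScalarTower.algebraMap_apply (𝓞 K) (𝓞 L) L]
      have hmem : algebraMap (𝓞 K) K (Algebra.intTrace (𝓞 K) (𝓞 L) z) ∈ P := by
        rw [hP, FractionalIdeal.mem_coeIdeal]
        exact ⟨_, hcon z, rfl⟩
      rw [mul_smul, smul_comm, map_smul, htr, smul_eq_mul]
      have hb' := (FractionalIdeal.mem_inv_iff hPne).1 hb _ hmem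
      obtain ⟨r, hr⟩ := (FractionalIdeal.mem_one_iff _).1 hb'
      rw [Submodule.mem_one]
      exact ⟨r, hr⟩
    · intro t₁ t₂ h₁ h₂
      rw [add_smul, map_add]
      exact Submodule.add_mem _ h₁ h₂
  have h1 : (1 : K) ∈ P * P⁻¹ := by
    rw [hPinv]
    exact FractionalIdeal.one_mem_one _
  have := key 1 h1
  rwa [one_smul] at this

section global
open IntermediateField

variable {k : Type*} [Field k] [NumberField k] [Algebra k K] [Algebra k L] [IsScalarTower k K L]

/-- the places of `K` above a place of `k` form a finite set -/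
theorem finite_over (v : HeightOneSpectrum (𝓞 k)) :
    {W : HeightOneSpectrum (𝓞 K) | W.asIdeal.LiesOver v.asIdeal}.Finite := by
  have h := IsDedekindDomain.primesOver_finite v.asIdeal (𝓞 K)
  refine Set.Finite.of_finite_image (f := fun W : HeightOneSpectrum (𝓞 K) => W.asIdeal)
    (h.subset ?_) ?_
  · rintro _ ⟨W, hW, rfl⟩
    exact ⟨W.isPrime, hW⟩
  · intro W _ W' _ h
    exact HeightOneSpectrum.ext h

theorem liesOver_trans (v : HeightOneSpectrum (𝓞 k)) (W : HeightOneSpectrum (𝓞 K))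
    (hW : W.asIdeal.LiesOver v.asIdeal) (Q : Ideal (𝓞 L)) (hQ : Q.LiesOver W.asIdeal) :
    Q.LiesOver v.asIdeal :=
  Ideal.LiesOver.trans Q W.asIdeal v.asIdeal

/-- there is an integral primitive element whose trace is a unit at all places above `v` -/
theorem exists_primitive_trace_unit (v : HeightOneSpectrum (𝓞 k))
    (hunr : ∀ Q : Ideal (𝓞 L), Q.IsPrime → Q.LiesOver v.asIdeal → Q.ramificationIdx (𝓞 K) = 1) :
    ∃ η : 𝓞 L, K⟮(η : L)⟯ = ⊤ ∧ ∀ W : HeightOneSpectrum (𝓞 K), W.asIdeal.LiesOver v.asIdeal →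
      W.valuation K (Algebra.trace K L (η : L)) = 1 := by
  classical
  set s : Finset (HeightOneSpectrum (𝓞 K)) := (finite_over (K := K) v).toFinset with hs
  have hsmem : ∀ W, W ∈ s ↔ W.asIdeal.LiesOver v.asIdeal := by
    intro W
    rw [hs, Set.Finite.mem_toFinset]
    rfl
  -- the trace ideal
  set T : Ideal (𝓞 K) := LinearMap.range (Algebra.intTrace (𝓞 K) (𝓞 L)) with hT
  have hTW : ∀ W ∈ s, ¬ T ≤ W.asIdeal := by
    intro W hW hle
    have hWv := (hsmem W).1 hW
    obtain ⟨η, hη⟩ := exists_intTrace_notMem (L := L) W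
      (fun Q hQ hQW => hunr Q hQ (liesOver_trans v W hWv Q hQW))
    exact hη (hle ⟨η, rfl⟩)
  -- prime avoidance
  have havoid : ∃ t ∈ T, ∀ W ∈ s, t ∉ W.asIdeal := by
    by_contra hcon
    push Not at hcon
    rcases s.eq_empty_or_nonempty with hempty | ⟨W₀, hW₀⟩
    · obtain ⟨W, hW, _⟩ := hcon 0 T.zero_mem
      rw [hempty] at hW
      exact absurd hW (Finset.notMem_empty _)
    · have hsub : (T : Set (𝓞 K)) ⊆ ⋃ W ∈ (s : Set (HeightOneSpectrum (𝓞 K))), (W.asIdeal : Set (𝓞 K)) := by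
        intro t ht
        obtain ⟨W, hW, htW⟩ := hcon t ht
        exact Set.mem_biUnion (Finset.mem_coe.2 hW) htW
      obtain ⟨W, hW, hle⟩ := (Ideal.subset_union_prime (f := fun W : HeightOneSpectrum (𝓞 K) => W.asIdeal)
        W₀ W₀ (fun W _ _ _ => W.isPrime)).1 hsub
      exact hTW W hW hle
  obtain ⟨t, ⟨η₁, hη₁⟩, ht⟩ := havoid
  -- an integral primitive element
  obtain ⟨θ₀, hθ₀⟩ := Field.exists_primitive_element K L
  have halg : IsAlgebraic ℤ θ₀ := by
    have : IsAlgebraic ℚ θ₀ := Algebra.IsAlgebraic.isAlgebraic θ₀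
    exact (IsFractionRing.isAlgebraic_iff ℤ ℚ L).2 this
  obtain ⟨n, hn0, hnint⟩ := halg.exists_integral_multiple
  set θ : 𝓞 L := ⟨n • θ₀, hnint⟩ with hθ
  have hθL : (θ : L) = (n : K) • θ₀ := by
    change n • θ₀ = _
    rw [Int.cast_smul_eq_zsmul]
  have hnK : (n : K) ≠ 0 := by exact_mod_cast hn0
  have hθprim : K⟮(θ : L)⟯ = ⊤ := by
    rw [eq_top_iff, ← hθ₀]
    refine adjoin_simple_le_iff.2 ?_
    have h1 : (θ : L) ∈ K⟮(θ : L)⟯ := mem_adjoin_simple_self K _
    have := (K⟮(θ : L)⟯).smul_mem h1 (x := (n : K)⁻¹)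
    rw [hθL] at this ⊢
    rwa [smul_smul, inv_mul_cancel₀ hnK, one_smul] at this
  -- a nonzero element of `v`
  obtain ⟨p, hpv, hp0⟩ := Submodule.exists_mem_ne_zero_of_ne_bot v.ne_bot
  have hpK : algebraMap (𝓞 k) K p ≠ 0 := by
    intro h
    apply hp0
    exact FaithfulSMul.algebraMap_injective (𝓞 k) K (by rw [h, map_zero])
  have hbad := NFMainAux.finite_not_primitive (k := K) (η₁ : L) (θ : L) hθprim
  have hinj : Function.Injective (fun j : ℕ => algebraMap (𝓞 k) K p * (j : K)) := by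
    intro j j' h
    have := mul_left_cancel₀ hpK h
    exact_mod_cast this
  obtain ⟨j, hj⟩ := (hbad.preimage (hinj.injOn)).exists_notMem
  simp only [Set.mem_preimage, Set.mem_ofPred_eq, not_not] at hj
  set sj : K := algebraMap (𝓞 k) K p * (j : K) with hsj
  -- the element
  set η : 𝓞 L := η₁ + (algebraMap (𝓞 k) (𝓞 L) p * (j : 𝓞 L)) * θ with hη
  have hηL : (η : L) = (η₁ : L) + sj • (θ : L) := by
    rw [hη, hsj, Algebra.smul_def]
    simp only [map_add, map_mul, map_natCast]
    congr 3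
    rw [← IsScalarTower.algebraMap_apply (𝓞 k) (𝓞 L) L, IsScalarTower.algebraMap_apply (𝓞 k) k L,
      IsScalarTower.algebraMap_apply (𝓞 k) k K, ← IsScalarTower.algebraMap_apply k K L]
  refine ⟨η, by rw [hηL]; exact hj, fun W hW => ?_⟩
  have hWs : W ∈ s := (hsmem W).2 hW
  have h1 : W.valuation K (Algebra.trace K L (η₁ : L)) = 1 := by
    have : Algebra.trace K L (η₁ : L) = algebraMap (𝓞 K) K t := by
      rw [← hη₁, Algebra.algebraMap_intTrace (L := L)]
    rw [this, HeightOneSpectrum.valuation_eq_one_iff_notMem]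
    exact ht W hWs
  have h2 : W.valuation K (sj * Algebra.trace K L (θ : L)) < 1 := by
    have htr : Algebra.trace K L (θ : L) = algebraMap (𝓞 K) K (Algebra.intTrace (𝓞 K) (𝓞 L) θ) := by
      rw [Algebra.algebraMap_intTrace (L := L)]
    have hsjint : sj = algebraMap (𝓞 K) K (algebraMap (𝓞 k) (𝓞 K) p * (j : 𝓞 K)) := by
      rw [hsj, map_mul, map_natCast, ← IsScalarTower.algebraMap_apply]
    rw [htr, hsjint, ← map_mul, HeightOneSpectrum.valuation_lt_one_iff_mem]
    refine Ideal.mul_mem_right _ _ (Ideal.mul_mem_right _ _ ?_)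
    have : v.asIdeal = Ideal.comap (algebraMap (𝓞 k) (𝓞 K)) W.asIdeal := hW.over
    rw [this] at hpv
    exact hpv
  rw [hηL, map_add, map_smul, smul_eq_mul]
  rw [← h1]
  exact (W.valuation K).map_add_eq_of_lt_left (by rw [h1]; exact h2)

/-- residue classes of units at all places above `v` are norms of integers -/
theorem exists_norm_sub_lt_one (v : HeightOneSpectrum (𝓞 k))
    (hunr : ∀ Q : Ideal (𝓞 L), Q.IsPrime → Q.LiesOver v.asIdeal → Q.ramificationIdx (𝓞 K) = 1)
    (c : K) (hc : ∀ W : HeightOneSpectrum (𝓞 K), W.asIdeal.LiesOver v.asIdeal →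
      W.valuation K c = 1) :
    ∃ y : 𝓞 L, ∀ W : HeightOneSpectrum (𝓞 K), W.asIdeal.LiesOver v.asIdeal →
      W.valuation K (Algebra.norm K (y : L) - c) < 1 := by
  classical
  set s : Finset (HeightOneSpectrum (𝓞 K)) := (finite_over (K := K) v).toFinset with hs
  have hsmem : ∀ W, W ∈ s ↔ W.asIdeal.LiesOver v.asIdeal := by
    intro W
    rw [hs, Set.Finite.mem_toFinset]
    rfl
  -- local solutions
  have hloc : ∀ W : s, ∃ (a : 𝓞 K) (y : 𝓞 L), W.1.valuation K (algebraMap (𝓞 K) K a - c) < 1 ∧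
      Algebra.intNorm (𝓞 K) (𝓞 L) y - a ∈ W.1.asIdeal := by
    rintro ⟨W, hW⟩
    have hWv := (hsmem W).1 hW
    obtain ⟨a, ha⟩ := W.exists_valuation_sub_lt_of_integer (hc W hWv).le 1
    obtain ⟨y, hy⟩ := HWNperW.exists_intNorm_sub_mem (L := L) W
      (fun Q hQ hQW => hunr Q hQ (liesOver_trans v W hWv Q hQW)) a
    exact ⟨a, y, by simpa using ha, hy⟩
  choose a y ha hy using hloc
  -- CRT upstairs
  set I : s → Ideal (𝓞 L) := fun W => Ideal.map (algebraMap (𝓞 K) (𝓞 L)) W.1.asIdeal with hI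
  have hcop : Pairwise (Function.onFun IsCoprime I) := by
    intro W W' hne
    change IsCoprime (I W) (I W')
    rw [Ideal.isCoprime_iff_sup_eq, hI]
    simp only
    rw [← Ideal.map_sup]
    have hW : W.1.asIdeal.IsMaximal := W.1.isMaximal
    have hW' : W'.1.asIdeal.IsMaximal := W'.1.isMaximal
    have : W.1.asIdeal ⊔ W'.1.asIdeal = ⊤ := by
      refine Ideal.IsMaximal.coprime_of_ne hW hW' fun h => hne ?_
      exact Subtype.ext (HeightOneSpectrum.ext h)
    rw [this, Ideal.map_top]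
  obtain ⟨z, hz⟩ := Ideal.quotientInfToPiQuotient_surj hcop
    (fun W => Ideal.Quotient.mk (I W) (y W))
  obtain ⟨y₀, rfl⟩ := Ideal.Quotient.mk_surjective z
  have hy₀ : ∀ W : s, y₀ - y W ∈ I W := by
    intro W
    have := congrFun hz W
    rw [Ideal.quotientInfToPiQuotient_mk', Ideal.Quotient.eq] at this
    exact this
  refine ⟨y₀, fun W hWv => ?_⟩
  have hWs : W ∈ s := (hsmem W).2 hWv
  have hWmax : W.asIdeal.IsMaximal := W.isMaximal
  -- norms agree modulo `W`
  have hnorm : Algebra.intNorm (𝓞 K) (𝓞 L) y₀ - Algebra.intNorm (𝓞 K) (𝓞 L) (y ⟨W, hWs⟩) ∈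
      W.asIdeal := by
    rw [← Ideal.Quotient.eq, ← HWNormQuot.norm_quotient_eq_of_isDedekindDomain (𝓞 L) W.asIdeal,
      ← HWNormQuot.norm_quotient_eq_of_isDedekindDomain (𝓞 L) W.asIdeal]
    congr 1
    rw [Ideal.Quotient.eq]
    exact hy₀ ⟨W, hWs⟩
  have h1 : Algebra.intNorm (𝓞 K) (𝓞 L) y₀ - a ⟨W, hWs⟩ ∈ W.asIdeal := by
    have := W.asIdeal.add_mem hnorm (hy ⟨W, hWs⟩)
    rwa [sub_add_sub_cancel] at this
  have h2 : W.valuation K (algebraMap (𝓞 K) K (Algebra.intNorm (𝓞 K) (𝓞 L) y₀ - a ⟨W, hWs⟩)) < 1 :=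
    (HeightOneSpectrum.valuation_lt_one_iff_mem W _).2 h1
  have h3 : Algebra.norm K (y₀ : L) - c =
      algebraMap (𝓞 K) K (Algebra.intNorm (𝓞 K) (𝓞 L) y₀ - a ⟨W, hWs⟩) +
        (algebraMap (𝓞 K) K (a ⟨W, hWs⟩) - c) := by
    rw [map_sub, Algebra.algebraMap_intNorm (L := L)]
    ring
  rw [h3]
  exact lt_of_le_of_lt ((W.valuation K).map_add _ _) (max_lt h2 (ha ⟨W, hWs⟩))

open Polynomial in
/-- the coefficients of the minimal polynomial of an integer are integral -/
theorem val_minpoly_coeff_le_one (η : 𝓞 L) (W : HeightOneSpectrum (𝓞 K)) (i : ℕ) :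
    W.valuation K ((minpoly K (η : L)).coeff i) ≤ 1 := by
  have hint : IsIntegral (𝓞 K) (η : L) := by
    have : IsIntegral (𝓞 K) η := Algebra.IsIntegral.isIntegral η
    exact this.algebraMap
  rw [minpoly.isIntegrallyClosed_eq_field_fractions' K hint, coeff_map]
  exact W.valuation_le_one _

open scoped WithZero in
open Polynomial in
/-- finite level approximation of units by norms, at all places above an unramified `v` -/
theorem exists_norm_sub_le (v : HeightOneSpectrum (𝓞 k))
    (hunr : ∀ Q : Ideal (𝓞 L), Q.IsPrime → Q.LiesOver v.asIdeal → Q.ramificationIdx (𝓞 K) = 1)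
    (c : K) (hc : ∀ W : HeightOneSpectrum (𝓞 K), W.asIdeal.LiesOver v.asIdeal →
      W.valuation K c = 1) (N : ℕ) :
    ∃ y : L, ∀ W : HeightOneSpectrum (𝓞 K), W.asIdeal.LiesOver v.asIdeal →
      W.valuation K (Algebra.norm K y - c) ≤ WithZero.exp (-(N : ℤ)) := by
  classical
  obtain ⟨η, hηprim, hηtr⟩ := exists_primitive_trace_unit (K := K) (L := L) v hunr
  set f := minpoly K (η : L) with hf
  have hfmonic : f.Monic := minpoly.monic (IsIntegral.of_finite K _)
  set n := f.natDegree with hn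
  have hnpos : 0 < n := minpoly.natDegree_pos (IsIntegral.of_finite K _)
  have hfint : ∀ W : HeightOneSpectrum (𝓞 K), ∀ i, W.valuation K (f.coeff i) ≤ 1 :=
    fun W i => val_minpoly_coeff_le_one η W i
  -- the trace is minus the next coefficient
  have htrace : Algebra.trace K L (η : L) = -f.coeff (n - 1) := by
    have h := PowerBasis.trace_gen_eq_nextCoeff_minpoly (NFHensel.pbOfPrimitive (η : L) hηprim)
    rw [NFHensel.pbOfPrimitive_gen] at h
    rw [h, nextCoeff, if_neg hnpos.ne']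
  induction N with
  | zero =>
    obtain ⟨y, hy⟩ := exists_norm_sub_lt_one (K := K) (L := L) v hunr c hc
    refine ⟨y, fun W hW => ?_⟩
    simp only [CharP.cast_eq_zero, neg_zero, WithZero.exp_zero]
    exact (hy W hW).le
  | succ N ih =>
    rcases Nat.eq_zero_or_pos N with rfl | hNpos
    · obtain ⟨y, hy⟩ := exists_norm_sub_lt_one (K := K) (L := L) v hunr c hc
      refine ⟨y, fun W hW => ?_⟩
      have := hy W hW
      rw [NFHensel.lt_one_iff_le_exp_neg_one] at this
      simpa using this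
    obtain ⟨y, hy⟩ := ih
    set ν := Algebra.norm K y with hν
    -- there is a place above `v`, so `ν ≠ 0`; otherwise everything is vacuous
    by_cases hex : ∃ W : HeightOneSpectrum (𝓞 K), W.asIdeal.LiesOver v.asIdeal
    swap
    · exact ⟨y, fun W hW => absurd ⟨W, hW⟩ hex⟩
    obtain ⟨W₀, hW₀⟩ := hex
    have hν1 : ∀ W : HeightOneSpectrum (𝓞 K), W.asIdeal.LiesOver v.asIdeal →
        W.valuation K ν = 1 := by
      intro W hW
      have h1 : W.valuation K (ν - c) < 1 := lt_of_le_of_lt (hy W hW) (by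
        rw [← WithZero.exp_zero, WithZero.exp_lt_exp]
        omega)
      have h2 : ν = (ν - c) + c := by ring
      rw [h2, ← hc W hW]
      exact (W.valuation K).map_add_eq_of_lt_right (by rw [hc W hW]; exact h1)
    have hν0 : ν ≠ 0 := by
      intro h
      have := hν1 W₀ hW₀
      rw [h, map_zero] at this
      exact zero_ne_one this
    set τ := Algebra.trace K L (η : L) with hτ
    have hτ0 : τ ≠ 0 := by
      intro h
      have := hηtr W₀ hW₀
      rw [h, map_zero] at this
      exact zero_ne_one this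
    set ε : K := (c - ν) / ν with hε
    set κ : K := ε / τ with hκ
    have hκval : ∀ W : HeightOneSpectrum (𝓞 K), W.asIdeal.LiesOver v.asIdeal →
        W.valuation K κ ≤ WithZero.exp (-(N : ℤ)) := by
      intro W hW
      rw [hκ, hε, map_div₀, map_div₀, hν1 W hW, hηtr W hW, div_one, div_one,
        Valuation.map_sub_swap]
      exact hy W hW
    -- the new element
    refine ⟨y * (algebraMap K L 1 - (-κ) • (η : L)), fun W hW => ?_⟩
    rw [map_mul, NFHensel.norm_sub_smul (η : L) hηprim 1 (-κ), ← hf, ← hν]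
    -- expand the norm form
    obtain ⟨m, hm⟩ : ∃ m, n = m + 1 := ⟨n - 1, by omega⟩
    have hexp : NFHensel.normForm f 1 (-κ) =
        (∑ i ∈ Finset.range m, f.coeff i * (-κ) ^ (n - i)) + κ * τ + 1 := by
      rw [NFHensel.normForm, ← hn, hm, Finset.sum_range_succ, Finset.sum_range_succ]
      have h1 : f.coeff (m + 1) = 1 := by
        rw [← hm, hn]; exact hfmonic.coeff_natDegree
      have h2 : f.coeff m = -τ := by
        rw [htrace, hm, Nat.add_sub_cancel, neg_neg]
      rw [h1, h2]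
      simp only [one_pow, mul_one, Nat.sub_self, pow_zero, Nat.add_sub_cancel_left, pow_one]
      ring
    set ρ := ∑ i ∈ Finset.range m, f.coeff i * (-κ) ^ (n - i) with hρ
    have hκτ : κ * τ = ε := by
      rw [hκ]; field_simp
    have hfinal : ν * NFHensel.normForm f 1 (-κ) - c = ν * ρ := by
      rw [hexp, hκτ, hε]
      field_simp
      ring
    rw [hfinal, map_mul, hν1 W hW, one_mul]
    -- estimate `ρ`
    have hκ1 : W.valuation K (-κ) ≤ 1 := by
      rw [Valuation.map_neg]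
      refine (hκval W hW).trans ?_
      rw [← WithZero.exp_zero, WithZero.exp_le_exp]
      omega
    refine (W.valuation K).map_sum_le fun i hi => ?_
    have hi' := Finset.mem_range.1 hi
    rw [map_mul, map_pow]
    obtain ⟨r, hr⟩ : ∃ r, n - i = r + 2 := ⟨n - i - 2, by omega⟩
    rw [hr, pow_add]
    calc W.valuation K (f.coeff i) * (W.valuation K (-κ) ^ r * W.valuation K (-κ) ^ 2)
        ≤ 1 * (1 * W.valuation K (-κ) ^ 2) := by
          gcongr
          · exact hfint W i
          · exact pow_le_one' hκ1 r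
      _ = W.valuation K κ ^ 2 := by rw [one_mul, one_mul, Valuation.map_neg]
      _ ≤ WithZero.exp (-(N : ℤ)) ^ 2 := by
          gcongr
          exact hκval W hW
      _ ≤ WithZero.exp (-((N + 1 : ℕ) : ℤ)) := by
          rw [← WithZero.exp_nsmul, WithZero.exp_le_exp]
          push_cast
          simp only [nsmul_eq_mul]
          omega

end global

end Groth.Agent.Lib.helper12.HWUnitNorm
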