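import Mathlib
set_option linter.style.haveILetI false
set_option linter.unusedSectionVars false

namespace Groth.Agent.Lib.helper12.NFNormForm

open scoped TensorProduct

variable {K K' L : Type*} [Field K] [Field K'] [Algebra K K'] [Field L] [Algebra K L]
  [FiniteDimensional K L]

theorem norm_one_tmul (x : L) :
    Algebra.norm K' ((1 : K') ⊗ₜ[K] x) = algebraMap K K' (Algebra.norm K x) := by
  rw [Algebra.norm_apply, Algebra.norm_apply, ← LinearMap.det_baseChange]
  congr 1
  ext y
  simp [Algebra.TensorProduct.tmul_mul_tmul]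

variable [TopologicalSpace K'] [IsTopologicalRing K']

theorem continuous_norm_sum {n : ℕ} (B : Module.Basis (Fin n) K' (K' ⊗[K] L)) :
    Continuous fun a : Fin n → K' => Algebra.norm K' (∑ i, a i • B i) := by
  have h1 : ∀ a : Fin n → K', Algebra.norm K' (∑ i, a i • B i) =
      (∑ i, a i • Algebra.leftMulMatrix B (B i)).det := by
    intro a
    rw [Algebra.norm_eq_matrix_det B, map_sum]
    simp_rw [map_smul]
  simp_rw [h1]
  refine Continuous.matrix_det ?_
  refine continuous_finsetSum _ fun i _ => ?_
  exact (continuous_apply i).smul continuous_const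

theorem exists_open_nhd_norm {n : ℕ} (b : Module.Basis (Fin n) K L) (x : K' ⊗[K] L) (U : Set K')
    (hU : IsOpen U) (hx : Algebra.norm K' x ∈ U) :
    ∃ V : Fin n → Set K', (∀ i, IsOpen (V i)) ∧ (∀ i, (V i).Nonempty) ∧
      ∀ c : Fin n → K, (∀ i, algebraMap K K' (c i) ∈ V i) →
        algebraMap K K' (Algebra.norm K (∑ i, c i • b i)) ∈ U := by
  classical
  set B := Algebra.TensorProduct.basis K' b with hB
  set F : (Fin n → K') → K' := fun a => Algebra.norm K' (∑ i, a i • B i) with hF
  have hFc : Continuous F := continuous_norm_sum B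
  set a₀ : Fin n → K' := fun i => B.repr x i with ha₀
  have hFa₀ : F a₀ ∈ U := by
    have : ∑ i, a₀ i • B i = x := B.sum_repr x
    simp only [hF, this]
    exact hx
  have hopen : IsOpen (F ⁻¹' U) := hU.preimage hFc
  obtain ⟨I, u, hu, hsub⟩ := isOpen_pi_iff.1 hopen a₀ hFa₀
  refine ⟨fun i => if i ∈ I then u i else Set.univ, fun i => ?_, fun i => ?_, fun c hc => ?_⟩
  · by_cases hi : i ∈ I
    · simp only [hi, if_true]; exact (hu i hi).1
    · simp only [hi, if_false]; exact isOpen_univ
  · by_cases hi : i ∈ I
    · simp only [hi, if_true]; exact ⟨a₀ i, (hu i hi).2⟩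
    · simp only [hi, if_false]; exact Set.univ_nonempty
  · have hmem : (fun i => algebraMap K K' (c i)) ∈ (I : Set (Fin n)).pi u := by
      intro i hi
      have := hc i
      simp only [Finset.mem_coe.1 hi, if_true] at this
      exact this
    have h1 := hsub hmem
    simp only [Set.mem_preimage, hF] at h1
    have h2 : ∑ i, algebraMap K K' (c i) • B i = (1 : K') ⊗ₜ[K] (∑ i, c i • b i) := by
      rw [TensorProduct.tmul_sum]
      refine Finset.sum_congr rfl fun i _ => ?_
      rw [hB, Algebra.TensorProduct.basis_apply, TensorProduct.tmul_smul, Algebra.smul_def]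
      rw [Algebra.TensorProduct.algebraMap_apply, Algebra.TensorProduct.tmul_mul_tmul]
      simp [Algebra.smul_def]
    rw [h2, norm_one_tmul] at h1
    exact h1

end Groth.Agent.Lib.helper12.NFNormForm
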