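import Mathlib
import Groth.Agent.Lib.Helper12.NFHensel
import Groth.Agent.Lib.Helper12.NFStrongApprox
import Groth.Agent.Lib.Helper12.NFApproxLocal
import Groth.Agent.Lib.Helper12.NFNormForm
set_option linter.style.haveILetI false
set_option linter.unusedSectionVars false

namespace Groth.Agent.Lib.helper12.NFMain
open IsDedekindDomain HeightOneSpectrum NumberField NumberField.InfinitePlace IntermediateField Polynomial
open scoped WithZero NNReal

section prim
/-- all but finitely many members of a pencil through a primitive element are primitive -/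
theorem finite_not_primitive {k L : Type*} [Field k] [Field L] [Algebra k L]
    [FiniteDimensional k L] [Algebra.IsSeparable k L] (x₀ θ : L) (hθ : k⟮θ⟯ = ⊤) :
    {s : k | k⟮x₀ + s • θ⟯ ≠ ⊤}.Finite := by
  classical
  have hfin : Finite (IntermediateField k L) :=
    Field.finite_intermediateField_of_exists_primitive_element k L (Field.exists_primitive_element k L)
  have hsub : {s : k | k⟮x₀ + s • θ⟯ ≠ ⊤} ⊆
      ⋃ F ∈ {F : IntermediateField k L | F ≠ ⊤}, {s : k | x₀ + s • θ ∈ F} := by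
    intro s hs
    simp only [Set.mem_iUnion]
    exact ⟨k⟮x₀ + s • θ⟯, hs, mem_adjoin_simple_self k _⟩
  refine Set.Finite.subset ?_ hsub
  refine Set.Finite.biUnion (Set.toFinite _) fun F hF => ?_
  refine Set.Subsingleton.finite ?_
  intro s hs s' hs'
  by_contra hne
  apply hF
  have h1 : (s - s') • θ ∈ F := by
    have := F.sub_mem hs hs'
    simpa [sub_smul] using this
  have h2 : θ ∈ F := by
    have := F.smul_mem h1 (x := (s - s')⁻¹)
    rwa [smul_smul, inv_mul_cancel₀ (sub_ne_zero.2 hne), one_smul] at this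
  rw [eq_top_iff, ← hθ]
  exact adjoin_simple_le_iff.2 h2


end prim

section small
variable {K : Type*} [Field K] [NumberField K] (v₀ : HeightOneSpectrum (𝓞 K))

theorem exists_integer_val_le (T : Finset (HeightOneSpectrum (𝓞 K))) (n : ℕ) :
    ∃ α : 𝓞 K, α ≠ 0 ∧ ∀ v ∈ T, v.valuation K (α : K) ≤ WithZero.exp (-(n : ℤ)) := by
  classical
  have hπ : ∀ v : HeightOneSpectrum (𝓞 K), ∃ π : 𝓞 K, π ≠ 0 ∧ π ∈ v.asIdeal := by
    intro v
    obtain ⟨π, hπ, hπ0⟩ := Submodule.exists_mem_ne_zero_of_ne_bot v.ne_bot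
    exact ⟨π, hπ0, hπ⟩
  choose π hπ0 hπmem using hπ
  refine ⟨(∏ v ∈ T, π v) ^ n, pow_ne_zero _ (Finset.prod_ne_zero_iff.2 fun v _ => hπ0 v), ?_⟩
  intro v hv
  rw [RingOfIntegers.coe_eq_algebraMap, valuation_of_algebraMap, intValuation_le_pow_iff_mem]
  refine Ideal.pow_mem_pow ?_ n
  rw [← Finset.mul_prod_erase T π hv]
  exact Ideal.mul_mem_right _ _ (hπmem v)

/-- a nonzero element of `K`, small at the places of `T` and at all infinite places -/
theorem exists_small_ne_zero (T : Finset (HeightOneSpectrum (𝓞 K))) (hT : v₀ ∉ T) (n : ℕ)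
    (δ : ℝ) (hδ : 0 < δ) :
    ∃ η : K, η ≠ 0 ∧ (∀ v ∈ T, v.valuation K η ≤ WithZero.exp (-(n : ℤ))) ∧
      ∀ w : InfinitePlace K, w η < δ := by
  classical
  obtain ⟨α, hα0, hαT⟩ := exists_integer_val_le T n
  set A : ℝ := 1 + ∑ w : InfinitePlace K, w (α : K) with hA
  have hA0 : 0 < A := by
    have : 0 ≤ ∑ w : InfinitePlace K, w (α : K) := Finset.sum_nonneg fun w _ => apply_nonneg _ _
    linarith
  have hAw : ∀ w : InfinitePlace K, w (α : K) ≤ A := by
    intro w
    have := Finset.single_le_sum (f := fun w' : InfinitePlace K => w' (α : K))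
      (fun w' _ => apply_nonneg _ _) (Finset.mem_univ w)
    linarith
  obtain ⟨e, he0, hew, hev⟩ := NFStrongApprox.exists_small v₀ (δ / A) (by positivity)
  have hαK : (α : K) ≠ 0 := by simpa using hα0
  refine ⟨(α : K) * e, mul_ne_zero hαK he0, fun v hv => ?_, fun w => ?_⟩
  · have hv0 : v ≠ v₀ := fun h => hT (h ▸ hv)
    rw [map_mul]
    calc v.valuation K (α : K) * v.valuation K e ≤ v.valuation K (α : K) * 1 := by
          gcongr
          exact hev v hv0
      _ = v.valuation K (α : K) := mul_one _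
      _ ≤ _ := hαT v hv
  · rw [map_mul]
    calc w (α : K) * w e ≤ A * w e := by
          gcongr
          exact hAw w
      _ < A * (δ / A) := by
          gcongr
          exact hew w
      _ = δ := by field_simp


variable {L : Type*} [Field L] [NumberField L] [Algebra K L]

/-- simultaneous approximation by a primitive element -/
theorem exists_primitive_approx {n : ℕ} (b : Module.Basis (Fin n) K L)
    (Sf : Finset (HeightOneSpectrum (𝓞 K))) (hv₀ : v₀ ∉ Sf) (Si : Finset (InfinitePlace K))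
    (Vf : ∀ v : HeightOneSpectrum (𝓞 K), Fin n → Set (v.adicCompletion K))
    (hVf : ∀ v ∈ Sf, ∀ i, IsOpen (Vf v i) ∧ (Vf v i).Nonempty)
    (Vi : ∀ w : InfinitePlace K, Fin n → Set w.Completion)
    (hVi : ∀ w ∈ Si, ∀ i, IsOpen (Vi w i) ∧ (Vi w i).Nonempty) :
    ∃ c : Fin n → K, K⟮∑ i, c i • b i⟯ = ⊤ ∧
      (∀ v ∈ Sf, ∀ i, algebraMap K (v.adicCompletion K) (c i) ∈ Vf v i) ∧
      (∀ w ∈ Si, ∀ i, algebraMap K w.Completion (c i) ∈ Vi w i) := by
  classical
  -- first approximation
  have hc0 : ∀ i : Fin n, ∃ a : K, (∀ v ∈ Sf, algebraMap K (v.adicCompletion K) a ∈ Vf v i) ∧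
      (∀ w ∈ Si, algebraMap K w.Completion a ∈ Vi w i) := by
    intro i
    obtain ⟨a, h1, h2, -⟩ := NFApproxLocal.strong_approx_local v₀ Sf hv₀ Si (fun v => Vf v i)
      (fun v hv => hVf v hv i) (fun w => Vi w i) (fun w hw => hVi w hw i)
    exact ⟨a, h1, h2⟩
  choose c0 hc0f hc0i using hc0
  obtain ⟨θ, hθ⟩ := Field.exists_primitive_element K L
  set θc : Fin n → K := fun i => b.repr θ i with hθc
  -- radii
  have hρf : ∀ v ∈ Sf, ∃ ρ > 0, ∀ t : v.adicCompletion K, ‖t‖ < ρ → ∀ i,
      algebraMap K (v.adicCompletion K) (c0 i) + t * algebraMap K (v.adicCompletion K) (θc i) ∈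
        Vf v i := by
    intro v hv
    set W : Set (v.adicCompletion K) := ⋂ i, (fun t => algebraMap K (v.adicCompletion K) (c0 i) +
      t * algebraMap K (v.adicCompletion K) (θc i)) ⁻¹' (Vf v i) with hW
    have hWo : IsOpen W := by
      refine isOpen_iInter_of_finite fun i => ?_
      exact (hVf v hv i).1.preimage (by fun_prop)
    have h0 : (0 : v.adicCompletion K) ∈ W := by
      simp only [hW, Set.mem_iInter, Set.mem_preimage, zero_mul, add_zero]
      exact fun i => hc0f i v hv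
    obtain ⟨ρ, hρ, hball⟩ := Metric.isOpen_iff.1 hWo 0 h0
    refine ⟨ρ, hρ, fun t ht i => ?_⟩
    have : t ∈ W := hball (by simpa using ht)
    simp only [hW, Set.mem_iInter, Set.mem_preimage] at this
    exact this i
  have hρi : ∀ w ∈ Si, ∃ ρ > 0, ∀ t : w.Completion, ‖t‖ < ρ → ∀ i,
      algebraMap K w.Completion (c0 i) + t * algebraMap K w.Completion (θc i) ∈ Vi w i := by
    intro w hw
    set W : Set w.Completion := ⋂ i, (fun t => algebraMap K w.Completion (c0 i) +
      t * algebraMap K w.Completion (θc i)) ⁻¹' (Vi w i) with hW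
    have hWo : IsOpen W := by
      refine isOpen_iInter_of_finite fun i => ?_
      exact (hVi w hw i).1.preimage (by fun_prop)
    have h0 : (0 : w.Completion) ∈ W := by
      simp only [hW, Set.mem_iInter, Set.mem_preimage, zero_mul, add_zero]
      exact fun i => hc0i i w hw
    obtain ⟨ρ, hρ, hball⟩ := Metric.isOpen_iff.1 hWo 0 h0
    refine ⟨ρ, hρ, fun t ht i => ?_⟩
    have : t ∈ W := hball (by simpa using ht)
    simp only [hW, Set.mem_iInter, Set.mem_preimage] at this
    exact this i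
  obtain ⟨ρ₁, hρ₁, hρ₁f⟩ := NFApproxLocal.exists_pos_forall_finset Sf
    (fun v ρ => ∀ t : v.adicCompletion K, ‖t‖ < ρ → ∀ i,
      algebraMap K (v.adicCompletion K) (c0 i) + t * algebraMap K (v.adicCompletion K) (θc i) ∈
        Vf v i) hρf (fun v ε ε' hle _ h t ht => h t (ht.trans_le hle))
  obtain ⟨ρ₂, hρ₂, hρ₂i⟩ := NFApproxLocal.exists_pos_forall_finset Si
    (fun w ρ => ∀ t : w.Completion, ‖t‖ < ρ → ∀ i,
      algebraMap K w.Completion (c0 i) + t * algebraMap K w.Completion (θc i) ∈ Vi w i)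
    hρi (fun w ε ε' hle _ h t ht => h t (ht.trans_le hle))
  set ρ : ℝ := min 1 (min ρ₁ ρ₂) with hρdef
  have hρ0 : 0 < ρ := lt_min one_pos (lt_min hρ₁ hρ₂)
  have hρ1 : ρ ≤ 1 := min_le_left _ _
  have hρle₁ : ρ ≤ ρ₁ := (min_le_right _ _).trans (min_le_left _ _)
  have hρle₂ : ρ ≤ ρ₂ := (min_le_right _ _).trans (min_le_right _ _)
  obtain ⟨n₀, hn₀⟩ : ∃ n₀ : ℕ, ((1 : ℝ) / 2) ^ n₀ < ρ := exists_pow_lt_of_lt_one hρ0 (by norm_num)
  obtain ⟨η, hη0, hηf, hηi⟩ := exists_small_ne_zero v₀ Sf hv₀ n₀ ρ hρ0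
  -- the pencil
  set x₀ : L := ∑ i, c0 i • b i with hx₀
  have hbad := finite_not_primitive (k := K) x₀ θ hθ
  have hinj : Function.Injective fun j : ℕ => η ^ (j + 1) := by
    obtain ⟨w⟩ : Nonempty (InfinitePlace K) := inferInstance
    have hw0 : 0 < w η := pos_iff.2 hη0
    have hw1 : w η < 1 := (hηi w).trans_le hρ1
    intro i j hij
    have h := congrArg w hij
    simp only [map_pow] at h
    have := (pow_right_strictAnti₀ hw0 hw1).injective h
    omega
  obtain ⟨s, ⟨j, rfl⟩, hs⟩ := (Set.infinite_range_of_injective hinj).exists_notMem_finite hbad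
  simp only [Set.mem_ofPred_eq, ne_eq, not_not] at hs
  refine ⟨fun i => c0 i + η ^ (j + 1) * θc i, ?_, ?_, ?_⟩
  · have hsum : ∑ i, (c0 i + η ^ (j + 1) * θc i) • b i = x₀ + η ^ (j + 1) • θ := by
      simp only [add_smul, mul_smul, Finset.sum_add_distrib, ← Finset.smul_sum]
      rw [hx₀]
      congr 2
      exact b.sum_repr θ
    rw [hsum]
    exact hs
  · intro v hv i
    rw [map_add, map_mul]
    refine hρ₁f v hv _ (lt_of_lt_of_le ?_ hρle₁) i
    have h1 : v.valuation K (η ^ (j + 1)) ≤ WithZero.exp (-(n₀ : ℤ)) := by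
      rw [map_pow]
      calc v.valuation K η ^ (j + 1) ≤ v.valuation K η ^ 1 := by
            refine pow_le_pow_right_of_le_one' ?_ (by omega)
            refine (hηf v hv).trans ?_
            rw [← WithZero.exp_zero, WithZero.exp_le_exp]
            omega
        _ = v.valuation K η := pow_one _
        _ ≤ _ := hηf v hv
    have h2 := NFApproxLocal.norm_finite_coe_sub_le v (η ^ (j + 1)) 0 n₀ (by simpa using h1)
    rw [map_zero, sub_zero] at h2
    refine h2.trans_lt (lt_of_le_of_lt ?_ hn₀)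
    have h3 : (2 : ℝ) ≤ Ideal.absNorm v.asIdeal := by
      exact_mod_cast NumberField.HeightOneSpectrum.one_lt_absNorm v
    gcongr
    rw [one_div]
    exact inv_anti₀ (by norm_num) h3
  · intro w hw i
    rw [map_add, map_mul]
    refine hρ₂i w hw _ (lt_of_lt_of_le ?_ hρle₂) i
    have h2 := NFApproxLocal.norm_infinite_coe_sub w (η ^ (j + 1)) 0
    rw [map_zero, sub_zero, sub_zero] at h2
    rw [h2, map_pow]
    calc w η ^ (j + 1) ≤ w η ^ 1 := by
          refine pow_le_pow_of_le_one (apply_nonneg _ _) ((hηi w).le.trans hρ1) (by omega)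
      _ = w η := pow_one _
      _ < ρ := hηi w


end small

section general

theorem exists_nhds_normForm {k K' : Type*} [Field k] [Field K'] [Algebra k K'] [TopologicalSpace K']
    [IsTopologicalRing K'] (f : k[X]) (U : Set K') (hU : IsOpen U) (c₀ d₀ : k)
    (h : algebraMap k K' (NFHensel.normForm f c₀ d₀) ∈ U) :
    ∃ C D : Set K', IsOpen C ∧ IsOpen D ∧ algebraMap k K' c₀ ∈ C ∧ algebraMap k K' d₀ ∈ D ∧
      ∀ c d : k, algebraMap k K' c ∈ C → algebraMap k K' d ∈ D →
        algebraMap k K' (NFHensel.normForm f c d) ∈ U := by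
  set Φ : K' × K' → K' := fun p => ∑ i ∈ Finset.range (f.natDegree + 1),
    algebraMap k K' (f.coeff i) * p.1 ^ i * p.2 ^ (f.natDegree - i) with hΦ
  have hΦc : Continuous Φ := by
    refine continuous_finsetSum _ fun i _ => ?_
    fun_prop
  have hΦeq : ∀ c d : k, Φ (algebraMap k K' c, algebraMap k K' d) =
      algebraMap k K' (NFHensel.normForm f c d) := by
    intro c d
    simp only [hΦ, NFHensel.normForm, map_sum, map_mul, map_pow]
  have hopen : IsOpen (Φ ⁻¹' U) := hU.preimage hΦc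
  have hmem : (algebraMap k K' c₀, algebraMap k K' d₀) ∈ Φ ⁻¹' U := by
    rw [Set.mem_preimage, hΦeq]
    exact h
  obtain ⟨C, D, hC, hD, hc, hd, hsub⟩ := isOpen_prod_iff.1 hopen _ _ hmem
  refine ⟨C, D, hC, hD, hc, hd, fun c d hc' hd' => ?_⟩
  have := hsub (Set.mk_mem_prod hc' hd')
  rwa [Set.mem_preimage, hΦeq] at this

theorem exists_exp_gt (γ : ℤᵐ⁰) : ∃ m : ℕ, γ < WithZero.exp (m : ℤ) := by
  rcases eq_or_ne γ 0 with rfl | h
  · exact ⟨0, by simp⟩
  · refine ⟨(WithZero.log γ + 1).toNat, ?_⟩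
    rw [← WithZero.log_lt_iff_lt_exp h]
    have := Int.self_le_toNat (WithZero.log γ + 1)
    omega

theorem exists_exp_gt_finset {ι : Type*} (s : Finset ι) (γ : ι → ℤᵐ⁰) :
    ∃ m : ℕ, ∀ i ∈ s, γ i < WithZero.exp (m : ℤ) := by
  classical
  choose m hm using fun i => exists_exp_gt (γ i)
  refine ⟨s.sup m, fun i hi => (hm i).trans_le ?_⟩
  rw [WithZero.exp_le_exp]
  exact_mod_cast Finset.le_sup hi

end general

variable {K : Type*} [Field K] [NumberField K]

theorem val_le_of_mem_ball (v : HeightOneSpectrum (𝓞 K)) (d : K) (m : ℕ)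
    (h : algebraMap K (v.adicCompletion K) d ∈
      Metric.ball (0 : v.adicCompletion K) (((Ideal.absNorm v.asIdeal : ℝ)⁻¹) ^ m)) :
    v.valuation K d ≤ WithZero.exp (-(m : ℤ)) := by
  rw [Metric.mem_ball, dist_zero_right] at h
  have h1 := (NFHensel.norm_le_pow_iff v _ m).1 h.le
  change Valued.v ((d : K) : v.adicCompletion K) ≤ _ at h1
  rwa [valuedAdicCompletion_eq_valuation'] at h1

theorem val_eq_one_of_mem_ball (v : HeightOneSpectrum (𝓞 K)) (c : K)
    (h : algebraMap K (v.adicCompletion K) c ∈ Metric.ball (1 : v.adicCompletion K) 1) :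
    v.valuation K c = 1 := by
  rw [Metric.mem_ball, dist_eq_norm, Valued.toNormedField.norm_lt_one_iff, ← map_one (algebraMap K _),
    ← map_sub] at h
  change Valued.v ((c - 1 : K) : v.adicCompletion K) < 1 at h
  rw [valuedAdicCompletion_eq_valuation'] at h
  have : c = 1 + (c - 1) := by ring
  rw [this]
  exact Valuation.map_one_add_of_lt _ h


end Groth.Agent.Lib.helper12.NFMain
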