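import Mathlib
import Groth.Agent.Lib.Helper12.NFHensel
import Groth.Agent.Lib.Helper12.NFMain
import Groth.Agent.Lib.Helper12.HWLocInt
import Groth.Agent.Lib.Helper12.HWUnitNorm
import Groth.Agent.Lib.Helper12.HWRelNorm
import Groth.Agent.Lib.Helper12.HWValOver
set_option linter.style.haveILetI false
set_option linter.unusedSectionVars false

namespace Groth.Agent.Lib.helper12.HWFunc
open scoped TensorProduct Topology WithZero
open IsDedekindDomain HeightOneSpectrum NumberField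

section ext
variable {k : Type*} [Field k] (F : Type*) [Field F] [Algebra k F] {K : Type*} [Field K]
  [Algebra k K]

/-- extension of a `k`-linear functional on `K` to `F ⊗ K` -/
noncomputable def extF (φ : K →ₗ[k] k) : F ⊗[k] K →ₗ[F] F :=
  (TensorProduct.AlgebraTensorModule.rid k F F).toLinearMap ∘ₗ φ.baseChange F

theorem extF_tmul (φ : K →ₗ[k] k) (c : F) (y : K) :
    extF F φ (c ⊗ₜ y) = c * algebraMap k F (φ y) := by
  simp [extF, Algebra.smul_def, mul_comm]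

theorem extF_one_tmul (φ : K →ₗ[k] k) (y : K) :
    extF F φ ((1 : F) ⊗ₜ y) = algebraMap k F (φ y) := by
  rw [extF_tmul, one_mul]

theorem isOpen_extF_pi [TopologicalSpace F] [IsTopologicalRing F] {ι : Type*}
    (φ : ι → K →ₗ[k] k) (O : Set (ι → F)) (hO : IsOpen O) :
    IsOpen[moduleTopology F (F ⊗[k] K)] {z | (fun j => extF F (φ j) z) ∈ O} := by
  letI : TopologicalSpace (F ⊗[k] K) := moduleTopology F _
  haveI : IsModuleTopology F (F ⊗[k] K) := ⟨rfl⟩
  have hc : Continuous (fun z : F ⊗[k] K => fun j => extF F (φ j) z) :=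
    continuous_pi fun j => IsModuleTopology.continuous_of_linearMap _
  exact hO.preimage hc

end ext

section localS
variable {k : Type*} [Field k] (F : Type*) [Field F] [Algebra k F] [TopologicalSpace F]
  [IsTopologicalDivisionRing F] [T1Space F]

/-- local neighbourhood at a place of `S`, one field of degree two -/
theorem exists_local_SB {K : Type*} [Field K] [Algebra k K]
    (φ : Fin 2 → K →ₗ[k] k) (a b : K) (hφb0 : φ 0 b = 1) (hφb1 : φ 1 b = 0)
    (hφba0 : φ 0 (b * a) = 0) (hφba1 : φ 1 (b * a) = 1)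
    (t : F) (U : Set F) (hU : IsOpen U) (ht : t ∈ U) :
    ∃ Ω : Set (F ⊗[k] K), IsOpen[moduleTopology F (F ⊗[k] K)] Ω ∧
      ((1 : F) ⊗ₜ[k] b * (t ⊗ₜ[k] (1 : K) - (1 : F) ⊗ₜ[k] a)) ∈ Ω ∧
      ∀ u : K, (1 : F) ⊗ₜ[k] u ∈ Ω → algebraMap k F (φ 1 u) ≠ 0 ∧
        -(algebraMap k F (φ 0 u)) / algebraMap k F (φ 1 u) ∈ U := by
  set O : Set (Fin 2 → F) := {p | p 1 ≠ 0 ∧ -(p 0) / p 1 ∈ U} with hO
  have hOopen : IsOpen O := by
    rw [isOpen_iff_mem_nhds]
    rintro p ⟨hp1, hpU⟩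
    have hc : ContinuousAt (fun p : Fin 2 → F => -(p 0) / p 1) p :=
      ContinuousAt.div₀ (continuous_apply 0).neg.continuousAt (continuous_apply 1).continuousAt hp1
    have h1 : {p : Fin 2 → F | p 1 ≠ 0} ∈ nhds p :=
      (isOpen_ne.preimage (continuous_apply 1)).mem_nhds hp1
    have h2 := hc.preimage_mem_nhds (hU.mem_nhds hpU)
    filter_upwards [h1, h2] with q hq1 hq2
    exact ⟨hq1, hq2⟩
  refine ⟨{z | (fun j => extF F (φ j) z) ∈ O}, isOpen_extF_pi F φ O hOopen, ?_, fun u hu => ?_⟩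
  · have hz : ((1 : F) ⊗ₜ[k] b * (t ⊗ₜ[k] (1 : K) - (1 : F) ⊗ₜ[k] a)) =
        t ⊗ₜ[k] b - (1 : F) ⊗ₜ[k] (b * a) := by
      rw [mul_sub, Algebra.TensorProduct.tmul_mul_tmul, Algebra.TensorProduct.tmul_mul_tmul,
        one_mul, mul_one, one_mul]
    rw [Set.mem_ofPred_eq, hO, Set.mem_ofPred_eq, hz]
    simp only [map_sub, extF_tmul, hφb0, hφb1, hφba0, hφba1, map_one, map_zero, mul_one, mul_zero,
      sub_zero, zero_sub]
    refine ⟨by simp, ?_⟩
    rw [neg_div_neg_eq, div_one]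
    exact ht
  · rw [Set.mem_ofPred_eq, hO, Set.mem_ofPred_eq] at hu
    simpa only [extF_one_tmul] using hu

/-- local neighbourhood at a place of `S`, one field of degree one -/
theorem exists_local_SA {K : Type*} [Field K] [Algebra k K]
    (φ : K →ₗ[k] k) (a b : K) (α : k) (hφb : φ b = 1) (hφba : φ (b * a) = α)
    (t : F) (U : Set F) (hU : IsOpen U) (ht : t ∈ U) :
    ∃ Ω : Set (F ⊗[k] K), IsOpen[moduleTopology F (F ⊗[k] K)] Ω ∧
      ((1 : F) ⊗ₜ[k] b * (t ⊗ₜ[k] (1 : K) - (1 : F) ⊗ₜ[k] a)) ∈ Ω ∧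
      ∀ u : K, (1 : F) ⊗ₜ[k] u ∈ Ω → algebraMap k F (φ u) + algebraMap k F α ∈ U := by
  set O : Set (Fin 1 → F) := {p | p 0 + algebraMap k F α ∈ U} with hO
  have hOopen : IsOpen O :=
    hU.preimage ((continuous_apply 0).add continuous_const)
  refine ⟨{z | (fun _ => extF F φ z) ∈ O}, isOpen_extF_pi F (fun _ : Fin 1 => φ) O hOopen, ?_,
    fun u hu => ?_⟩
  · have hz : ((1 : F) ⊗ₜ[k] b * (t ⊗ₜ[k] (1 : K) - (1 : F) ⊗ₜ[k] a)) =
        t ⊗ₜ[k] b - (1 : F) ⊗ₜ[k] (b * a) := by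
      rw [mul_sub, Algebra.TensorProduct.tmul_mul_tmul, Algebra.TensorProduct.tmul_mul_tmul,
        one_mul, mul_one, one_mul]
    rw [Set.mem_ofPred_eq, hO, Set.mem_ofPred_eq, hz]
    simp only [map_sub, extF_tmul, hφb, hφba, map_one, mul_one, one_mul]
    rw [sub_add_cancel]
    exact ht
  · rw [Set.mem_ofPred_eq, hO, Set.mem_ofPred_eq] at hu
    simpa only [extF_one_tmul] using hu

/-- local neighbourhoods at a place of `S`, two fields of degree one -/
theorem exists_local_SC {K₁ K₂ : Type*} [Field K₁] [Algebra k K₁] [Field K₂] [Algebra k K₂]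
    (φ₁ : K₁ →ₗ[k] k) (φ₂ : K₂ →ₗ[k] k) (a₁ b₁ : K₁) (a₂ b₂ : K₂) (α₁ α₂ : k) (hα : α₁ ≠ α₂)
    (hφb₁ : φ₁ b₁ = 1) (hφba₁ : φ₁ (b₁ * a₁) = α₁)
    (hφb₂ : φ₂ b₂ = 1) (hφba₂ : φ₂ (b₂ * a₂) = α₂)
    (t : F) (U : Set F) (hU : IsOpen U) (ht : t ∈ U) :
    ∃ (Ω₁ : Set (F ⊗[k] K₁)) (Ω₂ : Set (F ⊗[k] K₂)),
      IsOpen[moduleTopology F (F ⊗[k] K₁)] Ω₁ ∧ IsOpen[moduleTopology F (F ⊗[k] K₂)] Ω₂ ∧
      ((1 : F) ⊗ₜ[k] b₁ * (t ⊗ₜ[k] (1 : K₁) - (1 : F) ⊗ₜ[k] a₁)) ∈ Ω₁ ∧
      ((1 : F) ⊗ₜ[k] b₂ * (t ⊗ₜ[k] (1 : K₂) - (1 : F) ⊗ₜ[k] a₂)) ∈ Ω₂ ∧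
      ∀ (u₁ : K₁) (u₂ : K₂), (1 : F) ⊗ₜ[k] u₁ ∈ Ω₁ → (1 : F) ⊗ₜ[k] u₂ ∈ Ω₂ →
        algebraMap k F (φ₁ u₁) - algebraMap k F (φ₂ u₂) ≠ 0 ∧
        (algebraMap k F (φ₁ u₁) + algebraMap k F α₁ *
          ((algebraMap k F (φ₁ u₁) - algebraMap k F (φ₂ u₂)) / algebraMap k F (α₂ - α₁))) /
          ((algebraMap k F (φ₁ u₁) - algebraMap k F (φ₂ u₂)) / algebraMap k F (α₂ - α₁)) ∈ U := by
  set δ : F := algebraMap k F (α₂ - α₁) with hδ
  have hδ0 : δ ≠ 0 := (map_ne_zero _).2 (sub_ne_zero.2 hα.symm)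
  set G : F × F → F := fun p => (p.1 + algebraMap k F α₁ * ((p.1 - p.2) / δ)) / ((p.1 - p.2) / δ)
    with hG
  set O : Set (F × F) := {p | p.1 - p.2 ≠ 0 ∧ G p ∈ U} with hO
  have hOopen : IsOpen O := by
    rw [isOpen_iff_mem_nhds]
    rintro p ⟨hp1, hpU⟩
    have hden : (p.1 - p.2) / δ ≠ 0 := div_ne_zero hp1 hδ0
    have hc : ContinuousAt G p := by
      refine ContinuousAt.div₀ ?_ ?_ hden
      · exact (continuous_fst.add (continuous_const.mul
          ((continuous_fst.sub continuous_snd).div_const δ))).continuousAt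
      · exact ((continuous_fst.sub continuous_snd).div_const δ).continuousAt
    have h1 : {p : F × F | p.1 - p.2 ≠ 0} ∈ nhds p :=
      (isOpen_ne.preimage (continuous_fst.sub continuous_snd)).mem_nhds hp1
    have h2 := hc.preimage_mem_nhds (hU.mem_nhds hpU)
    filter_upwards [h1, h2] with q hq1 hq2
    exact ⟨hq1, hq2⟩
  have hp₀ : (t - algebraMap k F α₁, t - algebraMap k F α₂) ∈ O := by
    have hd : (t - algebraMap k F α₁) - (t - algebraMap k F α₂) = δ := by
      rw [hδ, map_sub]; ring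
    refine ⟨by rw [hd]; exact hδ0, ?_⟩
    change (t - algebraMap k F α₁ + algebraMap k F α₁ *
      (((t - algebraMap k F α₁) - (t - algebraMap k F α₂)) / δ)) /
      (((t - algebraMap k F α₁) - (t - algebraMap k F α₂)) / δ) ∈ U
    rw [hd, div_self hδ0, mul_one, div_one, sub_add_cancel]
    exact ht
  obtain ⟨B₁, B₂, hB₁, hB₂, hm₁, hm₂, hsub⟩ := isOpen_prod_iff.1 hOopen _ _ hp₀
  have hz₁ : ((1 : F) ⊗ₜ[k] b₁ * (t ⊗ₜ[k] (1 : K₁) - (1 : F) ⊗ₜ[k] a₁)) =
      t ⊗ₜ[k] b₁ - (1 : F) ⊗ₜ[k] (b₁ * a₁) := by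
    rw [mul_sub, Algebra.TensorProduct.tmul_mul_tmul, Algebra.TensorProduct.tmul_mul_tmul,
      one_mul, mul_one, one_mul]
  have hz₂ : ((1 : F) ⊗ₜ[k] b₂ * (t ⊗ₜ[k] (1 : K₂) - (1 : F) ⊗ₜ[k] a₂)) =
      t ⊗ₜ[k] b₂ - (1 : F) ⊗ₜ[k] (b₂ * a₂) := by
    rw [mul_sub, Algebra.TensorProduct.tmul_mul_tmul, Algebra.TensorProduct.tmul_mul_tmul,
      one_mul, mul_one, one_mul]
  refine ⟨{z | (fun _ => extF F φ₁ z) ∈ {p : Fin 1 → F | p 0 ∈ B₁}},
    {z | (fun _ => extF F φ₂ z) ∈ {p : Fin 1 → F | p 0 ∈ B₂}},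
    isOpen_extF_pi F (fun _ : Fin 1 => φ₁) _ (hB₁.preimage (continuous_apply 0)),
    isOpen_extF_pi F (fun _ : Fin 1 => φ₂) _ (hB₂.preimage (continuous_apply 0)), ?_, ?_,
    fun u₁ u₂ hu₁ hu₂ => ?_⟩
  · rw [Set.mem_ofPred_eq, Set.mem_ofPred_eq, hz₁]
    simp only [map_sub, extF_tmul, hφb₁, hφba₁, map_one, mul_one, one_mul]
    exact hm₁
  · rw [Set.mem_ofPred_eq, Set.mem_ofPred_eq, hz₂]
    simp only [map_sub, extF_tmul, hφb₂, hφba₂, map_one, mul_one, one_mul]
    exact hm₂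
  · rw [Set.mem_ofPred_eq, Set.mem_ofPred_eq, extF_one_tmul] at hu₁ hu₂
    exact hsub (Set.mk_mem_prod hu₁ hu₂)

end localS

section overs
variable {k K : Type*} [Field k] [NumberField k] [Field K] [NumberField K] [Algebra k K]

theorem exists_over (v : HeightOneSpectrum (𝓞 k)) :
    ∃ W : HeightOneSpectrum (𝓞 K), W.asIdeal.LiesOver v.asIdeal := by
  haveI := v.isMaximal
  obtain ⟨Q, hQmax, hQover⟩ := Ideal.exists_ideal_over_maximal_of_isIntegral (S := 𝓞 K) v.asIdeal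
    (by
      intro x hx
      rw [RingHom.mem_ker] at hx
      have := FaithfulSMul.algebraMap_injective (𝓞 k) (𝓞 K) (hx.trans (map_zero _).symm)
      rw [this]; exact zero_mem _)
  have hQ0 : Q ≠ ⊥ := by
    haveI : Q.LiesOver v.asIdeal := ⟨hQover.symm⟩
    exact Ideal.ne_bot_of_liesOver_of_ne_bot v.ne_bot Q
  exact ⟨⟨Q, hQmax.isPrime, hQ0⟩, ⟨hQover.symm⟩⟩

theorem finite_one_lt_val (x : k) : {v : HeightOneSpectrum (𝓞 k) | 1 < v.valuation k x}.Finite :=
  HeightOneSpectrum.Support.finite _ _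

end overs

section globint
variable {k F : Type*} [Field k] [NumberField k] [Field F] [NumberField F] [Algebra k F]

/-- a functional is integral on locally integral elements at almost all places -/
theorem finite_bad_functional (φ : F →ₗ[k] k) :
    ∃ B : Finset (HeightOneSpectrum (𝓞 k)), ∀ v ∉ B, ∀ y : F,
      (∀ Q : HeightOneSpectrum (𝓞 F), Q.asIdeal.LiesOver v.asIdeal → Q.valuation F y ≤ 1) →
      v.valuation k (φ y) ≤ 1 := by
  classical
  set ω := RingOfIntegers.basis F with hω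
  have hfin : (⋃ i, {v : HeightOneSpectrum (𝓞 k) |
      1 < v.valuation k (φ (algebraMap (𝓞 F) F (ω i)))}).Finite :=
    Set.finite_iUnion fun i => finite_one_lt_val _
  refine ⟨hfin.toFinset, fun v hv y hy => ?_⟩
  rw [Set.Finite.mem_toFinset, Set.mem_iUnion] at hv
  push Not at hv
  have hω1 : ∀ i, v.valuation k (φ (algebraMap (𝓞 F) F (ω i))) ≤ 1 := fun i => by
    have := hv i
    rw [Set.mem_ofPred_eq, not_lt] at this
    exact this
  obtain ⟨s, hsv, z, hz⟩ := HWLocInt.exists_smul_integer v y hy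
  have hzsum : algebraMap (𝓞 F) F z = ∑ i, (ω.repr z i) • algebraMap (𝓞 F) F (ω i) := by
    conv_lhs => rw [← ω.sum_repr z]
    rw [map_sum]
    refine Finset.sum_congr rfl fun i _ => ?_
    rw [zsmul_eq_mul, zsmul_eq_mul, map_mul, map_intCast]
  have hφz : v.valuation k (φ (algebraMap (𝓞 F) F z)) ≤ 1 := by
    rw [hzsum, map_sum]
    refine (v.valuation k).map_sum_le fun i _ => ?_
    rw [map_zsmul, zsmul_eq_mul, map_mul]
    calc v.valuation k ((ω.repr z i : ℤ) : k) * v.valuation k (φ (algebraMap (𝓞 F) F (ω i)))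
        ≤ 1 * 1 := mul_le_mul' (HWLocInt.val_intCast_le_one v _) (hω1 i)
      _ = 1 := one_mul _
  have hs1 : v.valuation k (algebraMap (𝓞 k) k s) = 1 := by
    rw [HeightOneSpectrum.valuation_eq_one_iff_notMem]
    exact hsv
  have h1 : algebraMap (𝓞 k) F s * y = (algebraMap (𝓞 k) k s) • y := by
    rw [Algebra.smul_def, ← IsScalarTower.algebraMap_apply]
  rw [hz, h1, map_smul, smul_eq_mul, map_mul, hs1, one_mul] at hφz
  exact hφz

/-- the places of `k` below a place of `F` where `a` is not integral -/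
theorem exists_finset_integral (a : F) :
    ∃ B : Finset (HeightOneSpectrum (𝓞 k)), ∀ v ∉ B, ∀ Q : HeightOneSpectrum (𝓞 F),
      Q.asIdeal.LiesOver v.asIdeal → Q.valuation F a ≤ 1 := by
  classical
  refine ⟨(finite_one_lt_val (k := F) a).toFinset.image (HeightOneSpectrum.under (𝓞 k)),
    fun v hv Q hQ => ?_⟩
  by_contra hcon
  rw [not_le] at hcon
  apply hv
  rw [Finset.mem_image]
  refine ⟨Q, ?_, HWValOver.under_eq_of_liesOver v Q hQ⟩
  rw [Set.Finite.mem_toFinset]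
  exact hcon

/-- an element of `k`, small at `v`, which makes `a` small at all places over `v` -/
theorem exists_small_mul (v : HeightOneSpectrum (𝓞 k)) (a : F) :
    ∃ ϖ : k, ϖ ≠ 0 ∧ v.valuation k ϖ < 1 ∧ ∀ Q : HeightOneSpectrum (𝓞 F),
      Q.asIdeal.LiesOver v.asIdeal → Q.valuation F (algebraMap k F ϖ * a) < 1 := by
  classical
  obtain ⟨π, hπ⟩ := v.valuation_exists_uniformizer k
  have hπ0 : π ≠ 0 := by
    rintro rfl
    rw [map_zero] at hπ
    exact absurd hπ.symm WithZero.exp_ne_zero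
  have hπ1 : v.valuation k π < 1 := by
    rw [NFHensel.lt_one_iff_le_exp_neg_one, hπ]
  set s : Finset (HeightOneSpectrum (𝓞 F)) := (HWUnitNorm.finite_over (K := F) v).toFinset with hs
  obtain ⟨m, hm⟩ := NFMain.exists_exp_gt_finset s (fun Q => Q.valuation F a)
  refine ⟨π ^ (m + 1), pow_ne_zero _ hπ0, ?_, fun Q hQ => ?_⟩
  · rw [map_pow]
    exact pow_lt_one' hπ1 (Nat.succ_ne_zero m)
  · have hQs : Q ∈ s := by rw [hs, Set.Finite.mem_toFinset]; exact hQ
    have h1 : Q.valuation F (algebraMap k F π) ≤ WithZero.exp (-1 : ℤ) := by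
      rw [← NFHensel.lt_one_iff_le_exp_neg_one]
      exact HWValOver.val_over_lt_one v Q hQ hπ1
    have h2 : Q.valuation F (algebraMap k F π) ^ (m + 1) ≤ WithZero.exp (-((m : ℤ) + 1)) := by
      calc Q.valuation F (algebraMap k F π) ^ (m + 1) ≤ (WithZero.exp (-1 : ℤ)) ^ (m + 1) :=
            pow_le_pow_left' h1 _
        _ = WithZero.exp (-((m : ℤ) + 1)) := by
            rw [← WithZero.exp_nsmul]
            congr 1
            simp
    rw [map_mul, map_pow, map_pow]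
    calc Q.valuation F (algebraMap k F π) ^ (m + 1) * Q.valuation F a
        ≤ WithZero.exp (-((m : ℤ) + 1)) * Q.valuation F a := mul_le_mul_left h2 _
      _ < WithZero.exp (-((m : ℤ) + 1)) * WithZero.exp (m : ℤ) := by
          exact mul_lt_mul_of_pos_left (hm Q hQs) (by simp)
      _ = WithZero.exp (-1 : ℤ) := by
          rw [← WithZero.exp_add]
          congr 1
          ring
      _ < 1 := by
          rw [← WithZero.exp_zero, WithZero.exp_lt_exp]
          norm_num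

end globint

section localT
variable {k K L : Type*} [Field k] [NumberField k] [Field K] [NumberField K] [Field L]
  [NumberField L] [Algebra k K] [Algebra K L] [Algebra k L] [IsScalarTower k K L]

attribute [local instance] HWRelNorm.relAlg

/-- local data at an auxiliary place: a global element of `L` whose norm is close to `c`, together
with a neighbourhood of this norm described by finitely many functionals -/
theorem exists_local_T (v : HeightOneSpectrum (𝓞 k))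
    (hunr : ∀ Q : Ideal (𝓞 L), Q.IsPrime → Q.LiesOver v.asIdeal → Q.ramificationIdx (𝓞 K) = 1)
    (c : K) (hc : ∀ W : HeightOneSpectrum (𝓞 K), W.asIdeal.LiesOver v.asIdeal →
      W.valuation K c = 1)
    {ι : Type*} [Fintype ι] (φ : ι → K →ₗ[k] k) (m : ℕ) :
    ∃ (x : (v.adicCompletion k) ⊗[k] L) (Ω : Set ((v.adicCompletion k) ⊗[k] K)),
      IsOpen[moduleTopology (v.adicCompletion k) ((v.adicCompletion k) ⊗[k] K)] Ω ∧
      Algebra.norm ((v.adicCompletion k) ⊗[k] K) x ∈ Ω ∧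
      ∀ u : K, (1 : v.adicCompletion k) ⊗ₜ[k] u ∈ Ω →
        ∀ j, v.valuation k (φ j u - φ j c) ≤ WithZero.exp (-(m : ℤ)) := by
  classical
  set r : ℝ := (Ideal.absNorm v.asIdeal : ℝ)⁻¹ with hr
  have hr0 : 0 < r := by
    rw [hr]
    have : (1 : ℝ) < Ideal.absNorm v.asIdeal := by
      exact_mod_cast NumberField.HeightOneSpectrum.one_lt_absNorm v
    positivity
  have hr1 : r < 1 := by
    rw [hr]
    have : (1 : ℝ) < Ideal.absNorm v.asIdeal := by
      exact_mod_cast NumberField.HeightOneSpectrum.one_lt_absNorm v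
    exact inv_lt_one_of_one_lt₀ this
  set O : Set (ι → v.adicCompletion k) :=
    Set.pi Set.univ fun j => Metric.ball (algebraMap k (v.adicCompletion k) (φ j c)) (r ^ m) with hO
  have hOopen : IsOpen O := isOpen_set_pi Set.finite_univ fun j _ => Metric.isOpen_ball
  have hmemO : ∀ u : K, (fun j => extF (v.adicCompletion k) (φ j) ((1 : v.adicCompletion k) ⊗ₜ[k] u)) ∈ O ↔
      ∀ j, ‖algebraMap k (v.adicCompletion k) (φ j u - φ j c)‖ < r ^ m := by
    intro u
    rw [hO, Set.mem_univ_pi]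
    refine forall_congr' fun j => ?_
    rw [extF_one_tmul, Metric.mem_ball, dist_eq_norm, ← map_sub]
  have hval : ∀ d : k, Valued.v (algebraMap k (v.adicCompletion k) d) = v.valuation k d := fun d =>
    valuedAdicCompletion_eq_valuation' v d
  obtain ⟨ϖ, hϖ⟩ := v.valuation_exists_uniformizer k
  have hϖ0 : ϖ ≠ 0 := by
    rintro rfl
    rw [map_zero] at hϖ
    exact absurd hϖ.symm WithZero.exp_ne_zero
  choose C hC using fun j => HWLocInt.exists_bound_functional (F := K) v (φ j) ϖ hϖ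
  set N' : ℕ := (Finset.univ.sup C) + m + 1 with hN'
  set s : Finset (HeightOneSpectrum (𝓞 K)) := (HWUnitNorm.finite_over (K := K) v).toFinset with hs
  obtain ⟨N, hN⟩ := NFMain.exists_exp_gt_finset s
    (fun Q => (Q.valuation K (algebraMap k K ϖ) ^ N')⁻¹)
  obtain ⟨y, hy⟩ := HWUnitNorm.exists_norm_sub_le (K := K) (L := L) v hunr c hc N
  have hysmall : ∀ j, v.valuation k (φ j (Algebra.norm K y) - φ j c) ≤
      WithZero.exp (-((m + 1 : ℕ) : ℤ)) := by
    intro j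
    rw [← map_sub]
    refine (hC j (Algebra.norm K y - c) N' fun Q hQ => ?_).trans ?_
    · refine (hy Q hQ).trans ?_
      have hQs : Q ∈ s := by rw [hs, Set.Finite.mem_toFinset]; exact hQ
      have h1 := hN Q hQs
      have hne : Q.valuation K (algebraMap k K ϖ) ^ N' ≠ 0 :=
        pow_ne_zero _ ((Valuation.ne_zero_iff _).2 ((map_ne_zero _).2 hϖ0))
      have h2 : (WithZero.exp (N : ℤ))⁻¹ < Q.valuation K (algebraMap k K ϖ) ^ N' := by
        rw [inv_lt_comm₀ (by simp) (zero_lt_iff.2 hne)]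
        exact h1
      rw [WithZero.exp_neg]
      exact h2.le
    · rw [WithZero.exp_le_exp]
      have : C j ≤ Finset.univ.sup C := Finset.le_sup (Finset.mem_univ j)
      rw [hN']
      push_cast
      omega
  refine ⟨(1 : v.adicCompletion k) ⊗ₜ[k] y,
    {z | (fun j => extF (v.adicCompletion k) (φ j) z) ∈ O},
    isOpen_extF_pi _ φ O hOopen, ?_, fun u hu j => ?_⟩
  · rw [HWRelNorm.norm_one_tmul, Set.mem_ofPred_eq, hmemO]
    intro j
    have h1 : ‖algebraMap k (v.adicCompletion k) (φ j (Algebra.norm K y) - φ j c)‖ ≤ r ^ (m + 1) := by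
      rw [hr, NFHensel.norm_le_pow_iff, hval]
      exact hysmall j
    refine h1.trans_lt ?_
    rw [pow_succ]
    have : 0 < r ^ m := pow_pos hr0 m
    nlinarith
  · rw [Set.mem_ofPred_eq, hmemO] at hu
    have h1 := (hu j).le
    rw [hr, NFHensel.norm_le_pow_iff, hval] at h1
    exact h1

end localT

end Groth.Agent.Lib.helper12.HWFunc
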