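import Mathlib
import Groth.Agent.Lib.Helper12.NFMain
set_option linter.style.haveILetI false
set_option linter.unusedSectionVars false

universe u
open scoped TensorProduct
open NumberField

namespace Groth.Agent.Lib.helper12.NFMain2
open IsDedekindDomain HeightOneSpectrum NumberField NumberField.InfinitePlace IntermediateField Polynomial
open scoped WithZero NNReal
open Groth.Agent.Lib.helper12

/-- the set of places where some coefficient of a polynomial is not integral is finite -/
theorem finite_bad_coeff {K : Type*} [Field K] [NumberField K] (g : K[X]) :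
    {v : HeightOneSpectrum (𝓞 K) | ∃ i, 1 < v.valuation K (g.coeff i)}.Finite := by
  classical
  have hsub : {v : HeightOneSpectrum (𝓞 K) | ∃ i, 1 < v.valuation K (g.coeff i)} ⊆
      ⋃ i ∈ g.support, HeightOneSpectrum.Support (𝓞 K) (g.coeff i) := by
    rintro v ⟨i, hi⟩
    simp only [Set.mem_iUnion]
    refine ⟨i, ?_, hi⟩
    rw [mem_support_iff]
    rintro h0
    rw [h0, map_zero] at hi
    exact absurd hi (by simp)
  refine Set.Finite.subset ?_ hsub
  exact Set.Finite.biUnion g.support.finite_toSet fun i _ => HeightOneSpectrum.Support.finite _ _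

theorem main_integral (k L : Type u) [Field k] [NumberField k]
    [Field L] [NumberField L] [Algebra k L]
    (Sf : Finset (IsDedekindDomain.HeightOneSpectrum (NumberField.RingOfIntegers k)))
    (Si : Finset (NumberField.InfinitePlace k))
    (tf : (v : IsDedekindDomain.HeightOneSpectrum (NumberField.RingOfIntegers k)) → v.adicCompletion k)
    (ti : (w : NumberField.InfinitePlace k) → w.Completion)
    (htf : ∀ v ∈ Sf, tf v ≠ 0 ∧ ∃ x : (v.adicCompletion k) ⊗[k] L, Algebra.norm (v.adicCompletion k) x = tf v)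
    (hti : ∀ w ∈ Si, ti w ≠ 0 ∧ ∃ x : w.Completion ⊗[k] L, Algebra.norm w.Completion x = ti w)
    (Uf : (v : IsDedekindDomain.HeightOneSpectrum (NumberField.RingOfIntegers k)) → Set (v.adicCompletion k))
    (hUf : ∀ v ∈ Sf, IsOpen (Uf v) ∧ tf v ∈ Uf v)
    (Ui : (w : NumberField.InfinitePlace k) → Set w.Completion)
    (hUi : ∀ w ∈ Si, IsOpen (Ui w) ∧ ti w ∈ Ui w)
    (v₀ : IsDedekindDomain.HeightOneSpectrum (NumberField.RingOfIntegers k)) (hv₀ : v₀ ∉ Sf)
    (hLv₀ : Nonempty (L →ₐ[k] v₀.adicCompletion k)) :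
    ∃ t : k, t ≠ 0 ∧ (∀ v ∈ Sf, algebraMap k (v.adicCompletion k) t ∈ Uf v) ∧
      (∀ w ∈ Si, algebraMap k w.Completion t ∈ Ui w) ∧
      (∀ v : IsDedekindDomain.HeightOneSpectrum (NumberField.RingOfIntegers k), v ∉ Sf → v ≠ v₀ →
        v.valuation k t ≤ 1) ∧
      ∀ v : IsDedekindDomain.HeightOneSpectrum (NumberField.RingOfIntegers k), v ∉ Sf →
        v.valuation k t = 1 ∨ Nonempty (L →ₐ[k] v.adicCompletion k) := by
  classical
  by_cases hS : Sf = ∅ ∧ Si = ∅
  · obtain ⟨rfl, rfl⟩ := hS
    exact ⟨1, one_ne_zero, by simp, by simp, fun v _ _ => by simp, fun v _ => Or.inl (by simp)⟩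
  set n := Module.finrank k L with hn
  let b : Module.Basis (Fin n) k L := Module.finBasis k L
  -- shrink the neighbourhoods to avoid zero
  set Uf' : ∀ v : HeightOneSpectrum (𝓞 k), Set (v.adicCompletion k) := fun v => Uf v ∩ {0}ᶜ with hUf'
  set Ui' : ∀ w : InfinitePlace k, Set w.Completion := fun w => Ui w ∩ {0}ᶜ with hUi'
  have hUf'o : ∀ v ∈ Sf, IsOpen (Uf' v) := fun v hv => (hUf v hv).1.inter isOpen_compl_singleton
  have hUi'o : ∀ w ∈ Si, IsOpen (Ui' w) := fun w hw => (hUi w hw).1.inter isOpen_compl_singleton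
  -- local neighbourhoods for the coordinates
  have hVf : ∀ v ∈ Sf, ∃ V : Fin n → Set (v.adicCompletion k), (∀ i, IsOpen (V i)) ∧
      (∀ i, (V i).Nonempty) ∧ ∀ c : Fin n → k, (∀ i, algebraMap k (v.adicCompletion k) (c i) ∈ V i) →
        algebraMap k (v.adicCompletion k) (Algebra.norm k (∑ i, c i • b i)) ∈ Uf' v := by
    intro v hv
    obtain ⟨hne, x, hx⟩ := htf v hv
    refine NFNormForm.exists_open_nhd_norm b x (Uf' v) (hUf'o v hv) ?_
    rw [hx]
    exact ⟨(hUf v hv).2, hne⟩
  have hVi : ∀ w ∈ Si, ∃ V : Fin n → Set w.Completion, (∀ i, IsOpen (V i)) ∧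
      (∀ i, (V i).Nonempty) ∧ ∀ c : Fin n → k, (∀ i, algebraMap k w.Completion (c i) ∈ V i) →
        algebraMap k w.Completion (Algebra.norm k (∑ i, c i • b i)) ∈ Ui' w := by
    intro w hw
    obtain ⟨hne, x, hx⟩ := hti w hw
    refine NFNormForm.exists_open_nhd_norm b x (Ui' w) (hUi'o w hw) ?_
    rw [hx]
    exact ⟨(hUi w hw).2, hne⟩
  choose! Vf hVfo hVfne hVfU using hVf
  choose! Vi hVio hVine hViU using hVi
  obtain ⟨c₁, hprim, hcf, hci⟩ := NFMain.exists_primitive_approx v₀ b Sf hv₀ Si Vf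
    (fun v hv i => ⟨hVfo v hv i, hVfne v hv i⟩) Vi (fun w hw i => ⟨hVio w hw i, hVine w hw i⟩)
  set x : L := ∑ i, c₁ i • b i with hx
  have hNf : ∀ v ∈ Sf, algebraMap k (v.adicCompletion k) (Algebra.norm k x) ∈ Uf' v :=
    fun v hv => hVfU v hv c₁ (hcf v hv)
  have hNi : ∀ w ∈ Si, algebraMap k w.Completion (Algebra.norm k x) ∈ Ui' w :=
    fun w hw => hViU w hw c₁ (hci w hw)
  set f := minpoly k x with hf
  have hfmonic : f.Monic := minpoly.monic (IsIntegral.of_finite k x)
  have hNx : Algebra.norm k x = NFHensel.normForm f 0 (-1) := by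
    have := NFHensel.norm_sub_smul x hprim 0 (-1)
    rw [← this]
    congr 1
    simp
  -- Bezout
  have hsep : f.Separable := (minpoly.irreducible (IsIntegral.of_finite k x)).separable
  obtain ⟨A, B, hAB⟩ := hsep
  -- bad places
  set Bad : Finset (HeightOneSpectrum (𝓞 k)) :=
    ((finite_bad_coeff f).union ((finite_bad_coeff A).union (finite_bad_coeff B))).toFinset with hBad
  have hBadmem : ∀ v, v ∉ Bad → (∀ i, v.valuation k (f.coeff i) ≤ 1) ∧
      (∀ i, v.valuation k (A.coeff i) ≤ 1) ∧ (∀ i, v.valuation k (B.coeff i) ≤ 1) := by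
    intro v hv
    rw [hBad, Set.Finite.mem_toFinset] at hv
    simp only [Set.mem_union, Set.mem_ofPred_eq, not_or, not_exists, not_lt] at hv
    exact ⟨hv.1, hv.2.1, hv.2.2⟩
  set T : Finset (HeightOneSpectrum (𝓞 k)) := (Sf ∪ Bad).erase v₀ with hT
  have hv₀T : v₀ ∉ T := Finset.notMem_erase v₀ _
  -- neighbourhoods for (c, d) at the places of S
  have hCDf : ∀ v ∈ Sf, ∃ C D : Set (v.adicCompletion k), IsOpen C ∧ IsOpen D ∧
      algebraMap k (v.adicCompletion k) 0 ∈ C ∧ algebraMap k (v.adicCompletion k) (-1) ∈ D ∧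
      ∀ c d : k, algebraMap k (v.adicCompletion k) c ∈ C → algebraMap k (v.adicCompletion k) d ∈ D →
        algebraMap k (v.adicCompletion k) (NFHensel.normForm f c d) ∈ Uf' v := by
    intro v hv
    refine NFMain.exists_nhds_normForm f (Uf' v) (hUf'o v hv) 0 (-1) ?_
    rw [← hNx]
    exact hNf v hv
  have hCDi : ∀ w ∈ Si, ∃ C D : Set w.Completion, IsOpen C ∧ IsOpen D ∧
      algebraMap k w.Completion 0 ∈ C ∧ algebraMap k w.Completion (-1) ∈ D ∧
      ∀ c d : k, algebraMap k w.Completion c ∈ C → algebraMap k w.Completion d ∈ D →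
        algebraMap k w.Completion (NFHensel.normForm f c d) ∈ Ui' w := by
    intro w hw
    refine NFMain.exists_nhds_normForm f (Ui' w) (hUi'o w hw) 0 (-1) ?_
    rw [← hNx]
    exact hNi w hw
  choose! Cf Df hCfo hDfo hCf0 hDf1 hCDfU using hCDf
  choose! Ci Di hCio hDio hCi0 hDi1 hCDiU using hCDi
  -- exponents at the bad places
  have hm : ∀ v : HeightOneSpectrum (𝓞 k), ∃ m : ℕ, ∀ i ∈ Finset.range f.natDegree,
      v.valuation k (f.coeff i) < WithZero.exp (m : ℤ) :=
    fun v => NFMain.exists_exp_gt_finset _ _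
  choose m hm using hm
  -- choose d
  obtain ⟨d, hdT, hdSi, hdint⟩ := NFApproxLocal.strong_approx_local v₀ T hv₀T Si
    (fun v => if v ∈ Sf then Df v ∩ {0}ᶜ else
      Metric.ball (0 : v.adicCompletion k) (((Ideal.absNorm v.asIdeal : ℝ)⁻¹) ^ m v))
    (fun v hv => by
      by_cases hvS : v ∈ Sf
      · simp only [hvS, if_true]
        refine ⟨(hDfo v hvS).inter isOpen_compl_singleton, ⟨_, hDf1 v hvS, ?_⟩⟩
        rw [Set.mem_compl_singleton_iff]
        exact (_root_.map_ne_zero _).2 (by norm_num)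
      · simp only [hvS, if_false]
        refine ⟨Metric.isOpen_ball, ⟨0, Metric.mem_ball_self ?_⟩⟩
        have : (0 : ℝ) < Ideal.absNorm v.asIdeal := by
          exact_mod_cast (NumberField.HeightOneSpectrum.one_lt_absNorm v).trans' Nat.zero_lt_one
        positivity)
    (fun w => Di w ∩ {0}ᶜ)
    (fun w hw => ⟨(hDio w hw).inter isOpen_compl_singleton, ⟨_, hDi1 w hw, by
      rw [Set.mem_compl_singleton_iff]
      exact (_root_.map_ne_zero _).2 (by norm_num)⟩⟩)
  -- `d ≠ 0`
  have hd0 : d ≠ 0 := by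
    rcases not_and_or.1 hS with h | h
    · obtain ⟨v, hv⟩ := Finset.nonempty_iff_ne_empty.2 h
      have hvT : v ∈ T :=
        Finset.mem_erase.2 ⟨fun h => hv₀ (h ▸ hv), Finset.mem_union_left _ hv⟩
      have := hdT v hvT
      simp only [hv, if_true] at this
      rintro rfl
      exact this.2 (map_zero _)
    · obtain ⟨w, hw⟩ := Finset.nonempty_iff_ne_empty.2 h
      have := (hdSi w hw).2
      rintro rfl
      exact this (map_zero _)
  have hPfin : {v : HeightOneSpectrum (𝓞 k) | v.valuation k d < 1}.Finite := by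
    refine (HeightOneSpectrum.Support.finite (𝓞 k) (d⁻¹)).subset fun v hv => ?_
    simp only [Set.mem_ofPred_eq] at hv
    simp only [HeightOneSpectrum.Support, Set.mem_ofPred_eq, map_inv₀]
    exact (one_lt_inv₀ (zero_lt_iff.2 ((_root_.map_ne_zero _).2 hd0))).2 hv
  set P : Finset (HeightOneSpectrum (𝓞 k)) := hPfin.toFinset \ (T ∪ {v₀}) with hP
  have hPmem : ∀ v, v ∈ P ↔ v.valuation k d < 1 ∧ v ∉ T ∧ v ≠ v₀ := by
    intro v
    simp only [hP, Finset.mem_sdiff, Set.Finite.mem_toFinset, Set.mem_ofPred_eq, Finset.mem_union,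
      Finset.mem_singleton, not_or]
  set T' : Finset (HeightOneSpectrum (𝓞 k)) := T ∪ P with hT'
  have hv₀T' : v₀ ∉ T' := by
    rw [hT', Finset.mem_union, not_or]
    exact ⟨hv₀T, fun h => ((hPmem v₀).1 h).2.2 rfl⟩
  -- choose c
  obtain ⟨c, hcT, hcSi, hcint⟩ := NFApproxLocal.strong_approx_local v₀ T' hv₀T' Si
    (fun v => if v ∈ Sf then Cf v else Metric.ball (1 : v.adicCompletion k) 1)
    (fun v hv => by
      by_cases hvS : v ∈ Sf
      · simp only [hvS, if_true]
        exact ⟨hCfo v hvS, ⟨_, hCf0 v hvS⟩⟩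
      · simp only [hvS, if_false]
        exact ⟨Metric.isOpen_ball, ⟨1, Metric.mem_ball_self one_pos⟩⟩)
    Ci (fun w hw => ⟨hCio w hw, ⟨_, hCi0 w hw⟩⟩)
  set t : k := NFHensel.normForm f c d with ht
  have hSfT : ∀ v ∈ Sf, v ∈ T := fun v hv =>
    Finset.mem_erase.2 ⟨fun h => hv₀ (h ▸ hv), Finset.mem_union_left _ hv⟩
  have htf' : ∀ v ∈ Sf, algebraMap k (v.adicCompletion k) t ∈ Uf' v := by
    intro v hv
    have h1 := hcT v (Finset.mem_union_left _ (hSfT v hv))
    have h2 := hdT v (hSfT v hv)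
    simp only [hv, if_true] at h1 h2
    exact hCDfU v hv c d h1 h2.1
  have hti' : ∀ w ∈ Si, algebraMap k w.Completion t ∈ Ui' w := by
    intro w hw
    exact hCDiU w hw c d (hcSi w hw) (hdSi w hw).1
  have hkey : ∀ v : HeightOneSpectrum (𝓞 k), v ∉ Sf → v ≠ v₀ → v.valuation k t = 1 ∨
      (v.valuation k t ≤ 1 ∧ Nonempty (L →ₐ[k] v.adicCompletion k)) := by
    intro v hvS hv0
    by_cases hvB : v ∈ Bad
    · left
      have hvT : v ∈ T := Finset.mem_erase.2 ⟨hv0, Finset.mem_union_right _ hvB⟩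
      have h1 := hcT v (Finset.mem_union_left _ hvT)
      have h2 := hdT v hvT
      simp only [hvS, if_false] at h1 h2
      have hc1 := NFMain.val_eq_one_of_mem_ball v c h1
      have hd1 := NFMain.val_le_of_mem_ball v d (m v) h2
      refine NFHensel.val_normForm_eq_one _ f hfmonic c d hc1 (hd1.trans ?_) fun i hi => ?_
      · rw [← WithZero.exp_zero, WithZero.exp_le_exp]
        omega
      · calc v.valuation k (f.coeff i) * v.valuation k d
            ≤ v.valuation k (f.coeff i) * WithZero.exp (-(m v : ℤ)) := by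
              gcongr
          _ < WithZero.exp (m v : ℤ) * WithZero.exp (-(m v : ℤ)) := by
              exact mul_lt_mul_of_pos_right (hm v i (Finset.mem_range.2 hi)) WithZero.exp_pos
          _ = 1 := by
              rw [← WithZero.exp_add, add_neg_cancel, WithZero.exp_zero]
    · obtain ⟨hfi, hAi, hBi⟩ := hBadmem v hvB
      have hvT : v ∉ T := by
        rw [hT, Finset.mem_erase, Finset.mem_union]
        tauto
      have hdle : v.valuation k d ≤ 1 := hdint v hvT hv0
      by_cases hvP : v.valuation k d < 1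
      · left
        have hvPm : v ∈ P := (hPmem v).2 ⟨hvP, hvT, hv0⟩
        have h1 := hcT v (Finset.mem_union_right _ hvPm)
        simp only [hvS, if_false] at h1
        have hc1 := NFMain.val_eq_one_of_mem_ball v c h1
        refine NFHensel.val_normForm_eq_one _ f hfmonic c d hc1 hdle fun i _ => ?_
        calc v.valuation k (f.coeff i) * v.valuation k d ≤ 1 * v.valuation k d := by
              gcongr
              exact hfi i
          _ = v.valuation k d := one_mul _
          _ < 1 := hvP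
      · have hd1 : v.valuation k d = 1 := le_antisymm hdle (not_lt.1 hvP)
        have hvT' : v ∉ T' := by
          rw [hT', Finset.mem_union, not_or]
          exact ⟨hvT, fun h => hvP ((hPmem v).1 h).1⟩
        have hcle : v.valuation k c ≤ 1 := hcint v hvT' hv0
        have htle : v.valuation k t ≤ 1 := NFHensel.val_normForm_le_one _ f hfi c d hcle hdle
        by_cases ht1 : v.valuation k t = 1
        · exact Or.inl ht1
        · right
          refine ⟨htle, ?_⟩
          exact NFHensel.nonempty_algHom_of_val_normForm_lt_one v x hprim A B hAB hfi hAi hBi c d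
            hcle hd1 (lt_of_le_of_ne htle ht1)
  refine ⟨t, ?_, fun v hv => (htf' v hv).1, fun w hw => (hti' w hw).1, ?_, ?_⟩
  · rcases not_and_or.1 hS with h | h
    · obtain ⟨v, hv⟩ := Finset.nonempty_iff_ne_empty.2 h
      have := (htf' v hv).2
      rintro h0
      rw [h0] at this
      exact this (map_zero _)
    · obtain ⟨w, hw⟩ := Finset.nonempty_iff_ne_empty.2 h
      have := (hti' w hw).2
      rintro h0
      rw [h0] at this
      exact this (map_zero _)
  · intro v hvS hv0
    rcases hkey v hvS hv0 with h | h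
    · exact h.le
    · exact h.1
  · intro v hvS
    by_cases hv0 : v = v₀
    · subst hv0
      exact Or.inr hLv₀
    · rcases hkey v hvS hv0 with h | h
      · exact Or.inl h
      · exact Or.inr h.2

end Groth.Agent.Lib.helper12.NFMain2
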