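import Mathlib
import Groth.Agent.Lib.Helper12.NFMain2
import Groth.Agent.Lib.Helper12.HWRelNorm
import Groth.Agent.Lib.Helper12.HWValOver
import Groth.Agent.Lib.Helper12.HWUnitNorm
set_option linter.style.haveILetI false
set_option linter.unusedSectionVars false

universe u
open scoped TensorProduct
open NumberField

namespace Groth.Agent.Lib.helper12.HWRelCore
open IsDedekindDomain HeightOneSpectrum NumberField NumberField.InfinitePlace IntermediateField Polynomial
open scoped WithZero NNReal Topology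
open Groth.Agent.Lib.helper12

attribute [local instance] HWRelNorm.relAlg

/-- the relative core lemma -/
theorem rel_core (k K L : Type u) [Field k] [NumberField k] [Field K] [NumberField K]
    [Field L] [NumberField L] [Algebra k K] [Algebra K L] [Algebra k L] [IsScalarTower k K L]
    (a : K) (ha : k⟮a⟯ = ⊤)
    (Sf : Finset (HeightOneSpectrum (𝓞 k))) (Si : Finset (InfinitePlace k))
    (v₀ : HeightOneSpectrum (𝓞 k)) (hv₀ : v₀ ∉ Sf)
    (hsplit : ∀ W : HeightOneSpectrum (𝓞 K), W.asIdeal.LiesOver v₀.asIdeal →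
      Nonempty (L →ₐ[K] W.adicCompletion K))
    (xf : ∀ v : HeightOneSpectrum (𝓞 k), (v.adicCompletion k) ⊗[k] L)
    (xi : ∀ w : InfinitePlace k, w.Completion ⊗[k] L)
    (Ωf : ∀ v : HeightOneSpectrum (𝓞 k), Set ((v.adicCompletion k) ⊗[k] K))
    (Ωi : ∀ w : InfinitePlace k, Set (w.Completion ⊗[k] K))
    (hΩf : ∀ v ∈ Sf, IsOpen[moduleTopology (v.adicCompletion k) ((v.adicCompletion k) ⊗[k] K)] (Ωf v) ∧
      Algebra.norm ((v.adicCompletion k) ⊗[k] K) (xf v) ∈ Ωf v)
    (hΩi : ∀ w ∈ Si, IsOpen[moduleTopology w.Completion (w.Completion ⊗[k] K)] (Ωi w) ∧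
      Algebra.norm (w.Completion ⊗[k] K) (xi w) ∈ Ωi w) :
    ∃ u : K, (∀ v ∈ Sf, (1 : v.adicCompletion k) ⊗ₜ[k] u ∈ Ωf v) ∧
      (∀ w ∈ Si, (1 : w.Completion) ⊗ₜ[k] u ∈ Ωi w) ∧
      (∀ v : HeightOneSpectrum (𝓞 k), v ∉ Sf → v ≠ v₀ →
        ∃ g : k[X], (∀ i, v.valuation k (g.coeff i) ≤ 1) ∧ aeval a g = u) ∧
      (∀ W : HeightOneSpectrum (𝓞 K), (¬ ∃ v ∈ Sf, W.asIdeal.LiesOver v.asIdeal) →
        W.valuation K u < 1 → Nonempty (L →ₐ[K] W.adicCompletion K)) := by
  classical
  by_cases hS : Sf = ∅ ∧ Si = ∅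
  · obtain ⟨rfl, rfl⟩ := hS
    refine ⟨1, by simp, by simp, fun v _ _ => ⟨1, fun i => ?_, by simp⟩, fun W _ h => ?_⟩
    · rw [coeff_one]
      split_ifs <;> simp
    · simp at h
  set n := Module.finrank k L with hn
  let b : Module.Basis (Fin n) k L := Module.finBasis k L
  -- local neighbourhoods for the coordinates
  have hVf : ∀ v ∈ Sf, ∃ V : Fin n → Set (v.adicCompletion k), (∀ i, IsOpen (V i)) ∧
      (∀ i, (V i).Nonempty) ∧ ∀ c : Fin n → k, (∀ i, algebraMap k (v.adicCompletion k) (c i) ∈ V i) →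
        (1 : v.adicCompletion k) ⊗ₜ[k] (Algebra.norm K (∑ i, c i • b i)) ∈ Ωf v := by
    intro v hv
    letI : TopologicalSpace ((v.adicCompletion k) ⊗[k] K) := moduleTopology (v.adicCompletion k) _
    haveI : IsModuleTopology (v.adicCompletion k) ((v.adicCompletion k) ⊗[k] K) := ⟨rfl⟩
    haveI : IsTopologicalRing ((v.adicCompletion k) ⊗[k] K) :=
      IsModuleTopology.isTopologicalRing (v.adicCompletion k) _
    exact HWRelNorm.exists_open_nhd_relnorm b (xf v) (Ωf v) (hΩf v hv).1 (hΩf v hv).2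
  have hVi : ∀ w ∈ Si, ∃ V : Fin n → Set w.Completion, (∀ i, IsOpen (V i)) ∧
      (∀ i, (V i).Nonempty) ∧ ∀ c : Fin n → k, (∀ i, algebraMap k w.Completion (c i) ∈ V i) →
        (1 : w.Completion) ⊗ₜ[k] (Algebra.norm K (∑ i, c i • b i)) ∈ Ωi w := by
    intro w hw
    letI : TopologicalSpace (w.Completion ⊗[k] K) := moduleTopology w.Completion _
    haveI : IsModuleTopology w.Completion (w.Completion ⊗[k] K) := ⟨rfl⟩
    haveI : IsTopologicalRing (w.Completion ⊗[k] K) :=
      IsModuleTopology.isTopologicalRing w.Completion _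
    exact HWRelNorm.exists_open_nhd_relnorm b (xi w) (Ωi w) (hΩi w hw).1 (hΩi w hw).2
  choose! Vf hVfo hVfne hVfU using hVf
  choose! Vi hVio hVine hViU using hVi
  obtain ⟨c₁, hprim, hcf, hci⟩ := NFMain.exists_primitive_approx v₀ b Sf hv₀ Si Vf
    (fun v hv i => ⟨hVfo v hv i, hVfne v hv i⟩) Vi (fun w hw i => ⟨hVio w hw i, hVine w hw i⟩)
  set x : L := ∑ i, c₁ i • b i with hx
  have hprimK : K⟮x⟯ = ⊤ := by
    rw [eq_top_iff]
    intro y _
    have hy : y ∈ k⟮x⟯ := by rw [hprim]; trivial
    have hle : k⟮x⟯ ≤ (K⟮x⟯).restrictScalars k := by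
      rw [adjoin_simple_le_iff]
      exact mem_adjoin_simple_self K x
    exact hle hy
  have hNf : ∀ v ∈ Sf, (1 : v.adicCompletion k) ⊗ₜ[k] (Algebra.norm K x) ∈ Ωf v :=
    fun v hv => hVfU v hv c₁ (hcf v hv)
  have hNi : ∀ w ∈ Si, (1 : w.Completion) ⊗ₜ[k] (Algebra.norm K x) ∈ Ωi w :=
    fun w hw => hViU w hw c₁ (hci w hw)
  set f := minpoly K x with hf
  have hfmonic : f.Monic := minpoly.monic (IsIntegral.of_finite K x)
  set deg := f.natDegree with hdeg
  have hNx : Algebra.norm K x = NFHensel.normForm f (algebraMap k K 0) (algebraMap k K (-1)) := by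
    have := NFHensel.norm_sub_smul x hprimK 0 (-1)
    rw [map_zero, map_neg, map_one, ← this]
    congr 1
    simp
  -- Bezout
  have hsep : f.Separable := (minpoly.irreducible (IsIntegral.of_finite K x)).separable
  obtain ⟨A, B, hAB⟩ := hsep
  -- polynomial expressions of the coefficients
  have hgex : ∀ i : ℕ, ∃ g : k[X], aeval a g = f.coeff i := by
    intro i
    have h1 : f.coeff i ∈ k⟮a⟯ := by rw [ha]; trivial
    have h2 : (k⟮a⟯).toSubalgebra = Algebra.adjoin k {a} :=
      IntermediateField.adjoin_simple_toSubalgebra_of_isAlgebraic (Algebra.IsAlgebraic.isAlgebraic a)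
    have h3 : f.coeff i ∈ Algebra.adjoin k {a} := by
      rw [← h2]; exact h1
    rw [Algebra.adjoin_singleton_eq_range_aeval] at h3
    exact h3
  choose g₀ hg₀ using hgex
  set g : ℕ → k[X] := fun i => if i = deg then 1 else g₀ i with hg
  have hgf : ∀ i, aeval a (g i) = f.coeff i := by
    intro i
    simp only [hg]
    split_ifs with h
    · rw [h, map_one, hdeg, hfmonic.coeff_natDegree]
    · exact hg₀ i
  -- bad places
  set BadK : Finset (HeightOneSpectrum (𝓞 K)) :=
    ((NFMain2.finite_bad_coeff f).union ((NFMain2.finite_bad_coeff A).union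
      (NFMain2.finite_bad_coeff B))).toFinset with hBadK
  have hBadKmem : ∀ W, W ∉ BadK → (∀ i, W.valuation K (f.coeff i) ≤ 1) ∧
      (∀ i, W.valuation K (A.coeff i) ≤ 1) ∧ (∀ i, W.valuation K (B.coeff i) ≤ 1) := by
    intro W hW
    rw [hBadK, Set.Finite.mem_toFinset] at hW
    simp only [Set.mem_union, Set.mem_ofPred_eq, not_or, not_exists, not_lt] at hW
    exact ⟨hW.1, hW.2.1, hW.2.2⟩
  have hgbadfin : {v : HeightOneSpectrum (𝓞 k) | ∃ i ∈ Finset.range (deg + 1), ∃ j,
      1 < v.valuation k ((g i).coeff j)}.Finite := by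
    have : {v : HeightOneSpectrum (𝓞 k) | ∃ i ∈ Finset.range (deg + 1), ∃ j,
        1 < v.valuation k ((g i).coeff j)} =
        ⋃ i ∈ Finset.range (deg + 1), {v | ∃ j, 1 < v.valuation k ((g i).coeff j)} := by
      ext v; simp
    rw [this]
    exact Set.Finite.biUnion (Finset.finite_toSet _) fun i _ => NFMain2.finite_bad_coeff (g i)
  set Bad : Finset (HeightOneSpectrum (𝓞 k)) :=
    BadK.image (HeightOneSpectrum.under (𝓞 k)) ∪ hgbadfin.toFinset with hBad
  have hBadmem : ∀ v, v ∉ Bad → (∀ W : HeightOneSpectrum (𝓞 K), W.asIdeal.LiesOver v.asIdeal →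
      W ∉ BadK) ∧ ∀ i ≤ deg, ∀ j, v.valuation k ((g i).coeff j) ≤ 1 := by
    intro v hv
    rw [hBad, Finset.mem_union, not_or] at hv
    refine ⟨fun W hW hWB => hv.1 ?_, fun i hi j => ?_⟩
    · rw [Finset.mem_image]
      exact ⟨W, hWB, HWValOver.under_eq_of_liesOver v W hW⟩
    · have := hv.2
      rw [Set.Finite.mem_toFinset] at this
      simp only [Set.mem_ofPred_eq, not_exists, not_and, not_lt] at this
      exact this i (Finset.mem_range.2 (by omega)) j
  set T : Finset (HeightOneSpectrum (𝓞 k)) := (Sf ∪ Bad).erase v₀ with hT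
  have hv₀T : v₀ ∉ T := Finset.notMem_erase v₀ _
  -- neighbourhoods for (c, d) at the places of S
  have hCDf : ∀ v ∈ Sf, ∃ C D : Set (v.adicCompletion k), IsOpen C ∧ IsOpen D ∧
      algebraMap k (v.adicCompletion k) 0 ∈ C ∧ algebraMap k (v.adicCompletion k) (-1) ∈ D ∧
      ∀ c d : k, algebraMap k (v.adicCompletion k) c ∈ C → algebraMap k (v.adicCompletion k) d ∈ D →
        (1 : v.adicCompletion k) ⊗ₜ[k]
          (NFHensel.normForm f (algebraMap k K c) (algebraMap k K d)) ∈ Ωf v := by
    intro v hv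
    letI : TopologicalSpace ((v.adicCompletion k) ⊗[k] K) := moduleTopology (v.adicCompletion k) _
    haveI : IsModuleTopology (v.adicCompletion k) ((v.adicCompletion k) ⊗[k] K) := ⟨rfl⟩
    haveI : ContinuousAdd ((v.adicCompletion k) ⊗[k] K) :=
      IsModuleTopology.toContinuousAdd (v.adicCompletion k) _
    refine HWRelNorm.exists_nhds_relNormForm f (Ωf v) (hΩf v hv).1 0 (-1) ?_
    rw [← hNx]
    exact hNf v hv
  have hCDi : ∀ w ∈ Si, ∃ C D : Set w.Completion, IsOpen C ∧ IsOpen D ∧
      algebraMap k w.Completion 0 ∈ C ∧ algebraMap k w.Completion (-1) ∈ D ∧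
      ∀ c d : k, algebraMap k w.Completion c ∈ C → algebraMap k w.Completion d ∈ D →
        (1 : w.Completion) ⊗ₜ[k]
          (NFHensel.normForm f (algebraMap k K c) (algebraMap k K d)) ∈ Ωi w := by
    intro w hw
    letI : TopologicalSpace (w.Completion ⊗[k] K) := moduleTopology w.Completion _
    haveI : IsModuleTopology w.Completion (w.Completion ⊗[k] K) := ⟨rfl⟩
    haveI : ContinuousAdd (w.Completion ⊗[k] K) :=
      IsModuleTopology.toContinuousAdd w.Completion _
    refine HWRelNorm.exists_nhds_relNormForm f (Ωi w) (hΩi w hw).1 0 (-1) ?_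
    rw [← hNx]
    exact hNi w hw
  choose! Cf Df hCfo hDfo hCf0 hDf1 hCDfU using hCDf
  choose! Ci Di hCio hDio hCi0 hDi1 hCDiU using hCDi
  -- exponents at the bad places
  have hover : ∀ v : HeightOneSpectrum (𝓞 k),
      {W : HeightOneSpectrum (𝓞 K) | W.asIdeal.LiesOver v.asIdeal}.Finite :=
    fun v => HWUnitNorm.finite_over v
  have hm : ∀ v : HeightOneSpectrum (𝓞 k), ∃ m : ℕ,
      (∀ W ∈ (hover v).toFinset, ∀ i ∈ Finset.range deg,
        W.valuation K (f.coeff i) < WithZero.exp (m : ℤ)) ∧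
      (∀ i ∈ Finset.range (deg + 1), ∀ j ∈ Finset.range ((g i).natDegree + 1),
        v.valuation k ((g i).coeff j) < WithZero.exp (m : ℤ)) := by
    intro v
    obtain ⟨m₁, hm₁⟩ := NFMain.exists_exp_gt_finset ((hover v).toFinset ×ˢ Finset.range deg)
      (fun p => p.1.valuation K (f.coeff p.2))
    obtain ⟨m₂, hm₂⟩ := NFMain.exists_exp_gt_finset
      ((Finset.range (deg + 1)).sigma fun i => Finset.range ((g i).natDegree + 1))
      (fun p => v.valuation k ((g p.1).coeff p.2))
    refine ⟨max m₁ m₂, fun W hW i hi => ?_, fun i hi j hj => ?_⟩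
    · refine (hm₁ (W, i) (Finset.mem_product.2 ⟨hW, hi⟩)).trans_le ?_
      rw [WithZero.exp_le_exp]
      exact_mod_cast le_max_left _ _
    · refine (hm₂ ⟨i, j⟩ (Finset.mem_sigma.2 ⟨hi, hj⟩)).trans_le ?_
      rw [WithZero.exp_le_exp]
      exact_mod_cast le_max_right _ _
  choose m hmW hmg using hm
  have hmg' : ∀ v : HeightOneSpectrum (𝓞 k), ∀ i ≤ deg, ∀ j,
      v.valuation k ((g i).coeff j) ≤ WithZero.exp (m v : ℤ) := by
    intro v i hi j
    by_cases hj : j ≤ (g i).natDegree
    · exact (hmg v i (Finset.mem_range.2 (by omega)) j (Finset.mem_range.2 (by omega))).le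
    · rw [coeff_eq_zero_of_natDegree_lt (not_le.1 hj), map_zero]
      exact zero_le
  -- choose d
  obtain ⟨d, hdT, hdSi, hdint⟩ := NFApproxLocal.strong_approx_local v₀ T hv₀T Si
    (fun v => if v ∈ Sf then Df v ∩ {0}ᶜ else
      Metric.ball (0 : v.adicCompletion k) (((Ideal.absNorm v.asIdeal : ℝ)⁻¹) ^ m v))
    (fun v hv => by
      by_cases hvS : v ∈ Sf
      · simp only [hvS, if_true]
        refine ⟨(hDfo v hvS).inter isOpen_compl_singleton, ⟨_, hDf1 v hvS, ?_⟩⟩
        rw [Set.mem_compl_singleton_iff]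
        exact (_root_.map_ne_zero _).2 (by norm_num)
      · simp only [hvS, if_false]
        refine ⟨Metric.isOpen_ball, ⟨0, Metric.mem_ball_self ?_⟩⟩
        have : (0 : ℝ) < Ideal.absNorm v.asIdeal := by
          exact_mod_cast (NumberField.HeightOneSpectrum.one_lt_absNorm v).trans' Nat.zero_lt_one
        positivity)
    (fun w => Di w ∩ {0}ᶜ)
    (fun w hw => ⟨(hDio w hw).inter isOpen_compl_singleton, ⟨_, hDi1 w hw, by
      rw [Set.mem_compl_singleton_iff]
      exact (_root_.map_ne_zero _).2 (by norm_num)⟩⟩)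
  -- `d ≠ 0`
  have hSfT : ∀ v ∈ Sf, v ∈ T := fun v hv =>
    Finset.mem_erase.2 ⟨fun h => hv₀ (h ▸ hv), Finset.mem_union_left _ hv⟩
  have hd0 : d ≠ 0 := by
    rcases not_and_or.1 hS with h | h
    · obtain ⟨v, hv⟩ := Finset.nonempty_iff_ne_empty.2 h
      have := hdT v (hSfT v hv)
      simp only [hv, if_true] at this
      rintro rfl
      exact this.2 (map_zero _)
    · obtain ⟨w, hw⟩ := Finset.nonempty_iff_ne_empty.2 h
      have := (hdSi w hw).2
      rintro rfl
      exact this (map_zero _)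
  have hPfin : {v : HeightOneSpectrum (𝓞 k) | v.valuation k d < 1}.Finite := by
    refine (HeightOneSpectrum.Support.finite (𝓞 k) (d⁻¹)).subset fun v hv => ?_
    simp only [Set.mem_ofPred_eq] at hv
    simp only [HeightOneSpectrum.Support, Set.mem_ofPred_eq, map_inv₀]
    exact (one_lt_inv₀ (zero_lt_iff.2 ((_root_.map_ne_zero _).2 hd0))).2 hv
  set P : Finset (HeightOneSpectrum (𝓞 k)) := hPfin.toFinset \ (T ∪ {v₀}) with hP
  have hPmem : ∀ v, v ∈ P ↔ v.valuation k d < 1 ∧ v ∉ T ∧ v ≠ v₀ := by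
    intro v
    simp only [hP, Finset.mem_sdiff, Set.Finite.mem_toFinset, Set.mem_ofPred_eq, Finset.mem_union,
      Finset.mem_singleton, not_or]
  set T' : Finset (HeightOneSpectrum (𝓞 k)) := T ∪ P with hT'
  have hv₀T' : v₀ ∉ T' := by
    rw [hT', Finset.mem_union, not_or]
    exact ⟨hv₀T, fun h => ((hPmem v₀).1 h).2.2 rfl⟩
  -- choose c
  obtain ⟨c, hcT, hcSi, hcint⟩ := NFApproxLocal.strong_approx_local v₀ T' hv₀T' Si
    (fun v => if v ∈ Sf then Cf v else Metric.ball (1 : v.adicCompletion k) 1)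
    (fun v hv => by
      by_cases hvS : v ∈ Sf
      · simp only [hvS, if_true]
        exact ⟨hCfo v hvS, ⟨_, hCf0 v hvS⟩⟩
      · simp only [hvS, if_false]
        exact ⟨Metric.isOpen_ball, ⟨1, Metric.mem_ball_self one_pos⟩⟩)
    Ci (fun w hw => ⟨hCio w hw, ⟨_, hCi0 w hw⟩⟩)
  set cK : K := algebraMap k K c with hcK
  set dK : K := algebraMap k K d with hdK
  set u : K := NFHensel.normForm f cK dK with hu
  -- the valuations of `c` and `d` at the places outside `Sf ∪ {v₀}`
  have hcd : ∀ v : HeightOneSpectrum (𝓞 k), v ∉ Sf → v ≠ v₀ →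
      v.valuation k c ≤ 1 ∧ v.valuation k d ≤ 1 ∧
      (v ∈ Bad → v.valuation k c = 1 ∧ v.valuation k d ≤ WithZero.exp (-(m v : ℤ))) ∧
      (v.valuation k d < 1 → v.valuation k c = 1) := by
    intro v hvS hv0
    by_cases hvB : v ∈ Bad
    · have hvT : v ∈ T := Finset.mem_erase.2 ⟨hv0, Finset.mem_union_right _ hvB⟩
      have h1 := hcT v (Finset.mem_union_left _ hvT)
      have h2 := hdT v hvT
      simp only [hvS, if_false] at h1 h2
      have hc1 := NFMain.val_eq_one_of_mem_ball v c h1
      have hd1 := NFMain.val_le_of_mem_ball v d (m v) h2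
      refine ⟨hc1.le, hd1.trans ?_, fun _ => ⟨hc1, hd1⟩, fun _ => hc1⟩
      rw [← WithZero.exp_zero, WithZero.exp_le_exp]
      omega
    · have hvT : v ∉ T := by
        rw [hT, Finset.mem_erase, Finset.mem_union]
        tauto
      have hdle : v.valuation k d ≤ 1 := hdint v hvT hv0
      by_cases hvP : v.valuation k d < 1
      · have hvPm : v ∈ P := (hPmem v).2 ⟨hvP, hvT, hv0⟩
        have h1 := hcT v (Finset.mem_union_right _ hvPm)
        simp only [hvS, if_false] at h1
        have hc1 := NFMain.val_eq_one_of_mem_ball v c h1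
        exact ⟨hc1.le, hdle, fun h => absurd h hvB, fun _ => hc1⟩
      · have hvT' : v ∉ T' := by
          rw [hT', Finset.mem_union, not_or]
          exact ⟨hvT, fun h => hvP ((hPmem v).1 h).1⟩
        exact ⟨hcint v hvT' hv0, hdle, fun h => absurd h hvB, fun h => absurd h hvP⟩
  refine ⟨u, fun v hv => ?_, fun w hw => ?_, fun v hvS hv0 => ?_, fun W hWS hWu => ?_⟩
  · have h1 := hcT v (Finset.mem_union_left _ (hSfT v hv))
    have h2 := hdT v (hSfT v hv)
    simp only [hv, if_true] at h1 h2
    exact hCDfU v hv c d h1 h2.1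
  · exact hCDiU w hw c d (hcSi w hw) (hdSi w hw).1
  · -- the polynomial expression of `u`
    obtain ⟨hc1, hd1, hbad, -⟩ := hcd v hvS hv0
    refine ⟨∑ i ∈ Finset.range (deg + 1), C (c ^ i * d ^ (deg - i)) * g i, fun j => ?_, ?_⟩
    · rw [finsetSum_coeff]
      refine (v.valuation k).map_sum_le fun i hi => ?_
      have hi' : i ≤ deg := by have := Finset.mem_range.1 hi; omega
      rw [coeff_C_mul, map_mul, map_mul, map_pow, map_pow]
      by_cases hvB : v ∈ Bad
      · obtain ⟨hc1', hdm⟩ := hbad hvB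
        rcases Nat.eq_or_lt_of_le hi' with rfl | hlt
        · simp only [hg, if_true, Nat.sub_self, pow_zero, mul_one]
          rw [coeff_one]
          split_ifs
          · rw [map_one, mul_one]; exact pow_le_one' hc1 _
          · rw [map_zero, mul_zero]; exact zero_le
        · obtain ⟨r, hr⟩ : ∃ r, deg - i = r + 1 := ⟨deg - i - 1, by omega⟩
          rw [hr, pow_succ]
          calc v.valuation k c ^ i * (v.valuation k d ^ r * v.valuation k d) *
                v.valuation k ((g i).coeff j)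
              ≤ 1 * (1 * WithZero.exp (-(m v : ℤ))) * WithZero.exp (m v : ℤ) := by
                gcongr
                · exact pow_le_one' hc1 _
                · exact pow_le_one' hd1 _
                · exact hmg' v i hi' j
            _ = 1 := by
                rw [one_mul, one_mul, ← WithZero.exp_add, neg_add_cancel, WithZero.exp_zero]
      · have hgi := (hBadmem v hvB).2 i hi' j
        calc v.valuation k c ^ i * v.valuation k d ^ (deg - i) * v.valuation k ((g i).coeff j)
            ≤ 1 * 1 * 1 := by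
              gcongr
              · exact pow_le_one' hc1 _
              · exact pow_le_one' hd1 _
          _ = 1 := by simp
    · rw [map_sum, hu, NFHensel.normForm, ← hdeg]
      refine Finset.sum_congr rfl fun i _ => ?_
      rw [map_mul, aeval_C, hgf, map_mul, map_pow, map_pow]
      ring
  · -- the splitting condition
    set v := HeightOneSpectrum.under (𝓞 k) W with hv
    have hWv : W.asIdeal.LiesOver v.asIdeal := HWValOver.liesOver_under W
    have hvS : v ∉ Sf := fun h => hWS ⟨v, h, hWv⟩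
    by_cases hv0 : v = v₀
    · exact hsplit W (hv0 ▸ hWv)
    obtain ⟨hc1, hd1, hbad, hdlt⟩ := hcd v hvS hv0
    have hcW : W.valuation K cK ≤ 1 := HWValOver.val_over_le_one v W hWv hc1
    have hdW : W.valuation K dK ≤ 1 := HWValOver.val_over_le_one v W hWv hd1
    by_cases hvB : v ∈ Bad
    · exfalso
      obtain ⟨hc1', hdm⟩ := hbad hvB
      have hcW1 : W.valuation K cK = 1 := HWValOver.val_over_eq_one v W hWv hc1'
      have hdWm : W.valuation K dK ≤ WithZero.exp (-(m v : ℤ)) :=
        (HWValOver.val_over_le v W hWv hd1).trans hdm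
      have : W.valuation K u = 1 := by
        refine NFHensel.val_normForm_eq_one _ f hfmonic cK dK hcW1 hdW fun i hi => ?_
        have hWmem : W ∈ (hover v).toFinset := by
          rw [Set.Finite.mem_toFinset]; exact hWv
        calc W.valuation K (f.coeff i) * W.valuation K dK
            ≤ W.valuation K (f.coeff i) * WithZero.exp (-(m v : ℤ)) := by gcongr
          _ < WithZero.exp (m v : ℤ) * WithZero.exp (-(m v : ℤ)) :=
              mul_lt_mul_of_pos_right (hmW v W hWmem i (Finset.mem_range.2 hi)) WithZero.exp_pos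
          _ = 1 := by rw [← WithZero.exp_add, add_neg_cancel, WithZero.exp_zero]
      rw [this] at hWu
      exact lt_irrefl _ hWu
    · obtain ⟨hfi, hAi, hBi⟩ := hBadKmem W ((hBadmem v hvB).1 W hWv)
      by_cases hdlt1 : v.valuation k d < 1
      · exfalso
        have hcW1 : W.valuation K cK = 1 := HWValOver.val_over_eq_one v W hWv (hdlt hdlt1)
        have hdWlt : W.valuation K dK < 1 := HWValOver.val_over_lt_one v W hWv hdlt1
        have : W.valuation K u = 1 := by
          refine NFHensel.val_normForm_eq_one _ f hfmonic cK dK hcW1 hdW fun i _ => ?_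
          calc W.valuation K (f.coeff i) * W.valuation K dK ≤ 1 * W.valuation K dK := by
                gcongr
                exact hfi i
            _ = W.valuation K dK := one_mul _
            _ < 1 := hdWlt
        rw [this] at hWu
        exact lt_irrefl _ hWu
      · have hd1' : v.valuation k d = 1 := le_antisymm hd1 (not_lt.1 hdlt1)
        have hdW1 : W.valuation K dK = 1 := HWValOver.val_over_eq_one v W hWv hd1'
        exact NFHensel.nonempty_algHom_of_val_normForm_lt_one W x hprimK A B hAB hfi hAi hBi cK dK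
          hcW hdW1 hWu

end Groth.Agent.Lib.helper12.HWRelCore
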