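import Mathlib
import Groth.Agent.Lib.Helper12.NFMain2
set_option linter.style.haveILetI false
set_option linter.unusedSectionVars false

universe u
open scoped TensorProduct
namespace Groth.Agent.Lib.helper12.NFSplit
open IsDedekindDomain HeightOneSpectrum NumberField NumberField.InfinitePlace IntermediateField Polynomial
open scoped WithZero NNReal
open Groth.Agent.Lib.helper12

variable {K : Type*} [Field K] [NumberField K]

theorem infinitePlace_natCast (w : InfinitePlace K) (j : ℕ) : w (j : K) = j := by
  rw [← norm_embedding_eq, map_natCast, Complex.norm_natCast]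

/-- equality of all finite valuations gives equality of the archimedean products -/
theorem prod_infinite_eq_of_val_eq (x a : K) (hx : x ≠ 0) (ha : a ≠ 0)
    (h : ∀ v : HeightOneSpectrum (𝓞 K), v.valuation K x = v.valuation K a) :
    ∏ w : InfinitePlace K, w x ^ w.mult = ∏ w : InfinitePlace K, w a ^ w.mult := by
  have h1 := prod_abs_eq_one hx
  have h2 := prod_abs_eq_one ha
  have h3 : ∏ᶠ w : FinitePlace K, w x = ∏ᶠ w : FinitePlace K, w a := by
    refine finprod_congr fun w => ?_
    rw [← FinitePlace.mk_maximalIdeal w, FinitePlace.mk_apply, FinitePlace.mk_apply,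
      FinitePlace.norm_embedding', FinitePlace.norm_embedding', h]
  rw [h3] at h1
  have h4 : ∏ᶠ w : FinitePlace K, w a ≠ 0 := by
    intro h0
    rw [h0, mul_zero] at h2
    exact zero_ne_one h2
  exact mul_right_cancel₀ h4 (h1.trans h2.symm)

theorem le_prod_infinite (x : K) (R : ℝ) (hR : 1 ≤ R) (h : ∀ w : InfinitePlace K, R ≤ w x) :
    R ≤ ∏ w : InfinitePlace K, w x ^ w.mult := by
  calc R = R ^ 1 := (pow_one R).symm
    _ ≤ R ^ (Module.finrank ℚ K) := pow_le_pow_right₀ hR Module.finrank_pos
    _ = ∏ w : InfinitePlace K, R ^ w.mult := by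
        rw [Finset.prod_pow_eq_pow_sum, sum_mult_eq]
    _ ≤ _ := by
        refine Finset.prod_le_prod (fun w _ => by positivity) fun w _ => ?_
        exact pow_le_pow_left₀ (by linarith) (h w) _

theorem val_natCast_le_one (v : HeightOneSpectrum (𝓞 K)) (j : ℕ) : v.valuation K (j : K) ≤ 1 := by
  have := v.valuation_le_one (K := K) (j : 𝓞 K)
  simpa using this

/-- a nonconstant polynomial takes a value divisible by a prime outside any given finite set -/
theorem exists_val_eval_lt_one (f : K[X]) (hf : 0 < f.natDegree)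
    (E : Finset (HeightOneSpectrum (𝓞 K)))
    (hE : ∀ v ∉ E, ∀ i, v.valuation K (f.coeff i) ≤ 1) :
    ∃ v ∉ E, ∃ c : K, v.valuation K c ≤ 1 ∧ v.valuation K (f.eval c) < 1 := by
  classical
  have hf0 : f ≠ 0 := by
    rintro rfl
    simp at hf
  obtain ⟨c₀, ⟨j, rfl⟩, hj⟩ :=
    (Set.infinite_range_of_injective (Nat.cast_injective (R := K))).exists_notMem_finset
      f.roots.toFinset
  have ha : f.eval (j : K) ≠ 0 := by
    intro h0
    exact hj (Multiset.mem_toFinset.2 ((mem_roots hf0).2 h0))
  set a := f.eval (j : K) with hadef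
  set g := f.comp (X + C (j : K)) with hg
  set q := g.divX with hq
  have hgq : q * X + C a = g := by
    have := divX_mul_X_add g
    rw [coeff_zero_eq_eval_zero, hg, eval_comp] at this
    have h0 : (X + C (j : K)).eval 0 = (j : K) := by
      rw [eval_add, eval_X, eval_C, zero_add]
    rw [h0] at this
    exact this
  have hid : ∀ y : K, f.eval ((j : K) + y) = y * q.eval y + a := by
    intro y
    have := congrArg (eval y) hgq
    rw [eval_add, eval_mul, eval_X, eval_C, hg, eval_comp] at this
    simp only [eval_add, eval_X, eval_C] at this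
    rw [add_comm (j : K) y, ← this]
    ring
  -- the exponents
  have hm : ∀ v : HeightOneSpectrum (𝓞 K), ∃ m : ℕ, ∀ i ∈ Finset.range (q.natDegree + 1),
      v.valuation K (q.coeff i * a ^ i) < WithZero.exp (m : ℤ) :=
    fun v => NFMain.exists_exp_gt_finset _ _
  choose mv hmv using hm
  set m := E.sup mv with hmdef
  obtain ⟨M, hM0, hME⟩ := NFMain.exists_integer_val_le E m
  have hMK : (M : K) ≠ 0 := by simpa using hM0
  by_contra hcon
  push Not at hcon
  have hint : ∀ v ∉ E, ∀ c : K, v.valuation K c ≤ 1 → v.valuation K (f.eval c) = 1 :=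
    fun v hv c hc => le_antisymm (NFHensel.val_eval_le_one _ f (hE v hv) c hc) (hcon v hv c hc)
  set xz : ℕ → K := fun z => f.eval ((j : K) + a * M * z) with hxz
  have hval : ∀ (z : ℕ) (v : HeightOneSpectrum (𝓞 K)), v.valuation K (xz z) = v.valuation K a := by
    intro z v
    by_cases hv : v ∈ E
    · have h1 : xz z = a * (1 + (M : K) * z * q.eval (a * M * z)) := by
        simp only [hxz]
        rw [hid]
        ring
      have hy : v.valuation K (q.eval (a * M * z)) < WithZero.exp (m : ℤ) := by
        rw [eval_eq_sum_range]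
        refine Valuation.map_sum_lt _ WithZero.exp_ne_zero fun i hi => ?_
        have h2 : q.coeff i * (a * M * z) ^ i = (q.coeff i * a ^ i) * ((M : K) ^ i * (z : K) ^ i) := by
          ring
        rw [h2, map_mul]
        have h3 : v.valuation K ((M : K) ^ i * (z : K) ^ i) ≤ 1 := by
          rw [map_mul, map_pow, map_pow]
          exact mul_le_one' (pow_le_one' (v.valuation_le_one M) i)
            (pow_le_one' (val_natCast_le_one v z) i)
        calc v.valuation K (q.coeff i * a ^ i) * v.valuation K ((M : K) ^ i * (z : K) ^ i)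
            ≤ v.valuation K (q.coeff i * a ^ i) * 1 := by gcongr
          _ = v.valuation K (q.coeff i * a ^ i) := mul_one _
          _ < WithZero.exp (mv v : ℤ) := hmv v i hi
          _ ≤ WithZero.exp (m : ℤ) := by
              rw [WithZero.exp_le_exp]
              exact_mod_cast Finset.le_sup hv
      have h4 : v.valuation K ((M : K) * z * q.eval (a * M * z)) < 1 := by
        rw [map_mul, map_mul]
        calc v.valuation K (M : K) * v.valuation K (z : K) * v.valuation K (q.eval (a * M * z))
            ≤ WithZero.exp (-(m : ℤ)) * 1 * v.valuation K (q.eval (a * M * z)) := by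
              gcongr
              · exact hME v hv
              · exact val_natCast_le_one v z
          _ = WithZero.exp (-(m : ℤ)) * v.valuation K (q.eval (a * M * z)) := by rw [mul_one]
          _ < WithZero.exp (-(m : ℤ)) * WithZero.exp (m : ℤ) :=
              mul_lt_mul_of_pos_left hy WithZero.exp_pos
          _ = 1 := by rw [← WithZero.exp_add, neg_add_cancel, WithZero.exp_zero]
      rw [h1, map_mul, Valuation.map_one_add_of_lt _ h4, mul_one]
    · have h1 : v.valuation K a = 1 := hint v hv _ (val_natCast_le_one v j)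
      have h2 : v.valuation K ((j : K) + a * M * z) ≤ 1 := by
        refine (Valuation.map_add _ _ _).trans (max_le (val_natCast_le_one v j) ?_)
        rw [map_mul, map_mul, h1, one_mul]
        exact mul_le_one' (v.valuation_le_one M) (val_natCast_le_one v z)
      rw [h1]
      exact hint v hv _ h2
  -- growth at the infinite places
  set F := f.comp (C (a * M) * X + C (j : K)) with hF
  have hFeval : ∀ z : ℕ, xz z = F.eval (z : K) := by
    intro z
    simp only [hxz, hF, eval_comp, eval_add, eval_mul, eval_C, eval_X]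
    congr 1
    ring
  have hFdeg : 0 < F.degree := by
    rw [← natDegree_pos_iff_degree_pos, hF, natDegree_comp,
      natDegree_linear (mul_ne_zero ha hMK), mul_one]
    exact hf
  have hgrow : ∀ w : InfinitePlace K, Filter.Tendsto (fun z : ℕ => w (xz z)) Filter.atTop
      Filter.atTop := by
    intro w
    have hz : Filter.Tendsto (w.1 ∘ fun z : ℕ => (z : K)) Filter.atTop Filter.atTop := by
      have : (w.1 ∘ fun z : ℕ => (z : K)) = fun z : ℕ => (z : ℝ) := by
        funext z
        exact infinitePlace_natCast w z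
      rw [this]
      exact tendsto_natCast_atTop_atTop
    have := F.tendsto_abv_atTop w.1 hFdeg hz
    simp only [hFeval]
    exact this
  set R : ℝ := max 1 (∏ w : InfinitePlace K, w a ^ w.mult) + 1 with hR
  have hR1 : 1 ≤ R := by
    have := le_max_left 1 (∏ w : InfinitePlace K, w a ^ w.mult)
    linarith
  have hev : ∀ᶠ z : ℕ in Filter.atTop, ∀ w : InfinitePlace K, R ≤ w (xz z) := by
    rw [Filter.eventually_all]
    exact fun w => (hgrow w).eventually_ge_atTop R
  obtain ⟨z, hz⟩ := hev.exists
  have hxz0 : xz z ≠ 0 := by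
    obtain ⟨w⟩ : Nonempty (InfinitePlace K) := inferInstance
    intro h0
    have := hz w
    rw [h0, map_zero] at this
    linarith
  have h1 := le_prod_infinite (xz z) R hR1 hz
  rw [prod_infinite_eq_of_val_eq (xz z) a hxz0 ha (hval z)] at h1
  have := le_max_right 1 (∏ w : InfinitePlace K, w a ^ w.mult)
  linarith

/-- there is a place outside any given finite set at which `L` has a point of degree one -/
theorem exists_split_place (k L : Type u) [Field k] [NumberField k] [Field L] [NumberField L]
    [Algebra k L] (Sf : Finset (HeightOneSpectrum (𝓞 k))) :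
    ∃ v₀, v₀ ∉ Sf ∧ Nonempty (L →ₐ[k] v₀.adicCompletion k) := by
  classical
  obtain ⟨x, hprim⟩ := Field.exists_primitive_element k L
  set f := minpoly k x with hf
  have hsep : f.Separable := (minpoly.irreducible (IsIntegral.of_finite k x)).separable
  obtain ⟨A, B, hAB⟩ := hsep
  set Bad : Finset (HeightOneSpectrum (𝓞 k)) :=
    ((NFMain2.finite_bad_coeff f).union
      ((NFMain2.finite_bad_coeff A).union (NFMain2.finite_bad_coeff B))).toFinset with hBad
  have hBadmem : ∀ v, v ∉ Bad → (∀ i, v.valuation k (f.coeff i) ≤ 1) ∧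
      (∀ i, v.valuation k (A.coeff i) ≤ 1) ∧ (∀ i, v.valuation k (B.coeff i) ≤ 1) := by
    intro v hv
    rw [hBad, Set.Finite.mem_toFinset] at hv
    simp only [Set.mem_union, Set.mem_ofPred_eq, not_or, not_exists, not_lt] at hv
    exact ⟨hv.1, hv.2.1, hv.2.2⟩
  have hdeg : 0 < f.natDegree := by
    rw [hf, NFHensel.natDegree_minpoly_of_primitive x hprim]
    exact Module.finrank_pos
  obtain ⟨v, hv, c, hc, hfc⟩ := exists_val_eval_lt_one f hdeg (Sf ∪ Bad)
    (fun v hv => (hBadmem v (fun h => hv (Finset.mem_union_right _ h))).1)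
  have hvS : v ∉ Sf := fun h => hv (Finset.mem_union_left _ h)
  have hvB : v ∉ Bad := fun h => hv (Finset.mem_union_right _ h)
  obtain ⟨hfi, hAi, hBi⟩ := hBadmem v hvB
  refine ⟨v, hvS, ?_⟩
  refine NFHensel.nonempty_algHom_of_val_normForm_lt_one v x hprim A B hAB hfi hAi hBi c 1 hc
    (map_one _) ?_
  rw [NFHensel.normForm_eq f c 1 one_ne_zero, one_pow, one_mul, div_one]
  exact hfc

theorem main (k L : Type u) [Field k] [NumberField k]
    [Field L] [NumberField L] [Algebra k L]
    (Sf : Finset (IsDedekindDomain.HeightOneSpectrum (NumberField.RingOfIntegers k)))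
    (Si : Finset (NumberField.InfinitePlace k))
    (tf : (v : IsDedekindDomain.HeightOneSpectrum (NumberField.RingOfIntegers k)) → v.adicCompletion k)
    (ti : (w : NumberField.InfinitePlace k) → w.Completion)
    (htf : ∀ v ∈ Sf, tf v ≠ 0 ∧ ∃ x : (v.adicCompletion k) ⊗[k] L, Algebra.norm (v.adicCompletion k) x = tf v)
    (hti : ∀ w ∈ Si, ti w ≠ 0 ∧ ∃ x : w.Completion ⊗[k] L, Algebra.norm w.Completion x = ti w)
    (Uf : (v : IsDedekindDomain.HeightOneSpectrum (NumberField.RingOfIntegers k)) → Set (v.adicCompletion k))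
    (hUf : ∀ v ∈ Sf, IsOpen (Uf v) ∧ tf v ∈ Uf v)
    (Ui : (w : NumberField.InfinitePlace k) → Set w.Completion)
    (hUi : ∀ w ∈ Si, IsOpen (Ui w) ∧ ti w ∈ Ui w) :
    ∃ t : k, t ≠ 0 ∧ (∀ v ∈ Sf, algebraMap k (v.adicCompletion k) t ∈ Uf v) ∧
      (∀ w ∈ Si, algebraMap k w.Completion t ∈ Ui w) ∧
      ∀ v : IsDedekindDomain.HeightOneSpectrum (NumberField.RingOfIntegers k), v ∉ Sf →
        v.valuation k t = 1 ∨ Nonempty (L →ₐ[k] v.adicCompletion k) := by
  obtain ⟨v₀, hv₀, hLv₀⟩ := exists_split_place k L Sf
  obtain ⟨t, h1, h2, h3, -, h5⟩ := NFMain2.main_integral k L Sf Si tf ti htf hti Uf hUf Ui hUi v₀ hv₀ hLv₀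
  exact ⟨t, h1, h2, h3, h5⟩

end Groth.Agent.Lib.helper12.NFSplit
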