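import Mathlib
import Groth.Agent.Lib.Helper12.HWRelCore
import Groth.Agent.Lib.Helper12.HWFunc
import Groth.Agent.Lib.Helper12.HWCommon
import Groth.Agent.Lib.Helper12.NFSplit
set_option linter.style.haveILetI false
set_option linter.unusedSectionVars false

universe u
open scoped TensorProduct
open NumberField

namespace Groth.Agent.Lib.helper12.HWCaseA
open IsDedekindDomain HeightOneSpectrum NumberField NumberField.InfinitePlace IntermediateField Polynomial
open scoped WithZero NNReal Topology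
open Groth.Agent.Lib.helper12

attribute [local instance] HWRelNorm.relAlg

/-- the coordinate functional of an extension of degree one, twisted by `b` -/
theorem exists_functional_deg_one {k K : Type*} [Field k] [Field K] [Algebra k K]
    (hdeg : Module.finrank k K = 1) (b : K) (hb : b ≠ 0) :
    ∃ φ : K →ₗ[k] k, (∀ y : K, y = b * algebraMap k K (φ y)) ∧
      ∀ p : k, φ (b * algebraMap k K p) = p := by
  have hsurj : Function.Surjective (Algebra.linearMap k K) := by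
    intro y
    obtain ⟨c, hc⟩ := (finrank_eq_one_iff_of_nonzero' (1 : K) one_ne_zero).1 hdeg y
    exact ⟨c, by rw [Algebra.linearMap_apply, Algebra.algebraMap_eq_smul_one, hc]⟩
  have hinj : Function.Injective (Algebra.linearMap k K) := (algebraMap k K).injective
  let e : k ≃ₗ[k] K := LinearEquiv.ofBijective (Algebra.linearMap k K) ⟨hinj, hsurj⟩
  have he : ∀ z : K, algebraMap k K (e.symm z) = z := fun z => e.apply_symm_apply z
  have he' : ∀ p : k, e.symm (algebraMap k K p) = p := fun p => e.symm_apply_apply p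
  refine ⟨e.symm.toLinearMap ∘ₗ LinearMap.mulLeft k b⁻¹, fun y => ?_, fun p => ?_⟩
  · change y = b * algebraMap k K (e.symm (b⁻¹ * y))
    rw [he, mul_inv_cancel_left₀ hb]
  · change e.symm (b⁻¹ * (b * algebraMap k K p)) = p
    rw [inv_mul_cancel_left₀ hb, he']

theorem caseA (k K L : Type u) [Field k] [NumberField k] [Field K] [NumberField K]
    [Field L] [NumberField L] [Algebra k K] [Algebra K L] [Algebra k L] [IsScalarTower k K L]
    (a : K) (ha : k⟮a⟯ = ⊤) (hdeg : Module.finrank k K = 1) (b : K) (hb : b ≠ 0)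
    (Sf : Finset (HeightOneSpectrum (𝓞 k))) (Si : Finset (InfinitePlace k))
    (hSb : ∀ W : HeightOneSpectrum (𝓞 K), W.valuation K b ≠ 1 →
      ∃ v ∈ Sf, W.asIdeal.LiesOver v.asIdeal)
    (hsplitAll : ∀ S' : Finset (HeightOneSpectrum (𝓞 k)), ∃ v₀, v₀ ∉ S' ∧
      ∀ W : HeightOneSpectrum (𝓞 K), W.asIdeal.LiesOver v₀.asIdeal →
        Nonempty (L →ₐ[K] W.adicCompletion K))
    (tf : (v : HeightOneSpectrum (𝓞 k)) → v.adicCompletion k)
    (ti : (w : InfinitePlace k) → w.Completion)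
    (htf : ∀ v ∈ Sf, ∃ x : (v.adicCompletion k) ⊗[k] L,
        Algebra.norm ((v.adicCompletion k) ⊗[k] K) x =
          (1 : v.adicCompletion k) ⊗ₜ[k] b *
            (tf v ⊗ₜ[k] (1 : K) - (1 : v.adicCompletion k) ⊗ₜ[k] a))
    (hti : ∀ w ∈ Si, ∃ x : w.Completion ⊗[k] L,
        Algebra.norm (w.Completion ⊗[k] K) x =
          (1 : w.Completion) ⊗ₜ[k] b * (ti w ⊗ₜ[k] (1 : K) - (1 : w.Completion) ⊗ₜ[k] a))
    (Uf : (v : HeightOneSpectrum (𝓞 k)) → Set (v.adicCompletion k))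
    (hUf : ∀ v ∈ Sf, IsOpen (Uf v) ∧ tf v ∈ Uf v)
    (Ui : (w : InfinitePlace k) → Set w.Completion)
    (hUi : ∀ w ∈ Si, IsOpen (Ui w) ∧ ti w ∈ Ui w) :
    ∃ t₀ : k, (∀ v ∈ Sf, algebraMap k (v.adicCompletion k) t₀ ∈ Uf v) ∧
      (∀ w ∈ Si, algebraMap k w.Completion t₀ ∈ Ui w) ∧
      ∀ W : HeightOneSpectrum (𝓞 K), W.valuation K (algebraMap k K t₀ - a) < 1 →
          (∃ v ∈ Sf, W.asIdeal.LiesOver v.asIdeal) ∨ Nonempty (L →ₐ[K] W.adicCompletion K) := by
  classical
  obtain ⟨φ, hφ, hφmk⟩ := exists_functional_deg_one hdeg b hb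
  obtain ⟨φ₁, hφ₁, -⟩ := exists_functional_deg_one hdeg (1 : K) one_ne_zero
  set α : k := φ₁ a with hα
  have hαa : algebraMap k K α = a := by
    have := hφ₁ a
    rw [one_mul] at this
    exact this.symm
  have hφb : φ b = 1 := by
    have := hφmk 1
    rwa [map_one, mul_one] at this
  have hφba : φ (b * a) = α := by
    rw [← hαa]
    exact hφmk α
  obtain ⟨v₀, hv₀, hsplit⟩ := hsplitAll Sf
  have hlocf : ∀ v ∈ Sf, ∃ (x : (v.adicCompletion k) ⊗[k] L)
      (Ω : Set ((v.adicCompletion k) ⊗[k] K)),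
      IsOpen[moduleTopology (v.adicCompletion k) ((v.adicCompletion k) ⊗[k] K)] Ω ∧
      Algebra.norm ((v.adicCompletion k) ⊗[k] K) x ∈ Ω ∧
      ∀ u : K, (1 : v.adicCompletion k) ⊗ₜ[k] u ∈ Ω →
        algebraMap k (v.adicCompletion k) (φ u) + algebraMap k (v.adicCompletion k) α ∈ Uf v := by
    intro v hvS
    obtain ⟨x, hx⟩ := htf v hvS
    obtain ⟨Ω, hΩo, hΩm, hΩu⟩ := HWFunc.exists_local_SA (v.adicCompletion k) φ a b α
      hφb hφba (tf v) (Uf v) (hUf v hvS).1 (hUf v hvS).2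
    exact ⟨x, Ω, hΩo, by rw [hx]; exact hΩm, hΩu⟩
  have hloci : ∀ w ∈ Si, ∃ (x : w.Completion ⊗[k] L) (Ω : Set (w.Completion ⊗[k] K)),
      IsOpen[moduleTopology w.Completion (w.Completion ⊗[k] K)] Ω ∧
      Algebra.norm (w.Completion ⊗[k] K) x ∈ Ω ∧
      ∀ u : K, (1 : w.Completion) ⊗ₜ[k] u ∈ Ω →
        algebraMap k w.Completion (φ u) + algebraMap k w.Completion α ∈ Ui w := by
    intro w hw
    obtain ⟨x, hx⟩ := hti w hw
    obtain ⟨Ω, hΩo, hΩm, hΩu⟩ := HWFunc.exists_local_SA w.Completion φ a b α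
      hφb hφba (ti w) (Ui w) (hUi w hw).1 (hUi w hw).2
    exact ⟨x, Ω, hΩo, by rw [hx]; exact hΩm, hΩu⟩
  choose! xf Ωf hΩfo hΩfm hΩfu using hlocf
  choose! xi Ωi hΩio hΩim hΩiu using hloci
  obtain ⟨u, huf, hui, -, hemb⟩ := HWRelCore.rel_core k K L a ha Sf Si v₀ hv₀ hsplit
    xf xi Ωf Ωi (fun v hv => ⟨hΩfo v hv, hΩfm v hv⟩) (fun w hw => ⟨hΩio w hw, hΩim w hw⟩)
  have hkey : algebraMap k K (φ u + α) - a = u / b := by
    rw [map_add, hαa, add_sub_cancel_right, eq_div_iff hb, mul_comm]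
    exact (hφ u).symm
  refine ⟨φ u + α, ?_, ?_, ?_⟩
  · intro v hv
    rw [map_add]
    exact hΩfu v hv u (huf v hv)
  · intro w hw
    rw [map_add]
    exact hΩiu w hw u (hui w hw)
  · intro W hWlt
    by_cases hWS : ∃ v ∈ Sf, W.asIdeal.LiesOver v.asIdeal
    · exact Or.inl hWS
    right
    have hbW : W.valuation K b = 1 := by
      by_contra hne
      exact hWS (hSb W hne)
    rw [hkey, map_div₀, hbW, div_one] at hWlt
    exact hemb W hWS hWlt

end Groth.Agent.Lib.helper12.HWCaseA
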