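import Mathlib
import Groth.Agent.Lib.Helper12.HWRelCore
import Groth.Agent.Lib.Helper12.HWFunc
import Groth.Agent.Lib.Helper12.HWCommon
import Groth.Agent.Lib.Helper12.NFSplit
set_option linter.style.haveILetI false
set_option linter.unusedSectionVars false

universe u
open scoped TensorProduct
open NumberField

namespace Groth.Agent.Lib.helper12.HWCaseB
open IsDedekindDomain HeightOneSpectrum NumberField NumberField.InfinitePlace IntermediateField Polynomial
open scoped WithZero NNReal Topology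
open Groth.Agent.Lib.helper12

attribute [local instance] HWRelNorm.relAlg

theorem caseB (k K L : Type u) [Field k] [NumberField k] [Field K] [NumberField K]
    [Field L] [NumberField L] [Algebra k K] [Algebra K L] [Algebra k L] [IsScalarTower k K L]
    (a : K) (ha : k⟮a⟯ = ⊤) (hdeg : Module.finrank k K = 2) (b : K) (hb : b ≠ 0)
    (Sf : Finset (HeightOneSpectrum (𝓞 k))) (Si : Finset (InfinitePlace k))
    (hSb : ∀ W : HeightOneSpectrum (𝓞 K), W.valuation K b ≠ 1 →
      ∃ v ∈ Sf, W.asIdeal.LiesOver v.asIdeal)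
    (hSram : ∀ Q : Ideal (𝓞 L), Q.IsPrime → Q ≠ ⊥ → Q.ramificationIdx (𝓞 K) ≠ 1 →
      ∃ v ∈ Sf, Q.LiesOver v.asIdeal)
    (hsplitAll : ∀ S' : Finset (HeightOneSpectrum (𝓞 k)), ∃ v₀, v₀ ∉ S' ∧
      ∀ W : HeightOneSpectrum (𝓞 K), W.asIdeal.LiesOver v₀.asIdeal →
        Nonempty (L →ₐ[K] W.adicCompletion K))
    (tf : (v : HeightOneSpectrum (𝓞 k)) → v.adicCompletion k)
    (ti : (w : InfinitePlace k) → w.Completion)
    (htf : ∀ v ∈ Sf, ∃ x : (v.adicCompletion k) ⊗[k] L,
        Algebra.norm ((v.adicCompletion k) ⊗[k] K) x =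
          (1 : v.adicCompletion k) ⊗ₜ[k] b *
            (tf v ⊗ₜ[k] (1 : K) - (1 : v.adicCompletion k) ⊗ₜ[k] a))
    (hti : ∀ w ∈ Si, ∃ x : w.Completion ⊗[k] L,
        Algebra.norm (w.Completion ⊗[k] K) x =
          (1 : w.Completion) ⊗ₜ[k] b * (ti w ⊗ₜ[k] (1 : K) - (1 : w.Completion) ⊗ₜ[k] a))
    (Uf : (v : HeightOneSpectrum (𝓞 k)) → Set (v.adicCompletion k))
    (hUf : ∀ v ∈ Sf, IsOpen (Uf v) ∧ tf v ∈ Uf v)
    (Ui : (w : InfinitePlace k) → Set w.Completion)
    (hUi : ∀ w ∈ Si, IsOpen (Ui w) ∧ ti w ∈ Ui w) :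
    ∃ t₀ : k, (∀ v ∈ Sf, algebraMap k (v.adicCompletion k) t₀ ∈ Uf v) ∧
      (∀ w ∈ Si, algebraMap k w.Completion t₀ ∈ Ui w) ∧
      ∀ W : HeightOneSpectrum (𝓞 K), W.valuation K (algebraMap k K t₀ - a) < 1 →
          (∃ v ∈ Sf, W.asIdeal.LiesOver v.asIdeal) ∨ Nonempty (L →ₐ[K] W.adicCompletion K) := by
  classical
  -- the basis 1, a
  set pb := NFHensel.pbOfPrimitive a ha with hpb
  have hgen : pb.gen = a := NFHensel.pbOfPrimitive_gen a ha
  have hdim : pb.dim = 2 := by rw [← pb.finrank, hdeg]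
  let bas : Module.Basis (Fin 2) k K := pb.basis.reindex (finCongr hdim)
  have hbas0 : bas 0 = 1 := by
    simp [bas, Module.Basis.reindex_apply, PowerBasis.coe_basis]
  have hbas1 : bas 1 = a := by
    simp [bas, Module.Basis.reindex_apply, PowerBasis.coe_basis, hgen]
  have hmk : ∀ p q : k, algebraMap k K p + algebraMap k K q * a = ∑ j, ![p, q] j • bas j := by
    intro p q
    rw [Fin.sum_univ_two, hbas0, hbas1]
    simp [Algebra.smul_def]
  have hrepr : ∀ (p q : k) (j : Fin 2),
      bas.repr (algebraMap k K p + algebraMap k K q * a) j = ![p, q] j := by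
    intro p q j
    rw [hmk, bas.repr_sum_self]
  have hexp : ∀ y : K, y = algebraMap k K (bas.repr y 0) + algebraMap k K (bas.repr y 1) * a := by
    intro y
    conv_lhs => rw [← bas.sum_repr y]
    rw [Fin.sum_univ_two, hbas0, hbas1]
    simp [Algebra.smul_def]
  let φ : Fin 2 → K →ₗ[k] k := fun j => (bas.coord j) ∘ₗ (LinearMap.mulLeft k b⁻¹)
  have hφdef : ∀ j y, φ j y = bas.repr (b⁻¹ * y) j := fun j y => rfl
  have hφ : ∀ y : K, y = b * (algebraMap k K (φ 0 y) + algebraMap k K (φ 1 y) * a) := by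
    intro y
    rw [hφdef, hφdef, ← hexp, mul_inv_cancel_left₀ hb]
  have hφmk : ∀ (p q : k) (j : Fin 2),
      φ j (b * (algebraMap k K p + algebraMap k K q * a)) = ![p, q] j := by
    intro p q j
    rw [hφdef, inv_mul_cancel_left₀ hb, hrepr]
  have hφb : ∀ j, φ j b = ![1, 0] j := by
    intro j
    have := hφmk 1 0 j
    rwa [map_one, map_zero, zero_mul, add_zero, mul_one] at this
  have hφba : ∀ j, φ j (b * a) = ![0, 1] j := by
    intro j
    have := hφmk 0 1 j
    rwa [map_one, map_zero, zero_add, one_mul] at this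
  -- the auxiliary places
  obtain ⟨B1, hB1⟩ := HWFunc.finite_bad_functional (φ 1)
  obtain ⟨Ba, hBa⟩ := HWFunc.exists_finset_integral (k := k) a
  obtain ⟨v₁, hv₁, -⟩ := NFSplit.exists_split_place k k Sf
  set T : Finset (HeightOneSpectrum (𝓞 k)) := (B1 ∪ Ba ∪ {v₁}) \ Sf with hT
  have hv₁T : v₁ ∈ T := by
    rw [hT, Finset.mem_sdiff]
    exact ⟨by simp, hv₁⟩
  obtain ⟨v₀, hv₀, hsplit⟩ := hsplitAll (Sf ∪ T)
  -- local data at the finite places
  have hlocf : ∀ v ∈ Sf ∪ T, ∃ (x : (v.adicCompletion k) ⊗[k] L)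
      (Ω : Set ((v.adicCompletion k) ⊗[k] K)),
      IsOpen[moduleTopology (v.adicCompletion k) ((v.adicCompletion k) ⊗[k] K)] Ω ∧
      Algebra.norm ((v.adicCompletion k) ⊗[k] K) x ∈ Ω ∧
      ∀ u : K, (1 : v.adicCompletion k) ⊗ₜ[k] u ∈ Ω →
        (v ∈ Sf → algebraMap k (v.adicCompletion k) (φ 1 u) ≠ 0 ∧
          -(algebraMap k (v.adicCompletion k) (φ 0 u)) /
            algebraMap k (v.adicCompletion k) (φ 1 u) ∈ Uf v) ∧
        (v ∉ Sf → φ 1 u ≠ 0 ∧ v.valuation k (φ 1 u) ≤ 1 ∧
          ∀ W : HeightOneSpectrum (𝓞 K), W.asIdeal.LiesOver v.asIdeal →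
            W.valuation K u = 1) := by
    intro v hv
    by_cases hvS : v ∈ Sf
    · obtain ⟨x, hx⟩ := htf v hvS
      obtain ⟨Ω, hΩo, hΩm, hΩu⟩ := HWFunc.exists_local_SB (v.adicCompletion k) φ a b
        (hφb 0) (hφb 1) (hφba 0) (hφba 1) (tf v) (Uf v) (hUf v hvS).1 (hUf v hvS).2
      exact ⟨x, Ω, hΩo, by rw [hx]; exact hΩm,
        fun u hu => ⟨fun _ => hΩu u hu, fun h => absurd hvS h⟩⟩
    · have hunr := HWCommon.hunr_of_notMem (K := K) (L := L) Sf hSram v hvS
      have hbv := HWCommon.valb_of_notMem Sf b hSb v hvS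
      obtain ⟨ϖ, hϖ0, hϖ1, hϖa⟩ := HWFunc.exists_small_mul (F := K) v a
      set c : K := b * (algebraMap k K 1 + algebraMap k K (-ϖ) * a) with hc
      have hcW : ∀ W : HeightOneSpectrum (𝓞 K), W.asIdeal.LiesOver v.asIdeal →
          W.valuation K c = 1 := by
        intro W hW
        rw [hc, map_mul, hbv W hW, one_mul, map_one, map_neg, neg_mul, ← sub_eq_add_neg]
        exact Valuation.map_one_sub_of_lt _ (hϖa W hW)
      have hvϖ0 : v.valuation k ϖ ≠ 0 := (Valuation.ne_zero_iff _).2 hϖ0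
      obtain ⟨m, hm⟩ := NFMain.exists_exp_gt ((v.valuation k ϖ)⁻¹)
      have hm' : WithZero.exp (-(m : ℤ)) < v.valuation k ϖ := by
        rw [WithZero.exp_neg, inv_lt_comm₀ (by simp) (zero_lt_iff.2 hvϖ0)]
        exact hm
      obtain ⟨x, Ω, hΩo, hΩm, hΩu⟩ := HWFunc.exists_local_T (K := K) (L := L) v hunr c hcW φ m
      refine ⟨x, Ω, hΩo, hΩm, fun u hu => ⟨fun h => absurd h hvS, fun _ => ?_⟩⟩
      have h0 := hΩu u hu 0
      have h1 := hΩu u hu 1
      rw [hc, hφmk] at h0 h1
      simp only [Matrix.cons_val_zero, Matrix.cons_val_one, Matrix.cons_val_fin_one] at h0 h1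
      have h0' : v.valuation k (φ 0 u - 1) < v.valuation k ϖ := h0.trans_lt hm'
      have h1' : v.valuation k (φ 1 u + ϖ) < v.valuation k ϖ := by
        rw [sub_neg_eq_add] at h1
        exact h1.trans_lt hm'
      have hval1 : v.valuation k (φ 1 u) = v.valuation k ϖ := by
        have : φ 1 u = -ϖ + (φ 1 u + ϖ) := by ring
        rw [this, Valuation.map_add_eq_of_lt_left _ (by rwa [Valuation.map_neg]),
          Valuation.map_neg]
      refine ⟨?_, ?_, ?_⟩
      · intro h
        rw [h, map_zero] at hval1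
        exact hvϖ0 hval1.symm
      · rw [hval1]
        exact hϖ1.le
      · intro W hW
        have hu' : u = b * ((1 - algebraMap k K ϖ * a) +
            (algebraMap k K (φ 0 u - 1) + algebraMap k K (φ 1 u + ϖ) * a)) := by
          conv_lhs => rw [hφ u]
          simp only [map_sub, map_add, map_one]
          ring
        rw [hu', map_mul, hbv W hW, one_mul]
        have hA : W.valuation K (1 - algebraMap k K ϖ * a) = 1 :=
          Valuation.map_one_sub_of_lt _ (hϖa W hW)
        have hB : W.valuation K (algebraMap k K (φ 0 u - 1) + algebraMap k K (φ 1 u + ϖ) * a) < 1 := by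
          refine lt_of_le_of_lt (Valuation.map_add _ _ _) (max_lt ?_ ?_)
          · exact HWValOver.val_over_lt_one v W hW (h0'.trans hϖ1)
          · rw [map_mul]
            calc W.valuation K (algebraMap k K (φ 1 u + ϖ)) * W.valuation K a
                ≤ W.valuation K (algebraMap k K ϖ) * W.valuation K a := by
                  refine mul_le_mul_left ?_ _
                  rw [HWValOver.val_eq_pow v W hW, HWValOver.val_eq_pow v W hW]
                  exact pow_le_pow_left' h1'.le _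
              _ = W.valuation K (algebraMap k K ϖ * a) := (map_mul _ _ _).symm
              _ < 1 := hϖa W hW
        rw [Valuation.map_add_eq_of_lt_left _ (by rw [hA]; exact hB), hA]
  -- local data at the infinite places
  have hloci : ∀ w ∈ Si, ∃ (x : w.Completion ⊗[k] L) (Ω : Set (w.Completion ⊗[k] K)),
      IsOpen[moduleTopology w.Completion (w.Completion ⊗[k] K)] Ω ∧
      Algebra.norm (w.Completion ⊗[k] K) x ∈ Ω ∧
      ∀ u : K, (1 : w.Completion) ⊗ₜ[k] u ∈ Ω →
        algebraMap k w.Completion (φ 1 u) ≠ 0 ∧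
          -(algebraMap k w.Completion (φ 0 u)) / algebraMap k w.Completion (φ 1 u) ∈ Ui w := by
    intro w hw
    obtain ⟨x, hx⟩ := hti w hw
    obtain ⟨Ω, hΩo, hΩm, hΩu⟩ := HWFunc.exists_local_SB w.Completion φ a b
      (hφb 0) (hφb 1) (hφba 0) (hφba 1) (ti w) (Ui w) (hUi w hw).1 (hUi w hw).2
    exact ⟨x, Ω, hΩo, by rw [hx]; exact hΩm, hΩu⟩
  choose! xf Ωf hΩfo hΩfm hΩfu using hlocf
  choose! xi Ωi hΩio hΩim hΩiu using hloci
  obtain ⟨u, huf, hui, hint, hemb⟩ := HWRelCore.rel_core k K L a ha (Sf ∪ T) Si v₀ hv₀ hsplit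
    xf xi Ωf Ωi (fun v hv => ⟨hΩfo v hv, hΩfm v hv⟩) (fun w hw => ⟨hΩio w hw, hΩim w hw⟩)
  set lam : k := φ 0 u with hlam
  set μ : k := -(φ 1 u) with hμ
  have hμ0 : μ ≠ 0 := by
    have := (hΩfu v₁ (Finset.mem_union_right _ hv₁T) u
      (huf v₁ (Finset.mem_union_right _ hv₁T))).2 hv₁
    rw [hμ, neg_ne_zero]
    exact this.1
  have hμK : algebraMap k K μ ≠ 0 := (_root_.map_ne_zero _).2 hμ0
  have hkey : algebraMap k K (lam / μ) - a = u / (b * algebraMap k K μ) := by
    rw [eq_div_iff (mul_ne_zero hb hμK), map_div₀]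
    conv_rhs => rw [hφ u]
    have : algebraMap k K (φ 1 u) = - algebraMap k K μ := by rw [hμ, map_neg, neg_neg]
    rw [this, ← hlam]
    field_simp
    ring
  refine ⟨lam / μ, ?_, ?_, ?_⟩
  · intro v hv
    have h1 := ((hΩfu v (Finset.mem_union_left _ hv) u
      (huf v (Finset.mem_union_left _ hv))).1 hv).2
    have heq : algebraMap k (v.adicCompletion k) (lam / μ) =
        -(algebraMap k (v.adicCompletion k) (φ 0 u)) /
          algebraMap k (v.adicCompletion k) (φ 1 u) := by
      rw [map_div₀, hμ, hlam, map_neg, div_neg, neg_div]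
    rw [heq]
    exact h1
  · intro w hw
    have h1 := (hΩiu w hw u (hui w hw)).2
    have heq : algebraMap k w.Completion (lam / μ) =
        -(algebraMap k w.Completion (φ 0 u)) / algebraMap k w.Completion (φ 1 u) := by
      rw [map_div₀, hμ, hlam, map_neg, div_neg, neg_div]
    rw [heq]
    exact h1
  · intro W hWlt
    set v := HeightOneSpectrum.under (𝓞 k) W with hv
    have hWv : W.asIdeal.LiesOver v.asIdeal := HWValOver.liesOver_under W
    by_cases hvS : v ∈ Sf
    · exact Or.inl ⟨v, hvS, hWv⟩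
    right
    by_cases hv0 : v = v₀
    · exact hsplit W (hv0 ▸ hWv)
    rw [hkey] at hWlt
    have hbW := HWCommon.valb_of_notMem Sf b hSb v hvS W hWv
    have hpos : 0 < W.valuation K (algebraMap k K μ) :=
      zero_lt_iff.2 ((Valuation.ne_zero_iff _).2 hμK)
    rw [map_div₀, map_mul, hbW, one_mul, div_lt_iff₀ hpos, one_mul] at hWlt
    by_cases hvT : v ∈ T
    · exfalso
      obtain ⟨-, hμ1, hu1⟩ := (hΩfu v (Finset.mem_union_right _ hvT) u
        (huf v (Finset.mem_union_right _ hvT))).2 hvS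
      have hμW : W.valuation K (algebraMap k K μ) ≤ 1 :=
        HWValOver.val_over_le_one v W hWv (by rw [hμ, Valuation.map_neg]; exact hμ1)
      rw [hu1 W hWv] at hWlt
      exact absurd hWlt (not_lt.2 hμW)
    · have hvST : v ∉ Sf ∪ T := by
        rw [Finset.mem_union]
        push Not
        exact ⟨hvS, hvT⟩
      obtain ⟨g, hg, hgu⟩ := hint v hvST hv0
      have hvB : v ∉ B1 ∧ v ∉ Ba := by
        rw [hT, Finset.mem_sdiff] at hvT
        push Not at hvT
        constructor
        · intro h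
          exact hvS (hvT (by simp [h]))
        · intro h
          exact hvS (hvT (by simp [h]))
      have huint : ∀ W' : HeightOneSpectrum (𝓞 K), W'.asIdeal.LiesOver v.asIdeal →
          W'.valuation K u ≤ 1 := by
        intro W' hW'
        rw [← hgu]
        exact HWCommon.val_aeval_le_one v W' hW' g hg a (hBa v hvB.2 W' hW')
      have hμ1 : v.valuation k (φ 1 u) ≤ 1 := hB1 v hvB.1 u huint
      have hμW : W.valuation K (algebraMap k K μ) ≤ 1 :=
        HWValOver.val_over_le_one v W hWv (by rw [hμ, Valuation.map_neg]; exact hμ1)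
      refine hemb W ?_ (hWlt.trans_le hμW)
      rintro ⟨v', hv', hWv'⟩
      have : v' = v := (HWValOver.under_eq_of_liesOver v' W hWv').symm
      exact hvST (this ▸ hv')

end Groth.Agent.Lib.helper12.HWCaseB
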