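import Mathlib
import Groth.Agent.Lib.Helper12.HWRelCore
import Groth.Agent.Lib.Helper12.HWFunc
import Groth.Agent.Lib.Helper12.HWCommon
import Groth.Agent.Lib.Helper12.HWCaseA
import Groth.Agent.Lib.Helper12.NFSplit
set_option linter.style.haveILetI false
set_option linter.unusedSectionVars false

universe u
open scoped TensorProduct
open NumberField

namespace Groth.Agent.Lib.helper12.HWCaseC
open IsDedekindDomain HeightOneSpectrum NumberField NumberField.InfinitePlace IntermediateField Polynomial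
open scoped WithZero NNReal Topology
open Groth.Agent.Lib.helper12

attribute [local instance] HWRelNorm.relAlg

theorem exists_small {k : Type*} [Field k] [NumberField k] (v : HeightOneSpectrum (𝓞 k)) (d : k) :
    ∃ ϖ : k, ϖ ≠ 0 ∧ v.valuation k ϖ < 1 ∧ v.valuation k ϖ * v.valuation k d ≤ 1 := by
  obtain ⟨ϖ, h0, h1, h2⟩ := HWFunc.exists_small_mul (F := k) v d
  refine ⟨ϖ, h0, h1, ?_⟩
  have hvv : v.asIdeal.LiesOver v.asIdeal := ⟨by simp [Ideal.under]⟩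
  have := h2 v hvv
  rw [Algebra.algebraMap_self, RingHom.id_apply, map_mul] at this
  exact this.le

theorem caseC (k K₁ L₁ K₂ L₂ : Type u) [Field k] [NumberField k]
    [Field K₁] [NumberField K₁] [Field L₁] [NumberField L₁] [Algebra k K₁] [Algebra K₁ L₁]
    [Algebra k L₁] [IsScalarTower k K₁ L₁]
    [Field K₂] [NumberField K₂] [Field L₂] [NumberField L₂] [Algebra k K₂] [Algebra K₂ L₂]
    [Algebra k L₂] [IsScalarTower k K₂ L₂]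
    (a₁ : K₁) (ha₁ : k⟮a₁⟯ = ⊤) (hdeg₁ : Module.finrank k K₁ = 1) (b₁ : K₁) (hb₁ : b₁ ≠ 0)
    (a₂ : K₂) (ha₂ : k⟮a₂⟯ = ⊤) (hdeg₂ : Module.finrank k K₂ = 1) (b₂ : K₂) (hb₂ : b₂ ≠ 0)
    (hdist : minpoly k a₁ ≠ minpoly k a₂)
    (Sf : Finset (HeightOneSpectrum (𝓞 k))) (Si : Finset (InfinitePlace k))
    (hSb₁ : ∀ W : HeightOneSpectrum (𝓞 K₁), W.valuation K₁ b₁ ≠ 1 →
      ∃ v ∈ Sf, W.asIdeal.LiesOver v.asIdeal)
    (hSb₂ : ∀ W : HeightOneSpectrum (𝓞 K₂), W.valuation K₂ b₂ ≠ 1 →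
      ∃ v ∈ Sf, W.asIdeal.LiesOver v.asIdeal)
    (hSram₁ : ∀ Q : Ideal (𝓞 L₁), Q.IsPrime → Q ≠ ⊥ → Q.ramificationIdx (𝓞 K₁) ≠ 1 →
      ∃ v ∈ Sf, Q.LiesOver v.asIdeal)
    (hSram₂ : ∀ Q : Ideal (𝓞 L₂), Q.IsPrime → Q ≠ ⊥ → Q.ramificationIdx (𝓞 K₂) ≠ 1 →
      ∃ v ∈ Sf, Q.LiesOver v.asIdeal)
    (hsplitAll : ∀ S' : Finset (HeightOneSpectrum (𝓞 k)), ∃ v₀, v₀ ∉ S' ∧
      (∀ W : HeightOneSpectrum (𝓞 K₁), W.asIdeal.LiesOver v₀.asIdeal →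
        Nonempty (L₁ →ₐ[K₁] W.adicCompletion K₁)) ∧
      (∀ W : HeightOneSpectrum (𝓞 K₂), W.asIdeal.LiesOver v₀.asIdeal →
        Nonempty (L₂ →ₐ[K₂] W.adicCompletion K₂)))
    (tf : (v : HeightOneSpectrum (𝓞 k)) → v.adicCompletion k)
    (ti : (w : InfinitePlace k) → w.Completion)
    (htf₁ : ∀ v ∈ Sf, ∃ x : (v.adicCompletion k) ⊗[k] L₁,
        Algebra.norm ((v.adicCompletion k) ⊗[k] K₁) x =
          (1 : v.adicCompletion k) ⊗ₜ[k] b₁ *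
            (tf v ⊗ₜ[k] (1 : K₁) - (1 : v.adicCompletion k) ⊗ₜ[k] a₁))
    (htf₂ : ∀ v ∈ Sf, ∃ x : (v.adicCompletion k) ⊗[k] L₂,
        Algebra.norm ((v.adicCompletion k) ⊗[k] K₂) x =
          (1 : v.adicCompletion k) ⊗ₜ[k] b₂ *
            (tf v ⊗ₜ[k] (1 : K₂) - (1 : v.adicCompletion k) ⊗ₜ[k] a₂))
    (hti₁ : ∀ w ∈ Si, ∃ x : w.Completion ⊗[k] L₁,
        Algebra.norm (w.Completion ⊗[k] K₁) x =
          (1 : w.Completion) ⊗ₜ[k] b₁ * (ti w ⊗ₜ[k] (1 : K₁) - (1 : w.Completion) ⊗ₜ[k] a₁))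
    (hti₂ : ∀ w ∈ Si, ∃ x : w.Completion ⊗[k] L₂,
        Algebra.norm (w.Completion ⊗[k] K₂) x =
          (1 : w.Completion) ⊗ₜ[k] b₂ * (ti w ⊗ₜ[k] (1 : K₂) - (1 : w.Completion) ⊗ₜ[k] a₂))
    (Uf : (v : HeightOneSpectrum (𝓞 k)) → Set (v.adicCompletion k))
    (hUf : ∀ v ∈ Sf, IsOpen (Uf v) ∧ tf v ∈ Uf v)
    (Ui : (w : InfinitePlace k) → Set w.Completion)
    (hUi : ∀ w ∈ Si, IsOpen (Ui w) ∧ ti w ∈ Ui w) :
    ∃ t₀ : k, (∀ v ∈ Sf, algebraMap k (v.adicCompletion k) t₀ ∈ Uf v) ∧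
      (∀ w ∈ Si, algebraMap k w.Completion t₀ ∈ Ui w) ∧
      (∀ W : HeightOneSpectrum (𝓞 K₁), W.valuation K₁ (algebraMap k K₁ t₀ - a₁) < 1 →
          (∃ v ∈ Sf, W.asIdeal.LiesOver v.asIdeal) ∨
            Nonempty (L₁ →ₐ[K₁] W.adicCompletion K₁)) ∧
      (∀ W : HeightOneSpectrum (𝓞 K₂), W.valuation K₂ (algebraMap k K₂ t₀ - a₂) < 1 →
          (∃ v ∈ Sf, W.asIdeal.LiesOver v.asIdeal) ∨
            Nonempty (L₂ →ₐ[K₂] W.adicCompletion K₂)) := by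
  classical
  obtain ⟨φ₁, hφ₁, hφmk₁⟩ := HWCaseA.exists_functional_deg_one hdeg₁ b₁ hb₁
  obtain ⟨φ₂, hφ₂, hφmk₂⟩ := HWCaseA.exists_functional_deg_one hdeg₂ b₂ hb₂
  obtain ⟨ψ₁, hψ₁, -⟩ := HWCaseA.exists_functional_deg_one hdeg₁ (1 : K₁) one_ne_zero
  obtain ⟨ψ₂, hψ₂, -⟩ := HWCaseA.exists_functional_deg_one hdeg₂ (1 : K₂) one_ne_zero
  set α₁ : k := ψ₁ a₁ with hα₁
  set α₂ : k := ψ₂ a₂ with hα₂
  have hαa₁ : algebraMap k K₁ α₁ = a₁ := by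
    have := hψ₁ a₁
    rw [one_mul] at this
    exact this.symm
  have hαa₂ : algebraMap k K₂ α₂ = a₂ := by
    have := hψ₂ a₂
    rw [one_mul] at this
    exact this.symm
  have hα : α₁ ≠ α₂ := by
    intro h
    apply hdist
    rw [← hαa₁, ← hαa₂, minpoly.eq_X_sub_C, minpoly.eq_X_sub_C, h]
  have hφb₁ : φ₁ b₁ = 1 := by
    have := hφmk₁ 1
    rwa [map_one, mul_one] at this
  have hφb₂ : φ₂ b₂ = 1 := by
    have := hφmk₂ 1
    rwa [map_one, mul_one] at this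
  have hφba₁ : φ₁ (b₁ * a₁) = α₁ := by
    rw [← hαa₁]
    exact hφmk₁ α₁
  have hφba₂ : φ₂ (b₂ * a₂) = α₂ := by
    rw [← hαa₂]
    exact hφmk₂ α₂
  set δ : k := α₂ - α₁ with hδ
  have hδ0 : δ ≠ 0 := sub_ne_zero.2 hα.symm
  -- the auxiliary places
  obtain ⟨v₁, hv₁, -⟩ := NFSplit.exists_split_place k k Sf
  set T : Finset (HeightOneSpectrum (𝓞 k)) :=
    ((HWFunc.finite_one_lt_val α₁).toFinset ∪ (HWFunc.finite_one_lt_val α₂).toFinset ∪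
      (HWFunc.finite_one_lt_val δ⁻¹).toFinset ∪ {v₁}) \ Sf with hT
  have hv₁T : v₁ ∈ T := by
    rw [hT, Finset.mem_sdiff]
    exact ⟨by simp, hv₁⟩
  have hnotT : ∀ v, v ∉ Sf → v ∉ T → v.valuation k α₁ ≤ 1 ∧ v.valuation k α₂ ≤ 1 ∧
      v.valuation k δ⁻¹ ≤ 1 := by
    intro v hvS hvT
    rw [hT, Finset.mem_sdiff] at hvT
    push Not at hvT
    refine ⟨?_, ?_, ?_⟩
    · by_contra hcon
      rw [not_le] at hcon
      refine hvS (hvT ?_)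
      simp only [Finset.mem_union, Set.Finite.mem_toFinset, Set.mem_ofPred_eq]
      exact Or.inl (Or.inl (Or.inl hcon))
    · by_contra hcon
      rw [not_le] at hcon
      refine hvS (hvT ?_)
      simp only [Finset.mem_union, Set.Finite.mem_toFinset, Set.mem_ofPred_eq]
      exact Or.inl (Or.inl (Or.inr hcon))
    · by_contra hcon
      rw [not_le] at hcon
      refine hvS (hvT ?_)
      simp only [Finset.mem_union, Set.Finite.mem_toFinset, Set.mem_ofPred_eq]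
      exact Or.inl (Or.inr hcon)
  obtain ⟨v₀, hv₀, hsplit₁, hsplit₂⟩ := hsplitAll (Sf ∪ T)
  -- local data at the finite places
  have hlocf : ∀ v ∈ Sf ∪ T, ∃ (x₁ : (v.adicCompletion k) ⊗[k] L₁)
      (Ω₁ : Set ((v.adicCompletion k) ⊗[k] K₁)) (x₂ : (v.adicCompletion k) ⊗[k] L₂)
      (Ω₂ : Set ((v.adicCompletion k) ⊗[k] K₂)),
      IsOpen[moduleTopology (v.adicCompletion k) ((v.adicCompletion k) ⊗[k] K₁)] Ω₁ ∧
      IsOpen[moduleTopology (v.adicCompletion k) ((v.adicCompletion k) ⊗[k] K₂)] Ω₂ ∧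
      Algebra.norm ((v.adicCompletion k) ⊗[k] K₁) x₁ ∈ Ω₁ ∧
      Algebra.norm ((v.adicCompletion k) ⊗[k] K₂) x₂ ∈ Ω₂ ∧
      ∀ (u₁ : K₁) (u₂ : K₂), (1 : v.adicCompletion k) ⊗ₜ[k] u₁ ∈ Ω₁ →
        (1 : v.adicCompletion k) ⊗ₜ[k] u₂ ∈ Ω₂ →
        (v ∈ Sf →
          algebraMap k (v.adicCompletion k) (φ₁ u₁) - algebraMap k (v.adicCompletion k) (φ₂ u₂) ≠ 0 ∧
          (algebraMap k (v.adicCompletion k) (φ₁ u₁) + algebraMap k (v.adicCompletion k) α₁ *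
            ((algebraMap k (v.adicCompletion k) (φ₁ u₁) -
              algebraMap k (v.adicCompletion k) (φ₂ u₂)) /
                algebraMap k (v.adicCompletion k) (α₂ - α₁))) /
            ((algebraMap k (v.adicCompletion k) (φ₁ u₁) -
              algebraMap k (v.adicCompletion k) (φ₂ u₂)) /
                algebraMap k (v.adicCompletion k) (α₂ - α₁)) ∈ Uf v) ∧
        (v ∉ Sf → v.valuation k (φ₁ u₁) = 1 ∧ v.valuation k (φ₂ u₂) = 1 ∧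
          φ₁ u₁ - φ₂ u₂ ≠ 0 ∧ v.valuation k ((φ₁ u₁ - φ₂ u₂) / δ) ≤ 1) := by
    intro v hv
    by_cases hvS : v ∈ Sf
    · obtain ⟨x₁, hx₁⟩ := htf₁ v hvS
      obtain ⟨x₂, hx₂⟩ := htf₂ v hvS
      obtain ⟨Ω₁, Ω₂, hΩo₁, hΩo₂, hΩm₁, hΩm₂, hΩu⟩ :=
        HWFunc.exists_local_SC (v.adicCompletion k) φ₁ φ₂ a₁ b₁ a₂ b₂ α₁ α₂ hα
          hφb₁ hφba₁ hφb₂ hφba₂ (tf v) (Uf v) (hUf v hvS).1 (hUf v hvS).2
      exact ⟨x₁, Ω₁, x₂, Ω₂, hΩo₁, hΩo₂, by rw [hx₁]; exact hΩm₁, by rw [hx₂]; exact hΩm₂,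
        fun u₁ u₂ hu₁ hu₂ => ⟨fun _ => hΩu u₁ u₂ hu₁ hu₂, fun h => absurd hvS h⟩⟩
    · have hunr₁ := HWCommon.hunr_of_notMem (K := K₁) (L := L₁) Sf hSram₁ v hvS
      have hunr₂ := HWCommon.hunr_of_notMem (K := K₂) (L := L₂) Sf hSram₂ v hvS
      have hbv₁ := HWCommon.valb_of_notMem Sf b₁ hSb₁ v hvS
      have hbv₂ := HWCommon.valb_of_notMem Sf b₂ hSb₂ v hvS
      obtain ⟨ϖ, hϖ0, hϖ1, hϖδ⟩ := exists_small v δ⁻¹
      have hvϖ0 : v.valuation k ϖ ≠ 0 := (Valuation.ne_zero_iff _).2 hϖ0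
      have h1ϖ : v.valuation k (1 + ϖ) = 1 := Valuation.map_one_add_of_lt _ hϖ1
      set c₁ : K₁ := b₁ * algebraMap k K₁ 1 with hc₁
      set c₂ : K₂ := b₂ * algebraMap k K₂ (1 + ϖ) with hc₂
      have hcW₁ : ∀ W : HeightOneSpectrum (𝓞 K₁), W.asIdeal.LiesOver v.asIdeal →
          W.valuation K₁ c₁ = 1 := by
        intro W hW
        rw [hc₁, map_mul, hbv₁ W hW, one_mul, map_one, map_one]
      have hcW₂ : ∀ W : HeightOneSpectrum (𝓞 K₂), W.asIdeal.LiesOver v.asIdeal →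
          W.valuation K₂ c₂ = 1 := by
        intro W hW
        rw [hc₂, map_mul, hbv₂ W hW, one_mul]
        exact HWValOver.val_over_eq_one v W hW h1ϖ
      obtain ⟨m, hm⟩ := NFMain.exists_exp_gt ((v.valuation k ϖ)⁻¹)
      have hm' : WithZero.exp (-(m : ℤ)) < v.valuation k ϖ := by
        rw [WithZero.exp_neg, inv_lt_comm₀ (by simp) (zero_lt_iff.2 hvϖ0)]
        exact hm
      obtain ⟨x₁, Ω₁, hΩo₁, hΩm₁, hΩu₁⟩ := HWFunc.exists_local_T (K := K₁) (L := L₁) v hunr₁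
        c₁ hcW₁ (fun _ : Fin 1 => φ₁) m
      obtain ⟨x₂, Ω₂, hΩo₂, hΩm₂, hΩu₂⟩ := HWFunc.exists_local_T (K := K₂) (L := L₂) v hunr₂
        c₂ hcW₂ (fun _ : Fin 1 => φ₂) m
      refine ⟨x₁, Ω₁, x₂, Ω₂, hΩo₁, hΩo₂, hΩm₁, hΩm₂, fun u₁ u₂ hu₁ hu₂ =>
        ⟨fun h => absurd h hvS, fun _ => ?_⟩⟩
      have h1 := hΩu₁ u₁ hu₁ 0
      have h2 := hΩu₂ u₂ hu₂ 0
      rw [hc₁, hφmk₁] at h1
      rw [hc₂, hφmk₂] at h2
      have h1' : v.valuation k (φ₁ u₁ - 1) < v.valuation k ϖ := h1.trans_lt hm'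
      have h2' : v.valuation k (φ₂ u₂ - (1 + ϖ)) < v.valuation k ϖ := h2.trans_lt hm'
      have hz₁ : v.valuation k (φ₁ u₁) = 1 := by
        have : φ₁ u₁ = 1 + (φ₁ u₁ - 1) := by ring
        rw [this]
        exact Valuation.map_one_add_of_lt _ (h1'.trans hϖ1)
      have hz₂ : v.valuation k (φ₂ u₂) = 1 := by
        have : φ₂ u₂ = (1 + ϖ) + (φ₂ u₂ - (1 + ϖ)) := by ring
        rw [this, Valuation.map_add_eq_of_lt_left _ (by rw [h1ϖ]; exact h2'.trans hϖ1), h1ϖ]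
      have hdiff : v.valuation k (φ₁ u₁ - φ₂ u₂) = v.valuation k ϖ := by
        have : φ₁ u₁ - φ₂ u₂ = -ϖ + ((φ₁ u₁ - 1) - (φ₂ u₂ - (1 + ϖ))) := by ring
        rw [this, Valuation.map_add_eq_of_lt_left, Valuation.map_neg]
        rw [Valuation.map_neg]
        exact lt_of_le_of_lt (Valuation.map_sub _ _ _) (max_lt h1' h2')
      refine ⟨hz₁, hz₂, ?_, ?_⟩
      · intro h
        rw [h, map_zero] at hdiff
        exact hvϖ0 hdiff.symm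
      · rw [div_eq_mul_inv, map_mul, hdiff]
        exact hϖδ
  -- local data at the infinite places
  have hloci : ∀ w ∈ Si, ∃ (x₁ : w.Completion ⊗[k] L₁) (Ω₁ : Set (w.Completion ⊗[k] K₁))
      (x₂ : w.Completion ⊗[k] L₂) (Ω₂ : Set (w.Completion ⊗[k] K₂)),
      IsOpen[moduleTopology w.Completion (w.Completion ⊗[k] K₁)] Ω₁ ∧
      IsOpen[moduleTopology w.Completion (w.Completion ⊗[k] K₂)] Ω₂ ∧
      Algebra.norm (w.Completion ⊗[k] K₁) x₁ ∈ Ω₁ ∧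
      Algebra.norm (w.Completion ⊗[k] K₂) x₂ ∈ Ω₂ ∧
      ∀ (u₁ : K₁) (u₂ : K₂), (1 : w.Completion) ⊗ₜ[k] u₁ ∈ Ω₁ →
        (1 : w.Completion) ⊗ₜ[k] u₂ ∈ Ω₂ →
          algebraMap k w.Completion (φ₁ u₁) - algebraMap k w.Completion (φ₂ u₂) ≠ 0 ∧
          (algebraMap k w.Completion (φ₁ u₁) + algebraMap k w.Completion α₁ *
            ((algebraMap k w.Completion (φ₁ u₁) - algebraMap k w.Completion (φ₂ u₂)) /
                algebraMap k w.Completion (α₂ - α₁))) /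
            ((algebraMap k w.Completion (φ₁ u₁) - algebraMap k w.Completion (φ₂ u₂)) /
                algebraMap k w.Completion (α₂ - α₁)) ∈ Ui w := by
    intro w hw
    obtain ⟨x₁, hx₁⟩ := hti₁ w hw
    obtain ⟨x₂, hx₂⟩ := hti₂ w hw
    obtain ⟨Ω₁, Ω₂, hΩo₁, hΩo₂, hΩm₁, hΩm₂, hΩu⟩ :=
      HWFunc.exists_local_SC w.Completion φ₁ φ₂ a₁ b₁ a₂ b₂ α₁ α₂ hα
        hφb₁ hφba₁ hφb₂ hφba₂ (ti w) (Ui w) (hUi w hw).1 (hUi w hw).2
    exact ⟨x₁, Ω₁, x₂, Ω₂, hΩo₁, hΩo₂, by rw [hx₁]; exact hΩm₁, by rw [hx₂]; exact hΩm₂, hΩu⟩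
  choose! xf₁ Ωf₁ xf₂ Ωf₂ hΩfo₁ hΩfo₂ hΩfm₁ hΩfm₂ hΩfu using hlocf
  choose! xi₁ Ωi₁ xi₂ Ωi₂ hΩio₁ hΩio₂ hΩim₁ hΩim₂ hΩiu using hloci
  obtain ⟨u₁, huf₁, hui₁, hint₁, hemb₁⟩ := HWRelCore.rel_core k K₁ L₁ a₁ ha₁ (Sf ∪ T) Si v₀ hv₀
    hsplit₁ xf₁ xi₁ Ωf₁ Ωi₁ (fun v hv => ⟨hΩfo₁ v hv, hΩfm₁ v hv⟩)
    (fun w hw => ⟨hΩio₁ w hw, hΩim₁ w hw⟩)
  obtain ⟨u₂, huf₂, hui₂, hint₂, hemb₂⟩ := HWRelCore.rel_core k K₂ L₂ a₂ ha₂ (Sf ∪ T) Si v₀ hv₀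
    hsplit₂ xf₂ xi₂ Ωf₂ Ωi₂ (fun v hv => ⟨hΩfo₂ v hv, hΩfm₂ v hv⟩)
    (fun w hw => ⟨hΩio₂ w hw, hΩim₂ w hw⟩)
  set z₁ : k := φ₁ u₁ with hz₁
  set z₂ : k := φ₂ u₂ with hz₂
  set μ : k := (z₁ - z₂) / δ with hμ
  set lam : k := z₁ + α₁ * μ with hlam
  have hTdata := fun v (hv : v ∈ T) (hvS : v ∉ Sf) =>
    (hΩfu v (Finset.mem_union_right _ hv) u₁ u₂ (huf₁ v (Finset.mem_union_right _ hv))
      (huf₂ v (Finset.mem_union_right _ hv))).2 hvS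
  have hμ0 : μ ≠ 0 := by
    have := (hTdata v₁ hv₁T hv₁).2.2.1
    exact div_ne_zero this hδ0
  have hkey₁ : lam / μ - α₁ = z₁ / μ := by
    rw [hlam]
    field_simp
    ring
  have hkey₂ : lam / μ - α₂ = z₂ / μ := by
    rw [hlam, hμ, hδ]
    have h1 : α₂ - α₁ ≠ 0 := hδ0
    have h2 : z₁ - z₂ ≠ 0 := by
      intro h
      apply hμ0
      rw [hμ, h, zero_div]
    field_simp
    ring
  have hu₁ : u₁ = b₁ * algebraMap k K₁ z₁ := hφ₁ u₁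
  have hu₂ : u₂ = b₂ * algebraMap k K₂ z₂ := hφ₂ u₂
  -- integrality at the generic places
  have hzint : ∀ v, v ∉ Sf → v ∉ T → v ≠ v₀ →
      v.valuation k z₁ ≤ 1 ∧ v.valuation k z₂ ≤ 1 := by
    intro v hvS hvT hv0
    have hvST : v ∉ Sf ∪ T := by
      rw [Finset.mem_union]
      push Not
      exact ⟨hvS, hvT⟩
    obtain ⟨hα₁v, hα₂v, -⟩ := hnotT v hvS hvT
    constructor
    · obtain ⟨g, hg, hgu⟩ := hint₁ v hvST hv0
      obtain ⟨W, hW⟩ := HWFunc.exists_over (K := K₁) v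
      have h1 : W.valuation K₁ u₁ ≤ 1 := by
        rw [← hgu]
        refine HWCommon.val_aeval_le_one v W hW g hg a₁ ?_
        rw [← hαa₁]
        exact HWValOver.val_over_le_one v W hW hα₁v
      rw [hu₁, map_mul, HWCommon.valb_of_notMem Sf b₁ hSb₁ v hvS W hW, one_mul] at h1
      exact (HWValOver.val_over_le_one_iff v W hW).1 h1
    · obtain ⟨g, hg, hgu⟩ := hint₂ v hvST hv0
      obtain ⟨W, hW⟩ := HWFunc.exists_over (K := K₂) v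
      have h1 : W.valuation K₂ u₂ ≤ 1 := by
        rw [← hgu]
        refine HWCommon.val_aeval_le_one v W hW g hg a₂ ?_
        rw [← hαa₂]
        exact HWValOver.val_over_le_one v W hW hα₂v
      rw [hu₂, map_mul, HWCommon.valb_of_notMem Sf b₂ hSb₂ v hvS W hW, one_mul] at h1
      exact (HWValOver.val_over_le_one_iff v W hW).1 h1
  have hμint : ∀ v, v ∉ Sf → v ∉ T → v ≠ v₀ → v.valuation k μ ≤ 1 := by
    intro v hvS hvT hv0
    obtain ⟨h1, h2⟩ := hzint v hvS hvT hv0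
    obtain ⟨-, -, h3⟩ := hnotT v hvS hvT
    rw [hμ, div_eq_mul_inv, map_mul]
    exact mul_le_one' (le_trans (Valuation.map_sub _ _ _) (max_le h1 h2)) h3
  have hμpos : ∀ v : HeightOneSpectrum (𝓞 k), 0 < v.valuation k μ := fun v =>
    zero_lt_iff.2 ((Valuation.ne_zero_iff _).2 hμ0)
  refine ⟨lam / μ, ?_, ?_, ?_, ?_⟩
  · intro v hv
    have h1 := ((hΩfu v (Finset.mem_union_left _ hv) u₁ u₂ (huf₁ v (Finset.mem_union_left _ hv))
      (huf₂ v (Finset.mem_union_left _ hv))).1 hv).2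
    convert h1 using 1
    rw [hlam, hμ, hδ, map_div₀, map_add, map_mul, map_div₀, map_sub]
  · intro w hw
    have h1 := (hΩiu w hw u₁ u₂ (hui₁ w hw) (hui₂ w hw)).2
    convert h1 using 1
    rw [hlam, hμ, hδ, map_div₀, map_add, map_mul, map_div₀, map_sub]
  · intro W hWlt
    set v := HeightOneSpectrum.under (𝓞 k) W with hv
    have hWv : W.asIdeal.LiesOver v.asIdeal := HWValOver.liesOver_under W
    by_cases hvS : v ∈ Sf
    · exact Or.inl ⟨v, hvS, hWv⟩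
    right
    by_cases hv0 : v = v₀
    · exact hsplit₁ W (hv0 ▸ hWv)
    rw [← hαa₁, ← map_sub, hkey₁, HWValOver.val_over_lt_one_iff v W hWv, map_div₀,
      div_lt_iff₀ (hμpos v), one_mul] at hWlt
    by_cases hvT : v ∈ T
    · exfalso
      obtain ⟨h1, -, -, h4⟩ := hTdata v hvT hvS
      rw [h1] at hWlt
      exact absurd hWlt (not_lt.2 h4)
    · have hz1 : v.valuation k z₁ < 1 := hWlt.trans_le (hμint v hvS hvT hv0)
      refine hemb₁ W ?_ ?_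
      · rintro ⟨v', hv', hWv'⟩
        have : v' = v := (HWValOver.under_eq_of_liesOver v' W hWv').symm
        rw [this, Finset.mem_union] at hv'
        exact hv'.elim hvS hvT
      · rw [hu₁, map_mul, HWCommon.valb_of_notMem Sf b₁ hSb₁ v hvS W hWv, one_mul]
        exact HWValOver.val_over_lt_one v W hWv hz1
  · intro W hWlt
    set v := HeightOneSpectrum.under (𝓞 k) W with hv
    have hWv : W.asIdeal.LiesOver v.asIdeal := HWValOver.liesOver_under W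
    by_cases hvS : v ∈ Sf
    · exact Or.inl ⟨v, hvS, hWv⟩
    right
    by_cases hv0 : v = v₀
    · exact hsplit₂ W (hv0 ▸ hWv)
    rw [← hαa₂, ← map_sub, hkey₂, HWValOver.val_over_lt_one_iff v W hWv, map_div₀,
      div_lt_iff₀ (hμpos v), one_mul] at hWlt
    by_cases hvT : v ∈ T
    · exfalso
      obtain ⟨-, h2, -, h4⟩ := hTdata v hvT hvS
      rw [h2] at hWlt
      exact absurd hWlt (not_lt.2 h4)
    · have hz2 : v.valuation k z₂ < 1 := hWlt.trans_le (hμint v hvS hvT hv0)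
      refine hemb₂ W ?_ ?_
      · rintro ⟨v', hv', hWv'⟩
        have : v' = v := (HWValOver.under_eq_of_liesOver v' W hWv').symm
        rw [this, Finset.mem_union] at hv'
        exact hv'.elim hvS hvT
      · rw [hu₂, map_mul, HWCommon.valb_of_notMem Sf b₂ hSb₂ v hvS W hWv, one_mul]
        exact HWValOver.val_over_lt_one v W hWv hz2

end Groth.Agent.Lib.helper12.HWCaseC
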