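import Mathlib
import Groth.Agent.Lib.Helper12.NFHensel
set_option linter.style.haveILetI false
set_option linter.unusedSectionVars false

namespace Groth.Agent.Lib.helper12.HWComplMap
open IsDedekindDomain HeightOneSpectrum NumberField

variable {k K : Type*} [Field k] [NumberField k] [Field K] [NumberField K] [Algebra k K]
variable (v : HeightOneSpectrum (𝓞 k)) (W : HeightOneSpectrum (𝓞 K))

/-- the map of completions induced by an extension of places -/
noncomputable def complMap (hW : W.asIdeal.LiesOver v.asIdeal) :
    v.adicCompletion k →+* W.adicCompletion K :=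
  haveI := hW
  ((adicCompletion.equiv K W).symm.toRingHom.comp
    (UniformSpace.Completion.mapRingHom
      (algebraMap (WithVal (v.valuation k)) (WithVal (W.valuation K)))
      (uniformContinuous_algebraMap_liesOver k K v W).continuous)).comp
    (adicCompletion.equiv k v).toRingHom

theorem complMap_algebraMap (hW : W.asIdeal.LiesOver v.asIdeal) (x : k) :
    complMap v W hW (algebraMap k (v.adicCompletion k) x) =
      algebraMap K (W.adicCompletion K) (algebraMap k K x) := by
  haveI := hW
  apply adicCompletion.ext
  simp only [complMap, RingHom.coe_comp, Function.comp_apply, RingEquiv.toRingHom_eq_coe,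
    RingHom.coe_coe]
  have h1 : ∀ y, ((adicCompletion.equiv K W).symm y).toCompletion = y := fun y =>
    (adicCompletion.equiv K W).apply_symm_apply y
  rw [h1, adicCompletion.equiv_apply, algebraMap_adicCompletion_toCompletion,
    algebraMap_adicCompletion_toCompletion, UniformSpace.Completion.algebraMap_def,
    UniformSpace.Completion.algebraMap_def, UniformSpace.Completion.mapRingHom_coe]
  rfl

open Polynomial IntermediateField in
/-- if a normal extension `M/k` containing `L` embeds into `k_v`, then `L` embeds over `K` into the
completion of `K` at every place above `v`. -/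
theorem nonempty_algHom_of_split {L M : Type*} [Field L] [Algebra K L] [Algebra k L]
    [IsScalarTower k K L] [Field M] [Algebra k M] [Normal k M]
    (φ : M →ₐ[k] v.adicCompletion k) (σ : L →ₐ[k] M)
    (hW : W.asIdeal.LiesOver v.asIdeal) :
    Nonempty (L →ₐ[K] W.adicCompletion K) := by
  classical
  -- the embedding of `M`
  let ψ : M →ₐ[k] W.adicCompletion K :=
    { ((complMap v W hW).comp φ.toRingHom) with
      commutes' := fun x => by
        change complMap v W hW (φ (algebraMap k M x)) = _
        rw [φ.commutes, complMap_algebraMap, ← IsScalarTower.algebraMap_apply] }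
  obtain ⟨a, ha⟩ := Field.exists_primitive_element k K
  set a' : M := σ (algebraMap K L a) with ha'
  set p := minpoly k a with hp
  have haint : IsIntegral k a := IsIntegral.of_finite k a
  have ha'root : aeval a' p = 0 := by
    have h1 : a' = (σ.comp (IsScalarTower.toAlgHom k K L)) a := rfl
    rw [h1, aeval_algHom_apply, hp, minpoly.aeval, map_zero]
  have ha'int : IsIntegral k a' := ⟨p, minpoly.monic haint, ha'root⟩
  have hmin : minpoly k a' = p :=
    (minpoly.eq_of_irreducible_of_monic (minpoly.irreducible haint) ha'root
      (minpoly.monic haint)).symm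
  have hsplits : (p.map (algebraMap k M)).Splits := by
    rw [← hmin]
    exact Normal.splits inferInstance a'
  have hp0 : p.map (algebraMap k M) ≠ 0 :=
    Polynomial.map_ne_zero (minpoly.ne_zero haint)
  -- `j a` is a root of the image polynomial
  have hroot : ((p.map (algebraMap k M)).map (ψ : M →+* W.adicCompletion K)).IsRoot
      (algebraMap K (W.adicCompletion K) a) := by
    rw [Polynomial.map_map, IsRoot.def, eval_map]
    have : (ψ : M →+* W.adicCompletion K).comp (algebraMap k M) =
        algebraMap k (W.adicCompletion K) := by
      refine RingHom.ext fun x => ?_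
      exact ψ.commutes x
    rw [this, ← aeval_def, IsScalarTower.toAlgHom_apply k K (W.adicCompletion K) a |>.symm,
      aeval_algHom_apply, hp, minpoly.aeval, map_zero]
  obtain ⟨r, hr⟩ := hsplits.mem_range_of_isRoot hp0 hroot
  have hrroot : aeval r (minpoly k a') = 0 := by
    rw [hmin]
    have hinj : Function.Injective (ψ : M →+* W.adicCompletion K) := RingHom.injective _
    apply hinj
    rw [map_zero]
    have : (ψ : M →+* W.adicCompletion K) (aeval r p) = aeval (ψ r) p := by
      change ψ (aeval r p) = _
      rw [aeval_algHom_apply]
    rw [this]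
    have hr' : ψ r = algebraMap K (W.adicCompletion K) a := hr
    rw [hr', IsScalarTower.toAlgHom_apply k K (W.adicCompletion K) a |>.symm, aeval_algHom_apply, hp,
      minpoly.aeval, map_zero]
  obtain ⟨τ, hτ⟩ := minpoly.exists_algEquiv_of_root' ha'int.isAlgebraic hrroot
  let ψ' : L →ₐ[k] W.adicCompletion K := ψ.comp ((τ : M →ₐ[k] M).comp σ)
  have hψ'a : ψ' (algebraMap K L a) = algebraMap K (W.adicCompletion K) a := by
    change ψ (τ a') = _
    rw [hτ]
    exact hr
  have hext : ψ'.comp (IsScalarTower.toAlgHom k K L) =
      IsScalarTower.toAlgHom k K (W.adicCompletion K) := by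
    refine (NFHensel.pbOfPrimitive a ha).algHom_ext ?_
    rw [NFHensel.pbOfPrimitive_gen]
    exact hψ'a
  exact ⟨{ ψ'.toRingHom with
    commutes' := fun κ => DFunLike.congr_fun hext κ }⟩

end Groth.Agent.Lib.helper12.HWComplMap
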