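import Mathlib
import Groth.Agent.Lib.Helper12.NFHensel
import Groth.Agent.Lib.Helper12.HWUnitNorm
import Groth.Agent.Lib.Helper12.HWValOver
set_option linter.style.haveILetI false
set_option linter.unusedSectionVars false

namespace Groth.Agent.Lib.helper12.HWUnitNorm2
open IsDedekindDomain HeightOneSpectrum NumberField
open scoped nonZeroDivisors

variable {K L : Type*} [Field K] [NumberField K] [Field L] [NumberField L] [Algebra K L]
variable {k : Type*} [Field k] [NumberField k] [Algebra k K] [Algebra k L] [IsScalarTower k K L]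

open scoped WithZero in
open Polynomial in
/-- finite level approximation of units by norms, at all places above an unramified `v` -/
theorem exists_norm_sub_le_int (v : HeightOneSpectrum (𝓞 k))
    (hunr : ∀ Q : Ideal (𝓞 L), Q.IsPrime → Q.LiesOver v.asIdeal → Q.ramificationIdx (𝓞 K) = 1)
    (c : K) (hc : ∀ W : HeightOneSpectrum (𝓞 K), W.asIdeal.LiesOver v.asIdeal →
      W.valuation K c = 1) (N : ℕ) :
    ∃ y : L, (∀ Q : HeightOneSpectrum (𝓞 L), Q.asIdeal.LiesOver v.asIdeal →
        Q.valuation L y ≤ 1) ∧ ∀ W : HeightOneSpectrum (𝓞 K), W.asIdeal.LiesOver v.asIdeal →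
      W.valuation K (Algebra.norm K y - c) ≤ WithZero.exp (-(N : ℤ)) := by
  classical
  obtain ⟨η, hηprim, hηtr⟩ := HWUnitNorm.exists_primitive_trace_unit (K := K) (L := L) v hunr
  set f := minpoly K (η : L) with hf
  have hfmonic : f.Monic := minpoly.monic (IsIntegral.of_finite K _)
  set n := f.natDegree with hn
  have hnpos : 0 < n := minpoly.natDegree_pos (IsIntegral.of_finite K _)
  have hfint : ∀ W : HeightOneSpectrum (𝓞 K), ∀ i, W.valuation K (f.coeff i) ≤ 1 :=
    fun W i => HWUnitNorm.val_minpoly_coeff_le_one η W i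
  -- the trace is minus the next coefficient
  have htrace : Algebra.trace K L (η : L) = -f.coeff (n - 1) := by
    have h := PowerBasis.trace_gen_eq_nextCoeff_minpoly (NFHensel.pbOfPrimitive (η : L) hηprim)
    rw [NFHensel.pbOfPrimitive_gen] at h
    rw [h, nextCoeff, if_neg hnpos.ne']
  induction N with
  | zero =>
    obtain ⟨y, hy⟩ := HWUnitNorm.exists_norm_sub_lt_one (K := K) (L := L) v hunr c hc
    refine ⟨y, fun Q _ => Q.valuation_le_one y, fun W hW => ?_⟩
    simp only [CharP.cast_eq_zero, neg_zero, WithZero.exp_zero]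
    exact (hy W hW).le
  | succ N ih =>
    rcases Nat.eq_zero_or_pos N with rfl | hNpos
    · obtain ⟨y, hy⟩ := HWUnitNorm.exists_norm_sub_lt_one (K := K) (L := L) v hunr c hc
      refine ⟨y, fun Q _ => Q.valuation_le_one y, fun W hW => ?_⟩
      have := hy W hW
      rw [NFHensel.lt_one_iff_le_exp_neg_one] at this
      simpa using this
    obtain ⟨y, hyint, hy⟩ := ih
    set ν := Algebra.norm K y with hν
    -- there is a place above `v`, so `ν ≠ 0`; otherwise everything is vacuous
    by_cases hex : ∃ W : HeightOneSpectrum (𝓞 K), W.asIdeal.LiesOver v.asIdeal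
    swap
    · exact ⟨y, hyint, fun W hW => absurd ⟨W, hW⟩ hex⟩
    obtain ⟨W₀, hW₀⟩ := hex
    have hν1 : ∀ W : HeightOneSpectrum (𝓞 K), W.asIdeal.LiesOver v.asIdeal →
        W.valuation K ν = 1 := by
      intro W hW
      have h1 : W.valuation K (ν - c) < 1 := lt_of_le_of_lt (hy W hW) (by
        rw [← WithZero.exp_zero, WithZero.exp_lt_exp]
        omega)
      have h2 : ν = (ν - c) + c := by ring
      rw [h2, ← hc W hW]
      exact (W.valuation K).map_add_eq_of_lt_right (by rw [hc W hW]; exact h1)
    have hν0 : ν ≠ 0 := by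
      intro h
      have := hν1 W₀ hW₀
      rw [h, map_zero] at this
      exact zero_ne_one this
    set τ := Algebra.trace K L (η : L) with hτ
    have hτ0 : τ ≠ 0 := by
      intro h
      have := hηtr W₀ hW₀
      rw [h, map_zero] at this
      exact zero_ne_one this
    set ε : K := (c - ν) / ν with hε
    set κ : K := ε / τ with hκ
    have hκval : ∀ W : HeightOneSpectrum (𝓞 K), W.asIdeal.LiesOver v.asIdeal →
        W.valuation K κ ≤ WithZero.exp (-(N : ℤ)) := by
      intro W hW
      rw [hκ, hε, map_div₀, map_div₀, hν1 W hW, hηtr W hW, div_one, div_one,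
        Valuation.map_sub_swap]
      exact hy W hW
    -- the new element
    refine ⟨y * (algebraMap K L 1 - (-κ) • (η : L)), fun Q hQ => ?_, fun W hW => ?_⟩
    · rw [map_mul]
      refine mul_le_one' (hyint Q hQ) ?_
      refine le_trans (Valuation.map_sub _ _ _) (max_le ?_ ?_)
      · rw [map_one, map_one]
      · rw [Algebra.smul_def, map_mul]
        refine mul_le_one' ?_ (Q.valuation_le_one η)
        set W := HeightOneSpectrum.under (𝓞 K) Q with hWdef
        have hQW : Q.asIdeal.LiesOver W.asIdeal := HWValOver.liesOver_under Q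
        have hWv : W.asIdeal.LiesOver v.asIdeal := ⟨by
          change v.asIdeal = (Q.asIdeal.under (𝓞 K)).under (𝓞 k)
          rw [Ideal.under_under, ← hQ.over]⟩
        refine HWValOver.val_over_le_one W Q hQW ?_
        rw [Valuation.map_neg]
        refine (hκval W hWv).trans ?_
        rw [← WithZero.exp_zero, WithZero.exp_le_exp]
        omega
    rw [map_mul, NFHensel.norm_sub_smul (η : L) hηprim 1 (-κ), ← hf, ← hν]
    -- expand the norm form
    obtain ⟨m, hm⟩ : ∃ m, n = m + 1 := ⟨n - 1, by omega⟩
    have hexp : NFHensel.normForm f 1 (-κ) =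
        (∑ i ∈ Finset.range m, f.coeff i * (-κ) ^ (n - i)) + κ * τ + 1 := by
      rw [NFHensel.normForm, ← hn, hm, Finset.sum_range_succ, Finset.sum_range_succ]
      have h1 : f.coeff (m + 1) = 1 := by
        rw [← hm, hn]; exact hfmonic.coeff_natDegree
      have h2 : f.coeff m = -τ := by
        rw [htrace, hm, Nat.add_sub_cancel, neg_neg]
      rw [h1, h2]
      simp only [one_pow, mul_one, Nat.sub_self, pow_zero, Nat.add_sub_cancel_left, pow_one]
      ring
    set ρ := ∑ i ∈ Finset.range m, f.coeff i * (-κ) ^ (n - i) with hρ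
    have hκτ : κ * τ = ε := by
      rw [hκ]; field_simp
    have hfinal : ν * NFHensel.normForm f 1 (-κ) - c = ν * ρ := by
      rw [hexp, hκτ, hε]
      field_simp
      ring
    rw [hfinal, map_mul, hν1 W hW, one_mul]
    -- estimate `ρ`
    have hκ1 : W.valuation K (-κ) ≤ 1 := by
      rw [Valuation.map_neg]
      refine (hκval W hW).trans ?_
      rw [← WithZero.exp_zero, WithZero.exp_le_exp]
      omega
    refine (W.valuation K).map_sum_le fun i hi => ?_
    have hi' := Finset.mem_range.1 hi
    rw [map_mul, map_pow]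
    obtain ⟨r, hr⟩ : ∃ r, n - i = r + 2 := ⟨n - i - 2, by omega⟩
    rw [hr, pow_add]
    calc W.valuation K (f.coeff i) * (W.valuation K (-κ) ^ r * W.valuation K (-κ) ^ 2)
        ≤ 1 * (1 * W.valuation K (-κ) ^ 2) := by
          gcongr
          · exact hfint W i
          · exact pow_le_one' hκ1 r
      _ = W.valuation K κ ^ 2 := by rw [one_mul, one_mul, Valuation.map_neg]
      _ ≤ WithZero.exp (-(N : ℤ)) ^ 2 := by
          gcongr
          exact hκval W hW
      _ ≤ WithZero.exp (-((N + 1 : ℕ) : ℤ)) := by
          rw [← WithZero.exp_nsmul, WithZero.exp_le_exp]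
          push_cast
          simp only [nsmul_eq_mul]
          omega


end Groth.Agent.Lib.helper12.HWUnitNorm2
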