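import Mathlib
import Groth.Agent.Lib.Helper12.NFHensel
import Groth.Agent.Lib.Helper12.NFMain
import Groth.Agent.Lib.Helper12.HWLocInt
import Groth.Agent.Lib.Helper12.HWUnitNorm
import Groth.Agent.Lib.Helper12.HWUnitNorm2
import Groth.Agent.Lib.Helper12.HWRelNorm
import Groth.Agent.Lib.Helper12.HWValOver
import Groth.Agent.Lib.Helper12.HWFunc
import Groth.Agent.Lib.Helper12.HWCompact
set_option linter.style.haveILetI false
set_option linter.unusedSectionVars false

namespace Groth.Agent.Lib.helper12.HWExact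
open scoped TensorProduct Topology WithZero
open IsDedekindDomain HeightOneSpectrum NumberField

section general

/-- an element of a finite free algebra whose norm is a unit is a unit -/
theorem isUnit_of_isUnit_norm {R S : Type*} [CommRing R] [CommRing S] [Algebra R S]
    [Module.Finite R S] [Module.Free R S] (x : S) (h : IsUnit (Algebra.norm R x)) : IsUnit x := by
  rw [Algebra.norm_apply] at h
  have h1 : IsUnit (Algebra.lmul R S x) := (LinearMap.isUnit_iff_isUnit_det _).2 h
  obtain ⟨g, hg⟩ := h1.exists_right_inv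
  have h2 : x * g 1 = 1 := by
    have := LinearMap.congr_fun hg 1
    simpa using this
  exact IsUnit.of_mul_eq_one _ h2

variable {k : Type*} [Field k] (F : Type*) [Field F] [Algebra k F] {K : Type*} [Field K]
  [Algebra k K]

/-- the coordinates of `F ⊗ K` with respect to the base change of a basis are the extended
coordinate functionals -/
theorem basis_repr_eq_extF {ι : Type*} [Fintype ι] [DecidableEq ι] (β : Module.Basis ι k K)
    (z : F ⊗[k] K) (i : ι) :
    (Algebra.TensorProduct.basis F β).repr z i = HWFunc.extF F (β.coord i) z := by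
  induction z using TensorProduct.induction_on with
  | zero => simp
  | add z₁ z₂ h₁ h₂ => rw [map_add, map_add, Finsupp.add_apply, h₁, h₂]
  | tmul a y =>
    rw [Algebra.TensorProduct.basis_repr_tmul, HWFunc.extF_tmul]
    simp

end general

section main
variable {k K L : Type*} [Field k] [NumberField k] [Field K] [NumberField K] [Field L]
  [NumberField L] [Algebra k K] [Algebra K L] [Algebra k L] [IsScalarTower k K L]

attribute [local instance] HWRelNorm.relAlg

/-- finite level: a locally integral element of `L` whose norm has coordinates close to those of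
`c` -/
theorem exists_int_norm_close (v : HeightOneSpectrum (𝓞 k))
    (hunr : ∀ Q : Ideal (𝓞 L), Q.IsPrime → Q.LiesOver v.asIdeal → Q.ramificationIdx (𝓞 K) = 1)
    (c : K) (hc : ∀ W : HeightOneSpectrum (𝓞 K), W.asIdeal.LiesOver v.asIdeal →
      W.valuation K c = 1)
    {ι : Type*} [Fintype ι] (φ : ι → K →ₗ[k] k) (m : ℕ) :
    ∃ y : L, (∀ Q : HeightOneSpectrum (𝓞 L), Q.asIdeal.LiesOver v.asIdeal →
        Q.valuation L y ≤ 1) ∧
      ∀ j, v.valuation k (φ j (Algebra.norm K y) - φ j c) ≤ WithZero.exp (-(m : ℤ)) := by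
  classical
  obtain ⟨ϖ, hϖ⟩ := v.valuation_exists_uniformizer k
  have hϖ0 : ϖ ≠ 0 := by
    rintro rfl
    rw [map_zero] at hϖ
    exact absurd hϖ.symm WithZero.exp_ne_zero
  choose C hC using fun j => HWLocInt.exists_bound_functional (F := K) v (φ j) ϖ hϖ
  set N' : ℕ := (Finset.univ.sup C) + m with hN'
  set s : Finset (HeightOneSpectrum (𝓞 K)) := (HWUnitNorm.finite_over (K := K) v).toFinset with hs
  obtain ⟨N, hN⟩ := NFMain.exists_exp_gt_finset s
    (fun Q => (Q.valuation K (algebraMap k K ϖ) ^ N')⁻¹)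
  obtain ⟨y, hyint, hy⟩ := HWUnitNorm2.exists_norm_sub_le_int (K := K) (L := L) v hunr c hc N
  refine ⟨y, hyint, fun j => ?_⟩
  rw [← map_sub]
  refine (hC j (Algebra.norm K y - c) N' fun Q hQ => ?_).trans ?_
  · refine (hy Q hQ).trans ?_
    have hQs : Q ∈ s := by rw [hs, Set.Finite.mem_toFinset]; exact hQ
    have h1 := hN Q hQs
    have hne : Q.valuation K (algebraMap k K ϖ) ^ N' ≠ 0 :=
      pow_ne_zero _ ((Valuation.ne_zero_iff _).2 ((map_ne_zero _).2 hϖ0))
    have h2 : (WithZero.exp (N : ℤ))⁻¹ < Q.valuation K (algebraMap k K ϖ) ^ N' := by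
      rw [inv_lt_comm₀ (by simp) (zero_lt_iff.2 hne)]
      exact h1
    rw [WithZero.exp_neg]
    exact h2.le
  · rw [WithZero.exp_le_exp]
    have : C j ≤ Finset.univ.sup C := Finset.le_sup (Finset.mem_univ j)
    rw [hN']
    push_cast
    omega

/-- **the exact local unit-norm theorem**: at a place `v` of `k` above which `L/K` is unramified,
every element of `K` which is a unit at all places above `v` is the norm of a unit of
`k_v ⊗ L`. -/
theorem exists_unit_norm_eq (v : HeightOneSpectrum (𝓞 k))
    (hunr : ∀ Q : Ideal (𝓞 L), Q.IsPrime → Q.LiesOver v.asIdeal → Q.ramificationIdx (𝓞 K) = 1)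
    (c : K) (hc : ∀ W : HeightOneSpectrum (𝓞 K), W.asIdeal.LiesOver v.asIdeal →
      W.valuation K c = 1) :
    ∃ x : (v.adicCompletion k) ⊗[k] L, IsUnit x ∧
      Algebra.norm ((v.adicCompletion k) ⊗[k] K) x = (1 : v.adicCompletion k) ⊗ₜ[k] c := by
  classical
  letI : TopologicalSpace ((v.adicCompletion k) ⊗[k] K) := moduleTopology (v.adicCompletion k) _
  haveI : IsModuleTopology (v.adicCompletion k) ((v.adicCompletion k) ⊗[k] K) := ⟨rfl⟩
  haveI : IsTopologicalRing ((v.adicCompletion k) ⊗[k] K) :=
    IsModuleTopology.isTopologicalRing (v.adicCompletion k) _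
  have hc0 : c ≠ 0 := by
    obtain ⟨W, hW⟩ := HWFunc.exists_over (K := K) v
    intro h
    have := hc W hW
    rw [h, map_zero] at this
    exact zero_ne_one this
  set r : ℝ := (Ideal.absNorm v.asIdeal : ℝ)⁻¹ with hr
  have hr0 : 0 < r := by
    rw [hr]
    have : (1 : ℝ) < Ideal.absNorm v.asIdeal := by
      exact_mod_cast NumberField.HeightOneSpectrum.one_lt_absNorm v
    positivity
  have hr1 : r < 1 := by
    rw [hr]
    have : (1 : ℝ) < Ideal.absNorm v.asIdeal := by
      exact_mod_cast NumberField.HeightOneSpectrum.one_lt_absNorm v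
    exact inv_lt_one_of_one_lt₀ this
  have hval : ∀ d : k, Valued.v (algebraMap k (v.adicCompletion k) d) = v.valuation k d := fun d =>
    valuedAdicCompletion_eq_valuation' v d
  -- integral basis of `L`
  set n := Module.finrank ℤ (𝓞 L) with hn
  let ω : Module.Basis (Fin n) ℤ (𝓞 L) := Module.finBasis ℤ (𝓞 L)
  let B : Fin n → (v.adicCompletion k) ⊗[k] L :=
    fun j => (1 : v.adicCompletion k) ⊗ₜ[k] ((ω j : 𝓞 L) : L)
  -- coordinates on `K`
  set m := Module.finrank k K with hm
  let β : Module.Basis (Fin m) k K := Module.finBasis k K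
  let φ : Fin m → K →ₗ[k] k := fun i => β.coord i
  let G : (Fin n → v.adicCompletion k) → (Fin m → v.adicCompletion k) := fun ξ i =>
    HWFunc.extF (v.adicCompletion k) (φ i)
      (Algebra.norm ((v.adicCompletion k) ⊗[k] K) (∑ j, ξ j • B j))
  have hGc : Continuous G := continuous_pi fun i =>
    (IsModuleTopology.continuous_of_linearMap (HWFunc.extF (v.adicCompletion k) (φ i))).comp
      (HWRelNorm.continuous_relnorm_sum B)
  set Cube : Set (Fin n → v.adicCompletion k) :=
    Set.pi Set.univ fun _ => {x : v.adicCompletion k | Valued.v x ≤ 1} with hCube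
  have hCubec : IsCompact Cube := isCompact_univ_pi fun _ => HWCompact.isCompact_integer v
  have hclosed : IsClosed (G '' Cube) := (hCubec.image hGc).isClosed
  set tgt : Fin m → v.adicCompletion k := fun i => algebraMap k (v.adicCompletion k) (φ i c)
    with htgt
  have htgtmem : tgt ∈ closure (G '' Cube) := by
    rw [Metric.mem_closure_iff]
    intro ε hε
    obtain ⟨mm, hmm⟩ := exists_pow_lt_of_lt_one hε hr1
    obtain ⟨y, hyint, hyφ⟩ := exists_int_norm_close (K := K) (L := L) v hunr c hc φ mm
    -- the coordinates of `y` on the integral basis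
    obtain ⟨s, hsv, z, hz⟩ := HWLocInt.exists_smul_integer v y hyint
    have hs1 : v.valuation k (algebraMap (𝓞 k) k s) = 1 := by
      rw [HeightOneSpectrum.valuation_eq_one_iff_notMem]
      exact hsv
    have hs0 : algebraMap (𝓞 k) k s ≠ 0 := by
      intro h
      rw [h, map_zero] at hs1
      exact zero_ne_one hs1
    set q : Fin n → k := fun j => ((ω.repr z j : ℤ) : k) / algebraMap (𝓞 k) k s with hq
    set ξ : Fin n → v.adicCompletion k := fun j => algebraMap k (v.adicCompletion k) (q j) with hξ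
    have hξcube : ξ ∈ Cube := by
      rw [hCube, Set.mem_univ_pi]
      intro j
      rw [Set.mem_ofPred_eq, hξ]
      simp only
      rw [hval, hq]
      simp only
      rw [map_div₀, hs1, div_one]
      exact HWLocInt.val_intCast_le_one v _
    have hysum : y = ∑ j, q j • ((ω j : 𝓞 L) : L) := by
      have hzsum : algebraMap (𝓞 L) L z = ∑ j, (ω.repr z j) • algebraMap (𝓞 L) L (ω j) := by
        conv_lhs => rw [← ω.sum_repr z]
        rw [map_sum]
        refine Finset.sum_congr rfl fun i _ => ?_
        rw [zsmul_eq_mul, zsmul_eq_mul, map_mul, map_intCast]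
      have hsL : algebraMap (𝓞 k) L s ≠ 0 := by
        rw [IsScalarTower.algebraMap_apply (𝓞 k) k L]
        exact (map_ne_zero _).2 hs0
      have hy1 : y = (algebraMap (𝓞 k) L s)⁻¹ * algebraMap (𝓞 L) L z := by
        rw [hz, inv_mul_cancel_left₀ hsL]
      rw [hy1, hzsum, Finset.mul_sum]
      refine Finset.sum_congr rfl fun j _ => ?_
      have e1 : algebraMap k L (q j) = (algebraMap (𝓞 k) L s)⁻¹ * ((ω.repr z j : ℤ) : L) := by
        rw [hq]
        simp only
        rw [map_div₀, map_intCast, ← IsScalarTower.algebraMap_apply (𝓞 k) k L, div_eq_inv_mul]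
      rw [Algebra.smul_def (q j), e1, zsmul_eq_mul, mul_assoc]
    have hξsum : ∑ j, ξ j • B j = (1 : v.adicCompletion k) ⊗ₜ[k] y := by
      rw [hysum, TensorProduct.tmul_sum]
      refine Finset.sum_congr rfl fun j _ => ?_
      change ξ j • ((1 : v.adicCompletion k) ⊗ₜ[k] ((ω j : 𝓞 L) : L)) = _
      rw [TensorProduct.smul_tmul', hξ]
      simp only
      rw [smul_eq_mul, mul_one, Algebra.algebraMap_eq_smul_one, TensorProduct.smul_tmul]
    refine ⟨G ξ, ⟨ξ, hξcube, rfl⟩, ?_⟩
    rw [dist_pi_lt_iff hε]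
    intro i
    have hGi : G ξ i = algebraMap k (v.adicCompletion k) (φ i (Algebra.norm K y)) := by
      change HWFunc.extF (v.adicCompletion k) (φ i)
        (Algebra.norm ((v.adicCompletion k) ⊗[k] K) (∑ j, ξ j • B j)) = _
      rw [hξsum, HWRelNorm.norm_one_tmul, HWFunc.extF_one_tmul]
    rw [hGi, htgt]
    simp only
    rw [dist_comm, dist_eq_norm, ← map_sub]
    have h1 : ‖algebraMap k (v.adicCompletion k) (φ i (Algebra.norm K y) - φ i c)‖ ≤ r ^ mm := by
      rw [hr, NFHensel.norm_le_pow_iff, hval]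
      exact hyφ i
    exact h1.trans_lt hmm
  rw [hclosed.closure_eq] at htgtmem
  obtain ⟨ξ, -, hGξ⟩ := htgtmem
  set x : (v.adicCompletion k) ⊗[k] L := ∑ j, ξ j • B j with hx
  have hnorm : Algebra.norm ((v.adicCompletion k) ⊗[k] K) x = (1 : v.adicCompletion k) ⊗ₜ[k] c := by
    apply (Algebra.TensorProduct.basis (v.adicCompletion k) β).ext_elem
    intro i
    rw [basis_repr_eq_extF, basis_repr_eq_extF, HWFunc.extF_one_tmul]
    exact congrFun hGξ i
  refine ⟨x, ?_, hnorm⟩
  -- `x` is a unit since its norm is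
  obtain ⟨d, β'⟩ : ∃ d, Nonempty (Module.Basis (Fin d) K L) := ⟨_, ⟨Module.finBasis K L⟩⟩
  obtain ⟨β'⟩ := β'
  haveI : Module.Free ((v.adicCompletion k) ⊗[k] K) ((v.adicCompletion k) ⊗[k] L) :=
    Module.Free.of_basis (HWRelNorm.relBasis (k := k) (F := v.adicCompletion k) β')
  haveI : Module.Finite ((v.adicCompletion k) ⊗[k] K) ((v.adicCompletion k) ⊗[k] L) :=
    Module.Finite.of_basis (HWRelNorm.relBasis (k := k) (F := v.adicCompletion k) β')
  apply isUnit_of_isUnit_norm (R := (v.adicCompletion k) ⊗[k] K)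
  rw [hnorm]
  refine IsUnit.of_mul_eq_one ((1 : v.adicCompletion k) ⊗ₜ[k] c⁻¹) ?_
  rw [Algebra.TensorProduct.tmul_mul_tmul, one_mul, mul_inv_cancel₀ hc0]
  rfl

end main

end Groth.Agent.Lib.helper12.HWExact
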