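import Mathlib
import Groth.Agent.Lib.Helper12.NFHensel
import Groth.Agent.Lib.Helper12.NFMain
import Groth.Agent.Lib.Helper12.HWUnitNorm
import Groth.Agent.Lib.Helper12.HWValOver
import Groth.Agent.Lib.Helper12.HWFunc
import Groth.Agent.Lib.Helper12.HWCommon
import Groth.Agent.Lib.Helper12.HWExact
import Groth.Agent.Lib.Helper12.HWRelNorm
set_option linter.style.haveILetI false
set_option linter.unusedSectionVars false

namespace Groth.Agent.Lib.helper12.HWMoebius
open scoped TensorProduct Topology WithZero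
open IsDedekindDomain HeightOneSpectrum NumberField

section tensor
variable {k F K : Type*} [Field k] [Field F] [Algebra k F] [Field K] [Algebra k K]

/-- the tensor identity behind the change of coordinate -/
theorem moebius_tensor_identity (α β γ δ : k) (a b a' b' : K) (t t' : F)
    (hs : algebraMap k F γ * t + algebraMap k F δ ≠ 0)
    (ha0 : algebraMap k K γ * a + algebraMap k K δ ≠ 0)
    (ha' : a' = (algebraMap k K α * a + algebraMap k K β) /
      (algebraMap k K γ * a + algebraMap k K δ))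
    (hb' : b' = b * (algebraMap k K γ * a + algebraMap k K δ))
    (ht' : t' = (algebraMap k F α * t + algebraMap k F β) /
      (algebraMap k F γ * t + algebraMap k F δ)) :
    ((1 : F) ⊗ₜ[k] b * (t ⊗ₜ[k] (1 : K) - (1 : F) ⊗ₜ[k] a)) *
      ((algebraMap k F (α * δ - β * γ) / (algebraMap k F γ * t + algebraMap k F δ)) ⊗ₜ[k] (1 : K)) =
      (1 : F) ⊗ₜ[k] b' * (t' ⊗ₜ[k] (1 : K) - (1 : F) ⊗ₜ[k] a') := by
  set s : F := algebraMap k F γ * t + algebraMap k F δ with hsdef
  set D : F := algebraMap k F (α * δ - β * γ) with hD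
  -- left hand side
  have hL : ((1 : F) ⊗ₜ[k] b * (t ⊗ₜ[k] (1 : K) - (1 : F) ⊗ₜ[k] a)) * ((D / s) ⊗ₜ[k] (1 : K)) =
      (t * (D / s)) ⊗ₜ[k] b - (D / s) ⊗ₜ[k] (b * a) := by
    rw [mul_sub, sub_mul, Algebra.TensorProduct.tmul_mul_tmul, Algebra.TensorProduct.tmul_mul_tmul,
      Algebra.TensorProduct.tmul_mul_tmul, Algebra.TensorProduct.tmul_mul_tmul, one_mul, mul_one,
      one_mul, mul_one, mul_one, one_mul]
  -- right hand side
  have hb'1 : b' = γ • (b * a) + δ • b := by
    rw [hb', Algebra.smul_def, Algebra.smul_def]; ring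
  have hb'a' : b' * a' = α • (b * a) + β • b := by
    rw [hb', ha', Algebra.smul_def, Algebra.smul_def]
    field_simp
  have hR : (1 : F) ⊗ₜ[k] b' * (t' ⊗ₜ[k] (1 : K) - (1 : F) ⊗ₜ[k] a') =
      (δ • t' - β • (1 : F)) ⊗ₜ[k] b + (γ • t' - α • (1 : F)) ⊗ₜ[k] (b * a) := by
    rw [mul_sub, Algebra.TensorProduct.tmul_mul_tmul, Algebra.TensorProduct.tmul_mul_tmul, one_mul,
      mul_one, one_mul, hb'a', hb'1, TensorProduct.tmul_add, TensorProduct.tmul_add,
      ← TensorProduct.smul_tmul, ← TensorProduct.smul_tmul, ← TensorProduct.smul_tmul,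
      ← TensorProduct.smul_tmul, TensorProduct.sub_tmul, TensorProduct.sub_tmul]
    abel
  rw [hL, hR]
  have h1 : δ • t' - β • (1 : F) = t * (D / s) := by
    rw [ht', hD, Algebra.smul_def, Algebra.smul_def, map_sub, map_mul, map_mul]
    field_simp
    ring
  have h2 : γ • t' - α • (1 : F) = -(D / s) := by
    rw [ht', hD, Algebra.smul_def, Algebra.smul_def, map_sub, map_mul, map_mul]
    field_simp
    ring
  rw [h1, h2, TensorProduct.neg_tmul, sub_eq_add_neg]

end tensor

section top
variable (F : Type*) [Field F] [TopologicalSpace F] [IsTopologicalDivisionRing F] [T1Space F]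

/-- continuity of the inverse change of coordinate -/
theorem exists_nhd_moebius (α β γ δ t : F) (hs : γ * t + δ ≠ 0) (hD : α * δ - β * γ ≠ 0)
    (U : Set F) (hU : IsOpen U) (ht : t ∈ U) :
    ∃ U' : Set F, IsOpen U' ∧ (α * t + β) / (γ * t + δ) ∈ U' ∧
      ∀ τ ∈ U', α - γ * τ ≠ 0 → (δ * τ - β) / (α - γ * τ) ∈ U := by
  set O : Set F := {τ | α - γ * τ ≠ 0 ∧ (δ * τ - β) / (α - γ * τ) ∈ U} with hO
  have hOopen : IsOpen O := by
    rw [isOpen_iff_mem_nhds]
    rintro p ⟨hp1, hpU⟩
    have hc : ContinuousAt (fun τ : F => (δ * τ - β) / (α - γ * τ)) p :=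
      ContinuousAt.div₀ ((continuous_const.mul continuous_id).sub continuous_const).continuousAt
        (continuous_const.sub (continuous_const.mul continuous_id)).continuousAt hp1
    have h1 : {τ : F | α - γ * τ ≠ 0} ∈ nhds p :=
      (isOpen_ne.preimage (continuous_const.sub (continuous_const.mul continuous_id))).mem_nhds hp1
    have h2 := hc.preimage_mem_nhds (hU.mem_nhds hpU)
    filter_upwards [h1, h2] with q hq1 hq2
    exact ⟨hq1, hq2⟩
  refine ⟨O, hOopen, ?_, fun τ hτ _ => hτ.2⟩
  have hden : α - γ * ((α * t + β) / (γ * t + δ)) = (α * δ - β * γ) / (γ * t + δ) := by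
    field_simp
    ring
  have hnum : δ * ((α * t + β) / (γ * t + δ)) - β = (α * δ - β * γ) * t / (γ * t + δ) := by
    rw [eq_div_iff hs, sub_mul, mul_assoc, div_mul_cancel₀ _ hs]
    ring
  refine ⟨?_, ?_⟩
  · rw [hden]
    exact div_ne_zero hD hs
  · rw [hden, hnum, div_div_div_cancel_right₀ hs, mul_div_cancel_left₀ _ hD]
    exact ht

end top

section val
variable {k K : Type*} [Field k] [NumberField k] [Field K] [NumberField K] [Algebra k K]

/-- a radius making `τ * x` small at all places above `v` -/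
theorem exists_radius (v : HeightOneSpectrum (𝓞 k)) (x : K) :
    ∃ m : ℕ, ∀ τ : k, v.valuation k τ ≤ WithZero.exp (-(m : ℤ)) →
      ∀ W : HeightOneSpectrum (𝓞 K), W.asIdeal.LiesOver v.asIdeal →
        W.valuation K (algebraMap k K τ * x) < 1 := by
  classical
  set s : Finset (HeightOneSpectrum (𝓞 K)) := (HWUnitNorm.finite_over (K := K) v).toFinset with hs
  obtain ⟨m, hm⟩ := NFMain.exists_exp_gt_finset s (fun W => W.valuation K x)
  refine ⟨m, fun τ hτ W hW => ?_⟩
  have hWs : W ∈ s := by rw [hs, Set.Finite.mem_toFinset]; exact hW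
  have hm1 : WithZero.exp (-(m : ℤ)) ≤ 1 := by
    rw [← WithZero.exp_zero, WithZero.exp_le_exp]
    omega
  have h1 : W.valuation K (algebraMap k K τ) ≤ WithZero.exp (-(m : ℤ)) :=
    (HWValOver.val_over_le v W hW (hτ.trans hm1)).trans hτ
  rw [map_mul]
  calc W.valuation K (algebraMap k K τ) * W.valuation K x
      ≤ WithZero.exp (-(m : ℤ)) * W.valuation K x := mul_le_mul_left h1 _
    _ < WithZero.exp (-(m : ℤ)) * WithZero.exp (m : ℤ) :=
        mul_lt_mul_of_pos_left (hm W hWs) (by simp)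
    _ = 1 := by
        rw [← WithZero.exp_add, ← WithZero.exp_zero]
        congr 1
        ring

/-- the valuation computation of the last part of the change of coordinate, for one field -/
theorem part4_field (α β γ δ : k) (a b a' b' : K)
    (ha0 : algebraMap k K γ * a + algebraMap k K δ ≠ 0)
    (ha' : a' = (algebraMap k K α * a + algebraMap k K β) /
      (algebraMap k K γ * a + algebraMap k K δ))
    (hb' : b' = b * (algebraMap k K γ * a + algebraMap k K δ))
    (Sf Sf' : Finset (HeightOneSpectrum (𝓞 k)))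
    (hSb : ∀ W : HeightOneSpectrum (𝓞 K), W.valuation K b ≠ 1 →
      ∃ v ∈ Sf, W.asIdeal.LiesOver v.asIdeal)
    (hiiα : ∀ v : HeightOneSpectrum (𝓞 k), v ∉ Sf → v.valuation k α = 1)
    (hiia : ∀ W : HeightOneSpectrum (𝓞 K), (¬ ∃ v ∈ Sf, W.asIdeal.LiesOver v.asIdeal) →
      W.valuation K (algebraMap k K α * a + algebraMap k K β) = 1)
    (hS'αγ : ∀ v : HeightOneSpectrum (𝓞 k), v ∉ Sf' →
      v.valuation k α ≤ 1 ∧ v.valuation k γ ≤ 1)
    (hS'ab : ∀ W : HeightOneSpectrum (𝓞 K), (¬ ∃ v ∈ Sf', W.asIdeal.LiesOver v.asIdeal) →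
      W.valuation K a' ≤ 1 ∧ W.valuation K b' = 1)
    (τ : k) (hτ : α ≠ γ * τ)
    (hsmall : ∀ v ∈ Sf', v ∉ Sf → v.valuation k (γ * τ) < 1 ∧
      ∀ W : HeightOneSpectrum (𝓞 K), W.asIdeal.LiesOver v.asIdeal →
        W.valuation K (algebraMap k K τ * (algebraMap k K γ * a + algebraMap k K δ)) < 1)
    (W : HeightOneSpectrum (𝓞 K))
    (hW : W.valuation K (algebraMap k K ((δ * τ - β) / (α - γ * τ)) - a) < 1) :
    (∃ v ∈ Sf, W.asIdeal.LiesOver v.asIdeal) ∨
      ((¬ ∃ v ∈ Sf', W.asIdeal.LiesOver v.asIdeal) ∧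
        W.valuation K (algebraMap k K τ - a') < 1) := by
  by_cases hWS : ∃ v ∈ Sf, W.asIdeal.LiesOver v.asIdeal
  · exact Or.inl hWS
  right
  set v := HeightOneSpectrum.under (𝓞 k) W with hv
  have hWv : W.asIdeal.LiesOver v.asIdeal := HWValOver.liesOver_under W
  have hvS : v ∉ Sf := fun h => hWS ⟨v, h, hWv⟩
  set den : k := α - γ * τ with hden
  have hden0 : den ≠ 0 := sub_ne_zero.2 hτ
  have hdenK : algebraMap k K den ≠ 0 := (map_ne_zero _).2 hden0
  set g : K := algebraMap k K γ * a + algebraMap k K δ with hg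
  set f : K := algebraMap k K α * a + algebraMap k K β with hf
  set num : K := g * algebraMap k K τ - f with hnum
  have hkey : algebraMap k K ((δ * τ - β) / den) - a = num / algebraMap k K den := by
    rw [eq_div_iff hdenK, map_div₀, sub_mul, div_mul_cancel₀ _ hdenK, hnum, hg, hf, hden]
    simp only [map_sub, map_mul]
    ring
  have hnum' : num = g * (algebraMap k K τ - a') := by
    rw [hnum, ha', mul_sub, mul_div_cancel₀ _ ha0]
  have hbW : W.valuation K b = 1 := by
    by_contra hne
    exact hWS (hSb W hne)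
  have hfW : W.valuation K f = 1 := hiia W hWS
  have hαv : v.valuation k α = 1 := hiiα v hvS
  rw [hkey, map_div₀, div_lt_iff₀ (zero_lt_iff.2 ((Valuation.ne_zero_iff _).2 hdenK)), one_mul] at hW
  by_cases hvS' : v ∈ Sf'
  · -- impossible
    exfalso
    obtain ⟨h1, h2⟩ := hsmall v hvS' hvS
    have hnumW : W.valuation K num = 1 := by
      have : num = -f + algebraMap k K τ * g := by rw [hnum]; ring
      rw [this, Valuation.map_add_eq_of_lt_left, Valuation.map_neg, hfW]
      rw [Valuation.map_neg, hfW]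
      exact h2 W hWv
    have hdenv : v.valuation k den = 1 := by
      rw [hden, sub_eq_add_neg, Valuation.map_add_eq_of_lt_left, hαv]
      rw [Valuation.map_neg, hαv]
      exact h1
    rw [hnumW, HWValOver.val_over_eq_one v W hWv hdenv] at hW
    exact lt_irrefl _ hW
  · have hWS' : ¬ ∃ v' ∈ Sf', W.asIdeal.LiesOver v'.asIdeal := by
      rintro ⟨v', hv', hWv'⟩
      have : v' = v := (HWValOver.under_eq_of_liesOver v' W hWv').symm
      exact hvS' (this ▸ hv')
    refine ⟨hWS', ?_⟩
    obtain ⟨ha'W, hb'W⟩ := hS'ab W hWS'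
    obtain ⟨hαle, hγle⟩ := hS'αγ v hvS'
    have hgW : W.valuation K g = 1 := by
      rw [hb', map_mul, hbW, one_mul] at hb'W
      exact hb'W
    have hτa' : W.valuation K (algebraMap k K τ - a') = W.valuation K num := by
      rw [hnum', map_mul, hgW, one_mul]
    rw [hτa']
    by_cases hτ1 : v.valuation k τ ≤ 1
    · have hdenv : v.valuation k den ≤ 1 := by
        rw [hden]
        refine le_trans (Valuation.map_sub _ _ _) (max_le hαle ?_)
        rw [map_mul]
        exact mul_le_one' hγle hτ1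
      exact hW.trans_le (HWValOver.val_over_le_one v W hWv hdenv)
    · exfalso
      rw [not_le] at hτ1
      have hτW : 1 < W.valuation K (algebraMap k K τ) := by
        by_contra hcon
        rw [not_lt] at hcon
        exact absurd ((HWValOver.val_over_le_one_iff v W hWv).1 hcon) (not_le.2 hτ1)
      have hnumW : W.valuation K num = W.valuation K (algebraMap k K τ) := by
        rw [hnum, sub_eq_add_neg, Valuation.map_add_eq_of_lt_left, map_mul, hgW, one_mul]
        rw [Valuation.map_neg, hfW, map_mul, hgW, one_mul]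
        exact hτW
      have hdenW : W.valuation K (algebraMap k K den) ≤ W.valuation K (algebraMap k K τ) := by
        rw [hden, map_sub]
        refine le_trans (Valuation.map_sub _ _ _) (max_le ?_ ?_)
        · exact (HWValOver.val_over_le_one v W hWv hαle).trans hτW.le
        · rw [map_mul, map_mul]
          calc W.valuation K (algebraMap k K γ) * W.valuation K (algebraMap k K τ)
              ≤ 1 * W.valuation K (algebraMap k K τ) :=
                mul_le_mul_left (HWValOver.val_over_le_one v W hWv hγle) _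
            _ = W.valuation K (algebraMap k K τ) := one_mul _
      rw [hnumW] at hW
      exact absurd hW (not_lt.2 hdenW)

end val

section norms
attribute [local instance] HWRelNorm.relAlg

/-- part (1) of the change of coordinate at a place of `S` -/
theorem part1_S {k F K L : Type*} [Field k] [Field F] [Algebra k F] [Field K] [Algebra k K]
    [Field L] [Algebra K L] [Algebra k L] [IsScalarTower k K L]
    (α β γ δ : k) (a b a' b' : K) (t t' : F)
    (hs : algebraMap k F γ * t + algebraMap k F δ ≠ 0)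
    (ha0 : algebraMap k K γ * a + algebraMap k K δ ≠ 0)
    (ha' : a' = (algebraMap k K α * a + algebraMap k K β) /
      (algebraMap k K γ * a + algebraMap k K δ))
    (hb' : b' = b * (algebraMap k K γ * a + algebraMap k K δ))
    (ht' : t' = (algebraMap k F α * t + algebraMap k F β) /
      (algebraMap k F γ * t + algebraMap k F δ))
    (hx : ∃ x : F ⊗[k] L, IsUnit x ∧ Algebra.norm (F ⊗[k] K) x =
      (1 : F) ⊗ₜ[k] b * (t ⊗ₜ[k] (1 : K) - (1 : F) ⊗ₜ[k] a))
    (hy : ∃ y : F ⊗[k] L, IsUnit y ∧ Algebra.norm (F ⊗[k] K) y =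
      (algebraMap k F (α * δ - β * γ) / (algebraMap k F γ * t + algebraMap k F δ)) ⊗ₜ[k] (1 : K)) :
    ∃ x : F ⊗[k] L, IsUnit x ∧ Algebra.norm (F ⊗[k] K) x =
      (1 : F) ⊗ₜ[k] b' * (t' ⊗ₜ[k] (1 : K) - (1 : F) ⊗ₜ[k] a') := by
  obtain ⟨x, hxu, hx⟩ := hx
  obtain ⟨y, hyu, hy⟩ := hy
  refine ⟨x * y, hxu.mul hyu, ?_⟩
  rw [map_mul, hx, hy]
  exact moebius_tensor_identity α β γ δ a b a' b' t t' hs ha0 ha' hb' ht'

/-- part (1) of the change of coordinate at a new place, where `t' = 0` -/
theorem part1_T {k K L : Type*} [Field k] [NumberField k] [Field K] [NumberField K] [Field L]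
    [NumberField L] [Algebra k K] [Algebra K L] [Algebra k L] [IsScalarTower k K L]
    (α β γ δ : k) (a b a' b' : K)
    (ha0 : algebraMap k K γ * a + algebraMap k K δ ≠ 0)
    (ha' : a' = (algebraMap k K α * a + algebraMap k K β) /
      (algebraMap k K γ * a + algebraMap k K δ))
    (hb' : b' = b * (algebraMap k K γ * a + algebraMap k K δ))
    (Sf : Finset (HeightOneSpectrum (𝓞 k)))
    (hSb : ∀ W : HeightOneSpectrum (𝓞 K), W.valuation K b ≠ 1 →
      ∃ v ∈ Sf, W.asIdeal.LiesOver v.asIdeal)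
    (hSram : ∀ Q : Ideal (𝓞 L), Q.IsPrime → Q ≠ ⊥ → Q.ramificationIdx (𝓞 K) ≠ 1 →
      ∃ v ∈ Sf, Q.LiesOver v.asIdeal)
    (hiia : ∀ W : HeightOneSpectrum (𝓞 K), (¬ ∃ v ∈ Sf, W.asIdeal.LiesOver v.asIdeal) →
      W.valuation K (algebraMap k K α * a + algebraMap k K β) = 1)
    (v : HeightOneSpectrum (𝓞 k)) (hv : v ∉ Sf) :
    ∃ x : (v.adicCompletion k) ⊗[k] L, IsUnit x ∧
      Algebra.norm ((v.adicCompletion k) ⊗[k] K) x =
        (1 : v.adicCompletion k) ⊗ₜ[k] b' *
          ((0 : v.adicCompletion k) ⊗ₜ[k] (1 : K) - (1 : v.adicCompletion k) ⊗ₜ[k] a') := by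
  have hunr := HWCommon.hunr_of_notMem (K := K) (L := L) Sf hSram v hv
  have hbv := HWCommon.valb_of_notMem Sf b hSb v hv
  set c : K := -(b * (algebraMap k K α * a + algebraMap k K β)) with hc
  have hcW : ∀ W : HeightOneSpectrum (𝓞 K), W.asIdeal.LiesOver v.asIdeal →
      W.valuation K c = 1 := by
    intro W hW
    have hWS : ¬ ∃ v' ∈ Sf, W.asIdeal.LiesOver v'.asIdeal := by
      rintro ⟨v', hv', hWv'⟩
      have : v' = v := HeightOneSpectrum.ext (by rw [hWv'.over, hW.over])
      exact hv (this ▸ hv')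
    rw [hc, Valuation.map_neg, map_mul, hbv W hW, hiia W hWS, one_mul]
  obtain ⟨x, hxu, hx⟩ := HWExact.exists_unit_norm_eq (K := K) (L := L) v hunr c hcW
  refine ⟨x, hxu, ?_⟩
  rw [hx, TensorProduct.zero_tmul, zero_sub, mul_neg, Algebra.TensorProduct.tmul_mul_tmul, one_mul,
    ← TensorProduct.tmul_neg]
  congr 1
  rw [hc, hb', ha', mul_assoc, mul_div_cancel₀ _ ha0]

end norms

end Groth.Agent.Lib.helper12.HWMoebius
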