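import Mathlib
import Groth.Agent.Lib.Helper12.NFSplit
import Groth.Agent.Lib.Helper12.HWComplMap
set_option linter.style.haveILetI false
set_option linter.unusedSectionVars false

universe u
namespace Groth.Agent.Lib.helper12.HWSplitAll
open IsDedekindDomain HeightOneSpectrum NumberField

open IntermediateField in
theorem exists_split_all (k : Type u) [Field k] [NumberField k] (n : ℕ)
    (kf : Fin n → Type u) [∀ i, Field (kf i)] [∀ i, NumberField (kf i)] [∀ i, Algebra k (kf i)]
    (Lf : Fin n → Type u) [∀ i, Field (Lf i)] [∀ i, NumberField (Lf i)] [∀ i, Algebra (kf i) (Lf i)]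
    [∀ i, Algebra k (Lf i)] [∀ i, IsScalarTower k (kf i) (Lf i)]
    (Sf : Finset (HeightOneSpectrum (𝓞 k))) :
    ∃ v₀, v₀ ∉ Sf ∧ ∀ i (W : HeightOneSpectrum (𝓞 (kf i))), W.asIdeal.LiesOver v₀.asIdeal →
      Nonempty (Lf i →ₐ[kf i] W.adicCompletion (kf i)) := by
  classical
  let Ω := AlgebraicClosure k
  have hfin : ∀ i, FiniteDimensional k (Lf i) := fun i => Module.Finite.trans (kf i) (Lf i)
  let j : ∀ i, Lf i →ₐ[k] Ω := fun i => IsAlgClosed.lift
  let E : IntermediateField k Ω := ⨆ i, normalClosure k (Lf i) Ω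
  haveI : FiniteDimensional k E := IntermediateField.finiteDimensional_iSup_of_finite
  haveI : Normal k E := IntermediateField.normal_iSup k Ω _
  haveI : NumberField E := NumberField.of_module_finite k E
  obtain ⟨v₀, hv₀, ⟨φ⟩⟩ := NFSplit.exists_split_place k E Sf
  refine ⟨v₀, hv₀, fun i W hW => ?_⟩
  have hle : (j i).fieldRange ≤ E :=
    ((j i).fieldRange_le_normalClosure).trans (le_iSup (fun i => normalClosure k (Lf i) Ω) i)
  let σ : Lf i →ₐ[k] E := (j i).codRestrict E.toSubalgebra (fun x => hle ⟨x, rfl⟩)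
  exact HWComplMap.nonempty_algHom_of_split v₀ W φ σ hW

end Groth.Agent.Lib.helper12.HWSplitAll
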