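import Mathlib
import Groth.Agent.Lib.Helper24.QuasiFiniteSplit

/-!
# Ideals of `R[s]` and of the Zariski--Laurent ring `R{t}[1/t]` avoiding the special fibre

`R` local (henselian for the second half), `L = S⁻¹ R[t]` with `S` generated by `t` and `1 + t R[t]`,
`ψ : R[s] → L`, `s ↦ t⁻¹`.  Extension and contraction along `ψ` are mutually inverse bijections
between ideals comaximal with the special fibre.
-/

set_option linter.style.haveILetI false
set_option linter.unusedSectionVars false

namespace Groth.Agent.Lib.helper12.HensLaurent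

open Polynomial IsLocalRing TensorProduct

universe u

section Units

variable {R : Type*} [CommRing R] [IsLocalRing R] {D : Type*} [CommRing D] [Algebra R D]

/-- if `tC ^ d` is an `m`-linear combination of lower powers of `tC`, then every polynomial
with constant term `1` evaluates at `tC` to a unit. -/
theorem isUnit_aeval_of_pow_eq (tC : D) (d : ℕ) (a : ℕ → R) (ha : ∀ k, a k ∈ maximalIdeal R)
    (h : tC ^ d = ∑ k ∈ Finset.range d, algebraMap R D (a k) * tC ^ k)
    (f : R[X]) (hf : f.coeff 0 = 1) : IsUnit (aeval tC f) := by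
  classical
  have hint : IsIntegral R tC := by
    refine ⟨X ^ d - ∑ k ∈ Finset.range d, C (a k) * X ^ k, ?_, ?_⟩
    · apply Polynomial.monic_X_pow_sub
      rw [Polynomial.degree_lt_iff_coeff_zero]
      intro j hj
      rw [Polynomial.finsetSum_coeff]
      refine Finset.sum_eq_zero fun k hk => ?_
      rw [Polynomial.coeff_C_mul, Polynomial.coeff_X_pow, if_neg, mul_zero]
      have := Finset.mem_range.mp hk
      omega
    · rw [← Polynomial.aeval_def]
      simp only [map_sub, map_pow, aeval_X, map_sum, map_mul, aeval_C]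
      rw [h, sub_self]
  let R' : Subalgebra R D := Algebra.adjoin R {tC}
  haveI : Algebra.IsIntegral R R' :=
    Algebra.IsIntegral.adjoin (by rintro x (rfl : x = tC); exact hint)
  let t' : R' := ⟨tC, Algebra.subset_adjoin (Set.mem_singleton _)⟩
  have hjac : t' ∈ Ideal.jacobson (⊥ : Ideal R') := by
    rw [Ideal.jacobson, Ideal.mem_sInf]
    rintro M ⟨-, hM⟩
    haveI := hM
    have hcomap : M.comap (algebraMap R R') = maximalIdeal R :=
      IsLocalRing.eq_maximalIdeal (Ideal.isMaximal_comap_of_isIntegral_of_isMaximal M)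
    have hpow : t' ^ d ∈ M := by
      have : t' ^ d = ∑ k ∈ Finset.range d, algebraMap R R' (a k) * t' ^ k := by
        apply Subtype.ext
        simpa using h
      rw [this]
      refine Ideal.sum_mem _ fun k _ => Ideal.mul_mem_right _ _ ?_
      have : a k ∈ M.comap (algebraMap R R') := by rw [hcomap]; exact ha k
      exact this
    exact hM.isPrime.mem_of_pow_mem d hpow
  have hdecomp : aeval t' f = t' * aeval t' f.divX + 1 := by
    conv_lhs => rw [← Polynomial.divX_mul_X_add f]
    rw [map_add, map_mul, aeval_X, aeval_C, hf, map_one]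
    ring
  have hunit : IsUnit (aeval t' f) := by
    rw [hdecomp]
    exact Ideal.mem_jacobson_bot.mp hjac _
  have : aeval tC f = R'.val (aeval t' f) := by
    rw [← Polynomial.aeval_algHom_apply]
    rfl
  rw [this]
  exact hunit.map R'.val

end Units

section Setup

variable {R : Type u} [CommRing R]

/-- the multiplicative set generated by `t` and the polynomials with constant term one. -/
noncomputable abbrev Sm (R : Type u) [CommRing R] : Submonoid R[X] :=
  Submonoid.closure ({f : R[X] | f.coeff 0 = 1} ∪ {X})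

theorem exists_eq_X_pow_mul {σ : R[X]} (hσ : σ ∈ Sm R) :
    ∃ (a : ℕ) (f : R[X]), f.coeff 0 = 1 ∧ σ = X ^ a * f := by
  induction hσ using Submonoid.closure_induction with
  | mem x hx =>
    rcases hx with hx | hx
    · exact ⟨0, x, hx, by simp⟩
    · rw [Set.mem_singleton_iff] at hx
      exact ⟨1, 1, by simp, by simp [hx]⟩
  | one => exact ⟨0, 1, by simp, by simp⟩
  | mul x y _ _ hx hy =>
    obtain ⟨a, f, hf, rfl⟩ := hx
    obtain ⟨b, g, hg, rfl⟩ := hy
    refine ⟨a + b, f * g, by rw [Polynomial.mul_coeff_zero, hf, hg, one_mul], by ring⟩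

variable (L : Type u) [CommRing L] [Algebra R[X] L] [IsLocalization (Sm R) L]
  [Algebra R L] [IsScalarTower R R[X] L]
  (ψ : R[X] →ₐ[R] L) (hψ : ψ X * algebraMap R[X] L X = 1)

include hψ

theorem algebraMap_eq_eval₂ (p : R[X]) :
    algebraMap R[X] L p = eval₂ (algebraMap R L) (algebraMap R[X] L X) p := by
  have : algebraMap R[X] L = eval₂RingHom (algebraMap R L) (algebraMap R[X] L X) := by
    apply Polynomial.ringHom_ext
    · intro r
      rw [coe_eval₂RingHom, eval₂_C, IsScalarTower.algebraMap_apply R R[X] L]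
      rfl
    · simp
  conv_lhs => rw [this]
  rfl

theorem psi_eq_eval₂ (p : R[X]) : ψ p = eval₂ (algebraMap R L) (ψ X) p := by
  rw [← Polynomial.aeval_def]
  conv_lhs => rw [← Polynomial.aeval_X_left_apply p]
  rw [Polynomial.aeval_algHom_apply]

theorem psi_reflect (N : ℕ) (p : R[X]) (hp : p.natDegree ≤ N) :
    ψ (reflect N p) = ψ X ^ N * algebraMap R[X] L p := by
  letI : Invertible (algebraMap R[X] L X) := ⟨ψ X, hψ, by rw [mul_comm]; exact hψ⟩
  have h := Polynomial.eval₂_reflect_mul_pow (algebraMap R L) (algebraMap R[X] L X) N p hp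
  have h1 : ⅟(algebraMap R[X] L X) = ψ X := rfl
  rw [h1, ← psi_eq_eval₂ L ψ hψ, ← algebraMap_eq_eval₂ L ψ hψ] at h
  rw [← h, mul_comm (ψ (reflect N p)), ← mul_assoc, ← mul_pow, hψ, one_pow, one_mul]

theorem algebraMap_reflect (N : ℕ) (g : R[X]) (hg : g.natDegree ≤ N) :
    algebraMap R[X] L (reflect N g) = algebraMap R[X] L X ^ N * ψ g := by
  letI : Invertible (ψ X) := ⟨algebraMap R[X] L X, by rw [mul_comm]; exact hψ, hψ⟩
  have h := Polynomial.eval₂_reflect_mul_pow (algebraMap R L) (ψ X) N g hg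
  have h1 : ⅟(ψ X) = algebraMap R[X] L X := rfl
  rw [h1, ← psi_eq_eval₂ L ψ hψ, ← algebraMap_eq_eval₂ L ψ hψ] at h
  rw [← h, mul_comm (algebraMap R[X] L (reflect N g)), ← mul_assoc, ← mul_pow, mul_comm _ (ψ X), hψ,
    one_pow, one_mul]

theorem isUnit_psi_X : IsUnit (ψ X) := IsUnit.of_mul_eq_one _ hψ

theorem isUnit_algebraMap_X : IsUnit (algebraMap R[X] L X) :=
  IsUnit.of_mul_eq_one _ (by rw [mul_comm]; exact hψ)

/-- monic polynomials in `s` become units. -/
theorem isUnit_psi_of_monic (g : R[X]) (hg : g.Monic) : IsUnit (ψ g) := by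
  have h := algebraMap_reflect L ψ hψ g.natDegree g le_rfl
  have hmem : reflect g.natDegree g ∈ Sm R := by
    apply Submonoid.subset_closure
    left
    show (reflect g.natDegree g).coeff 0 = 1
    rw [Polynomial.coeff_reflect, Polynomial.revAt_le (Nat.zero_le _), Nat.sub_zero]
    exact hg
  have hu : IsUnit (algebraMap R[X] L (reflect g.natDegree g)) :=
    IsLocalization.map_units L ⟨_, hmem⟩
  rw [h] at hu
  exact isUnit_of_mul_isUnit_right hu

end Setup

section Part1

variable {R : Type u} [CommRing R] [IsLocalRing R]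
variable (L : Type u) [CommRing L] [Algebra R[X] L] [IsLocalization (Sm R) L]
  [Algebra R L] [IsScalarTower R R[X] L]
  (ψ : R[X] →ₐ[R] L) (hψ : ψ X * algebraMap R[X] L X = 1)

include hψ

theorem exists_retraction (I : Ideal R[X])
    (hI : I ⊔ (maximalIdeal R).map (algebraMap R R[X]) = ⊤) :
    ∃ (φ : L →+* R[X] ⧸ I) (τ : R[X]), (∀ p, φ (ψ p) = Ideal.Quotient.mk I p) ∧
      φ (algebraMap R[X] L X) = Ideal.Quotient.mk I τ ∧ Ideal.Quotient.mk I (X * τ) = 1 := by
  classical
  obtain ⟨i, hi, g, hg, hig⟩ := Submodule.mem_sup.mp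
    (show (1 : R[X]) ∈ I ⊔ (maximalIdeal R).map (algebraMap R R[X]) by rw [hI]; trivial)
  have hgc : ∀ n, g.coeff n ∈ maximalIdeal R := by
    rw [Polynomial.algebraMap_eq] at hg
    exact Ideal.mem_map_C_iff.mp hg
  have hmkg : Ideal.Quotient.mk I g = 1 := by
    have : g = 1 - i := by rw [← hig]; ring
    rw [this, map_sub, map_one, Ideal.Quotient.eq_zero_iff_mem.mpr hi, sub_zero]
  have hu : IsUnit (1 - g.coeff 0) :=
    IsLocalRing.isUnit_one_sub_self_of_mem_nonunits _ (hgc 0)
  obtain ⟨v, hv⟩ := hu.exists_left_inv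
  let τ : R[X] := C v * g.divX
  have hXτ : Ideal.Quotient.mk I (X * τ) = 1 := by
    have h2 : X * τ = C v * (g - 1) + 1 := by
      have hC : C v * (1 - C (g.coeff 0)) = (1 : R[X]) := by
        rw [← C_1, ← C_sub, ← C_mul, hv]
      have := Polynomial.divX_mul_X_add g
      simp only [τ]
      linear_combination (C v) * this + hC
    rw [h2, map_add, map_mul, map_sub, hmkg, map_one, sub_self, mul_zero, zero_add]
  set tD : R[X] ⧸ I := Ideal.Quotient.mk I τ with htD
  set sD : R[X] ⧸ I := Ideal.Quotient.mk I X with hsD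
  have hst : sD * tD = 1 := by rw [hsD, htD, ← map_mul]; exact hXτ
  -- the relation
  set d := g.natDegree with hd
  set G := reflect d g with hG
  have hGd : G.natDegree ≤ d := Polynomial.natDegree_reflect_le.trans (by simp [hd])
  have hGc : ∀ k, G.coeff k ∈ maximalIdeal R := by
    intro k
    rw [hG, Polynomial.coeff_reflect]
    exact hgc _
  have hGtop : G.coeff d = g.coeff 0 := by
    rw [hG, Polynomial.coeff_reflect, Polynomial.revAt_le le_rfl, Nat.sub_self]
  have hrel0 : aeval tD G = tD ^ d := by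
    letI : Invertible sD := ⟨tD, by rw [mul_comm]; exact hst, hst⟩
    have h := Polynomial.eval₂_reflect_mul_pow (algebraMap R (R[X] ⧸ I)) sD d g le_rfl
    have h1 : ⅟sD = tD := rfl
    have h2 : eval₂ (algebraMap R (R[X] ⧸ I)) sD g = 1 := by
      rw [← Polynomial.aeval_def]
      have := Polynomial.aeval_algHom_apply (Ideal.Quotient.mkₐ R I) X g
      rw [Polynomial.aeval_X_left_apply] at this
      rw [← hmkg]
      exact this
    rw [h1, h2, ← Polynomial.aeval_def, ← hG] at h
    calc aeval tD G = aeval tD G * (sD ^ d * tD ^ d) := by rw [← mul_pow, hst, one_pow, mul_one]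
      _ = tD ^ d := by rw [← mul_assoc, h, one_mul]
  have hrel1 : tD ^ d = (∑ k ∈ Finset.range d, algebraMap R (R[X] ⧸ I) (G.coeff k) * tD ^ k)
      + algebraMap R (R[X] ⧸ I) (g.coeff 0) * tD ^ d := by
    conv_lhs => rw [← hrel0]
    rw [Polynomial.aeval_eq_sum_range' (Nat.lt_succ_of_le hGd), Finset.sum_range_succ, hGtop]
    simp only [Algebra.smul_def]
  have hrel : tD ^ d = ∑ k ∈ Finset.range d, algebraMap R (R[X] ⧸ I) (v * G.coeff k) * tD ^ k := by
    have hv' : algebraMap R (R[X] ⧸ I) v * (1 - algebraMap R (R[X] ⧸ I) (g.coeff 0)) = 1 := by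
      rw [← map_one (algebraMap R (R[X] ⧸ I)), ← map_sub, ← map_mul, hv]
    have : ∑ k ∈ Finset.range d, algebraMap R (R[X] ⧸ I) (v * G.coeff k) * tD ^ k
        = algebraMap R (R[X] ⧸ I) v *
          ∑ k ∈ Finset.range d, algebraMap R (R[X] ⧸ I) (G.coeff k) * tD ^ k := by
      rw [Finset.mul_sum]
      refine Finset.sum_congr rfl fun k _ => ?_
      rw [map_mul, mul_assoc]
    rw [this]
    linear_combination (algebraMap R (R[X] ⧸ I) v) * hrel1 - (tD ^ d) * hv'
  have hunit : ∀ σ : Sm R, IsUnit ((aeval tD : R[X] →ₐ[R] R[X] ⧸ I).toRingHom σ) := by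
    rintro ⟨σ, hσ⟩
    obtain ⟨a, f, hf, rfl⟩ := exists_eq_X_pow_mul hσ
    show IsUnit (aeval tD (X ^ a * f))
    rw [map_mul, map_pow, aeval_X]
    refine IsUnit.mul (IsUnit.pow _ (IsUnit.of_mul_eq_one _ (by rw [mul_comm]; exact hst))) ?_
    exact isUnit_aeval_of_pow_eq tD d (fun k => v * G.coeff k)
      (fun k => Ideal.mul_mem_left _ _ (hGc k)) hrel f hf
  let φ : L →+* R[X] ⧸ I := IsLocalization.lift (M := Sm R) hunit
  have hφalg : ∀ p, φ (algebraMap R[X] L p) = aeval tD p := fun p => IsLocalization.lift_eq hunit p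
  have hφX : φ (algebraMap R[X] L X) = tD := by rw [hφalg, aeval_X]
  have hφψX : φ (ψ X) = sD := by
    have h1 : φ (ψ X) * tD = 1 := by rw [← hφX, ← map_mul, hψ, map_one]
    calc φ (ψ X) = φ (ψ X) * (tD * sD) := by rw [mul_comm tD, hst, mul_one]
      _ = sD := by rw [← mul_assoc, h1, one_mul]
  have hφψ : φ.comp ψ.toRingHom = Ideal.Quotient.mk I := by
    apply Polynomial.ringHom_ext
    · intro r
      show φ (ψ (C r)) = _
      have hCr : (C r : R[X]) = algebraMap R R[X] r := rfl
      rw [hCr, ψ.commutes, IsScalarTower.algebraMap_apply R R[X] L, hφalg, ← hCr, aeval_C]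
      rfl
    · exact hφψX
  exact ⟨φ, τ, fun p => RingHom.congr_fun hφψ p, hφX, hXτ⟩

theorem part1 (I : Ideal R[X]) (hI : I ⊔ (maximalIdeal R).map (algebraMap R R[X]) = ⊤) :
    (I.map ψ.toRingHom).comap ψ.toRingHom = I ∧
    I.map ψ.toRingHom ⊔ (maximalIdeal R).map (algebraMap R L) = ⊤ ∧
    Function.Bijective
      (Ideal.quotientMap (I.map ψ.toRingHom) ψ.toRingHom Ideal.le_comap_map) := by
  obtain ⟨φ, τ, hφψ, hφX, hXτ⟩ := exists_retraction L ψ hψ I hI
  have hker : I.map ψ.toRingHom ≤ RingHom.ker φ := by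
    rw [Ideal.map_le_iff_le_comap]
    intro x hx
    rw [Ideal.mem_comap, RingHom.mem_ker]
    show φ (ψ x) = 0
    rw [hφψ, Ideal.Quotient.eq_zero_iff_mem]; exact hx
  have h1a : (I.map ψ.toRingHom).comap ψ.toRingHom = I := by
    refine le_antisymm ?_ Ideal.le_comap_map
    intro x hx
    have h2 : φ (ψ x) = 0 := hker hx
    rw [hφψ, Ideal.Quotient.eq_zero_iff_mem] at h2
    exact h2
  refine ⟨h1a, ?_, ?_, ?_⟩
  · rw [Ideal.eq_top_iff_one]
    obtain ⟨i, hi, g, hg, hig⟩ := Submodule.mem_sup.mp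
      (show (1 : R[X]) ∈ I ⊔ (maximalIdeal R).map (algebraMap R R[X]) by rw [hI]; trivial)
    refine Submodule.mem_sup.mpr ⟨ψ i, Ideal.mem_map_of_mem _ hi, ψ g, ?_,
      by rw [← map_add, hig, map_one]⟩
    have : (maximalIdeal R).map (algebraMap R L)
        = ((maximalIdeal R).map (algebraMap R R[X])).map ψ.toRingHom := by
      rw [Ideal.map_map]
      congr 1
      ext r; exact (ψ.commutes r).symm
    rw [this]
    exact Ideal.mem_map_of_mem _ hg
  · exact Ideal.quotientMap_injective' (le_of_eq h1a)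
  · set q := Ideal.quotientMap (I.map ψ.toRingHom) ψ.toRingHom Ideal.le_comap_map with hq
    let φbar : L ⧸ I.map ψ.toRingHom →+* R[X] ⧸ I :=
      Ideal.Quotient.lift _ φ (fun a ha => hker ha)
    have hqmk : ∀ p, q (Ideal.Quotient.mk I p) = Ideal.Quotient.mk _ (ψ p) := fun p =>
      Ideal.quotientMap_mk
    have hcomp : (q.comp φbar).comp (Ideal.Quotient.mk _)
        = Ideal.Quotient.mk (I.map ψ.toRingHom) := by
      apply IsLocalization.ringHom_ext (Sm R)
      apply Polynomial.ringHom_ext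
      · intro r
        show q (φbar (Ideal.Quotient.mk _ (algebraMap R[X] L (C r))))
          = Ideal.Quotient.mk _ (algebraMap R[X] L (C r))
        have hCr : algebraMap R[X] L (C r) = ψ (C r) := by
          have hCr : (C r : R[X]) = algebraMap R R[X] r := rfl
          rw [hCr, ψ.commutes, ← IsScalarTower.algebraMap_apply R R[X] L]
        rw [hCr, Ideal.Quotient.lift_mk, hφψ, hqmk]
      · show q (φbar (Ideal.Quotient.mk _ (algebraMap R[X] L X)))
          = Ideal.Quotient.mk _ (algebraMap R[X] L X)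
        rw [Ideal.Quotient.lift_mk, hφX, hqmk]
        have e1 : Ideal.Quotient.mk (I.map ψ.toRingHom) (ψ X)
            * Ideal.Quotient.mk (I.map ψ.toRingHom) (algebraMap R[X] L X) = 1 := by
          rw [← map_mul, hψ, map_one]
        have e2 : Ideal.Quotient.mk (I.map ψ.toRingHom) (ψ X)
            * Ideal.Quotient.mk (I.map ψ.toRingHom) (ψ τ) = 1 := by
          rw [← map_mul, ← map_mul, ← hqmk, hXτ, map_one]
        calc Ideal.Quotient.mk (I.map ψ.toRingHom) (ψ τ)
            = (Ideal.Quotient.mk (I.map ψ.toRingHom) (ψ X)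
              * Ideal.Quotient.mk (I.map ψ.toRingHom) (ψ τ))
              * Ideal.Quotient.mk (I.map ψ.toRingHom) (algebraMap R[X] L X) := by
                rw [mul_comm (Ideal.Quotient.mk (I.map ψ.toRingHom) (ψ X)), mul_assoc, e1, mul_one]
          _ = Ideal.Quotient.mk (I.map ψ.toRingHom) (algebraMap R[X] L X) := by
                rw [e2, one_mul]
    intro y
    obtain ⟨l, rfl⟩ := Ideal.Quotient.mk_surjective y
    exact ⟨φbar (Ideal.Quotient.mk _ l), RingHom.congr_fun hcomp l⟩

end Part1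

section QF

theorem finite_tensor_quotient {R : Type*} [CommRing R] (κ : Type*) [Field κ] [Algebra R κ]
    (I : Ideal R[X]) (Q : R[X]) (hQ : Q ∈ I) (n : ℕ) (hn : IsUnit (Q.coeff n)) :
    Module.Finite κ (κ ⊗[R] (R[X] ⧸ I)) := by
  classical
  set x : κ ⊗[R] (R[X] ⧸ I) := 1 ⊗ₜ Ideal.Quotient.mk I X with hxdef
  have hxinc : x = Algebra.TensorProduct.includeRight (R := R) (A := κ)
      (Ideal.Quotient.mkₐ R I X) := rfl
  have haeval : ∀ p : R[X], aeval x p = (1 : κ) ⊗ₜ[R] Ideal.Quotient.mk I p := by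
    intro p
    rw [hxinc, Polynomial.aeval_algHom_apply, Polynomial.aeval_algHom_apply,
      aeval_X_left_apply]
    rfl
  have hx : IsIntegral κ x := by
    apply IsAlgebraic.isIntegral
    refine ⟨Q.map (algebraMap R κ), ?_, ?_⟩
    · intro h
      have : (Q.map (algebraMap R κ)).coeff n = 0 := by rw [h]; simp
      rw [Polynomial.coeff_map] at this
      exact (hn.map (algebraMap R κ)).ne_zero this
    · rw [Polynomial.aeval_map_algebraMap, haeval, Ideal.Quotient.eq_zero_iff_mem.mpr hQ,
        TensorProduct.tmul_zero]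
  have htop : Algebra.adjoin κ {x} = ⊤ := by
    rw [eq_top_iff]
    rintro y -
    induction y using TensorProduct.induction_on with
    | zero => exact Subalgebra.zero_mem _
    | add a b ha hb => exact Subalgebra.add_mem _ ha hb
    | tmul a c =>
      obtain ⟨p, rfl⟩ := Ideal.Quotient.mk_surjective c
      have : a ⊗ₜ[R] (Ideal.Quotient.mk I p) = a • aeval x (p.map (algebraMap R κ)) := by
        rw [Polynomial.aeval_map_algebraMap, haeval, TensorProduct.smul_tmul', smul_eq_mul, mul_one]
      rw [this]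
      exact Subalgebra.smul_mem _ (Polynomial.aeval_mem_adjoin_singleton _ _) a
  have : Module.Finite κ (Algebra.adjoin κ {x}) := Algebra.finite_adjoin_simple_of_isIntegral hx
  rw [htop] at this
  exact Module.Finite.equiv (Subalgebra.topEquiv (R := κ) (A := κ ⊗[R] (R[X] ⧸ I))).toLinearEquiv

theorem quasiFinite_quotient_of_isUnit_coeff {R : Type*} [CommRing R] (I : Ideal R[X]) (Q : R[X])
    (hQ : Q ∈ I) (n : ℕ) (hn : IsUnit (Q.coeff n)) : Algebra.QuasiFinite R (R[X] ⧸ I) :=
  ⟨fun P _ => finite_tensor_quotient P.ResidueField I Q hQ n hn⟩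

end QF

theorem sup_eq_top_of_map_mk_eq_top {S : Type*} [CommRing S] (K A : Ideal S)
    (h : A.map (Ideal.Quotient.mk K) = ⊤) : A ⊔ K = ⊤ := by
  have := Ideal.comap_map_of_surjective (Ideal.Quotient.mk K) Ideal.Quotient.mk_surjective A
  rw [h, Ideal.comap_top, ← RingHom.ker_eq_comap_bot, Ideal.mk_ker] at this
  exact this.symm

section Part2a

variable {R : Type u} [CommRing R]
variable (L : Type u) [CommRing L] [Algebra R[X] L] [IsLocalization (Sm R) L]
  [Algebra R L] [IsScalarTower R R[X] L]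
  (ψ : R[X] →ₐ[R] L) (hψ : ψ X * algebraMap R[X] L X = 1)

include hψ

theorem map_comap_eq (J : Ideal L) : (J.comap ψ.toRingHom).map ψ.toRingHom = J := by
  refine le_antisymm Ideal.map_comap_le ?_
  intro j hj
  obtain ⟨⟨n, σ⟩, hnσ⟩ := IsLocalization.surj (Sm R) j
  set N := max σ.1.natDegree n.natDegree with hN
  have h1 := psi_reflect L ψ hψ N σ.1 (le_max_left _ _)
  have h2 := psi_reflect L ψ hψ N n (le_max_right _ _)
  have hu : IsUnit (ψ (reflect N σ.1)) := by
    rw [h1]; exact ((isUnit_psi_X L ψ hψ).pow N).mul (IsLocalization.map_units L σ)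
  have heq : j * ψ (reflect N σ.1) = ψ (reflect N n) := by
    rw [h1, h2, ← hnσ]; ring
  have hmem : reflect N n ∈ J.comap ψ.toRingHom := by
    rw [Ideal.mem_comap]
    show ψ (reflect N n) ∈ J
    rw [← heq]; exact Ideal.mul_mem_right _ _ hj
  obtain ⟨w, hw⟩ := hu.exists_right_inv
  have : j = ψ (reflect N n) * w := by rw [← heq, mul_assoc, hw, mul_one]
  rw [this]
  exact Ideal.mul_mem_right _ _ (Ideal.mem_map_of_mem _ hmem)

end Part2a

section Part2b

variable {R : Type u} [CommRing R] [HenselianLocalRing R]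
variable (L : Type u) [CommRing L] [Algebra R[X] L] [IsLocalization (Sm R) L]
  [Algebra R L] [IsScalarTower R R[X] L]
  (ψ : R[X] →ₐ[R] L) (hψ : ψ X * algebraMap R[X] L X = 1)

include hψ

theorem comap_sup_eq_top (J : Ideal L) (hJ : J ⊔ (maximalIdeal R).map (algebraMap R L) = ⊤) :
    J.comap ψ.toRingHom ⊔ (maximalIdeal R).map (algebraMap R R[X]) = ⊤ := by
  classical
  -- Step A
  obtain ⟨j, hj, μ, hμ, hjμ⟩ := Submodule.mem_sup.mp
    (show (1 : L) ∈ J ⊔ (maximalIdeal R).map (algebraMap R L) by rw [hJ]; trivial)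
  have hmL : (maximalIdeal R).map (algebraMap R L)
      = ((maximalIdeal R).map (algebraMap R R[X])).map (algebraMap R[X] L) := by
    rw [Ideal.map_map, ← IsScalarTower.algebraMap_eq]
  rw [hmL, IsLocalization.mem_map_algebraMap_iff (Sm R)] at hμ
  obtain ⟨⟨⟨γ, hγ⟩, ⟨σ, hσ⟩⟩, hμσ⟩ := hμ
  have hγc : ∀ n, γ.coeff n ∈ maximalIdeal R := by
    rw [Polynomial.algebraMap_eq] at hγ
    exact Ideal.mem_map_C_iff.mp hγ
  obtain ⟨a, f, hf, rfl⟩ := exists_eq_X_pow_mul hσ
  set q : R[X] := X ^ a * f - γ with hq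
  have hqJ : algebraMap R[X] L q ∈ J := by
    have : algebraMap R[X] L q = j * algebraMap R[X] L (X ^ a * f) := by
      have hμσ' : μ * algebraMap R[X] L (X ^ a * f) = algebraMap R[X] L γ := hμσ
      rw [hq, map_sub, ← hμσ']
      have : j = 1 - μ := by rw [← hjμ]; ring
      rw [this]; ring
    rw [this]; exact Ideal.mul_mem_right _ _ hj
  have hqa : IsUnit (q.coeff a) := by
    have : q.coeff a = 1 - γ.coeff a := by
      rw [hq, Polynomial.coeff_sub]
      congr 1
      have := Polynomial.coeff_X_pow_mul f a 0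
      rw [zero_add] at this
      rw [this, hf]
    rw [this]
    exact IsLocalRing.isUnit_one_sub_self_of_mem_nonunits _ (hγc a)
  -- Step B
  set N := q.natDegree with hN
  set Q := reflect N q with hQ
  set I' := J.comap ψ.toRingHom with hI'
  have hQmem : Q ∈ I' := by
    rw [hI', Ideal.mem_comap]
    show ψ Q ∈ J
    rw [hQ, psi_reflect L ψ hψ N q le_rfl]
    exact Ideal.mul_mem_left _ _ hqJ
  have hQc : IsUnit (Q.coeff (revAt N a)) := by
    rw [hQ, Polynomial.coeff_reflect, Polynomial.revAt_invol]; exact hqa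
  -- Step C
  haveI : Algebra.QuasiFinite R (R[X] ⧸ I') :=
    quasiFinite_quotient_of_isUnit_coeff I' Q hQmem _ hQc
  -- Step D
  obtain ⟨e, he, hfin, htop⟩ :=
    Groth.Agent.Lib.Helper24.QuasiFiniteSplit.exists_idempotent_split_quasiFinite R (R[X] ⧸ I')
  -- Step E
  have he0 : e = 0 := by
    let sF : (R[X] ⧸ I') ⧸ Ideal.span ({1 - e} : Set (R[X] ⧸ I')) :=
      Ideal.Quotient.mk _ (Ideal.Quotient.mk I' X)
    obtain ⟨g, hgm, hg0⟩ : IsIntegral R sF := IsIntegral.of_finite R sF
    have h1 : eval₂ (algebraMap R _) sF g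
        = Ideal.Quotient.mk (Ideal.span ({1 - e} : Set (R[X] ⧸ I'))) (Ideal.Quotient.mk I' g) := by
      rw [← Polynomial.aeval_def]
      have := Polynomial.aeval_algHom_apply
        ((Ideal.Quotient.mkₐ R (Ideal.span ({1 - e} : Set (R[X] ⧸ I')))).comp
          (Ideal.Quotient.mkₐ R I')) X g
      rw [Polynomial.aeval_X_left_apply] at this
      exact this
    rw [h1, Ideal.Quotient.eq_zero_iff_mem, Ideal.mem_span_singleton'] at hg0
    obtain ⟨c, hc⟩ := hg0
    have h2 : Ideal.Quotient.mk I' g * e = 0 := by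
      rw [← hc]
      have := he.eq
      linear_combination (-c) * this
    obtain ⟨e', rfl⟩ := Ideal.Quotient.mk_surjective e
    rw [← map_mul, Ideal.Quotient.eq_zero_iff_mem, hI', Ideal.mem_comap] at h2
    have h3 : ψ g * ψ e' ∈ J := by
      have : ψ.toRingHom (g * e') = ψ g * ψ e' := map_mul ψ g e'
      rw [← this]; exact h2
    rw [Ideal.unit_mul_mem_iff_mem _ (isUnit_psi_of_monic L ψ hψ g hgm)] at h3
    rw [Ideal.Quotient.eq_zero_iff_mem, hI', Ideal.mem_comap]
    exact h3
  -- Step F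
  rw [he0] at htop
  have h4 : Ideal.map (algebraMap R (R[X] ⧸ I')) (maximalIdeal R) = ⊤ := by
    have h5 : Ideal.map (algebraMap R ((R[X] ⧸ I') ⧸ Ideal.span ({0} : Set (R[X] ⧸ I'))))
        (maximalIdeal R) = (Ideal.map (algebraMap R (R[X] ⧸ I')) (maximalIdeal R)).map
          (Ideal.Quotient.mk (Ideal.span ({0} : Set (R[X] ⧸ I')))) :=
      (Ideal.map_map (algebraMap R (R[X] ⧸ I'))
        (Ideal.Quotient.mk (Ideal.span ({0} : Set (R[X] ⧸ I'))))).symm
    rw [h5] at htop
    have := sup_eq_top_of_map_mk_eq_top _ _ htop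
    rwa [Ideal.span_singleton_zero, sup_bot_eq] at this
  have h6 : Ideal.map (algebraMap R (R[X] ⧸ I')) (maximalIdeal R)
      = (Ideal.map (algebraMap R R[X]) (maximalIdeal R)).map (Ideal.Quotient.mk I') :=
    (Ideal.map_map (algebraMap R R[X]) (Ideal.Quotient.mk I')).symm
  rw [h6] at h4
  have := sup_eq_top_of_map_mk_eq_top _ _ h4
  rw [sup_comm]; exact this

end Part2b

end Groth.Agent.Lib.helper12.HensLaurent
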