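import Mathlib
import Groth.Agent.Lib.Helper26.PairHensFinite
import Groth.Agent.Lib.Helper12.HenselPair

/-!
# Henselian Laurent rings: tools

* `henselianRing_sup`: transitivity of henselian pairs (Stacks 0DYD).
* `exists_stage`: elements of `𝔞 B` (`B` a henselization of `(A, I)`) come from `𝔞 E` for an étale
  neighbourhood `E`.
* `finite_quotient` (Weierstrass finiteness): `R` henselian local, `B` a henselization of
  `(R[t], t)`, `K ∋ t ^ n - μ` with `μ ∈ m B`; then `B ⧸ K` is finite over `R` and a quotient of `R[t]`.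
* general lemmas on `ψ : R[s] → L`, `s ↦ t⁻¹`.
* `part1`, `map_comap_eq`, `comap_sup_eq_top`: extension/contraction along `ψ : R[s] → B[1/t]` are
  mutually inverse on ideals comaximal with the special fibre.
-/

set_option linter.style.haveILetI false
set_option linter.unusedSectionVars false

namespace Groth.Agent.Lib.helper12.HensLaurent2

open Polynomial IsLocalRing
open Groth.Agent.Lib.helper26.PairHens Groth.Agent.Lib.helper26.PairNbhd
open Groth.Agent.Lib.helper26.HenselPair

universe u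

section General

variable {A : Type*} [CommRing A]

theorem isUnit_mk_iff {I : Ideal A} {x : A} :
    IsUnit (Ideal.Quotient.mk I x) ↔ ∃ y, x * y - 1 ∈ I := by
  constructor
  · intro h
    obtain ⟨y, hy⟩ := h.exists_right_inv
    obtain ⟨y, rfl⟩ := Ideal.Quotient.mk_surjective y
    refine ⟨y, ?_⟩
    rw [← Ideal.Quotient.eq_zero_iff_mem, map_sub, map_mul, hy, map_one, sub_self]
  · rintro ⟨y, hy⟩
    refine IsUnit.of_mul_eq_one (Ideal.Quotient.mk I y) ?_
    rw [← map_mul, ← sub_eq_zero, ← map_one (Ideal.Quotient.mk I), ← map_sub,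
      Ideal.Quotient.eq_zero_iff_mem]
    exact hy

theorem mem_sup_of_mk_mem_map {I J : Ideal A} {x : A}
    (hx : Ideal.Quotient.mk I x ∈ J.map (Ideal.Quotient.mk I)) : x ∈ I ⊔ J := by
  obtain ⟨j, hj, hjx⟩ := (Ideal.mem_map_iff_of_surjective _ Ideal.Quotient.mk_surjective).mp hx
  have : x - j ∈ I := by
    rw [← Ideal.Quotient.eq_zero_iff_mem, map_sub, hjx, sub_self]
  have h2 : x = (x - j) + j := by ring
  rw [h2]
  exact Submodule.add_mem_sup this hj

theorem mk_mem_map_of_mem_sup {I J : Ideal A} {x : A} (hx : x ∈ I ⊔ J) :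
    Ideal.Quotient.mk I x ∈ J.map (Ideal.Quotient.mk I) := by
  obtain ⟨i, hi, j, hj, rfl⟩ := Submodule.mem_sup.mp hx
  rw [map_add, Ideal.Quotient.eq_zero_iff_mem.mpr hi, zero_add]
  exact Ideal.mem_map_of_mem _ hj

/-- transitivity of henselian pairs (Stacks 0DYD). -/
theorem henselianRing_sup {I J : Ideal A} (h1 : HenselianRing A I)
    (h2 : HenselianRing (A ⧸ I) (J.map (Ideal.Quotient.mk I))) : HenselianRing A (I ⊔ J) := by
  have hjac : I ⊔ J ≤ Ideal.jacobson ⊥ := by
    intro x hx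
    rw [Ideal.mem_jacobson_bot]
    intro y
    have hx' := h2.jac (mk_mem_map_of_mem_sup hx)
    rw [Ideal.mem_jacobson_bot] at hx'
    have hu := hx' (Ideal.Quotient.mk I y)
    rw [← map_mul, ← map_one (Ideal.Quotient.mk I), ← map_add, isUnit_mk_iff] at hu
    obtain ⟨z, hz⟩ := hu
    have hz' := h1.jac hz
    rw [Ideal.mem_jacobson_bot] at hz'
    have hu2 := hz' 1
    have : ((x * y + 1) * z - 1) * 1 + 1 = (x * y + 1) * z := by ring
    rw [this] at hu2
    exact isUnit_of_mul_isUnit_left hu2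
  refine ⟨hjac, ?_⟩
  intro f hf a₀ h₀ hu
  rw [isUnit_mk_iff] at hu
  obtain ⟨w, hw⟩ := hu
  -- reduce mod I
  have hfbar : (f.map (Ideal.Quotient.mk I)).Monic := hf.map _
  have h₀bar : (f.map (Ideal.Quotient.mk I)).eval (Ideal.Quotient.mk I a₀) ∈
      J.map (Ideal.Quotient.mk I) := by
    rw [Polynomial.eval_map_apply]
    exact mk_mem_map_of_mem_sup h₀
  have hubar : IsUnit (Ideal.Quotient.mk (J.map (Ideal.Quotient.mk I))
      ((f.map (Ideal.Quotient.mk I)).derivative.eval (Ideal.Quotient.mk I a₀))) := by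
    rw [isUnit_mk_iff]
    refine ⟨Ideal.Quotient.mk I w, ?_⟩
    rw [Polynomial.derivative_map, Polynomial.eval_map_apply, ← map_mul,
      ← map_one (Ideal.Quotient.mk I), ← map_sub]
    exact mk_mem_map_of_mem_sup hw
  obtain ⟨bbar, hbroot, hbsub⟩ := h2.is_henselian _ hfbar _ h₀bar hubar
  obtain ⟨b, rfl⟩ := Ideal.Quotient.mk_surjective bbar
  have hfb : f.eval b ∈ I := by
    rw [← Ideal.Quotient.eq_zero_iff_mem, ← Polynomial.eval_map_apply]
    exact hbroot
  have hba : b - a₀ ∈ I ⊔ J := by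
    apply mem_sup_of_mk_mem_map
    rw [map_sub]; exact hbsub
  have hub : IsUnit (Ideal.Quotient.mk I (f.derivative.eval b)) := by
    -- f'(b) w - 1 ∈ I ⊔ J
    have h3 : f.derivative.eval b * w - 1 ∈ I ⊔ J := by
      obtain ⟨c, hc⟩ := Polynomial.sub_dvd_eval_sub b a₀ f.derivative
      have : f.derivative.eval b * w - 1
          = (f.derivative.eval a₀ * w - 1) + (b - a₀) * (c * w) := by
        linear_combination w * hc
      rw [this]
      exact add_mem hw (Ideal.mul_mem_right _ _ hba)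
    have h4 := h2.jac (mk_mem_map_of_mem_sup h3)
    rw [Ideal.mem_jacobson_bot] at h4
    have h5 := h4 1
    rw [mul_one, map_sub, map_one, sub_add_cancel, map_mul] at h5
    exact isUnit_of_mul_isUnit_left h5
  obtain ⟨a, haroot, hab⟩ := h1.is_henselian f hf b hfb hub
  refine ⟨a, haroot, ?_⟩
  have : a - a₀ = (a - b) + (b - a₀) := by ring
  rw [this]
  exact add_mem (Ideal.mem_sup_left hab) hba

end General

section Stage

variable {A : Type u} [CommRing A] {I : Ideal A}

theorem algHom_mem_map' (𝔞 : Ideal A) {B B' : Type*} [CommRing B] [CommRing B'] [Algebra A B]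
    [Algebra A B'] (f : B →ₐ[A] B') {x : B} (hx : x ∈ 𝔞.map (algebraMap A B)) :
    f x ∈ 𝔞.map (algebraMap A B') := by
  have h1 : (𝔞.map (algebraMap A B)).map f.toRingHom = 𝔞.map (algebraMap A B') := by
    rw [Ideal.map_map]
    congr 1
    exact f.comp_algebraMap
  rw [← h1]
  exact Ideal.mem_map_of_mem _ hx

theorem exists_stage_H (𝔞 : Ideal A) (z : H A I) (hz : z ∈ 𝔞.map (algebraMap A (H A I))) :
    ∃ (i : Idx A I) (x : i.C), x ∈ 𝔞.map (algebraMap A i.C) ∧ ι i x = z := by
  unfold Ideal.map at hz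
  induction hz using Submodule.span_induction with
  | mem z hz =>
    obtain ⟨a, ha, rfl⟩ := hz
    refine ⟨i₀, algebraMap A _ a, Ideal.mem_map_of_mem _ ha, ?_⟩
    exact (ι i₀).commutes a
  | zero => exact ⟨i₀, 0, zero_mem _, map_zero _⟩
  | add z z' _ _ h h' =>
    obtain ⟨i, x, hx, rfl⟩ := h
    obtain ⟨j, x', hx', rfl⟩ := h'
    obtain ⟨k, ⟨f⟩, ⟨g⟩⟩ := exists_common i j
    refine ⟨k, f x + g x', add_mem (algHom_mem_map' 𝔞 f hx) (algHom_mem_map' 𝔞 g hx'), ?_⟩
    rw [map_add, ι_comp, ι_comp]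
  | smul y z _ h =>
    obtain ⟨i, x, hx, rfl⟩ := h
    obtain ⟨j, y', rfl⟩ := exists_ι y
    obtain ⟨k, ⟨f⟩, ⟨g⟩⟩ := exists_common i j
    refine ⟨k, g y' * f x, Ideal.mul_mem_left _ _ (algHom_mem_map' 𝔞 f hx), ?_⟩
    rw [map_mul, ι_comp, ι_comp, smul_eq_mul]

/-- an element of `𝔞 B` (B a henselization of `(A, I)`) comes from `𝔞 E` for an étale neighbourhood
`E`. -/
theorem exists_stage {B : Type u} [CommRing B] [Algebra A B]
    (hB : Hens2.IsPairHenselization A I B) (𝔞 : Ideal A) (z : B)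
    (hz : z ∈ 𝔞.map (algebraMap A B)) :
    ∃ (k : Idx A I) (φ : k.C →ₐ[A] B) (x : k.C), x ∈ 𝔞.map (algebraMap A k.C) ∧ φ x = z := by
  obtain ⟨θ⟩ := nonempty_algEquiv_of_isPairHenselization (isPairHenselization_H (A := A) (I := I)) hB
  have hz' : θ.symm z ∈ 𝔞.map (algebraMap A (H A I)) := algHom_mem_map' 𝔞 θ.symm.toAlgHom hz
  obtain ⟨k, x, hx, hxz⟩ := exists_stage_H 𝔞 _ hz'
  refine ⟨k, θ.toAlgHom.comp (ι k), x, hx, ?_⟩
  show θ (ι k x) = z
  rw [hxz, θ.apply_symm_apply]

/-- a neighbourhood of `V(t)` is `A + t^n A'` for all `n`. -/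
theorem IsNbhd.exists_eq_add_pow_mul {t : A} {A' : Type*} [CommRing A'] [Algebra A A']
    (h : IsNbhd (Ideal.span {t}) A') (n : ℕ) (x : A') :
    ∃ (a : A) (y : A'), x = algebraMap A A' a + algebraMap A A' t ^ n * y := by
  induction n generalizing x with
  | zero => exact ⟨0, x, by simp⟩
  | succ n ih =>
    obtain ⟨a, y, rfl⟩ := ih x
    obtain ⟨a', ha'⟩ := h.exists_sub_mem y
    rw [Ideal.map_span, Set.image_singleton, Ideal.mem_span_singleton'] at ha'
    obtain ⟨c, hc⟩ := ha'
    refine ⟨a + t ^ n * a', -c, ?_⟩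
    rw [map_add, map_mul, map_pow, pow_succ]
    linear_combination (algebraMap A A' t ^ n) * hc

end Stage

section Finiteness

variable {R : Type u} [CommRing R] [HenselianLocalRing R]
  {B : Type u} [CommRing B] [Algebra R B] [Algebra R[X] B] [IsScalarTower R R[X] B]

/-- step 1-3: a quotient of the henselization of `(R[t], t)` is henselian along `m`. -/
theorem henselianRing_quotient_maximalIdeal
    (hB : Hens2.IsPairHenselization R[X] (Ideal.span {(X : R[X])}) B) (K : Ideal B) :
    HenselianRing (B ⧸ K) ((maximalIdeal R).map (algebraMap R (B ⧸ K))) := by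
  have hR : HenselianRing R (maximalIdeal R) := inferInstance
  set IC : Ideal (B ⧸ K) := ((Ideal.span {(X : R[X])}).map (algebraMap R[X] B)).map
    (algebraMap B (B ⧸ K)) with hIC
  have h1 : HenselianRing (B ⧸ K) IC := henselianRing_map_of_isIntegral hB.1 (B ⧸ K)
  have hnb := isNbhd_of_isPairHenselization _ hB
  have hsurj : Function.Surjective (algebraMap R ((B ⧸ K) ⧸ IC)) := by
    intro c
    obtain ⟨c, rfl⟩ := Ideal.Quotient.mk_surjective c
    obtain ⟨b, rfl⟩ := Ideal.Quotient.mk_surjective c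
    obtain ⟨p, y, rfl⟩ := IsNbhd.exists_eq_add_pow_mul hnb 1 b
    refine ⟨p.coeff 0, ?_⟩
    have hp : p = C (p.coeff 0) + X * p.divX := by
      have := Polynomial.divX_mul_X_add p
      conv_lhs => rw [← this]
      ring
    rw [IsScalarTower.algebraMap_apply R (B ⧸ K) ((B ⧸ K) ⧸ IC),
      Ideal.Quotient.algebraMap_eq IC, Ideal.Quotient.eq, IsScalarTower.algebraMap_apply R B (B ⧸ K),
      Ideal.Quotient.algebraMap_eq K, ← map_sub]
    have hmem : algebraMap R B (p.coeff 0) - (algebraMap R[X] B p + algebraMap R[X] B X ^ 1 * y)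
        ∈ (Ideal.span {(X : R[X])}).map (algebraMap R[X] B) := by
      have h2 : algebraMap R B (p.coeff 0) = algebraMap R[X] B (C (p.coeff 0)) := by
        rw [IsScalarTower.algebraMap_apply R R[X] B]; rfl
      have h3 : algebraMap R[X] B p = algebraMap R[X] B (C (p.coeff 0))
          + algebraMap R[X] B X * algebraMap R[X] B p.divX := by
        conv_lhs => rw [hp]
        rw [map_add, map_mul]
      rw [h2, h3, pow_one]
      have h4 : algebraMap R[X] B X ∈ (Ideal.span {(X : R[X])}).map (algebraMap R[X] B) :=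
        Ideal.mem_map_of_mem _ (Ideal.subset_span (Set.mem_singleton _))
      have h5 : algebraMap R[X] B (C (p.coeff 0)) - (algebraMap R[X] B (C (p.coeff 0))
          + algebraMap R[X] B X * algebraMap R[X] B p.divX + algebraMap R[X] B X * y)
          = algebraMap R[X] B X * (-(algebraMap R[X] B p.divX) - y) := by ring
      rw [h5]
      exact Ideal.mul_mem_right _ _ h4
    exact Ideal.mem_map_of_mem (Ideal.Quotient.mk K) hmem
  haveI : Algebra.IsIntegral R ((B ⧸ K) ⧸ IC) :=
    Algebra.IsIntegral.of_surjective (Algebra.ofId R ((B ⧸ K) ⧸ IC)) hsurj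
  have h2 : HenselianRing ((B ⧸ K) ⧸ IC)
      (((maximalIdeal R).map (algebraMap R (B ⧸ K))).map (Ideal.Quotient.mk IC)) := by
    have := henselianRing_map_of_isIntegral hR ((B ⧸ K) ⧸ IC)
    rw [Ideal.map_map]
    exact this
  have h3 := henselianRing_sup h1 h2
  exact Groth.Agent.Lib.helper12.henselianRing_of_le h3 le_sup_right

/-- core of the finiteness: a quotient of `B` receiving an `R[t]`-algebra map from a finite type
`R`-algebra `E₀` with finite closed fibre in which `t` is nilpotent is finite over `R`. -/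
theorem finite_of_algHom
    (hB : Hens2.IsPairHenselization R[X] (Ideal.span {(X : R[X])}) B) (K : Ideal B)
    (E₀ : Type u) [CommRing E₀] [Algebra R E₀] [Algebra.FiniteType R E₀] [Algebra R[X] E₀]
    [IsScalarTower R R[X] E₀]
    (hfin : Module.Finite R (E₀ ⧸ (maximalIdeal R).map (algebraMap R E₀)))
    (ρ₀ : E₀ →ₐ[R[X]] (B ⧸ K)) (n : ℕ)
    (hpow : algebraMap R[X] E₀ X ^ n ∈ (maximalIdeal R).map (algebraMap R E₀)) :
    Module.Finite R (B ⧸ K) := by
  classical
  have hR : HenselianRing R (maximalIdeal R) := inferInstance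
  have hCm := henselianRing_quotient_maximalIdeal hB K
  obtain ⟨C', _, _, _, _, hCet, hCfin, hsurj, hker⟩ :=
    Groth.Agent.Lib.helper26.FiniteEtaleLift.exists_finite_part_of_henselianRing
      (maximalIdeal R) hR E₀ hfin
  have hmap : ((maximalIdeal R).map (algebraMap R E₀)).map (algebraMap E₀ C')
      = (maximalIdeal R).map (algebraMap R C') := by
    rw [Ideal.map_map, ← IsScalarTower.algebraMap_eq]
  have hnb : IsNbhd ((maximalIdeal R).map (algebraMap R E₀)) C' := by
    rw [isNbhd_iff, hmap]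
    constructor
    · intro x
      obtain ⟨r, hr⟩ := hsurj (Ideal.Quotient.mk _ x)
      refine ⟨r, ?_⟩
      rw [RingHom.comp_apply, Ideal.Quotient.eq] at hr
      exact hr
    · intro r hr
      rw [← hker, RingHom.mem_ker, RingHom.comp_apply, Ideal.Quotient.eq_zero_iff_mem]
      exact hr
  -- `B ⧸ K` as an `E₀`-algebra
  letI algE₀ : Algebra E₀ (B ⧸ K) := ρ₀.toRingHom.toAlgebra
  have halg : ∀ e : E₀, algebraMap E₀ (B ⧸ K) e = ρ₀ e := fun e => rfl
  have htower : ∀ r : R, algebraMap E₀ (B ⧸ K) (algebraMap R E₀ r) = algebraMap R (B ⧸ K) r := by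
    intro r
    rw [halg, IsScalarTower.algebraMap_apply R R[X] E₀, ρ₀.commutes,
      ← IsScalarTower.algebraMap_apply R R[X] (B ⧸ K)]
  haveI : IsScalarTower R E₀ (B ⧸ K) := IsScalarTower.of_algebraMap_eq fun r => (htower r).symm
  have hIJ : ((maximalIdeal R).map (algebraMap R E₀)).map (algebraMap E₀ (B ⧸ K))
      ≤ (maximalIdeal R).map (algebraMap R (B ⧸ K)) := by
    rw [Ideal.map_map, ← IsScalarTower.algebraMap_eq]
  obtain ⟨θ⟩ := exists_algHom_of_henselianRing C' hnb (B ⧸ K) _ hCm hIJ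
  -- `C'` is henselian along `t`
  let f' : R[X] →+* C' := (algebraMap E₀ C').comp (algebraMap R[X] E₀)
  haveI : Algebra.IsIntegral R C' := inferInstance
  have hC'm : HenselianRing C' ((maximalIdeal R).map (algebraMap R C')) :=
    henselianRing_map_of_isIntegral hR C'
  have ht' : f' X ^ n ∈ (maximalIdeal R).map (algebraMap R C') := by
    rw [← hmap]
    have : f' X ^ n = algebraMap E₀ C' (algebraMap R[X] E₀ X ^ n) := by
      rw [map_pow]; rfl
    rw [this]
    exact Ideal.mem_map_of_mem _ hpow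
  have hC't : HenselianRing C' (Ideal.span {f' X}) := by
    refine Groth.Agent.Lib.helper12.henselianRing_of_le
      (Groth.Agent.Lib.helper12.henselianRing_radical hC'm) ?_
    rw [Ideal.span_singleton_le_iff_mem]
    exact ⟨n, ht'⟩
  obtain ⟨g, hg, -⟩ := hB.2 C' (Ideal.span {f' X}) f' hC't
    (by rw [Ideal.map_span, Set.image_singleton])
  -- uniqueness on `B ⧸ K`
  have h1 : HenselianRing (B ⧸ K) (((Ideal.span {(X : R[X])}).map (algebraMap R[X] B)).map
      (algebraMap B (B ⧸ K))) := henselianRing_map_of_isIntegral hB.1 (B ⧸ K)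
  obtain ⟨u, -, hu⟩ := hB.2 (B ⧸ K) _ ((Ideal.Quotient.mk K).comp (algebraMap R[X] B)) h1
    (by rw [Ideal.map_map]; exact le_rfl)
  have e1 : Ideal.Quotient.mk K = u := hu _ rfl
  have e2 : θ.toRingHom.comp g = u := by
    apply hu
    rw [RingHom.comp_assoc, hg]
    ext p
    · show θ (algebraMap E₀ C' (algebraMap R[X] E₀ (C p))) = _
      rw [θ.commutes, halg, ρ₀.commutes]
      rfl
    · show θ (algebraMap E₀ C' (algebraMap R[X] E₀ X)) = _
      rw [θ.commutes, halg, ρ₀.commutes]
      rfl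
  have hθsurj : Function.Surjective θ := by
    intro c
    obtain ⟨b, rfl⟩ := Ideal.Quotient.mk_surjective c
    refine ⟨g b, ?_⟩
    have := RingHom.congr_fun (e2.trans e1.symm) b
    exact this
  exact Module.Finite.of_surjective (θ.restrictScalars R).toLinearMap hθsurj

/-- finiteness from a stage. -/
theorem finite_of_stage
    (hB : Hens2.IsPairHenselization R[X] (Ideal.span {(X : R[X])}) B) (K : Ideal B)
    (E : Type u) [CommRing E] [Algebra R[X] E] [Algebra R E] [IsScalarTower R R[X] E]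
    [Algebra.FiniteType R E] (hE : IsNbhd (Ideal.span {(X : R[X])}) E) (φ : E →ₐ[R[X]] B) (x : E)
    (hx : x ∈ (maximalIdeal R).map (algebraMap R E)) (n : ℕ)
    (hK : algebraMap R[X] B X ^ n - φ x ∈ K) : Module.Finite R (B ⧸ K) := by
  classical
  set fE : E := algebraMap R[X] E X ^ n - x with hfE
  haveI : Algebra.FiniteType R (E ⧸ Ideal.span {fE}) :=
    Algebra.FiniteType.of_surjective (Ideal.Quotient.mkₐ R (Ideal.span {fE}))
      (Ideal.Quotient.mkₐ_surjective R _)
  have hxE₀ : Ideal.Quotient.mk (Ideal.span {fE}) x ∈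
      (maximalIdeal R).map (algebraMap R (E ⧸ Ideal.span {fE})) := by
    have : (maximalIdeal R).map (algebraMap R (E ⧸ Ideal.span {fE}))
        = ((maximalIdeal R).map (algebraMap R E)).map (Ideal.Quotient.mk (Ideal.span {fE})) :=
      (Ideal.map_map (algebraMap R E) (Ideal.Quotient.mk (Ideal.span {fE}))).symm
    rw [this]; exact Ideal.mem_map_of_mem _ hx
  have hpow : Ideal.Quotient.mk (Ideal.span {fE}) (algebraMap R[X] E X ^ n)
      = Ideal.Quotient.mk (Ideal.span {fE}) x := by
    rw [Ideal.Quotient.eq]; exact Ideal.subset_span (Set.mem_singleton _)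
  have hfin : Module.Finite R ((E ⧸ Ideal.span {fE}) ⧸
      (maximalIdeal R).map (algebraMap R (E ⧸ Ideal.span {fE}))) := by
    let Φ : R[X] →ₐ[R] (E ⧸ Ideal.span {fE}) ⧸
        (maximalIdeal R).map (algebraMap R (E ⧸ Ideal.span {fE})) :=
      ((Ideal.Quotient.mkₐ R _).comp (Ideal.Quotient.mkₐ R (Ideal.span {fE}))).comp
        (IsScalarTower.toAlgHom R R[X] E)
    have hΦ : ∀ p, Φ p = Ideal.Quotient.mk _
        (Ideal.Quotient.mk (Ideal.span {fE}) (algebraMap R[X] E p)) := fun p => rfl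
    have hΦX : Φ (X ^ n) = 0 := by
      rw [hΦ, map_pow (algebraMap R[X] E), hpow, Ideal.Quotient.eq_zero_iff_mem]; exact hxE₀
    have hΦsurj : Function.Surjective Φ := by
      intro e
      obtain ⟨e, rfl⟩ := Ideal.Quotient.mk_surjective e
      obtain ⟨e, rfl⟩ := Ideal.Quotient.mk_surjective e
      obtain ⟨a, y, rfl⟩ := IsNbhd.exists_eq_add_pow_mul hE n e
      refine ⟨a, ?_⟩
      rw [hΦ, map_add, map_add, map_mul, map_mul, hpow,
        Ideal.Quotient.eq_zero_iff_mem.mpr hxE₀, zero_mul, add_zero]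
    let Ψ : (R[X] ⧸ Ideal.span {(X ^ n : R[X])}) →ₐ[R] (E ⧸ Ideal.span {fE}) ⧸
        (maximalIdeal R).map (algebraMap R (E ⧸ Ideal.span {fE})) :=
      Ideal.Quotient.liftₐ _ Φ (by
        intro a ha
        obtain ⟨c, rfl⟩ := Ideal.mem_span_singleton'.mp ha
        rw [map_mul, hΦX, mul_zero])
    have hΨsurj : Function.Surjective Ψ := by
      intro e
      obtain ⟨a, rfl⟩ := hΦsurj e
      exact ⟨Ideal.Quotient.mk _ a, rfl⟩
    haveI := (Polynomial.monic_X_pow (R := R) n).finite_quotient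
    exact Module.Finite.of_surjective Ψ.toLinearMap hΨsurj
  let ρ₀ : (E ⧸ Ideal.span {fE}) →ₐ[R[X]] (B ⧸ K) :=
    Ideal.Quotient.liftₐ (Ideal.span {fE}) ((Ideal.Quotient.mkₐ R[X] K).comp φ) (by
      intro a ha
      obtain ⟨c, rfl⟩ := Ideal.mem_span_singleton'.mp ha
      rw [map_mul]
      have : ((Ideal.Quotient.mkₐ R[X] K).comp φ) fE = 0 := by
        show Ideal.Quotient.mk K (φ fE) = 0
        rw [hfE, map_sub, map_pow, φ.commutes, Ideal.Quotient.eq_zero_iff_mem]
        exact hK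
      rw [this, mul_zero])
  refine finite_of_algHom hB K (E ⧸ Ideal.span {fE}) hfin ρ₀ n ?_
  have : algebraMap R[X] (E ⧸ Ideal.span {fE}) X ^ n
      = Ideal.Quotient.mk (Ideal.span {fE}) (algebraMap R[X] E X ^ n) := by
    rw [map_pow]; rfl
  rw [this, hpow]
  exact hxE₀

/-- **Weierstrass finiteness**: if `t ^ n - μ ∈ K` with `μ ∈ m B`, then `B ⧸ K` is a finite
`R`-module and a quotient of `R[t]`. -/
theorem finite_quotient
    (hB : Hens2.IsPairHenselization R[X] (Ideal.span {(X : R[X])}) B) (K : Ideal B) (n : ℕ) (μ : B)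
    (hμ : μ ∈ (maximalIdeal R).map (algebraMap R B))
    (hK : algebraMap R[X] B X ^ n - μ ∈ K) :
    Module.Finite R (B ⧸ K) ∧ ∀ b : B, ∃ p : R[X], b - algebraMap R[X] B p ∈ K := by
  classical
  have hμ' : μ ∈ ((maximalIdeal R).map (algebraMap R R[X])).map (algebraMap R[X] B) := by
    rw [Ideal.map_map, ← IsScalarTower.algebraMap_eq]; exact hμ
  obtain ⟨k, φ, x, hx, hφx⟩ := exists_stage hB _ μ hμ'
  have hxm : x ∈ (maximalIdeal R).map (algebraMap R k.C) := by
    rw [Ideal.map_map, ← IsScalarTower.algebraMap_eq] at hx; exact hx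
  haveI : Algebra.FiniteType R[X] k.C := inferInstance
  haveI : Algebra.FiniteType R k.C := Algebra.FiniteType.trans (S := R[X]) inferInstance inferInstance
  have hfinC : Module.Finite R (B ⧸ K) :=
    finite_of_stage hB K k.C k.isNbhd φ x hxm n (by rw [hφx]; exact hK)
  refine ⟨hfinC, ?_⟩
  -- Nakayama
  let f : R[X] →ₐ[R] B ⧸ K := (Ideal.Quotient.mkₐ R K).comp (IsScalarTower.toAlgHom R R[X] B)
  have hnbB := isNbhd_of_isPairHenselization _ hB
  have htop : (⊤ : Submodule R (B ⧸ K)) ≤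
      LinearMap.range f.toLinearMap ⊔ (maximalIdeal R) • (⊤ : Submodule R (B ⧸ K)) := by
    intro c _
    obtain ⟨b, rfl⟩ := Ideal.Quotient.mk_surjective c
    obtain ⟨a, y, rfl⟩ := IsNbhd.exists_eq_add_pow_mul hnbB n b
    rw [map_add]
    refine Submodule.add_mem_sup ⟨a, rfl⟩ ?_
    have h1 : Ideal.Quotient.mk K (algebraMap R[X] B X ^ n * y) = Ideal.Quotient.mk K (μ * y) := by
      rw [Ideal.Quotient.eq, ← sub_mul]; exact Ideal.mul_mem_right _ _ hK
    rw [h1, Ideal.smul_top_eq_map]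
    show _ ∈ (maximalIdeal R).map (algebraMap R (B ⧸ K))
    have : (maximalIdeal R).map (algebraMap R (B ⧸ K))
        = ((maximalIdeal R).map (algebraMap R B)).map (Ideal.Quotient.mk K) :=
      (Ideal.map_map (algebraMap R B) (Ideal.Quotient.mk K)).symm
    rw [this]
    exact Ideal.mem_map_of_mem _ (Ideal.mul_mem_right _ _ hμ)
  have hrange : LinearMap.range f.toLinearMap = ⊤ := by
    refine top_le_iff.mp
      (Submodule.le_of_le_smul_of_le_jacobson_bot (Module.finite_def.mp hfinC) ?_ htop)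
    exact IsLocalRing.maximalIdeal_le_jacobson _
  intro b
  obtain ⟨p, hp⟩ := LinearMap.range_eq_top.mp hrange (Ideal.Quotient.mk K b)
  refine ⟨p, ?_⟩
  rw [← Ideal.Quotient.eq]
  exact hp.symm

end Finiteness

section Relation

variable {R : Type u} [CommRing R] [IsLocalRing R]

theorem isIntegral_of_pow_eq {D : Type*} [CommRing D] [Algebra R D] (tD : D) (d : ℕ) (a : ℕ → R)
    (h : tD ^ d = ∑ k ∈ Finset.range d, algebraMap R D (a k) * tD ^ k) : IsIntegral R tD := by
  refine ⟨X ^ d - ∑ k ∈ Finset.range d, C (a k) * X ^ k, ?_, ?_⟩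
  · apply Polynomial.monic_X_pow_sub
    rw [Polynomial.degree_lt_iff_coeff_zero]
    intro j hj
    rw [Polynomial.finsetSum_coeff]
    refine Finset.sum_eq_zero fun k hk => ?_
    rw [Polynomial.coeff_C_mul, Polynomial.coeff_X_pow, if_neg, mul_zero]
    have := Finset.mem_range.mp hk
    omega
  · rw [← Polynomial.aeval_def]
    simp only [map_sub, map_pow, aeval_X, map_sum, map_mul, aeval_C]
    rw [h, sub_self]

/-- for `I + m R[s] = R[s]`: `s` is invertible modulo `I` and its inverse satisfies a monic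
equation with lower coefficients in `m`. -/
theorem exists_inverse_relation (I : Ideal R[X])
    (hI : I ⊔ (maximalIdeal R).map (algebraMap R R[X]) = ⊤) :
    ∃ (τ : R[X]) (d : ℕ) (a : ℕ → R), (∀ k, a k ∈ maximalIdeal R) ∧
      Ideal.Quotient.mk I (X * τ) = 1 ∧
      (Ideal.Quotient.mk I τ) ^ d = ∑ k ∈ Finset.range d,
        algebraMap R (R[X] ⧸ I) (a k) * (Ideal.Quotient.mk I τ) ^ k := by
  classical
  obtain ⟨i, hi, g, hg, hig⟩ := Submodule.mem_sup.mp
    (show (1 : R[X]) ∈ I ⊔ (maximalIdeal R).map (algebraMap R R[X]) by rw [hI]; trivial)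
  have hgc : ∀ n, g.coeff n ∈ maximalIdeal R := by
    rw [Polynomial.algebraMap_eq] at hg
    exact Ideal.mem_map_C_iff.mp hg
  have hmkg : Ideal.Quotient.mk I g = 1 := by
    have : g = 1 - i := by rw [← hig]; ring
    rw [this, map_sub, map_one, Ideal.Quotient.eq_zero_iff_mem.mpr hi, sub_zero]
  have hu : IsUnit (1 - g.coeff 0) :=
    IsLocalRing.isUnit_one_sub_self_of_mem_nonunits _ (hgc 0)
  obtain ⟨v, hv⟩ := hu.exists_left_inv
  let τ : R[X] := C v * g.divX
  have hXτ : Ideal.Quotient.mk I (X * τ) = 1 := by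
    have h2 : X * τ = C v * (g - 1) + 1 := by
      have hC : C v * (1 - C (g.coeff 0)) = (1 : R[X]) := by
        rw [← C_1, ← C_sub, ← C_mul, hv]
      have := Polynomial.divX_mul_X_add g
      simp only [τ]
      linear_combination (C v) * this + hC
    rw [h2, map_add, map_mul, map_sub, hmkg, map_one, sub_self, mul_zero, zero_add]
  set tD : R[X] ⧸ I := Ideal.Quotient.mk I τ with htD
  set sD : R[X] ⧸ I := Ideal.Quotient.mk I X with hsD
  have hst : sD * tD = 1 := by rw [hsD, htD, ← map_mul]; exact hXτ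
  set d := g.natDegree with hd
  set G := reflect d g with hG
  have hGd : G.natDegree ≤ d := Polynomial.natDegree_reflect_le.trans (by simp [hd])
  have hGc : ∀ k, G.coeff k ∈ maximalIdeal R := by
    intro k
    rw [hG, Polynomial.coeff_reflect]
    exact hgc _
  have hGtop : G.coeff d = g.coeff 0 := by
    rw [hG, Polynomial.coeff_reflect, Polynomial.revAt_le le_rfl, Nat.sub_self]
  have hrel0 : aeval tD G = tD ^ d := by
    letI : Invertible sD := ⟨tD, by rw [mul_comm]; exact hst, hst⟩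
    have h := Polynomial.eval₂_reflect_mul_pow (algebraMap R (R[X] ⧸ I)) sD d g le_rfl
    have h1 : ⅟sD = tD := rfl
    have h2 : eval₂ (algebraMap R (R[X] ⧸ I)) sD g = 1 := by
      rw [← Polynomial.aeval_def]
      have := Polynomial.aeval_algHom_apply (Ideal.Quotient.mkₐ R I) X g
      rw [Polynomial.aeval_X_left_apply] at this
      rw [← hmkg]
      exact this
    rw [h1, h2, ← Polynomial.aeval_def, ← hG] at h
    calc aeval tD G = aeval tD G * (sD ^ d * tD ^ d) := by rw [← mul_pow, hst, one_pow, mul_one]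
      _ = tD ^ d := by rw [← mul_assoc, h, one_mul]
  have hrel1 : tD ^ d = (∑ k ∈ Finset.range d, algebraMap R (R[X] ⧸ I) (G.coeff k) * tD ^ k)
      + algebraMap R (R[X] ⧸ I) (g.coeff 0) * tD ^ d := by
    conv_lhs => rw [← hrel0]
    rw [Polynomial.aeval_eq_sum_range' (Nat.lt_succ_of_le hGd), Finset.sum_range_succ, hGtop]
    simp only [Algebra.smul_def]
  have hrel : tD ^ d = ∑ k ∈ Finset.range d, algebraMap R (R[X] ⧸ I) (v * G.coeff k) * tD ^ k := by
    have hv' : algebraMap R (R[X] ⧸ I) v * (1 - algebraMap R (R[X] ⧸ I) (g.coeff 0)) = 1 := by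
      rw [← map_one (algebraMap R (R[X] ⧸ I)), ← map_sub, ← map_mul, hv]
    have : ∑ k ∈ Finset.range d, algebraMap R (R[X] ⧸ I) (v * G.coeff k) * tD ^ k
        = algebraMap R (R[X] ⧸ I) v *
          ∑ k ∈ Finset.range d, algebraMap R (R[X] ⧸ I) (G.coeff k) * tD ^ k := by
      rw [Finset.mul_sum]
      refine Finset.sum_congr rfl fun k _ => ?_
      rw [map_mul, mul_assoc]
    rw [this]
    linear_combination (algebraMap R (R[X] ⧸ I) v) * hrel1 - (tD ^ d) * hv'
  exact ⟨τ, d, fun k => v * G.coeff k, fun k => Ideal.mul_mem_left _ _ (hGc k), hXτ, hrel⟩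

end Relation

section GeneralL

variable {R : Type u} [CommRing R]
variable (L : Type u) [CommRing L] [Algebra R[X] L] [Algebra R L] [IsScalarTower R R[X] L]
  (ψ : R[X] →ₐ[R] L) (hψ : ψ X * algebraMap R[X] L X = 1)

include hψ

theorem algebraMap_eq_eval₂ (p : R[X]) :
    algebraMap R[X] L p = eval₂ (algebraMap R L) (algebraMap R[X] L X) p := by
  have : algebraMap R[X] L = eval₂RingHom (algebraMap R L) (algebraMap R[X] L X) := by
    apply Polynomial.ringHom_ext
    · intro r
      rw [coe_eval₂RingHom, eval₂_C, IsScalarTower.algebraMap_apply R R[X] L]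
      rfl
    · simp
  conv_lhs => rw [this]
  rfl

theorem psi_eq_eval₂ (p : R[X]) : ψ p = eval₂ (algebraMap R L) (ψ X) p := by
  rw [← Polynomial.aeval_def]
  conv_lhs => rw [← Polynomial.aeval_X_left_apply p]
  rw [Polynomial.aeval_algHom_apply]

theorem psi_reflect (N : ℕ) (p : R[X]) (hp : p.natDegree ≤ N) :
    ψ (reflect N p) = ψ X ^ N * algebraMap R[X] L p := by
  letI : Invertible (algebraMap R[X] L X) := ⟨ψ X, hψ, by rw [mul_comm]; exact hψ⟩
  have h := Polynomial.eval₂_reflect_mul_pow (algebraMap R L) (algebraMap R[X] L X) N p hp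
  have h1 : ⅟(algebraMap R[X] L X) = ψ X := rfl
  rw [h1, ← psi_eq_eval₂ L ψ hψ, ← algebraMap_eq_eval₂ L ψ hψ] at h
  rw [← h, mul_comm (ψ (reflect N p)), ← mul_assoc, ← mul_pow, hψ, one_pow, one_mul]

theorem algebraMap_reflect (N : ℕ) (g : R[X]) (hg : g.natDegree ≤ N) :
    algebraMap R[X] L (reflect N g) = algebraMap R[X] L X ^ N * ψ g := by
  letI : Invertible (ψ X) := ⟨algebraMap R[X] L X, by rw [mul_comm]; exact hψ, hψ⟩
  have h := Polynomial.eval₂_reflect_mul_pow (algebraMap R L) (ψ X) N g hg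
  have h1 : ⅟(ψ X) = algebraMap R[X] L X := rfl
  rw [h1, ← psi_eq_eval₂ L ψ hψ, ← algebraMap_eq_eval₂ L ψ hψ] at h
  rw [← h, mul_comm (algebraMap R[X] L (reflect N g)), ← mul_assoc, ← mul_pow, mul_comm _ (ψ X), hψ,
    one_pow, one_mul]

/-- `p(t) = t^N ψ(reflect N p)`. -/
theorem algebraMap_eq_pow_mul_psi_reflect (p : R[X]) :
    algebraMap R[X] L p = algebraMap R[X] L X ^ p.natDegree * ψ (reflect p.natDegree p) := by
  have h := algebraMap_reflect L ψ hψ p.natDegree (reflect p.natDegree p)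
    (Polynomial.natDegree_reflect_le.trans (by simp))
  have hinv : reflect p.natDegree (reflect p.natDegree p) = p := by
    ext i
    rw [Polynomial.coeff_reflect, Polynomial.coeff_reflect, Polynomial.revAt_invol]
  rw [hinv] at h
  exact h

omit hψ in
/-- formal consequences of a retraction `φ : L → R[s]/I` of `ψ`. -/
theorem part1_of_retraction (I : Ideal R[X]) (m : Ideal R)
    (hI : I ⊔ m.map (algebraMap R R[X]) = ⊤)
    (φ : L →+* R[X] ⧸ I) (hφψ : ∀ p, φ (ψ p) = Ideal.Quotient.mk I p) :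
    (I.map ψ.toRingHom).comap ψ.toRingHom = I ∧
    I.map ψ.toRingHom ⊔ m.map (algebraMap R L) = ⊤ ∧
    Function.Injective
      (Ideal.quotientMap (I.map ψ.toRingHom) ψ.toRingHom Ideal.le_comap_map) := by
  have hker : I.map ψ.toRingHom ≤ RingHom.ker φ := by
    rw [Ideal.map_le_iff_le_comap]
    intro x hx
    rw [Ideal.mem_comap, RingHom.mem_ker]
    show φ (ψ x) = 0
    rw [hφψ, Ideal.Quotient.eq_zero_iff_mem]; exact hx
  have h1a : (I.map ψ.toRingHom).comap ψ.toRingHom = I := by
    refine le_antisymm ?_ Ideal.le_comap_map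
    intro x hx
    have h2 : φ (ψ x) = 0 := hker hx
    rw [hφψ, Ideal.Quotient.eq_zero_iff_mem] at h2
    exact h2
  refine ⟨h1a, ?_, ?_⟩
  · rw [Ideal.eq_top_iff_one]
    obtain ⟨i, hi, g, hg, hig⟩ := Submodule.mem_sup.mp
      (show (1 : R[X]) ∈ I ⊔ m.map (algebraMap R R[X]) by rw [hI]; trivial)
    refine Submodule.mem_sup.mpr ⟨ψ i, Ideal.mem_map_of_mem _ hi, ψ g, ?_,
      by rw [← map_add, hig, map_one]⟩
    have : m.map (algebraMap R L)
        = (m.map (algebraMap R R[X])).map ψ.toRingHom := by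
      rw [Ideal.map_map]
      congr 1
      ext r; exact (ψ.commutes r).symm
    rw [this]
    exact Ideal.mem_map_of_mem _ hg
  · exact Ideal.quotientMap_injective' (le_of_eq h1a)

end GeneralL

section Main

variable {R : Type u} [CommRing R] [HenselianLocalRing R]
  {B : Type u} [CommRing B] [Algebra R B] [Algebra R[X] B] [IsScalarTower R R[X] B]
  (hB : Hens2.IsPairHenselization R[X] (Ideal.span {(X : R[X])}) B)
  (L : Type u) [CommRing L] [Algebra B L] [Algebra R[X] L] [Algebra R L]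
  [IsScalarTower R[X] B L] [IsScalarTower R B L] [IsScalarTower R R[X] L]
  [IsLocalization.Away (algebraMap R[X] B X) L]
  (ψ : R[X] →ₐ[R] L) (hψ : ψ X * algebraMap R[X] L X = 1)

include hB hψ

/-- a retraction `L → R[s]/I` of `ψ`, from the universal property of the henselization. -/
theorem exists_retraction (I : Ideal R[X])
    (hI : I ⊔ (maximalIdeal R).map (algebraMap R R[X]) = ⊤) :
    ∃ (φ : L →+* R[X] ⧸ I) (τ : R[X]), (∀ p, φ (ψ p) = Ideal.Quotient.mk I p) ∧
      Ideal.Quotient.mk I (X * τ) = 1 := by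
  classical
  have hR : HenselianRing R (maximalIdeal R) := inferInstance
  obtain ⟨τ, d, a, ha, hXτ, hrel⟩ := exists_inverse_relation I hI
  set tD : R[X] ⧸ I := Ideal.Quotient.mk I τ with htD
  have hint : IsIntegral R tD := isIntegral_of_pow_eq tD d a hrel
  let D' : Subalgebra R (R[X] ⧸ I) := Algebra.adjoin R {tD}
  haveI : Module.Finite R D' := Algebra.finite_adjoin_simple_of_isIntegral hint
  let t' : D' := ⟨tD, Algebra.subset_adjoin (Set.mem_singleton _)⟩
  have hD'm : HenselianRing D' ((maximalIdeal R).map (algebraMap R D')) :=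
    henselianRing_map_of_isIntegral hR D'
  have ht' : t' ^ d ∈ (maximalIdeal R).map (algebraMap R D') := by
    have : t' ^ d = ∑ k ∈ Finset.range d, algebraMap R D' (a k) * t' ^ k := by
      apply Subtype.ext
      simpa using hrel
    rw [this]
    exact Ideal.sum_mem _ fun k _ => Ideal.mul_mem_right _ _ (Ideal.mem_map_of_mem _ (ha k))
  have hD't : HenselianRing D' (Ideal.span {t'}) := by
    refine Groth.Agent.Lib.helper12.henselianRing_of_le
      (Groth.Agent.Lib.helper12.henselianRing_radical hD'm) ?_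
    rw [Ideal.span_singleton_le_iff_mem]
    exact ⟨d, ht'⟩
  let f : R[X] →+* D' := (aeval t' : R[X] →ₐ[R] D').toRingHom
  have hfX : f X = t' := aeval_X t'
  obtain ⟨g, hg, -⟩ := hB.2 D' (Ideal.span {t'}) f hD't
    (by rw [Ideal.map_span, Set.image_singleton, hfX])
  let φB : B →+* R[X] ⧸ I := D'.val.toRingHom.comp g
  have hφB : ∀ p, φB (algebraMap R[X] B p) = aeval tD p := by
    intro p
    show D'.val (g (algebraMap R[X] B p)) = _
    have : g (algebraMap R[X] B p) = f p := RingHom.congr_fun hg p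
    rw [this]
    show D'.val (aeval t' p) = _
    rw [← Polynomial.aeval_algHom_apply]
    rfl
  have hφBt : φB (algebraMap R[X] B X) = tD := by rw [hφB, aeval_X]
  have hst : Ideal.Quotient.mk I X * tD = 1 := by rw [htD, ← map_mul]; exact hXτ
  have hu : IsUnit (φB (algebraMap R[X] B X)) := by
    rw [hφBt]
    exact IsUnit.of_mul_eq_one _ (by rw [mul_comm]; exact hst)
  let φ : L →+* R[X] ⧸ I := IsLocalization.Away.lift (algebraMap R[X] B X) hu
  have hφ : ∀ b, φ (algebraMap B L b) = φB b := fun b => IsLocalization.Away.lift_eq _ hu b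
  have hφψX : φ (ψ X) = Ideal.Quotient.mk I X := by
    have h1 : φ (ψ X) * tD = 1 := by
      rw [← hφBt, ← hφ, ← IsScalarTower.algebraMap_apply R[X] B L, ← map_mul, hψ, map_one]
    calc φ (ψ X) = φ (ψ X) * (tD * Ideal.Quotient.mk I X) := by rw [mul_comm tD, hst, mul_one]
      _ = Ideal.Quotient.mk I X := by rw [← mul_assoc, h1, one_mul]
  have hφψ : φ.comp ψ.toRingHom = Ideal.Quotient.mk I := by
    apply Polynomial.ringHom_ext
    · intro r
      show φ (ψ (C r)) = _
      have hCr : (C r : R[X]) = algebraMap R R[X] r := rfl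
      rw [hCr, ψ.commutes, IsScalarTower.algebraMap_apply R B L, hφ,
        IsScalarTower.algebraMap_apply R R[X] B, hφB, ← hCr, aeval_C]
      rfl
    · exact hφψX
  exact ⟨φ, τ, fun p => RingHom.congr_fun hφψ p, hXτ⟩

omit hB hψ in
theorem exists_pow_sub_mem (J : Ideal L)
    (hJ : J ⊔ (maximalIdeal R).map (algebraMap R L) = ⊤) :
    ∃ (n : ℕ) (μ : B), μ ∈ (maximalIdeal R).map (algebraMap R B) ∧
      algebraMap R[X] B X ^ n - μ ∈ J.comap (algebraMap B L) := by
  obtain ⟨j, hj, ν, hν, hjν⟩ := Submodule.mem_sup.mp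
    (show (1 : L) ∈ J ⊔ (maximalIdeal R).map (algebraMap R L) by rw [hJ]; trivial)
  have hmL : (maximalIdeal R).map (algebraMap R L)
      = ((maximalIdeal R).map (algebraMap R B)).map (algebraMap B L) := by
    rw [Ideal.map_map, ← IsScalarTower.algebraMap_eq]
  rw [hmL, IsLocalization.mem_map_algebraMap_iff (Submonoid.powers (algebraMap R[X] B X))] at hν
  obtain ⟨⟨⟨μ, hμ⟩, ⟨s, n, rfl⟩⟩, hνs⟩ := hν
  refine ⟨n, μ, hμ, ?_⟩
  rw [Ideal.mem_comap, map_sub]
  have hνs' : ν * algebraMap B L (algebraMap R[X] B X ^ n) = algebraMap B L μ := hνs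
  rw [← hνs']
  have : j = 1 - ν := by rw [← hjν]; ring
  have h2 : algebraMap B L (algebraMap R[X] B X ^ n) - ν * algebraMap B L (algebraMap R[X] B X ^ n)
      = j * algebraMap B L (algebraMap R[X] B X ^ n) := by rw [this]; ring
  rw [h2]
  exact Ideal.mul_mem_right _ _ hj

omit hψ in
theorem finite_comap (J : Ideal L)
    (hJ : J ⊔ (maximalIdeal R).map (algebraMap R L) = ⊤) :
    Module.Finite R (B ⧸ J.comap (algebraMap B L)) ∧
      ∀ b : B, ∃ p : R[X], b - algebraMap R[X] B p ∈ J.comap (algebraMap B L) := by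
  obtain ⟨n, μ, hμ, hn⟩ := exists_pow_sub_mem (B := B) L J hJ
  exact finite_quotient hB _ n μ hμ hn

theorem part1 (I : Ideal R[X]) (hI : I ⊔ (maximalIdeal R).map (algebraMap R R[X]) = ⊤) :
    (I.map ψ.toRingHom).comap ψ.toRingHom = I ∧
    I.map ψ.toRingHom ⊔ (maximalIdeal R).map (algebraMap R L) = ⊤ ∧
    Function.Bijective
      (Ideal.quotientMap (I.map ψ.toRingHom) ψ.toRingHom Ideal.le_comap_map) := by
  obtain ⟨φ, τ, hφψ, hXτ⟩ := exists_retraction hB L ψ hψ I hI
  obtain ⟨h1a, h1b, hinj⟩ := part1_of_retraction L ψ I (maximalIdeal R) hI φ hφψ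
  refine ⟨h1a, h1b, hinj, ?_⟩
  obtain ⟨-, hpoly⟩ := finite_comap hB L (I.map ψ.toRingHom) h1b
  set q := Ideal.quotientMap (I.map ψ.toRingHom) ψ.toRingHom Ideal.le_comap_map with hq
  have hqmk : ∀ p, q (Ideal.Quotient.mk I p) = Ideal.Quotient.mk _ (ψ p) := fun p =>
    Ideal.quotientMap_mk
  set mk' := Ideal.Quotient.mk (I.map ψ.toRingHom) with hmk'
  have e1 : mk' (ψ X) * mk' (algebraMap R[X] L X) = 1 := by rw [← map_mul, hψ, map_one]
  have e2 : mk' (ψ X) * mk' (ψ τ) = 1 := by
    rw [← map_mul, ← map_mul, ← hqmk, hXτ, map_one]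
  have e3 : mk' (algebraMap R[X] L X) = mk' (ψ τ) := by
    calc mk' (algebraMap R[X] L X)
        = (mk' (ψ X) * mk' (ψ τ)) * mk' (algebraMap R[X] L X) := by rw [e2, one_mul]
      _ = mk' (ψ τ) := by rw [mul_comm (mk' (ψ X)), mul_assoc, e1, mul_one]
  intro y
  obtain ⟨l, rfl⟩ := Ideal.Quotient.mk_surjective y
  obtain ⟨⟨b, s, a, rfl⟩, hl⟩ := IsLocalization.surj (Submonoid.powers (algebraMap R[X] B X)) l
  obtain ⟨p, hp⟩ := hpoly b
  have hl' : l = algebraMap B L b * ψ X ^ a := by
    have hl'' : l * algebraMap B L (algebraMap R[X] B X ^ a) = algebraMap B L b := hl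
    rw [← hl'', map_pow, ← IsScalarTower.algebraMap_apply R[X] B L, mul_assoc, ← mul_pow,
      mul_comm (algebraMap R[X] L X), hψ, one_pow, mul_one]
  have hb : mk' (algebraMap B L b) = mk' (algebraMap R[X] L p) := by
    rw [IsScalarTower.algebraMap_apply R[X] B L, Ideal.Quotient.eq, ← map_sub]
    exact hp
  refine ⟨Ideal.Quotient.mk I (τ ^ p.natDegree * reflect p.natDegree p * X ^ a), ?_⟩
  rw [hqmk, hl', map_mul ψ, map_mul ψ, map_pow, map_pow, map_mul mk', map_mul mk', map_mul mk',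
    hb, algebraMap_eq_pow_mul_psi_reflect L ψ hψ p, map_mul mk', map_pow mk', map_pow mk',
    map_pow mk', e3]

theorem comap_sup_eq_top (J : Ideal L)
    (hJ : J ⊔ (maximalIdeal R).map (algebraMap R L) = ⊤) :
    J.comap ψ.toRingHom ⊔ (maximalIdeal R).map (algebraMap R R[X]) = ⊤ := by
  classical
  obtain ⟨n, μ, hμ, hn⟩ := exists_pow_sub_mem (B := B) L J hJ
  obtain ⟨hfin, -⟩ := finite_quotient hB _ n μ hμ hn
  set K := J.comap (algebraMap B L) with hKdef
  -- the element `u = t^n` of `B ⧸ K` lies in `m (B ⧸ K)`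
  set u : B ⧸ K := Ideal.Quotient.mk K (algebraMap R[X] B X ^ n) with hu
  have humem : u ∈ (maximalIdeal R).map (algebraMap R (B ⧸ K)) := by
    have h1 : u = Ideal.Quotient.mk K μ := by rw [hu, Ideal.Quotient.eq]; exact hn
    have h2 : (maximalIdeal R).map (algebraMap R (B ⧸ K))
        = ((maximalIdeal R).map (algebraMap R B)).map (Ideal.Quotient.mk K) :=
      (Ideal.map_map (algebraMap R B) (Ideal.Quotient.mk K)).symm
    rw [h1, h2]
    exact Ideal.mem_map_of_mem _ hμ
  -- Cayley–Hamilton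
  have hrange : LinearMap.range (Algebra.lmul R (B ⧸ K) u)
      ≤ (maximalIdeal R) • (⊤ : Submodule R (B ⧸ K)) := by
    rintro _ ⟨c, rfl⟩
    rw [Ideal.smul_top_eq_map]
    show u * c ∈ (maximalIdeal R).map (algebraMap R (B ⧸ K))
    exact Ideal.mul_mem_right _ _ humem
  obtain ⟨p, hpm, -, hpc, hp0⟩ :=
    LinearMap.exists_monic_and_natDegree_eq_and_coeff_mem_pow_and_aeval_eq_zero R
      (Algebra.lmul R (B ⧸ K) u) (maximalIdeal R) hrange
  have hpu : aeval u p = 0 := by
    rw [Polynomial.aeval_algHom_apply] at hp0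
    have := LinearMap.congr_fun hp0 1
    simpa using this
  -- pass to `L ⧸ J`
  set mkJ := Ideal.Quotient.mk J with hmkJ
  let χ : B ⧸ K →+* L ⧸ J := Ideal.quotientMap J (algebraMap B L) le_rfl
  set w : L ⧸ J := mkJ (algebraMap R[X] L X) ^ n with hw
  set v : L ⧸ J := mkJ (ψ X) ^ n with hv
  have hvw : v * w = 1 := by rw [hv, hw, ← mul_pow, ← map_mul, hψ, map_one, one_pow]
  have hχu : χ u = w := by
    rw [hu, Ideal.quotientMap_mk, map_pow, ← IsScalarTower.algebraMap_apply R[X] B L, map_pow]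
  have hχalg : χ.comp (algebraMap R (B ⧸ K)) = algebraMap R (L ⧸ J) := by
    ext r
    show χ (Ideal.Quotient.mk K (algebraMap R B r)) = mkJ (algebraMap R L r)
    rw [Ideal.quotientMap_mk, ← IsScalarTower.algebraMap_apply R B L]
  have hw0 : eval₂ (algebraMap R (L ⧸ J)) w p = 0 := by
    have := congrArg χ hpu
    rw [Polynomial.aeval_def, Polynomial.hom_eval₂, hχalg, hχu, map_zero] at this
    exact this
  set d := p.natDegree with hd
  set G := reflect d p with hG
  have hG0 : eval₂ (algebraMap R (L ⧸ J)) v G = 0 := by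
    letI : Invertible w := ⟨v, hvw, by rw [mul_comm]; exact hvw⟩
    have h := Polynomial.eval₂_reflect_mul_pow (algebraMap R (L ⧸ J)) w d p le_rfl
    have h1 : ⅟w = v := rfl
    rw [h1, hw0, ← hG] at h
    calc eval₂ (algebraMap R (L ⧸ J)) v G
        = eval₂ (algebraMap R (L ⧸ J)) v G * (w ^ d * v ^ d) := by
          rw [← mul_pow, mul_comm w, hvw, one_pow, mul_one]
      _ = 0 := by rw [← mul_assoc, h, zero_mul]
  set Q : R[X] := eval₂ C (X ^ n) G with hQ
  have hQJ : Q ∈ J.comap ψ.toRingHom := by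
    rw [Ideal.mem_comap, ← Ideal.Quotient.eq_zero_iff_mem]
    show mkJ (ψ Q) = 0
    have : mkJ (ψ Q) = eval₂ (algebraMap R (L ⧸ J)) v G := by
      have h1 := Polynomial.hom_eval₂ G C (mkJ.comp ψ.toRingHom) (X ^ n)
      have h2 : (mkJ.comp ψ.toRingHom).comp C = algebraMap R (L ⧸ J) := by
        ext r
        show mkJ (ψ (C r)) = mkJ (algebraMap R L r)
        have hCr : (C r : R[X]) = algebraMap R R[X] r := rfl
        rw [hCr, ψ.commutes]
      have h3 : (mkJ.comp ψ.toRingHom) (X ^ n) = v := by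
        show mkJ (ψ (X ^ n)) = v
        rw [map_pow, map_pow]
      rw [h2, h3] at h1
      exact h1
    rw [this, hG0]
  have hG1 : G - 1 ∈ (maximalIdeal R).map (algebraMap R R[X]) := by
    rw [Polynomial.algebraMap_eq, Ideal.mem_map_C_iff]
    intro i
    rw [Polynomial.coeff_sub, hG, Polynomial.coeff_reflect]
    by_cases hi0 : i = 0
    · subst hi0
      rw [Polynomial.revAt_le (Nat.zero_le _), Nat.sub_zero, Polynomial.coeff_one_zero]
      have : p.coeff d = 1 := hpm
      rw [this, sub_self]; exact zero_mem _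
    · rw [Polynomial.coeff_one, if_neg hi0, sub_zero]
      by_cases hid : i ≤ d
      · rw [Polynomial.revAt_le hid]
        have h1 := hpc (d - i)
        have h2 : d - (d - i) ≠ 0 := by omega
        exact Ideal.pow_le_self h2 h1
      · have hid := not_le.mp hid
        rw [Polynomial.revAt_eq_self_of_lt hid, Polynomial.coeff_eq_zero_of_natDegree_lt hid]
        exact zero_mem _
  have hQ1 : Q - 1 ∈ (maximalIdeal R).map (algebraMap R R[X]) := by
    have h1 : Q - 1 = eval₂RingHom C (X ^ n) (G - 1) := by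
      rw [map_sub, map_one]; rfl
    have h2 : ((maximalIdeal R).map (algebraMap R R[X])).map (eval₂RingHom C (X ^ n))
        = (maximalIdeal R).map (algebraMap R R[X]) := by
      rw [Ideal.map_map]
      congr 1
      ext r
      simp
    rw [h1, ← h2]
    exact Ideal.mem_map_of_mem _ hG1
  rw [Ideal.eq_top_iff_one]
  have : (1 : R[X]) = Q + (-(Q - 1)) := by ring
  rw [this]
  exact Submodule.add_mem_sup hQJ (neg_mem hQ1)

theorem map_comap_eq (J : Ideal L)
    (hJ : J ⊔ (maximalIdeal R).map (algebraMap R L) = ⊤) :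
    (J.comap ψ.toRingHom).map ψ.toRingHom = J := by
  have h2b := comap_sup_eq_top hB L ψ hψ J hJ
  obtain ⟨-, -, -, hsurj⟩ := part1 hB L ψ hψ (J.comap ψ.toRingHom) h2b
  refine le_antisymm Ideal.map_comap_le ?_
  intro j hj
  obtain ⟨y, hy⟩ := hsurj (Ideal.Quotient.mk _ j)
  obtain ⟨p, rfl⟩ := Ideal.Quotient.mk_surjective y
  rw [Ideal.quotientMap_mk, Ideal.Quotient.eq] at hy
  have h1 : ψ p - j ∈ J := Ideal.map_comap_le hy
  have h2 : ψ p ∈ J := by
    have := add_mem h1 hj
    rwa [sub_add_cancel] at this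
  have h3 : ψ p ∈ (J.comap ψ.toRingHom).map ψ.toRingHom :=
    Ideal.mem_map_of_mem _ (show p ∈ J.comap ψ.toRingHom from h2)
  have : j = ψ p - (ψ p - j) := by ring
  rw [this]
  exact sub_mem h3 hy

end Main

end Groth.Agent.Lib.helper12.HensLaurent2
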