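import Mathlib
import Groth.Agent.Lib.Helper24.Henselization
import Groth.Agent.Lib.Helper24.HensNoeth
import Groth.Agent.Lib.Helper5.ConsApprox4
import Groth.Agent.S0591

/-!
# A scheme of finite presentation over a henselian local ring comes from a Noetherian henselian local ring (helper12)

EGA IV 18.6-type reduction: `A` henselian local, `X ⟶ Spec A` of finite presentation.  Descend `X` to a finitely generated
`ℤ`-subalgebra `A₁ ⊆ A`, localise `A₁` at the contraction of the maximal ideal, henselise (helper24), and map back to `A` by the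
universal property.
-/

set_option autoImplicit false
set_option linter.style.haveILetI false
set_option backward.isDefEq.respectTransparency false
universe u
open CategoryTheory CategoryTheory.Limits AlgebraicGeometry IsLocalRing

namespace Groth.Agent.Lib.helper12.HensModel

open Groth.Agent.Lib.helper24.Henselization Groth.Agent.Lib.helper5.FGLimit

attribute [local instance] ULift.algebra'

/-- the lift to the henselization of a local homomorphism is local. -/
theorem isLocalHom_liftH (B : Type u) [CommRing B] [IsLocalRing B] (T : Type u) [CommRing T]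
    [HenselianLocalRing T] (ψ : B →+* T) [IsLocalHom ψ] : IsLocalHom (liftH T ψ) := by
  constructor
  intro z hz
  by_contra hnu
  have hzm : z ∈ maximalIdeal (Hens B) := (mem_maximalIdeal _).2 hnu
  rw [← Groth.Agent.Lib.Helper24.HensNoeth.map_maximalIdeal_Hens] at hzm
  have h1 : liftH T ψ z ∈ Ideal.map (liftH T ψ)
      (Ideal.map (algebraMap B (Hens B)) (maximalIdeal B)) := Ideal.mem_map_of_mem _ hzm
  rw [Ideal.map_map, liftH_comp] at h1
  exact (mem_maximalIdeal _).1 (IsLocalRing.map_maximalIdeal_le ψ h1) hz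

/-- a ring homomorphism from a Noetherian ring to a local ring factors through a Noetherian local ring and a local
homomorphism (localise at the contraction of the maximal ideal). -/
theorem exists_local_factor (A₁ A : Type u) [CommRing A₁] [IsNoetherianRing A₁] [CommRing A]
    [IsLocalRing A] (ι : A₁ →+* A) :
    ∃ (B : Type u) (_ : CommRing B) (_ : IsLocalRing B) (_ : IsNoetherianRing B)
      (α : A₁ →+* B) (ψ : B →+* A), IsLocalHom ψ ∧ ψ.comp α = ι := by
  let p : Ideal A₁ := (maximalIdeal A).comap ι
  haveI : p.IsPrime := Ideal.comap_isPrime ι _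
  have hunit : ∀ y : p.primeCompl, IsUnit (ι y) := fun y => by
    have h : ι y ∉ maximalIdeal A := y.2
    exact IsLocalRing.notMem_maximalIdeal.mp h
  let ψ : Localization.AtPrime p →+* A := IsLocalization.lift (M := p.primeCompl) hunit
  have hψ : ψ.comp (algebraMap A₁ (Localization.AtPrime p)) = ι := IsLocalization.lift_comp hunit
  refine ⟨Localization.AtPrime p, inferInstance, inferInstance,
    IsLocalization.isNoetherianRing p.primeCompl _ inferInstance, algebraMap A₁ _, ψ, ?_, hψ⟩
  constructor
  intro z hz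
  obtain ⟨⟨x, s⟩, rfl⟩ := IsLocalization.mk'_surjective p.primeCompl z
  have h1 : ψ (IsLocalization.mk' (Localization.AtPrime p) x s) * ι s = ι x := by
    rw [← hψ]
    simp only [RingHom.comp_apply]
    rw [← map_mul, IsLocalization.mk'_spec]
  have h2 : IsUnit (ι x) := by
    rw [← h1]
    exact hz.mul (hunit s)
  have h3 : x ∈ p.primeCompl := fun hx => (IsLocalRing.mem_maximalIdeal _).mp hx h2
  exact (IsLocalization.AtPrime.isUnit_mk'_iff (Localization.AtPrime p) p x s).mpr h3

/-- a local homomorphism from a Noetherian local ring to a henselian local ring factors through a Noetherian henselian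
local ring (the henselization). -/
theorem exists_hens_factor (B A : Type u) [CommRing B] [IsLocalRing B] [IsNoetherianRing B]
    [CommRing A] [HenselianLocalRing A] (ψ : B →+* A) [IsLocalHom ψ] :
    ∃ (A₀ : Type u) (_ : CommRing A₀) (_ : HenselianLocalRing A₀) (_ : IsNoetherianRing A₀)
      (α : B →+* A₀) (φ : A₀ →+* A), IsLocalHom φ ∧ φ.comp α = ψ :=
  ⟨Hens B, inferInstance, inferInstance,
    Groth.Agent.Lib.Helper24.HensNoeth.isNoetherianRing_Hens, algebraMap B (Hens B), liftH A ψ,
    isLocalHom_liftH B A ψ, liftH_comp A ψ⟩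

theorem exists_noeth_hens_factor (A₁ A : Type u) [CommRing A₁] [IsNoetherianRing A₁] [CommRing A]
    [HenselianLocalRing A] (ι : A₁ →+* A) :
    ∃ (A₀ : Type u) (_ : CommRing A₀) (_ : HenselianLocalRing A₀) (_ : IsNoetherianRing A₀)
      (β : A₁ →+* A₀) (φ : A₀ →+* A), IsLocalHom φ ∧ φ.comp β = ι := by
  obtain ⟨B, _, _, _, α, ψ, hψl, hψ⟩ := exists_local_factor A₁ A ι
  obtain ⟨A₀, i1, i2, i3, α', φ, hφl, hφ⟩ := exists_hens_factor B A ψ
  exact ⟨A₀, i1, i2, i3, α'.comp α, φ, hφl, by rw [← RingHom.comp_assoc, hφ, hψ]⟩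

/-- **EGA IV 18.6-type reduction.**  A scheme of finite presentation over a henselian local ring is the base change of a scheme
of finite type over a Noetherian henselian local ring along a local homomorphism. -/
theorem exists_noetherian_henselian_model (A : Type u) [CommRing A] [HenselianLocalRing A]
    {X : Scheme.{u}} (f : X ⟶ Spec (CommRingCat.of A)) [LocallyOfFinitePresentation f]
    [QuasiCompact f] [QuasiSeparated f] :
    ∃ (A₀ : Type u) (_ : CommRing A₀) (_ : HenselianLocalRing A₀) (_ : IsNoetherianRing A₀)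
      (φ : A₀ →+* A) (_ : IsLocalHom φ)
      (X₀ : Scheme.{u}) (f₀ : X₀ ⟶ Spec (CommRingCat.of A₀)) (g : X ⟶ X₀),
      LocallyOfFiniteType f₀ ∧ QuasiCompact f₀ ∧
        IsPullback g f f₀ (Spec.map (CommRingCat.ofHom φ)) := by
  let f' : X ⟶ (specCone (ULift.{u} ℤ) A).pt := f
  haveI : LocallyOfFinitePresentation f' := ‹LocallyOfFinitePresentation f›
  haveI : QuasiCompact f' := ‹QuasiCompact f›
  haveI : QuasiSeparated f' := ‹QuasiSeparated f›
  obtain ⟨k, X₁, u₁, g₁, h1, h2, h3, sq₁⟩ := Groth.Agent.S0591.result (specDiagram (ULift.{u} ℤ) A)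
    (specCone (ULift.{u} ℤ) A) (isLimitSpecCone (ULift.{u} ℤ) A) X f'
  haveI : IsNoetherianRing (adj (ULift.{u} ℤ) A k.unop) :=
    Groth.Agent.Lib.helper5.ConsApprox.isNoetherianRing_adj A k.unop
  obtain ⟨A₀, i1, i2, i3, β, φ, hφl, hφβ⟩ := exists_noeth_hens_factor (adj (ULift.{u} ℤ) A k.unop) A
    (adj (ULift.{u} ℤ) A k.unop).val.toRingHom
  let b : Spec (CommRingCat.of A₀) ⟶ Spec (CommRingCat.of (adj (ULift.{u} ℤ) A k.unop)) :=
    Spec.map (CommRingCat.ofHom β)
  let u₁' : X₁ ⟶ Spec (CommRingCat.of (adj (ULift.{u} ℤ) A k.unop)) := u₁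
  haveI : LocallyOfFinitePresentation u₁' := h1
  haveI : QuasiCompact u₁' := h2
  have hπ : Spec.map (CommRingCat.ofHom φ) ≫ b = (specCone (ULift.{u} ℤ) A).π.app k := by
    rw [specCone_π, ← Spec.map_comp, ← CommRingCat.ofHom_comp, hφβ]
  have hw : g₁ ≫ u₁' = (f ≫ Spec.map (CommRingCat.ofHom φ)) ≫ b := by
    rw [Category.assoc, hπ]
    exact sq₁.w
  refine ⟨A₀, i1, i2, i3, φ, hφl, pullback u₁' b,
    pullback.snd u₁' b, pullback.lift g₁ (f ≫ Spec.map (CommRingCat.ofHom φ)) hw,
    inferInstance, inferInstance, ?_⟩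
  refine IsPullback.of_right ?_ (pullback.lift_snd _ _ _) (IsPullback.of_hasPullback u₁' b)
  rw [pullback.lift_fst, hπ]
  exact sq₁

end Groth.Agent.Lib.helper12.HensModel
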