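import Mathlib
import Groth.Agent.Lib.Helper12.HensLaurent2

/-!
# Weierstrass preparation for the henselization `R{t}` of `(R[t], t)`, `R` henselian local

* `exists_mul_eq_mul_pow`: noetherian ring with principal maximal ideal `(t)`: elements are locally
  zero or unit times `t ^ n`.
* `exists_unit_mul_eq`: `f ∉ m B` is a unit times `t ^ n - μ`, `μ ∈ m B`.
* `weierstrass_quotient`: `R[t]/(P) ≅ B/(P)` for a Weierstrass polynomial `P`.
* `exists_weierstrass`, `weierstrass_unique`: `f = P u`.
-/

set_option linter.style.haveILetI false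
set_option linter.unusedSectionVars false

namespace Groth.Agent.Lib.helper12.HensWeierstrass

open Polynomial IsLocalRing
open Groth.Agent.Lib.helper26.PairHens Groth.Agent.Lib.helper26.PairNbhd
open Groth.Agent.Lib.helper26.HenselPair
open Groth.Agent.Lib.helper12.HensLaurent2

universe u

section Krull

/-- in a noetherian ring with a principal maximal ideal `(t)`, every element is, locally at `(t)`,
zero or a unit times a power of `t`. -/
theorem exists_mul_eq_mul_pow {S : Type*} [CommRing S] [IsNoetherianRing S] (t : S)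
    (hmax : (Ideal.span {t}).IsMaximal) (x : S) :
    (∃ g, g ∉ Ideal.span {t} ∧ g * x = 0) ∨
    (∃ (n : ℕ) (g g' : S), g ∉ Ideal.span {t} ∧ g' ∉ Ideal.span {t} ∧ g * x = g' * t ^ n) := by
  classical
  haveI := hmax.isPrime
  set 𝔭 := Ideal.span {t} with h𝔭
  let T := Localization.AtPrime 𝔭
  by_cases hx : algebraMap S T x = 0
  · left
    obtain ⟨m, hm⟩ := (IsLocalization.map_eq_zero_iff 𝔭.primeCompl T x).mp hx
    exact ⟨m.1, m.2, hm⟩
  · right
    have hkrull : ⨅ i, (maximalIdeal T) ^ i = ⊥ :=
      Ideal.iInf_pow_eq_bot_of_isLocalRing _ (IsLocalRing.maximalIdeal.isMaximal T).ne_top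
    have hex : ∃ i, algebraMap S T x ∉ (maximalIdeal T) ^ i := by
      by_contra h
      push Not at h
      have : algebraMap S T x ∈ ⨅ i, (maximalIdeal T) ^ i := (Ideal.mem_iInf).mpr h
      rw [hkrull] at this
      exact hx this
    have hm : maximalIdeal T = Ideal.span {algebraMap S T t} := by
      rw [← IsLocalization.AtPrime.map_eq_maximalIdeal 𝔭 T]
      show Ideal.map (algebraMap S T) (Ideal.span {t}) = _
      rw [Ideal.map_span, Set.image_singleton]
    have hi0 : Nat.find hex ≠ 0 := by
      intro h0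
      have := Nat.find_spec hex
      rw [h0, pow_zero, Ideal.one_eq_top] at this
      exact this trivial
    obtain ⟨n, hn⟩ := Nat.exists_eq_succ_of_ne_zero hi0
    have hxn : algebraMap S T x ∈ (maximalIdeal T) ^ n := by
      by_contra h
      exact Nat.find_min hex (by omega : n < Nat.find hex) h
    have hxn1 : algebraMap S T x ∉ (maximalIdeal T) ^ (n + 1) := by
      have := Nat.find_spec hex
      rwa [hn] at this
    rw [hm, Ideal.span_singleton_pow, Ideal.mem_span_singleton'] at hxn
    obtain ⟨y, hy⟩ := hxn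
    have hyu : IsUnit y := by
      by_contra hnu
      have hym : y ∈ maximalIdeal T := (IsLocalRing.mem_maximalIdeal y).mpr hnu
      apply hxn1
      rw [← hy, pow_succ, mul_comm ((maximalIdeal T) ^ n)]
      refine Ideal.mul_mem_mul hym ?_
      rw [hm, Ideal.span_singleton_pow]
      exact Ideal.subset_span (Set.mem_singleton _)
    obtain ⟨⟨a, s⟩, hys⟩ := IsLocalization.surj 𝔭.primeCompl y
    have hys' : y * algebraMap S T s.1 = algebraMap S T a := hys
    have ha : a ∈ 𝔭.primeCompl := by
      rw [← IsLocalization.AtPrime.isUnit_to_map_iff T 𝔭 a, ← hys']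
      exact hyu.mul (IsLocalization.map_units T s)
    have heq : algebraMap S T (x * s.1) = algebraMap S T (a * t ^ n) := by
      rw [map_mul, map_mul, map_pow, ← hy, ← hys']
      ring
    obtain ⟨c, hc⟩ := (IsLocalization.eq_iff_exists 𝔭.primeCompl T).mp heq
    refine ⟨n, c.1 * s.1, c.1 * a, ?_, ?_, ?_⟩
    · exact (𝔭.primeCompl.mul_mem c.2 s.2)
    · exact (𝔭.primeCompl.mul_mem c.2 ha)
    · linear_combination hc

end Krull

section Decomp

variable {R : Type u} [CommRing R]

/-- a neighbourhood of `V(t)` in `R[t]`: every element is `r + t y` with `r ∈ R`. -/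
theorem exists_eq_algebraMap_add_mul {A' : Type*} [CommRing A'] [Algebra R[X] A'] [Algebra R A']
    [IsScalarTower R R[X] A'] (h : IsNbhd (Ideal.span {(X : R[X])}) A') (x : A') :
    ∃ (r : R) (y : A'), x = algebraMap R A' r + algebraMap R[X] A' X * y := by
  obtain ⟨p, y, rfl⟩ := IsNbhd.exists_eq_add_pow_mul h 1 x
  refine ⟨p.coeff 0, algebraMap R[X] A' p.divX + y, ?_⟩
  have hp : p = C (p.coeff 0) + X * p.divX := by
    have := Polynomial.divX_mul_X_add p
    conv_lhs => rw [← this]
    ring
  have h2 : algebraMap R A' (p.coeff 0) = algebraMap R[X] A' (C (p.coeff 0)) := by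
    rw [IsScalarTower.algebraMap_apply R R[X] A']; rfl
  conv_lhs => rw [hp]
  rw [map_add, map_mul, h2, pow_one]
  ring

end Decomp

section Units

variable {R : Type u} [CommRing R] [HenselianLocalRing R]
  {B : Type u} [CommRing B] [Algebra R B] [Algebra R[X] B] [IsScalarTower R R[X] B]
  (hB : Hens2.IsPairHenselization R[X] (Ideal.span {(X : R[X])}) B)

include hB

theorem isUnit_algebraMap_add_mul (r : R) (hr : IsUnit r) (y : B) :
    IsUnit (algebraMap R B r + algebraMap R[X] B X * y) := by
  obtain ⟨v, hv⟩ := hr.exists_left_inv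
  have ht : algebraMap R[X] B X ∈ Ideal.jacobson (⊥ : Ideal B) :=
    hB.1.jac (Ideal.mem_map_of_mem _ (Ideal.subset_span (Set.mem_singleton _)))
  rw [Ideal.mem_jacobson_bot] at ht
  have h1 := ht (algebraMap R B v * y)
  have h2 : algebraMap R B r * (algebraMap R[X] B X * (algebraMap R B v * y) + 1)
      = algebraMap R B r + algebraMap R[X] B X * y := by
    have h3 : algebraMap R B v * algebraMap R B r = 1 := by rw [← map_mul, hv, map_one]
    linear_combination (algebraMap R[X] B X * y) * h3
  rw [← h2]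
  exact (hr.map (algebraMap R B)).mul h1

/-- elements of `m B` are polynomials with coefficients in `m` modulo `t ^ n`. -/
theorem exists_sub_mem_of_mem_map (n : ℕ) (y : B)
    (hy : y ∈ (maximalIdeal R).map (algebraMap R B)) :
    ∃ q ∈ (maximalIdeal R).map (algebraMap R R[X]),
      y - algebraMap R[X] B q ∈ Ideal.span {algebraMap R[X] B X ^ n} := by
  have hpow : ∀ b : B, ∃ a : R[X], algebraMap R[X] B a - b ∈ Ideal.span {algebraMap R[X] B X ^ n} := by
    intro b
    obtain ⟨a, ha⟩ := exists_sub_mem_pow hB n b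
    rw [Ideal.span_singleton_pow, Ideal.map_span, Set.image_singleton, map_pow] at ha
    exact ⟨a, ha⟩
  unfold Ideal.map at hy
  induction hy using Submodule.span_induction with
  | mem y hy =>
    obtain ⟨r, hr, rfl⟩ := hy
    refine ⟨algebraMap R R[X] r, Ideal.mem_map_of_mem _ hr, ?_⟩
    rw [← IsScalarTower.algebraMap_apply R R[X] B, sub_self]
    exact zero_mem _
  | zero => exact ⟨0, zero_mem _, by simp⟩
  | add y y' _ _ h h' =>
    obtain ⟨q, hq, hqy⟩ := h
    obtain ⟨q', hq', hqy'⟩ := h'
    refine ⟨q + q', add_mem hq hq', ?_⟩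
    have : y + y' - algebraMap R[X] B (q + q')
        = (y - algebraMap R[X] B q) + (y' - algebraMap R[X] B q') := by rw [map_add]; ring
    rw [this]
    exact add_mem hqy hqy'
  | smul b y _ h =>
    obtain ⟨q, hq, hqy⟩ := h
    obtain ⟨a, ha⟩ := hpow b
    refine ⟨a * q, Ideal.mul_mem_left _ _ hq, ?_⟩
    have : b • y - algebraMap R[X] B (a * q)
        = b * (y - algebraMap R[X] B q) - (algebraMap R[X] B a - b) * algebraMap R[X] B q := by
      rw [map_mul, smul_eq_mul]; ring
    rw [this]
    exact sub_mem (Ideal.mul_mem_left _ _ hqy) (Ideal.mul_mem_right _ _ ha)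

/-- `R[t]/(t^n, m) → B/(t^n, m)` is injective. -/
theorem mem_sup_of_algebraMap_mem_sup (n : ℕ) (p : R[X])
    (hp : algebraMap R[X] B p ∈ Ideal.span {algebraMap R[X] B X ^ n} ⊔
      (maximalIdeal R).map (algebraMap R B)) :
    p ∈ Ideal.span {(X : R[X]) ^ n} ⊔ (maximalIdeal R).map (algebraMap R R[X]) := by
  obtain ⟨z, hz, y, hy, hzy⟩ := Submodule.mem_sup.mp hp
  obtain ⟨q, hq, hqy⟩ := exists_sub_mem_of_mem_map hB n y hy
  have h1 : algebraMap R[X] B (p - q) ∈ ((Ideal.span {(X : R[X])}) ^ n).map (algebraMap R[X] B) := by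
    rw [Ideal.span_singleton_pow, Ideal.map_span, Set.image_singleton, map_pow]
    have : algebraMap R[X] B (p - q) = z + (y - algebraMap R[X] B q) := by
      rw [map_sub, ← hzy]; ring
    rw [this]
    exact add_mem hz hqy
  have h2 := mem_pow_of_algebraMap_mem hB n (p - q) h1
  rw [Ideal.span_singleton_pow] at h2
  have : p = (p - q) + q := by ring
  rw [this]
  exact Submodule.add_mem_sup h2 hq

end Units

section Stage1

variable {R : Type u} [CommRing R] [HenselianLocalRing R]
  {B : Type u} [CommRing B] [Algebra R B] [Algebra R[X] B] [IsScalarTower R R[X] B]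
  (hB : Hens2.IsPairHenselization R[X] (Ideal.span {(X : R[X])}) B)

include hB

theorem exists_unit_mul_eq_of_stage
    (E : Type u) [CommRing E] [Algebra R[X] E] [Algebra R E] [IsScalarTower R R[X] E]
    [Algebra.FiniteType R E] (hE : IsNbhd (Ideal.span {(X : R[X])}) E) (φ : E →ₐ[R[X]] B) (s : E)
    (hf : φ s ∉ (maximalIdeal R).map (algebraMap R B)) :
    ∃ (n : ℕ) (w : Bˣ) (μ : B), μ ∈ (maximalIdeal R).map (algebraMap R B) ∧
      φ s * w = algebraMap R[X] B X ^ n - μ := by
  classical
  -- the closed fibre of `E`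
  haveI : Algebra.FiniteType R (E ⧸ (maximalIdeal R).map (algebraMap R E)) :=
    Algebra.FiniteType.of_surjective (Ideal.Quotient.mkₐ R _) (Ideal.Quotient.mkₐ_surjective R _)
  haveI : Algebra.FiniteType (R ⧸ maximalIdeal R) (E ⧸ (maximalIdeal R).map (algebraMap R E)) :=
    Algebra.FiniteType.of_restrictScalars_finiteType R _ _
  haveI : IsNoetherianRing (E ⧸ (maximalIdeal R).map (algebraMap R E)) := by
    letI : Field (R ⧸ maximalIdeal R) := Ideal.Quotient.field _
    exact Algebra.FiniteType.isNoetherianRing (R ⧸ maximalIdeal R) _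
  set mk := Ideal.Quotient.mk ((maximalIdeal R).map (algebraMap R E)) with hmk
  set tE : E := algebraMap R[X] E X with htE
  -- `φ` maps `m E` into `m B`
  have hφm : ∀ e ∈ (maximalIdeal R).map (algebraMap R E),
      φ e ∈ (maximalIdeal R).map (algebraMap R B) := by
    intro e he
    have h1 : ((maximalIdeal R).map (algebraMap R E)).map φ.toRingHom
        = (maximalIdeal R).map (algebraMap R B) := by
      rw [Ideal.map_map]
      congr 1
      ext r
      show φ (algebraMap R E r) = algebraMap R B r
      rw [IsScalarTower.algebraMap_apply R R[X] E, φ.commutes,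
        ← IsScalarTower.algebraMap_apply R R[X] B]
    rw [← h1]
    exact Ideal.mem_map_of_mem _ he
  have hmkR : ∀ r ∈ maximalIdeal R, mk (algebraMap R E r) = 0 := fun r hr =>
    Ideal.Quotient.eq_zero_iff_mem.mpr (Ideal.mem_map_of_mem _ hr)
  -- elements outside `(t)` in the closed fibre map to units of `B`
  have hunit : ∀ e : E, mk e ∉ Ideal.span {mk tE} → IsUnit (φ e) := by
    intro e he
    obtain ⟨r, y, rfl⟩ := exists_eq_algebraMap_add_mul hE e
    have hr : IsUnit r := by
      by_contra hr
      apply he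
      rw [map_add, map_mul, hmkR r ((IsLocalRing.mem_maximalIdeal r).mpr hr), zero_add]
      exact Ideal.mul_mem_right _ _ (Ideal.subset_span (Set.mem_singleton _))
    rw [map_add, map_mul, φ.commutes]
    have : φ (algebraMap R E r) = algebraMap R B r := by
      rw [IsScalarTower.algebraMap_apply R R[X] E, φ.commutes,
        ← IsScalarTower.algebraMap_apply R R[X] B]
    rw [this]
    exact isUnit_algebraMap_add_mul hB r hr (φ y)
  -- `(t)` is maximal in the closed fibre
  have hmax : (Ideal.span {mk tE}).IsMaximal := by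
    rw [Ideal.isMaximal_iff]
    constructor
    · intro h1
      rw [Ideal.mem_span_singleton'] at h1
      obtain ⟨c, hc⟩ := h1
      obtain ⟨c, rfl⟩ := Ideal.Quotient.mk_surjective c
      have hc' : c * tE - 1 ∈ (maximalIdeal R).map (algebraMap R E) := by
        rw [← Ideal.Quotient.eq_zero_iff_mem, map_sub, map_one, map_mul]
        rw [hc, sub_self]
      have h2 := hφm _ hc'
      rw [map_sub, map_mul, map_one, φ.commutes] at h2
      have ht : algebraMap R[X] B X ∈ Ideal.jacobson (⊥ : Ideal B) :=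
        hB.1.jac (Ideal.mem_map_of_mem _ (Ideal.subset_span (Set.mem_singleton _)))
      rw [Ideal.mem_jacobson_bot] at ht
      have h3 := ht (-(φ c))
      have h4 : algebraMap R[X] B X * -φ c + 1 = -(φ c * algebraMap R[X] B X - 1) := by ring
      rw [h4] at h3
      have h5 : (1 : B) ∈ (maximalIdeal R).map (algebraMap R B) := by
        have := Ideal.eq_top_of_isUnit_mem _ (neg_mem h2) h3
        rw [this]; trivial
      -- contradiction via `R[t]/(t, m) → B/(t, m)` injective
      have h6 : algebraMap R[X] B 1 ∈ Ideal.span {algebraMap R[X] B X ^ 1} ⊔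
          (maximalIdeal R).map (algebraMap R B) := by
        rw [map_one]; exact Ideal.mem_sup_right h5
      have h7 := mem_sup_of_algebraMap_mem_sup hB 1 1 h6
      obtain ⟨z, hz, γ, hγ, hzγ⟩ := Submodule.mem_sup.mp h7
      rw [Ideal.mem_span_singleton'] at hz
      obtain ⟨z', rfl⟩ := hz
      rw [Polynomial.algebraMap_eq, Ideal.mem_map_C_iff] at hγ
      have h8 := congrArg (fun p : R[X] => p.coeff 0) hzγ
      simp only [pow_one, coeff_add, mul_coeff_zero, coeff_X_zero, mul_zero, zero_add,
        coeff_one_zero] at h8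
      have h9 := hγ 0
      rw [h8] at h9
      exact (Ideal.ne_top_iff_one _).mp (IsLocalRing.maximalIdeal.isMaximal R).ne_top h9
    · intro J x hJ hx hxJ
      obtain ⟨e, rfl⟩ := Ideal.Quotient.mk_surjective x
      obtain ⟨r, y, rfl⟩ := exists_eq_algebraMap_add_mul hE e
      have hr : IsUnit r := by
        by_contra hr
        apply hx
        rw [map_add, map_mul, hmkR r ((IsLocalRing.mem_maximalIdeal r).mpr hr), zero_add]
        exact Ideal.mul_mem_right _ _ (Ideal.subset_span (Set.mem_singleton _))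
      obtain ⟨v, hv⟩ := hr.exists_left_inv
      have h1 : mk (algebraMap R E r) ∈ J := by
        have : mk (algebraMap R E r) = mk (algebraMap R E r + tE * y) - mk tE * mk y := by
          rw [map_add, map_mul]; ring
        rw [this]
        exact sub_mem hxJ (hJ (Ideal.mul_mem_right _ _ (Ideal.subset_span (Set.mem_singleton _))))
      have h2 : (1 : E ⧸ (maximalIdeal R).map (algebraMap R E))
          = mk (algebraMap R E v) * mk (algebraMap R E r) := by
        rw [← map_mul, ← map_mul, hv, map_one, map_one]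
      rw [h2]
      exact Ideal.mul_mem_left _ _ h1
  rcases exists_mul_eq_mul_pow (mk tE) hmax (mk s) with ⟨g, hg, hgs⟩ | ⟨n, g, g', hg, hg', hgs⟩
  · exfalso
    obtain ⟨g, rfl⟩ := Ideal.Quotient.mk_surjective g
    rw [← map_mul, Ideal.Quotient.eq_zero_iff_mem] at hgs
    have h1 := hφm _ hgs
    rw [map_mul] at h1
    apply hf
    obtain ⟨u, hu⟩ := (hunit g hg).exists_left_inv
    have : φ s = u * (φ g * φ s) := by rw [← mul_assoc, hu, one_mul]
    rw [this]
    exact Ideal.mul_mem_left _ _ h1
  · obtain ⟨g, rfl⟩ := Ideal.Quotient.mk_surjective g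
    obtain ⟨g', rfl⟩ := Ideal.Quotient.mk_surjective g'
    have h0 : g * s - g' * tE ^ n ∈ (maximalIdeal R).map (algebraMap R E) := by
      rw [← Ideal.Quotient.eq_zero_iff_mem, map_sub, map_mul, map_mul, map_pow]
      rw [hgs, sub_self]
    have h1 := hφm _ h0
    rw [map_sub, map_mul, map_mul, map_pow, htE, φ.commutes] at h1
    obtain ⟨U, hU⟩ := hunit g hg
    obtain ⟨U', hU'⟩ := hunit g' hg'
    refine ⟨n, U * U'⁻¹, -((φ g * φ s - φ g' * algebraMap R[X] B X ^ n) * (U'⁻¹ : Bˣ)),
      neg_mem (Ideal.mul_mem_right _ _ h1), ?_⟩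
    rw [← hU, ← hU']
    have hinv : (U' : B) * ((U'⁻¹ : Bˣ) : B) = 1 := by rw [← Units.val_mul, mul_inv_cancel, Units.val_one]
    push_cast
    linear_combination (algebraMap R[X] B X ^ n) * hinv

end Stage1

section Prep

variable {R : Type u} [CommRing R] [HenselianLocalRing R]
  {B : Type u} [CommRing B] [Algebra R B] [Algebra R[X] B] [IsScalarTower R R[X] B]
  (hB : Hens2.IsPairHenselization R[X] (Ideal.span {(X : R[X])}) B)

include hB

/-- an element outside `m B` is a unit times `t ^ n - μ` with `μ ∈ m B`. -/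
theorem exists_unit_mul_eq (f : B) (hf : f ∉ (maximalIdeal R).map (algebraMap R B)) :
    ∃ (n : ℕ) (w : Bˣ) (μ : B), μ ∈ (maximalIdeal R).map (algebraMap R B) ∧
      f * w = algebraMap R[X] B X ^ n - μ := by
  obtain ⟨k, φ, s, rfl⟩ := exists_algHom_apply_eq hB f
  haveI : Algebra.FiniteType R[X] k.C := inferInstance
  haveI : Algebra.FiniteType R k.C := Algebra.FiniteType.trans (S := R[X]) inferInstance inferInstance
  exact exists_unit_mul_eq_of_stage hB k.C k.isNbhd φ s hf

omit hB in
/-- a Weierstrass polynomial is `X ^ n` plus a polynomial with coefficients in `m`. -/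
theorem sub_X_pow_mem (P : R[X]) (hP : P.Monic)
    (hPc : ∀ i : ℕ, i < P.natDegree → P.coeff i ∈ maximalIdeal R) :
    P - X ^ P.natDegree ∈ (maximalIdeal R).map (algebraMap R R[X]) := by
  rw [Polynomial.algebraMap_eq, Ideal.mem_map_C_iff]
  intro i
  rw [Polynomial.coeff_sub, Polynomial.coeff_X_pow]
  rcases lt_trichotomy i P.natDegree with h | h | h
  · rw [if_neg (ne_of_lt h), sub_zero]; exact hPc i h
  · rw [if_pos h, h]
    have : P.coeff P.natDegree = 1 := hP
    rw [this, sub_self]; exact zero_mem _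
  · rw [if_neg (ne_of_gt h), sub_zero, Polynomial.coeff_eq_zero_of_natDegree_lt h]
    exact zero_mem _

/-- `R[t]/(P) → B/(P)` is bijective for a Weierstrass polynomial `P`. -/
theorem weierstrass_quotient (P : R[X]) (hP : P.Monic)
    (hPc : ∀ i : ℕ, i < P.natDegree → P.coeff i ∈ maximalIdeal R) :
    (∀ b : B, ∃ q : R[X], algebraMap R[X] B q - b ∈ Ideal.span {algebraMap R[X] B P}) ∧
    (∀ q : R[X], algebraMap R[X] B q ∈ Ideal.span {algebraMap R[X] B P} → q ∈ Ideal.span {P}) := by
  classical
  have hR : HenselianRing R (maximalIdeal R) := inferInstance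
  have hγ := sub_X_pow_mem P hP hPc
  set n := P.natDegree with hn
  set γ := P - X ^ n with hγdef
  have hPeq : P = X ^ n + γ := by rw [hγdef]; ring
  constructor
  · have hμ : -algebraMap R[X] B γ ∈ (maximalIdeal R).map (algebraMap R B) := by
      have h1 : (maximalIdeal R).map (algebraMap R B)
          = ((maximalIdeal R).map (algebraMap R R[X])).map (algebraMap R[X] B) := by
        rw [Ideal.map_map, ← IsScalarTower.algebraMap_eq]
      rw [h1]
      exact neg_mem (Ideal.mem_map_of_mem _ hγ)
    have hK : algebraMap R[X] B X ^ n - -algebraMap R[X] B γ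
        ∈ Ideal.span {algebraMap R[X] B P} := by
      have : algebraMap R[X] B X ^ n - -algebraMap R[X] B γ = algebraMap R[X] B P := by
        conv_rhs => rw [hPeq]
        rw [map_add, map_pow]; ring
      rw [this]
      exact Ideal.subset_span (Set.mem_singleton _)
    obtain ⟨-, hpoly⟩ := finite_quotient hB _ n _ hμ hK
    intro b
    obtain ⟨q, hq⟩ := hpoly b
    refine ⟨q, ?_⟩
    have : algebraMap R[X] B q - b = -(b - algebraMap R[X] B q) := by ring
    rw [this]
    exact neg_mem hq
  · intro q hq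
    haveI : Module.Finite R (R[X] ⧸ Ideal.span {P}) := hP.finite_quotient
    have hDm : HenselianRing (R[X] ⧸ Ideal.span {P})
        ((maximalIdeal R).map (algebraMap R (R[X] ⧸ Ideal.span {P}))) :=
      henselianRing_map_of_isIntegral hR _
    set mkP := Ideal.Quotient.mk (Ideal.span {P}) with hmkP
    have htD : mkP X ^ n ∈ (maximalIdeal R).map (algebraMap R (R[X] ⧸ Ideal.span {P})) := by
      have h1 : mkP X ^ n = - mkP γ := by
        rw [← map_pow, ← map_neg, Ideal.Quotient.eq, sub_neg_eq_add, ← hPeq]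
        exact Ideal.subset_span (Set.mem_singleton _)
      have h2 : (maximalIdeal R).map (algebraMap R (R[X] ⧸ Ideal.span {P}))
          = ((maximalIdeal R).map (algebraMap R R[X])).map mkP :=
        (Ideal.map_map (algebraMap R R[X]) mkP).symm
      rw [h1, h2]
      exact neg_mem (Ideal.mem_map_of_mem _ hγ)
    have hDt : HenselianRing (R[X] ⧸ Ideal.span {P}) (Ideal.span {mkP X}) := by
      refine Groth.Agent.Lib.helper12.henselianRing_of_le
        (Groth.Agent.Lib.helper12.henselianRing_radical hDm) ?_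
      rw [Ideal.span_singleton_le_iff_mem]
      exact ⟨n, htD⟩
    obtain ⟨g, hg, -⟩ := hB.2 _ (Ideal.span {mkP X}) mkP hDt
      (by rw [Ideal.map_span, Set.image_singleton])
    rw [Ideal.mem_span_singleton'] at hq
    obtain ⟨c, hc⟩ := hq
    have h1 : g (algebraMap R[X] B q) = 0 := by
      rw [← hc, map_mul]
      have : g (algebraMap R[X] B P) = mkP P := RingHom.congr_fun hg P
      rw [this, Ideal.Quotient.eq_zero_iff_mem.mpr (Ideal.subset_span (Set.mem_singleton _)),
        mul_zero]
    have h2 : g (algebraMap R[X] B q) = mkP q := RingHom.congr_fun hg q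
    rw [h2, Ideal.Quotient.eq_zero_iff_mem] at h1
    exact h1

end Prep

section Exist

variable {R : Type u} [CommRing R] [HenselianLocalRing R]
  {B : Type u} [CommRing B] [Algebra R B] [Algebra R[X] B] [IsScalarTower R R[X] B]
  (hB : Hens2.IsPairHenselization R[X] (Ideal.span {(X : R[X])}) B)

include hB

/-- existence of the Weierstrass polynomial (before showing the cofactor is a unit). -/
theorem exists_monic_mem_span (f : B) (n : ℕ) (w : Bˣ) (μ : B)
    (hμ : μ ∈ (maximalIdeal R).map (algebraMap R B))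
    (hw : f * w = algebraMap R[X] B X ^ n - μ) :
    ∃ r : R[X], r.degree < n ∧ algebraMap R[X] B (X ^ n - r) ∈ Ideal.span {f} := by
  classical
  have hK : algebraMap R[X] B X ^ n - μ ∈ Ideal.span {f} := by
    rw [← hw]; exact Ideal.mul_mem_right _ _ (Ideal.subset_span (Set.mem_singleton _))
  obtain ⟨hfin, hpoly⟩ := finite_quotient hB (Ideal.span {f}) n μ hμ hK
  set K := Ideal.span {f} with hKdef
  let ℓ : R[X] →ₗ[R] B ⧸ K :=
    ((Ideal.Quotient.mkₐ R K).comp (IsScalarTower.toAlgHom R R[X] B)).toLinearMap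
  have hℓ : ∀ p, ℓ p = Ideal.Quotient.mk K (algebraMap R[X] B p) := fun p => rfl
  have hmC : ∀ y ∈ (maximalIdeal R).map (algebraMap R B), ∀ b : B,
      Ideal.Quotient.mk K (y * b) ∈ (maximalIdeal R) • (⊤ : Submodule R (B ⧸ K)) := by
    intro y hy b
    rw [Ideal.smul_top_eq_map]
    show _ ∈ (maximalIdeal R).map (algebraMap R (B ⧸ K))
    have : (maximalIdeal R).map (algebraMap R (B ⧸ K))
        = ((maximalIdeal R).map (algebraMap R B)).map (Ideal.Quotient.mk K) :=
      (Ideal.map_map (algebraMap R B) (Ideal.Quotient.mk K)).symm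
    rw [this]
    exact Ideal.mem_map_of_mem _ (Ideal.mul_mem_right _ _ hy)
  have htop : (⊤ : Submodule R (B ⧸ K)) ≤
      Submodule.map ℓ (degreeLT R n) ⊔ (maximalIdeal R) • (⊤ : Submodule R (B ⧸ K)) := by
    intro c _
    obtain ⟨b, rfl⟩ := Ideal.Quotient.mk_surjective c
    obtain ⟨p, hp⟩ := hpoly b
    have h1 : Ideal.Quotient.mk K b = ℓ p := by rw [hℓ, Ideal.Quotient.eq]; exact hp
    have h2 := Polynomial.modByMonic_add_div p (X ^ n : R[X])
    rw [h1, ← h2, map_add]
    refine Submodule.add_mem_sup ?_ ?_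
    · refine Submodule.mem_map_of_mem ?_
      rw [Polynomial.mem_degreeLT]
      have := Polynomial.degree_modByMonic_lt p (Polynomial.monic_X_pow (R := R) n)
      rwa [Polynomial.degree_X_pow] at this
    · rw [hℓ, map_mul, map_pow]
      have h3 : Ideal.Quotient.mk K (algebraMap R[X] B X ^ n * algebraMap R[X] B (p /ₘ X ^ n))
          = Ideal.Quotient.mk K (μ * algebraMap R[X] B (p /ₘ X ^ n)) := by
        rw [Ideal.Quotient.eq, ← sub_mul]; exact Ideal.mul_mem_right _ _ hK
      rw [h3]
      exact hmC μ hμ _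
  have hN : Submodule.map ℓ (degreeLT R n) = ⊤ := by
    refine top_le_iff.mp
      (Submodule.le_of_le_smul_of_le_jacobson_bot (Module.finite_def.mp hfin) ?_ htop)
    exact IsLocalRing.maximalIdeal_le_jacobson _
  have hmem : ℓ (X ^ n) ∈ Submodule.map ℓ (degreeLT R n) := by rw [hN]; trivial
  obtain ⟨r, hr, hrX⟩ := hmem
  refine ⟨r, Polynomial.mem_degreeLT.mp hr, ?_⟩
  rw [← Ideal.Quotient.eq_zero_iff_mem, ← hℓ, map_sub, hrX, sub_self]

/-- **Weierstrass preparation, existence.** -/
theorem exists_weierstrass (f : B) (hf : f ∉ (maximalIdeal R).map (algebraMap R B)) :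
    ∃ (P : R[X]) (u : Bˣ), P.Monic ∧ (∀ i : ℕ, i < P.natDegree → P.coeff i ∈ maximalIdeal R) ∧
      f = algebraMap R[X] B P * (u : B) := by
  classical
  obtain ⟨n, w, μ, hμ, hw⟩ := exists_unit_mul_eq hB f hf
  obtain ⟨r, hr, hPf⟩ := exists_monic_mem_span hB f n w μ hμ hw
  set P : R[X] := X ^ n - r with hPdef
  have hPm : P.Monic := Polynomial.monic_X_pow_sub hr
  have hPn : P.natDegree = n := by
    have : P.degree = n := by
      rw [hPdef, Polynomial.degree_sub_eq_left_of_degree_lt (by rwa [Polynomial.degree_X_pow]),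
        Polynomial.degree_X_pow]
    exact Polynomial.natDegree_eq_of_degree_eq_some this
  obtain ⟨h, hh⟩ := Ideal.mem_span_singleton'.mp hPf
  set t := algebraMap R[X] B X with ht
  set wi : B := ((w⁻¹ : Bˣ) : B) with hwidef
  have hwi : (w : B) * wi = 1 := by rw [hwidef, ← Units.val_mul, mul_inv_cancel, Units.val_one]
  have hmB : (maximalIdeal R).map (algebraMap R B)
      = ((maximalIdeal R).map (algebraMap R R[X])).map (algebraMap R[X] B) := by
    rw [Ideal.map_map, ← IsScalarTower.algebraMap_eq]
  have h1 : algebraMap R[X] B P ∈ Ideal.span {t ^ n} ⊔ (maximalIdeal R).map (algebraMap R B) := by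
    have : algebraMap R[X] B P = t ^ n * (h * wi) + μ * (-(h * wi)) := by
      linear_combination (-1 : B) * hh + (h * wi) * hw - (h * f) * hwi
    rw [this]
    exact Submodule.add_mem_sup (Ideal.mul_mem_right _ _ (Ideal.subset_span (Set.mem_singleton _)))
      (Ideal.mul_mem_right _ _ hμ)
  have h2 := mem_sup_of_algebraMap_mem_sup hB n P h1
  have hPc : ∀ i : ℕ, i < n → P.coeff i ∈ maximalIdeal R := by
    obtain ⟨z, hz, γ, hγ, hzγ⟩ := Submodule.mem_sup.mp h2
    obtain ⟨c, rfl⟩ := Ideal.mem_span_singleton'.mp hz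
    rw [Polynomial.algebraMap_eq, Ideal.mem_map_C_iff] at hγ
    intro i hi
    rw [← hzγ, Polynomial.coeff_add, Polynomial.coeff_mul_X_pow', if_neg (not_le.mpr hi), zero_add]
    exact hγ i
  have hrm : r ∈ (maximalIdeal R).map (algebraMap R R[X]) := by
    rw [Polynomial.algebraMap_eq, Ideal.mem_map_C_iff]
    intro i
    by_cases hi : i < n
    · have := hPc i hi
      rw [hPdef, Polynomial.coeff_sub, Polynomial.coeff_X_pow, if_neg (ne_of_lt hi), zero_sub] at this
      exact neg_mem_iff.mp this
    · rw [Polynomial.coeff_eq_zero_of_degree_lt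
        (lt_of_lt_of_le hr (by exact_mod_cast not_lt.mp hi))]
      exact zero_mem _
  have hnbB := isNbhd_of_isPairHenselization _ hB
  have hhu : IsUnit h := by
    obtain ⟨ρ, y, hρy⟩ := exists_eq_algebraMap_add_mul hnbB h
    by_cases hρ : IsUnit ρ
    · rw [hρy]; exact isUnit_algebraMap_add_mul hB ρ hρ y
    · exfalso
      have hρm : ρ ∈ maximalIdeal R := (IsLocalRing.mem_maximalIdeal ρ).mpr hρ
      have hh' : h * f = t ^ n - algebraMap R[X] B r := by
        rw [hh, hPdef, map_sub, map_pow]
      have h3 : algebraMap R[X] B (X ^ n) ∈ Ideal.span {t ^ (n + 1)} ⊔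
          (maximalIdeal R).map (algebraMap R B) := by
        have key : algebraMap R[X] B (X ^ n) = t ^ (n + 1) * (y * wi) +
            (algebraMap R B ρ * (t ^ n * wi) + μ * (-(h * wi)) + algebraMap R[X] B r) := by
          rw [map_pow]
          linear_combination (-1 : B) * hh' + (h * wi) * hw - (h * f) * hwi + (wi * t ^ n) * hρy
        rw [key]
        refine Submodule.add_mem_sup
          (Ideal.mul_mem_right _ _ (Ideal.subset_span (Set.mem_singleton _))) ?_
        refine add_mem (add_mem (Ideal.mul_mem_right _ _ (Ideal.mem_map_of_mem _ hρm))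
          (Ideal.mul_mem_right _ _ hμ)) ?_
        rw [hmB]
        exact Ideal.mem_map_of_mem _ hrm
      have h4 := mem_sup_of_algebraMap_mem_sup hB (n + 1) (X ^ n) h3
      obtain ⟨z, hz, γ, hγ, hzγ⟩ := Submodule.mem_sup.mp h4
      obtain ⟨c, rfl⟩ := Ideal.mem_span_singleton'.mp hz
      rw [Polynomial.algebraMap_eq, Ideal.mem_map_C_iff] at hγ
      have h5 := congrArg (fun p : R[X] => p.coeff n) hzγ
      simp only [Polynomial.coeff_add] at h5
      rw [Polynomial.coeff_mul_X_pow', if_neg (by omega), zero_add, Polynomial.coeff_X_pow,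
        if_pos rfl] at h5
      have h6 := hγ n
      rw [h5] at h6
      exact (Ideal.ne_top_iff_one _).mp (IsLocalRing.maximalIdeal.isMaximal R).ne_top h6
  obtain ⟨hu, rfl⟩ := hhu
  refine ⟨P, hu⁻¹, hPm, by rw [hPn]; exact hPc, ?_⟩
  rw [← hh]
  have : ((hu⁻¹ : Bˣ) : B) * (hu : B) = 1 := by rw [← Units.val_mul, inv_mul_cancel, Units.val_one]
  linear_combination (-f) * this

omit hB in
theorem natDegree_le_of_monic_dvd {P P' : R[X]} (hP' : P'.Monic) (hP : P.Monic) (h : P' ∣ P) :
    P'.natDegree ≤ P.natDegree := by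
  obtain ⟨c, rfl⟩ := h
  have hc : c ≠ 0 := by
    rintro rfl
    rw [mul_zero] at hP
    exact hP.ne_zero rfl
  rw [hP'.natDegree_mul' hc]
  exact Nat.le_add_right _ _

/-- **Weierstrass preparation, uniqueness.** -/
theorem weierstrass_unique (P P' : R[X]) (u u' : Bˣ) (hP : P.Monic)
    (hPc : ∀ i : ℕ, i < P.natDegree → P.coeff i ∈ maximalIdeal R) (hP' : P'.Monic)
    (hPc' : ∀ i : ℕ, i < P'.natDegree → P'.coeff i ∈ maximalIdeal R)
    (h : algebraMap R[X] B P * (u : B) = algebraMap R[X] B P' * (u' : B)) : P = P' ∧ u = u' := by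
  have hu : ((u⁻¹ : Bˣ) : B) * (u : B) = 1 := by rw [← Units.val_mul, inv_mul_cancel, Units.val_one]
  have hu' : ((u'⁻¹ : Bˣ) : B) * (u' : B) = 1 := by
    rw [← Units.val_mul, inv_mul_cancel, Units.val_one]
  have h1 : P ∣ P' := by
    rw [← Ideal.mem_span_singleton]
    apply (weierstrass_quotient hB P hP hPc).2
    rw [Ideal.mem_span_singleton']
    refine ⟨(u : B) * ((u'⁻¹ : Bˣ) : B), ?_⟩
    linear_combination ((u'⁻¹ : Bˣ) : B) * h + (algebraMap R[X] B P') * hu'
  have h2 : P' ∣ P := by
    rw [← Ideal.mem_span_singleton]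
    apply (weierstrass_quotient hB P' hP' hPc').2
    rw [Ideal.mem_span_singleton']
    refine ⟨(u' : B) * ((u⁻¹ : Bˣ) : B), ?_⟩
    linear_combination (-((u⁻¹ : Bˣ) : B)) * h + (algebraMap R[X] B P) * hu
  have hPP : P' = P :=
    Polynomial.eq_of_monic_of_dvd_of_natDegree_le hP hP' h1 (natDegree_le_of_monic_dvd hP' hP h2)
  subst hPP
  refine ⟨rfl, ?_⟩
  haveI : Module.Flat R[X] B := flat_of_isPairHenselization hB
  have hreg : IsSMulRegular B (algebraMap R[X] B P') :=
    IsSMulRegular.of_flat hP'.isRegular.left.isSMulRegular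
  apply Units.ext
  exact hreg (by simpa [smul_eq_mul] using h)

end Exist

end Groth.Agent.Lib.helper12.HensWeierstrass
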