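import Mathlib

/-!
Henselian local rings lift along surjections with square-zero kernel, and the fibre product
`S ×_{B/I} B` used to prove formal étaleness of (strict) henselizations.
-/

namespace Groth.Agent.Lib.helper12

open Polynomial IsLocalRing

universe u

section Newton

variable {T S : Type*} [CommRing T] [CommRing S]

theorem isUnit_of_map_isUnit_of_sq_zero (π : T →+* S) (hπ : Function.Surjective π)
    (hker : ∀ x ∈ RingHom.ker π, ∀ y ∈ RingHom.ker π, x * y = 0) (t : T) (ht : IsUnit (π t)) :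
    IsUnit t := by
  obtain ⟨v, hv⟩ := ht.exists_right_inv
  obtain ⟨t', rfl⟩ := hπ v
  have hk : t * t' - 1 ∈ RingHom.ker π := by
    rw [RingHom.mem_ker, map_sub, map_mul, hv, map_one, sub_self]
  have h0 := hker _ hk _ hk
  refine IsUnit.of_mul_eq_one (t' * (1 - (t * t' - 1))) ?_
  have : t * (t' * (1 - (t * t' - 1))) = 1 - (t * t' - 1) * (t * t' - 1) := by ring
  rw [this, h0, sub_zero]

theorem isLocalHom_of_surjective_sq_zero (π : T →+* S) (hπ : Function.Surjective π)
    (hker : ∀ x ∈ RingHom.ker π, ∀ y ∈ RingHom.ker π, x * y = 0) : IsLocalHom π :=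
  ⟨fun t ht => isUnit_of_map_isUnit_of_sq_zero π hπ hker t ht⟩

theorem isLocalRing_of_surjective_sq_zero [IsLocalRing S] (π : T →+* S)
    (hπ : Function.Surjective π)
    (hker : ∀ x ∈ RingHom.ker π, ∀ y ∈ RingHom.ker π, x * y = 0) : IsLocalRing T :=
  haveI := isLocalHom_of_surjective_sq_zero π hπ hker
  π.domain_isLocalRing

theorem henselianLocalRing_of_surjective_sq_zero [HenselianLocalRing S] (π : T →+* S)
    (hπ : Function.Surjective π)
    (hker : ∀ x ∈ RingHom.ker π, ∀ y ∈ RingHom.ker π, x * y = 0) : HenselianLocalRing T := by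
  have hloc := isLocalHom_of_surjective_sq_zero π hπ hker
  have : IsLocalRing T := isLocalRing_of_surjective_sq_zero π hπ hker
  have hmax : ∀ t : T, t ∈ maximalIdeal T ↔ π t ∈ maximalIdeal S := by
    intro t
    rw [mem_maximalIdeal, mem_maximalIdeal, mem_nonunits_iff, mem_nonunits_iff]
    exact not_congr ⟨fun h => h.map π, fun h => hloc.map_nonunit t h⟩
  refine ⟨fun f hf a₀ h₁ h₂ => ?_⟩
  have hfm : (f.map π).Monic := hf.map π
  have e1 : (f.map π).eval (π a₀) ∈ maximalIdeal S := by
    rw [Polynomial.eval_map, Polynomial.eval₂_at_apply]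
    exact (hmax _).1 h₁
  have e2 : IsUnit ((f.map π).derivative.eval (π a₀)) := by
    rw [Polynomial.derivative_map, Polynomial.eval_map, Polynomial.eval₂_at_apply]
    exact h₂.map π
  obtain ⟨ā, hā, hā'⟩ := HenselianLocalRing.is_henselian (f.map π) hfm (π a₀) e1 e2
  obtain ⟨a₁, rfl⟩ := hπ ā
  have hk : f.eval a₁ ∈ RingHom.ker π := by
    rw [RingHom.mem_ker, ← Polynomial.eval₂_at_apply, ← Polynomial.eval_map]
    exact hā
  have hu : IsUnit (f.derivative.eval a₁) := by
    apply hloc.map_nonunit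
    rw [← Polynomial.eval₂_at_apply, ← Polynomial.eval_map, ← Polynomial.derivative_map]
    have hdvd : π a₁ - π a₀ ∣ (f.map π).derivative.eval (π a₁) - (f.map π).derivative.eval (π a₀) :=
      Polynomial.sub_dvd_eval_sub _ _ _
    have hmem : (f.map π).derivative.eval (π a₁) - (f.map π).derivative.eval (π a₀)
        ∈ maximalIdeal S := by
      obtain ⟨c, hc⟩ := hdvd
      rw [hc]
      exact Ideal.mul_mem_right _ _ hā'
    by_contra hnu
    have h3 : (f.map π).derivative.eval (π a₁) ∈ maximalIdeal S := hnu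
    have h4 : (f.map π).derivative.eval (π a₀) ∈ maximalIdeal S := by
      have := (maximalIdeal S).sub_mem h3 hmem
      simpa using this
    exact h4 e2
  obtain ⟨u, hu'⟩ := hu.exists_right_inv
  set y : T := -(f.eval a₁ * u) with hy
  have hyk : y ∈ RingHom.ker π := by
    rw [hy]
    exact (RingHom.ker π).neg_mem (Ideal.mul_mem_right _ _ hk)
  have hy2 : y ^ 2 = 0 := by
    rw [pow_two]
    exact hker _ hyk _ hyk
  refine ⟨a₁ + y, ?_, ?_⟩
  · rw [Polynomial.IsRoot.def, Polynomial.eval_add_of_sq_eq_zero _ _ _ hy2, hy]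
    have : f.eval a₁ + f.derivative.eval a₁ * -(f.eval a₁ * u)
        = f.eval a₁ * (1 - f.derivative.eval a₁ * u) := by ring
    rw [this, hu', sub_self, mul_zero]
  · rw [hmax, map_sub, map_add, RingHom.mem_ker.1 hyk, add_zero]
    exact hā'

end Newton

section Nilpotent

variable {R : Type*} [CommRing R] [IsLocalRing R]

/-- In a local ring, a unit plus a nonunit-multiple stays a unit (derivative stays invertible). -/
theorem isUnit_eval_of_sub_mem (g : R[X]) (a b : R) (hab : b - a ∈ maximalIdeal R)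
    (hu : IsUnit (g.eval a)) : IsUnit (g.eval b) := by
  obtain ⟨c, hc⟩ := Polynomial.sub_dvd_eval_sub b a g
  have hmem : g.eval b - g.eval a ∈ maximalIdeal R := by
    rw [hc]
    exact Ideal.mul_mem_right _ _ hab
  by_contra hnu
  have h3 : g.eval b ∈ maximalIdeal R := hnu
  have h4 : g.eval a ∈ maximalIdeal R := by
    have := (maximalIdeal R).sub_mem h3 hmem
    simpa using this
  exact h4 hu

theorem newton_nilpotent (f : R[X]) (k : ℕ) :
    ∀ a : R, f.eval a ^ (2 ^ k) = 0 → f.eval a ∈ maximalIdeal R → IsUnit (f.derivative.eval a) →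
      ∃ a' : R, f.IsRoot a' ∧ a' - a ∈ maximalIdeal R := by
  induction k with
  | zero =>
    intro a h0 _ _
    refine ⟨a, ?_, ?_⟩
    · simpa using h0
    · simp
  | succ k ih =>
    intro a h0 hm hu
    obtain ⟨u, hu'⟩ := hu.exists_right_inv
    set y : R := -(f.eval a * u) with hy
    obtain ⟨c, hc⟩ := Polynomial.exists_mul_sq_add_linear_part_eq_eval_add f a y
    have hym : y ∈ maximalIdeal R := by
      rw [hy]
      exact (maximalIdeal R).neg_mem (Ideal.mul_mem_right _ _ hm)
    have hval : f.eval (a + y) = c * u ^ 2 * f.eval a ^ 2 := by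
      rw [← hc, hy]
      have : c * (-(f.eval a * u)) ^ 2 + f.derivative.eval a * -(f.eval a * u) + f.eval a
          = c * u ^ 2 * f.eval a ^ 2 + f.eval a * (1 - f.derivative.eval a * u) := by ring
      rw [this, hu', sub_self, mul_zero, add_zero]
    have h1 : f.eval (a + y) ^ (2 ^ k) = 0 := by
      rw [hval, mul_pow, ← pow_mul, ← pow_succ', h0, mul_zero]
    have h2 : f.eval (a + y) ∈ maximalIdeal R := by
      rw [hval]
      exact Ideal.mul_mem_left _ _ (Ideal.pow_mem_of_mem _ hm 2 (by norm_num))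
    have h3 : IsUnit (f.derivative.eval (a + y)) :=
      isUnit_eval_of_sub_mem _ a (a + y) (by simpa using hym) hu
    obtain ⟨a', ha', ha''⟩ := ih (a + y) h1 h2 h3
    refine ⟨a', ha', ?_⟩
    have : a' - a = (a' - (a + y)) + y := by ring
    rw [this]
    exact (maximalIdeal R).add_mem ha'' hym

/-- A local ring whose maximal ideal consists of nilpotent elements is henselian. -/
theorem henselianLocalRing_of_forall_isNilpotent
    (h : ∀ x ∈ maximalIdeal R, IsNilpotent x) : HenselianLocalRing R := by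
  refine ⟨fun f _ a₀ h₁ h₂ => ?_⟩
  obtain ⟨n, hn⟩ := h _ h₁
  refine newton_nilpotent f n a₀ ?_ h₁ h₂
  exact pow_eq_zero_of_le (Nat.lt_two_pow_self).le hn

end Nilpotent

section FibreProduct

variable {S B : Type u} [CommRing S] [CommRing B] (I : Ideal B) (φ : S →+* B ⧸ I)

/-- The fibre product `S ×_{B/I} B` as a subring of `S × B`. -/
def fibreProd : Subring (S × B) :=
  RingHom.eqLocus (φ.comp (RingHom.fst S B)) ((Ideal.Quotient.mk I).comp (RingHom.snd S B))

theorem mem_fibreProd {x : S × B} : x ∈ fibreProd I φ ↔ φ x.1 = Ideal.Quotient.mk I x.2 :=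
  Iff.rfl

/-- First projection of the fibre product. -/
def fibreProdFst : fibreProd I φ →+* S := (RingHom.fst S B).comp (fibreProd I φ).subtype

/-- Second projection of the fibre product. -/
def fibreProdSnd : fibreProd I φ →+* B := (RingHom.snd S B).comp (fibreProd I φ).subtype

theorem fibreProd_comm (t : fibreProd I φ) :
    φ (fibreProdFst I φ t) = Ideal.Quotient.mk I (fibreProdSnd I φ t) := t.2

theorem fibreProdFst_surjective : Function.Surjective (fibreProdFst I φ) := by
  intro s
  obtain ⟨b, hb⟩ := Ideal.Quotient.mk_surjective (φ s)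
  exact ⟨⟨(s, b), hb.symm⟩, rfl⟩

theorem fibreProd_ker_mul (hI : I ^ 2 = ⊥) :
    ∀ x ∈ RingHom.ker (fibreProdFst I φ), ∀ y ∈ RingHom.ker (fibreProdFst I φ), x * y = 0 := by
  intro x hx y hy
  have hx1 : (x : S × B).1 = 0 := hx
  have hy1 : (y : S × B).1 = 0 := hy
  have hx2 : (x : S × B).2 ∈ I := by
    rw [← Ideal.Quotient.eq_zero_iff_mem, ← (mem_fibreProd I φ).1 x.2, hx1, map_zero]
  have hy2 : (y : S × B).2 ∈ I := by
    rw [← Ideal.Quotient.eq_zero_iff_mem, ← (mem_fibreProd I φ).1 y.2, hy1, map_zero]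
  apply Subtype.ext
  apply Prod.ext
  · change (x : S × B).1 * (y : S × B).1 = 0
    rw [hx1, zero_mul]
  · change (x : S × B).2 * (y : S × B).2 = 0
    have : (x : S × B).2 * (y : S × B).2 ∈ I ^ 2 := by
      rw [pow_two]
      exact Ideal.mul_mem_mul hx2 hy2
    rw [hI] at this
    exact this

/-- Map into the fibre product from a compatible pair of maps. -/
def fibreProdLift {A : Type*} [CommRing A] (f : A →+* S) (g : A →+* B)
    (h : ∀ a, φ (f a) = Ideal.Quotient.mk I (g a)) : A →+* fibreProd I φ :=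
  (f.prod g).codRestrict (fibreProd I φ) (fun a => h a)

@[simp] theorem fibreProdFst_lift {A : Type*} [CommRing A] (f : A →+* S) (g : A →+* B)
    (h : ∀ a, φ (f a) = Ideal.Quotient.mk I (g a)) (a : A) :
    fibreProdFst I φ (fibreProdLift I φ f g h a) = f a := rfl

@[simp] theorem fibreProdSnd_lift {A : Type*} [CommRing A] (f : A →+* S) (g : A →+* B)
    (h : ∀ a, φ (f a) = Ideal.Quotient.mk I (g a)) (a : A) :
    fibreProdSnd I φ (fibreProdLift I φ f g h a) = g a := rfl

theorem fibreProd_ext {x y : fibreProd I φ} (h1 : fibreProdFst I φ x = fibreProdFst I φ y)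
    (h2 : fibreProdSnd I φ x = fibreProdSnd I φ y) : x = y :=
  Subtype.ext (Prod.ext h1 h2)

theorem fibreProd_henselian [HenselianLocalRing S] (hI : I ^ 2 = ⊥) :
    HenselianLocalRing (fibreProd I φ) :=
  henselianLocalRing_of_surjective_sq_zero (fibreProdFst I φ) (fibreProdFst_surjective I φ)
    (fibreProd_ker_mul I φ hI)

theorem fibreProdFst_isLocalHom (hI : I ^ 2 = ⊥) : IsLocalHom (fibreProdFst I φ) :=
  isLocalHom_of_surjective_sq_zero (fibreProdFst I φ) (fibreProdFst_surjective I φ)
    (fibreProd_ker_mul I φ hI)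

end FibreProduct

end Groth.Agent.Lib.helper12
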