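import Mathlib
import Groth.Prelude.Def_Hensel
import Groth.Agent.Lib.Helper12.HenselSqZero

/-!
Consequences of the universal property of a henselization (`Hensel.IsHenselization`):
`R/𝔪ⁿ → S/𝔪ⁿS` is bijective.
-/

namespace Groth.Agent.Lib.helper12

open Polynomial IsLocalRing

universe u

/-- A quotient of a henselian local ring by a proper ideal is henselian local. -/
theorem henselianLocalRing_of_surjective {S T : Type u} [CommRing S] [CommRing T]
    [HenselianLocalRing S] [IsLocalRing T] (π : S →+* T) (hπ : Function.Surjective π) :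
    HenselianLocalRing T := by
  apply ((HenselianLocalRing.TFAE T).out 0 1).2
  intro f hf a₀ h₁ h₂
  obtain ⟨q, hq, -, hqm⟩ :=
    lifts_and_natDegree_eq_and_monic (mem_lifts_of_surjective hπ f) hf
  have H := ((HenselianLocalRing.TFAE S).out 0 2).1 ‹HenselianLocalRing S›
  have hφ : Function.Surjective ((residue T).comp π) :=
    (residue_surjective).comp hπ
  rw [aeval_def, ResidueField.algebraMap_eq, ← hq] at h₁ h₂
  rw [derivative_map] at h₂
  rw [eval₂_map] at h₁ h₂
  obtain ⟨a, ha, ha'⟩ := H ((residue T).comp π) hφ q hqm a₀ h₁ h₂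
  refine ⟨π a, ?_, ha'⟩
  rw [← hq, IsRoot.def, eval_map, eval₂_at_apply, ha.eq_zero, map_zero]

theorem henselianLocalRing_quotient {S : Type u} [CommRing S] [HenselianLocalRing S]
    (J : Ideal S) (hJ : J ≠ ⊤) : HenselianLocalRing (S ⧸ J) := by
  have : Nontrivial (S ⧸ J) := Ideal.Quotient.nontrivial_iff.2 hJ
  have : IsLocalRing (S ⧸ J) :=
    IsLocalRing.of_surjective' (Ideal.Quotient.mk J) Ideal.Quotient.mk_surjective
  exact henselianLocalRing_of_surjective (Ideal.Quotient.mk J) Ideal.Quotient.mk_surjective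

theorem henselianLocalRing_quotient_maximalIdeal_pow (R : Type u) [CommRing R] [IsLocalRing R]
    (n : ℕ) (hn : n ≠ 0) : HenselianLocalRing (R ⧸ maximalIdeal R ^ n) := by
  have hne : maximalIdeal R ^ n ≠ ⊤ := by
    intro h
    have : maximalIdeal R ^ n ≤ maximalIdeal R := Ideal.pow_le_self hn
    rw [h] at this
    exact (maximalIdeal.isMaximal R).ne_top (top_le_iff.1 this)
  have : Nontrivial (R ⧸ maximalIdeal R ^ n) := Ideal.Quotient.nontrivial_iff.2 hne
  have : IsLocalRing (R ⧸ maximalIdeal R ^ n) :=
    IsLocalRing.of_surjective' (Ideal.Quotient.mk _) Ideal.Quotient.mk_surjective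
  apply henselianLocalRing_of_forall_isNilpotent
  intro x hx
  obtain ⟨r, rfl⟩ := Ideal.Quotient.mk_surjective x
  have hloc : IsLocalHom (Ideal.Quotient.mk (maximalIdeal R ^ n)) :=
    IsLocalHom.of_surjective _ Ideal.Quotient.mk_surjective
  have hr : r ∈ maximalIdeal R := by
    by_contra h
    have hu : IsUnit r := by
      by_contra h'
      exact h h'
    exact hx (hu.map _)
  refine ⟨n, ?_⟩
  rw [← map_pow, Ideal.Quotient.eq_zero_iff_mem]
  exact Ideal.pow_mem_pow hr n

/-- For a henselization `R → S`, `R/𝔪ⁿ → S/𝔪ⁿS` is bijective. -/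
theorem henselization_quotientMap_pow_bijective (R : Type u) [CommRing R] [IsLocalRing R]
    (S : Type u) [CommRing S] [IsLocalRing S]
    [Algebra R S] [IsLocalHom (algebraMap R S)] [Hensel.IsHenselization R S] (n : ℕ) :
    Function.Bijective (Ideal.quotientMap
      (Ideal.map (algebraMap R S) (IsLocalRing.maximalIdeal R ^ n)) (algebraMap R S)
      Ideal.le_comap_map) := by
  rcases Nat.eq_zero_or_pos n with rfl | hn
  · -- both sides are trivial rings
    have h1 : Subsingleton (R ⧸ maximalIdeal R ^ 0) := by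
      rw [pow_zero, Ideal.one_eq_top]
      exact Ideal.Quotient.subsingleton_iff.2 rfl
    have h2 : Subsingleton (S ⧸ Ideal.map (algebraMap R S) (maximalIdeal R ^ 0)) := by
      rw [pow_zero, Ideal.one_eq_top, Ideal.map_top]
      exact Ideal.Quotient.subsingleton_iff.2 rfl
    exact ⟨fun a b _ => Subsingleton.elim a b, fun b => ⟨0, Subsingleton.elim _ _⟩⟩
  have hn' : n ≠ 0 := hn.ne'
  set I := maximalIdeal R ^ n with hI
  set J := Ideal.map (algebraMap R S) I with hJ
  have hS : HenselianLocalRing S := Hensel.IsHenselization.henselian R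
  have hJle : J ≤ maximalIdeal S := by
    refine le_trans (Ideal.map_mono (Ideal.pow_le_self hn')) ?_
    exact map_maximalIdeal_le (algebraMap R S)
  have hJne : J ≠ ⊤ := fun h =>
    (maximalIdeal.isMaximal S).ne_top (top_le_iff.1 (h ▸ hJle))
  have hT1 : HenselianLocalRing (R ⧸ I) := henselianLocalRing_quotient_maximalIdeal_pow R n hn'
  have hT2 : HenselianLocalRing (S ⧸ J) := henselianLocalRing_quotient J hJne
  have hloc1 : IsLocalHom (Ideal.Quotient.mk I) :=
    IsLocalHom.of_surjective _ Ideal.Quotient.mk_surjective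
  have hloc2 : IsLocalHom (Ideal.Quotient.mk J) :=
    IsLocalHom.of_surjective _ Ideal.Quotient.mk_surjective
  obtain ⟨g, hg, -⟩ := Hensel.IsHenselization.universal (R := R) (S := S) (R ⧸ I)
    (Ideal.Quotient.mk I) hloc1
  set ι := Ideal.quotientMap J (algebraMap R S) Ideal.le_comap_map with hι
  have hgalg : ∀ r, g (algebraMap R S r) = Ideal.Quotient.mk I r := fun r =>
    RingHom.congr_fun hg r
  constructor
  · -- injective: `g` induces a retraction
    have hker : ∀ s ∈ J, g s = 0 := by
      intro s hs
      have : J ≤ RingHom.ker g := by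
        rw [hJ, Ideal.map_le_iff_le_comap]
        intro x hx
        rw [Ideal.mem_comap, RingHom.mem_ker, hgalg]
        exact Ideal.Quotient.eq_zero_iff_mem.2 hx
      exact this hs
    let gbar : S ⧸ J →+* R ⧸ I := Ideal.Quotient.lift J g hker
    have hret : ∀ x, gbar (ι x) = x := by
      intro x
      obtain ⟨r, rfl⟩ := Ideal.Quotient.mk_surjective x
      rw [hι, Ideal.quotientMap_mk]
      change g (algebraMap R S r) = _
      exact hgalg r
    exact Function.LeftInverse.injective hret
  · -- surjective: two maps `S → S/J` agree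
    have hlocf : IsLocalHom ((Ideal.Quotient.mk J).comp (algebraMap R S)) :=
      RingHom.isLocalHom_comp _ _
    obtain ⟨g0, -, hg0⟩ := Hensel.IsHenselization.universal (R := R) (S := S) (S ⧸ J)
      ((Ideal.Quotient.mk J).comp (algebraMap R S)) hlocf
    have h1 : Ideal.Quotient.mk J = g0 := hg0 _ rfl
    have h2 : ι.comp g = g0 := by
      apply hg0
      ext r
      rw [RingHom.comp_apply, RingHom.comp_apply, hgalg, hι, Ideal.quotientMap_mk]
      rfl
    intro y
    obtain ⟨s, rfl⟩ := Ideal.Quotient.mk_surjective y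
    refine ⟨g s, ?_⟩
    have := RingHom.congr_fun (h2.trans h1.symm) s
    exact this

end Groth.Agent.Lib.helper12
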