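import Mathlib

set_option linter.style.haveILetI false
set_option linter.unusedSectionVars false

/-!
# Local-global principle for conjugacy of matrices over `A[X]` (Vaserstein/Quillen style)

`lift_scaled` : a polynomial matrix over a localization which is `1` at `Y = 0` lifts after scaling `Y`.
`localGlobal` : if `ε(X)` is conjugate to `ε(0)` over `A_m[X]` for every maximal `m`, then over `A[X]`.
-/

namespace Groth.Agent.Lib.helper12.HorLG

open Polynomial Matrix

variable {ι : Type*} [Fintype ι] [DecidableEq ι]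

section Scale

variable {R : Type*} [CommRing R]

/-- If `w` kills `E` and `E` has no constant term then `E(wY) = 0`. -/
theorem comp_scale_eq_zero (E : R[X]) (w : R) (h0 : E.coeff 0 = 0) (hw : C w * E = 0) :
    E.comp (C w * X) = 0 := by
  ext n
  rw [comp_C_mul_X_coeff, coeff_zero]
  rcases Nat.eq_zero_or_pos n with rfl | hn
  · simp [h0]
  · have h1 : w * E.coeff n = 0 := by
      have := congrArg (fun p => p.coeff n) hw
      simpa [coeff_C_mul] using this
    obtain ⟨k, rfl⟩ : ∃ k, n = k + 1 := ⟨n - 1, by omega⟩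
    rw [pow_succ, mul_comm (w ^ k), ← mul_assoc, mul_comm (E.coeff (k + 1)), h1, zero_mul]

theorem map_mul_sub_one {R' : Type*} [CommRing R'] (f : R →+* R') (M N : Matrix ι ι R) :
    (M * N - 1).map f = M.map f * N.map f - 1 := by
  rw [← RingHom.mapMatrix_apply, map_sub, map_mul, map_one]; rfl

theorem eval_zero_comp_scale (p : R[X]) (w : R) : (p.comp (C w * X)).eval 0 = p.eval 0 := by
  rw [eval_comp]; simp

end Scale

section Kill

variable {R S : Type*} [CommRing R] [CommRing S] [Algebra R S] (W : Submonoid R) [IsLocalization W S]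

/-- finitely many elements mapping to zero are killed by a common element of `W`. -/
theorem exists_kill_finset (G : Finset R) (hG : ∀ a ∈ G, algebraMap R S a = 0) :
    ∃ w ∈ W, ∀ a ∈ G, w * a = 0 := by
  classical
  induction G using Finset.induction_on with
  | empty => exact ⟨1, W.one_mem, by simp⟩
  | insert a G ha ih =>
    obtain ⟨w, hwW, hw⟩ := ih (fun b hb => hG b (Finset.mem_insert_of_mem hb))
    obtain ⟨m, hm⟩ := (IsLocalization.map_eq_zero_iff W S a).mp (hG a (Finset.mem_insert_self _ _))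
    refine ⟨m * w, W.mul_mem m.2 hwW, ?_⟩
    intro b hb
    rcases Finset.mem_insert.mp hb with rfl | hb
    · rw [mul_comm (m : R) w, mul_assoc, hm, mul_zero]
    · rw [mul_assoc, hw b hb, mul_zero]

/-- a polynomial matrix mapping to zero is killed by a common element of `W`. -/
theorem exists_kill_matrix (E : Matrix ι ι R[X])
    (hE : E.map (Polynomial.map (algebraMap R S)) = 0) :
    ∃ w ∈ W, ∀ i j, C w * E i j = 0 := by
  classical
  let G : Finset R := Finset.univ.biUnion fun i => Finset.univ.biUnion fun j => (E i j).coeffs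
  have hG : ∀ a ∈ G, algebraMap R S a = 0 := by
    intro a ha
    simp only [G, Finset.mem_biUnion, Finset.mem_univ, true_and] at ha
    obtain ⟨i, j, ha⟩ := ha
    rw [Polynomial.mem_coeffs_iff] at ha
    obtain ⟨n, -, rfl⟩ := ha
    have := congrFun (congrFun hE i) j
    simp only [Matrix.map_apply, Matrix.zero_apply] at this
    have := congrArg (fun p => p.coeff n) this
    simpa using this
  obtain ⟨w, hwW, hw⟩ := exists_kill_finset W G hG
  refine ⟨w, hwW, fun i j => ?_⟩
  ext n
  rw [coeff_C_mul, coeff_zero]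
  by_cases h : (E i j).coeff n = 0
  · rw [h, mul_zero]
  · apply hw
    simp only [G, Finset.mem_biUnion, Finset.mem_univ, true_and]
    exact ⟨i, j, Polynomial.coeff_mem_coeffs h⟩

end Kill

section Lift

variable {R S : Type*} [CommRing R] [CommRing S] [Algebra R S] (W : Submonoid R) [IsLocalization W S]

/-- entrywise: a polynomial over `S` with constant term `d` (the image of `d₀`) lifts to `R[X]` after
scaling by `w`, if `w` clears the denominators of all its coefficients; the lift has constant term `d₀`. -/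
theorem exists_lift_entry (p : S[X]) (d₀ : R) (hd : p.coeff 0 = algebraMap R S d₀) (w : R)
    (hw : ∀ n, p.coeff n ≠ 0 → ∃ r : R, algebraMap R S r = algebraMap R S w * p.coeff n) :
    ∃ q : R[X], q.map (algebraMap R S) = p.comp (C (algebraMap R S w) * X) ∧ q.coeff 0 = d₀ := by
  have hmem : p.comp (C (algebraMap R S w) * X) ∈ (mapRingHom (algebraMap R S)).range := by
    rw [Polynomial.mem_map_range]
    intro n
    rw [comp_C_mul_X_coeff]
    rcases Nat.eq_zero_or_pos n with rfl | hn
    · rw [pow_zero, mul_one, hd]; exact ⟨d₀, rfl⟩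
    · by_cases h : p.coeff n = 0
      · rw [h, zero_mul]; exact ⟨0, map_zero _⟩
      · obtain ⟨r, hr⟩ := hw n h
        obtain ⟨k, rfl⟩ : ∃ k, n = k + 1 := ⟨n - 1, by omega⟩
        refine ⟨r * w ^ k, ?_⟩
        rw [map_mul, hr, map_pow, pow_succ]; ring
  obtain ⟨q, hq⟩ := hmem
  rw [coe_mapRingHom] at hq
  refine ⟨q - C (q.coeff 0) + C d₀, ?_, by simp⟩
  rw [Polynomial.map_add, Polynomial.map_sub, hq, Polynomial.map_C, Polynomial.map_C]
  have : algebraMap R S (q.coeff 0) = algebraMap R S d₀ := by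
    have := congrArg (fun f => f.coeff 0) hq
    simp only [coeff_map, comp_C_mul_X_coeff, pow_zero, mul_one] at this
    rw [this, hd]
  rw [this]; ring

/-- **Lifting after scaling.** A pair of mutually inverse polynomial matrices over a localization `S` of
`R`, equal to `1` at `Y = 0`, lifts to `R[Y]` after the substitution `Y ↦ wY` for a suitable `w ∈ W`. -/
theorem lift_scaled (β β' : Matrix ι ι S[X]) (h1 : β * β' = 1) (h0 : β.map (eval 0) = 1) :
    ∃ w ∈ W, ∃ Ψ Ψ' : Matrix ι ι R[X], Ψ * Ψ' = 1 ∧ Ψ.map (eval 0) = 1 ∧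
      Ψ.map (Polynomial.map (algebraMap R S)) = β.map (fun p => p.comp (C (algebraMap R S w) * X)) ∧
      Ψ'.map (Polynomial.map (algebraMap R S)) =
        β'.map (fun p => p.comp (C (algebraMap R S w) * X)) := by
  classical
  have h0' : β'.map (eval 0) = 1 := by
    have := congrArg (fun M : Matrix ι ι S[X] => M.map (evalRingHom (0:S))) h1
    simp only [Matrix.map_mul, Matrix.map_one _ (map_zero _) (map_one _)] at this
    rw [coe_evalRingHom, h0, one_mul] at this
    exact this
  -- clear denominators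
  let F : Finset S := Finset.univ.biUnion fun i => Finset.univ.biUnion fun j =>
    (β i j).coeffs ∪ (β' i j).coeffs
  obtain ⟨w₀, hw₀⟩ := IsLocalization.exist_integer_multiples_of_finset W F
  have hint : ∀ (p : S[X]), (∃ i j, p = β i j ∨ p = β' i j) → ∀ n, p.coeff n ≠ 0 →
      ∃ r : R, algebraMap R S r = algebraMap R S w₀ * p.coeff n := by
    rintro p ⟨i, j, hp⟩ n hn
    have hmem : p.coeff n ∈ F := by
      simp only [F, Finset.mem_biUnion, Finset.mem_univ, true_and, Finset.mem_union]
      refine ⟨i, j, ?_⟩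
      rcases hp with rfl | rfl
      · exact Or.inl (Polynomial.coeff_mem_coeffs hn)
      · exact Or.inr (Polynomial.coeff_mem_coeffs hn)
    obtain ⟨r, hr⟩ := hw₀ _ hmem
    exact ⟨r, by rw [hr, Algebra.smul_def]⟩
  have hβ0 : ∀ i j, (β i j).coeff 0 = algebraMap R S (if i = j then 1 else 0) := by
    intro i j
    have := congrFun (congrFun h0 i) j
    simp only [Matrix.map_apply, Matrix.one_apply, ← coeff_zero_eq_eval_zero] at this
    rw [this]; split_ifs <;> simp
  have hβ0' : ∀ i j, (β' i j).coeff 0 = algebraMap R S (if i = j then 1 else 0) := by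
    intro i j
    have := congrFun (congrFun h0' i) j
    simp only [Matrix.map_apply, Matrix.one_apply, ← coeff_zero_eq_eval_zero] at this
    rw [this]; split_ifs <;> simp
  choose Ψ₀ hΨ₀ hΨ₀c using fun i j => exists_lift_entry (β i j) (if i = j then 1 else 0) (hβ0 i j)
    (w₀ : R) (hint _ ⟨i, j, Or.inl rfl⟩)
  choose Ψ₀' hΨ₀' hΨ₀c' using fun i j => exists_lift_entry (β' i j) (if i = j then 1 else 0)
    (hβ0' i j) (w₀ : R) (hint _ ⟨i, j, Or.inr rfl⟩)
  let M₀ : Matrix ι ι R[X] := Matrix.of Ψ₀
  let M₀' : Matrix ι ι R[X] := Matrix.of Ψ₀'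
  have hM₀ : M₀.map (Polynomial.map (algebraMap R S)) =
      β.map (fun p => p.comp (C (algebraMap R S (w₀ : R)) * X)) := by
    refine Matrix.ext fun i j => ?_; simp only [Matrix.map_apply, M₀, Matrix.of_apply, hΨ₀]
  have hM₀' : M₀'.map (Polynomial.map (algebraMap R S)) =
      β'.map (fun p => p.comp (C (algebraMap R S (w₀ : R)) * X)) := by
    refine Matrix.ext fun i j => ?_; simp only [Matrix.map_apply, M₀', Matrix.of_apply, hΨ₀']
  have hM₀0 : M₀.map (eval 0) = 1 := by
    refine Matrix.ext fun i j => ?_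
    simp only [Matrix.map_apply, M₀, Matrix.of_apply, ← coeff_zero_eq_eval_zero, hΨ₀c, Matrix.one_apply]
  have hM₀0' : M₀'.map (eval 0) = 1 := by
    refine Matrix.ext fun i j => ?_
    simp only [Matrix.map_apply, M₀', Matrix.of_apply, ← coeff_zero_eq_eval_zero, hΨ₀c',
      Matrix.one_apply]
  -- the defect
  let E : Matrix ι ι R[X] := M₀ * M₀' - 1
  have hE : E.map (Polynomial.map (algebraMap R S)) = 0 := by
    have e1 : E.map (Polynomial.map (algebraMap R S)) =
        E.map (mapRingHom (algebraMap R S)) := rfl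
    rw [e1]
    simp only [E]
    rw [map_mul_sub_one, show M₀.map (mapRingHom (algebraMap R S)) = _ from hM₀,
      show M₀'.map (mapRingHom (algebraMap R S)) = _ from hM₀']
    have e2 : ∀ M : Matrix ι ι S[X], M.map (fun p => p.comp (C (algebraMap R S (w₀ : R)) * X)) =
        M.map (compRingHom (C (algebraMap R S (w₀ : R)) * X)) := fun M => rfl
    rw [e2, e2, ← Matrix.map_mul, h1, Matrix.map_one _ (map_zero _) (map_one _), sub_self]
  have hE0 : ∀ i j, (E i j).coeff 0 = 0 := by
    intro i j
    have : E.map (evalRingHom (0:R)) = 0 := by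
      simp only [E]
      rw [map_mul_sub_one, coe_evalRingHom, hM₀0, hM₀0', one_mul, sub_self]
    have := congrFun (congrFun this i) j
    simpa [coeff_zero_eq_eval_zero] using this
  obtain ⟨w₁, hw₁W, hw₁⟩ := exists_kill_matrix (S := S) W E hE
  refine ⟨w₀ * w₁, W.mul_mem w₀.2 hw₁W, M₀.map (compRingHom (C w₁ * X)),
    M₀'.map (compRingHom (C w₁ * X)), ?_, ?_, ?_, ?_⟩
  · have : (M₀ * M₀' - 1).map (compRingHom (C w₁ * X)) = 0 := by
      refine Matrix.ext fun i j => ?_
      simp only [Matrix.map_apply, coe_compRingHom, Matrix.zero_apply]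
      exact comp_scale_eq_zero _ _ (hE0 i j) (hw₁ i j)
    rw [map_mul_sub_one, sub_eq_zero] at this
    exact this
  · refine Matrix.ext fun i j => ?_
    have := congrFun (congrFun hM₀0 i) j
    simp only [Matrix.map_apply] at this ⊢
    rw [coe_compRingHom, eval_zero_comp_scale, this]
  · refine Matrix.ext fun i j => ?_
    have := congrFun (congrFun hM₀ i) j
    simp only [Matrix.map_apply] at this ⊢
    rw [coe_compRingHom, Polynomial.map_comp, this, comp_assoc]
    congr 1
    rw [mul_comp, C_comp, X_comp, Polynomial.map_mul, Polynomial.map_C, Polynomial.map_X, map_mul,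
      C_mul, mul_assoc]
  · refine Matrix.ext fun i j => ?_
    have := congrFun (congrFun hM₀' i) j
    simp only [Matrix.map_apply] at this ⊢
    rw [coe_compRingHom, Polynomial.map_comp, this, comp_assoc]
    congr 1
    rw [mul_comp, C_comp, X_comp, Polynomial.map_mul, Polynomial.map_C, Polynomial.map_X, map_mul,
      C_mul, mul_assoc]

end Lift

section Subst

variable {A : Type*} [CommRing A]

/-- `p(X) ↦ p(X + cY)` as a ring hom `A[X] → A[X][Y]`. -/
noncomputable def sh (c : A) : A[X] →+* A[X][X] :=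
  eval₂RingHom (C.comp C) (C X + C (C c) * X)

@[simp] theorem sh_C (c a : A) : sh c (C a) = C (C a) := by simp [sh]
@[simp] theorem sh_X (c : A) : sh c X = C X + C (C c) * X := by simp [sh]

theorem sh_zero : sh (0 : A) = C := by
  apply Polynomial.ringHom_ext <;> simp

/-- `X ↦ X + cY, Y ↦ Y`. -/
noncomputable def kap (c : A) : A[X][X] →+* A[X][X] := eval₂RingHom (sh c) X

theorem kap_comp_C (c : A) : (kap c).comp C = sh c := by
  refine RingHom.ext fun p => ?_; simp [kap]

theorem kap_comp_sh (c c' : A) : (kap c).comp (sh c') = sh (c + c') := by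
  apply Polynomial.ringHom_ext
  · intro a; simp [kap]
  · simp [kap, add_mul, add_assoc]

/-- `Y ↦ rY`. -/
noncomputable def lam (r : A) : A[X][X] →+* A[X][X] := compRingHom (C (C r) * X)

theorem lam_comp_C (r : A) : (lam r).comp C = C := by
  refine RingHom.ext fun p => ?_; simp [lam]

theorem lam_comp_sh (r c : A) : (lam r).comp (sh c) = sh (r * c) := by
  apply Polynomial.ringHom_ext
  · intro a; simp [lam]
  · simp only [lam, RingHom.comp_apply, sh_X, map_add, map_mul, coe_compRingHom, C_comp, X_comp]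
    rw [← mul_assoc, ← C_mul, ← C_mul, mul_comm c r, C_mul, C_mul]

/-- `X ↦ 0, Y ↦ X`. -/
noncomputable def ev0 : A[X][X] →+* A[X] := eval₂RingHom (C.comp (evalRingHom 0)) X

theorem ev0_comp_C : (ev0 (A := A)).comp C = C.comp (evalRingHom 0) := by
  refine RingHom.ext fun p => ?_; simp [ev0]

theorem ev0_comp_sh_one : (ev0 (A := A)).comp (sh 1) = RingHom.id _ := by
  apply Polynomial.ringHom_ext
  · intro a; simp [ev0]
  · simp [ev0]

/-- `Y ↦ 0`. -/
theorem evalY_comp_sh (c : A) : (evalRingHom (0 : A[X])).comp (sh c) = RingHom.id _ := by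
  apply Polynomial.ringHom_ext
  · intro a; simp
  · simp

theorem evalY_comp_C : (evalRingHom (0 : A[X])).comp C = RingHom.id _ := by
  refine RingHom.ext fun p => ?_; simp

end Subst

section LG

variable {A : Type*} [CommRing A]

theorem map_map_hom {R S T : Type*} [Semiring R] [Semiring S] [Semiring T] (f : R →+* S) (g : S →+* T)
    (M : Matrix ι ι R) : (M.map f).map g = M.map (g.comp f) := by
  refine Matrix.ext fun i j => ?_; rfl

theorem map_one_hom {R S : Type*} [Semiring R] [Semiring S] (f : R →+* S) :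
    (1 : Matrix ι ι R).map f = 1 := by
  rw [← RingHom.mapMatrix_apply, map_one]

theorem map_mul_hom {R S : Type*} [Semiring R] [Semiring S] (f : R →+* S) (M N : Matrix ι ι R) :
    (M * N).map f = M.map f * N.map f := by
  rw [← RingHom.mapMatrix_apply, map_mul]; rfl

/-- `c` such that `ε(X)` and `ε(X + cY)` are conjugate over `A[X][Y]`. -/
def Conj (ε : Matrix ι ι A[X]) (c : A) : Prop :=
  ∃ σ σ' : Matrix ι ι A[X][X], σ * σ' = 1 ∧ σ * ε.map C = ε.map (sh c) * σ

theorem conj_zero (ε : Matrix ι ι A[X]) : Conj ε 0 :=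
  ⟨1, 1, one_mul _, by rw [sh_zero, one_mul, mul_one]⟩

theorem conj_add (ε : Matrix ι ι A[X]) {c c' : A} (h : Conj ε c) (h' : Conj ε c') :
    Conj ε (c + c') := by
  obtain ⟨σ, σ', h1, h2⟩ := h
  obtain ⟨ρ, ρ', h3, h4⟩ := h'
  have h5 : ρ.map (kap c) * ε.map (sh c) = ε.map (sh (c + c')) * ρ.map (kap c) := by
    have := congrArg (fun M : Matrix ι ι A[X][X] => M.map (kap c)) h4
    simp only [map_mul_hom, map_map_hom, kap_comp_C, kap_comp_sh] at this
    exact this
  refine ⟨ρ.map (kap c) * σ, σ' * ρ'.map (kap c), ?_, ?_⟩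
  · rw [Matrix.mul_assoc, ← Matrix.mul_assoc σ, h1, Matrix.one_mul, ← map_mul_hom, h3, map_one_hom]
  · rw [Matrix.mul_assoc, h2, ← Matrix.mul_assoc, h5, Matrix.mul_assoc]

theorem conj_smul (ε : Matrix ι ι A[X]) (r : A) {c : A} (h : Conj ε c) : Conj ε (r * c) := by
  obtain ⟨σ, σ', h1, h2⟩ := h
  refine ⟨σ.map (lam r), σ'.map (lam r), ?_, ?_⟩
  · rw [← map_mul_hom, h1, map_one_hom]
  · have := congrArg (fun M : Matrix ι ι A[X][X] => M.map (lam r)) h2
    simp only [map_mul_hom, map_map_hom, lam_comp_C, lam_comp_sh] at this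
    exact this

/-- The Quillen ideal. -/
def conjIdeal (ε : Matrix ι ι A[X]) : Ideal A where
  carrier := {c | Conj ε c}
  zero_mem' := conj_zero ε
  add_mem' := fun h h' => conj_add ε h h'
  smul_mem' := fun r _ h => conj_smul ε r h

theorem conj_one_imp (ε : Matrix ι ι A[X]) (h : Conj ε 1) :
    ∃ σ σ' : Matrix ι ι A[X], σ * σ' = 1 ∧ σ * ε = ε.map (fun p => C (p.eval 0)) * σ := by
  obtain ⟨σ, σ', h1, h2⟩ := h
  refine ⟨σ'.map ev0, σ.map ev0, ?_, ?_⟩
  · rw [← map_mul_hom, (mul_eq_one_comm.mp h1), map_one_hom]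
  · have h3 : ε.map C * σ' = σ' * ε.map (sh 1) := by
      calc ε.map C * σ' = (σ' * σ) * (ε.map C * σ') := by
            rw [(mul_eq_one_comm.mp h1), Matrix.one_mul]
        _ = σ' * (σ * ε.map C) * σ' := by simp only [Matrix.mul_assoc]
        _ = σ' * ε.map (sh 1) := by rw [h2, Matrix.mul_assoc, Matrix.mul_assoc, h1, Matrix.mul_one]
    have := congrArg (fun M : Matrix ι ι A[X][X] => M.map ev0) h3
    simp only [map_mul_hom, map_map_hom, ev0_comp_C, ev0_comp_sh_one] at this
    have e1 : ε.map (RingHom.id A[X]) = ε := by refine Matrix.ext fun i j => ?_; rfl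
    rw [e1] at this
    rw [← this]; rfl

end LG

section LGmain

variable {A : Type*} [CommRing A]

attribute [local instance] Polynomial.algebra

theorem mapmap_comp_sh {B : Type*} [CommRing B] (f : A →+* B) (c : A) :
    (mapRingHom (mapRingHom f)).comp (sh c) = (sh (f c)).comp (mapRingHom f) := by
  apply Polynomial.ringHom_ext
  · intro a; simp
  · simp

theorem mapmap_comp_C {B : Type*} [CommRing B] (f : A →+* B) :
    (mapRingHom (mapRingHom f)).comp C = C.comp (mapRingHom f) := by
  refine RingHom.ext fun p => ?_; simp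

/-- local step: conjugacy over `A_m[X]` gives an element of the Quillen ideal outside `m`. -/
theorem exists_conj_not_mem (ε : Matrix ι ι A[X]) (m : Ideal A) [m.IsPrime]
    (τ τ' : Matrix ι ι (Localization.AtPrime m)[X]) (h1 : τ * τ' = 1)
    (h2 : τ * ε.map (mapRingHom (algebraMap A (Localization.AtPrime m))) =
      ε.map (fun p => C (algebraMap A (Localization.AtPrime m) (p.eval 0))) * τ) :
    ∃ s : A, s ∉ m ∧ Conj ε s := by
  classical
  let Am := Localization.AtPrime m
  let alg : A →+* Am := algebraMap A Am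
  let algX : A[X] →+* Am[X] := mapRingHom alg
  have hloc : IsLocalization (m.primeCompl.map C) Am[X] := Polynomial.isLocalization m.primeCompl Am
  have halgX : algebraMap A[X] Am[X] = algX := rfl
  set εm : Matrix ι ι Am[X] := ε.map algX with hεm
  set ε0 : Matrix ι ι Am[X] := ε.map (fun p => C (alg (p.eval 0))) with hε0
  have h1' : τ' * τ = 1 := mul_eq_one_comm.mp h1
  -- ε0 is constant
  have hε0sh : ∀ c : Am, ε0.map (sh c) = ε0.map C := by
    intro c
    refine Matrix.ext fun i j => ?_
    simp [ε0]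
  have h2' : εm * τ' = τ' * ε0 := by
    calc εm * τ' = (τ' * τ) * (εm * τ') := by rw [h1', Matrix.one_mul]
      _ = τ' * (τ * εm) * τ' := by simp only [Matrix.mul_assoc]
      _ = τ' * ε0 := by rw [h2, Matrix.mul_assoc, Matrix.mul_assoc, h1, Matrix.mul_one]
  let θ : Matrix ι ι Am[X][X] := τ'.map (sh (1 : Am)) * τ.map C
  let θ' : Matrix ι ι Am[X][X] := τ'.map C * τ.map (sh (1 : Am))
  have hθθ' : θ * θ' = 1 := by
    simp only [θ, θ']
    rw [Matrix.mul_assoc, ← Matrix.mul_assoc (τ.map C), ← map_mul_hom, h1, map_one_hom,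
      Matrix.one_mul, ← map_mul_hom, h1', map_one_hom]
  have hθ0 : θ.map (eval 0) = 1 := by
    have : θ.map (evalRingHom (0 : Am[X])) = 1 := by
      simp only [θ]
      rw [map_mul_hom, map_map_hom, map_map_hom, evalY_comp_sh, evalY_comp_C]
      have e1 : ∀ M : Matrix ι ι Am[X], M.map (RingHom.id Am[X]) = M := fun M => by
        refine Matrix.ext fun i j => ?_; rfl
      rw [e1, e1, h1']
    exact this
  have hθε : θ * εm.map C = εm.map (sh 1) * θ := by
    simp only [θ]
    have e1 : τ.map C * εm.map C = ε0.map C * τ.map C := by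
      rw [← map_mul_hom, h2, map_mul_hom]
    have e2 : εm.map (sh 1) * τ'.map (sh 1) = τ'.map (sh 1) * ε0.map C := by
      rw [← map_mul_hom, h2', map_mul_hom, hε0sh]
    rw [Matrix.mul_assoc, e1, ← Matrix.mul_assoc, ← Matrix.mul_assoc, e2]
  obtain ⟨w, hwW, Ψ, Ψ', hΨΨ', hΨ0, hΨ, -⟩ := lift_scaled (R := A[X]) (S := Am[X])
    (m.primeCompl.map C) θ θ' hθθ' hθ0
  obtain ⟨s, hs, rfl⟩ := hwW
  have hs' : s ∉ m := hs
  have hCs : algebraMap A[X] Am[X] (C s) = C (alg s) := by
    rw [halgX]; simp [algX]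
  -- the defect
  let Φ : A[X][X] →+* Am[X][X] := mapRingHom algX
  let D : Matrix ι ι A[X][X] := Ψ * ε.map C - ε.map (sh s) * Ψ
  have hΨΦ : Ψ.map Φ = θ.map (lam (alg s)) := by
    have : Ψ.map (Polynomial.map (algebraMap A[X] Am[X])) = Ψ.map Φ := rfl
    rw [← this, hΨ]
    refine Matrix.ext fun i j => ?_
    simp only [Matrix.map_apply, lam, coe_compRingHom]
    rw [hCs]
  have hDΦ : D.map (Polynomial.map (algebraMap A[X] Am[X])) = 0 := by
    have e0 : D.map (Polynomial.map (algebraMap A[X] Am[X])) = D.map Φ := rfl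
    rw [e0]
    simp only [D]
    rw [← RingHom.mapMatrix_apply, map_sub, map_mul, map_mul]
    simp only [RingHom.mapMatrix_apply]
    rw [map_map_hom, map_map_hom, hΨΦ]
    have e1 : Φ.comp C = C.comp algX := mapmap_comp_C alg
    have e2 : Φ.comp (sh s) = (sh (alg s)).comp algX := mapmap_comp_sh alg s
    rw [e1, e2, ← map_map_hom, ← map_map_hom]
    have := congrArg (fun M : Matrix ι ι Am[X][X] => M.map (lam (alg s))) hθε
    simp only [map_mul_hom, map_map_hom, lam_comp_C, lam_comp_sh, mul_one] at this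
    rw [sub_eq_zero]
    exact this
  have hD0 : ∀ i j, (D i j).coeff 0 = 0 := by
    intro i j
    have : D.map (evalRingHom (0 : A[X])) = 0 := by
      simp only [D]
      rw [← RingHom.mapMatrix_apply, map_sub, map_mul, map_mul]
      simp only [RingHom.mapMatrix_apply]
      rw [map_map_hom, map_map_hom, evalY_comp_sh, evalY_comp_C]
      rw [show Ψ.map (evalRingHom (0 : A[X])) = 1 from hΨ0, one_mul, mul_one, sub_self]
    have := congrFun (congrFun this i) j
    simpa [coeff_zero_eq_eval_zero] using this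
  obtain ⟨w₁, hw₁W, hw₁⟩ := exists_kill_matrix (S := Am[X]) (m.primeCompl.map C) D hDΦ
  obtain ⟨s₁, hs₁, rfl⟩ := hw₁W
  have hs₁' : s₁ ∉ m := hs₁
  refine ⟨s₁ * s, fun h => (Ideal.IsPrime.mem_or_mem ‹_› h).elim hs₁' hs', ?_⟩
  refine ⟨Ψ.map (lam s₁), Ψ'.map (lam s₁), ?_, ?_⟩
  · rw [← map_mul_hom, hΨΨ', map_one_hom]
  · have hz : D.map (lam s₁) = 0 := by
      refine Matrix.ext fun i j => ?_
      simp only [Matrix.map_apply, lam, coe_compRingHom, Matrix.zero_apply]
      exact comp_scale_eq_zero _ _ (hD0 i j) (hw₁ i j)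
    simp only [D] at hz
    rw [← RingHom.mapMatrix_apply, map_sub, map_mul, map_mul] at hz
    simp only [RingHom.mapMatrix_apply] at hz
    rw [map_map_hom, map_map_hom, lam_comp_C, lam_comp_sh, sub_eq_zero] at hz
    exact hz

/-- **Local-global principle**: if `ε(X)` is conjugate to `ε(0)` over `A_m[X]` for every maximal ideal
`m`, then the same holds over `A[X]`. -/
theorem localGlobal (ε : Matrix ι ι A[X])
    (hloc : ∀ (m : Ideal A) [m.IsMaximal], ∃ τ τ' : Matrix ι ι (Localization.AtPrime m)[X],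
      τ * τ' = 1 ∧ τ * ε.map (mapRingHom (algebraMap A (Localization.AtPrime m))) =
        ε.map (fun p => C (algebraMap A (Localization.AtPrime m) (p.eval 0))) * τ) :
    ∃ σ σ' : Matrix ι ι A[X], σ * σ' = 1 ∧ σ * ε = ε.map (fun p => C (p.eval 0)) * σ := by
  apply conj_one_imp
  by_contra h1
  have hne : conjIdeal ε ≠ ⊤ := fun h => h1 ((Ideal.eq_top_iff_one _).mp h)
  obtain ⟨m, hm, hle⟩ := Ideal.exists_le_maximal _ hne
  obtain ⟨τ, τ', h2, h3⟩ := hloc m
  obtain ⟨s, hs, hc⟩ := exists_conj_not_mem ε m τ τ' h2 h3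
  exact hs (hle hc)

end LGmain

end Groth.Agent.Lib.helper12.HorLG
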