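import Mathlib

set_option linter.style.haveILetI false
set_option linter.unusedSectionVars false

/-!
# Local Horrocks theorem (monic/lattice form)

`A` local, `M` finite projective over `A[X]`, `u : M → A[X]^n`, `v : A[X]^n → M` with `v ∘ u = F`,
`u ∘ v = F` for a monic `F`. Then `M` is free.  Proof: `T = A[X]^n / u(M)` is finite free over `A`;
Heymann's lemma (pole shifting) gives an `A`-basis `x₀, x₁ = X x₀ + g(a₁), …` of `T`; an explicit
generating set of `u(M)` with `n` elements follows by a division argument.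
-/

namespace Groth.Agent.Lib.helper12.HorLH

open Polynomial

universe u v

section Coeff

variable {A : Type u} [CommRing A]

theorem mem_smul_top_pi_iff {N : ℕ} (I : Ideal A) (y : Fin N → A[X]) :
    y ∈ (I • ⊤ : Submodule A (Fin N → A[X])) ↔ ∀ i n, (y i).coeff n ∈ I := by
  constructor
  · intro hy
    refine Submodule.smul_induction_on hy ?_ ?_
    · intro a ha z _ i n
      simp only [Pi.smul_apply, coeff_smul, smul_eq_mul]
      exact I.mul_mem_right _ ha
    · intro z w hz hw i n
      simp only [Pi.add_apply, coeff_add]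
      exact I.add_mem (hz i n) (hw i n)
  · intro h
    have hy : y = ∑ i, ∑ n ∈ (y i).support, (y i).coeff n • (Pi.single i (X ^ n) : Fin N → A[X]) := by
      funext j
      simp only [Finset.sum_apply, Pi.smul_apply, Pi.single_apply]
      rw [Finset.sum_eq_single j]
      · simp only [if_true]
        conv_lhs => rw [(y j).as_sum_support_C_mul_X_pow]
        refine Finset.sum_congr rfl fun n _ => ?_
        rw [smul_eq_C_mul]
      · intro b _ hb
        apply Finset.sum_eq_zero
        intro n _
        rw [if_neg (Ne.symm hb), smul_zero]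
      · intro h; exact absurd (Finset.mem_univ j) h
    rw [hy]
    refine Submodule.sum_mem _ fun i _ => Submodule.sum_mem _ fun n _ => ?_
    exact Submodule.smul_mem_smul (h i n) Submodule.mem_top

theorem coeff_mem_of_monic_mul {I : Ideal A} {F p : A[X]} (hF : F.Monic)
    (h : ∀ n, (F * p).coeff n ∈ I) : ∀ n, p.coeff n ∈ I := by
  have h1 : (F * p).map (Ideal.Quotient.mk I) = 0 := by
    ext n; rw [coeff_map, coeff_zero]; exact Ideal.Quotient.eq_zero_iff_mem.mpr (h n)
  rw [Polynomial.map_mul, (hF.map _).mul_right_eq_zero_iff] at h1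
  intro n
  have := congrArg (fun q => q.coeff n) h1
  simpa [Ideal.Quotient.eq_zero_iff_mem] using this

/-- A monic polynomial is regular on `M / I M` for `M` finite projective over `A[X]`. -/
theorem mem_smul_top_of_monic_smul (M : Type v) [AddCommGroup M] [Module A[X] M] [Module A M]
    [IsScalarTower A A[X] M] [Module.Finite A[X] M] [Module.Projective A[X] M]
    (I : Ideal A) {F : A[X]} (hF : F.Monic) (x : M)
    (hx : F • x ∈ (I • ⊤ : Submodule A M)) : x ∈ (I • ⊤ : Submodule A M) := by
  obtain ⟨N, f, g, -, -, hfg⟩ := Module.Finite.exists_comp_eq_id_of_projective A[X] M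
  have hg : ∀ z ∈ (I • ⊤ : Submodule A M), g z ∈ (I • ⊤ : Submodule A (Fin N → A[X])) := by
    intro z hz
    have : (I • ⊤ : Submodule A M).map (g.restrictScalars A) ≤ I • ⊤ := by
      rw [Submodule.map_smul'']; exact Submodule.smul_mono le_rfl le_top
    exact this ⟨z, hz, rfl⟩
  have hf : ∀ z ∈ (I • ⊤ : Submodule A (Fin N → A[X])), f z ∈ (I • ⊤ : Submodule A M) := by
    intro z hz
    have : (I • ⊤ : Submodule A (Fin N → A[X])).map (f.restrictScalars A) ≤ I • ⊤ := by
      rw [Submodule.map_smul'']; exact Submodule.smul_mono le_rfl le_top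
    exact this ⟨z, hz, rfl⟩
  have h1 := hg _ hx
  rw [map_smul, mem_smul_top_pi_iff] at h1
  have h2 : g x ∈ (I • ⊤ : Submodule A (Fin N → A[X])) := by
    rw [mem_smul_top_pi_iff]
    intro i
    exact coeff_mem_of_monic_mul hF (fun n => by simpa using h1 i n)
  have := hf _ h2
  rwa [← LinearMap.comp_apply, hfg] at this

end Coeff

section Flat

open TensorProduct

variable {A : Type u} [CommRing A]

theorem tmul_one_eq_zero_iff {M : Type*} [AddCommGroup M] [Module A M] (I : Ideal A) (x : M) :
    x ⊗ₜ[A] (1 : A ⧸ I) = 0 ↔ x ∈ (I • ⊤ : Submodule A M) := by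
  rw [← (tensorQuotEquivQuotSMul M I).map_eq_zero_iff]
  have : (1 : A ⧸ I) = Ideal.Quotient.mk I 1 := rfl
  rw [this, tensorQuotEquivQuotSMul_tmul_mk, one_smul, Submodule.Quotient.mk_eq_zero]

theorem exists_tmul_one {M : Type*} [AddCommGroup M] [Module A M] (I : Ideal A) (z : M ⊗[A] (A ⧸ I)) :
    ∃ x : M, z = x ⊗ₜ[A] (1 : A ⧸ I) := by
  induction z using TensorProduct.induction_on with
  | zero => exact ⟨0, by simp⟩
  | tmul x a =>
    obtain ⟨a, rfl⟩ := Ideal.Quotient.mk_surjective a
    refine ⟨a • x, ?_⟩
    rw [TensorProduct.smul_tmul]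
    congr 1
    rw [Algebra.smul_def, mul_one]; rfl
  | add z w hz hw =>
    obtain ⟨x, rfl⟩ := hz
    obtain ⟨y, rfl⟩ := hw
    exact ⟨x + y, by rw [TensorProduct.add_tmul]⟩

/-- cokernel of `u : M → G` (`G` flat) is flat if `u` is injective modulo every ideal. -/
theorem flat_quotient_range {M G : Type*} [AddCommGroup M] [AddCommGroup G]
    [Module A M] [Module A G] [Module.Flat A G] (u : M →ₗ[A] G)
    (h : ∀ (I : Ideal A) (x : M), u x ∈ (I • ⊤ : Submodule A G) → x ∈ (I • ⊤ : Submodule A M)) :
    Module.Flat A (G ⧸ LinearMap.range u) := by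
  rw [Module.Flat.iff_lTensor_injective']
  intro I
  refine lTensor_injective_of_exact_of_exact_of_rTensor_injective (f₁ := u)
    (f₂ := (LinearMap.range u).mkQ) (g₁ := I.subtype) (g₂ := I.mkQ)
    u.exact_map_mkQ_range (Submodule.mkQ_surjective _)
    (LinearMap.exact_subtype_mkQ I) (Submodule.mkQ_surjective _) ?_
    (Module.Flat.lTensor_preserves_injective_linearMap _ Subtype.val_injective)
  rw [injective_iff_map_eq_zero]
  intro z hz
  obtain ⟨x, rfl⟩ := exists_tmul_one I z
  rw [LinearMap.rTensor_tmul] at hz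
  rw [tmul_one_eq_zero_iff] at hz ⊢
  exact h I x hz

end Flat

section Main

variable {A : Type u} [CommRing A] {M : Type v} [AddCommGroup M] [Module A[X] M]
  {n : ℕ} {F : A[X]} (u : M →ₗ[A[X]] (Fin n → A[X])) (v : (Fin n → A[X]) →ₗ[A[X]] M)

/-- The `A[X]`-module `T = A[X]^n / u(M)`. -/
abbrev TT := (Fin n → A[X]) ⧸ LinearMap.range u

/-- the quotient map -/
noncomputable abbrev pr : (Fin n → A[X]) →ₗ[A[X]] TT u := (LinearMap.range u).mkQ

theorem pr_smul_F (huv : ∀ y, u (v y) = F • y) (y : Fin n → A[X]) : pr u (F • y) = 0 := by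
  rw [Submodule.mkQ_apply, Submodule.Quotient.mk_eq_zero]
  exact ⟨v y, huv y⟩

theorem pr_single_mem_span [Nontrivial A] (hF : F.Monic) (huv : ∀ y, u (v y) = F • y) (j : Fin n)
    (p : A[X]) :
    pr u (Pi.single j p) ∈ Submodule.span A (Set.range fun ji : Fin n × Fin F.natDegree =>
      pr u (Pi.single ji.1 (X ^ (ji.2 : ℕ)))) := by
  have h1 : pr u (Pi.single j p) = pr u (Pi.single j (p %ₘ F)) := by
    conv_lhs => rw [← modByMonic_add_div p F]
    rw [Pi.single_add, map_add]
    have : (Pi.single j (F * (p /ₘ F)) : Fin n → A[X]) = F • Pi.single j (p /ₘ F) := by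
      rw [← Pi.single_smul, smul_eq_mul]
    rw [this, pr_smul_F u v huv, add_zero]
  rw [h1]
  have hdeg : ∀ i ∈ (p %ₘ F).support, i < F.natDegree := by
    intro i hi
    by_contra hlt
    rw [not_lt] at hlt
    have : (p %ₘ F).coeff i = 0 := by
      apply coeff_eq_zero_of_degree_lt
      calc (p %ₘ F).degree < F.degree := degree_modByMonic_lt p hF
        _ = F.natDegree := degree_eq_natDegree hF.ne_zero
        _ ≤ i := by exact_mod_cast hlt
    exact (mem_support_iff.mp hi) this
  have h2 : (Pi.single j (p %ₘ F) : Fin n → A[X]) =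
      ∑ i ∈ (p %ₘ F).support.attach, (p %ₘ F).coeff i • Pi.single j (X ^ (i : ℕ)) := by
    conv_lhs => rw [(p %ₘ F).as_sum_support_C_mul_X_pow]
    rw [← Finset.sum_attach]
    simp only [← smul_eq_C_mul]
    rw [← Finset.univ_eq_attach]
    funext k
    simp only [Finset.sum_apply, Pi.smul_apply, Pi.single_apply]
    split_ifs <;> simp
  rw [h2, map_sum]
  refine Submodule.sum_mem _ fun i _ => ?_
  have : pr u ((p %ₘ F).coeff i • (Pi.single j (X ^ (i : ℕ)) : Fin n → A[X])) =
      (p %ₘ F).coeff i • pr u (Pi.single j (X ^ (i : ℕ))) := by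
    rw [← algebraMap_smul A[X], map_smul, algebraMap_smul]
  rw [this]
  refine Submodule.smul_mem _ _ (Submodule.subset_span ?_)
  exact ⟨(j, ⟨i, hdeg i i.2⟩), rfl⟩

theorem TT_finite [Nontrivial A] (hF : F.Monic) (huv : ∀ y, u (v y) = F • y) :
    Module.Finite A (TT u) := by
  rw [Module.finite_def, Submodule.fg_def]
  refine ⟨_, Set.finite_range fun ji : Fin n × Fin F.natDegree =>
      pr u (Pi.single ji.1 (X ^ (ji.2 : ℕ))), ?_⟩
  rw [eq_top_iff]
  rintro t -
  obtain ⟨y, rfl⟩ := Submodule.mkQ_surjective _ t
  have hy : y = ∑ j, Pi.single j (y j) := by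
    funext k; simp [Finset.sum_apply, Pi.single_apply]
  rw [hy, map_sum]
  exact Submodule.sum_mem _ fun j _ => pr_single_mem_span u v hF huv j (y j)

end Main

section Main2

variable {A : Type u} [CommRing A] {M : Type v} [AddCommGroup M] [Module A[X] M]
  [Module A M] [IsScalarTower A A[X] M] [Module.Finite A[X] M] [Module.Projective A[X] M]
  {n : ℕ} {F : A[X]} (u : M →ₗ[A[X]] (Fin n → A[X])) (v : (Fin n → A[X]) →ₗ[A[X]] M)

theorem TT_flat (hF : F.Monic) (hvu : ∀ x, v (u x) = F • x) : Module.Flat A (TT u) := by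
  have hv : ∀ (I : Ideal A) (z : Fin n → A[X]), z ∈ (I • ⊤ : Submodule A (Fin n → A[X])) →
      v z ∈ (I • ⊤ : Submodule A M) := by
    intro I z hz
    have : (I • ⊤ : Submodule A (Fin n → A[X])).map (v.restrictScalars A) ≤ I • ⊤ := by
      rw [Submodule.map_smul'']; exact Submodule.smul_mono le_rfl le_top
    exact this ⟨z, hz, rfl⟩
  have h1 : Module.Flat A ((Fin n → A[X]) ⧸ LinearMap.range (u.restrictScalars A)) := by
    apply flat_quotient_range
    intro I x hx
    have := hv I _ hx
    rw [LinearMap.restrictScalars_apply, hvu] at this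
    exact mem_smul_top_of_monic_smul M I hF x this
  have e1 : LinearMap.range (u.restrictScalars A) = (LinearMap.range u).restrictScalars A := by
    ext z; simp
  have e : TT u ≃ₗ[A] ((Fin n → A[X]) ⧸ LinearMap.range (u.restrictScalars A)) :=
    (Submodule.Quotient.restrictScalarsEquiv A (LinearMap.range u)).symm ≪≫ₗ
      (Submodule.quotEquivOfEq _ _ e1.symm)
  exact Module.Flat.of_linearEquiv e

theorem TT_free [IsLocalRing A] (hF : F.Monic) (hvu : ∀ x, v (u x) = F • x)
    (huv : ∀ y, u (v y) = F • y) : Module.Free A (TT u) := by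
  haveI := TT_finite u v hF huv
  haveI := TT_flat u v hF hvu
  exact Module.free_of_flat_of_isLocalRing

end Main2

section Heymann

variable {k V : Type*} [Field k] [AddCommGroup V] [Module k V]

/-- the state sequence driven by inputs `w`. -/
def xseq (τ : V → V) (w : ℕ → V) : ℕ → V
  | 0 => w 0
  | i + 1 => τ (xseq τ w i) + w (i + 1)

theorem xseq_congr (τ : V → V) {w w' : ℕ → V} (i : ℕ) (h : ∀ l ≤ i, w l = w' l) :
    xseq τ w i = xseq τ w' i := by
  induction i with
  | zero => simp [xseq, h 0 le_rfl]
  | succ i ih =>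
    simp only [xseq]
    rw [ih (fun l hl => h l (Nat.le_succ_of_le hl)), h (i + 1) le_rfl]

/-- **Heymann's lemma**: for a reachable pair there is an input sequence making the first
`dim V` states linearly independent. -/
theorem heymann [FiniteDimensional k V] (τ : V →ₗ[k] V) (W : Submodule k V)
    (hreach : ∀ L : Submodule k V, W ≤ L → L.map τ ≤ L → L = ⊤) :
    ∀ j ≤ Module.finrank k V, ∃ w : ℕ → V, (∀ i, w i ∈ W) ∧
      LinearIndependent k (fun i : Fin j => xseq τ w i) := by
  classical
  intro j
  induction j with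
  | zero =>
    intro _
    exact ⟨fun _ => 0, fun _ => W.zero_mem, linearIndependent_empty_type⟩
  | succ j ih =>
    intro hj
    obtain ⟨w, hwW, hli⟩ := ih (Nat.le_of_succ_le hj)
    set L : Submodule k V := Submodule.span k (Set.range fun i : Fin j => xseq τ w i) with hL
    -- the uncontrolled next state
    set base : V := if j = 0 then 0 else τ (xseq τ w (j - 1)) with hbase
    have hex : ∃ y ∈ W, base + y ∉ L := by
      by_contra hcon
      push Not at hcon
      have hbL : base ∈ L := by simpa using hcon 0 W.zero_mem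
      have hWL : W ≤ L := fun y hy => by
        have := L.sub_mem (hcon y hy) hbL
        simpa using this
      have hτL : L.map τ ≤ L := by
        rw [hL, Submodule.map_span, Submodule.span_le]
        rintro _ ⟨_, ⟨i, rfl⟩, rfl⟩
        by_cases hi : (i : ℕ) + 1 < j
        · have h1 : xseq τ w ((i : ℕ) + 1) ∈ L :=
            Submodule.subset_span ⟨⟨(i : ℕ) + 1, hi⟩, rfl⟩
          have h2 : xseq τ w ((i : ℕ) + 1) = τ (xseq τ w i) + w ((i : ℕ) + 1) := rfl
          have h3 : τ (xseq τ w i) = xseq τ w ((i : ℕ) + 1) - w ((i : ℕ) + 1) := by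
            rw [h2]; abel
          show τ (xseq τ w i) ∈ L
          rw [h3]
          exact L.sub_mem h1 (hWL (hwW _))
        · have hij : (i : ℕ) + 1 = j := by have := i.2; omega
          have hj0 : j ≠ 0 := by omega
          have : base = τ (xseq τ w i) := by
            rw [hbase, if_neg hj0]
            congr 2; omega
          show τ (xseq τ w i) ∈ L
          rw [← this]; exact hbL
      have htop := hreach L hWL hτL
      have h1 : Module.finrank k V ≤ j := by
        have := finrank_range_le_card (R := k) (fun i : Fin j => xseq τ w i)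
        rw [Fintype.card_fin] at this
        calc Module.finrank k V = Module.finrank k (⊤ : Submodule k V) := (finrank_top k V).symm
          _ = Module.finrank k L := by rw [htop]
          _ ≤ j := this
      omega
    obtain ⟨y, hyW, hy⟩ := hex
    refine ⟨Function.update w j y, ?_, ?_⟩
    · intro i
      by_cases h : i = j
      · subst h; simpa using hyW
      · rw [Function.update_of_ne h]; exact hwW i
    · have hold : ∀ i, i < j → xseq τ (Function.update w j y) i = xseq τ w i := by
        intro i hi
        apply xseq_congr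
        intro l hl
        rw [Function.update_of_ne (by omega)]
      have hnew : xseq τ (Function.update w j y) j = base + y := by
        rcases Nat.eq_zero_or_pos j with rfl | hjpos
        · simp [xseq, hbase]
        · obtain ⟨j', rfl⟩ : ∃ j', j = j' + 1 := ⟨j - 1, by omega⟩
          simp only [xseq, Function.update_self]
          rw [hold j' (by omega), hbase, if_neg (by omega)]
          simp
      rw [linearIndependent_finSucc']
      constructor
      · have : (Fin.init fun i : Fin (j + 1) => xseq τ (Function.update w j y) i) =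
            fun i : Fin j => xseq τ w i := by
          funext i
          simp only [Fin.init, Fin.val_castSucc]
          exact hold i i.2
        rw [this]; exact hli
      · have : (Fin.init fun i : Fin (j + 1) => xseq τ (Function.update w j y) i) =
            fun i : Fin j => xseq τ w i := by
          funext i
          simp only [Fin.init, Fin.val_castSucc]
          exact hold i i.2
        rw [this]
        simp only [Fin.val_last]
        rw [hnew]
        exact hy

end Heymann

section Lift

open TensorProduct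

variable {A : Type u} [CommRing A] {M : Type v} [AddCommGroup M] [Module A[X] M]
  {n : ℕ} (u : M →ₗ[A[X]] (Fin n → A[X]))

/-- constant vector -/
noncomputable def cvec (a : Fin n → A) : Fin n → A[X] := fun j => C (a j)

theorem cvec_add (a a' : Fin n → A) : cvec (a + a') = cvec a + cvec a' := by
  funext j; simp [cvec]

theorem cvec_smul (r : A) (a : Fin n → A) : cvec (r • a) = r • cvec a := by
  funext j; simp [cvec, smul_eq_C_mul]

theorem cvec_zero : cvec (0 : Fin n → A) = 0 := by
  funext j; simp [cvec]

theorem cvec_single (j : Fin n) : cvec (Pi.single j (1 : A)) = Pi.single j 1 := by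
  funext i
  simp only [cvec, Pi.single_apply]
  split_ifs <;> simp

/-- the polynomial vectors `q₀ = a₀`, `q_{i+1} = X q_i + a_{i+1}`. -/
noncomputable def qseq (a : ℕ → Fin n → A) : ℕ → (Fin n → A[X])
  | 0 => cvec (a 0)
  | i + 1 => (X : A[X]) • qseq a i + cvec (a (i + 1))

/-- multiplication by `X` on `T`, as an `A`-linear map. -/
noncomputable def tau : TT u →ₗ[A] TT u := (LinearMap.lsmul A[X] (TT u) X).restrictScalars A

theorem tau_apply (t : TT u) : tau u t = (X : A[X]) • t := rfl

theorem pr_smul_A (r : A) (y : Fin n → A[X]) : pr u (r • y) = r • pr u y := by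
  rw [← algebraMap_smul A[X], map_smul, algebraMap_smul]

variable [IsLocalRing A]

local notation "k" => IsLocalRing.ResidueField A

/-- the input subspace of `k ⊗ T`. -/
noncomputable def WW : Submodule k (k ⊗[A] TT u) :=
  Submodule.span k (Set.range fun j : Fin n => (1 : k) ⊗ₜ[A] pr u (Pi.single j 1))

theorem one_tmul_smul (r : A) (t : TT u) :
    (1 : k) ⊗ₜ[A] (r • t) = (IsLocalRing.residue A r) • ((1 : k) ⊗ₜ[A] t) := by
  rw [TensorProduct.smul_tmul', ← TensorProduct.smul_tmul]
  congr 1

theorem mem_WW_lift (y : k ⊗[A] TT u) (hy : y ∈ WW u) :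
    ∃ a : Fin n → A, y = (1 : k) ⊗ₜ[A] pr u (cvec a) := by
  induction hy using Submodule.span_induction with
  | mem y hy =>
    obtain ⟨j, rfl⟩ := hy
    exact ⟨Pi.single j 1, by rw [cvec_single]⟩
  | zero => exact ⟨0, by rw [cvec_zero, map_zero, TensorProduct.tmul_zero]⟩
  | add y z _ _ hy hz =>
    obtain ⟨a, rfl⟩ := hy
    obtain ⟨a', rfl⟩ := hz
    exact ⟨a + a', by rw [cvec_add, map_add, TensorProduct.tmul_add]⟩
  | smul c y _ hy =>
    obtain ⟨a, rfl⟩ := hy
    obtain ⟨r, rfl⟩ := IsLocalRing.residue_surjective c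
    exact ⟨r • a, by rw [cvec_smul, pr_smul_A, one_tmul_smul]⟩

theorem reach (L : Submodule k (k ⊗[A] TT u)) (hW : WW u ≤ L)
    (hτ : L.map ((tau u).baseChange k) ≤ L) : L = ⊤ := by
  -- `1 ⊗ π(y) ∈ L` for all `y`
  have hX : ∀ (m : ℕ) (t : TT u), (1 : k) ⊗ₜ[A] t ∈ L → (1 : k) ⊗ₜ[A] ((X : A[X]) ^ m • t) ∈ L := by
    intro m
    induction m with
    | zero => intro t ht; simpa using ht
    | succ m ih =>
      intro t ht
      have := hτ ⟨_, ih t ht, rfl⟩
      rw [LinearMap.baseChange_tmul, tau_apply, smul_smul, ← pow_succ'] at this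
      exact this
  have hp : ∀ (p : A[X]) (t : TT u), (1 : k) ⊗ₜ[A] t ∈ L → (1 : k) ⊗ₜ[A] (p • t) ∈ L := by
    intro p t ht
    induction p using Polynomial.induction_on' with
    | add p q hp hq =>
      rw [add_smul, TensorProduct.tmul_add]; exact L.add_mem hp hq
    | monomial m r =>
      rw [← C_mul_X_pow_eq_monomial, mul_smul, ← algebraMap_eq, algebraMap_smul, one_tmul_smul]
      exact L.smul_mem _ (hX m t ht)
  have hall : ∀ y : Fin n → A[X], (1 : k) ⊗ₜ[A] pr u y ∈ L := by
    intro y
    have hy : y = ∑ j, y j • (Pi.single j 1 : Fin n → A[X]) := by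
      funext i; simp [Finset.sum_apply, Pi.single_apply]
    rw [hy, map_sum, TensorProduct.tmul_sum]
    refine L.sum_mem fun j _ => ?_
    rw [map_smul]
    exact hp _ _ (hW (Submodule.subset_span ⟨j, rfl⟩))
  rw [eq_top_iff]
  rintro z -
  induction z using TensorProduct.induction_on with
  | zero => exact L.zero_mem
  | tmul c t =>
    obtain ⟨y, rfl⟩ := Submodule.mkQ_surjective _ t
    have : c ⊗ₜ[A] (LinearMap.range u).mkQ y = c • ((1 : k) ⊗ₜ[A] pr u y) := by
      rw [TensorProduct.smul_tmul', smul_eq_mul, mul_one]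
    rw [this]
    exact L.smul_mem _ (hall y)
  | add z w hz hw => exact L.add_mem hz hw

end Lift

section Basis

open TensorProduct

variable {A : Type u} [CommRing A] [IsLocalRing A] {M : Type v} [AddCommGroup M] [Module A[X] M]
  {n : ℕ} (u : M →ₗ[A[X]] (Fin n → A[X]))

local notation "k" => IsLocalRing.ResidueField A

theorem pr_qseq_succ (a : ℕ → Fin n → A) (i : ℕ) :
    pr u (qseq a (i + 1)) = tau u (pr u (qseq a i)) + pr u (cvec (a (i + 1))) := by
  simp only [qseq, map_add, map_smul, tau_apply]

/-- a basis of `T` of the Heymann shape. -/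
theorem exists_good_basis [Module.Finite A (TT u)] [Module.Free A (TT u)] :
    ∃ (d : ℕ) (a : ℕ → Fin n → A) (b : Module.Basis (Fin d) A (TT u)),
      ∀ i : Fin d, b i = pr u (qseq a i) := by
  classical
  set d := Module.finrank k (k ⊗[A] TT u) with hd
  obtain ⟨w, hwW, hli⟩ := heymann ((tau u).baseChange k) (WW u) (reach u) d le_rfl
  choose a ha using fun i => mem_WW_lift u (w i) (hwW i)
  have hx : ∀ i, xseq ((tau u).baseChange k) w i = (1 : k) ⊗ₜ[A] pr u (qseq a i) := by
    intro i
    induction i with
    | zero => simp only [xseq, qseq]; exact ha 0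
    | succ i ih =>
      simp only [xseq]
      rw [ih, LinearMap.baseChange_tmul, pr_qseq_succ, TensorProduct.tmul_add, ← ha (i + 1)]
  have hli' : LinearIndependent k
      (TensorProduct.mk A k (TT u) 1 ∘ fun i : Fin d => pr u (qseq a i)) := by
    have : (TensorProduct.mk A k (TT u) 1 ∘ fun i : Fin d => pr u (qseq a i)) =
        fun i : Fin d => xseq ((tau u).baseChange k) w i := by
      funext i; simp only [Function.comp_apply, TensorProduct.mk_apply, hx]
    rw [this]; exact hli
  have hsp := hli'.span_eq_top_of_card_eq_finrank' (by rw [Fintype.card_fin])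
  have H : Function.Injective ((IsLocalRing.maximalIdeal A).subtype.rTensor (TT u)) :=
    Module.Flat.rTensor_preserves_injective_linearMap _ Subtype.val_injective
  haveI : Module.FinitePresentation A (TT u) := Module.finitePresentation_of_projective A _
  obtain ⟨b, hb⟩ := Module.exists_basis_of_basis_baseChange
    (fun i : Fin d => pr u (qseq a i)) hli' hsp H
  exact ⟨d, a, b, hb⟩

end Basis

section Gens

variable {A : Type u} [CommRing A] {M : Type v} [AddCommGroup M] [Module A[X] M]
  {n : ℕ} (u : M →ₗ[A[X]] (Fin n → A[X])) {d : ℕ} (b : Module.Basis (Fin d) A (TT u))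
  (a : ℕ → Fin n → A)

/-- `c ↦ Σ cᵢ qᵢ`. -/
noncomputable def Qmap : (Fin d → A) →ₗ[A] (Fin n → A[X]) :=
  Fintype.linearCombination A (fun i : Fin d => qseq a i)

/-- `z ↦ Σ (coordinates of π z)ᵢ qᵢ`. -/
noncomputable def sig : (Fin n → A[X]) →ₗ[A] (Fin n → A[X]) :=
  (Qmap (d := d) a) ∘ₗ b.equivFun.toLinearMap ∘ₗ (pr u).restrictScalars A

/-- `ρ z = z - σ z`, lands in `range u`. -/
noncomputable def rho : (Fin n → A[X]) →ₗ[A] (Fin n → A[X]) := LinearMap.id - sig u b a

theorem rho_add_sig (z : Fin n → A[X]) : rho u b a z + sig u b a z = z := by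
  simp [rho]

variable (hb : ∀ i : Fin d, b i = pr u (qseq a i))
include hb

theorem pr_Qmap (c : Fin d → A) : pr u (Qmap a c) = b.equivFun.symm c := by
  rw [Qmap, Fintype.linearCombination_apply, map_sum, Module.Basis.equivFun_symm_apply]
  refine Finset.sum_congr rfl fun i _ => ?_
  rw [pr_smul_A, hb]

theorem pr_sig (z : Fin n → A[X]) : pr u (sig u b a z) = pr u z := by
  simp only [sig, LinearMap.comp_apply, LinearMap.restrictScalars_apply, LinearEquiv.coe_coe]
  rw [pr_Qmap u b a hb, LinearEquiv.symm_apply_apply]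

theorem rho_mem_range (z : Fin n → A[X]) : rho u b a z ∈ LinearMap.range u := by
  rw [← Submodule.Quotient.mk_eq_zero, ← Submodule.mkQ_apply]
  show pr u (rho u b a z) = 0
  simp only [rho, LinearMap.sub_apply, LinearMap.id_apply, map_sub, pr_sig u b a hb, sub_self]

theorem Qmap_eq_zero_of_pr (c : Fin d → A) (h : pr u (Qmap a c) = 0) : c = 0 := by
  rw [pr_Qmap u b a hb] at h
  exact b.equivFun.symm.map_eq_zero_iff.mp h

/-- the `A[X]`-span of the candidate generators -/
noncomputable def P1 (e : Fin n → A[X]) : Submodule A[X] (Fin n → A[X]) :=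
  Submodule.span A[X] (insert (rho u b a e) (Set.range fun j : Fin n => rho u b a (Pi.single j 1)))

/-- the `A`-module `P₁ + Q` -/
noncomputable def SS (e : Fin n → A[X]) : Submodule A (Fin n → A[X]) :=
  (P1 u b a e).restrictScalars A ⊔ LinearMap.range (Qmap (d := d) a)

theorem mem_SS_of_rho_mem (e z : Fin n → A[X]) (h : rho u b a z ∈ P1 u b a e) : z ∈ SS u b a e := by
  rw [← rho_add_sig u b a z]
  refine Submodule.add_mem_sup ?_ ?_
  · exact h
  · exact ⟨_, rfl⟩

theorem single_mem_SS (e : Fin n → A[X]) (j : Fin n) : (Pi.single j 1 : Fin n → A[X]) ∈ SS u b a e :=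
  mem_SS_of_rho_mem u b a hb e _ (Submodule.subset_span (Set.mem_insert_of_mem _ ⟨j, rfl⟩))

theorem cvec_mem_SS (e : Fin n → A[X]) (a' : Fin n → A) : cvec a' ∈ SS u b a e := by
  have : cvec a' = ∑ j, a' j • (Pi.single j 1 : Fin n → A[X]) := by
    funext i
    simp [cvec, Finset.sum_apply, Pi.single_apply, smul_eq_C_mul]
  rw [this]
  exact Submodule.sum_mem _ fun j _ => Submodule.smul_mem _ _ (single_mem_SS u b a hb e j)

end Gens

section Gens2

variable {A : Type u} [CommRing A] {M : Type v} [AddCommGroup M] [Module A[X] M]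
  {n : ℕ} (u : M →ₗ[A[X]] (Fin n → A[X])) {d' : ℕ} (b : Module.Basis (Fin (d' + 1)) A (TT u))
  (a : ℕ → Fin n → A) (hb : ∀ i : Fin (d' + 1), b i = pr u (qseq a i))
include hb

theorem P1_le_range (e : Fin n → A[X]) : P1 u b a e ≤ LinearMap.range u := by
  rw [P1, Submodule.span_le]
  intro z hz
  rcases hz with rfl | ⟨j, rfl⟩
  · exact rho_mem_range u b a hb _
  · exact rho_mem_range u b a hb _

theorem qseq_mem_SS (e : Fin n → A[X]) (i : Fin (d' + 1)) : qseq a i ∈ SS u b a e := by
  refine Submodule.mem_sup_right ⟨Pi.single i 1, ?_⟩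
  simp [Qmap, Fintype.linearCombination_apply, Pi.single_apply]

theorem X_smul_qseq_mem_SS (i : Fin (d' + 1)) :
    (X : A[X]) • qseq a i ∈ SS u b a ((X : A[X]) • qseq a d') := by
  by_cases hi : (i : ℕ) + 1 < d' + 1
  · have h1 : qseq a ((i : ℕ) + 1) = (X : A[X]) • qseq a i + cvec (a ((i : ℕ) + 1)) := rfl
    have h2 : (X : A[X]) • qseq a i = qseq a ((i : ℕ) + 1) - cvec (a ((i : ℕ) + 1)) := by
      rw [h1]; abel
    rw [h2]
    refine Submodule.sub_mem _ ?_ (cvec_mem_SS u b a hb _ _)
    exact qseq_mem_SS u b a hb _ ⟨(i : ℕ) + 1, hi⟩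
  · have : (i : ℕ) = d' := by have := i.2; omega
    rw [this]
    exact mem_SS_of_rho_mem u b a hb _ _ (Submodule.subset_span (Set.mem_insert _ _))

theorem X_smul_mem_SS (z : Fin n → A[X]) (hz : z ∈ SS u b a ((X : A[X]) • qseq a d')) :
    (X : A[X]) • z ∈ SS u b a ((X : A[X]) • qseq a d') := by
  obtain ⟨p, hp, q, ⟨c, rfl⟩, rfl⟩ := Submodule.mem_sup.mp hz
  rw [smul_add]
  refine Submodule.add_mem _ (Submodule.mem_sup_left ?_) ?_
  · exact Submodule.smul_mem (P1 u b a _) X hp
  · rw [Qmap, Fintype.linearCombination_apply, Finset.smul_sum]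
    refine Submodule.sum_mem _ fun i _ => ?_
    rw [smul_comm]
    exact Submodule.smul_mem _ _ (X_smul_qseq_mem_SS u b a hb i)

theorem SS_eq_top : SS u b a ((X : A[X]) • qseq a d') = ⊤ := by
  rw [eq_top_iff]
  rintro z -
  have hX : ∀ (m : ℕ) (j : Fin n), ((X : A[X]) ^ m • (Pi.single j 1 : Fin n → A[X])) ∈
      SS u b a ((X : A[X]) • qseq a d') := by
    intro m j
    induction m with
    | zero => simpa using single_mem_SS u b a hb _ j
    | succ m ih =>
      rw [pow_succ', mul_smul]
      exact X_smul_mem_SS u b a hb _ ih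
  have hp : ∀ (p : A[X]) (j : Fin n), (p • (Pi.single j 1 : Fin n → A[X])) ∈
      SS u b a ((X : A[X]) • qseq a d') := by
    intro p j
    induction p using Polynomial.induction_on' with
    | add p q hp hq => rw [add_smul]; exact Submodule.add_mem _ hp hq
    | monomial m r =>
      rw [← C_mul_X_pow_eq_monomial, mul_smul, ← algebraMap_eq, algebraMap_smul]
      exact Submodule.smul_mem _ _ (hX m j)
  have hz : z = ∑ j, z j • (Pi.single j 1 : Fin n → A[X]) := by
    funext i; simp [Finset.sum_apply, Pi.single_apply]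
  rw [hz]
  exact Submodule.sum_mem _ fun j _ => hp _ j

theorem range_eq_P1 : LinearMap.range u = P1 u b a ((X : A[X]) • qseq a d') := by
  apply le_antisymm _ (P1_le_range u b a hb _)
  intro z hz
  have hz' : z ∈ SS u b a ((X : A[X]) • qseq a d') := by rw [SS_eq_top u b a hb]; trivial
  obtain ⟨p, hp, q, ⟨c, rfl⟩, rfl⟩ := Submodule.mem_sup.mp hz'
  have hp' : p ∈ LinearMap.range u := P1_le_range u b a hb _ hp
  have h1 : pr u (p + Qmap a c) = 0 := by
    rw [Submodule.mkQ_apply, Submodule.Quotient.mk_eq_zero]; exact hz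
  have h2 : pr u p = 0 := by
    rw [Submodule.mkQ_apply, Submodule.Quotient.mk_eq_zero]; exact hp'
  rw [map_add, h2, zero_add] at h1
  have := Qmap_eq_zero_of_pr u b a hb c h1
  rw [this, map_zero, add_zero]
  exact hp

end Gens2

section FreeSpan

variable {B : Type u} [CommRing B]

/-- a submodule of `B^n` generated by `n` elements and containing `F B^n` (`F` regular) is free. -/
theorem free_of_span_card {n : ℕ} (P : Submodule B (Fin n → B)) (gen : Fin n → (Fin n → B))
    (hspan : Submodule.span B (Set.range gen) = P) (F : B) (hFreg : ∀ z : B, F * z = 0 → z = 0)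
    (hFP : ∀ y : Fin n → B, F • y ∈ P) : Module.Free B P := by
  classical
  let Ψ : (Fin n → B) →ₗ[B] (Fin n → B) := Fintype.linearCombination B gen
  have hrange : LinearMap.range Ψ = P := by rw [← hspan]; exact Fintype.range_linearCombination B gen
  have hex : ∀ j : Fin n, ∃ Yj : Fin n → B, Ψ Yj = F • (Pi.single j 1 : Fin n → B) := by
    intro j
    have : F • (Pi.single j 1 : Fin n → B) ∈ LinearMap.range Ψ := by rw [hrange]; exact hFP _
    exact this
  choose Yfam hYfam using hex
  let Y : (Fin n → B) →ₗ[B] (Fin n → B) := Fintype.linearCombination B Yfam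
  have hcomp : Ψ ∘ₗ Y = F • LinearMap.id := by
    apply LinearMap.pi_ext'
    intro j
    refine LinearMap.ext_ring ?_
    simp only [LinearMap.comp_apply, LinearMap.single_apply, LinearMap.smul_apply,
      LinearMap.id_apply]
    rw [show Y (Pi.single j 1) = Yfam j by
      simp [Y, Fintype.linearCombination_apply, Pi.single_apply]]
    exact hYfam j
  set Mx := LinearMap.toMatrix' Ψ with hMx
  set My := LinearMap.toMatrix' Y with hMy
  have hmul : Mx * My = F • (1 : Matrix (Fin n) (Fin n) B) := by
    rw [hMx, hMy, ← LinearMap.toMatrix'_comp, hcomp, map_smul, LinearMap.toMatrix'_id]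
  have hdet : Mx.det * My.det = F ^ n := by
    rw [← Matrix.det_mul, hmul, Matrix.det_smul, Matrix.det_one, mul_one, Fintype.card_fin]
  have hFn : ∀ z : B, F ^ n * z = 0 → z = 0 := by
    induction n with
    | zero => intro z hz; simpa using hz
    | succ m _ =>
      intro z hz
      clear * - hFreg hz
      induction m with
      | zero => exact hFreg z (by simpa using hz)
      | succ m ih =>
        apply ih
        apply hFreg
        rw [← mul_assoc, ← pow_succ']
        exact hz
  have hinj : Function.Injective Ψ := by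
    rw [injective_iff_map_eq_zero]
    intro y hy
    have h1 : Mx.mulVec y = 0 := by
      rw [hMx, LinearMap.toMatrix'_mulVec]; exact hy
    have h2 : Mx.det • y = 0 := by
      have := congrArg (Mx.adjugate.mulVec) h1
      rw [Matrix.mulVec_mulVec, Matrix.adjugate_mul, Matrix.smul_mulVec, Matrix.one_mulVec,
        Matrix.mulVec_zero] at this
      exact this
    funext i
    apply hFn
    rw [← hdet, mul_comm Mx.det, mul_assoc]
    have := congrFun h2 i
    simp only [Pi.smul_apply, smul_eq_mul, Pi.zero_apply] at this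
    rw [this, mul_zero]
  let e : (Fin n → B) ≃ₗ[B] P :=
    (LinearEquiv.ofInjective Ψ hinj) ≪≫ₗ (LinearEquiv.ofEq _ _ hrange)
  exact Module.Free.of_equiv e

end FreeSpan

section Final

variable {A : Type u} [CommRing A] [IsLocalRing A] {M : Type v} [AddCommGroup M] [Module A[X] M]
  {n : ℕ} (u : M →ₗ[A[X]] (Fin n → A[X]))

/-- some coordinate of `a 0` is a unit when `π(cvec (a 0))` is a basis vector. -/
theorem exists_isUnit_coord {d' : ℕ} (b : Module.Basis (Fin (d' + 1)) A (TT u))
    (a : ℕ → Fin n → A) (hb : ∀ i : Fin (d' + 1), b i = pr u (qseq a i)) :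
    ∃ j0 : Fin n, IsUnit (a 0 j0) := by
  by_contra hcon
  push Not at hcon
  have hm : ∀ j, a 0 j ∈ IsLocalRing.maximalIdeal A := fun j => (IsLocalRing.mem_maximalIdeal _).mpr
    (hcon j)
  have h0 : b 0 = ∑ j, a 0 j • pr u (Pi.single j 1) := by
    rw [hb 0]
    have : qseq a ((0 : Fin (d' + 1)) : ℕ) = ∑ j, a 0 j • (Pi.single j 1 : Fin n → A[X]) := by
      funext i
      simp [qseq, cvec, Finset.sum_apply, Pi.single_apply, smul_eq_C_mul]
    rw [this, map_sum]
    exact Finset.sum_congr rfl fun j _ => pr_smul_A u _ _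
  have h1 : b.coord 0 (b 0) ∈ IsLocalRing.maximalIdeal A := by
    rw [h0, map_sum]
    refine Ideal.sum_mem _ fun j _ => ?_
    rw [map_smul, smul_eq_mul]
    exact Ideal.mul_mem_right _ _ (hm j)
  rw [Module.Basis.coord_apply, Module.Basis.repr_self, Finsupp.single_eq_same] at h1
  exact (Ideal.ne_top_iff_one _).mp (IsLocalRing.maximalIdeal.isMaximal A).ne_top h1

variable [Module A M] [IsScalarTower A A[X] M] [Module.Finite A[X] M] [Module.Projective A[X] M]
  {F : A[X]} (v : (Fin n → A[X]) →ₗ[A[X]] M)

theorem u_injective (hF : F.Monic) (hvu : ∀ x, v (u x) = F • x) : Function.Injective u := by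
  rw [injective_iff_map_eq_zero]
  intro x hx
  have h1 : F • x ∈ ((⊥ : Ideal A) • ⊤ : Submodule A M) := by
    rw [← hvu, hx, map_zero]; exact Submodule.zero_mem _
  have := mem_smul_top_of_monic_smul M ⊥ hF x h1
  rwa [Submodule.bot_smul, Submodule.mem_bot] at this

/-- **Local Horrocks (lattice form)**, with an auxiliary `A`-module structure on `M`. -/
theorem free_of_lattice_aux (hF : F.Monic) (hvu : ∀ x, v (u x) = F • x)
    (huv : ∀ y, u (v y) = F • y) : Module.Free A[X] M := by
  classical
  haveI := TT_finite u v hF huv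
  haveI := TT_free u v hF hvu huv
  have hinj := u_injective u v hF hvu
  suffices h : Module.Free A[X] (LinearMap.range u) from
    Module.Free.of_equiv (LinearEquiv.ofInjective u hinj).symm
  have hFreg : ∀ z : A[X], F * z = 0 → z = 0 := fun z hz => hF.mul_right_eq_zero_iff.mp hz
  have hFP : ∀ y : Fin n → A[X], F • y ∈ LinearMap.range u := fun y => ⟨v y, huv y⟩
  obtain ⟨d, a, b, hb⟩ := exists_good_basis u
  rcases Nat.eq_zero_or_pos d with rfl | hd
  · -- `T = 0`
    have htop : LinearMap.range u = ⊤ := by
      rw [eq_top_iff]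
      rintro z -
      have : pr u z = 0 := by
        have := b.repr.map_eq_zero_iff (x := pr u z)
        apply this.mp
        ext i; exact i.elim0
      rwa [Submodule.mkQ_apply, Submodule.Quotient.mk_eq_zero] at this
    refine free_of_span_card _ (fun j => Pi.single j 1) ?_ F hFreg hFP
    rw [htop, eq_top_iff]
    rintro z -
    have hz : z = ∑ j, z j • (Pi.single j 1 : Fin n → A[X]) := by
      funext i; simp [Finset.sum_apply, Pi.single_apply]
    rw [hz]
    exact Submodule.sum_mem _ fun j _ => Submodule.smul_mem _ _ (Submodule.subset_span ⟨j, rfl⟩)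
  · obtain ⟨d', rfl⟩ : ∃ d', d = d' + 1 := ⟨d - 1, by omega⟩
    obtain ⟨j0, hj0⟩ := exists_isUnit_coord u b a hb
    have hP := range_eq_P1 u b a hb
    -- the relation `Σ a₀ⱼ ρ(eⱼ) = 0`
    have hrel : ∑ j, a 0 j • rho u b a (Pi.single j 1) = 0 := by
      have h1 : ∑ j, a 0 j • rho u b a (Pi.single j 1) = rho u b a (qseq a 0) := by
        have : qseq a 0 = ∑ j, a 0 j • (Pi.single j 1 : Fin n → A[X]) := by
          funext i
          simp [qseq, cvec, Finset.sum_apply, Pi.single_apply, smul_eq_C_mul]
        rw [this, map_sum]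
        exact Finset.sum_congr rfl fun j _ => (map_smul _ _ _).symm
      rw [h1]
      have h2 : sig u b a (qseq a 0) = qseq a 0 := by
        simp only [sig, LinearMap.comp_apply, LinearMap.restrictScalars_apply, LinearEquiv.coe_coe]
        have : pr u (qseq a 0) = b 0 := (hb 0).symm
        have e1 : b.equivFun (b 0) = Pi.single 0 1 := by
          funext i
          rw [Module.Basis.equivFun_self, Pi.single_apply]
          simp only [eq_comm]
        rw [this, e1, Qmap, Fintype.linearCombination_apply]
        simp [Pi.single_apply]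
      simp only [rho, LinearMap.sub_apply, LinearMap.id_apply, h2, sub_self]
    let gen : Fin n → (Fin n → A[X]) := fun j =>
      if j = j0 then rho u b a ((X : A[X]) • qseq a d') else rho u b a (Pi.single j 1)
    refine free_of_span_card _ gen ?_ F hFreg hFP
    rw [hP, P1]
    apply le_antisymm
    · rw [Submodule.span_le]
      rintro _ ⟨j, rfl⟩
      by_cases hj : j = j0
      · simp only [gen, if_pos hj]
        exact Submodule.subset_span (Set.mem_insert _ _)
      · simp only [gen, if_neg hj]
        exact Submodule.subset_span (Set.mem_insert_of_mem _ ⟨j, rfl⟩)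
    · rw [Submodule.span_le]
      have hne : ∀ j, j ≠ j0 → rho u b a (Pi.single j 1) ∈
          Submodule.span A[X] (Set.range gen) := by
        intro j hj
        have : gen j = rho u b a (Pi.single j 1) := by simp only [gen, if_neg hj]
        rw [← this]; exact Submodule.subset_span ⟨j, rfl⟩
      intro z hz
      rcases hz with rfl | ⟨j, rfl⟩
      · have : gen j0 = rho u b a ((X : A[X]) • qseq a d') := by simp only [gen, if_pos rfl]
        rw [← this]; exact Submodule.subset_span ⟨j0, rfl⟩
      · by_cases hj : j = j0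
        · subst hj
          obtain ⟨c, hc⟩ := hj0.exists_left_inv
          have h3 : rho u b a (Pi.single j 1) =
              -(c • ∑ i ∈ Finset.univ.erase j, a 0 i • rho u b a (Pi.single i 1)) := by
            rw [← Finset.add_sum_erase _ _ (Finset.mem_univ j)] at hrel
            have h4 : a 0 j • rho u b a (Pi.single j 1) =
                -∑ i ∈ Finset.univ.erase j, a 0 i • rho u b a (Pi.single i 1) :=
              eq_neg_of_add_eq_zero_left hrel
            calc rho u b a (Pi.single j 1) = (c * a 0 j) • rho u b a (Pi.single j 1) := by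
                  rw [hc, one_smul]
              _ = c • (a 0 j • rho u b a (Pi.single j 1)) := by rw [mul_smul]
              _ = _ := by rw [h4, smul_neg]
          show rho u b a (Pi.single j 1) ∈ Submodule.span A[X] (Set.range gen)
          rw [h3]
          refine Submodule.neg_mem _ ?_
          rw [← algebraMap_smul A[X] c]
          refine Submodule.smul_mem _ _ (Submodule.sum_mem _ fun i hi => ?_)
          rw [← algebraMap_smul A[X] (a 0 i)]
          exact Submodule.smul_mem _ _ (hne i (Finset.ne_of_mem_erase hi))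
        · exact hne j hj

end Final

/-- **Local Horrocks theorem (lattice form).** `A` local, `M` finite projective over `A[X]`,
`u : M → A[X]^n`, `v : A[X]^n → M` with `v ∘ u = F`, `u ∘ v = F` for a monic `F`. Then `M` is free. -/
theorem free_of_lattice {A : Type u} [CommRing A] [IsLocalRing A] {M : Type v} [AddCommGroup M]
    [Module A[X] M] [Module.Finite A[X] M] [Module.Projective A[X] M] {n : ℕ} {F : A[X]}
    (hF : F.Monic) (u : M →ₗ[A[X]] (Fin n → A[X])) (v : (Fin n → A[X]) →ₗ[A[X]] M)
    (hvu : ∀ x, v (u x) = F • x) (huv : ∀ y, u (v y) = F • y) : Module.Free A[X] M := by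
  letI : Module A M := Module.compHom M (C : A →+* A[X])
  haveI : IsScalarTower A A[X] M := ⟨fun a p x => by
    show (a • p) • x = (C a) • (p • x)
    rw [smul_eq_C_mul, mul_smul]⟩
  exact free_of_lattice_aux u v hF hvu huv

end Groth.Agent.Lib.helper12.HorLH
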