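import Mathlib
import Groth.Agent.Lib.Helper12.HorLG
import Groth.Agent.Lib.Helper12.HorLH

set_option linter.style.haveILetI false
set_option linter.unusedSectionVars false

/-!
# Affine Horrocks theorem (general base ring), pseudo-isomorphism form

If `M` is finite projective over `A[X]` and pseudo-isomorphic (`v ∘ u = F`, `u ∘ v = F`, `F` monic) to
an extended module `A[X] ⊗ N₀`, then `M` is extended from `A`.
-/

namespace Groth.Agent.Lib.helper12.HorAff

open Polynomial Matrix

universe u v

section Idem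

variable {R : Type u} [CommRing R]

/-- an idempotent matrix with free range factors through `R^r`. -/
theorem factor_of_free {n : ℕ} (e : Matrix (Fin n) (Fin n) R) (he : e * e = e)
    [Module.Free R (LinearMap.range (Matrix.toLin' e))] :
    ∃ (r : ℕ) (S : Matrix (Fin n) (Fin r) R) (S' : Matrix (Fin r) (Fin n) R),
      S * S' = e ∧ S' * S = 1 := by
  classical
  let K := LinearMap.range (Matrix.toLin' e)
  haveI : Module.Finite R K := Module.Finite.range _
  let b0 := Module.Free.chooseBasis R K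
  let r := Fintype.card (Module.Free.ChooseBasisIndex R K)
  let b : Module.Basis (Fin r) R K := b0.reindex (Fintype.equivFin _)
  let incl : K →ₗ[R] (Fin n → R) := K.subtype
  let proj : (Fin n → R) →ₗ[R] K := (Matrix.toLin' e).rangeRestrict
  have hpi : ∀ x : K, proj (incl x) = x := by
    rintro ⟨x, y, rfl⟩
    apply Subtype.ext
    show Matrix.toLin' e (Matrix.toLin' e y) = Matrix.toLin' e y
    rw [← Matrix.toLin'_mul_apply, he]
  have hip : incl ∘ₗ proj = Matrix.toLin' e := by
    ext x : 1; rfl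
  refine ⟨r, LinearMap.toMatrix' (incl ∘ₗ b.equivFun.symm.toLinearMap),
    LinearMap.toMatrix' (b.equivFun.toLinearMap ∘ₗ proj), ?_, ?_⟩
  · rw [← LinearMap.toMatrix'_comp]
    have : (incl ∘ₗ b.equivFun.symm.toLinearMap) ∘ₗ (b.equivFun.toLinearMap ∘ₗ proj) =
        Matrix.toLin' e := by
      rw [← hip]
      refine LinearMap.ext fun x => ?_
      simp only [LinearMap.comp_apply, LinearEquiv.coe_coe, LinearEquiv.symm_apply_apply]
    rw [this, LinearMap.toMatrix'_toLin']
  · rw [← LinearMap.toMatrix'_comp]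
    have : (b.equivFun.toLinearMap ∘ₗ proj) ∘ₗ (incl ∘ₗ b.equivFun.symm.toLinearMap) =
        LinearMap.id := by
      refine LinearMap.ext fun x => ?_
      simp only [LinearMap.comp_apply, LinearEquiv.coe_coe, hpi, LinearEquiv.apply_symm_apply,
        LinearMap.id_apply]
    rw [this, LinearMap.toMatrix'_id]

end Idem

section Conj

variable {R : Type u} [CommRing R] {n r : Type*} [Fintype n] [DecidableEq n] [Fintype r]
  [DecidableEq r]

/-- two idempotents factoring through `R^r` become conjugate after adding a zero block. -/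
theorem conj_of_factor (ε ε₀ : Matrix n n R) (S S₀ : Matrix n r R) (S' S₀' : Matrix r n R)
    (h1 : S * S' = ε) (h2 : S' * S = 1) (h3 : S₀ * S₀' = ε₀) (h4 : S₀' * S₀ = 1) :
    ∃ τ τ' : Matrix (n ⊕ n) (n ⊕ n) R, τ * τ' = 1 ∧
      τ * Matrix.fromBlocks ε 0 0 0 = Matrix.fromBlocks ε₀ 0 0 0 * τ := by
  have e1 : S' * ε = S' := by rw [← h1, ← Matrix.mul_assoc, h2, Matrix.one_mul]
  have e2 : ε * S = S := by rw [← h1, Matrix.mul_assoc, h2, Matrix.mul_one]
  have e3 : S₀' * ε₀ = S₀' := by rw [← h3, ← Matrix.mul_assoc, h4, Matrix.one_mul]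
  have e4 : ε₀ * S₀ = S₀ := by rw [← h3, Matrix.mul_assoc, h4, Matrix.mul_one]
  have i1 : ε * ε = ε := by rw [← h1, Matrix.mul_assoc, ← Matrix.mul_assoc S', h2, Matrix.one_mul]
  have i2 : ε₀ * ε₀ = ε₀ := by
    rw [← h3, Matrix.mul_assoc, ← Matrix.mul_assoc S₀', h4, Matrix.one_mul]
  refine ⟨Matrix.fromBlocks (S₀ * S') (1 - ε₀) (1 - ε) (S * S₀'),
    Matrix.fromBlocks (S * S₀') (1 - ε) (1 - ε₀) (S₀ * S'), ?_, ?_⟩
  · rw [Matrix.fromBlocks_multiply, ← Matrix.fromBlocks_one]
    congr 1
    · rw [Matrix.mul_assoc, ← Matrix.mul_assoc S', h2, Matrix.one_mul, h3]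
      simp only [Matrix.mul_sub, Matrix.sub_mul, Matrix.mul_one, Matrix.one_mul, i2]
      abel
    · rw [Matrix.mul_sub, Matrix.mul_one, Matrix.mul_assoc, e1, Matrix.sub_mul, Matrix.one_mul,
        ← Matrix.mul_assoc, e4]
      abel
    · rw [Matrix.sub_mul, Matrix.one_mul, ← Matrix.mul_assoc, e2, Matrix.mul_sub, Matrix.mul_one,
        Matrix.mul_assoc, e3]
      abel
    · rw [Matrix.mul_assoc S, ← Matrix.mul_assoc S₀', h4, Matrix.one_mul, h1]
      simp only [Matrix.mul_sub, Matrix.sub_mul, Matrix.mul_one, Matrix.one_mul, i1]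
      abel
  · rw [Matrix.fromBlocks_multiply, Matrix.fromBlocks_multiply]
    simp only [Matrix.mul_zero, Matrix.zero_mul, add_zero]
    congr 1
    · rw [Matrix.mul_assoc, e1, ← Matrix.mul_assoc, e4]
    · rw [Matrix.mul_sub, Matrix.mul_one, i2, sub_self]
    · rw [Matrix.sub_mul, Matrix.one_mul, i1, sub_self]

end Conj

section Local

variable {R : Type u} [CommRing R]

theorem range_idem_projective {n : ℕ} (e : Matrix (Fin n) (Fin n) R) (he : e * e = e) :
    Module.Projective R (LinearMap.range (Matrix.toLin' e)) := by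
  refine Module.Projective.of_split (LinearMap.range (Matrix.toLin' e)).subtype
    (Matrix.toLin' e).rangeRestrict ?_
  refine LinearMap.ext fun x => ?_
  obtain ⟨x, y, rfl⟩ := x
  apply Subtype.ext
  show Matrix.toLin' e (Matrix.toLin' e y) = Matrix.toLin' e y
  rw [← Matrix.toLin'_mul_apply, he]

theorem mem_range_idem {n : ℕ} (e : Matrix (Fin n) (Fin n) R) (he : e * e = e)
    (x : Fin n → R) (hx : x ∈ LinearMap.range (Matrix.toLin' e)) : Matrix.toLin' e x = x := by
  obtain ⟨y, rfl⟩ := hx
  rw [← Matrix.toLin'_mul_apply, he]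

variable {A : Type u} [CommRing A] [IsLocalRing A]

/-- the local step: from pseudo-isomorphism matrix data over a local ring to conjugacy. -/
theorem local_conj {N N' : ℕ} (ε : Matrix (Fin N) (Fin N) A[X]) (e : Matrix (Fin N') (Fin N') A)
    (U : Matrix (Fin N') (Fin N) A[X]) (V : Matrix (Fin N) (Fin N') A[X]) (F : A[X])
    (hF : F.Monic) (hε : ε * ε = ε) (he : e * e = e)
    (hVU : V * U = F • ε) (hUV : U * V = F • e.map C)
    (hεV : ε * V = V) (heU : e.map C * U = U) :
    ∃ τ τ' : Matrix (Fin N ⊕ Fin N) (Fin N ⊕ Fin N) A[X], τ * τ' = 1 ∧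
      τ * Matrix.fromBlocks ε 0 0 0 =
        Matrix.fromBlocks (ε.map fun p => C (p.eval 0)) 0 0 0 * τ := by
  classical
  -- `e` has free range
  haveI : Module.Projective A (LinearMap.range (Matrix.toLin' e)) := range_idem_projective e he
  haveI : Module.Finite A (LinearMap.range (Matrix.toLin' e)) := Module.Finite.range _
  haveI : Module.Free A (LinearMap.range (Matrix.toLin' e)) := Module.free_of_flat_of_isLocalRing
  obtain ⟨r₀, S₀, S₀', hS₀, hS₀'⟩ := factor_of_free e he
  -- the module `M' = range ε`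
  let M' := LinearMap.range (Matrix.toLin' ε)
  haveI : Module.Projective A[X] M' := range_idem_projective ε hε
  haveI : Module.Finite A[X] M' := Module.Finite.range _
  have hCmul : ∀ {a b c : ℕ} (P : Matrix (Fin a) (Fin b) A) (Q : Matrix (Fin b) (Fin c) A),
      (P * Q).map C = P.map C * Q.map C := fun P Q => Matrix.map_mul (f := (C : A →+* A[X]))
  have hS₀C : S₀.map C * S₀'.map C = e.map C := by rw [← hCmul, hS₀]
  have hS₀C' : S₀'.map C * S₀.map C = (1 : Matrix (Fin r₀) (Fin r₀) A[X]) := by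
    rw [← hCmul, hS₀']
    exact Matrix.map_one _ (map_zero _) (map_one _)
  let u' : M' →ₗ[A[X]] (Fin r₀ → A[X]) := (Matrix.toLin' (S₀'.map C * U)) ∘ₗ M'.subtype
  have hmem : ∀ y, Matrix.toLin' (V * S₀.map C) y ∈ M' := by
    intro y
    refine ⟨Matrix.toLin' (V * S₀.map C) y, ?_⟩
    rw [← Matrix.toLin'_mul_apply, ← Matrix.mul_assoc, hεV]
  let v' : (Fin r₀ → A[X]) →ₗ[A[X]] M' := LinearMap.codRestrict M' (Matrix.toLin' (V * S₀.map C)) hmem
  have hvu : ∀ x, v' (u' x) = F • x := by
    intro x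
    apply Subtype.ext
    show Matrix.toLin' (V * S₀.map C) (Matrix.toLin' (S₀'.map C * U) (x : Fin N → A[X])) = F • (x : Fin N → A[X])
    rw [← Matrix.toLin'_mul_apply]
    have : V * S₀.map C * (S₀'.map C * U) = F • ε := by
      rw [Matrix.mul_assoc, ← Matrix.mul_assoc (S₀.map C), hS₀C, heU, hVU]
    rw [this, map_smul, LinearMap.smul_apply, mem_range_idem ε hε _ x.2]
  have huv : ∀ y, u' (v' y) = F • y := by
    intro y
    show Matrix.toLin' (S₀'.map C * U) (Matrix.toLin' (V * S₀.map C) y) = F • y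
    rw [← Matrix.toLin'_mul_apply]
    have : S₀'.map C * U * (V * S₀.map C) = F • (1 : Matrix (Fin r₀) (Fin r₀) A[X]) := by
      rw [Matrix.mul_assoc, ← Matrix.mul_assoc U, hUV, Matrix.smul_mul, Matrix.mul_smul, ← hS₀C,
        Matrix.mul_assoc, hS₀C', Matrix.mul_one, hS₀C']
    rw [this, map_smul, LinearMap.smul_apply, Matrix.toLin'_one, LinearMap.id_apply]
  haveI : Module.Free A[X] M' := HorLH.free_of_lattice hF u' v' hvu huv
  obtain ⟨r, S, S', hS, hS'⟩ := factor_of_free ε hε
  let φ : A[X] →+* A[X] := C.comp (evalRingHom 0)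
  have h1 : S.map φ * S'.map φ = ε.map φ := by rw [← Matrix.map_mul, hS]
  have h2 : S'.map φ * S.map φ = 1 := by
    rw [← Matrix.map_mul, hS']
    exact Matrix.map_one _ (map_zero _) (map_one _)
  exact conj_of_factor ε (ε.map φ) S (S.map φ) S' (S'.map φ) hS hS' h1 h2

end Local

section Global

variable {A : Type u} [CommRing A]

theorem map_C_map {B : Type*} [CommRing B] (f : A →+* B) {a b : Type*} (P : Matrix a b A) :
    (P.map C).map (mapRingHom f) = (P.map f).map C := by
  refine Matrix.ext fun i j => ?_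
  simp

theorem fromBlocks_map0 {α β : Type*} [Zero α] [Zero β] {n : Type*} (f : α → β) (hf : f 0 = 0)
    (P : Matrix n n α) :
    (Matrix.fromBlocks P (0 : Matrix n n α) (0 : Matrix n n α) (0 : Matrix n n α)).map f =
      Matrix.fromBlocks (P.map f) (0 : Matrix n n β) (0 : Matrix n n β) (0 : Matrix n n β) := by
  rw [Matrix.fromBlocks_map, Matrix.map_zero _ hf]

/-- **global conjugacy** from pseudo-isomorphism matrix data. -/
theorem global_conj {N N' : ℕ} (ε : Matrix (Fin N) (Fin N) A[X]) (e : Matrix (Fin N') (Fin N') A)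
    (U : Matrix (Fin N') (Fin N) A[X]) (V : Matrix (Fin N) (Fin N') A[X]) (F : A[X])
    (hF : F.Monic) (hε : ε * ε = ε) (he : e * e = e)
    (hVU : V * U = F • ε) (hUV : U * V = F • e.map C)
    (hεV : ε * V = V) (heU : e.map C * U = U) :
    ∃ σ σ' : Matrix (Fin N ⊕ Fin N) (Fin N ⊕ Fin N) A[X], σ * σ' = 1 ∧
      σ * Matrix.fromBlocks ε 0 0 0 =
        Matrix.fromBlocks (ε.map fun p => C (p.eval 0)) 0 0 0 * σ := by
  have key := HorLG.localGlobal (Matrix.fromBlocks ε 0 0 0 : Matrix (Fin N ⊕ Fin N) (Fin N ⊕ Fin N) A[X]) ?_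
  · obtain ⟨σ, σ', h1, h2⟩ := key
    refine ⟨σ, σ', h1, ?_⟩
    rw [h2, fromBlocks_map0 _ (by simp)]
  · intro m hm
    let alg : A →+* Localization.AtPrime m := algebraMap A _
    let algX : A[X] →+* (Localization.AtPrime m)[X] := mapRingHom alg
    have hmul : ∀ {a b c : ℕ} (P : Matrix (Fin a) (Fin b) A[X]) (Q : Matrix (Fin b) (Fin c) A[X]),
        (P * Q).map algX = P.map algX * Q.map algX := fun P Q => Matrix.map_mul
    have hsmul : ∀ {a b : ℕ} (P : Matrix (Fin a) (Fin b) A[X]),
        (F • P).map algX = (F.map alg) • P.map algX := by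
      intro a b P
      refine Matrix.ext fun i j => ?_
      simp [algX]
    obtain ⟨τ, τ', h1, h2⟩ := local_conj (ε.map algX) (e.map alg) (U.map algX) (V.map algX)
      (F.map alg) (hF.map alg)
      (by rw [← hmul, hε])
      (by rw [← Matrix.map_mul, he])
      (by rw [← hmul, hVU, hsmul])
      (by rw [← hmul, hUV, hsmul, map_C_map])
      (by rw [← hmul, hεV])
      (by rw [← map_C_map, ← hmul, heU])
    refine ⟨τ, τ', h1, ?_⟩
    rw [fromBlocks_map0 _ (by simp), fromBlocks_map0 _ (by simp)]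
    have e2 : (ε.map fun p => C ((algebraMap A (Localization.AtPrime m)) (eval 0 p))) =
        (ε.map algX).map fun p => C (eval 0 p) := by
      refine Matrix.ext fun i j => ?_
      simp [algX, alg, ← coeff_zero_eq_eval_zero]
    rw [e2]
    exact h2

end Global

section ConstIdem

open TensorProduct

variable {A : Type u} [CommRing A]

/-- base change of a matrix map to `A[X]` is the constant matrix. -/
theorem piScalarRight_baseChange_toLin' {a b : Type*} [Fintype a] [DecidableEq a] [Fintype b]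
    [DecidableEq b] (h : Matrix a b A) :
    (TensorProduct.piScalarRight A A[X] A[X] a).toLinearMap ∘ₗ (Matrix.toLin' h).baseChange A[X] =
      Matrix.toLin' (h.map C) ∘ₗ (TensorProduct.piScalarRight A A[X] A[X] b).toLinearMap := by
  apply TensorProduct.AlgebraTensorModule.curry_injective
  refine LinearMap.ext fun p => LinearMap.ext fun c => ?_
  simp only [TensorProduct.AlgebraTensorModule.curry_apply, LinearMap.restrictScalars_comp,
    TensorProduct.curry_apply, LinearMap.coe_comp, LinearMap.coe_restrictScalars,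
    LinearEquiv.coe_coe, Function.comp_apply, LinearMap.baseChange_tmul,
    TensorProduct.piScalarRight_apply, TensorProduct.piScalarRightHom_tmul]
  funext i
  simp only [Matrix.toLin'_apply, Matrix.mulVec, dotProduct, Matrix.map_apply, Finset.sum_smul]
  refine Finset.sum_congr rfl fun j _ => ?_
  rw [mul_smul, smul_eq_C_mul (a := h i j)]

theorem const_idem_equiv {ι : Type*} [Fintype ι] [DecidableEq ι] (e : Matrix ι ι A)
    (he : e * e = e) :
    Nonempty (LinearMap.range (Matrix.toLin' (e.map C)) ≃ₗ[A[X]]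
      A[X] ⊗[A] LinearMap.range (Matrix.toLin' e)) := by
  let P := LinearMap.range (Matrix.toLin' e)
  let incl : P →ₗ[A] (ι → A) := P.subtype
  let proj : (ι → A) →ₗ[A] P := (Matrix.toLin' e).rangeRestrict
  have hpi : proj ∘ₗ incl = LinearMap.id := by
    refine LinearMap.ext fun x => ?_
    obtain ⟨x, y, rfl⟩ := x
    apply Subtype.ext
    show Matrix.toLin' e (Matrix.toLin' e y) = Matrix.toLin' e y
    rw [← Matrix.toLin'_mul_apply, he]
  have hip : incl ∘ₗ proj = Matrix.toLin' e := by
    refine LinearMap.ext fun x => ?_; rfl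
  have hei : Matrix.toLin' e ∘ₗ incl = incl := by
    rw [← hip, LinearMap.comp_assoc, hpi, LinearMap.comp_id]
  let θ := TensorProduct.piScalarRight A A[X] A[X] ι
  let Φ : A[X] ⊗[A] P →ₗ[A[X]] (ι → A[X]) := θ.toLinearMap ∘ₗ incl.baseChange A[X]
  have hkey := piScalarRight_baseChange_toLin' (A := A) e
  have hinj : Function.Injective Φ := by
    have : (proj.baseChange A[X] ∘ₗ θ.symm.toLinearMap) ∘ₗ Φ = LinearMap.id := by
      refine LinearMap.ext fun z => ?_
      simp only [Φ, LinearMap.comp_apply, LinearEquiv.coe_coe, LinearEquiv.symm_apply_apply,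
        LinearMap.id_apply]
      rw [← LinearMap.comp_apply, ← LinearMap.baseChange_comp, hpi, LinearMap.baseChange_id,
        LinearMap.id_apply]
    exact Function.LeftInverse.injective (g := (proj.baseChange A[X] ∘ₗ θ.symm.toLinearMap))
      fun z => by
        have := congrArg (fun f => f z) this
        simpa using this
  have hrange : LinearMap.range Φ = LinearMap.range (Matrix.toLin' (e.map C)) := by
    apply le_antisymm
    · rintro _ ⟨z, rfl⟩
      refine ⟨Φ z, ?_⟩
      have h1 := congrArg (fun f => f (incl.baseChange A[X] z)) hkey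
      simp only [LinearMap.comp_apply, LinearEquiv.coe_coe] at h1
      rw [← LinearMap.comp_apply, ← LinearMap.baseChange_comp, hei] at h1
      exact h1.symm
    · rintro _ ⟨y', rfl⟩
      refine ⟨proj.baseChange A[X] (θ.symm y'), ?_⟩
      simp only [Φ, LinearMap.comp_apply, LinearEquiv.coe_coe]
      rw [← LinearMap.comp_apply, ← LinearMap.baseChange_comp, hip]
      have h1 := congrArg (fun f => f (θ.symm y')) hkey
      simp only [LinearMap.comp_apply, LinearEquiv.coe_coe] at h1
      rw [show (TensorProduct.piScalarRight A A[X] A[X] ι) (θ.symm y') = y' from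
        θ.apply_symm_apply y'] at h1
      exact h1
  exact ⟨((LinearEquiv.ofInjective Φ hinj) ≪≫ₗ (LinearEquiv.ofEq _ _ hrange)).symm⟩

end ConstIdem

section Main

open TensorProduct

variable {A : Type u} [CommRing A]

/-- inclusion of the first block. -/
def inlL (R : Type*) [Semiring R] (n : Type*) : (n → R) →ₗ[R] (n ⊕ n → R) where
  toFun x := Sum.elim x 0
  map_add' x y := by funext i; cases i <;> simp
  map_smul' c x := by funext i; cases i <;> simp

theorem fromBlocks_toLin'_inlL {R : Type*} [CommRing R] {n : Type*} [Fintype n] [DecidableEq n]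
    (P : Matrix n n R) (x : n → R) :
    Matrix.toLin' (Matrix.fromBlocks P 0 0 0) (inlL R n x) = inlL R n (Matrix.toLin' P x) := by
  simp only [Matrix.toLin'_apply, inlL, LinearMap.coe_mk, AddHom.coe_mk]
  rw [Matrix.fromBlocks_mulVec]
  simp

theorem fromBlocks_toLin'_eq {R : Type*} [CommRing R] {n : Type*} [Fintype n] [DecidableEq n]
    (P : Matrix n n R) (z : n ⊕ n → R)
    (hz : Matrix.toLin' (Matrix.fromBlocks P 0 0 0) z = z) :
    z = inlL R n (fun i => z (Sum.inl i)) ∧ Matrix.toLin' P (fun i => z (Sum.inl i)) =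
      fun i => z (Sum.inl i) := by
  have hz' : z = Sum.elim (fun i => z (Sum.inl i)) (fun i => z (Sum.inr i)) := by
    funext i; cases i <;> rfl
  rw [hz', Matrix.toLin'_apply, Matrix.fromBlocks_mulVec] at hz
  simp only [Matrix.zero_mulVec, add_zero] at hz
  have h1 := congrArg (fun w : n ⊕ n → R => fun i => w (Sum.inl i)) hz
  have h2 := congrArg (fun w : n ⊕ n → R => fun i => w (Sum.inr i)) hz
  simp only [Sum.elim_inl, Sum.elim_inr] at h1 h2
  refine ⟨?_, by rw [Matrix.toLin'_apply]; exact h1⟩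
  conv_lhs => rw [hz']
  simp only [inlL, LinearMap.coe_mk, AddHom.coe_mk]
  congr 1
  exact h2.symm

/-- **Affine Horrocks theorem**: a finite projective `A[X]`-module pseudo-isomorphic, via a monic
polynomial, to an extended module is itself extended. -/
theorem extended_of_pseudoIso (M : Type v) [AddCommGroup M] [Module A[X] M] [Module.Finite A[X] M]
    [Module.Projective A[X] M] (N₀ : Type*) [AddCommGroup N₀] [Module A N₀] [Module.Finite A N₀]
    [Module.Projective A N₀] (F : A[X]) (hF : F.Monic)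
    (uu : M →ₗ[A[X]] A[X] ⊗[A] N₀) (vv : A[X] ⊗[A] N₀ →ₗ[A[X]] M)
    (hvu : ∀ x, vv (uu x) = F • x) (huv : ∀ y, uu (vv y) = F • y) :
    ∃ (P : Type u) (_ : AddCommGroup P) (_ : Module A P), Nonempty (M ≃ₗ[A[X]] A[X] ⊗[A] P) := by
  classical
  obtain ⟨N, f, g, -, hginj, hfg⟩ := Module.Finite.exists_comp_eq_id_of_projective A[X] M
  obtain ⟨N', f₀, g₀, -, -, hfg₀⟩ := Module.Finite.exists_comp_eq_id_of_projective A N₀
  let θ := TensorProduct.piScalarRight A A[X] A[X] (Fin N')
  let j₀ : A[X] ⊗[A] N₀ →ₗ[A[X]] (Fin N' → A[X]) := θ.toLinearMap ∘ₗ g₀.baseChange A[X]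
  let p₀ : (Fin N' → A[X]) →ₗ[A[X]] A[X] ⊗[A] N₀ := f₀.baseChange A[X] ∘ₗ θ.symm.toLinearMap
  have hpj : p₀ ∘ₗ j₀ = LinearMap.id := by
    refine LinearMap.ext fun z => ?_
    simp only [p₀, j₀, LinearMap.comp_apply, LinearEquiv.coe_coe, LinearEquiv.symm_apply_apply,
      LinearMap.id_apply]
    rw [← LinearMap.comp_apply, ← LinearMap.baseChange_comp, hfg₀, LinearMap.baseChange_id,
      LinearMap.id_apply]
  let e : Matrix (Fin N') (Fin N') A := LinearMap.toMatrix' (g₀ ∘ₗ f₀)
  have he : e * e = e := by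
    rw [← LinearMap.toMatrix'_comp]
    congr 1
    rw [LinearMap.comp_assoc, ← LinearMap.comp_assoc f₀, hfg₀, LinearMap.id_comp]
  have hjp : j₀ ∘ₗ p₀ = Matrix.toLin' (e.map C) := by
    have h1 := piScalarRight_baseChange_toLin' (A := A) e
    have h2 : Matrix.toLin' e = g₀ ∘ₗ f₀ := Matrix.toLin'_toMatrix' _
    rw [h2] at h1
    refine LinearMap.ext fun y => ?_
    have h3 := congrArg (fun φ => φ (θ.symm y)) h1
    simp only [LinearMap.comp_apply, LinearEquiv.coe_coe] at h3
    rw [show (TensorProduct.piScalarRight A A[X] A[X] (Fin N')) (θ.symm y) = y from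
      θ.apply_symm_apply y] at h3
    rw [← h3]
    simp only [j₀, p₀, LinearMap.comp_apply, LinearEquiv.coe_coe]
    rw [← LinearMap.comp_apply (g₀.baseChange A[X]), ← LinearMap.baseChange_comp]
  let ε : Matrix (Fin N) (Fin N) A[X] := LinearMap.toMatrix' (g ∘ₗ f)
  have hε : ε * ε = ε := by
    rw [← LinearMap.toMatrix'_comp]
    congr 1
    rw [LinearMap.comp_assoc, ← LinearMap.comp_assoc f, hfg, LinearMap.id_comp]
  let U : Matrix (Fin N') (Fin N) A[X] := LinearMap.toMatrix' (j₀ ∘ₗ uu ∘ₗ f)
  let V : Matrix (Fin N) (Fin N') A[X] := LinearMap.toMatrix' (g ∘ₗ vv ∘ₗ p₀)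
  have hvu' : vv ∘ₗ uu = F • LinearMap.id := LinearMap.ext fun x => by simp [hvu]
  have huv' : uu ∘ₗ vv = F • LinearMap.id := LinearMap.ext fun x => by simp [huv]
  have hVU : V * U = F • ε := by
    rw [← LinearMap.toMatrix'_comp, ← map_smul]
    congr 1
    refine LinearMap.ext fun x => ?_
    have h1 := congrArg (fun φ => φ (uu (f x))) hpj
    simp only [LinearMap.comp_apply, LinearMap.id_apply] at h1
    simp only [LinearMap.comp_apply, LinearMap.smul_apply, h1, hvu, map_smul]
  have hUV : U * V = F • e.map C := by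
    have : e.map C = LinearMap.toMatrix' (j₀ ∘ₗ p₀) := by rw [hjp, LinearMap.toMatrix'_toLin']
    rw [this, ← LinearMap.toMatrix'_comp, ← map_smul]
    congr 1
    refine LinearMap.ext fun y => ?_
    have h1 := congrArg (fun φ => φ (vv (p₀ y))) hfg
    simp only [LinearMap.comp_apply, LinearMap.id_apply] at h1
    simp only [LinearMap.comp_apply, LinearMap.smul_apply, h1, huv, map_smul]
  have hεV : ε * V = V := by
    rw [← LinearMap.toMatrix'_comp]
    congr 1
    refine LinearMap.ext fun y => ?_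
    have h1 := congrArg (fun φ => φ (vv (p₀ y))) hfg
    simp only [LinearMap.comp_apply, LinearMap.id_apply] at h1
    simp only [LinearMap.comp_apply, h1]
  have heU : e.map C * U = U := by
    have : e.map C = LinearMap.toMatrix' (j₀ ∘ₗ p₀) := by rw [hjp, LinearMap.toMatrix'_toLin']
    rw [this, ← LinearMap.toMatrix'_comp]
    congr 1
    refine LinearMap.ext fun x => ?_
    have h1 := congrArg (fun φ => φ (uu (f x))) hpj
    simp only [LinearMap.comp_apply, LinearMap.id_apply] at h1
    simp only [LinearMap.comp_apply, h1]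
  obtain ⟨σ, σ', hσ, hσE⟩ := global_conj ε e U V F hF hε he hVU hUV hεV heU
  have hσ' : σ' * σ = 1 := mul_eq_one_comm.mp hσ
  -- the constant idempotent
  let ebar : Matrix (Fin N ⊕ Fin N) (Fin N ⊕ Fin N) A :=
    Matrix.fromBlocks (ε.map (eval 0)) 0 0 0
  have hε0 : ε.map (eval 0) * ε.map (eval 0) = ε.map (eval 0) := by
    have := congrArg (fun P : Matrix (Fin N) (Fin N) A[X] => P.map (evalRingHom (0 : A))) hε
    simp only [Matrix.map_mul] at this
    exact this
  have hebar : ebar * ebar = ebar := by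
    simp only [ebar, Matrix.fromBlocks_multiply, Matrix.mul_zero, Matrix.zero_mul, add_zero, hε0]
  have hE0 : (Matrix.fromBlocks (ε.map fun p => C (p.eval 0)) 0 0 0 :
      Matrix (Fin N ⊕ Fin N) (Fin N ⊕ Fin N) A[X]) = ebar.map C := by
    rw [fromBlocks_map0 _ (by simp)]
    congr 1
  rw [hE0] at hσE
  -- `M ≃ range (ebar.map C)`
  obtain ⟨eP⟩ := const_idem_equiv ebar hebar
  refine ⟨LinearMap.range (Matrix.toLin' ebar), inferInstance, inferInstance, ⟨?_ ≪≫ₗ eP⟩⟩
  let E : Matrix (Fin N ⊕ Fin N) (Fin N ⊕ Fin N) A[X] := Matrix.fromBlocks ε 0 0 0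
  have hgfg : ∀ x, Matrix.toLin' ε (g x) = g x := by
    intro x
    rw [Matrix.toLin'_toMatrix']
    have h1 := congrArg (fun φ => φ x) hfg
    simp only [LinearMap.comp_apply, LinearMap.id_apply] at h1
    simp only [LinearMap.comp_apply, h1]
  let ψ : M →ₗ[A[X]] (Fin N ⊕ Fin N → A[X]) := Matrix.toLin' σ ∘ₗ inlL A[X] (Fin N) ∘ₗ g
  have hψmem : ∀ x, ψ x ∈ LinearMap.range (Matrix.toLin' (ebar.map C)) := by
    intro x
    refine ⟨ψ x, ?_⟩
    simp only [ψ, LinearMap.comp_apply]
    rw [← Matrix.toLin'_mul_apply, ← hσE, Matrix.toLin'_mul_apply, fromBlocks_toLin'_inlL, hgfg]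
  have hEσ' : E * σ' = σ' * ebar.map C := by
    calc E * σ' = (σ' * σ) * (E * σ') := by rw [hσ', Matrix.one_mul]
      _ = σ' * (σ * E) * σ' := by simp only [Matrix.mul_assoc]
      _ = σ' * ebar.map C := by rw [hσE, Matrix.mul_assoc, Matrix.mul_assoc, hσ, Matrix.mul_one]
  let ψ' : M →ₗ[A[X]] LinearMap.range (Matrix.toLin' (ebar.map C)) :=
    LinearMap.codRestrict _ ψ hψmem
  refine LinearEquiv.ofBijective ψ' ⟨?_, ?_⟩
  · rw [injective_iff_map_eq_zero]
    intro x hx
    have h1 : ψ x = 0 := congrArg Subtype.val hx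
    have h2 : inlL A[X] (Fin N) (g x) = 0 := by
      have := congrArg (Matrix.toLin' σ') h1
      simp only [ψ, LinearMap.comp_apply] at this
      rw [← Matrix.toLin'_mul_apply, hσ', Matrix.toLin'_one, LinearMap.id_apply, map_zero] at this
      exact this
    have h3 : g x = 0 := by
      funext i
      have := congrFun h2 (Sum.inl i)
      simpa [inlL] using this
    exact hginj (by rw [h3, map_zero])
  · rintro ⟨y, y', rfl⟩
    set y := Matrix.toLin' (ebar.map C) y' with hy
    have hyy : Matrix.toLin' (ebar.map C) y = y := by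
      rw [hy, ← Matrix.toLin'_mul_apply, ← Matrix.map_mul, hebar]
    set z := Matrix.toLin' σ' y with hz
    have hEz : Matrix.toLin' E z = z := by
      rw [hz, ← Matrix.toLin'_mul_apply, hEσ', Matrix.toLin'_mul_apply, hyy]
    obtain ⟨hz1, hz2⟩ := fromBlocks_toLin'_eq ε z hEz
    refine ⟨f (fun i => z (Sum.inl i)), ?_⟩
    apply Subtype.ext
    show ψ (f fun i => z (Sum.inl i)) = y
    simp only [ψ, LinearMap.comp_apply]
    have h4 : g (f fun i => z (Sum.inl i)) = fun i => z (Sum.inl i) := by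
      rw [← LinearMap.comp_apply, ← Matrix.toLin'_toMatrix' (g ∘ₗ f)]
      exact hz2
    rw [h4, ← hz1, hz, ← Matrix.toLin'_mul_apply, hσ, Matrix.toLin'_one, LinearMap.id_apply]

end Main

end Groth.Agent.Lib.helper12.HorAff
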