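import Mathlib

set_option linter.style.haveILetI false
set_option linter.unusedSectionVars false

namespace Groth.Agent.Lib.helper12.HorCor

open Polynomial TensorProduct
universe u v

/-- if `A[X] ⊗ P₀` is finite projective over `A[X]` then so is `P₀` over `A`. -/
theorem finite_projective_of_extended (A : Type u) [CommRing A] (P₀ : Type v) [AddCommGroup P₀]
    [Module A P₀] [Module.Finite A[X] (A[X] ⊗[A] P₀)] [Module.Projective A[X] (A[X] ⊗[A] P₀)] :
    Module.Finite A P₀ ∧ Module.Projective A P₀ := by
  letI alg : Algebra A[X] A := (Polynomial.evalRingHom (0 : A)).toAlgebra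
  haveI : IsScalarTower A A[X] A := IsScalarTower.of_algebraMap_eq fun a => by
    show a = eval 0 (C a)
    simp
  let κ := TensorProduct.AlgebraTensorModule.cancelBaseChange A A[X] A A P₀
  let ψ := κ ≪≫ₗ TensorProduct.lid A P₀
  exact ⟨Module.Finite.equiv ψ, Module.Projective.of_equiv ψ⟩

/-- a finite projective module is free on a finite cover by basic opens. -/
theorem exists_finset_free_cover (R : Type u) [CommRing R] (P₀ : Type v) [AddCommGroup P₀]
    [Module R P₀] [Module.Finite R P₀] [Module.Projective R P₀] :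
    ∃ s : Finset R, Ideal.span (s : Set R) = ⊤ ∧
      ∀ r ∈ s, Module.Free (Localization.Away r) (LocalizedModule (Submonoid.powers r) P₀) := by
  classical
  let T : Set R := {r | Module.Free (Localization.Away r) (LocalizedModule (Submonoid.powers r) P₀)}
  have hT : Ideal.span T = ⊤ := by
    by_contra hne
    obtain ⟨m, hm, hle⟩ := Ideal.exists_le_maximal _ hne
    haveI := hm.isPrime
    haveI : Module.FinitePresentation R P₀ := Module.finitePresentation_of_projective R P₀
    haveI : Module.Free (Localization.AtPrime m) (LocalizedModule m.primeCompl P₀) :=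
      Module.free_of_flat_of_isLocalRing
    obtain ⟨r, hr, hr', _⟩ := Module.FinitePresentation.exists_free_localizedModule_powers
      m.primeCompl (LocalizedModule.mkLinearMap m.primeCompl P₀) (Localization.AtPrime m)
    exact hr (hle (Ideal.subset_span hr'))
  obtain ⟨s, hsT, hs⟩ := (Ideal.span_eq_top_iff_finite T).mp hT
  exact ⟨s, hs, fun r hr => hsT hr⟩

/-- an extended module `R[X] ⊗ P₀` becomes free over `R[X]_r` as soon as `P₀` is free over `R_r`. -/
theorem free_localized_of_extended (R : Type u) [CommRing R] (P₀ : Type v) [AddCommGroup P₀]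
    [Module R P₀] (P : Type*) [AddCommGroup P] [Module R[X] P] (φ : P ≃ₗ[R[X]] R[X] ⊗[R] P₀)
    (r : R) [Module.Free (Localization.Away r) (LocalizedModule (Submonoid.powers r) P₀)] :
    Module.Free (Localization.Away (C r : R[X]))
      (LocalizedModule (Submonoid.powers (C r : R[X])) P) := by
  let B := Localization.Away (C r : R[X])
  let Rr := Localization.Away r
  have hunit : IsUnit (algebraMap R B r) := by
    rw [IsScalarTower.algebraMap_apply R R[X] B, ← Polynomial.C_eq_algebraMap]
    exact IsLocalization.Away.algebraMap_isUnit (C r : R[X])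
  letI : Algebra Rr B := (IsLocalization.Away.lift (S := Rr) r hunit).toAlgebra
  haveI : IsScalarTower R Rr B := IsScalarTower.of_algebraMap_eq fun x =>
    (IsLocalization.Away.lift_eq (S := Rr) r hunit x).symm
  let e1 : LocalizedModule (Submonoid.powers (C r : R[X])) P ≃ₗ[B] B ⊗[R[X]] P :=
    LocalizedModule.equivTensorProduct (Submonoid.powers (C r : R[X])) P
  let e2 : B ⊗[R[X]] P ≃ₗ[B] B ⊗[R[X]] (R[X] ⊗[R] P₀) := LinearEquiv.baseChange R[X] B _ _ φ
  let e3 : B ⊗[R[X]] (R[X] ⊗[R] P₀) ≃ₗ[B] B ⊗[R] P₀ :=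
    TensorProduct.AlgebraTensorModule.cancelBaseChange R R[X] B B P₀
  let e4 : B ⊗[Rr] (Rr ⊗[R] P₀) ≃ₗ[B] B ⊗[R] P₀ :=
    TensorProduct.AlgebraTensorModule.cancelBaseChange R Rr B B P₀
  haveI : Module.Free Rr (Rr ⊗[R] P₀) :=
    Module.Free.of_equiv (LocalizedModule.equivTensorProduct (Submonoid.powers r) P₀)
  haveI : Module.Free B (B ⊗[Rr] (Rr ⊗[R] P₀)) := inferInstance
  exact Module.Free.of_equiv (e4 ≪≫ₗ e3.symm ≪≫ₗ e2.symm ≪≫ₗ e1.symm)

end Groth.Agent.Lib.helper12.HorCor
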