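import Mathlib
import Groth.Agent.Lib.Helper12.HorAff

set_option linter.style.haveILetI false
set_option linter.unusedSectionVars false

/-!
# From `P¹`-gluing data to a monic pseudo-isomorphism (Horrocks)

* `pseudoInv`: a map of finite modules which is an isomorphism mod `I` has a pseudo-inverse up to
  an element of `1 + I`.
* `exists_pseudo_extended`: a finite projective `A[X]`-module `N` is pseudo-isomorphic via some `g`
  with `g(0) = 1` to `A[X] ⊗ N₀`.
* `pseudoIso_of_glue`: if `M` glues with `N` along `t ↦ t⁻¹` then `M` is pseudo-isomorphic to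
  `A[X] ⊗ N₀` via a monic polynomial.
-/

namespace Groth.Agent.Lib.helper12.HorP1

open Polynomial TensorProduct

universe u v

/-- pseudo-inverse lemma: a map between finite modules (target projective) that is an isomorphism
modulo `I` admits a two-sided pseudo-inverse up to an element of `1 + I`. -/
theorem pseudoInv {R : Type*} [CommRing R] (I : Ideal R) {Q1 Q2 : Type*} [AddCommGroup Q1]
    [Module R Q1] [AddCommGroup Q2] [Module R Q2] [Module.Finite R Q1] [Module.Finite R Q2]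
    [Module.Projective R Q2] (a : Q1 →ₗ[R] Q2)
    (hsurj : (⊤ : Submodule R Q2) ≤ LinearMap.range a ⊔ I • ⊤)
    (hinj : ∀ x, a x ∈ I • (⊤ : Submodule R Q2) → x ∈ I • (⊤ : Submodule R Q1)) :
    ∃ (g : R) (b : Q2 →ₗ[R] Q1), g - 1 ∈ I ∧ (∀ x, b (a x) = g • x) ∧ (∀ y, a (b y) = g • y) := by
  classical
  -- step 1: Nakayama on the cokernel
  obtain ⟨g2, hg2, hg2r⟩ : ∃ g2 : R, g2 - 1 ∈ I ∧ ∀ y : Q2, g2 • y ∈ LinearMap.range a := by
    let C := Q2 ⧸ LinearMap.range a
    have hle : (⊤ : Submodule R C) ≤ I • ⊤ := by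
      intro c _
      obtain ⟨y, rfl⟩ := Submodule.mkQ_surjective _ c
      have hy := hsurj (Submodule.mem_top : y ∈ ⊤)
      obtain ⟨y1, hy1, z, hz, rfl⟩ := Submodule.mem_sup.mp hy
      have h1 : (LinearMap.range a).mkQ y1 = 0 := by
        rw [Submodule.mkQ_apply, Submodule.Quotient.mk_eq_zero]; exact hy1
      rw [map_add, h1, zero_add]
      have h2 : (LinearMap.range a).mkQ z ∈ Submodule.map (LinearMap.range a).mkQ (I • ⊤) :=
        Submodule.mem_map_of_mem hz
      rw [Submodule.map_smul''] at h2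
      exact Submodule.smul_mono le_rfl le_top h2
    obtain ⟨r, hr, hr0⟩ := Submodule.exists_sub_one_mem_and_smul_eq_zero_of_fg_of_le_smul I
      (⊤ : Submodule R C) Module.Finite.fg_top hle
    refine ⟨r, hr, fun y => ?_⟩
    have := hr0 ((LinearMap.range a).mkQ y) Submodule.mem_top
    rw [← map_smul, Submodule.mkQ_apply, Submodule.Quotient.mk_eq_zero] at this
    exact this
  -- step 2: lift
  let φ : Q2 →ₗ[R] LinearMap.range a :=
    LinearMap.codRestrict (LinearMap.range a) (g2 • LinearMap.id) (fun y => hg2r y)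
  obtain ⟨b2, hb2⟩ := Module.projective_lifting_property a.rangeRestrict φ
    a.surjective_rangeRestrict
  have hab2 : ∀ y, a (b2 y) = g2 • y := fun y => by
    have := congrArg (fun f => (f y : Q2)) hb2
    simpa [φ] using this
  -- step 3
  let δ : Q1 →ₗ[R] Q1 := b2 ∘ₗ a - g2 • LinearMap.id
  have haδ : ∀ x, a (δ x) = 0 := fun x => by
    simp only [δ, LinearMap.sub_apply, LinearMap.comp_apply, LinearMap.smul_apply,
      LinearMap.id_apply, map_sub, hab2, map_smul, sub_self]
  have hker : ∀ k, a k = 0 → k ∈ I • (⊤ : Submodule R Q1) := fun k hk =>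
    hinj k (by rw [hk]; exact Submodule.zero_mem _)
  let K' := LinearMap.range δ
  have hK'fg : K'.FG := by
    show (LinearMap.range δ).FG
    rw [LinearMap.range_eq_map]; exact Module.Finite.fg_top.map δ
  have hδI : ∀ k ∈ I • (⊤ : Submodule R Q1), δ k ∈ I • K' := by
    intro k hk
    have : δ k ∈ Submodule.map δ (I • ⊤) := Submodule.mem_map_of_mem hk
    rw [Submodule.map_smul'', Submodule.map_top] at this
    exact this
  have hle : K' ≤ I • K' := by
    rintro _ ⟨x, rfl⟩
    have h1 : a (δ x) = 0 := haδ x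
    have h2 : δ (δ x) ∈ I • K' := hδI _ (hker _ h1)
    have h3 : δ (δ x) = - (g2 • δ x) := by
      show (b2 ∘ₗ a - g2 • (LinearMap.id : Q1 →ₗ[R] Q1)) (δ x) = _
      simp only [LinearMap.sub_apply, LinearMap.comp_apply, LinearMap.smul_apply,
        LinearMap.id_apply, h1, map_zero, zero_sub]
    have h4 : g2 • δ x ∈ I • K' := by
      have := Submodule.neg_mem _ h2
      rwa [h3, neg_neg] at this
    have h5 : (g2 - 1) • δ x ∈ I • K' := Submodule.smul_mem_smul hg2 ⟨x, rfl⟩
    have : δ x = g2 • δ x - (g2 - 1) • δ x := by rw [sub_smul, one_smul]; abel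
    rw [this]
    exact Submodule.sub_mem _ h4 h5
  obtain ⟨g1, hg1, hg10⟩ := Submodule.exists_sub_one_mem_and_smul_eq_zero_of_fg_of_le_smul I
    K' hK'fg hle
  refine ⟨g1 * g2, g1 • b2, ?_, fun x => ?_, fun y => ?_⟩
  · have : g1 * g2 - 1 = (g1 - 1) * g2 + (g2 - 1) := by ring
    rw [this]
    exact I.add_mem (I.mul_mem_right _ hg1) hg2
  · have h1 := hg10 (δ x) ⟨x, rfl⟩
    simp only [δ, LinearMap.sub_apply, LinearMap.comp_apply, LinearMap.smul_apply,
      LinearMap.id_apply, smul_sub, sub_eq_zero] at h1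
    rw [LinearMap.smul_apply, h1, mul_smul]
  · rw [LinearMap.smul_apply, map_smul, hab2, mul_smul]

section P1a

variable {A : Type u} [CommRing A]

/-- evaluation at 0 coordinatewise commutes with mulVec. -/
theorem ev0_mulVec {m n : Type*} [Fintype n] (M : Matrix m n A[X]) (v : n → A[X]) (i : m) :
    ((M.mulVec v) i).coeff 0 =
      ((M.map (fun p => p.coeff 0)).mulVec (fun j => (v j).coeff 0)) i := by
  simp only [Matrix.mulVec, dotProduct, Matrix.map_apply, Polynomial.finsetSum_coeff,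
    Polynomial.mul_coeff_zero]

/-- elements of `X • ⊤` of a submodule of `Fin n → A[X]` have vanishing constant coefficients. -/
theorem coeff_zero_of_mem_smul_top {n : Type*} (Q : Submodule A[X] (n → A[X])) (v : Q)
    (hv : v ∈ Ideal.span {(X : A[X])} • (⊤ : Submodule A[X] Q)) (i : n) :
    ((v : n → A[X]) i).coeff 0 = 0 := by
  refine Submodule.smul_induction_on hv ?_ ?_
  · intro r hr q _
    obtain ⟨s, rfl⟩ := Ideal.mem_span_singleton.mp hr
    simp [Polynomial.mul_coeff_zero]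
  · intro x y hx hy
    simp [hx, hy]

theorem eq_X_smul_divX {n : Type*} (v : n → A[X]) (hv : ∀ i, (v i).coeff 0 = 0) :
    v = (X : A[X]) • (fun i => divX (v i)) := by
  funext i
  have := X_mul_divX_add (v i)
  rw [hv i, map_zero, add_zero] at this
  simp only [Pi.smul_apply, smul_eq_mul, this]

theorem X_smul_cancel {n : Type*} (v w : n → A[X]) (h : (X : A[X]) • v = (X : A[X]) • w) :
    v = w := by
  funext i
  have := congrFun h i
  simp only [Pi.smul_apply, smul_eq_mul] at this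
  exact (isRegular_X (R := A)).left this


/-- the key pseudo-isomorphism between the constant idempotent and the idempotent. -/
theorem idem_pseudo {n : ℕ} (η : Matrix (Fin n) (Fin n) A[X]) (hη : η * η = η) :
    ∃ (g : A[X]) (a : LinearMap.range (Matrix.toLin' ((η.map (fun p => p.coeff 0)).map C)) →ₗ[A[X]]
        LinearMap.range (Matrix.toLin' η))
      (b : LinearMap.range (Matrix.toLin' η) →ₗ[A[X]]
        LinearMap.range (Matrix.toLin' ((η.map (fun p => p.coeff 0)).map C))),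
      g.coeff 0 = 1 ∧ (∀ x, b (a x) = g • x) ∧ (∀ y, a (b y) = g • y) := by
  classical
  set η₀ : Matrix (Fin n) (Fin n) A := η.map (fun p => p.coeff 0) with hη₀def
  set ηc : Matrix (Fin n) (Fin n) A[X] := η₀.map C with hηcdef
  have hη₀ : η₀ * η₀ = η₀ := by
    have h1 : η₀ = (Polynomial.constantCoeff : A[X] →+* A).mapMatrix η := by
      refine Matrix.ext fun i j => ?_
      simp [η₀]
    rw [h1, ← map_mul, hη]
  have hηc : ηc * ηc = ηc := by
    have h1 : ηc = (C : A →+* A[X]).mapMatrix η₀ := rfl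
    rw [h1, ← map_mul, hη₀]
  let Q1 := LinearMap.range (Matrix.toLin' ηc)
  let Q2 := LinearMap.range (Matrix.toLin' η)
  haveI : Module.Finite A[X] Q1 := Module.Finite.range _
  haveI : Module.Finite A[X] Q2 := Module.Finite.range _
  haveI : Module.Projective A[X] Q2 := HorAff.range_idem_projective η hη
  -- η - ηc = X • D
  let D : Matrix (Fin n) (Fin n) A[X] := η.map divX
  have hD : η - ηc = (X : A[X]) • D := by
    refine Matrix.ext fun i j => ?_
    have := X_mul_divX_add (η i j)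
    simp only [Matrix.sub_apply, Matrix.smul_apply, smul_eq_mul, D, Matrix.map_apply, ηc, η₀]
    rw [sub_eq_iff_eq_add]
    exact this.symm
  have hcoef_η : ∀ (v : Fin n → A[X]) (i : Fin n), ((η.mulVec v) i).coeff 0 =
      (η₀.mulVec (fun j => (v j).coeff 0)) i := fun v i => ev0_mulVec η v i
  have hcoef_ηc : ∀ (v : Fin n → A[X]) (i : Fin n), ((ηc.mulVec v) i).coeff 0 =
      (η₀.mulVec (fun j => (v j).coeff 0)) i := fun v i => by
    have h1 : ηc.map (fun p => p.coeff 0) = η₀ := by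
      refine Matrix.ext fun i j => ?_
      simp [ηc]
    rw [ev0_mulVec, h1]
  let a : Q1 →ₗ[A[X]] Q2 := (Matrix.toLin' η).rangeRestrict ∘ₗ Q1.subtype
  have ha : ∀ x : Q1, ((a x : Q2) : Fin n → A[X]) = η.mulVec (x : Fin n → A[X]) := fun x => rfl
  have hQ1 : ∀ x : Fin n → A[X], x ∈ Q1 → ηc.mulVec x = x := fun x hx => by
    have := HorAff.mem_range_idem ηc hηc x hx
    rwa [Matrix.toLin'_apply] at this
  have hQ2 : ∀ x : Fin n → A[X], x ∈ Q2 → η.mulVec x = x := fun x hx => by
    have := HorAff.mem_range_idem η hη x hx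
    rwa [Matrix.toLin'_apply] at this
  have hs : (⊤ : Submodule A[X] Q2) ≤ LinearMap.range a ⊔ Ideal.span {(X : A[X])} • ⊤ := by
    -- surjectivity mod X
    rintro ⟨y, hy⟩ -
    have hyy := hQ2 y hy
    let x : Q1 := ⟨ηc.mulVec y, ⟨y, by rw [Matrix.toLin'_apply]⟩⟩
    let w : Fin n → A[X] := D.mulVec y
    have hw : (η - ηc).mulVec y = (X : A[X]) • w := by rw [hD, Matrix.smul_mulVec]
    let z : Q2 := ⟨η.mulVec w, ⟨w, by rw [Matrix.toLin'_apply]⟩⟩
    refine Submodule.mem_sup.mpr ⟨a x, ⟨x, rfl⟩, (X : A[X]) • z,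
      Submodule.smul_mem_smul (Ideal.mem_span_singleton_self _) Submodule.mem_top, ?_⟩
    apply Subtype.ext
    show η.mulVec (ηc.mulVec y) + (X : A[X]) • η.mulVec w = y
    rw [← Matrix.mulVec_smul, ← hw, ← Matrix.mulVec_add, Matrix.sub_mulVec, add_sub_cancel,
      Matrix.mulVec_mulVec, hη, hyy]
  have hi : ∀ x : Q1, a x ∈ Ideal.span {(X : A[X])} • (⊤ : Submodule A[X] Q2) →
      x ∈ Ideal.span {(X : A[X])} • (⊤ : Submodule A[X] Q1) := by
    -- injectivity mod X
    rintro ⟨x, hx⟩ hax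
    have hxx := hQ1 x hx
    have h0 : ∀ i, (x i).coeff 0 = 0 := by
      intro i
      have h1 := coeff_zero_of_mem_smul_top Q2 _ hax i
      rw [ha, hcoef_η, ← hcoef_ηc, hxx] at h1
      exact h1
    have hxw := eq_X_smul_divX x h0
    set w : Fin n → A[X] := fun i => divX (x i) with hwdef
    have hwQ : w ∈ Q1 := by
      refine ⟨w, ?_⟩
      rw [Matrix.toLin'_apply]
      apply X_smul_cancel
      rw [← Matrix.mulVec_smul, ← hxw, hxx]
    have : (⟨x, hx⟩ : Q1) = (X : A[X]) • (⟨w, hwQ⟩ : Q1) := Subtype.ext hxw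
    rw [this]
    exact Submodule.smul_mem_smul (Ideal.mem_span_singleton_self _) Submodule.mem_top
  obtain ⟨g, b, hg, hba, hab⟩ := pseudoInv (Ideal.span {(X : A[X])}) a hs hi
  refine ⟨g, a, b, ?_, hba, hab⟩
  have h1 : (X : A[X]) ∣ g - 1 := Ideal.mem_span_singleton.mp hg
  have h2 := X_dvd_iff.mp h1
  simp only [coeff_sub, coeff_one_zero, sub_eq_zero] at h2
  exact h2

/-- a finite projective `A[X]`-module is pseudo-isomorphic, via some `g` with `g(0) = 1`, to the
extension of its fibre at `0`. -/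
theorem exists_pseudo_extended (N : Type v) [AddCommGroup N] [Module A[X] N]
    [Module.Finite A[X] N] [Module.Projective A[X] N] :
    ∃ (N0 : Type u) (_ : AddCommGroup N0) (_ : Module A N0) (_ : Module.Finite A N0)
      (_ : Module.Projective A N0) (g : A[X]) (α : A[X] ⊗[A] N0 →ₗ[A[X]] N)
      (β : N →ₗ[A[X]] A[X] ⊗[A] N0),
      g.coeff 0 = 1 ∧ (∀ z, β (α z) = g • z) ∧ (∀ y, α (β y) = g • y) := by
  classical
  obtain ⟨n, f, g', -, hginj, hfg⟩ := Module.Finite.exists_comp_eq_id_of_projective A[X] N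
  let η : Matrix (Fin n) (Fin n) A[X] := LinearMap.toMatrix' (g' ∘ₗ f)
  have hηlin : Matrix.toLin' η = g' ∘ₗ f := Matrix.toLin'_toMatrix' _
  have hfg' : ∀ y, f (g' y) = y := fun y => by
    have := congrArg (fun φ => φ y) hfg
    simpa using this
  have hη : η * η = η := by
    rw [← LinearMap.toMatrix'_comp]
    congr 1
    rw [LinearMap.comp_assoc, ← LinearMap.comp_assoc f, hfg, LinearMap.id_comp]
  obtain ⟨g, a, b, hg, hba, hab⟩ := idem_pseudo η hη
  let η₀ : Matrix (Fin n) (Fin n) A := η.map (fun p => p.coeff 0)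
  have hη₀ : η₀ * η₀ = η₀ := by
    have h1 : η₀ = (Polynomial.constantCoeff : A[X] →+* A).mapMatrix η := by
      refine Matrix.ext fun i j => ?_
      simp [η₀]
    rw [h1, ← map_mul, hη]
  obtain ⟨c⟩ := HorAff.const_idem_equiv η₀ hη₀
  let Q2 := LinearMap.range (Matrix.toLin' η)
  let ψ1 : N →ₗ[A[X]] Q2 := LinearMap.codRestrict Q2 g' (fun x => ⟨g' x, by
    rw [hηlin, LinearMap.comp_apply, hfg']⟩)
  let ψ2 : Q2 →ₗ[A[X]] N := f ∘ₗ Q2.subtype
  have h21 : ∀ y, ψ2 (ψ1 y) = y := fun y => hfg' y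
  have h12 : ∀ q, ψ1 (ψ2 q) = q := by
    rintro ⟨q, hq⟩
    apply Subtype.ext
    show g' (f q) = q
    have := HorAff.mem_range_idem η hη q hq
    rw [hηlin] at this
    exact this
  haveI : Module.Finite A (LinearMap.range (Matrix.toLin' η₀)) := Module.Finite.range _
  haveI : Module.Projective A (LinearMap.range (Matrix.toLin' η₀)) :=
    HorAff.range_idem_projective η₀ hη₀
  refine ⟨LinearMap.range (Matrix.toLin' η₀), inferInstance, inferInstance, inferInstance,
    inferInstance, g, ψ2 ∘ₗ a ∘ₗ c.symm.toLinearMap, c.toLinearMap ∘ₗ b ∘ₗ ψ1, hg, ?_, ?_⟩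
  · intro z
    simp only [LinearMap.comp_apply, LinearEquiv.coe_coe, h12, hba, map_smul,
      LinearEquiv.apply_symm_apply]
  · intro y
    simp only [LinearMap.comp_apply, LinearEquiv.coe_coe, LinearEquiv.symm_apply_apply, hab,
      map_smul, h21]

end P1a

section P1b

open LaurentPolynomial

variable {A : Type u} [CommRing A]

/-- the scalar tower `A → A[X] → A[T;T⁻¹]`. -/
theorem towerLaurent (A : Type u) [CommRing A] : IsScalarTower A A[X] A[T;T⁻¹] :=
  IsScalarTower.of_algebraMap_eq fun a => by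
    rw [LaurentPolynomial.algebraMap_eq_toLaurent, ← Polynomial.C_eq_algebraMap,
      Polynomial.toLaurent_C, LaurentPolynomial.C_eq_algebraMap]

attribute [local instance] towerLaurent

theorem faithfulLaurent (A : Type u) [CommRing A] : FaithfulSMul A[X] A[T;T⁻¹] :=
  (faithfulSMul_iff_algebraMap_injective A[X] A[T;T⁻¹]).mpr Polynomial.toLaurent_injective

attribute [local instance] faithfulLaurent

variable (N0 : Type v) [AddCommGroup N0] [Module A N0]

/-- `invert ⊗ id` on `A[T;T⁻¹] ⊗[A] N0`. -/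
noncomputable def tauInv : A[T;T⁻¹] ⊗[A] N0 →ₗ[A] A[T;T⁻¹] ⊗[A] N0 :=
  LinearMap.rTensor N0 (LaurentPolynomial.invert (R := A)).toLinearMap

theorem tauInv_tmul (l : A[T;T⁻¹]) (n : N0) : tauInv N0 (l ⊗ₜ[A] n) = invert l ⊗ₜ[A] n := rfl

theorem tauInv_smul (l : A[T;T⁻¹]) (z : A[T;T⁻¹] ⊗[A] N0) :
    tauInv N0 (l • z) = invert l • tauInv N0 z := by
  induction z using TensorProduct.induction_on with
  | zero => simp
  | tmul l' n => rw [smul_tmul', tauInv_tmul, tauInv_tmul, smul_tmul', smul_eq_mul, map_mul,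
      smul_eq_mul]
  | add x y hx hy => rw [smul_add, map_add, hx, hy, map_add, smul_add]

theorem tauInv_tauInv (z : A[T;T⁻¹] ⊗[A] N0) : tauInv N0 (tauInv N0 z) = z := by
  induction z using TensorProduct.induction_on with
  | zero => simp
  | tmul l' n => rw [tauInv_tmul, tauInv_tmul, LaurentPolynomial.involutive_invert l']
  | add x y hx hy => rw [map_add, map_add, hx, hy]

/-- the semilinear involution on `A[T;T⁻¹] ⊗[A[X]] (A[X] ⊗[A] N0)`. -/
noncomputable def JJ (y : A[T;T⁻¹] ⊗[A[X]] (A[X] ⊗[A] N0)) : A[T;T⁻¹] ⊗[A[X]] (A[X] ⊗[A] N0) :=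
  (TensorProduct.AlgebraTensorModule.cancelBaseChange A A[X] A[T;T⁻¹] A[T;T⁻¹] N0).symm
    (tauInv N0 (TensorProduct.AlgebraTensorModule.cancelBaseChange A A[X] A[T;T⁻¹] A[T;T⁻¹] N0 y))

theorem JJ_add (y y' : A[T;T⁻¹] ⊗[A[X]] (A[X] ⊗[A] N0)) : JJ N0 (y + y') = JJ N0 y + JJ N0 y' := by
  simp only [JJ, map_add]

theorem JJ_smul (l : A[T;T⁻¹]) (y : A[T;T⁻¹] ⊗[A[X]] (A[X] ⊗[A] N0)) :
    JJ N0 (l • y) = invert l • JJ N0 y := by
  simp only [JJ, map_smul, tauInv_smul]

theorem JJ_JJ (y : A[T;T⁻¹] ⊗[A[X]] (A[X] ⊗[A] N0)) : JJ N0 (JJ N0 y) = y := by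
  simp only [JJ, LinearEquiv.apply_symm_apply, tauInv_tauInv, LinearEquiv.symm_apply_apply]

variable {N0}

theorem X_pow_smul_eq {Q : Type*} [AddCommGroup Q] [Module A[X] Q] (k : ℕ)
    (w : A[T;T⁻¹] ⊗[A[X]] Q) : ((X : A[X]) ^ k) • w = (T (k : ℤ) : A[T;T⁻¹]) • w := by
  rw [← algebraMap_smul A[T;T⁻¹] ((X : A[X]) ^ k) w, algebraMap_eq_toLaurent, toLaurent_X_pow]

/-- from gluing data on `P¹` to a monic pseudo-isomorphism with an extended module. -/
theorem pseudoIso_of_glue {M : Type*} [AddCommGroup M] [Module A[X] M] [Module.Finite A[X] M]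
    [Module.Projective A[X] M] {N : Type*} [AddCommGroup N] [Module A[X] N]
    [Module.Finite A N0] [Module.Projective A N0]
    (g : A[X]) (hg : g.coeff 0 = 1)
    (α : A[X] ⊗[A] N0 →ₗ[A[X]] N) (β : N →ₗ[A[X]] A[X] ⊗[A] N0)
    (hβα : ∀ z, β (α z) = g • z) (hαβ : ∀ y, α (β y) = g • y)
    (e : (A[T;T⁻¹] ⊗[A[X]] M) →ₛₗ[(LaurentPolynomial.invert (R := A)).toRingEquiv.toRingHom]
      (A[T;T⁻¹] ⊗[A[X]] N))
    (he : Function.Bijective e) :
    ∃ (F : A[X]) (uu : M →ₗ[A[X]] A[X] ⊗[A] N0) (vv : A[X] ⊗[A] N0 →ₗ[A[X]] M),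
      F.Monic ∧ (∀ x, vv (uu x) = F • x) ∧ (∀ y, uu (vv y) = F • y) := by
  classical
  have hσ : ∀ l : A[T;T⁻¹],
    (LaurentPolynomial.invert (R := A)).toRingEquiv.toRingHom l = invert l := fun l => rfl
  have hinv : ∀ l : A[T;T⁻¹], invert (invert l) = l := LaurentPolynomial.involutive_invert
  let αL : A[T;T⁻¹] ⊗[A[X]] (A[X] ⊗[A] N0) →ₗ[A[T;T⁻¹]] A[T;T⁻¹] ⊗[A[X]] N :=
    α.baseChange A[T;T⁻¹]
  let βL : A[T;T⁻¹] ⊗[A[X]] N →ₗ[A[T;T⁻¹]] A[T;T⁻¹] ⊗[A[X]] (A[X] ⊗[A] N0) :=
    β.baseChange A[T;T⁻¹]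
  have hαβL : ∀ w, αL (βL w) = g • w := by
    intro w
    induction w using TensorProduct.induction_on with
    | zero => simp
    | tmul l n => simp only [αL, βL, LinearMap.baseChange_tmul, hαβ, TensorProduct.tmul_smul]
    | add x y hx hy => rw [map_add, map_add, hx, hy, smul_add]
  have hβαL : ∀ w, βL (αL w) = g • w := by
    intro w
    induction w using TensorProduct.induction_on with
    | zero => simp
    | tmul l n => simp only [αL, βL, LinearMap.baseChange_tmul, hβα, TensorProduct.tmul_smul]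
    | add x y hx hy => rw [map_add, map_add, hx, hy, smul_add]
  let eq := Equiv.ofBijective e he
  have heq : ∀ w, e (eq.symm w) = w := fun w => Equiv.ofBijective_apply_symm_apply e he w
  have hqe : ∀ x, eq.symm (e x) = x := fun x => Equiv.ofBijective_symm_apply_apply e he x
  let uL : A[T;T⁻¹] ⊗[A[X]] M →ₗ[A[T;T⁻¹]] A[T;T⁻¹] ⊗[A[X]] (A[X] ⊗[A] N0) :=
    { toFun := fun x => JJ N0 (βL (e x))
      map_add' := fun x y => by simp only [map_add, JJ_add]
      map_smul' := fun l x => by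
        simp only [RingHom.id_apply]
        rw [e.map_smulₛₗ, map_smul, JJ_smul, hσ, hinv] }
  let vL : A[T;T⁻¹] ⊗[A[X]] (A[X] ⊗[A] N0) →ₗ[A[T;T⁻¹]] A[T;T⁻¹] ⊗[A[X]] M :=
    { toFun := fun y => eq.symm (αL (JJ N0 y))
      map_add' := fun y y' => by
        apply he.1
        rw [map_add, heq, heq, heq, JJ_add, map_add]
      map_smul' := fun l y => by
        apply he.1
        simp only [RingHom.id_apply]
        rw [e.map_smulₛₗ, heq, heq, JJ_smul, map_smul, hσ] }
  have hvuL : ∀ x, vL (uL x) = invert (toLaurent g) • x := by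
    intro x
    show eq.symm (αL (JJ N0 (JJ N0 (βL (e x))))) = _
    rw [JJ_JJ, hαβL]
    apply he.1
    rw [heq, e.map_smulₛₗ, hσ, hinv, ← algebraMap_eq_toLaurent, algebraMap_smul]
  have huvL : ∀ y, uL (vL y) = invert (toLaurent g) • y := by
    intro y
    show JJ N0 (βL (e (eq.symm (αL (JJ N0 y))))) = _
    rw [heq, hβαL, ← algebraMap_smul A[T;T⁻¹] g, JJ_smul, JJ_JJ, algebraMap_eq_toLaurent]
  -- descent
  let S := Submonoid.powers (X : A[X])
  let mkM : M →ₗ[A[X]] A[T;T⁻¹] ⊗[A[X]] M := TensorProduct.mk A[X] A[T;T⁻¹] M 1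
  let mkE : (A[X] ⊗[A] N0) →ₗ[A[X]] A[T;T⁻¹] ⊗[A[X]] (A[X] ⊗[A] N0) :=
    TensorProduct.mk A[X] A[T;T⁻¹] (A[X] ⊗[A] N0) 1
  haveI : Module.FinitePresentation A[X] M := Module.finitePresentation_of_projective A[X] M
  haveI : Module.FinitePresentation A[X] (A[X] ⊗[A] N0) :=
    Module.finitePresentation_of_projective A[X] _
  have hmkM : Function.Injective mkM :=
    Module.Flat.tensorProduct_mk_injective (R := A[X]) (S := A[T;T⁻¹]) (M := M)
  have hmkE : Function.Injective mkE :=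
    Module.Flat.tensorProduct_mk_injective (R := A[X]) (S := A[T;T⁻¹]) (M := A[X] ⊗[A] N0)
  obtain ⟨h, ⟨_, a, rfl⟩, hh⟩ := Module.FinitePresentation.exists_lift_of_isLocalizedModule S mkE
     ((uL.restrictScalars A[X]) ∘ₗ mkM)
  obtain ⟨h', ⟨_, b, rfl⟩, hh'⟩ := Module.FinitePresentation.exists_lift_of_isLocalizedModule S mkM
     ((vL.restrictScalars A[X]) ∘ₗ mkE)
  have hh1 : ∀ m, mkE (h m) = (T (a : ℤ) : A[T;T⁻¹]) • uL (mkM m) := by
    intro m
    have := congrArg (fun φ => φ m) hh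
    simp only [LinearMap.comp_apply, LinearMap.smul_apply, Submonoid.smul_def,
      LinearMap.restrictScalars_apply] at this
    rw [this, X_pow_smul_eq]
  have hh2 : ∀ z, mkM (h' z) = (T (b : ℤ) : A[T;T⁻¹]) • vL (mkE z) := by
    intro z
    have := congrArg (fun φ => φ z) hh'
    simp only [LinearMap.comp_apply, LinearMap.smul_apply, Submonoid.smul_def,
      LinearMap.restrictScalars_apply] at this
    rw [this, X_pow_smul_eq]
  have hmkM_smul : ∀ (p : A[X]) (m : M), mkM (p • m) = toLaurent p • mkM m := by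
    intro p m
    rw [map_smul, ← algebraMap_smul A[T;T⁻¹] p (mkM m), algebraMap_eq_toLaurent]
  have hmkE_smul : ∀ (p : A[X]) (z : A[X] ⊗[A] N0), mkE (p • z) = toLaurent p • mkE z := by
    intro p z
    rw [map_smul, ← algebraMap_smul A[T;T⁻¹] p (mkE z), algebraMap_eq_toLaurent]
  have hrev : g.reverse.Monic := by
    rcases subsingleton_or_nontrivial A with hA | hA
    · exact Subsingleton.elim _ _
    · show g.reverse.leadingCoeff = 1
      rw [reverse_leadingCoeff, trailingCoeff_eq_coeff_zero (by rw [hg]; exact one_ne_zero), hg]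
  have hF : toLaurent ((X : A[X]) ^ (a + b) * g.reverse) =
      T (g.natDegree : ℤ) * (T (b : ℤ) * (T (a : ℤ) * invert (toLaurent g))) := by
    rw [map_mul, toLaurent_X_pow, toLaurent_reverse, Nat.cast_add, T_add]
    ring
  refine ⟨(X : A[X]) ^ (a + b) * g.reverse, h, (X : A[X]) ^ g.natDegree • h',
    (monic_X_pow _).mul hrev, fun m => ?_, fun z => ?_⟩
  · apply hmkM
    rw [hmkM_smul, hF, LinearMap.smul_apply, hmkM_smul, toLaurent_X_pow, hh2, hh1, map_smul, hvuL]
    simp only [smul_smul]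
  · apply hmkE
    rw [hmkE_smul, hF, LinearMap.smul_apply, map_smul, hmkE_smul, toLaurent_X_pow, hh1, hh2,
      map_smul, huvL]
    simp only [smul_smul]
    congr 1
    ring

end P1b

end Groth.Agent.Lib.helper12.HorP1
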