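import Mathlib
import Groth.Agent.Lib.Helper12.HorP1

set_option linter.style.haveILetI false
set_option linter.unusedSectionVars false

/-!
# Isomorphism over `A(t)` implies isomorphism over `A` (via Horrocks)

* `exists_lattice`: elementary modification `Q` of `E` along `X = 0` built from `ũ, ṽ` with
  `ṽ ũ = ũ ṽ = X^k g`, `g(0) = 1`, as a direct summand of `E × E'`.
* `fibre_iso`: comparing fibres of pseudo-isomorphic modules at a point where the multiplier is `1`.
* `exists_monic_pseudoIso`: descent of an isomorphism over the localization at monic polynomials.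
* `exists_reverse_pseudoIso`: passing to the chart at infinity.
-/

namespace Groth.Agent.Lib.helper12.HorIso

open Polynomial TensorProduct

universe u v

section Lattice

variable {A : Type u} [CommRing A] {E E' : Type*} [AddCommGroup E] [Module A[X] E]
  [AddCommGroup E'] [Module A[X] E']

/-- Elementary modification: from `ũ, ṽ` with `ṽ ũ = ũ ṽ = X^k g` and `a X^k + b g = 1`, a module
`Q` (a direct summand of `E × E'`) pseudo-isomorphic to `E` via `X^k` and to `E'` via `g`. -/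
theorem exists_lattice (ut : E →ₗ[A[X]] E') (vt : E' →ₗ[A[X]] E) (k : ℕ) (g a b : A[X])
    (hvu : ∀ x, vt (ut x) = (X ^ k * g) • x) (huv : ∀ y, ut (vt y) = (X ^ k * g) • y)
    (hab : a * X ^ k + b * g = 1) :
    ∃ (Q : Submodule A[X] (E × E')) (r : E × E' →ₗ[A[X]] Q) (uu : Q →ₗ[A[X]] E)
      (vv : E →ₗ[A[X]] Q) (ww : Q →ₗ[A[X]] E') (zz : E' →ₗ[A[X]] Q),
      (∀ x : Q, r (x : E × E') = x) ∧
      (∀ x, vv (uu x) = (X ^ k : A[X]) • x) ∧ (∀ p, uu (vv p) = (X ^ k : A[X]) • p) ∧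
      (∀ x, zz (ww x) = g • x) ∧ (∀ p, ww (zz p) = g • p) := by
  have hab1 : ∀ z : E, z = (a * X ^ k + b * g) • z := fun z => by rw [hab, one_smul]
  have hab2 : ∀ z : E', z = (a * X ^ k + b * g) • z := fun z => by rw [hab, one_smul]
  let pi1 : E × E' →ₗ[A[X]] E :=
    (X ^ k : A[X]) • LinearMap.fst A[X] E E' + vt ∘ₗ LinearMap.snd A[X] E E'
  let pi2 : E × E' →ₗ[A[X]] E' := ut ∘ₗ LinearMap.fst A[X] E E' + g • LinearMap.snd A[X] E E'
  let Eop : E × E' →ₗ[A[X]] E × E' := LinearMap.prod (a • pi1) (b • pi2)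
  have hpi1 : ∀ p p', pi1 (p, p') = (X ^ k : A[X]) • p + vt p' := fun p p' => rfl
  have hpi2 : ∀ p p', pi2 (p, p') = ut p + g • p' := fun p p' => rfl
  have hE : ∀ x, Eop x = (a • pi1 x, b • pi2 x) := fun x => rfl
  have R1 : ∀ x, vt (pi2 x) = g • pi1 x := by
    rintro ⟨p, p'⟩
    rw [hpi1, hpi2, map_add, map_smul, hvu]
    module
  have R2 : ∀ x, ut (pi1 x) = (X ^ k : A[X]) • pi2 x := by
    rintro ⟨p, p'⟩
    rw [hpi1, hpi2, map_add, map_smul, huv]
    module
  have R3 : ∀ x, pi1 (Eop x) = pi1 x := by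
    intro x
    rw [hE, hpi1, map_smul, R1]
    conv_rhs => rw [hab1 (pi1 x)]
    module
  have R4 : ∀ x, pi2 (Eop x) = pi2 x := by
    intro x
    rw [hE, hpi2, map_smul, R2]
    conv_rhs => rw [hab2 (pi2 x)]
    module
  have hEE : ∀ x, Eop (Eop x) = Eop x := by
    intro x
    rw [hE (Eop x), R3, R4, hE]
  let Q : Submodule A[X] (E × E') := LinearMap.range Eop
  have hQ : ∀ x : Q, Eop (x : E × E') = x := by
    rintro ⟨_, y, rfl⟩
    exact hEE y
  let vv : E →ₗ[A[X]] Q := Eop.rangeRestrict ∘ₗ LinearMap.inl A[X] E E'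
  let zz : E' →ₗ[A[X]] Q := Eop.rangeRestrict ∘ₗ LinearMap.inr A[X] E E'
  have hE1 : ∀ p, Eop (p, 0) = ((a * X ^ k) • p, b • ut p) := by
    intro p
    rw [hE, hpi1, hpi2, map_zero, add_zero, smul_zero, add_zero, smul_smul]
  have hE0 : ∀ q, Eop (0, q) = (a • vt q, (b * g) • q) := by
    intro q
    rw [hE, hpi1, hpi2, map_zero, zero_add, smul_zero, zero_add, smul_smul]
  refine ⟨Q, Eop.rangeRestrict, pi1 ∘ₗ Q.subtype, vv, pi2 ∘ₗ Q.subtype, zz, ?_, ?_, ?_, ?_, ?_⟩
  · intro x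
    apply Subtype.ext
    exact hQ x
  · intro x
    apply Subtype.ext
    show Eop (pi1 (x : E × E'), 0) = (X ^ k : A[X]) • (x : E × E')
    conv_rhs => rw [← hQ x]
    generalize (x : E × E') = y
    rw [hE1, R2, hE, Prod.smul_mk]
    congr 1 <;> module
  · intro p
    show pi1 (Eop (p, 0)) = _
    rw [R3, hpi1, map_zero, add_zero]
  · intro x
    apply Subtype.ext
    show Eop (0, pi2 (x : E × E')) = g • (x : E × E')
    conv_rhs => rw [← hQ x]
    generalize (x : E × E') = y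
    rw [hE0, R1, hE, Prod.smul_mk]
    congr 1 <;> module
  · intro p
    show pi2 (Eop (0, p)) = _
    rw [R4, hpi2, map_zero, zero_add]

end Lattice

section Fibre

variable {A : Type u} [CommRing A]

/-- if `Q` is pseudo-isomorphic to `A[X] ⊗ P` via `G` with `G(c) = 1` and `Q ≃ A[X] ⊗ Q₀`, then
`P ≃ Q₀` (compare fibres at `X = c`). -/
theorem fibre_iso (c : A) {Q : Type*} [AddCommGroup Q] [Module A[X] Q] (P : Type*) [AddCommGroup P]
    [Module A P] (f : Q →ₗ[A[X]] A[X] ⊗[A] P) (f' : A[X] ⊗[A] P →ₗ[A[X]] Q) (G : A[X])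
    (hG : G.eval c = 1) (h1 : ∀ x, f' (f x) = G • x) (h2 : ∀ y, f (f' y) = G • y)
    (Q₀ : Type*) [AddCommGroup Q₀] [Module A Q₀] (φ : Q ≃ₗ[A[X]] A[X] ⊗[A] Q₀) :
    Nonempty (P ≃ₗ[A] Q₀) := by
  letI alg : Algebra A[X] A := (Polynomial.evalRingHom c).toAlgebra
  haveI : IsScalarTower A A[X] A := IsScalarTower.of_algebraMap_eq fun a => by
    show a = eval c (C a)
    simp
  have hsm : ∀ (a : A), G • a = a := fun a => by
    show eval c G * a = a
    rw [hG, one_mul]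
  have key : ∀ {Q' : Type _} [AddCommGroup Q'] [Module A[X] Q'] (a : A) (q : Q'),
      a ⊗ₜ[A[X]] (G • q) = a ⊗ₜ[A[X]] q := by
    intro Q' _ _ a q
    rw [← TensorProduct.smul_tmul, hsm]
  let fb : A ⊗[A[X]] Q →ₗ[A] A ⊗[A[X]] (A[X] ⊗[A] P) := f.baseChange A
  let fb' : A ⊗[A[X]] (A[X] ⊗[A] P) →ₗ[A] A ⊗[A[X]] Q := f'.baseChange A
  have hb1 : ∀ z, fb' (fb z) = z := by
    intro z
    induction z using TensorProduct.induction_on with
    | zero => simp
    | tmul a q =>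
      simp only [fb, fb', LinearMap.baseChange_tmul, h1]
      rw [← TensorProduct.smul_tmul, hsm]
    | add x y hx hy => rw [map_add, map_add, hx, hy]
  have hb2 : ∀ z, fb (fb' z) = z := by
    intro z
    induction z using TensorProduct.induction_on with
    | zero => simp
    | tmul a q =>
      simp only [fb, fb', LinearMap.baseChange_tmul, h2]
      exact key a q
    | add x y hx hy => rw [map_add, map_add, hx, hy]
  let e1 : A ⊗[A[X]] Q ≃ₗ[A] A ⊗[A[X]] (A[X] ⊗[A] P) :=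
    LinearEquiv.ofLinearMap fb fb' (LinearMap.ext hb2) (LinearMap.ext hb1)
  let e2 : A ⊗[A[X]] (A[X] ⊗[A] P) ≃ₗ[A] P :=
    TensorProduct.AlgebraTensorModule.cancelBaseChange A A[X] A A P ≪≫ₗ TensorProduct.lid A P
  let e3 : A ⊗[A[X]] Q ≃ₗ[A] A ⊗[A[X]] (A[X] ⊗[A] Q₀) := LinearEquiv.baseChange A[X] A _ _ φ
  let e4 : A ⊗[A[X]] (A[X] ⊗[A] Q₀) ≃ₗ[A] Q₀ :=
    TensorProduct.AlgebraTensorModule.cancelBaseChange A A[X] A A Q₀ ≪≫ₗ TensorProduct.lid A Q₀
  exact ⟨e2.symm ≪≫ₗ e1.symm ≪≫ₗ e3 ≪≫ₗ e4⟩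

theorem exists_comax (k : ℕ) (g : A[X]) (hg : g.coeff 0 = 1) :
    ∃ a b : A[X], a * X ^ k + b * g = 1 := by
  have h1 : IsCoprime (X : A[X]) g := by
    refine ⟨-divX g, 1, ?_⟩
    have := X_mul_divX_add g
    rw [hg, map_one] at this
    linear_combination -this
  exact h1.pow_left

end Fibre

section Descent

variable {A : Type u} [CommRing A]

/-- from an isomorphism over the localization at monic polynomials to a monic pseudo-isomorphism
over `A[X]`. -/
theorem exists_monic_pseudoIso (M : Submonoid A[X]) (hM : ∀ f : A[X], f ∈ M ↔ f.Monic)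
    (At : Type*) [CommRing At] [Algebra A[X] At] [IsLocalization M At]
    [Algebra A At] [IsScalarTower A A[X] At]
    (P P' : Type*) [AddCommGroup P] [Module A P] [Module.Finite A P] [Module.Projective A P]
    [AddCommGroup P'] [Module A P'] [Module.Finite A P'] [Module.Projective A P']
    (h : (At ⊗[A] P) ≃ₗ[At] (At ⊗[A] P')) :
    ∃ (F : A[X]) (u : A[X] ⊗[A] P →ₗ[A[X]] A[X] ⊗[A] P')
      (v : A[X] ⊗[A] P' →ₗ[A[X]] A[X] ⊗[A] P),
      F.Monic ∧ (∀ x, v (u x) = F • x) ∧ (∀ y, u (v y) = F • y) := by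
  classical
  have hle : M ≤ nonZeroDivisors A[X] := fun f hf => ((hM f).mp hf).mem_nonZeroDivisors
  haveI : FaithfulSMul A[X] At :=
    (faithfulSMul_iff_algebraMap_injective A[X] At).mpr (IsLocalization.injective At hle)
  let κ : At ⊗[A[X]] (A[X] ⊗[A] P) ≃ₗ[At] At ⊗[A] P :=
    TensorProduct.AlgebraTensorModule.cancelBaseChange A A[X] At At P
  let κ' : At ⊗[A[X]] (A[X] ⊗[A] P') ≃ₗ[At] At ⊗[A] P' :=
    TensorProduct.AlgebraTensorModule.cancelBaseChange A A[X] At At P'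
  let h' : At ⊗[A[X]] (A[X] ⊗[A] P) ≃ₗ[At] At ⊗[A[X]] (A[X] ⊗[A] P') := κ ≪≫ₗ h ≪≫ₗ κ'.symm
  let mkE : (A[X] ⊗[A] P) →ₗ[A[X]] At ⊗[A[X]] (A[X] ⊗[A] P) :=
    TensorProduct.mk A[X] At (A[X] ⊗[A] P) 1
  let mkE' : (A[X] ⊗[A] P') →ₗ[A[X]] At ⊗[A[X]] (A[X] ⊗[A] P') :=
    TensorProduct.mk A[X] At (A[X] ⊗[A] P') 1
  haveI : Module.FinitePresentation A[X] (A[X] ⊗[A] P) :=
    Module.finitePresentation_of_projective A[X] _
  haveI : Module.FinitePresentation A[X] (A[X] ⊗[A] P') :=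
    Module.finitePresentation_of_projective A[X] _
  have hmkE : Function.Injective mkE :=
    Module.Flat.tensorProduct_mk_injective (R := A[X]) (S := At) (M := A[X] ⊗[A] P)
  have hmkE' : Function.Injective mkE' :=
    Module.Flat.tensorProduct_mk_injective (R := A[X]) (S := At) (M := A[X] ⊗[A] P')
  obtain ⟨u, s1, hu⟩ := Module.FinitePresentation.exists_lift_of_isLocalizedModule M mkE'
    ((h'.toLinearMap.restrictScalars A[X]) ∘ₗ mkE)
  obtain ⟨v, s2, hv⟩ := Module.FinitePresentation.exists_lift_of_isLocalizedModule M mkE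
    ((h'.symm.toLinearMap.restrictScalars A[X]) ∘ₗ mkE')
  have hu1 : ∀ x, mkE' (u x) = (s1 : A[X]) • h' (mkE x) := by
    intro x
    have := congrArg (fun φ => φ x) hu
    simpa only [LinearMap.comp_apply, LinearMap.smul_apply, Submonoid.smul_def,
      LinearMap.restrictScalars_apply, LinearEquiv.coe_coe] using this
  have hv1 : ∀ y, mkE (v y) = (s2 : A[X]) • h'.symm (mkE' y) := by
    intro y
    have := congrArg (fun φ => φ y) hv
    simpa only [LinearMap.comp_apply, LinearMap.smul_apply, Submonoid.smul_def,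
      LinearMap.restrictScalars_apply, LinearEquiv.coe_coe] using this
  have hsm : ∀ (p : A[X]) (w : At ⊗[A[X]] (A[X] ⊗[A] P)) ,
      h' (p • w) = p • h' w := fun p w => by
    rw [← algebraMap_smul At p w, map_smul, algebraMap_smul]
  have hsm' : ∀ (p : A[X]) (w : At ⊗[A[X]] (A[X] ⊗[A] P')) ,
      h'.symm (p • w) = p • h'.symm w := fun p w => by
    rw [← algebraMap_smul At p w, map_smul, algebraMap_smul]
  refine ⟨(s2 : A[X]) * (s1 : A[X]), u, v, (hM _).mp (M.mul_mem s2.2 s1.2), fun x => ?_, fun y => ?_⟩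
  · apply hmkE
    rw [hv1, hu1, hsm', LinearEquiv.symm_apply_apply, smul_smul, map_smul]
  · apply hmkE'
    rw [hu1, hv1, hsm, LinearEquiv.apply_symm_apply, smul_smul, map_smul, mul_comm]

end Descent

section Reverse

open LaurentPolynomial

variable {A : Type u} [CommRing A]

attribute [local instance] HorP1.towerLaurent HorP1.faithfulLaurent

open HorP1 in
/-- passing to the chart at infinity: a monic pseudo-isomorphism between extended modules yields a
pseudo-isomorphism via `X^k * g` with `g(0) = 1`. -/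
theorem exists_reverse_pseudoIso
    (P P' : Type*) [AddCommGroup P] [Module A P] [Module.Finite A P] [Module.Projective A P]
    [AddCommGroup P'] [Module A P'] [Module.Finite A P'] [Module.Projective A P']
    (F : A[X]) (hF : F.Monic) (u : A[X] ⊗[A] P →ₗ[A[X]] A[X] ⊗[A] P')
    (v : A[X] ⊗[A] P' →ₗ[A[X]] A[X] ⊗[A] P)
    (hvu : ∀ x, v (u x) = F • x) (huv : ∀ y, u (v y) = F • y) :
    ∃ (k : ℕ) (g : A[X]) (ut : A[X] ⊗[A] P →ₗ[A[X]] A[X] ⊗[A] P')
      (vt : A[X] ⊗[A] P' →ₗ[A[X]] A[X] ⊗[A] P),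
      g.coeff 0 = 1 ∧ (∀ x, vt (ut x) = (X ^ k * g) • x) ∧ (∀ y, ut (vt y) = (X ^ k * g) • y) := by
  classical
  have hinv : ∀ l : A[T;T⁻¹], invert (invert l) = l := LaurentPolynomial.involutive_invert
  let uL : A[T;T⁻¹] ⊗[A[X]] (A[X] ⊗[A] P) →ₗ[A[T;T⁻¹]] A[T;T⁻¹] ⊗[A[X]] (A[X] ⊗[A] P') :=
    u.baseChange A[T;T⁻¹]
  let vL : A[T;T⁻¹] ⊗[A[X]] (A[X] ⊗[A] P') →ₗ[A[T;T⁻¹]] A[T;T⁻¹] ⊗[A[X]] (A[X] ⊗[A] P) :=
    v.baseChange A[T;T⁻¹]
  have hvuL : ∀ w, vL (uL w) = F • w := by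
    intro w
    induction w using TensorProduct.induction_on with
    | zero => simp
    | tmul l n => simp only [uL, vL, LinearMap.baseChange_tmul, hvu, TensorProduct.tmul_smul]
    | add x y hx hy => rw [map_add, map_add, hx, hy, smul_add]
  have huvL : ∀ w, uL (vL w) = F • w := by
    intro w
    induction w using TensorProduct.induction_on with
    | zero => simp
    | tmul l n => simp only [uL, vL, LinearMap.baseChange_tmul, huv, TensorProduct.tmul_smul]
    | add x y hx hy => rw [map_add, map_add, hx, hy, smul_add]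
  let utL : A[T;T⁻¹] ⊗[A[X]] (A[X] ⊗[A] P) →ₗ[A[T;T⁻¹]] A[T;T⁻¹] ⊗[A[X]] (A[X] ⊗[A] P') :=
    { toFun := fun x => JJ P' (uL (JJ P x))
      map_add' := fun x y => by simp only [map_add, JJ_add]
      map_smul' := fun l x => by
        simp only [RingHom.id_apply]
        rw [JJ_smul, map_smul, JJ_smul, hinv] }
  let vtL : A[T;T⁻¹] ⊗[A[X]] (A[X] ⊗[A] P') →ₗ[A[T;T⁻¹]] A[T;T⁻¹] ⊗[A[X]] (A[X] ⊗[A] P) :=
    { toFun := fun x => JJ P (vL (JJ P' x))
      map_add' := fun x y => by simp only [map_add, JJ_add]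
      map_smul' := fun l x => by
        simp only [RingHom.id_apply]
        rw [JJ_smul, map_smul, JJ_smul, hinv] }
  have hvutL : ∀ x, vtL (utL x) = invert (toLaurent F) • x := by
    intro x
    show JJ P (vL (JJ P' (JJ P' (uL (JJ P x))))) = _
    rw [JJ_JJ, hvuL, ← algebraMap_smul A[T;T⁻¹] F, JJ_smul, JJ_JJ, algebraMap_eq_toLaurent]
  have huvtL : ∀ y, utL (vtL y) = invert (toLaurent F) • y := by
    intro y
    show JJ P' (uL (JJ P (JJ P (vL (JJ P' y))))) = _
    rw [JJ_JJ, huvL, ← algebraMap_smul A[T;T⁻¹] F, JJ_smul, JJ_JJ, algebraMap_eq_toLaurent]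
  -- descent
  let S := Submonoid.powers (X : A[X])
  let mkE : (A[X] ⊗[A] P) →ₗ[A[X]] A[T;T⁻¹] ⊗[A[X]] (A[X] ⊗[A] P) :=
    TensorProduct.mk A[X] A[T;T⁻¹] (A[X] ⊗[A] P) 1
  let mkE' : (A[X] ⊗[A] P') →ₗ[A[X]] A[T;T⁻¹] ⊗[A[X]] (A[X] ⊗[A] P') :=
    TensorProduct.mk A[X] A[T;T⁻¹] (A[X] ⊗[A] P') 1
  haveI : Module.FinitePresentation A[X] (A[X] ⊗[A] P) :=
    Module.finitePresentation_of_projective A[X] _
  haveI : Module.FinitePresentation A[X] (A[X] ⊗[A] P') :=
    Module.finitePresentation_of_projective A[X] _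
  have hmkE : Function.Injective mkE :=
    Module.Flat.tensorProduct_mk_injective (R := A[X]) (S := A[T;T⁻¹]) (M := A[X] ⊗[A] P)
  have hmkE' : Function.Injective mkE' :=
    Module.Flat.tensorProduct_mk_injective (R := A[X]) (S := A[T;T⁻¹]) (M := A[X] ⊗[A] P')
  obtain ⟨h, ⟨_, a, rfl⟩, hh⟩ := Module.FinitePresentation.exists_lift_of_isLocalizedModule S mkE'
     ((utL.restrictScalars A[X]) ∘ₗ mkE)
  obtain ⟨h', ⟨_, b, rfl⟩, hh'⟩ := Module.FinitePresentation.exists_lift_of_isLocalizedModule S mkE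
     ((vtL.restrictScalars A[X]) ∘ₗ mkE')
  have hh1 : ∀ m, mkE' (h m) = (T (a : ℤ) : A[T;T⁻¹]) • utL (mkE m) := by
    intro m
    have := congrArg (fun φ => φ m) hh
    simp only [LinearMap.comp_apply, LinearMap.smul_apply, Submonoid.smul_def,
      LinearMap.restrictScalars_apply] at this
    rw [this, X_pow_smul_eq]
  have hh2 : ∀ z, mkE (h' z) = (T (b : ℤ) : A[T;T⁻¹]) • vtL (mkE' z) := by
    intro z
    have := congrArg (fun φ => φ z) hh'
    simp only [LinearMap.comp_apply, LinearMap.smul_apply, Submonoid.smul_def,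
      LinearMap.restrictScalars_apply] at this
    rw [this, X_pow_smul_eq]
  have hmkE_smul : ∀ (p : A[X]) (z : A[X] ⊗[A] P), mkE (p • z) = toLaurent p • mkE z := by
    intro p z
    rw [map_smul, ← algebraMap_smul A[T;T⁻¹] p (mkE z), algebraMap_eq_toLaurent]
  have hmkE'_smul : ∀ (p : A[X]) (z : A[X] ⊗[A] P'), mkE' (p • z) = toLaurent p • mkE' z := by
    intro p z
    rw [map_smul, ← algebraMap_smul A[T;T⁻¹] p (mkE' z), algebraMap_eq_toLaurent]
  have hg0 : F.reverse.coeff 0 = 1 := by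
    rw [coeff_zero_reverse]; exact hF
  have hFr : toLaurent ((X : A[X]) ^ (a + b) * F.reverse) =
      T (F.natDegree : ℤ) * (T (b : ℤ) * (T (a : ℤ) * invert (toLaurent F))) := by
    rw [map_mul, toLaurent_X_pow, toLaurent_reverse, Nat.cast_add, T_add]
    ring
  refine ⟨a + b, F.reverse, h, (X : A[X]) ^ F.natDegree • h', hg0, fun m => ?_, fun z => ?_⟩
  · apply hmkE
    rw [hmkE_smul, hFr, LinearMap.smul_apply, hmkE_smul, toLaurent_X_pow, hh2, hh1, map_smul,
      hvutL]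
    simp only [smul_smul]
  · apply hmkE'
    rw [hmkE'_smul, hFr, LinearMap.smul_apply, map_smul, hmkE'_smul, toLaurent_X_pow, hh1, hh2,
      map_smul, huvtL]
    simp only [smul_smul]
    congr 1
    ring

end Reverse

end Groth.Agent.Lib.helper12.HorIso
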