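import Mathlib

set_option linter.style.haveILetI false
set_option linter.unusedSectionVars false

/-!
# Isomorphism over Laurent series implies isomorphism (via Horrocks): auxiliary lemmas

* `exists_lattice'`: elementary modification with non-scalar multiplier `1 + X^(k+1) W`.
* `fibre_iso0`: comparing fibres at `X = 0` of modules isomorphic modulo `X`.
* `exists_pseudoIso_of_localization`: descent of an isomorphism over a localization.
* `exists_poly_pseudoIso`: truncation of a pseudo-isomorphism over `A⟦X⟧` to one over `A[X]`.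
-/

namespace Groth.Agent.Lib.helper12.HorLS

open TensorProduct

universe u v

section PolyNotation

open Polynomial

section Lattice

variable {A : Type u} [CommRing A] {E E' : Type*} [AddCommGroup E] [Module A[X] E]
  [AddCommGroup E'] [Module A[X] E']

/-- Elementary modification, non-scalar version: from `ũ, ṽ` with `ṽ ũ = X^k (1 + X^(k+1) W)`,
`ũ ṽ = X^k (1 + X^(k+1) W')`, a direct summand `Q` of `E × E'` pseudo-isomorphic to `E` via `X^k`
and isomorphic to `E'` modulo `X`. -/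
theorem exists_lattice' (ut : E →ₗ[A[X]] E') (vt : E' →ₗ[A[X]] E) (k : ℕ)
    (W : E →ₗ[A[X]] E) (W' : E' →ₗ[A[X]] E')
    (hvu : ∀ x, vt (ut x) = (X ^ k : A[X]) • (x + (X ^ (k + 1) : A[X]) • W x))
    (huv : ∀ y, ut (vt y) = (X ^ k : A[X]) • (y + (X ^ (k + 1) : A[X]) • W' y))
    (hc1 : ∀ x, ut (W x) = W' (ut x)) (hc2 : ∀ y, W (vt y) = vt (W' y)) :
    ∃ (Q : Submodule A[X] (E × E')) (r : E × E' →ₗ[A[X]] Q) (uu : Q →ₗ[A[X]] E)
      (vv : E →ₗ[A[X]] Q) (ww : Q →ₗ[A[X]] E') (zz : E' →ₗ[A[X]] Q)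
      (h₁ : Q →ₗ[A[X]] Q) (h₂ : E' →ₗ[A[X]] E'),
      (∀ x : Q, r (x : E × E') = x) ∧
      (∀ x, vv (uu x) = (X ^ k : A[X]) • x) ∧ (∀ p, uu (vv p) = (X ^ k : A[X]) • p) ∧
      (∀ x, zz (ww x) = x + (X : A[X]) • h₁ x) ∧ (∀ p, ww (zz p) = p + (X : A[X]) • h₂ p) := by
  let pi1 : E × E' →ₗ[A[X]] E :=
    (X ^ k : A[X]) • LinearMap.fst A[X] E E' + vt ∘ₗ LinearMap.snd A[X] E E'
  let pi2 : E × E' →ₗ[A[X]] E' := ut ∘ₗ LinearMap.fst A[X] E E' +
    (LinearMap.id + (X ^ (k + 1) : A[X]) • W') ∘ₗ LinearMap.snd A[X] E E'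
  let Eop : E × E' →ₗ[A[X]] E × E' := LinearMap.prod (-((X : A[X]) • (W ∘ₗ pi1))) pi2
  have hpi1 : ∀ p p', pi1 (p, p') = (X ^ k : A[X]) • p + vt p' := fun p p' => rfl
  have hpi2 : ∀ p p', pi2 (p, p') = ut p + (p' + (X ^ (k + 1) : A[X]) • W' p') := fun p p' => rfl
  have hE : ∀ x, Eop x = (-((X : A[X]) • W (pi1 x)), pi2 x) := fun x => rfl
  -- relations
  have R1 : ∀ x, vt (pi2 x) = pi1 x + (X ^ (k + 1) : A[X]) • W (pi1 x) := by
    rintro ⟨p, p'⟩
    rw [hpi1, hpi2]
    simp only [map_add, map_smul, hvu, hc2]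
    module
  have R2 : ∀ x, ut (pi1 x) = (X ^ k : A[X]) • pi2 x := by
    rintro ⟨p, p'⟩
    rw [hpi1, hpi2]
    simp only [map_add, map_smul, huv]
    module
  have R3 : ∀ x, pi1 (Eop x) = pi1 x := by
    intro x
    rw [hE, hpi1, R1]
    module
  have R4 : ∀ x, pi2 (Eop x) = pi2 x := by
    intro x
    rw [hE, hpi2]
    simp only [map_neg, map_smul, hc1, R2]
    module
  have hEE : ∀ x, Eop (Eop x) = Eop x := by
    intro x
    rw [hE (Eop x), R3, R4, hE]
  let Q : Submodule A[X] (E × E') := LinearMap.range Eop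
  have hQ : ∀ x : Q, Eop (x : E × E') = x := by
    rintro ⟨_, y, rfl⟩
    exact hEE y
  let vv : E →ₗ[A[X]] Q := Eop.rangeRestrict ∘ₗ LinearMap.inl A[X] E E'
  let zz : E' →ₗ[A[X]] Q := Eop.rangeRestrict ∘ₗ LinearMap.inr A[X] E E'
  let Y : E × E' →ₗ[A[X]] E × E' :=
    LinearMap.prod (-((X ^ (k + 1) : A[X]) • (W ∘ₗ W ∘ₗ pi1))) ((X ^ k : A[X]) • (W' ∘ₗ pi2))
  have hY : ∀ x, Y x = (-((X ^ (k + 1) : A[X]) • W (W (pi1 x))), (X ^ k : A[X]) • W' (pi2 x)) :=
    fun x => rfl
  let h₁ : Q →ₗ[A[X]] Q := Eop.rangeRestrict ∘ₗ Y ∘ₗ Q.subtype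
  have hE1 : ∀ p, Eop (p, 0) = (-((X ^ (k + 1) : A[X]) • W p), ut p) := by
    intro p
    rw [hE, hpi1, hpi2]
    simp only [map_zero, smul_zero, add_zero, map_smul]
    congr 2
    module
  have hE0 : ∀ q, Eop (0, q) = (-((X : A[X]) • W (vt q)), q + (X ^ (k + 1) : A[X]) • W' q) := by
    intro q
    rw [hE, hpi1, hpi2]
    simp only [map_zero, smul_zero, zero_add]
  refine ⟨Q, Eop.rangeRestrict, pi1 ∘ₗ Q.subtype, vv, pi2 ∘ₗ Q.subtype, zz, h₁,
    (X ^ k : A[X]) • W', ?_, ?_, ?_, ?_, ?_⟩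
  · intro x
    apply Subtype.ext
    exact hQ x
  · intro x
    apply Subtype.ext
    show Eop (pi1 (x : E × E'), 0) = (X ^ k : A[X]) • (x : E × E')
    conv_rhs => rw [← hQ x]
    generalize (x : E × E') = y
    rw [hE1, R2, hE, Prod.smul_mk]
    congr 1
    module
  · intro p
    show pi1 (Eop (p, 0)) = _
    rw [R3, hpi1, map_zero, add_zero]
  · intro x
    apply Subtype.ext
    show Eop (0, pi2 (x : E × E')) = (x : E × E') + (X : A[X]) • Eop (Y (x : E × E'))
    have hx := hQ x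
    generalize (x : E × E') = y at hx ⊢
    have hY1 : pi1 (Y y) = (X ^ k : A[X]) • W (pi1 y) := by
      show (X ^ k : A[X]) • (-((X ^ (k + 1) : A[X]) • W (W (pi1 y)))) +
        vt ((X ^ k : A[X]) • W' (pi2 y)) = _
      simp only [map_smul, ← hc2, R1, map_add]
      module
    have hY2 : pi2 (Y y) = (X ^ k : A[X]) • W' (pi2 y) := by
      show ut (-((X ^ (k + 1) : A[X]) • W (W (pi1 y)))) + ((X ^ k : A[X]) • W' (pi2 y) +
        (X ^ (k + 1) : A[X]) • W' ((X ^ k : A[X]) • W' (pi2 y))) = _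
      simp only [map_neg, map_smul, hc1, R2]
      module
    have e1 : pi1 (0, pi2 y) = pi1 (y + (X : A[X]) • Y y) := by
      rw [map_add, map_smul, hY1]
      show (X ^ k : A[X]) • (0 : E) + vt (pi2 y) = _
      rw [R1]
      module
    have e2 : pi2 (0, pi2 y) = pi2 (y + (X : A[X]) • Y y) := by
      rw [map_add, map_smul, hY2]
      show ut (0 : E) + (pi2 y + (X ^ (k + 1) : A[X]) • W' (pi2 y)) = _
      rw [map_zero]
      module
    calc Eop (0, pi2 y) = Eop (y + (X : A[X]) • Y y) := by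
          rw [hE (0, pi2 y), hE (y + (X : A[X]) • Y y), e1, e2]
      _ = Eop y + (X : A[X]) • Eop (Y y) := by rw [map_add, map_smul]
      _ = y + (X : A[X]) • Eop (Y y) := by rw [hx]
  · intro p
    show pi2 (Eop (0, p)) = _
    rw [R4, hpi2, map_zero, zero_add, LinearMap.smul_apply]
    module

end Lattice

section Fibre

variable {A : Type u} [CommRing A]

/-- if `Q` and `A[X] ⊗ P` are isomorphic modulo `X` (via maps inverse to each other up to `X •`) and
`Q ≃ A[X] ⊗ Q₀`, then `P ≃ Q₀`. -/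
theorem fibre_iso0 {Q : Type*} [AddCommGroup Q] [Module A[X] Q] (P : Type*) [AddCommGroup P]
    [Module A P] (f : Q →ₗ[A[X]] A[X] ⊗[A] P) (f' : A[X] ⊗[A] P →ₗ[A[X]] Q)
    (h₁ : Q →ₗ[A[X]] Q) (h₂ : A[X] ⊗[A] P →ₗ[A[X]] A[X] ⊗[A] P)
    (H1 : ∀ x, f' (f x) = x + (X : A[X]) • h₁ x) (H2 : ∀ y, f (f' y) = y + (X : A[X]) • h₂ y)
    (Q₀ : Type*) [AddCommGroup Q₀] [Module A Q₀] (φ : Q ≃ₗ[A[X]] A[X] ⊗[A] Q₀) :
    Nonempty (P ≃ₗ[A] Q₀) := by
  letI alg : Algebra A[X] A := (Polynomial.evalRingHom (0 : A)).toAlgebra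
  haveI : IsScalarTower A A[X] A := IsScalarTower.of_algebraMap_eq fun a => by
    show a = eval 0 (C a)
    simp
  have hsm : ∀ (a : A), (X : A[X]) • a = 0 := fun a => by
    show eval 0 (X : A[X]) * a = 0
    rw [eval_X, zero_mul]
  have key : ∀ {Q' : Type _} [AddCommGroup Q'] [Module A[X] Q'] (a : A) (q : Q'),
      a ⊗ₜ[A[X]] ((X : A[X]) • q) = 0 := by
    intro Q' _ _ a q
    rw [← TensorProduct.smul_tmul, hsm, TensorProduct.zero_tmul]
  have key2 : ∀ (a : A) (q : Q), a ⊗ₜ[A[X]] ((X : A[X]) • q) = 0 := by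
    intro a q
    rw [← TensorProduct.smul_tmul, hsm, TensorProduct.zero_tmul]
  let fb : A ⊗[A[X]] Q →ₗ[A] A ⊗[A[X]] (A[X] ⊗[A] P) := f.baseChange A
  let fb' : A ⊗[A[X]] (A[X] ⊗[A] P) →ₗ[A] A ⊗[A[X]] Q := f'.baseChange A
  have hb1 : ∀ z, fb' (fb z) = z := by
    intro z
    induction z using TensorProduct.induction_on with
    | zero => simp
    | tmul a q =>
      simp only [fb, fb', LinearMap.baseChange_tmul, H1]
      rw [TensorProduct.tmul_add, key2, add_zero]
    | add x y hx hy => rw [map_add, map_add, hx, hy]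
  have hb2 : ∀ z, fb (fb' z) = z := by
    intro z
    induction z using TensorProduct.induction_on with
    | zero => simp
    | tmul a q =>
      simp only [fb, fb', LinearMap.baseChange_tmul, H2]
      rw [TensorProduct.tmul_add, key a (h₂ q), add_zero]
    | add x y hx hy => rw [map_add, map_add, hx, hy]
  let e1 : A ⊗[A[X]] Q ≃ₗ[A] A ⊗[A[X]] (A[X] ⊗[A] P) :=
    LinearEquiv.ofLinearMap fb fb' (LinearMap.ext hb2) (LinearMap.ext hb1)
  let e2 : A ⊗[A[X]] (A[X] ⊗[A] P) ≃ₗ[A] P :=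
    TensorProduct.AlgebraTensorModule.cancelBaseChange A A[X] A A P ≪≫ₗ TensorProduct.lid A P
  let e3 : A ⊗[A[X]] Q ≃ₗ[A] A ⊗[A[X]] (A[X] ⊗[A] Q₀) := LinearEquiv.baseChange A[X] A _ _ φ
  let e4 : A ⊗[A[X]] (A[X] ⊗[A] Q₀) ≃ₗ[A] Q₀ :=
    TensorProduct.AlgebraTensorModule.cancelBaseChange A A[X] A A Q₀ ≪≫ₗ TensorProduct.lid A Q₀
  exact ⟨e2.symm ≪≫ₗ e1.symm ≪≫ₗ e3 ≪≫ₗ e4⟩

end Fibre

end PolyNotation

section Descent

variable {A : Type u} [CommRing A]

/-- from an isomorphism over a localization `L = S⁻¹B` (`S` consisting of non-zero-divisors) between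
extended modules to a pseudo-isomorphism over `B`. -/
theorem exists_pseudoIso_of_localization (B : Type*) [CommRing B] [Algebra A B]
    (S : Submonoid B) (hS : S ≤ nonZeroDivisors B)
    (L : Type*) [CommRing L] [Algebra B L] [IsLocalization S L]
    [Algebra A L] [IsScalarTower A B L]
    (P P' : Type*) [AddCommGroup P] [Module A P] [Module.Finite A P] [Module.Projective A P]
    [AddCommGroup P'] [Module A P'] [Module.Finite A P'] [Module.Projective A P']
    (h : (L ⊗[A] P) ≃ₗ[L] (L ⊗[A] P')) :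
    ∃ (s : B) (u : B ⊗[A] P →ₗ[B] B ⊗[A] P') (v : B ⊗[A] P' →ₗ[B] B ⊗[A] P),
      s ∈ S ∧ (∀ x, v (u x) = s • x) ∧ (∀ y, u (v y) = s • y) := by
  classical
  haveI : FaithfulSMul B L :=
    (faithfulSMul_iff_algebraMap_injective B L).mpr (IsLocalization.injective L hS)
  let κ : L ⊗[B] (B ⊗[A] P) ≃ₗ[L] L ⊗[A] P :=
    TensorProduct.AlgebraTensorModule.cancelBaseChange A B L L P
  let κ' : L ⊗[B] (B ⊗[A] P') ≃ₗ[L] L ⊗[A] P' :=
    TensorProduct.AlgebraTensorModule.cancelBaseChange A B L L P'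
  let h' : L ⊗[B] (B ⊗[A] P) ≃ₗ[L] L ⊗[B] (B ⊗[A] P') := κ ≪≫ₗ h ≪≫ₗ κ'.symm
  let mkE : (B ⊗[A] P) →ₗ[B] L ⊗[B] (B ⊗[A] P) := TensorProduct.mk B L (B ⊗[A] P) 1
  let mkE' : (B ⊗[A] P') →ₗ[B] L ⊗[B] (B ⊗[A] P') := TensorProduct.mk B L (B ⊗[A] P') 1
  haveI : Module.FinitePresentation B (B ⊗[A] P) := Module.finitePresentation_of_projective B _
  haveI : Module.FinitePresentation B (B ⊗[A] P') := Module.finitePresentation_of_projective B _
  have hmkE : Function.Injective mkE :=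
    Module.Flat.tensorProduct_mk_injective (R := B) (S := L) (M := B ⊗[A] P)
  have hmkE' : Function.Injective mkE' :=
    Module.Flat.tensorProduct_mk_injective (R := B) (S := L) (M := B ⊗[A] P')
  obtain ⟨u, s1, hu⟩ := Module.FinitePresentation.exists_lift_of_isLocalizedModule S mkE'
    ((h'.toLinearMap.restrictScalars B) ∘ₗ mkE)
  obtain ⟨v, s2, hv⟩ := Module.FinitePresentation.exists_lift_of_isLocalizedModule S mkE
    ((h'.symm.toLinearMap.restrictScalars B) ∘ₗ mkE')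
  have hu1 : ∀ x, mkE' (u x) = (s1 : B) • h' (mkE x) := by
    intro x
    have := congrArg (fun φ => φ x) hu
    simpa only [LinearMap.comp_apply, LinearMap.smul_apply, Submonoid.smul_def,
      LinearMap.restrictScalars_apply, LinearEquiv.coe_coe] using this
  have hv1 : ∀ y, mkE (v y) = (s2 : B) • h'.symm (mkE' y) := by
    intro y
    have := congrArg (fun φ => φ y) hv
    simpa only [LinearMap.comp_apply, LinearMap.smul_apply, Submonoid.smul_def,
      LinearMap.restrictScalars_apply, LinearEquiv.coe_coe] using this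
  have hsm : ∀ (p : B) (w : L ⊗[B] (B ⊗[A] P)), h' (p • w) = p • h' w := fun p w => by
    rw [← algebraMap_smul L p w, map_smul, algebraMap_smul]
  have hsm' : ∀ (p : B) (w : L ⊗[B] (B ⊗[A] P')), h'.symm (p • w) = p • h'.symm w := fun p w => by
    rw [← algebraMap_smul L p w, map_smul, algebraMap_smul]
  refine ⟨(s2 : B) * (s1 : B), u, v, S.mul_mem s2.2 s1.2, fun x => ?_, fun y => ?_⟩
  · apply hmkE
    rw [hv1, hu1, hsm', LinearEquiv.symm_apply_apply, smul_smul, map_smul]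
  · apply hmkE'
    rw [hu1, hv1, hsm, LinearEquiv.apply_symm_apply, smul_smul, map_smul, mul_comm]

end Descent

section Trunc

variable {A : Type u} [CommRing A] (N : Type*) [AddCommGroup N] [Module A N]

/-- `A[X] ⊗ N → A⟦X⟧ ⊗ N`. -/
noncomputable def iot : Polynomial A ⊗[A] N →ₗ[A] PowerSeries A ⊗[A] N :=
  LinearMap.rTensor N (Polynomial.coeToPowerSeries.algHom A).toLinearMap

/-- truncation `A⟦X⟧ ⊗ N → A[X] ⊗ N`. -/
noncomputable def tru (K : ℕ) : PowerSeries A ⊗[A] N →ₗ[A] Polynomial A ⊗[A] N :=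
  LinearMap.rTensor N (PowerSeries.trunc K)

theorem iot_tmul (p : Polynomial A) (n : N) : iot N (p ⊗ₜ[A] n) = (p : PowerSeries A) ⊗ₜ[A] n := rfl

theorem tru_tmul (K : ℕ) (b : PowerSeries A) (n : N) :
    tru N K (b ⊗ₜ[A] n) = PowerSeries.trunc K b ⊗ₜ[A] n := rfl

theorem iot_smul (p : Polynomial A) (x : Polynomial A ⊗[A] N) :
    iot N (p • x) = (p : PowerSeries A) • iot N x := by
  induction x using TensorProduct.induction_on with
  | zero => simp
  | tmul q n => rw [smul_tmul', iot_tmul, iot_tmul, smul_tmul', smul_eq_mul, smul_eq_mul,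
      Polynomial.coe_mul]
  | add x y hx hy => rw [smul_add, map_add, hx, hy, map_add, smul_add]

theorem iot_tru (K : ℕ) (y : PowerSeries A ⊗[A] N) :
    ∃ z, iot N (tru N K y) = y + (PowerSeries.X ^ K : PowerSeries A) • z := by
  induction y using TensorProduct.induction_on with
  | zero => exact ⟨0, by simp⟩
  | tmul b n =>
    refine ⟨-((PowerSeries.mk fun i => PowerSeries.coeff (i + K) b) ⊗ₜ[A] n), ?_⟩
    rw [tru_tmul, iot_tmul, smul_neg, smul_tmul', smul_eq_mul, ← sub_eq_add_neg, ← sub_tmul]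
    congr 1
    have := PowerSeries.eq_X_pow_mul_shift_add_trunc K b
    rw [eq_sub_iff_add_eq, add_comm]
    exact this.symm
  | add x y hx hy =>
    obtain ⟨z1, h1⟩ := hx
    obtain ⟨z2, h2⟩ := hy
    refine ⟨z1 + z2, ?_⟩
    rw [map_add, map_add, h1, h2, smul_add]
    abel

theorem tru_X_pow_smul (K : ℕ) (y : PowerSeries A ⊗[A] N) :
    tru N K ((PowerSeries.X ^ K : PowerSeries A) • y) = 0 := by
  induction y using TensorProduct.induction_on with
  | zero => simp
  | tmul b n => rw [smul_tmul', tru_tmul, smul_eq_mul, PowerSeries.trunc_X_pow_self_mul, zero_tmul]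
  | add x y hx hy => rw [smul_add, map_add, hx, hy, add_zero]

theorem exists_eq_trunc_add (K : ℕ) (p : Polynomial A) :
    ∃ q : Polynomial A, p = PowerSeries.trunc K (p : PowerSeries A) + Polynomial.X ^ K * q := by
  have h : (Polynomial.X : Polynomial A) ^ K ∣ p - PowerSeries.trunc K (p : PowerSeries A) := by
    rw [Polynomial.X_pow_dvd_iff]
    intro d hd
    rw [Polynomial.coeff_sub, PowerSeries.coeff_trunc, if_pos hd, Polynomial.coeff_coe, sub_self]
  obtain ⟨q, hq⟩ := h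
  exact ⟨q, by rw [← hq]; ring⟩

theorem tru_iot (K : ℕ) (x : Polynomial A ⊗[A] N) :
    ∃ z, x = tru N K (iot N x) + (Polynomial.X ^ K : Polynomial A) • z := by
  induction x using TensorProduct.induction_on with
  | zero => exact ⟨0, by simp⟩
  | tmul p n =>
    obtain ⟨q, hq⟩ := exists_eq_trunc_add K p
    refine ⟨q ⊗ₜ[A] n, ?_⟩
    rw [iot_tmul, tru_tmul, smul_tmul', smul_eq_mul, ← add_tmul, ← hq]
  | add x y hx hy =>
    obtain ⟨z1, h1⟩ := hx
    obtain ⟨z2, h2⟩ := hy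
    refine ⟨z1 + z2, ?_⟩
    rw [map_add, map_add, smul_add]
    nth_rewrite 1 [h1, h2]
    abel

/-- purity: a polynomial element divisible by `X^K` as a power series element is so as a polynomial
element. -/
theorem pure_X_pow (K : ℕ) (x : Polynomial A ⊗[A] N) (y : PowerSeries A ⊗[A] N)
    (h : iot N x = (PowerSeries.X ^ K : PowerSeries A) • y) :
    ∃ z, x = (Polynomial.X ^ K : Polynomial A) • z := by
  obtain ⟨z, hz⟩ := tru_iot N K x
  rw [h, tru_X_pow_smul, zero_add] at hz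
  exact ⟨z, hz⟩

end Trunc

section Trunc2

variable {A : Type u} [CommRing A]

theorem exists_linear_of_forall_exists {R : Type*} [CommRing R] {E1 E2 : Type*} [AddCommGroup E1]
    [Module R E1] [AddCommGroup E2] [Module R E2] (r : R) (hreg : IsSMulRegular E2 r)
    (D : E1 →ₗ[R] E2) (h : ∀ x, ∃ z, D x = r • z) :
    ∃ W : E1 →ₗ[R] E2, ∀ x, D x = r • W x := by
  choose z hz using h
  refine ⟨{ toFun := z, map_add' := fun x y => hreg ?_, map_smul' := fun c x => hreg ?_ }, hz⟩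
  · show r • z (x + y) = r • (z x + z y)
    rw [smul_add, ← hz, ← hz, ← hz, map_add]
  · show r • z (c • x) = r • (c • z x)
    rw [smul_comm, ← hz, ← hz, map_smul]

theorem coe_tmul_eq (Q : Type*) [AddCommGroup Q] [Module A Q] (p : Polynomial A) (m : Q) :
    ((p : PowerSeries A) ⊗ₜ[A] m : PowerSeries A ⊗[A] Q) =
      (p : PowerSeries A) • ((1 : PowerSeries A) ⊗ₜ[A] m) := by
  rw [smul_tmul', smul_eq_mul, mul_one]

theorem iot_X_pow_smul (Q : Type*) [AddCommGroup Q] [Module A Q] (k : ℕ)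
    (x : Polynomial A ⊗[A] Q) :
    iot Q ((Polynomial.X ^ k : Polynomial A) • x) =
      (PowerSeries.X ^ k : PowerSeries A) • iot Q x := by
  rw [iot_smul, Polynomial.coe_pow, Polynomial.coe_X]

/-- truncating a pseudo-isomorphism over `A⟦X⟧` to one over `A[X]`, up to a unit-like factor. -/
theorem exists_poly_pseudoIso (M N : Type*) [AddCommGroup M] [Module A M] [Module.Finite A M]
    [Module.Projective A M] [AddCommGroup N] [Module A N] [Module.Finite A N]
    [Module.Projective A N] (k : ℕ)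
    (eh : PowerSeries A ⊗[A] M →ₗ[PowerSeries A] PowerSeries A ⊗[A] N)
    (fh : PowerSeries A ⊗[A] N →ₗ[PowerSeries A] PowerSeries A ⊗[A] M)
    (hfe : ∀ x, fh (eh x) = (PowerSeries.X ^ k : PowerSeries A) • x)
    (hef : ∀ y, eh (fh y) = (PowerSeries.X ^ k : PowerSeries A) • y) :
    ∃ (ut : Polynomial A ⊗[A] M →ₗ[Polynomial A] Polynomial A ⊗[A] N)
      (vt : Polynomial A ⊗[A] N →ₗ[Polynomial A] Polynomial A ⊗[A] M)
      (W : Polynomial A ⊗[A] M →ₗ[Polynomial A] Polynomial A ⊗[A] M)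
      (W' : Polynomial A ⊗[A] N →ₗ[Polynomial A] Polynomial A ⊗[A] N),
      (∀ x, vt (ut x) = (Polynomial.X ^ k : Polynomial A) •
        (x + (Polynomial.X ^ (k + 1) : Polynomial A) • W x)) ∧
      (∀ y, ut (vt y) = (Polynomial.X ^ k : Polynomial A) •
        (y + (Polynomial.X ^ (k + 1) : Polynomial A) • W' y)) ∧
      (∀ x, ut (W x) = W' (ut x)) ∧ (∀ y, W (vt y) = vt (W' y)) := by
  classical
  set K : ℕ := 2 * k + 1 with hK
  let ut : Polynomial A ⊗[A] M →ₗ[Polynomial A] Polynomial A ⊗[A] N :=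
    LinearMap.liftBaseChange (Polynomial A)
      (tru N K ∘ₗ eh.restrictScalars A ∘ₗ TensorProduct.mk A (PowerSeries A) M 1)
  let vt : Polynomial A ⊗[A] N →ₗ[Polynomial A] Polynomial A ⊗[A] M :=
    LinearMap.liftBaseChange (Polynomial A)
      (tru M K ∘ₗ fh.restrictScalars A ∘ₗ TensorProduct.mk A (PowerSeries A) N 1)
  have C1 : ∀ x, ∃ z, iot N (ut x) = eh (iot M x) + (PowerSeries.X ^ K : PowerSeries A) • z := by
    intro x
    induction x using TensorProduct.induction_on with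
    | zero => exact ⟨0, by simp⟩
    | tmul p m =>
      obtain ⟨z0, hz0⟩ := iot_tru N K (eh ((1 : PowerSeries A) ⊗ₜ[A] m))
      refine ⟨(p : PowerSeries A) • z0, ?_⟩
      have h1 : ut (p ⊗ₜ[A] m) = p • tru N K (eh ((1 : PowerSeries A) ⊗ₜ[A] m)) := rfl
      rw [h1, iot_smul, hz0, iot_tmul, coe_tmul_eq M p m, map_smul, smul_add, smul_comm]
    | add x y hx hy =>
      obtain ⟨z1, h1⟩ := hx
      obtain ⟨z2, h2⟩ := hy
      refine ⟨z1 + z2, ?_⟩
      rw [map_add, map_add, map_add, map_add, h1, h2, smul_add]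
      abel
  have C2 : ∀ x, ∃ z, iot M (vt x) = fh (iot N x) + (PowerSeries.X ^ K : PowerSeries A) • z := by
    intro x
    induction x using TensorProduct.induction_on with
    | zero => exact ⟨0, by simp⟩
    | tmul p m =>
      obtain ⟨z0, hz0⟩ := iot_tru M K (fh ((1 : PowerSeries A) ⊗ₜ[A] m))
      refine ⟨(p : PowerSeries A) • z0, ?_⟩
      have h1 : vt (p ⊗ₜ[A] m) = p • tru M K (fh ((1 : PowerSeries A) ⊗ₜ[A] m)) := rfl
      rw [h1, iot_smul, hz0, iot_tmul, coe_tmul_eq N p m, map_smul, smul_add, smul_comm]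
    | add x y hx hy =>
      obtain ⟨z1, h1⟩ := hx
      obtain ⟨z2, h2⟩ := hy
      refine ⟨z1 + z2, ?_⟩
      rw [map_add, map_add, map_add, map_add, h1, h2, smul_add]
      abel
  let D1 : Polynomial A ⊗[A] M →ₗ[Polynomial A] Polynomial A ⊗[A] M :=
    vt ∘ₗ ut - (Polynomial.X ^ k : Polynomial A) • LinearMap.id
  let D2 : Polynomial A ⊗[A] N →ₗ[Polynomial A] Polynomial A ⊗[A] N :=
    ut ∘ₗ vt - (Polynomial.X ^ k : Polynomial A) • LinearMap.id
  have hD1 : ∀ x, ∃ z, D1 x = (Polynomial.X ^ K : Polynomial A) • z := by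
    intro x
    obtain ⟨z1, h1⟩ := C2 (ut x)
    obtain ⟨z2, h2⟩ := C1 x
    refine pure_X_pow M K _ (fh z2 + z1) ?_
    show iot M (vt (ut x) - (Polynomial.X ^ k : Polynomial A) • x) = _
    rw [map_sub, h1, h2, map_add, hfe, map_smul, iot_X_pow_smul M]
    rw [smul_add]
    abel
  have hD2 : ∀ y, ∃ z, D2 y = (Polynomial.X ^ K : Polynomial A) • z := by
    intro y
    obtain ⟨z1, h1⟩ := C1 (vt y)
    obtain ⟨z2, h2⟩ := C2 y
    refine pure_X_pow N K _ (eh z2 + z1) ?_
    show iot N (ut (vt y) - (Polynomial.X ^ k : Polynomial A) • y) = _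
    rw [map_sub, h1, h2, map_add, hef, map_smul, iot_X_pow_smul N]
    rw [smul_add]
    abel
  have hnz : (Polynomial.X ^ K : Polynomial A) ∈ nonZeroDivisors (Polynomial A) :=
    (Polynomial.monic_X_pow K).mem_nonZeroDivisors
  have hregM := Module.Flat.isSMulRegular_of_nonZeroDivisors (M := Polynomial A ⊗[A] M) hnz
  have hregN := Module.Flat.isSMulRegular_of_nonZeroDivisors (M := Polynomial A ⊗[A] N) hnz
  obtain ⟨W, hW⟩ := exists_linear_of_forall_exists _ hregM D1 hD1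
  obtain ⟨W', hW'⟩ := exists_linear_of_forall_exists _ hregN D2 hD2
  have hW1 : ∀ x, vt (ut x) = (Polynomial.X ^ k : Polynomial A) • x +
      (Polynomial.X ^ K : Polynomial A) • W x := by
    intro x
    have : vt (ut x) - (Polynomial.X ^ k : Polynomial A) • x = _ := hW x
    rw [sub_eq_iff_eq_add] at this
    rw [this, add_comm]
  have hW2 : ∀ y, ut (vt y) = (Polynomial.X ^ k : Polynomial A) • y +
      (Polynomial.X ^ K : Polynomial A) • W' y := by
    intro y
    have : ut (vt y) - (Polynomial.X ^ k : Polynomial A) • y = _ := hW' y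
    rw [sub_eq_iff_eq_add] at this
    rw [this, add_comm]
  have hKk : (Polynomial.X ^ K : Polynomial A) = Polynomial.X ^ k * Polynomial.X ^ (k + 1) := by
    rw [← pow_add, hK]; congr 1; ring
  refine ⟨ut, vt, W, W', fun x => ?_, fun y => ?_, fun x => ?_, fun y => ?_⟩
  · rw [hW1, hKk, smul_add, smul_smul]
  · rw [hW2, hKk, smul_add, smul_smul]
  · apply hregN
    show (Polynomial.X ^ K : Polynomial A) • ut (W x) = (Polynomial.X ^ K : Polynomial A) • W' (ut x)
    have h1 := hW2 (ut x)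
    rw [hW1, map_add, map_smul, map_smul] at h1
    exact add_left_cancel h1
  · apply hregM
    show (Polynomial.X ^ K : Polynomial A) • W (vt y) = (Polynomial.X ^ K : Polynomial A) • vt (W' y)
    have h1 := hW1 (vt y)
    rw [hW2, map_add, map_smul, map_smul] at h1
    exact (add_left_cancel h1).symm

end Trunc2

end Groth.Agent.Lib.helper12.HorLS
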