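import Mathlib
import Groth.Agent.Lib.Helper12.HypCover

/-!
# A scheme immersed in `Proj 𝒜` (`A` Noetherian) of dimension `r` is covered by `r + 1` affines
(helper12)
-/

set_option autoImplicit false

universe u

namespace Groth.Agent.Lib.helper12.HypCover

open AlgebraicGeometry CategoryTheory TopologicalSpace

variable {A : Type u} {σ : Type*} [CommRing A] [SetLike σ A] [AddSubgroupClass σ A] (𝒜 : ℕ → σ)
  [GradedRing 𝒜] [IsNoetherianRing A]

theorem exists_affine_cover {X : Scheme.{u}} (j : X ⟶ Proj 𝒜) [IsImmersion j] (r : ℕ)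
    (hr : topologicalKrullDim X ≤ ((r : ℕ∞) : WithBot ℕ∞)) :
    ∃ U : Fin (r + 1) → X.Opens, (∀ i, IsAffineOpen (U i)) ∧ ⨆ i, U i = ⊤ := by
  classical
  let φ : X → ProjectiveSpectrum 𝒜 := fun x => j.base x
  have hφ : Topology.IsInducing φ := j.isEmbedding.isInducing
  let C : Set (ProjectiveSpectrum 𝒜) := closure (Set.range φ) \ Set.range φ
  have hloc : IsLocallyClosed (Set.range φ) := j.isLocallyClosed_range
  have hC : IsClosed C := by
    have h1 : IsOpen (coborder (Set.range φ)) := hloc.isOpen_coborder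
    have h2 : C = (coborder (Set.range φ))ᶜ := by
      rw [coborder, compl_compl]
    rw [h2]
    exact h1.isClosed_compl
  obtain ⟨hs, hgood, hcov⟩ := exists_hypersurfaces 𝒜 φ hφ C hC subset_rfl r hr
  refine ⟨fun i => j ⁻¹ᵁ (Proj.basicOpen 𝒜 (hs i)), ?_, ?_⟩
  · intro i
    obtain ⟨⟨d, hd, hmem⟩, hJ⟩ := hgood i
    change IsAffineOpen (j ⁻¹ᵁ (Proj.basicOpen 𝒜 (hs i)))
    set D : (Proj 𝒜).Opens := Proj.basicOpen 𝒜 (hs i) with hD
    have haff : IsAffineOpen D := Proj.isAffineOpen_basicOpen 𝒜 (hs i) hmem hd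
    have hle : D ≤ j.coborderRange.ι.opensRange := by
      rw [Scheme.Opens.opensRange_ι]
      intro y hy
      change y ∈ coborder (Set.range φ)
      rw [coborder]
      intro hyC
      have h1 : hs i ∉ (y : ProjectiveSpectrum 𝒜).asHomogeneousIdeal := hy
      exact h1 ((ProjectiveSpectrum.mem_vanishingIdeal _ _).mp hJ y hyC)
    have h1 : IsAffineOpen (j.coborderRange.ι ⁻¹ᵁ D) :=
      haff.preimage_of_isOpenImmersion j.coborderRange.ι hle
    have h2 : IsAffineOpen (j.liftCoborder ⁻¹ᵁ (j.coborderRange.ι ⁻¹ᵁ D)) :=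
      h1.preimage j.liftCoborder
    have h3 : j.liftCoborder ⁻¹ᵁ (j.coborderRange.ι ⁻¹ᵁ D) = j ⁻¹ᵁ D := by
      rw [← Scheme.Hom.comp_preimage, j.liftCoborder_ι]
    rw [← h3]
    exact h2
  · rw [eq_top_iff]
    intro x _
    have hx : φ x ∉ C := fun h => h.2 ⟨x, rfl⟩
    obtain ⟨i, hi⟩ := hcov x hx
    exact TopologicalSpace.Opens.mem_iSup.mpr ⟨i, hi⟩

end Groth.Agent.Lib.helper12.HypCover
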