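import Mathlib

/-!
# Linear forms in polynomial rings over a field (helper12; towards S7676)

For a nonzero linear form `ℓ` in `k[X₀..X_{n+1}]`:
* `cf ℓ i`: the coefficient of `X i`; `eq_sum`: `ℓ = ∑ X i * C (cf ℓ i)`;
* `phi ℓ j : k[X₀..X_{n+1}] →ₐ k[Y₀..Y_n]` (eliminating `X j`, `cf ℓ j ≠ 0`), surjective, homogeneous,
  with kernel `(ℓ)`.
-/

set_option autoImplicit false
universe u

open MvPolynomial

namespace Groth.Agent.Lib.Helper12.Hyperplane

variable {k : Type u} [Field k] {n : ℕ}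

/-- the coefficient of `X i` in a linear form -/
noncomputable def cf (ℓ : MvPolynomial (Fin (n + 2)) k) (i : Fin (n + 2)) : k :=
  coeff 0 (pderiv i ℓ)

theorem pderiv_eq_C {ℓ : MvPolynomial (Fin (n + 2)) k} (hℓ : ℓ.IsHomogeneous 1) (i : Fin (n + 2)) :
    pderiv i ℓ = C (cf ℓ i) := by
  have h := hℓ.pderiv (i := i)
  rw [show 1 - 1 = 0 from rfl, ← totalDegree_zero_iff_isHomogeneous,
    totalDegree_eq_zero_iff_eq_C] at h
  exact h

theorem eq_sum {ℓ : MvPolynomial (Fin (n + 2)) k} (hℓ : ℓ.IsHomogeneous 1) :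
    ℓ = ∑ i, X i * C (cf ℓ i) := by
  have h := hℓ.sum_X_mul_pderiv
  rw [one_smul] at h
  conv_lhs => rw [← h]
  exact Finset.sum_congr rfl fun i _ => by rw [pderiv_eq_C hℓ]

theorem exists_cf_ne_zero {ℓ : MvPolynomial (Fin (n + 2)) k} (hℓ : ℓ.IsHomogeneous 1)
    (h0 : ℓ ≠ 0) : ∃ j, cf ℓ j ≠ 0 := by
  by_contra hcon
  push Not at hcon
  apply h0
  rw [eq_sum hℓ]
  exact Finset.sum_eq_zero fun i _ => by rw [hcon i, C_0, mul_zero]

variable (ℓ : MvPolynomial (Fin (n + 2)) k) (j : Fin (n + 2))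

/-- the rest of the linear form, in the new variables -/
noncomputable def rest : MvPolynomial (Fin (n + 1)) k :=
  ∑ i : Fin (n + 1), X i * C (cf ℓ (j.succAbove i))

/-- images of the variables -/
noncomputable def img : Fin (n + 2) → MvPolynomial (Fin (n + 1)) k :=
  Fin.insertNth (α := fun _ => MvPolynomial (Fin (n + 1)) k) j
    (-(C (cf ℓ j)⁻¹) * rest ℓ j) (fun i => X i)

/-- elimination of the variable `X j` along the linear form `ℓ` -/
noncomputable def phi : MvPolynomial (Fin (n + 2)) k →ₐ[k] MvPolynomial (Fin (n + 1)) k :=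
  aeval (img ℓ j)

/-- the section `Y i ↦ X (j.succAbove i)` -/
noncomputable def psi : MvPolynomial (Fin (n + 1)) k →ₐ[k] MvPolynomial (Fin (n + 2)) k :=
  rename j.succAbove

theorem phi_X_succAbove (i : Fin (n + 1)) : phi ℓ j (X (j.succAbove i)) = X i := by
  unfold phi img
  rw [aeval_X, Fin.insertNth_apply_succAbove]

theorem phi_X_self : phi ℓ j (X j) = -(C (cf ℓ j)⁻¹) * rest ℓ j := by
  unfold phi img
  rw [aeval_X, Fin.insertNth_apply_same]

theorem phi_psi (p : MvPolynomial (Fin (n + 1)) k) : phi ℓ j (psi j p) = p := by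
  have h : (phi ℓ j).comp (psi j) = AlgHom.id k _ := by
    apply MvPolynomial.algHom_ext
    intro i
    simp only [AlgHom.comp_apply, AlgHom.id_apply, psi, rename_X]
    exact phi_X_succAbove ℓ j i
  exact DFunLike.congr_fun h p

theorem phi_surjective : Function.Surjective (phi ℓ j) := fun p => ⟨psi j p, phi_psi ℓ j p⟩

theorem rest_isHomogeneous : (rest ℓ j).IsHomogeneous 1 := by
  unfold rest
  refine IsHomogeneous.sum _ _ _ fun i _ => ?_
  have := (isHomogeneous_X k i).mul (isHomogeneous_C (Fin (n + 1)) (cf ℓ (j.succAbove i)))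
  simpa using this

theorem img_isHomogeneous (i : Fin (n + 2)) : (img ℓ j i).IsHomogeneous 1 := by
  refine Fin.succAboveCases j ?_ (fun i => ?_) i
  · unfold img
    rw [Fin.insertNth_apply_same]
    have := (isHomogeneous_C (Fin (n + 1)) (-(cf ℓ j)⁻¹)).mul (rest_isHomogeneous ℓ j)
    simpa using this
  · unfold img
    rw [Fin.insertNth_apply_succAbove]
    exact isHomogeneous_X k i

theorem phi_isHomogeneous {d : ℕ} {F : MvPolynomial (Fin (n + 2)) k} (hF : F.IsHomogeneous d) :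
    (phi ℓ j F).IsHomogeneous d := by
  have := hF.aeval (img ℓ j) (img_isHomogeneous ℓ j)
  rw [one_mul] at this
  exact this

variable {ℓ j}

theorem phi_self (hℓ : ℓ.IsHomogeneous 1) (hj : cf ℓ j ≠ 0) : phi ℓ j ℓ = 0 := by
  have hC : ∀ c : k, phi ℓ j (C c) = C c := fun c => by
    unfold phi; rw [aeval_C]; rfl
  have e : phi ℓ j ℓ = phi ℓ j (∑ i, X i * C (cf ℓ i)) := congrArg _ (eq_sum hℓ)
  rw [e, map_sum, Fin.sum_univ_succAbove _ j]
  have e2 : ∀ i : Fin (n + 1), phi ℓ j (X (j.succAbove i) * C (cf ℓ (j.succAbove i))) =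
      X i * C (cf ℓ (j.succAbove i)) := fun i => by
    rw [map_mul, phi_X_succAbove, hC]
  rw [Finset.sum_congr rfl fun i _ => e2 i, map_mul, phi_X_self, hC]
  have h1 : C (cf ℓ j)⁻¹ * C (cf ℓ j) = (1 : MvPolynomial (Fin (n + 1)) k) := by
    rw [← C_mul, inv_mul_cancel₀ hj, C_1]
  unfold rest
  linear_combination (-(∑ i : Fin (n + 1), X i * C (cf ℓ (j.succAbove i)))) * h1

theorem psi_phi_X_self (hℓ : ℓ.IsHomogeneous 1) (hj : cf ℓ j ≠ 0) :
    psi j (phi ℓ j (X j)) = X j - C (cf ℓ j)⁻¹ * ℓ := by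
  rw [phi_X_self]
  have hC : ∀ c : k, psi (n := n) j (C c) = C c := fun c => by
    unfold psi; rw [rename_C]
  rw [map_mul, map_neg, hC]
  have h2 : psi j (rest ℓ j) = ℓ - X j * C (cf ℓ j) := by
    have e : ℓ = X j * C (cf ℓ j) +
        ∑ i : Fin (n + 1), X (j.succAbove i) * C (cf ℓ (j.succAbove i)) := by
      conv_lhs => rw [eq_sum hℓ, Fin.sum_univ_succAbove _ j]
    have e3 : psi j (rest ℓ j) =
        ∑ i : Fin (n + 1), X (j.succAbove i) * C (cf ℓ (j.succAbove i)) := by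
      unfold rest
      rw [map_sum]
      refine Finset.sum_congr rfl fun i _ => ?_
      rw [map_mul, hC]
      unfold psi
      rw [rename_X]
    rw [e3]
    exact eq_sub_of_add_eq' e.symm
  rw [h2]
  have h1 : C (cf ℓ j)⁻¹ * C (cf ℓ j) = (1 : MvPolynomial (Fin (n + 2)) k) := by
    rw [← C_mul, inv_mul_cancel₀ hj, C_1]
  linear_combination (X j) * h1

theorem psi_phi_sub_mem (hℓ : ℓ.IsHomogeneous 1) (hj : cf ℓ j ≠ 0)
    (F : MvPolynomial (Fin (n + 2)) k) : psi j (phi ℓ j F) - F ∈ Ideal.span {ℓ} := by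
  let π := Ideal.Quotient.mkₐ k (Ideal.span {ℓ})
  have h : (π.comp ((psi j).comp (phi ℓ j))) = π := by
    apply MvPolynomial.algHom_ext
    intro i
    simp only [AlgHom.comp_apply]
    refine Fin.succAboveCases j ?_ (fun i => ?_) i
    · rw [psi_phi_X_self hℓ hj]
      show Ideal.Quotient.mk _ _ = Ideal.Quotient.mk _ _
      rw [Ideal.Quotient.eq, sub_sub_cancel_left, neg_mem_iff]
      exact Ideal.mul_mem_left _ _ (Ideal.subset_span rfl)
    · rw [phi_X_succAbove]
      unfold psi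
      rw [rename_X]
  have h2 := DFunLike.congr_fun h F
  simp only [AlgHom.comp_apply] at h2
  exact Ideal.Quotient.eq.mp h2

theorem ker_phi (hℓ : ℓ.IsHomogeneous 1) (hj : cf ℓ j ≠ 0)
    (F : MvPolynomial (Fin (n + 2)) k) : phi ℓ j F = 0 ↔ F ∈ Ideal.span {ℓ} := by
  constructor
  · intro h
    have h1 := psi_phi_sub_mem hℓ hj F
    rw [h, map_zero, zero_sub, neg_mem_iff] at h1
    exact h1
  · intro h
    obtain ⟨G, rfl⟩ := Ideal.mem_span_singleton'.mp h
    rw [map_mul, phi_self hℓ hj, mul_zero]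

end Groth.Agent.Lib.Helper12.Hyperplane
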