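import Mathlib

/-!
# Graded algebra generated in degrees `≤ n`: the degree-zero localisations `A_(g^n)` (helper12)

Pure algebra for S13183 (`O_X(n)` very ample on `Proj` of a graded algebra generated in degrees `1..d ≤ n`,
covered by `D₊(g)`, `g` of degree one).

* `exists_finite_subset_adjoin_eq_top`: a generating set of a finite-type algebra contains a finite generating set.
* `surjective_algebraMap_zero`: `A` generated by homogeneous elements of positive degree ⇒ `R → 𝒜 0` surjective.
* `mem_of_adjoin`: the "dehomogenisation" membership principle.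
* `away_closure_eq_top`: `A_(g^n)` is generated as a ring by `R` and the fractions `t g^{n - deg t} / g^n`.
-/

set_option autoImplicit false
universe u

open HomogeneousLocalization

namespace Groth.Agent.Lib.helper12.ProjVA1

theorem exists_finite_subset_of_mem_adjoin {R A : Type*} [CommRing R] [CommRing A] [Algebra R A]
    (G : Set A) (x : A) (hx : x ∈ Algebra.adjoin R G) :
    ∃ T : Set A, T.Finite ∧ T ⊆ G ∧ x ∈ Algebra.adjoin R T := by
  induction hx using Algebra.adjoin_induction with
  | mem x hx =>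
    exact ⟨{x}, Set.finite_singleton x, Set.singleton_subset_iff.mpr hx,
      Algebra.subset_adjoin (Set.mem_singleton x)⟩
  | algebraMap r => exact ⟨∅, Set.finite_empty, Set.empty_subset _, Subalgebra.algebraMap_mem _ r⟩
  | add x y _ _ hx hy =>
    obtain ⟨T, hT, hTG, hxT⟩ := hx
    obtain ⟨T', hT', hTG', hyT⟩ := hy
    exact ⟨T ∪ T', hT.union hT', Set.union_subset hTG hTG',
      add_mem (Algebra.adjoin_mono Set.subset_union_left hxT)
        (Algebra.adjoin_mono Set.subset_union_right hyT)⟩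
  | mul x y _ _ hx hy =>
    obtain ⟨T, hT, hTG, hxT⟩ := hx
    obtain ⟨T', hT', hTG', hyT⟩ := hy
    exact ⟨T ∪ T', hT.union hT', Set.union_subset hTG hTG',
      mul_mem (Algebra.adjoin_mono Set.subset_union_left hxT)
        (Algebra.adjoin_mono Set.subset_union_right hyT)⟩

theorem exists_finite_subset_adjoin_eq_top {R A : Type*} [CommRing R] [CommRing A] [Algebra R A]
    [Algebra.FiniteType R A] (G : Set A) (hG : Algebra.adjoin R G = ⊤) :
    ∃ T : Set A, T.Finite ∧ T ⊆ G ∧ Algebra.adjoin R T = ⊤ := by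
  classical
  obtain ⟨s, hs⟩ := (inferInstance : Algebra.FiniteType R A).out
  have h : ∀ x : A, ∃ T : Set A, T.Finite ∧ T ⊆ G ∧ x ∈ Algebra.adjoin R T := fun x =>
    exists_finite_subset_of_mem_adjoin G x (hG ▸ Algebra.mem_top)
  choose T hT hTG hxT using h
  refine ⟨⋃ x ∈ s, T x, s.finite_toSet.biUnion fun x _ => hT x,
    Set.iUnion₂_subset fun x _ => hTG x, ?_⟩
  rw [eq_top_iff, ← hs]
  refine Algebra.adjoin_le fun x hx => ?_
  exact Algebra.adjoin_mono (Set.subset_biUnion_of_mem (u := fun x => T x) hx) (hxT x)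

variable {R A : Type u} [CommRing R] [CommRing A] [Algebra R A] (𝒜 : ℕ → Submodule R A)
  [GradedAlgebra 𝒜]

/-- "Dehomogenisation" membership principle. -/
theorem mem_of_adjoin {B : Type*} [CommRing B] (ι : A →+* B) (v : B) (C : Subring B)
    (T : Set A) (hTadj : Algebra.adjoin R T = ⊤)
    (hT : ∀ t ∈ T, ∃ e, t ∈ 𝒜 e ∧ ι t * v ^ e ∈ C)
    (hR : ∀ r : R, ι (algebraMap R A r) ∈ C) (k : ℕ) (a : A) (ha : a ∈ 𝒜 k) :
    ι a * v ^ k ∈ C := by
  classical
  -- homogeneous elements with dehomogenisation in `C`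
  let M : Submonoid A :=
    { carrier := {a | ∃ e, a ∈ 𝒜 e ∧ ι a * v ^ e ∈ C}
      one_mem' := ⟨0, SetLike.GradedOne.one_mem, by simp [C.one_mem]⟩
      mul_mem' := by
        rintro a b ⟨e, hae, hac⟩ ⟨e', hbe, hbc⟩
        refine ⟨e + e', SetLike.mul_mem_graded hae hbe, ?_⟩
        have : ι (a * b) * v ^ (e + e') = (ι a * v ^ e) * (ι b * v ^ e') := by
          rw [map_mul, pow_add]; ring
        rw [this]
        exact C.mul_mem hac hbc }
  have hTM : Submonoid.closure T ≤ M := (Submonoid.closure_le).mpr fun t ht => hT t ht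
  have key : ∀ a : A, ∀ k : ℕ, ι ((DirectSum.decompose 𝒜 a k : A)) * v ^ k ∈ C := by
    intro a
    have ha : a ∈ Submodule.span R (Submonoid.closure T : Set A) := by
      rw [← Algebra.adjoin_eq_span, hTadj]; trivial
    induction ha using Submodule.span_induction with
    | mem a ha =>
      obtain ⟨e, hae, hac⟩ := hTM ha
      intro k
      by_cases hk : e = k
      · subst hk
        rw [DirectSum.decompose_of_mem_same 𝒜 hae]
        exact hac
      · rw [DirectSum.decompose_of_mem_ne 𝒜 hae hk]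
        simp [C.zero_mem]
    | zero => intro k; simp [C.zero_mem]
    | add a b _ _ ha hb =>
      intro k
      have : ι ((DirectSum.decompose 𝒜 (a + b) k : A)) * v ^ k =
          ι ((DirectSum.decompose 𝒜 a k : A)) * v ^ k + ι ((DirectSum.decompose 𝒜 b k : A)) * v ^ k := by
        rw [DirectSum.decompose_add, DirectSum.add_apply, Submodule.coe_add, map_add, add_mul]
      rw [this]
      exact C.add_mem (ha k) (hb k)
    | smul r a _ ha =>
      intro k
      have : ι ((DirectSum.decompose 𝒜 (r • a) k : A)) * v ^ k =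
          ι (algebraMap R A r) * (ι ((DirectSum.decompose 𝒜 a k : A)) * v ^ k) := by
        rw [DirectSum.decompose_smul, DirectSum.smul_apply, Submodule.coe_smul, Algebra.smul_def,
          map_mul, mul_assoc]
      rw [this]
      exact C.mul_mem (hR r) (ha k)
  have := key a k
  rwa [DirectSum.decompose_of_mem_same 𝒜 ha] at this

/-- If `A` is generated over `R` by homogeneous elements of positive degree, `R → 𝒜 0` is surjective. -/
theorem surjective_algebraMap_zero (T : Set A) (hTadj : Algebra.adjoin R T = ⊤)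
    (hT : ∀ t ∈ T, ∃ e, 0 < e ∧ t ∈ 𝒜 e) :
    Function.Surjective (algebraMap R (𝒜 0)) := by
  intro a
  have h := mem_of_adjoin 𝒜 (RingHom.id A) (0 : A) (algebraMap R A).range T hTadj
    (fun t ht => by
      obtain ⟨e, he, hte⟩ := hT t ht
      exact ⟨e, hte, by simp [zero_pow he.ne']⟩)
    (fun r => ⟨r, rfl⟩) 0 a.1 a.2
  simp only [RingHom.id_apply, pow_zero, mul_one] at h
  obtain ⟨r, hr⟩ := h
  exact ⟨r, Subtype.ext hr⟩

/-- `A_(g^n)` (`g` of degree one, `n ≥ 1`) is generated as a ring by the image of `R` and the fractions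
`t g^{n - e} / g^n`, `t ∈ T` homogeneous of degree `e ≤ n`, when `T` generates `A` over `R`. -/
theorem away_closure_eq_top (g : A) (n : ℕ) (hn : 0 < n) (hgn : g ^ n ∈ 𝒜 n)
    (T : Set A) (hTadj : Algebra.adjoin R T = ⊤) (C : Subring (Away 𝒜 (g ^ n)))
    (hR : ∀ r : R, fromZeroRingHom 𝒜 _ (algebraMap R (𝒜 0) r) ∈ C)
    (hC : ∀ t ∈ T, ∃ (e : ℕ) (_ : t ∈ 𝒜 e) (_ : e ≤ n) (hx : t * g ^ (n - e) ∈ 𝒜 (1 • n)),
      Away.mk 𝒜 hgn 1 (t * g ^ (n - e)) hx ∈ C) :
    C = ⊤ := by
  classical
  let Loc := Localization (Submonoid.powers (g ^ n))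
  let ι : A →+* Loc := algebraMap A Loc
  let s₀ : Submonoid.powers (g ^ n) := ⟨g ^ n, 1, pow_one _⟩
  let w : Loc := Localization.mk 1 s₀
  let v : Loc := ι (g ^ (n - 1)) * w
  have h1 : ι (g ^ n) * w = 1 := by
    change algebraMap A Loc (g ^ n) * Localization.mk 1 s₀ = 1
    rw [← Localization.mk_one_eq_algebraMap, Localization.mk_mul, mul_one, one_mul]
    exact Localization.mk_self s₀
  have h2 : ι g * v = 1 := by
    change ι g * (ι (g ^ (n - 1)) * w) = 1
    rw [← mul_assoc, ← map_mul, mul_pow_sub_one hn.ne', h1]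
  have h3 : v ^ n = w := by
    calc v ^ n = v ^ n * (ι (g ^ n) * w) := by rw [h1, mul_one]
      _ = (ι g * v) ^ n * w := by rw [map_pow]; ring
      _ = w := by rw [h2, one_pow, one_mul]
  have h4 : ∀ (m : ℕ) (a : A) (hm : (g ^ n) ^ m ∈ Submonoid.powers (g ^ n)),
      (Localization.mk a ⟨(g ^ n) ^ m, hm⟩ : Loc) = ι a * w ^ m := by
    intro m a hm
    change _ = algebraMap A Loc a * (Localization.mk 1 s₀) ^ m
    rw [Localization.mk_pow, ← Localization.mk_one_eq_algebraMap, Localization.mk_mul, one_pow,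
      mul_one, one_mul]
    rfl
  let C' : Subring Loc := C.map (algebraMap (Away 𝒜 (g ^ n)) Loc)
  have hmem : ∀ (k : ℕ) (a : A), a ∈ 𝒜 k → ι a * v ^ k ∈ C' := by
    refine mem_of_adjoin 𝒜 ι v C' T hTadj (fun t ht => ?_) (fun r => ?_)
    · obtain ⟨e, hte, hen, hx, hxC⟩ := hC t ht
      refine ⟨e, hte, ?_⟩
      refine ⟨_, hxC, ?_⟩
      rw [HomogeneousLocalization.algebraMap_apply, Away.val_mk, h4 1]
      calc ι (t * g ^ (n - e)) * w ^ 1 = ι t * (ι g) ^ (n - e) * v ^ (n - e + e) := by
            rw [map_mul, map_pow, pow_one, ← h3, Nat.sub_add_cancel hen]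
        _ = ι t * v ^ e * (ι g * v) ^ (n - e) := by rw [pow_add]; ring
        _ = ι t * v ^ e := by rw [h2, one_pow, mul_one]
    · refine ⟨_, hR r, ?_⟩
      rw [HomogeneousLocalization.algebraMap_apply]
      change (Localization.mk _ _ : Loc) = _
      rw [← Localization.mk_one_eq_algebraMap]
      rfl
  rw [eq_top_iff]
  intro x _
  obtain ⟨m, a, ha, rfl⟩ := Away.mk_surjective 𝒜 hgn x
  have h5 := hmem (m • n) a ha
  obtain ⟨y, hy, hyx⟩ := h5
  have : y = Away.mk 𝒜 hgn m a ha := by
    apply HomogeneousLocalization.val_injective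
    rw [← HomogeneousLocalization.algebraMap_apply, hyx, Away.val_mk, h4 m, smul_eq_mul,
      mul_comm m n, pow_mul, h3]
  rw [← this]
  exact hy

end Groth.Agent.Lib.helper12.ProjVA1
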