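import Mathlib
import Groth.Agent.Lib.Helper12.ProjVA1
import Groth.Agent.Lib.Helper12.ProjG2
import Groth.Agent.Lib.Helper12.VAmple4
import Groth.Agent.Lib.Helper12.Chow5
import Groth.Agent.Lib.Helper28.TwistAll
import Groth.Agent.Lib.Helper19.ProjSpaceProper

/-!
# `O_X(n)` is very ample on `Proj` of a graded algebra generated in degrees `≤ n` (helper12; EGA II 4.4.x / S13183)

* `frac`, `frac_smul`, `frac_eq`, `ratio_secHom`: the ratio of two degree-`n` sections of `O(n)` on `D₊(b)`.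
* `appLE_toSpec`: the structure map `Proj 𝒜 ⟶ Spec R` on `D₊(b)`.
* `exists_closedImmersion_twist`: the theorem.
-/

set_option autoImplicit false
set_option linter.unusedSectionVars false
set_option linter.style.haveILetI false
universe u

open CategoryTheory CategoryTheory.Limits AlgebraicGeometry Opposite TopologicalSpace

namespace Groth.Agent.Lib.helper12.ProjVA2

open Groth.Agent.Lib.helper11.IsoLocus Groth.Agent.Lib.helper11.InvHom
open Groth.Agent.Lib.helper11.GenLocus Groth.Agent.Lib.helper11.InvMod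
open Groth.Agent.Lib.helper12.ProjUP1 Groth.Agent.Lib.helper12.ProjUP2
open Groth.Agent.Lib.helper12.ProjUP3 Groth.Agent.Lib.helper12.ProjUP4
open Groth.Agent.Lib.helper28.TwistSecHom Groth.Agent.Lib.helper28.TwistFree
open Scheme.Modules HomogeneousLocalization

variable {R A : Type u} [CommRing R] [CommRing A] [Algebra R A] (𝒜 : ℕ → Submodule R A)
  [GradedAlgebra 𝒜]

section Ratio

variable {n : ℕ} (a b : 𝒜 n)

theorem sec_secHom (W : (Proj 𝒜).Opens) : sec (secHom 𝒜 a) W = globalOfOn 𝒜 a W := by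
  have h := secHom_app 𝒜 a W 1
  rw [one_smul] at h
  exact h

theorem notMem_basicOpen (x : Proj.basicOpen 𝒜 (b : A)) : b.1 ∉ x.1.asHomogeneousIdeal :=
  (ProjectiveSpectrum.mem_basicOpen 𝒜 _ x.1).mp x.2

/-- The function `a / b` on `D₊(b)`. -/
noncomputable def frac : Γ(Proj 𝒜, Proj.basicOpen 𝒜 (b : A)) :=
  fracSectO 𝒜 (Proj.basicOpen 𝒜 (b : A)) a b (notMem_basicOpen 𝒜 b)

theorem frac_smul :
    frac 𝒜 a b • sec (secHom 𝒜 b) (Proj.basicOpen 𝒜 (b : A)) =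
      sec (secHom 𝒜 a) (Proj.basicOpen 𝒜 (b : A)) := by
  rw [sec_secHom, sec_secHom]
  refine sectN_ext' 𝒜 _ _ fun x => ?_
  have h1 := smul_val 𝒜 (n := (n : ℤ))
    (show Twist.O (𝒜 := 𝒜) (op (Proj.basicOpen 𝒜 (b : A))) from frac 𝒜 a b)
    (globalOfOn 𝒜 b (Proj.basicOpen 𝒜 (b : A))) x
  refine h1.trans ?_
  unfold frac globalOfOn
  rw [fracSectO_val, fracSectN_val, fracSectN_val, Localization.mk_mul,
    Localization.mk_eq_mk_iff, Localization.r_iff_exists]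
  refine ⟨1, ?_⟩
  simp only [OneMemClass.coe_one, one_mul, Submonoid.coe_mul, mul_one]
  ring

theorem mem_one_smul : (a : A) ∈ 𝒜 (1 • n) := by
  rw [one_smul]; exact a.2

theorem frac_eq :
    frac 𝒜 a b = (Proj.awayToSection 𝒜 (b : A)).hom
      (Away.mk 𝒜 b.2 1 (a : A) (mem_one_smul 𝒜 a)) := by
  refine O_ext' 𝒜 _ _ fun x => ?_
  unfold frac
  rw [fracSectO_val]
  change _ = (HomogeneousLocalization.mapId 𝒜 _
    (Away.mk 𝒜 b.2 1 (a : A) (mem_one_smul 𝒜 a))).val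
  rw [Away.mk, HomogeneousLocalization.mapId, HomogeneousLocalization.map_mk,
    HomogeneousLocalization.val_mk]
  rw [Localization.mk_eq_mk_iff, Localization.r_iff_exists]
  refine ⟨1, ?_⟩
  simp only [OneMemClass.coe_one, one_mul, GradedRingHom.id_apply, pow_one]

theorem ratio_secHom (hD : Proj.basicOpen 𝒜 (b : A) ≤ CohB1.genLocus _ (secHom 𝒜 b)) :
    ratio (secHom 𝒜 b) (secHom 𝒜 a) (Proj.basicOpen 𝒜 (b : A)) hD = frac 𝒜 a b :=
  (eq_ratio (secHom 𝒜 b) (secHom 𝒜 a) (Proj.basicOpen 𝒜 (b : A)) hD (frac 𝒜 a b)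
    (frac_smul 𝒜 a b)).symm

end Ratio

section Base

/-- The structure morphism `Proj 𝒜 ⟶ Spec R`. -/
noncomputable abbrev toSpecR : Proj 𝒜 ⟶ Spec (CommRingCat.of R) :=
  Proj.toSpecZero 𝒜 ≫ Spec.map (CommRingCat.ofHom (algebraMap R (𝒜 0)))

theorem ι_toSpecR (b : A) {n : ℕ} (hb : b ∈ 𝒜 n) (hn : 0 < n) :
    (Proj.basicOpen 𝒜 b).ι ≫ toSpecR 𝒜 =
      Proj.basicOpenToSpec 𝒜 b ≫ Spec.map (CommRingCat.ofHom (fromZeroRingHom 𝒜 _)) ≫
        Spec.map (CommRingCat.ofHom (algebraMap R (𝒜 0))) := by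
  have h1 := Proj.awayι_toSpecZero 𝒜 b hb hn
  rw [Proj.awayι, Category.assoc, Iso.inv_comp_eq, Proj.basicOpenIsoSpec_hom] at h1
  unfold toSpecR
  rw [reassoc_of% h1]

theorem appLE_toSpecR (b : A) {n : ℕ} (hb : b ∈ 𝒜 n) (hn : 0 < n)
    (e : Proj.basicOpen 𝒜 b ≤ (toSpecR 𝒜) ⁻¹ᵁ ⊤) :
    (toSpecR 𝒜).appLE ⊤ (Proj.basicOpen 𝒜 b) e =
      (Scheme.ΓSpecIso (CommRingCat.of R)).hom ≫ CommRingCat.ofHom (algebraMap R (𝒜 0)) ≫
        CommRingCat.ofHom (fromZeroRingHom 𝒜 _) ≫ Proj.awayToSection 𝒜 b := by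
  set U := Proj.basicOpen 𝒜 b with hU
  have e' : (⊤ : (↑U : Scheme.{u}).Opens) ≤ (U.ι ≫ toSpecR 𝒜) ⁻¹ᵁ ⊤ := fun _ _ => trivial
  have h1 : (U.ι ≫ toSpecR 𝒜).appLE ⊤ ⊤ e' = (toSpecR 𝒜).appLE ⊤ U e ≫ U.topIso.inv := by
    rw [Scheme.Hom.comp_appLE, Scheme.Opens.ι_appLE, Scheme.Hom.appLE, Category.assoc,
      Scheme.Opens.topIso_inv]
    congr 1
  have h2 : (U.ι ≫ toSpecR 𝒜).appLE ⊤ ⊤ e' =
      ((Scheme.ΓSpecIso (CommRingCat.of R)).hom ≫ CommRingCat.ofHom (algebraMap R (𝒜 0)) ≫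
        CommRingCat.ofHom (fromZeroRingHom 𝒜 _) ≫ Proj.awayToSection 𝒜 b) ≫ U.topIso.inv := by
    have hSpec : ∀ {P Q : CommRingCat.{u}} (ψ : P ⟶ Q), (Spec.map ψ).appTop =
        (Scheme.ΓSpecIso P).hom ≫ ψ ≫ (Scheme.ΓSpecIso Q).inv := by
      intro P Q ψ
      rw [← Category.assoc, Iso.eq_comp_inv]
      exact Scheme.ΓSpecIso_naturality ψ
    have h3 : (U.ι ≫ toSpecR 𝒜).appLE ⊤ ⊤ e' = (U.ι ≫ toSpecR 𝒜).appTop :=
      Scheme.Hom.appLE_eq_app _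
    rw [h3, ι_toSpecR 𝒜 b hb hn, Scheme.Hom.comp_appTop, Scheme.Hom.comp_appTop, hSpec, hSpec]
    rw [show (Proj.basicOpenToSpec 𝒜 b).appTop = _ from Proj.basicOpenToSpec_app_top 𝒜 b]
    simp only [Category.assoc, Iso.inv_hom_id_assoc]
    rfl
  rw [h1] at h2
  exact (cancel_mono U.topIso.inv).mp h2

end Base

section Main

theorem mul_pow_mem {t g : A} {e n : ℕ} (ht : t ∈ 𝒜 e) (hg : g ∈ 𝒜 1) (hen : e ≤ n) :
    t * g ^ (n - e) ∈ 𝒜 n := by
  have h := SetLike.mul_mem_graded ht (SetLike.pow_mem_graded (n - e) hg)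
  have h2 : e + (n - e) • 1 = n := by
    rw [smul_eq_mul, mul_one]; omega
  rwa [h2] at h

theorem pow_mem' {g : A} (hg : g ∈ 𝒜 1) (n : ℕ) : g ^ n ∈ 𝒜 n := by
  have h := SetLike.pow_mem_graded n hg
  rwa [smul_eq_mul, mul_one] at h

/-- **EGA II 4.4.x.**  `𝒜` a graded `R`-algebra of finite type generated in degrees `1..d`, `Proj 𝒜` covered by the
`D₊(g)`, `g ∈ 𝒜 1`, `n ≥ d`, `n ≥ 1`: `O(n)` is very ample; there is a closed immersion `i` of `Proj 𝒜` into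
a projective space over `R` with `O(n) ≅ i^* O(1)`. -/
theorem exists_closedImmersion_twist (d : ℕ)
    (hgen : Algebra.adjoin R (⋃ i ∈ Finset.Icc 1 d, (𝒜 i : Set A)) = ⊤)
    (hcov : (⨆ g : 𝒜 1, Proj.basicOpen 𝒜 (g : A)) = ⊤) [Algebra.FiniteType R A] (n : ℕ)
    (hn : d ≤ n) (hn1 : 0 < n) :
    ∃ (N : ℕ) (i : Proj 𝒜 ⟶ CohB1.ProjSpaceOver N (Spec (CommRingCat.of R))), IsClosedImmersion i ∧
      i ≫ pullback.snd (CohB1.ProjSpace.toSpec N (ULift.{u} ℤ))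
        (specULiftZIsTerminal.from (Spec (CommRingCat.of R))) = toSpecR 𝒜 ∧
      Nonempty (Twist.twist 𝒜 (n : ℤ) ≅
        (Scheme.Modules.pullback i).obj (Twist.twistOver N (Spec (CommRingCat.of R)) 1)) := by
  classical
  -- a finite set of homogeneous generators
  obtain ⟨T, hTfin, hTG, hTadj⟩ := ProjVA1.exists_finite_subset_adjoin_eq_top _ hgen
  have hTdeg : ∀ t : T, ∃ e, (1 ≤ e ∧ e ≤ d) ∧ (t : A) ∈ 𝒜 e := by
    intro t
    have := hTG t.2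
    simp only [Set.mem_iUnion, Finset.mem_Icc, exists_prop] at this
    exact this
  choose eT heT hteT using hTdeg
  have hsurj : Function.Surjective (algebraMap R (𝒜 0)) :=
    ProjVA1.surjective_algebraMap_zero 𝒜 T hTadj
      (fun t ht => ⟨eT ⟨t, ht⟩, (heT _).1, hteT _⟩)
  haveI : IsScalarTower R (𝒜 0) A := ⟨fun r a x => by
    change ((r • a : 𝒜 0) : A) * x = r • ((a : A) * x)
    rw [Submodule.coe_smul, smul_mul_assoc]⟩
  haveI : Algebra.FiniteType (𝒜 0) A := Algebra.FiniteType.of_restrictScalars_finiteType R (𝒜 0) A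
  haveI : IsClosedImmersion (Spec.map (CommRingCat.ofHom (algebraMap R (𝒜 0)))) :=
    IsClosedImmersion.spec_of_surjective _ hsurj
  haveI : IsProper (toSpecR 𝒜) := inferInstance
  haveI : CompactSpace (Proj 𝒜) := QuasiCompact.compactSpace_of_compactSpace (toSpecR 𝒜)
  have hcovx : ∀ x : Proj 𝒜, ∃ g : 𝒜 1, x ∈ Proj.basicOpen 𝒜 (g : A) := by
    intro x
    have hx : x ∈ (⊤ : (Proj 𝒜).Opens) := trivial
    rw [← hcov, Opens.mem_iSup] at hx
    exact hx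
  obtain ⟨K, hK⟩ := isCompact_univ.elim_finite_subcover
    (fun g : 𝒜 1 => ((Proj.basicOpen 𝒜 (g : A) : (Proj 𝒜).Opens) : Set (Proj 𝒜)))
    (fun g => (Proj.basicOpen 𝒜 (g : A)).isOpen) (fun x _ => Set.mem_iUnion.mpr (hcovx x))
  haveI : Fintype T := hTfin.fintype
  have hcovn : ∀ x : ProjectiveSpectrum 𝒜, ∃ g ∈ 𝒜 n, g ∉ x.asHomogeneousIdeal := by
    intro x
    obtain ⟨g, hg⟩ := hcovx x
    refine ⟨(g : A) ^ n, pow_mem' 𝒜 g.2 n, fun h => ?_⟩
    exact (ProjectiveSpectrum.mem_basicOpen 𝒜 _ x).mp hg (x.isPrime.mem_of_pow_mem n h)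
  let J := Option (↥K ⊕ (↥K × ↥T))
  let b : J → 𝒜 n := fun j =>
    match j with
    | none => 0
    | some (Sum.inl k) => ⟨(k.1 : A) ^ n, pow_mem' 𝒜 k.1.2 n⟩
    | some (Sum.inr (k, t)) => ⟨(t : A) * (k.1 : A) ^ (n - eT t),
        mul_pow_mem 𝒜 (hteT t) k.1.2 ((heT t).2.trans hn)⟩
  let σ : J → (Coh.structureModule (Proj 𝒜) ⟶ Twist.twist 𝒜 (n : ℤ)) := fun j => secHom 𝒜 (b j)
  have hZeq : ∀ j, CohB1.genLocus _ (σ j) = Proj.basicOpen 𝒜 (b j : A) := fun j =>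
    genLocus_secHom 𝒜 hn1 (b j) hcovn
  have hVA : RelAmple.IsRelVeryAmplePn (toSpecR 𝒜) (Twist.twist 𝒜 (n : ℤ)) := by
    refine Groth.Agent.Lib.helper12.VAmple4.isRelVeryAmplePn_of_sections' (toSpecR 𝒜) σ
      (fun j => ∃ k, j = some (Sum.inl k)) (fun _ => ⊤) (fun j => Proj.basicOpen 𝒜 (b j : A))
      (fun j _ => hZeq j) (fun _ _ => isAffineOpen_top _)
      (fun j _ => Proj.isAffineOpen_basicOpen 𝒜 _ (b j).2 hn1) (fun j _ x _ => trivial) ?_ ?_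
    · rintro _ ⟨k, rfl⟩
      set bj : 𝒜 n := b (some (Sum.inl k)) with hbj
      have hbjv : (bj : A) = (k.1 : A) ^ n := rfl
      set CΓ := Subring.closure
        (Set.range ((toSpecR 𝒜).appLE ⊤ (Proj.basicOpen 𝒜 (bj : A)) (fun x _ => trivial)).hom ∪
          Set.range (fun l => ratio (σ (some (Sum.inl k))) (σ l) (Proj.basicOpen 𝒜 (bj : A))
            (hZeq (some (Sum.inl k))).ge)) with hCΓ
      let C : Subring (Away 𝒜 ((k.1 : A) ^ n)) :=
        CΓ.comap (Proj.awayToSection 𝒜 ((k.1 : A) ^ n)).hom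
      have hC : C = ⊤ := by
        refine ProjVA1.away_closure_eq_top 𝒜 (k.1 : A) n hn1 (pow_mem' 𝒜 k.1.2 n) T hTadj C
          (fun r => ?_) (fun t ht => ?_)
        · change (Proj.awayToSection 𝒜 ((k.1 : A) ^ n)).hom _ ∈ CΓ
          refine Subring.subset_closure (Or.inl ⟨(Scheme.ΓSpecIso (CommRingCat.of R)).inv.hom r, ?_⟩)
          rw [appLE_toSpecR 𝒜 _ (pow_mem' 𝒜 k.1.2 n) hn1]
          simp only [CommRingCat.hom_comp, RingHom.coe_comp, Function.comp_apply,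
            CommRingCat.hom_ofHom]
          congr 3
          exact congrFun (congrArg DFunLike.coe (congrArg CommRingCat.Hom.hom
            (Scheme.ΓSpecIso (CommRingCat.of R)).inv_hom_id)) r
        · refine ⟨eT ⟨t, ht⟩, hteT _, (heT _).2.trans hn,
            mem_one_smul 𝒜 (b (some (Sum.inr (k, ⟨t, ht⟩)))), ?_⟩
          change (Proj.awayToSection 𝒜 ((k.1 : A) ^ n)).hom _ ∈ CΓ
          refine Subring.subset_closure (Or.inr ⟨some (Sum.inr (k, ⟨t, ht⟩)), ?_⟩)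
          change ratio (secHom 𝒜 bj) (secHom 𝒜 (b (some (Sum.inr (k, ⟨t, ht⟩))))) _ _ = _
          rw [ratio_secHom, frac_eq]
      rw [eq_top_iff]
      intro y _
      have hy : (Proj.basicOpenIsoAway 𝒜 ((k.1 : A) ^ n) (pow_mem' 𝒜 k.1.2 n) hn1).inv.hom y ∈ C :=
        hC ▸ Subring.mem_top _
      have hy' : (Proj.awayToSection 𝒜 ((k.1 : A) ^ n)).hom
          ((Proj.basicOpenIsoAway 𝒜 ((k.1 : A) ^ n) (pow_mem' 𝒜 k.1.2 n) hn1).inv.hom y) ∈ CΓ := hy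
      have hey : (Proj.awayToSection 𝒜 ((k.1 : A) ^ n)).hom
          ((Proj.basicOpenIsoAway 𝒜 ((k.1 : A) ^ n) (pow_mem' 𝒜 k.1.2 n) hn1).inv.hom y) = y := by
        rw [← Proj.basicOpenIsoAway_hom 𝒜 _ (pow_mem' 𝒜 k.1.2 n) hn1]
        exact ConcreteCategory.congr_hom
          (Proj.basicOpenIsoAway 𝒜 _ (pow_mem' 𝒜 k.1.2 n) hn1).inv_hom_id y
      rw [hey] at hy'
      exact hy'
    · intro x
      have hx := hK (Set.mem_univ x)
      simp only [Set.mem_iUnion] at hx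
      obtain ⟨g, hgK, hxg⟩ := hx
      refine ⟨some (Sum.inl ⟨g, hgK⟩), ⟨_, rfl⟩, ?_⟩
      change x ∈ ProjectiveSpectrum.basicOpen 𝒜 ((g : A) ^ n)
      rw [ProjectiveSpectrum.basicOpen_pow 𝒜 _ n hn1]
      exact hxg
  obtain ⟨N, i, hi, hif, ⟨τ⟩⟩ := hVA
  refine ⟨N, i, ?_, hif, ⟨τ⟩⟩
  haveI := hi
  haveI : IsProper (i ≫ CohB1.ProjSpaceOver.toBase N (Spec (CommRingCat.of R))) := by
    rw [show i ≫ CohB1.ProjSpaceOver.toBase N (Spec (CommRingCat.of R)) = toSpecR 𝒜 from hif]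
    infer_instance
  exact Groth.Agent.Lib.helper12.Chow5.isClosedImmersion_of_isProper_comp i
    (CohB1.ProjSpaceOver.toBase N (Spec (CommRingCat.of R)))

end Main

end Groth.Agent.Lib.helper12.ProjVA2
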