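import Mathlib
import Groth.Agent.Lib.Helper12.ProjClosed5
import Groth.Agent.Lib.Helper12.ProjVA2
import Groth.Agent.Lib.Helper11.ParaFLib
import Groth.Prelude.Def_ProjUP

/-!
# Vanishing of pulled back sections of `O(e)` in terms of fractions (helper12)

`pullSec_eq_zero_iff`: for `i : Z ⟶ Proj 𝒜`, `G ∈ 𝒜 e` (`e > 0`) and a cover of `Proj 𝒜` by `D₊(f)`,
`f ∈ s ⊆ 𝒜 1`, the section `i^* G` of `i^* O(e)` vanishes iff all `i^♯ (G / f ^ e)` vanish.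
-/

set_option autoImplicit false
set_option linter.unusedSectionVars false
set_option linter.style.haveILetI false
universe u

open CategoryTheory CategoryTheory.Limits AlgebraicGeometry Opposite TopologicalSpace

namespace Groth.Agent.Lib.helper12.ProjClosed

open Groth.Agent.Lib.helper11.IsoLocus Groth.Agent.Lib.helper11.InvHom
open Groth.Agent.Lib.helper11.GenLocus Groth.Agent.Lib.helper11.InvMod
open Groth.Agent.Lib.helper12.ProjUP1 Groth.Agent.Lib.helper12.ProjUP2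
open Groth.Agent.Lib.helper12.ProjUP3 Groth.Agent.Lib.helper12.ProjUP4
open Groth.Agent.Lib.helper28.TwistSecHom Groth.Agent.Lib.helper28.TwistFree
open Scheme.Modules HomogeneousLocalization

variable {R A : Type u} [CommRing R] [CommRing A] [Algebra R A] (𝒜 : ℕ → Submodule R A)
  [GradedAlgebra 𝒜]

theorem fr_smul (W : (Proj 𝒜).Opens) {n : ℕ} (a b : 𝒜 n)
    (hW : ∀ x : W, b.1 ∉ x.1.asHomogeneousIdeal) :
    fr 𝒜 W a.2 b.2 hW • sec (secHom 𝒜 b) W = sec (secHom 𝒜 a) W := by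
  rw [Groth.Agent.Lib.helper12.ProjVA2.sec_secHom, Groth.Agent.Lib.helper12.ProjVA2.sec_secHom]
  refine sectN_ext' 𝒜 _ _ fun x => ?_
  have h1 := smul_val 𝒜 (n := (n : ℤ))
    (show Twist.O (𝒜 := 𝒜) (op W) from fr 𝒜 W a.2 b.2 hW)
    (globalOfOn 𝒜 b W) x
  refine h1.trans ?_
  unfold globalOfOn
  rw [fr_val, fracSectN_val, fracSectN_val, Localization.mk_mul,
    Localization.mk_eq_mk_iff, Localization.r_iff_exists]
  refine ⟨1, ?_⟩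
  simp only [OneMemClass.coe_one, one_mul, Submonoid.coe_mul, mul_one]
  ring

theorem sec_secHom_top {n : ℕ} (a : 𝒜 n) : sec (secHom 𝒜 a) ⊤ = Twist.globalOf 𝒜 a := by
  rw [Groth.Agent.Lib.helper12.ProjVA2.sec_secHom]
  rfl

section Pull

variable {Z : Scheme.{u}} (i : Z ⟶ Proj 𝒜)

theorem pullSec_eq_sec {e : ℕ} (G : 𝒜 e) :
    _root_.ProjUP.pullSec i (Twist.twist 𝒜 (e : ℤ)) (Twist.globalOf 𝒜 G) =
      sec (pullHom i (secHom 𝒜 G)) ⊤ := by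
  have h2 := sec_pullHom i (secHom 𝒜 G) ⊤
  rw [sec_secHom_top] at h2
  exact h2.symm

/-- On `i ⁻¹ D₊(f)`, `i^* G = i^♯ (G / f ^ e) • i^* (f ^ e)`. -/
theorem sec_pullHom_eq_ev_smul {f : A} (hf : f ∈ 𝒜 1) {e : ℕ} {G : A} (hG : G ∈ 𝒜 e) :
    sec (pullHom i (secHom 𝒜 ⟨G, hG⟩)) (i ⁻¹ᵁ Proj.basicOpen 𝒜 f) =
      (ev 𝒜 i hf hG • sec (pullHom i (secHom 𝒜 ⟨f ^ e, pow_mem1 𝒜 hf e⟩))
        (i ⁻¹ᵁ Proj.basicOpen 𝒜 f) :
        Γ((Scheme.Modules.pullback i).obj (Twist.twist 𝒜 (e : ℤ)), i ⁻¹ᵁ Proj.basicOpen 𝒜 f)) := by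
  rw [sec_pullHom, sec_pullHom]
  have h1 := fr_smul 𝒜 (Proj.basicOpen 𝒜 f) (⟨G, hG⟩ : 𝒜 e) ⟨f ^ e, pow_mem1 𝒜 hf e⟩
    (notMem_pow 𝒜 (notMem_of_mem_basicOpen 𝒜) e)
  rw [← h1]
  exact unitSec_smul i (Twist.twist 𝒜 (e : ℤ)) (Proj.basicOpen 𝒜 f) _ _

theorem pullSec_eq_zero_iff
    (hcov1 : ∀ x : ProjectiveSpectrum 𝒜, ∃ f ∈ 𝒜 1, f ∉ x.asHomogeneousIdeal)
    (s : Set A) (hs1 : ∀ f ∈ s, f ∈ 𝒜 1)
    (hcov : ⨆ f : s, Proj.basicOpen 𝒜 (f : A) = ⊤) {e : ℕ} (he : 0 < e) {G : A} (hG : G ∈ 𝒜 e) :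
    _root_.ProjUP.pullSec i (Twist.twist 𝒜 (e : ℤ)) (Twist.globalOf 𝒜 ⟨G, hG⟩) = 0 ↔
      ∀ (f : A) (hf : f ∈ s), ev 𝒜 i (hs1 f hf) hG = 0 := by
  have hM : PicF.IsInvertible (Twist.twist 𝒜 (e : ℤ)) :=
    Groth.Agent.Lib.helper28.TwistAll.isInvertible_twist 𝒜 hcov1 e
  have hgen : ∀ (f : A) (hf : f ∈ 𝒜 1), i ⁻¹ᵁ Proj.basicOpen 𝒜 f ≤
      CohB1.genLocus _ (pullHom i (secHom 𝒜 ⟨f ^ e, pow_mem1 𝒜 hf e⟩)) := by
    intro f hf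
    refine le_trans (i.preimage_mono ?_) (le_genLocus_pullHom i hM _)
    have h1 := basicOpen_le_genLocus 𝒜 he (⟨f ^ e, pow_mem1 𝒜 hf e⟩ : 𝒜 e)
    rwa [Proj.basicOpen_pow 𝒜 f e he] at h1
  rw [pullSec_eq_sec]
  constructor
  · intro h f hf
    have h1 : pullHom i (secHom 𝒜 ⟨G, hG⟩) = 0 :=
      Groth.Agent.Lib.helper11.ParaFLib.sec_top_injective (h.trans (sec_zero ⊤).symm)
    have h2 := sec_pullHom_eq_ev_smul 𝒜 i (hs1 f hf) hG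
    rw [h1, sec_zero] at h2
    have h3 := (bijective_app_of_le_genLocus _ (hgen f (hs1 f hf))).1
    refine h3 ?_
    show _ • _ = _ • _
    rw [← h2, zero_smul]
  · intro h
    have h1 : pullHom i (secHom 𝒜 ⟨G, hG⟩) = 0 := by
      refine eq_zero_of_forall_exists_isZeroOn _ fun x => ?_
      have hx : i.base x ∈ (⨆ f : s, Proj.basicOpen 𝒜 (f : A)) := by rw [hcov]; trivial
      obtain ⟨f, hxf⟩ := TopologicalSpace.Opens.mem_iSup.mp hx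
      refine ⟨i ⁻¹ᵁ Proj.basicOpen 𝒜 (f : A), hxf, ?_⟩
      rw [isZeroOn_iff_sec, sec_pullHom_eq_ev_smul 𝒜 i (hs1 f.1 f.2) hG, h f.1 f.2, zero_smul]
    rw [h1, sec_zero]

end Pull

section Main

variable {B : Type u} [CommRing B] [Algebra R B] (ℬ : ℕ → Submodule R B) [GradedAlgebra ℬ]

theorem exists_iso_of_pullSec_ker (s : Finset A) (hs1 : ∀ f ∈ (s : Set A), f ∈ 𝒜 1)
    (hcov : ⨆ f : (s : Set A), Proj.basicOpen 𝒜 (f : A) = ⊤)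
    {Z : Scheme.{u}} (i : Z ⟶ Proj 𝒜) [IsClosedImmersion i]
    (φ : 𝒜 →+*ᵍ ℬ) (hφs : Function.Surjective φ)
    (hker : ∀ (d : ℕ) (F : A) (hF : F ∈ 𝒜 d),
      φ F = 0 ↔ _root_.ProjUP.pullSec i (Twist.twist 𝒜 (d : ℤ)) (Twist.globalOf 𝒜 ⟨F, hF⟩) = 0)
    (hφ : HomogeneousIdeal.irrelevant ℬ ≤ (HomogeneousIdeal.irrelevant 𝒜).map φ) :
    ∃ e : Z ≅ Proj ℬ, e.hom ≫ Proj.map φ hφ = i := by
  have hcov1 : ∀ x : ProjectiveSpectrum 𝒜, ∃ f ∈ 𝒜 1, f ∉ x.asHomogeneousIdeal := by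
    intro x
    have hx : x ∈ (⨆ f : (s : Set A), Proj.basicOpen 𝒜 (f : A)) := by rw [hcov]; trivial
    obtain ⟨f, hxf⟩ := TopologicalSpace.Opens.mem_iSup.mp hx
    exact ⟨f.1, hs1 f.1 f.2, (ProjectiveSpectrum.mem_basicOpen 𝒜 _ x).mp hxf⟩
  refine exists_iso_of_chart_ker 𝒜 ℬ φ hφs hφ i (fun k : (s : Set A) => (k.1 : A)) (fun _ => 1)
    (fun _ => Nat.one_pos) (fun k => hs1 k.1 k.2) hcov ?_
  intro k x
  have hf : k.1 ∈ 𝒜 1 := hs1 k.1 k.2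
  obtain ⟨m, a, ha, rfl⟩ := Away.mk_surjective 𝒜 hf x
  have ha' : a ∈ 𝒜 m := by simpa using ha
  have key : (i.app (Proj.basicOpen 𝒜 k.1)).hom
      ((Proj.awayToSection 𝒜 k.1).hom (Away.mk 𝒜 hf m a ha)) = ev 𝒜 i hf ha' := by
    rw [awayToSection_mk]
    unfold ev
    congr 1
    exact fr_eq_of_mul_eq 𝒜 _ _ _ _ _ _ _ rfl
  have h3 : ∀ N : ℕ, ev 𝒜 i hf (SetLike.GradedMul.mul_mem (pow_mem1 𝒜 hf N) ha') =
      ev 𝒜 i hf ha' := by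
    intro N
    unfold ev
    congr 1
    exact fr_eq_of_mul_eq 𝒜 _ _ _ _ _ _ _ (by rw [pow_add]; ring)
  rw [key, Away.map_mk, away_mk_eq_zero_iff]
  constructor
  · rintro ⟨N, hN⟩
    have h1 : φ (k.1 ^ (N + 1) * a) = 0 := by
      rw [pow_succ', mul_assoc, map_mul, map_mul, map_pow, hN, mul_zero]
    have hG : k.1 ^ (N + 1) * a ∈ 𝒜 (N + 1 + m) :=
      SetLike.GradedMul.mul_mem (pow_mem1 𝒜 hf (N + 1)) ha'
    have h2 := (hker _ _ hG).mp h1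
    have h4 := (pullSec_eq_zero_iff 𝒜 i hcov1 (s : Set A) hs1 hcov (by omega) hG).mp h2 k.1 k.2
    rw [← h3 (N + 1)]
    exact h4
  · intro h0
    obtain ⟨N, hN⟩ := exists_pow_mul_mem_vanIdeal 𝒜 i s hs1 hf ha' h0
    have hN' : k.1 ^ (N + 1) * a ∈ vanIdeal 𝒜 i (s : Set A) hs1 := by
      rw [pow_succ', mul_assoc]
      exact Ideal.mul_mem_left _ _ hN
    have hG : k.1 ^ (N + 1) * a ∈ 𝒜 (N + 1 + m) :=
      SetLike.GradedMul.mul_mem (pow_mem1 𝒜 hf (N + 1)) ha'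
    have h1 := (mem_vanIdeal_of_mem 𝒜 i _ hs1 hG).mp hN'
    have h2 := (pullSec_eq_zero_iff 𝒜 i hcov1 (s : Set A) hs1 hcov (by omega) hG).mpr h1
    have h4 := (hker _ _ hG).mpr h2
    refine ⟨N + 1, ?_⟩
    rw [← map_pow, ← map_mul]
    exact h4

end Main

end Groth.Agent.Lib.helper12.ProjClosed
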