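import Mathlib
import Groth.Agent.Lib.Helper12.ProjClosed6
import Groth.Agent.Lib.Helper18.ZeroSchemeIdeal
import Groth.Agent.Lib.Helper11.TwistPull

/-!
# The zero scheme of a section of `O(1)` on `Proj 𝒜` is `Proj` of the quotient (helper12; S7676)

* `zeroIdealOn_secHom`: over `D₊(f)`, `f ∈ 𝒜 1`, the colon ideal of the section `ℓ / 1` of `O(1)`
  is generated by the function `ℓ / f`.
* `away_map_eq_zero_iff_mem_span`: for a surjective graded `φ` with kernel `(ℓ)`, the kernel of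
  `A_(f) → B_(φ f)` is generated by `ℓ / f`.
* `exists_iso_zeroScheme`: `Z(ℓ) ≅ Proj ℬ` over `Proj 𝒜`.
-/

set_option autoImplicit false
set_option linter.unusedSectionVars false
set_option linter.style.haveILetI false
universe u

open CategoryTheory CategoryTheory.Limits AlgebraicGeometry Opposite TopologicalSpace

namespace Groth.Agent.Lib.Helper12.Hyperplane

open Groth.Agent.Lib.helper11.GenLocus
open Groth.Agent.Lib.helper28.TwistSecHom Groth.Agent.Lib.helper28.TwistFree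
open Groth.Agent.Lib.helper12.ProjClosed
open Scheme.Modules HomogeneousLocalization

variable {R A : Type u} [CommRing R] [CommRing A] [Algebra R A] (𝒜 : ℕ → Submodule R A)
  [GradedAlgebra 𝒜]

/-- over `D₊(f)` the colon ideal of the section `ℓ` of `O(1)` is generated by `ℓ / f` -/
theorem zeroIdealOn_secHom {f ℓ : A} (hf : f ∈ 𝒜 1) (hℓ : ℓ ∈ 𝒜 1) :
    (show Ideal Γ(Proj 𝒜, Proj.basicOpen 𝒜 f) from
      PicF2.zeroIdealOn (Twist.twist 𝒜 ((1 : ℕ) : ℤ)) (secHom 𝒜 ⟨ℓ, hℓ⟩) (Proj.basicOpen 𝒜 f)) =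
    Ideal.span {fr 𝒜 (Proj.basicOpen 𝒜 f) hℓ hf (notMem_of_mem_basicOpen 𝒜)} := by
  set U : (Proj 𝒜).Opens := Proj.basicOpen 𝒜 f with hU
  set h : Γ(Proj 𝒜, U) := fr 𝒜 U hℓ hf (notMem_of_mem_basicOpen 𝒜) with hh
  set g : Γ(Twist.twist 𝒜 ((1 : ℕ) : ℤ), U) := sec (secHom 𝒜 (⟨f, hf⟩ : 𝒜 1)) U with hg
  have hsv : Groth.Agent.Lib.Helper18.ZeroSchemeIdeal.sv (Twist.twist 𝒜 ((1 : ℕ) : ℤ))
      (secHom 𝒜 ⟨ℓ, hℓ⟩) U = h • g :=
    (fr_smul 𝒜 U (⟨ℓ, hℓ⟩ : 𝒜 1) ⟨f, hf⟩ (notMem_of_mem_basicOpen 𝒜)).symm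
  have hbij : Function.Bijective (fun c : Γ(Proj 𝒜, U) => c • g) := by
    have := bijective_smul_fracSectN 𝒜 ((1 : ℕ) : ℤ) Nat.one_pos hf U rfl (⟨f, hf⟩ : 𝒜 1)
      (⟨1, SetLike.GradedOne.one_mem⟩ : 𝒜 0) (notMem_of_mem_basicOpen 𝒜)
      (fun x => one_notMem 𝒜 x.1) (by simp)
    rw [hg, Groth.Agent.Lib.helper12.ProjVA2.sec_secHom]
    exact this
  ext a
  rw [Groth.Agent.Lib.Helper18.ZeroSchemeIdeal.mem_zeroIdealOn_iff, Ideal.mem_span_singleton', hsv]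
  constructor
  · intro ha
    obtain ⟨b, hb⟩ := ha g
    refine ⟨b, ?_⟩
    apply hbij.1
    show (b * h) • g = a • g
    rw [mul_smul, hb]
  · rintro ⟨b, rfl⟩ m
    obtain ⟨c, rfl⟩ := hbij.2 m
    refine ⟨b * c, ?_⟩
    show (b * h) • c • g = (b * c) • h • g
    rw [← mul_smul, ← mul_smul]
    congr 1
    ring

section Ker

variable {B : Type u} [CommRing B] [Algebra R B] (ℬ : ℕ → Submodule R B) [GradedAlgebra ℬ]
  (φ : 𝒜 →+*ᵍ ℬ)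

theorem away_mk_zero {f : A} {d : ℕ} (hf : f ∈ 𝒜 d) (n : ℕ) (h0 : (0 : A) ∈ 𝒜 (n • d)) :
    Away.mk 𝒜 hf n 0 h0 = 0 :=
  (away_mk_eq_zero_iff 𝒜 hf n 0 h0).mpr ⟨0, by simp⟩

/-- the kernel of `A_(f) → B_(φ f)` is generated by `ℓ / f` when `ker φ = (ℓ)` -/
theorem away_map_eq_zero_iff_mem_span {f ℓ : A} (hf : f ∈ 𝒜 1) (hℓ : ℓ ∈ 𝒜 1)
    (hker : ∀ F : A, φ F = 0 ↔ F ∈ Ideal.span {ℓ}) (x : Away 𝒜 f) :
    Away.map φ f x = 0 ↔ (Proj.awayToSection 𝒜 f).hom x ∈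
      Ideal.span {fr 𝒜 (Proj.basicOpen 𝒜 f) hℓ hf (notMem_of_mem_basicOpen 𝒜)} := by
  set U : (Proj 𝒜).Opens := Proj.basicOpen 𝒜 f with hU
  have hℓ1 : ℓ ∈ 𝒜 (1 • 1) := hℓ
  have hfr : fr 𝒜 U hℓ hf (notMem_of_mem_basicOpen 𝒜) =
      (Proj.awayToSection 𝒜 f).hom (Away.mk 𝒜 hf 1 ℓ hℓ1) := by
    rw [awayToSection_mk]
    exact fr_eq_of_mul_eq 𝒜 _ _ _ _ _ _ _ (by rw [pow_one])
  constructor
  · intro h0
    obtain ⟨n, a, ha, rfl⟩ := Away.mk_surjective 𝒜 hf x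
    have ha' : a ∈ 𝒜 n := by simpa using ha
    rw [Away.map_mk, away_mk_eq_zero_iff] at h0
    obtain ⟨N, hN⟩ := h0
    have h1 : f ^ N * a ∈ Ideal.span {ℓ} := by
      rw [← hker, map_mul, map_pow]
      exact hN
    obtain ⟨c, hc⟩ := Ideal.mem_span_singleton'.mp h1
    -- pass to the homogeneous component
    have hdeg : f ^ (N + 1) * a ∈ 𝒜 ((N + n) + 1) := by
      have := SetLike.GradedMul.mul_mem (pow_mem1 𝒜 hf (N + 1)) ha'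
      rw [show N + 1 + n = N + n + 1 by ring] at this
      exact this
    have e1 : (f * c) * ℓ = f ^ (N + 1) * a := by
      rw [pow_succ', mul_assoc, mul_assoc, hc]
    set c' : A := (DirectSum.decompose 𝒜 (f * c) (N + n) : A) with hc'
    have hc'mem : c' ∈ 𝒜 (N + n) := Submodule.coe_mem _
    have e2 : c' * ℓ = f ^ (N + 1) * a := by
      have h2 := DirectSum.coe_decompose_mul_add_of_right_mem 𝒜 (a := f * c) (i := N + n) hℓ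
      rw [e1, DirectSum.decompose_of_mem_same 𝒜 hdeg] at h2
      exact h2.symm
    rw [awayToSection_mk, Ideal.mem_span_singleton']
    refine ⟨fr 𝒜 U hc'mem (pow_mem1 𝒜 hf (N + n)) (notMem_pow 𝒜 (notMem_of_mem_basicOpen 𝒜) _), ?_⟩
    rw [fr_mul]
    refine fr_eq_of_mul_eq 𝒜 _ _ _ _ _ _ _ ?_
    rw [e2]
    ring
  · intro hx
    obtain ⟨b, hb⟩ := Ideal.mem_span_singleton'.mp hx
    obtain ⟨y, rfl⟩ : ∃ y, (Proj.awayToSection 𝒜 f).hom y = b :=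
      (ConcreteCategory.bijective_of_isIso
        (Proj.basicOpenIsoAway 𝒜 f hf Nat.one_pos).hom).2 b
    rw [hfr, ← map_mul] at hb
    have hxy : y * Away.mk 𝒜 hf 1 ℓ hℓ1 = x :=
      (ConcreteCategory.bijective_of_isIso
        (Proj.basicOpenIsoAway 𝒜 f hf Nat.one_pos).hom).1 hb
    rw [← hxy, map_mul, Away.map_mk]
    have h0 : φ ℓ = 0 := (hker ℓ).mpr (Ideal.subset_span rfl)
    have : Away.mk ℬ (φ.map_mem hf) 1 (φ ℓ) (φ.map_mem hℓ1) = 0 := by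
      have e := away_mk_zero ℬ (φ.map_mem hf) 1 (by simp)
      convert e
    rw [this, mul_zero]

/-- the zero scheme of the section `ℓ` of `O(1)` is `Proj ℬ` when `𝒜 → ℬ` is a graded surjection with
kernel `(ℓ)` -/
theorem exists_iso_zeroScheme {ι : Type*} (f : ι → A) (hf : ∀ k, f k ∈ 𝒜 1)
    (hcov : ⨆ k, Proj.basicOpen 𝒜 (f k) = ⊤)
    (hsurj : Function.Surjective φ)
    (hφ : HomogeneousIdeal.irrelevant ℬ ≤ (HomogeneousIdeal.irrelevant 𝒜).map φ)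
    {ℓ : A} (hℓ : ℓ ∈ 𝒜 1) (hker : ∀ F : A, φ F = 0 ↔ F ∈ Ideal.span {ℓ}) :
    ∃ e : (PicF2.zeroScheme (Twist.twist 𝒜 ((1 : ℕ) : ℤ)) (secHom 𝒜 ⟨ℓ, hℓ⟩)).subscheme ≅ Proj ℬ,
      e.hom ≫ Proj.map φ hφ =
        (PicF2.zeroScheme (Twist.twist 𝒜 ((1 : ℕ) : ℤ)) (secHom 𝒜 ⟨ℓ, hℓ⟩)).subschemeι := by
  have hcov1 : ∀ x : ProjectiveSpectrum 𝒜, ∃ g ∈ 𝒜 1, g ∉ x.asHomogeneousIdeal := by
    intro x
    have hx : x ∈ (⨆ k, Proj.basicOpen 𝒜 (f k)) := by rw [hcov]; trivial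
    obtain ⟨k, hxk⟩ := TopologicalSpace.Opens.mem_iSup.mp hx
    exact ⟨f k, hf k, (ProjectiveSpectrum.mem_basicOpen 𝒜 _ x).mp hxk⟩
  have hinv : PicF.IsInvertible (Twist.twist 𝒜 ((1 : ℕ) : ℤ)) :=
    Groth.Agent.Lib.helper28.TwistAll.isInvertible_twist 𝒜 hcov1 _
  have hLF : FlatMod.IsFinLocFree (Twist.twist 𝒜 ((1 : ℕ) : ℤ)) :=
    Groth.Agent.Lib.helper16.FLF.isFinLocFree_of_isInvertible hinv
  set I := PicF2.zeroScheme (Twist.twist 𝒜 ((1 : ℕ) : ℤ)) (secHom 𝒜 ⟨ℓ, hℓ⟩) with hI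
  refine exists_iso_of_chart_ker 𝒜 ℬ φ hsurj hφ I.subschemeι f (fun _ => 1)
    (fun _ => Nat.one_pos) hf hcov (fun k x => ?_)
  rw [away_map_eq_zero_iff_mem_span 𝒜 ℬ φ (hf k) hℓ hker x, ← zeroIdealOn_secHom 𝒜 (hf k) hℓ]
  have hU : IsAffineOpen (Proj.basicOpen 𝒜 (f k)) :=
    Proj.isAffineOpen_basicOpen 𝒜 _ (hf k) Nat.one_pos
  have h1 := Groth.Agent.Lib.Helper18.ZeroSchemeIdeal.zeroScheme_ideal
    (Twist.twist 𝒜 ((1 : ℕ) : ℤ)) hLF (secHom 𝒜 ⟨ℓ, hℓ⟩) ⟨_, hU⟩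
  have h2 := I.ker_subschemeι_app ⟨_, hU⟩
  rw [← h1, ← hI, ← h2, RingHom.mem_ker]

end Ker

end Groth.Agent.Lib.Helper12.Hyperplane
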