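import Mathlib
import Groth.Agent.Lib.Helper12.Hyperplane1
import Groth.Agent.Lib.Helper12.Hyperplane2
import Groth.Agent.Lib.Helper20.ProjH0
import Groth.Agent.Lib.Helper28.TwistPn

/-!
# Hyperplanes in `P^{n+1}_k` are `P^n_k` (helper12; S7676)
-/

set_option autoImplicit false
set_option linter.unusedSectionVars false
set_option linter.style.haveILetI false
universe u

open CategoryTheory CategoryTheory.Limits AlgebraicGeometry Opposite TopologicalSpace MvPolynomial

namespace Groth.Agent.Lib.Helper12.Hyperplane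

open Groth.Agent.Lib.helper28.TwistSecHom Groth.Agent.Lib.helper28.TwistFree
open Groth.Agent.Lib.helper12.ProjClosed
open Scheme.Modules HomogeneousLocalization

/-- every global section of `O(d)` on `P^n_R` comes from a homogeneous polynomial -/
theorem exists_eq_secHom (n : ℕ) (R : Type u) [CommRing R] (d : ℕ)
    (s : Coh.structureModule (CohB1.ProjSpace n R) ⟶ Twist.twist (CohB1.polyGrading n R) (d : ℤ)) :
    ∃ p : CohB1.polyGrading n R d, s = secHom (CohB1.polyGrading n R) p := by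
  let σ : Twist.sectN (𝒜 := CohB1.polyGrading n R) (d : ℤ) (op ⊤) :=
    ((SheafOfModules.unitHomEquiv (R := (Proj (CohB1.polyGrading n R)).ringCatSheaf)
      (Twist.twist (CohB1.polyGrading n R) (d : ℤ))) s).val (op ⊤)
  obtain ⟨p, hp⟩ := Groth.Agent.Lib.Helper20.ProjH0.glob_surjective n R d σ
  refine ⟨p, ?_⟩
  apply (SheafOfModules.unitHomEquiv (R := (Proj (CohB1.polyGrading n R)).ringCatSheaf)
      (Twist.twist (CohB1.polyGrading n R) (d : ℤ))).injective
  unfold secHom
  rw [Equiv.apply_symm_apply]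
  apply Groth.Agent.Lib.helper7.LocalLift.sections_ext_top
  exact hp.symm

theorem secHom_zero {R A : Type u} [CommRing R] [CommRing A] [Algebra R A]
    (𝒜 : ℕ → Submodule R A) [GradedAlgebra 𝒜] (d : ℕ) :
    secHom 𝒜 (0 : 𝒜 d) = 0 := by
  apply (SheafOfModules.unitHomEquiv (R := (Proj 𝒜).ringCatSheaf)
      (Twist.twist 𝒜 (d : ℤ))).injective
  unfold secHom
  rw [Equiv.apply_symm_apply]
  apply Groth.Agent.Lib.helper7.LocalLift.sections_ext_top
  show Twist.globalOf 𝒜 (0 : 𝒜 d) = 0
  apply Subtype.ext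
  funext x
  apply Subtype.ext
  exact Localization.mk_zero _

theorem iSup_basicOpen_X (n : ℕ) (R : Type u) [CommRing R] :
    ⨆ i : Fin (n + 1), Proj.basicOpen (CohB1.polyGrading n R) (X i) = ⊤ := by
  rw [eq_top_iff]
  intro x _
  obtain ⟨i, hi⟩ := Groth.Agent.Lib.helper28.TwistPn.exists_X_notMem n R x
  exact TopologicalSpace.Opens.mem_iSup.mpr
    ⟨i, (ProjectiveSpectrum.mem_basicOpen (CohB1.polyGrading n R) _ x).mpr hi⟩

/-- the graded ring hom eliminating a variable along a linear form -/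
noncomputable def gPhi {k : Type u} [Field k] {n : ℕ} (ℓ : MvPolynomial (Fin (n + 2)) k)
    (j : Fin (n + 2)) : CohB1.polyGrading (n + 1) k →+*ᵍ CohB1.polyGrading n k where
  toRingHom := (phi ℓ j).toRingHom
  map_mem := fun {d} {F} hF => by
    have h1 : F.IsHomogeneous d := (mem_homogeneousSubmodule d F).mp hF
    exact (mem_homogeneousSubmodule d _).mpr (phi_isHomogeneous ℓ j h1)

theorem hyperplane (k : Type u) [Field k] (n : ℕ)
    (s : Coh.structureModule (CohB1.ProjSpace (n + 1) k) ⟶ Twist.twistProjSpace (n + 1) k 1)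
    (hs : s ≠ 0) :
    ∃ φ : CohB1.ProjSpace n k ≅ (PicF2.zeroScheme _ s).subscheme,
      Nonempty ((Scheme.Modules.pullback (φ.hom ≫ (PicF2.zeroScheme _ s).subschemeι)).obj
          (Twist.twistProjSpace (n + 1) k 1) ≅ Twist.twistProjSpace n k 1) := by
  obtain ⟨p, rfl⟩ := exists_eq_secHom (n + 1) k 1 s
  have hp0 : p.1 ≠ 0 := by
    intro h
    apply hs
    have : p = 0 := Subtype.ext h
    rw [this]
    exact secHom_zero _ 1
  have hℓ : p.1.IsHomogeneous 1 := (mem_homogeneousSubmodule 1 p.1).mp p.2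
  obtain ⟨j, hj⟩ := exists_cf_ne_zero hℓ hp0
  have hsurj : Function.Surjective (gPhi p.1 j) := phi_surjective p.1 j
  have hφ := irrelevant_le_map_of_surjective (CohB1.polyGrading (n + 1) k) (CohB1.polyGrading n k)
    (gPhi p.1 j) hsurj
  obtain ⟨e, he⟩ := exists_iso_zeroScheme (CohB1.polyGrading (n + 1) k) (CohB1.polyGrading n k)
    (gPhi p.1 j) (fun i : Fin (n + 2) => (X i : MvPolynomial (Fin (n + 2)) k))
    (Groth.Agent.Lib.helper28.TwistPn.X_mem (n + 1) k) (iSup_basicOpen_X (n + 1) k) hsurj hφ p.2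
    (fun F => ker_phi hℓ hj F)
  refine ⟨e.symm, ⟨?_⟩⟩
  have h1 : e.symm.hom ≫ (PicF2.zeroScheme _ (secHom (CohB1.polyGrading (n + 1) k) p)).subschemeι =
      Proj.map (gPhi p.1 j) hφ := by
    rw [← he]
    simp
  exact (Scheme.Modules.pullbackCongr h1).app _ ≪≫
    Groth.Agent.Lib.helper11.TwistPull.pullbackTwistIso (gPhi p.1 j) hφ
      (Groth.Agent.Lib.helper28.TwistPn.hcov (n + 1) k) 1

end Groth.Agent.Lib.Helper12.Hyperplane
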