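import Mathlib
import Groth.Agent.Lib.Helper12.ImmCharts
import Groth.Agent.Lib.Helper12.VAmple4

/-!
# Immersions by charts, `appLE` form, and immersions of quasi-affine schemes into affine space (helper12)

* `isImmersion_of_charts_appLE`: variant of `isImmersion_of_charts` with the preimages given up to equality
  and surjectivity stated for `appLE`.
* `exists_immersion_affineSpace`: a quasi-affine scheme locally of finite type over `S` immerses into
  some `𝔸^n_S` (any base `S`).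
-/

set_option autoImplicit false
universe u

open CategoryTheory CategoryTheory.Limits AlgebraicGeometry Opposite TopologicalSpace

namespace Groth.Agent.Lib.helper12.ImmCharts2

theorem isImmersion_of_charts_appLE {X Y : Scheme.{u}} (i : X ⟶ Y) {ι : Type*} (W : ι → Y.Opens)
    (Z : ι → X.Opens) (hpre : ∀ j, i ⁻¹ᵁ W j = Z j)
    (hW : ∀ j, IsAffineOpen (W j)) (hZ : ∀ j, IsAffineOpen (Z j))
    (hsurj : ∀ j, Function.Surjective (i.appLE (W j) (Z j) (hpre j).ge).hom)
    (hcov : ⨆ j, Z j = ⊤) : IsImmersion i := by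
  refine Groth.Agent.Lib.helper12.ImmCharts.isImmersion_of_charts i W hW
    (fun j => (hpre j).symm ▸ hZ j) (fun j => ?_) ?_
  · have key : ∀ (Z' : X.Opens) (h : i ⁻¹ᵁ W j = Z'),
        Function.Surjective (i.appLE (W j) Z' h.ge).hom → Function.Surjective (i.app (W j)).hom := by
      rintro Z' rfl hs
      rwa [← Scheme.Hom.app_eq_appLE] at hs
    exact key _ (hpre j) (hsurj j)
  · rw [← hcov]
    exact iSup_congr hpre

open Groth.Agent.Lib.helper12.VAmple4

theorem isUnit_res_of_le_basicOpen (P : Scheme.{u}) (c : Γ(P, ⊤)) (W : P.Opens)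
    (h : W ≤ P.basicOpen c) :
    IsUnit ((P.presheaf.map (homOfLE (le_top : W ≤ ⊤)).op).hom c) := by
  have h1 := RingedSpace.isUnit_res_basicOpen P.toRingedSpace c
  have h2 := h1.map (P.presheaf.map (homOfLE h).op).hom
  have h3 : (P.presheaf.map (homOfLE h).op).hom
      ((P.presheaf.map (homOfLE (P.basicOpen_le c)).op).hom c) =
      (P.presheaf.map (homOfLE (le_top : W ≤ ⊤)).op).hom c := by
    rw [← CommRingCat.comp_apply, ← Functor.map_comp]
    rfl
  rw [← h3]
  exact h2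

/-- A quasi-affine scheme, locally of finite type over `S`, immerses into an affine space over `S`. -/
theorem exists_immersion_affineSpace {X S : Scheme.{u}} (π : X ⟶ S)
    [LocallyOfFiniteType π] [X.IsQuasiAffine] :
    ∃ (n : ℕ) (i : X ⟶ 𝔸(ULift.{u} (Fin n); S)), IsImmersion i ∧
      i ≫ (𝔸(ULift.{u} (Fin n); S) ↘ S) = π := by
  classical
  have hB := Scheme.IsQuasiAffine.isBasis_basicOpen X
  rw [Opens.isBasis_iff_nbhd] at hB
  have hloc : ∀ x : X, ∃ (V : S.Opens) (f : Γ(X, ⊤)), IsAffineOpen V ∧ x ∈ X.basicOpen f ∧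
      IsAffineOpen (X.basicOpen f) ∧ X.basicOpen f ≤ π ⁻¹ᵁ V := by
    intro x
    obtain ⟨V, hV, hxV, -⟩ := exists_isAffineOpen_mem_and_subset
      (show π x ∈ (⊤ : S.Opens) from trivial)
    obtain ⟨U, ⟨f, hf, rfl⟩, hxU, hUV⟩ := hB (show x ∈ π ⁻¹ᵁ V from hxV)
    exact ⟨V, f, hV, hxU, hf, hUV⟩
  choose V f hV hxf hZaff hZle using hloc
  have hgens : ∀ x, ∃ (g : ℕ) (b : Fin g → Γ(X, X.basicOpen (f x))),
      Subring.closure (Set.range (π.appLE (V x) (X.basicOpen (f x)) (hZle x)).hom ∪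
        Set.range b) = ⊤ := fun x =>
    exists_generators_of_finiteType _ (π.finiteType_appLE (hV x) (hZaff x) (hZle x))
  choose g b hb using hgens
  have hlift : ∀ x (l : Fin (g x)), ∃ (N : ℕ) (a : Γ(X, ⊤)),
      X.presheaf.map (homOfLE (le_top : X.basicOpen (f x) ≤ ⊤)).op a =
        (X.presheaf.map (homOfLE (le_top : X.basicOpen (f x) ≤ ⊤)).op (f x)) ^ N * b x l :=
    fun x l => exists_eq_pow_mul_of_isCompact_of_isQuasiSeparated X ⊤ isCompact_univ
      isQuasiSeparated_univ (f x) (b x l)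
  choose N a ha using hlift
  obtain ⟨F, hF⟩ := isCompact_univ.elim_finite_subcover
    (fun x => ((X.basicOpen (f x) : X.Opens) : Set X))
    (fun x => (X.basicOpen (f x)).isOpen) (fun x _ => Set.mem_iUnion.mpr ⟨x, hxf x⟩)
  let T := Σ x : F, Option (Fin (g x.1))
  let vT : T → Γ(X, ⊤) := fun t =>
    match t with
    | ⟨x, none⟩ => f x.1
    | ⟨x, some l⟩ => a x.1 l
  let e : ULift.{u} (Fin (Fintype.card T)) ≃ T := Equiv.ulift.trans (Fintype.equivFin T).symm
  let v : ULift.{u} (Fin (Fintype.card T)) → Γ(X, ⊤) := fun k => vT (e k)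
  refine ⟨Fintype.card T, AffineSpace.homOfVector π v, ?_, AffineSpace.homOfVector_over π v⟩
  set ι := AffineSpace.homOfVector π v with hι
  have hιπ : ι ≫ (𝔸(ULift.{u} (Fin (Fintype.card T)); S) ↘ S) = π :=
    AffineSpace.homOfVector_over π v
  let P : Scheme.{u} := 𝔸(ULift.{u} (Fin (Fintype.card T)); S)
  let p : P ⟶ S := 𝔸(ULift.{u} (Fin (Fintype.card T)); S) ↘ S
  let c : T → Γ(P, ⊤) := fun t => AffineSpace.coord S (e.symm t)
  have hc : ∀ t, ι.appTop (c t) = vT t := by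
    intro t
    change (AffineSpace.homOfVector π v).appTop (AffineSpace.coord S (e.symm t)) = vT t
    rw [AffineSpace.homOfVector_appTop_coord]
    change vT (e (e.symm t)) = vT t
    rw [Equiv.apply_symm_apply]
  let W : F → P.Opens := fun x => p ⁻¹ᵁ V x.1 ⊓ P.basicOpen (c ⟨x, none⟩)
  let Z : F → X.Opens := fun x => X.basicOpen (f x.1)
  have hpre : ∀ x, ι ⁻¹ᵁ W x = Z x := by
    intro x
    change ι ⁻¹ᵁ (p ⁻¹ᵁ V x.1) ⊓ ι ⁻¹ᵁ (P.basicOpen (c ⟨x, none⟩)) = _
    rw [Scheme.preimage_basicOpen_top, hc, ← Scheme.Hom.comp_preimage, hιπ]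
    exact inf_eq_right.mpr (hZle x.1)
  refine isImmersion_of_charts_appLE ι W Z hpre ?_ (fun x => hZaff x.1) ?_ ?_
  · intro x
    have h1 : IsAffineOpen (p ⁻¹ᵁ V x.1) := (hV x.1).preimage p
    have h2 := h1.basicOpen ((P.presheaf.map (homOfLE le_top).op).hom (c ⟨x, none⟩))
    rwa [Scheme.basicOpen_res] at h2
  · intro x
    have hZW : Z x ≤ ι ⁻¹ᵁ W x := (hpre x).ge
    -- restriction maps
    have hφc : ∀ t, (ι.appLE (W x) (Z x) hZW).hom
        ((P.presheaf.map (homOfLE (le_top : W x ≤ ⊤)).op).hom (c t)) =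
        (X.presheaf.map (homOfLE (le_top : Z x ≤ ⊤)).op).hom (vT t) := by
      intro t
      rw [← hc t, ← CommRingCat.comp_apply, Scheme.Hom.map_appLE]
      rfl
    have hu : IsUnit ((P.presheaf.map (homOfLE (le_top : W x ≤ ⊤)).op).hom (c ⟨x, none⟩)) :=
      isUnit_res_of_le_basicOpen P _ _ inf_le_right
    rw [← RingHom.range_eq_top, eq_top_iff, ← hb x.1, Subring.closure_le]
    rintro _ (⟨s, rfl⟩ | ⟨l, rfl⟩)
    · have hVW : W x ≤ p ⁻¹ᵁ V x.1 := inf_le_left
      have e1 : π.appLE (V x.1) (Z x) (hZle x.1) =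
          p.appLE (V x.1) (W x) hVW ≫ ι.appLE (W x) (Z x) hZW := by
        rw [Scheme.Hom.appLE_comp_appLE]
        exact Groth.Agent.Lib.helper12.ProjUP6.appLE_eq_of_eq hιπ.symm _ _ _ _
      rw [e1]
      exact ⟨_, rfl⟩
    · refine ⟨(↑(hu.unit⁻¹) : Γ(P, W x)) ^ (N x.1 l) *
        (P.presheaf.map (homOfLE (le_top : W x ≤ ⊤)).op).hom (c ⟨x, some l⟩), ?_⟩
      rw [map_mul, map_pow, hφc ⟨x, some l⟩]
      change _ * (X.presheaf.map (homOfLE (le_top : Z x ≤ ⊤)).op).hom (a x.1 l) = b x.1 l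
      rw [ha x.1 l, ← mul_assoc, ← mul_pow]
      have h1 : (ι.appLE (W x) (Z x) hZW).hom (↑(hu.unit⁻¹) : Γ(P, W x)) *
          (X.presheaf.map (homOfLE (le_top : Z x ≤ ⊤)).op).hom (f x.1) = 1 := by
        have := hφc ⟨x, none⟩
        change _ = (X.presheaf.map (homOfLE (le_top : Z x ≤ ⊤)).op).hom (f x.1) at this
        rw [← this, ← map_mul, IsUnit.val_inv_mul, map_one]
      rw [h1, one_pow, one_mul]
  · rw [eq_top_iff]
    intro y _
    obtain ⟨x, hx⟩ := Set.mem_iUnion.mp (hF (Set.mem_univ y))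
    obtain ⟨hxF, hy⟩ := Set.mem_iUnion.mp hx
    exact Opens.mem_iSup.mpr ⟨⟨x, hxF⟩, hy⟩

end Groth.Agent.Lib.helper12.ImmCharts2
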