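import Mathlib
import Groth.Prelude.Def_W4c2brnrinvarInvFld

/-!
# Diagonal actions on rational function fields (plumbing for the no-name lemma corollaries)

`K_ι = Frac k[x_i : i ∈ ι]`.  A `k`-automorphism of `K_ι` is *linear* if it sends every variable to
a `k`-linear combination of the variables; it then restricts to an automorphism of the polynomial
ring.  Given finite groups `G ≤ Aut K_ι`, `H ≤ Aut K_κ` of linear automorphisms and `e : G ≃* H`, we
build the diagonal group `diag ≤ Aut K_{ι ⊕ κ}`.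
-/

set_option autoImplicit false
set_option linter.style.haveILetI false
set_option linter.unusedSectionVars false

universe u

namespace Groth.Agent.Lib.helper12.InvDiag

open MvPolynomial

variable {k : Type u} [Field k]

section Pol

variable {ι : Type*}

/-- Extensionality for `k`-algebra homs out of a rational function field. -/
theorem fld_algHom_ext {A : Type*} [CommRing A] [Algebra k A] {f g : InvFld.Fld ι k →ₐ[k] A}
    (h : ∀ i, f (InvFld.X i) = g (InvFld.X i)) : f = g := by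
  apply AlgHom.coe_ringHom_injective
  apply IsLocalization.ringHom_ext (nonZeroDivisors (MvPolynomial ι k))
  apply MvPolynomial.ringHom_ext
  · intro r
    have hr : algebraMap (MvPolynomial ι k) (InvFld.Fld ι k) (C r) = algebraMap k (InvFld.Fld ι k) r := by
      rw [← MvPolynomial.algebraMap_eq, ← IsScalarTower.algebraMap_apply]
    simp only [RingHom.comp_apply, hr, AlgHom.coe_toRingHom, AlgHom.commutes]
  · intro i
    exact h i

/-- Extensionality for automorphisms of a rational function field. -/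
theorem fld_algEquiv_ext {f g : InvFld.Fld ι k ≃ₐ[k] InvFld.Fld ι k}
    (h : ∀ i, f (InvFld.X i) = g (InvFld.X i)) : f = g := by
  have : (f : InvFld.Fld ι k →ₐ[k] InvFld.Fld ι k) = g := fld_algHom_ext h
  ext x
  exact DFunLike.congr_fun this x

/-- The rational function field is generated by the variables. -/
theorem algebraMap_mem_adjoin_X (p : MvPolynomial ι k) :
    algebraMap (MvPolynomial ι k) (InvFld.Fld ι k) p ∈
      IntermediateField.adjoin k (Set.range fun j : ι => (InvFld.X j : InvFld.Fld ι k)) := by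
  induction p using MvPolynomial.induction_on with
  | C a =>
    rw [← MvPolynomial.algebraMap_eq, ← IsScalarTower.algebraMap_apply]
    exact IntermediateField.algebraMap_mem _ _
  | add p q hp hq => rw [map_add]; exact add_mem hp hq
  | mul_X p i hp =>
    rw [map_mul]
    exact mul_mem hp (IntermediateField.subset_adjoin _ _ ⟨i, rfl⟩)

theorem adjoin_X_eq_top :
    IntermediateField.adjoin k (Set.range fun j : ι => (InvFld.X j : InvFld.Fld ι k)) = ⊤ := by
  rw [eq_top_iff]
  intro f _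
  obtain ⟨p, q, _, rfl⟩ := IsFractionRing.div_surjective (A := MvPolynomial ι k) f
  exact div_mem (algebraMap_mem_adjoin_X p) (algebraMap_mem_adjoin_X q)

/-- Linear automorphisms. -/
def IsLin (σ : InvFld.Fld ι k ≃ₐ[k] InvFld.Fld ι k) : Prop :=
  ∀ i, σ (InvFld.X i) ∈
    Submodule.span k (Set.range fun j : ι => (InvFld.X j : InvFld.Fld ι k))

theorem IsLin.exists_pol {σ : InvFld.Fld ι k ≃ₐ[k] InvFld.Fld ι k} (h : IsLin σ) (i : ι) :
    ∃ p : MvPolynomial ι k, p ∈ Submodule.span k (Set.range (X : ι → MvPolynomial ι k)) ∧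
      algebraMap (MvPolynomial ι k) (InvFld.Fld ι k) p = σ (InvFld.X i) := by
  have hi := h i
  have hrange : (Set.range fun j : ι => (InvFld.X j : InvFld.Fld ι k)) =
      (IsScalarTower.toAlgHom k (MvPolynomial ι k) (InvFld.Fld ι k)).toLinearMap ''
        (Set.range (X : ι → MvPolynomial ι k)) := by
    rw [← Set.range_comp]
    rfl
  rw [hrange, ← Submodule.map_span] at hi
  obtain ⟨p, hp, hpe⟩ := hi
  exact ⟨p, hp, hpe⟩

/-- The linear forms `σ (x_i)`. -/
noncomputable def pol {σ : InvFld.Fld ι k ≃ₐ[k] InvFld.Fld ι k} (h : IsLin σ) (i : ι) :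
    MvPolynomial ι k := (h.exists_pol i).choose

theorem pol_mem {σ : InvFld.Fld ι k ≃ₐ[k] InvFld.Fld ι k} (h : IsLin σ) (i : ι) :
    pol h i ∈ Submodule.span k (Set.range (X : ι → MvPolynomial ι k)) :=
  (h.exists_pol i).choose_spec.1

theorem algebraMap_pol {σ : InvFld.Fld ι k ≃ₐ[k] InvFld.Fld ι k} (h : IsLin σ) (i : ι) :
    algebraMap (MvPolynomial ι k) (InvFld.Fld ι k) (pol h i) = σ (InvFld.X i) :=
  (h.exists_pol i).choose_spec.2

/-- The polynomial-ring endomorphism induced by a linear automorphism. -/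
noncomputable def polHom {σ : InvFld.Fld ι k ≃ₐ[k] InvFld.Fld ι k} (h : IsLin σ) :
    MvPolynomial ι k →ₐ[k] MvPolynomial ι k := aeval (pol h)

theorem polHom_X {σ : InvFld.Fld ι k ≃ₐ[k] InvFld.Fld ι k} (h : IsLin σ) (i : ι) :
    polHom h (X i) = pol h i := by simp [polHom]

theorem algebraMap_polHom {σ : InvFld.Fld ι k ≃ₐ[k] InvFld.Fld ι k} (h : IsLin σ)
    (r : MvPolynomial ι k) :
    algebraMap (MvPolynomial ι k) (InvFld.Fld ι k) (polHom h r) =
      σ (algebraMap (MvPolynomial ι k) (InvFld.Fld ι k) r) := by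
  have : (IsScalarTower.toAlgHom k (MvPolynomial ι k) (InvFld.Fld ι k)).comp (polHom h) =
      (σ : InvFld.Fld ι k →ₐ[k] InvFld.Fld ι k).comp
        (IsScalarTower.toAlgHom k (MvPolynomial ι k) (InvFld.Fld ι k)) := by
    apply MvPolynomial.algHom_ext
    intro i
    simp only [AlgHom.comp_apply, IsScalarTower.coe_toAlgHom', polHom_X, algebraMap_pol]
    rfl
  exact DFunLike.congr_fun this r

theorem polHom_eq_of {σ τ : InvFld.Fld ι k ≃ₐ[k] InvFld.Fld ι k} (h : IsLin σ) (h' : IsLin τ)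
    (hστ : σ = τ) : polHom h = polHom h' := by
  subst hστ
  rfl

theorem polHom_one (h : IsLin (1 : InvFld.Fld ι k ≃ₐ[k] InvFld.Fld ι k)) :
    polHom h = AlgHom.id k _ := by
  ext r : 1
  apply IsFractionRing.injective (MvPolynomial ι k) (InvFld.Fld ι k)
  rw [algebraMap_polHom]
  rfl

theorem polHom_mul {σ τ : InvFld.Fld ι k ≃ₐ[k] InvFld.Fld ι k} (h : IsLin σ) (h' : IsLin τ)
    (h'' : IsLin (σ * τ)) : polHom h'' = (polHom h).comp (polHom h') := by
  ext r : 1
  apply IsFractionRing.injective (MvPolynomial ι k) (InvFld.Fld ι k)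
  rw [algebraMap_polHom, AlgHom.comp_apply, algebraMap_polHom, algebraMap_polHom]
  rfl

end Pol

section SumHom

variable {ι κ : Type*}

/-- The endomorphism of `k[x, y]` acting by `a` on the `x`-block and by `b` on the `y`-block. -/
noncomputable def sumHom (a : MvPolynomial ι k →ₐ[k] MvPolynomial ι k)
    (b : MvPolynomial κ k →ₐ[k] MvPolynomial κ k) :
    MvPolynomial (ι ⊕ κ) k →ₐ[k] MvPolynomial (ι ⊕ κ) k :=
  aeval (Sum.elim (fun i => rename Sum.inl (a (X i))) (fun j => rename Sum.inr (b (X j))))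

@[simp] theorem sumHom_X_inl (a : MvPolynomial ι k →ₐ[k] MvPolynomial ι k)
    (b : MvPolynomial κ k →ₐ[k] MvPolynomial κ k) (i : ι) :
    sumHom a b (X (Sum.inl i)) = rename Sum.inl (a (X i)) := by simp [sumHom]

@[simp] theorem sumHom_X_inr (a : MvPolynomial ι k →ₐ[k] MvPolynomial ι k)
    (b : MvPolynomial κ k →ₐ[k] MvPolynomial κ k) (j : κ) :
    sumHom a b (X (Sum.inr j)) = rename Sum.inr (b (X j)) := by simp [sumHom]

theorem sumHom_rename_inl (a : MvPolynomial ι k →ₐ[k] MvPolynomial ι k)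
    (b : MvPolynomial κ k →ₐ[k] MvPolynomial κ k) (r : MvPolynomial ι k) :
    sumHom a b (rename Sum.inl r) = rename Sum.inl (a r) := by
  have : (sumHom a b).comp (rename Sum.inl) = (rename Sum.inl).comp a := by
    apply MvPolynomial.algHom_ext
    intro i
    simp
  exact DFunLike.congr_fun this r

theorem sumHom_rename_inr (a : MvPolynomial ι k →ₐ[k] MvPolynomial ι k)
    (b : MvPolynomial κ k →ₐ[k] MvPolynomial κ k) (r : MvPolynomial κ k) :
    sumHom a b (rename Sum.inr r) = rename Sum.inr (b r) := by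
  have : (sumHom a b).comp (rename Sum.inr) = (rename Sum.inr).comp b := by
    apply MvPolynomial.algHom_ext
    intro i
    simp
  exact DFunLike.congr_fun this r

theorem sumHom_id : sumHom (AlgHom.id k (MvPolynomial ι k)) (AlgHom.id k (MvPolynomial κ k)) =
    AlgHom.id k _ := by
  apply MvPolynomial.algHom_ext
  rintro (i | j) <;> simp

theorem sumHom_comp (a a' : MvPolynomial ι k →ₐ[k] MvPolynomial ι k)
    (b b' : MvPolynomial κ k →ₐ[k] MvPolynomial κ k) :
    sumHom (a.comp a') (b.comp b') = (sumHom a b).comp (sumHom a' b') := by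
  apply MvPolynomial.algHom_ext
  rintro (i | j)
  · simp [sumHom_rename_inl]
  · simp [sumHom_rename_inr]

end SumHom

section Diag

variable {ι κ : Type*}
variable (G : Subgroup (InvFld.Fld ι k ≃ₐ[k] InvFld.Fld ι k))
variable (H : Subgroup (InvFld.Fld κ k ≃ₐ[k] InvFld.Fld κ k))
variable (e : G ≃* H)
variable (hG : ∀ σ ∈ G, IsLin σ) (hH : ∀ τ ∈ H, IsLin τ)

/-- The monoid hom `G → End k[x,y]`. -/
noncomputable def diagPolHom :
    G →* (MvPolynomial (ι ⊕ κ) k →ₐ[k] MvPolynomial (ι ⊕ κ) k) where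
  toFun σ := sumHom (polHom (hG σ σ.2)) (polHom (hH (e σ) (e σ).2))
  map_one' := by
    have h1 : polHom (hG (1 : G) (1 : G).2) = AlgHom.id k _ := polHom_one _
    have h2 : polHom (hH (e 1) (e 1).2) = AlgHom.id k _ := by
      have : ((e 1 : H) : InvFld.Fld κ k ≃ₐ[k] InvFld.Fld κ k) = 1 := by rw [map_one]; rfl
      rw [polHom_eq_of _ (this ▸ hH (e 1) (e 1).2) this]
      exact polHom_one _
    rw [h1, h2, sumHom_id]
    rfl
  map_mul' σ τ := by
    have h1 : polHom (hG (σ * τ) (σ * τ).2) =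
        (polHom (hG σ σ.2)).comp (polHom (hG τ τ.2)) := polHom_mul _ _ _
    have h2 : polHom (hH (e (σ * τ)) (e (σ * τ)).2) =
        (polHom (hH (e σ) (e σ).2)).comp (polHom (hH (e τ) (e τ).2)) := by
      have : ((e (σ * τ) : H) : InvFld.Fld κ k ≃ₐ[k] InvFld.Fld κ k) =
          ((e σ : H) : InvFld.Fld κ k ≃ₐ[k] InvFld.Fld κ k) * (e τ : H) := by
        rw [map_mul]; rfl
      rw [polHom_eq_of _ (this ▸ hH (e (σ * τ)) (e (σ * τ)).2) this]
      exact polHom_mul _ _ _
    rw [h1, h2, sumHom_comp]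
    rfl

/-- The group hom `G → Aut k(x,y)`. -/
noncomputable def diagHom : G →* (InvFld.Fld (ι ⊕ κ) k ≃ₐ[k] InvFld.Fld (ι ⊕ κ) k) :=
  (IsFractionRing.fieldEquivOfAlgEquivHom k (InvFld.Fld (ι ⊕ κ) k)).comp
    ((AlgEquiv.algHomUnitsEquiv k (MvPolynomial (ι ⊕ κ) k)).toMonoidHom.comp
      (diagPolHom G H e hG hH).toHomUnits)

theorem diagHom_algebraMap (σ : G) (r : MvPolynomial (ι ⊕ κ) k) :
    diagHom G H e hG hH σ (algebraMap _ _ r) =
      algebraMap _ _ (sumHom (polHom (hG σ σ.2)) (polHom (hH (e σ) (e σ).2)) r) := by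
  simp only [diagHom, MonoidHom.comp_apply, IsFractionRing.fieldEquivOfAlgEquivHom_apply,
    IsFractionRing.fieldEquivOfAlgEquiv_algebraMap]
  rfl

/-- The diagonal group. -/
noncomputable def diag : Subgroup (InvFld.Fld (ι ⊕ κ) k ≃ₐ[k] InvFld.Fld (ι ⊕ κ) k) :=
  (diagHom G H e hG hH).range

instance diag_finite [Finite G] : Finite (diag G H e hG hH) :=
  Finite.of_surjective (diagHom G H e hG hH).rangeRestrict
    (diagHom G H e hG hH).rangeRestrict_surjective

theorem mem_diag (γ : InvFld.Fld (ι ⊕ κ) k ≃ₐ[k] InvFld.Fld (ι ⊕ κ) k) :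
    γ ∈ diag G H e hG hH ↔ ∃ σ : G, diagHom G H e hG hH σ = γ := MonoidHom.mem_range

end Diag

section DiagProps

variable {ι κ : Type*}
variable (G : Subgroup (InvFld.Fld ι k ≃ₐ[k] InvFld.Fld ι k))
variable (H : Subgroup (InvFld.Fld κ k ≃ₐ[k] InvFld.Fld κ k))
variable (e : G ≃* H)
variable (hG : ∀ σ ∈ G, IsLin σ) (hH : ∀ τ ∈ H, IsLin τ)

theorem diagHom_X_inl (σ : G) (i : ι) :
    diagHom G H e hG hH σ (InvFld.X (Sum.inl i)) =
      algebraMap (MvPolynomial (ι ⊕ κ) k) (InvFld.Fld (ι ⊕ κ) k)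
        (rename Sum.inl (pol (hG σ σ.2) i)) := by
  show diagHom G H e hG hH σ (algebraMap (MvPolynomial (ι ⊕ κ) k) (InvFld.Fld (ι ⊕ κ) k)
    (X (Sum.inl i))) = _
  rw [diagHom_algebraMap, sumHom_X_inl, polHom_X]

theorem diagHom_X_inr (σ : G) (j : κ) :
    diagHom G H e hG hH σ (InvFld.X (Sum.inr j)) =
      algebraMap (MvPolynomial (ι ⊕ κ) k) (InvFld.Fld (ι ⊕ κ) k)
        (rename Sum.inr (pol (hH (e σ) (e σ).2) j)) := by
  show diagHom G H e hG hH σ (algebraMap (MvPolynomial (ι ⊕ κ) k) (InvFld.Fld (ι ⊕ κ) k)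
    (X (Sum.inr j))) = _
  rw [diagHom_algebraMap, sumHom_X_inr, polHom_X]

theorem algebraMap_rename_mem_span {α β : Type*} (f : α → β) (p : MvPolynomial α k)
    (hp : p ∈ Submodule.span k (Set.range (X : α → MvPolynomial α k))) :
    algebraMap (MvPolynomial β k) (InvFld.Fld β k) (rename f p) ∈
      Submodule.span k (Set.range fun j : α => (InvFld.X (f j) : InvFld.Fld β k)) := by
  have hle : Submodule.span k (Set.range (X : α → MvPolynomial α k)) ≤
      (Submodule.span k (Set.range fun j : α => (InvFld.X (f j) : InvFld.Fld β k))).comap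
        (((IsScalarTower.toAlgHom k (MvPolynomial β k) (InvFld.Fld β k)).comp
          (rename f)).toLinearMap) := by
    rw [Submodule.span_le]
    rintro _ ⟨j, rfl⟩
    simp only [SetLike.mem_coe, Submodule.mem_comap, AlgHom.toLinearMap_apply, AlgHom.comp_apply,
      rename_X, IsScalarTower.coe_toAlgHom']
    exact Submodule.subset_span ⟨j, rfl⟩
  exact hle hp

theorem diag_hx (γ) (hγ : γ ∈ diag G H e hG hH) (i : ι) :
    γ (InvFld.X (Sum.inl i)) ∈ Submodule.span k
      (Set.range fun j : ι => (InvFld.X (Sum.inl j) : InvFld.Fld (ι ⊕ κ) k)) := by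
  obtain ⟨σ, rfl⟩ := (mem_diag G H e hG hH γ).mp hγ
  rw [diagHom_X_inl]
  exact algebraMap_rename_mem_span Sum.inl _ (pol_mem _ i)

theorem diag_hy (γ) (hγ : γ ∈ diag G H e hG hH) (j : κ) :
    γ (InvFld.X (Sum.inr j)) ∈ Submodule.span k
      (Set.range fun j : κ => (InvFld.X (Sum.inr j) : InvFld.Fld (ι ⊕ κ) k)) := by
  obtain ⟨σ, rfl⟩ := (mem_diag G H e hG hH γ).mp hγ
  rw [diagHom_X_inr]
  exact algebraMap_rename_mem_span Sum.inr _ (pol_mem _ j)

theorem diag_hfaith (γ) (hγ : γ ∈ diag G H e hG hH)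
    (hfix : ∀ i : ι, γ (InvFld.X (Sum.inl i)) = InvFld.X (Sum.inl i)) : γ = 1 := by
  obtain ⟨σ, rfl⟩ := (mem_diag G H e hG hH γ).mp hγ
  have hσ : (σ : InvFld.Fld ι k ≃ₐ[k] InvFld.Fld ι k) = 1 := by
    apply fld_algEquiv_ext
    intro i
    have h1 := hfix i
    rw [diagHom_X_inl] at h1
    have h2 : rename Sum.inl (pol (hG σ σ.2) i) = rename (Sum.inl : ι → ι ⊕ κ) (X i) := by
      apply IsFractionRing.injective (MvPolynomial (ι ⊕ κ) k) (InvFld.Fld (ι ⊕ κ) k)
      rw [h1, rename_X]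
    have h3 : pol (hG σ σ.2) i = X i := rename_injective _ Sum.inl_injective h2
    rw [← algebraMap_pol (hG σ σ.2) i, h3]
    rfl
  have : σ = 1 := Subtype.ext hσ
  rw [this, map_one]

end DiagProps

section RenHom

variable {α β : Type*}

theorem renHom_aux_injective (f : α → β) (hf : Function.Injective f) :
    Function.Injective ((IsScalarTower.toAlgHom k (MvPolynomial β k) (InvFld.Fld β k)).comp
      (rename f : MvPolynomial α k →ₐ[k] MvPolynomial β k)) := by
  intro a b hab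
  apply rename_injective f hf
  apply IsFractionRing.injective (MvPolynomial β k) (InvFld.Fld β k)
  exact hab

/-- The embedding of rational function fields induced by an injective renaming of variables. -/
noncomputable def renHom (f : α → β) (hf : Function.Injective f) :
    InvFld.Fld α k →ₐ[k] InvFld.Fld β k :=
  IsFractionRing.liftAlgHom (K := InvFld.Fld α k) (renHom_aux_injective (k := k) f hf)

theorem renHom_algebraMap (f : α → β) (hf : Function.Injective f) (r : MvPolynomial α k) :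
    renHom f hf (algebraMap (MvPolynomial α k) (InvFld.Fld α k) r) =
      algebraMap (MvPolynomial β k) (InvFld.Fld β k) (rename f r) := by
  simp only [renHom, IsFractionRing.liftAlgHom_apply]
  rw [IsFractionRing.lift_algebraMap]
  rfl

theorem renHom_X (f : α → β) (hf : Function.Injective f) (i : α) :
    renHom (k := k) f hf (InvFld.X i) = InvFld.X (f i) := by
  show renHom f hf (algebraMap (MvPolynomial α k) (InvFld.Fld α k) (X i)) = _
  rw [renHom_algebraMap, rename_X]

theorem fieldRange_renHom (f : α → β) (hf : Function.Injective f) :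
    (renHom (k := k) f hf).fieldRange =
      IntermediateField.adjoin k (Set.range fun j : α => (InvFld.X (f j) : InvFld.Fld β k)) := by
  rw [AlgHom.fieldRange_eq_map, ← adjoin_X_eq_top, IntermediateField.adjoin_map, ← Set.range_comp]
  congr 2
  ext j
  simp only [Function.comp_apply, renHom_X]

end RenHom

section Intertwine

variable {ι κ : Type*}
variable (G : Subgroup (InvFld.Fld ι k ≃ₐ[k] InvFld.Fld ι k))
variable (H : Subgroup (InvFld.Fld κ k ≃ₐ[k] InvFld.Fld κ k))
variable (e : G ≃* H)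
variable (hG : ∀ σ ∈ G, IsLin σ) (hH : ∀ τ ∈ H, IsLin τ)

theorem diagHom_renHom_inl (σ : G) (x : InvFld.Fld ι k) :
    diagHom G H e hG hH σ (renHom Sum.inl Sum.inl_injective x) =
      renHom Sum.inl Sum.inl_injective ((σ : InvFld.Fld ι k ≃ₐ[k] InvFld.Fld ι k) x) := by
  have : ((diagHom G H e hG hH σ : InvFld.Fld (ι ⊕ κ) k ≃ₐ[k] InvFld.Fld (ι ⊕ κ) k) :
      InvFld.Fld (ι ⊕ κ) k →ₐ[k] InvFld.Fld (ι ⊕ κ) k).comp (renHom Sum.inl Sum.inl_injective) =
      (renHom Sum.inl Sum.inl_injective).comp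
        ((σ : InvFld.Fld ι k ≃ₐ[k] InvFld.Fld ι k) : InvFld.Fld ι k →ₐ[k] InvFld.Fld ι k) := by
    apply fld_algHom_ext
    intro i
    simp only [AlgHom.comp_apply, AlgEquiv.coe_toAlgHom, renHom_X, diagHom_X_inl]
    rw [← algebraMap_pol (hG σ σ.2) i, renHom_algebraMap]
  exact DFunLike.congr_fun this x

theorem diagHom_renHom_inr (σ : G) (x : InvFld.Fld κ k) :
    diagHom G H e hG hH σ (renHom Sum.inr Sum.inr_injective x) =
      renHom Sum.inr Sum.inr_injective (((e σ : H) : InvFld.Fld κ k ≃ₐ[k] InvFld.Fld κ k) x) := by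
  have : ((diagHom G H e hG hH σ : InvFld.Fld (ι ⊕ κ) k ≃ₐ[k] InvFld.Fld (ι ⊕ κ) k) :
      InvFld.Fld (ι ⊕ κ) k →ₐ[k] InvFld.Fld (ι ⊕ κ) k).comp (renHom Sum.inr Sum.inr_injective) =
      (renHom Sum.inr Sum.inr_injective).comp
        (((e σ : H) : InvFld.Fld κ k ≃ₐ[k] InvFld.Fld κ k) :
          InvFld.Fld κ k →ₐ[k] InvFld.Fld κ k) := by
    apply fld_algHom_ext
    intro i
    simp only [AlgHom.comp_apply, AlgEquiv.coe_toAlgHom, renHom_X, diagHom_X_inr]
    rw [← algebraMap_pol (hH (e σ) (e σ).2) i, renHom_algebraMap]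
  exact DFunLike.congr_fun this x

/-- The left base field `k(x) ∩ k(x,y)^Γ` of the no-name lemma. -/
noncomputable def leftBase : IntermediateField k (InvFld.Fld (ι ⊕ κ) k) :=
  IntermediateField.adjoin k
      (Set.range fun j : ι => (InvFld.X (Sum.inl j) : InvFld.Fld (ι ⊕ κ) k)) ⊓
    IntermediateField.fixedField (diag G H e hG hH)

theorem map_fixedField_eq :
    (IntermediateField.fixedField G).map (renHom Sum.inl Sum.inl_injective) =
      leftBase G H e hG hH := by
  ext y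
  simp only [leftBase, IntermediateField.mem_map, IntermediateField.mem_inf,
    IntermediateField.mem_fixedField_iff]
  constructor
  · rintro ⟨x, hx, rfl⟩
    refine ⟨?_, ?_⟩
    · rw [← fieldRange_renHom (k := k) Sum.inl Sum.inl_injective]
      exact ⟨x, rfl⟩
    · intro γ hγ
      obtain ⟨σ, rfl⟩ := (mem_diag G H e hG hH γ).mp hγ
      rw [diagHom_renHom_inl, hx σ σ.2]
  · rintro ⟨hy1, hy2⟩
    rw [← fieldRange_renHom (k := k) Sum.inl Sum.inl_injective] at hy1
    obtain ⟨x, rfl⟩ := AlgHom.mem_fieldRange.mp hy1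
    refine ⟨x, ?_, rfl⟩
    intro σ hσ
    have h1 := hy2 (diagHom G H e hG hH ⟨σ, hσ⟩) ((mem_diag G H e hG hH _).mpr ⟨_, rfl⟩)
    rw [diagHom_renHom_inl] at h1
    exact (renHom Sum.inl Sum.inl_injective).injective h1

/-- `k(x)^G ≃ k(x) ∩ k(x,y)^Γ`. -/
noncomputable def fixEquiv :
    ↥(IntermediateField.fixedField G) ≃ₐ[k] ↥(leftBase G H e hG hH) :=
  (IntermediateField.equivMap (IntermediateField.fixedField G)
    (renHom Sum.inl Sum.inl_injective)).trans
    (IntermediateField.equivOfEq (map_fixedField_eq G H e hG hH))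

end Intertwine

section NoName

/-- An intermediate field of `L/F`, viewed over a smaller field `k`, as a `k`-algebra. -/
noncomputable def restrictScalarsEquiv {k F L : Type*} [Field k] [Field F] [Field L] [Algebra k F]
    [Algebra k L] [Algebra F L] [IsScalarTower k F L] (E : IntermediateField F L) :
    ↥E ≃ₐ[k] ↥(E.restrictScalars k) where
  toFun x := ⟨x.1, x.2⟩
  invFun x := ⟨x.1, x.2⟩
  left_inv _ := rfl
  right_inv _ := rfl
  map_mul' _ _ := rfl
  map_add' _ _ := rfl
  commutes' _ := rfl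

variable {ι κ ν : Type*}
variable (G : Subgroup (InvFld.Fld ι k ≃ₐ[k] InvFld.Fld ι k))
variable (H : Subgroup (InvFld.Fld κ k ≃ₐ[k] InvFld.Fld κ k))
variable (e : G ≃* H)
variable (hG : ∀ σ ∈ G, IsLin σ) (hH : ∀ τ ∈ H, IsLin τ)

/-- From the conclusion of the no-name lemma for the diagonal group: the fixed field of the diagonal
group is a rational function field over `k(x)^G`. -/
theorem nonempty_equiv_of_noname (t : ν → InvFld.Fld (ι ⊕ κ) k)
    (ht : AlgebraicIndependent ↥(leftBase G H e hG hH) t)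
    (htop : IntermediateField.restrictScalars k
        (IntermediateField.adjoin ↥(leftBase G H e hG hH) (Set.range t)) =
      IntermediateField.fixedField (diag G H e hG hH)) :
    Nonempty (InvFld.Fld ν ↥(IntermediateField.fixedField G) ≃ₐ[k]
      ↥(IntermediateField.fixedField (diag G H e hG hH))) := by
  let c : InvFld.Fld ν ↥(IntermediateField.fixedField G) ≃ₐ[k]
      InvFld.Fld ν ↥(leftBase G H e hG hH) :=
    IsFractionRing.algEquivOfAlgEquiv (MvPolynomial.mapAlgEquiv ν (fixEquiv G H e hG hH))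
  let a₁ : InvFld.Fld ν ↥(leftBase G H e hG hH) ≃ₐ[↥(leftBase G H e hG hH)]
      ↥(IntermediateField.adjoin ↥(leftBase G H e hG hH) (Set.range t)) := ht.aevalEquivField
  let a₂ := restrictScalarsEquiv (k := k)
    (IntermediateField.adjoin ↥(leftBase G H e hG hH) (Set.range t))
  let a₃ := IntermediateField.equivOfEq htop
  exact ⟨c.trans ((a₁.restrictScalars k).trans (a₂.trans a₃))⟩

end NoName

section Swap

variable {ι κ : Type*}

/-- Swapping the two blocks of variables. -/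
noncomputable def sw : InvFld.Fld (ι ⊕ κ) k ≃ₐ[k] InvFld.Fld (κ ⊕ ι) k :=
  IsFractionRing.algEquivOfAlgEquiv (MvPolynomial.renameEquiv k (Equiv.sumComm ι κ))

theorem sw_algebraMap (r : MvPolynomial (ι ⊕ κ) k) :
    sw (algebraMap (MvPolynomial (ι ⊕ κ) k) (InvFld.Fld (ι ⊕ κ) k) r) =
      algebraMap (MvPolynomial (κ ⊕ ι) k) (InvFld.Fld (κ ⊕ ι) k)
        (rename (Equiv.sumComm ι κ) r) := by
  simp only [sw, IsFractionRing.algEquivOfAlgEquiv_algebraMap]
  rfl

theorem sw_X_inl (i : ι) :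
    sw (InvFld.X (Sum.inl i) : InvFld.Fld (ι ⊕ κ) k) = InvFld.X (Sum.inr i) := by
  show sw (algebraMap (MvPolynomial (ι ⊕ κ) k) (InvFld.Fld (ι ⊕ κ) k) (X (Sum.inl i))) = _
  rw [sw_algebraMap, rename_X]
  rfl

theorem sw_X_inr (j : κ) :
    sw (InvFld.X (Sum.inr j) : InvFld.Fld (ι ⊕ κ) k) = InvFld.X (Sum.inl j) := by
  show sw (algebraMap (MvPolynomial (ι ⊕ κ) k) (InvFld.Fld (ι ⊕ κ) k) (X (Sum.inr j))) = _
  rw [sw_algebraMap, rename_X]
  rfl

theorem pol_congr {σ τ : InvFld.Fld ι k ≃ₐ[k] InvFld.Fld ι k} (h : IsLin σ) (h' : IsLin τ)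
    (hστ : σ = τ) (i : ι) : pol h i = pol h' i := by
  subst hστ
  rfl

variable (G : Subgroup (InvFld.Fld ι k ≃ₐ[k] InvFld.Fld ι k))
variable (H : Subgroup (InvFld.Fld κ k ≃ₐ[k] InvFld.Fld κ k))
variable (e : G ≃* H)
variable (hG : ∀ σ ∈ G, IsLin σ) (hH : ∀ τ ∈ H, IsLin τ)

theorem sw_diagHom (σ : G) (y : InvFld.Fld (ι ⊕ κ) k) :
    sw (diagHom G H e hG hH σ y) = diagHom H G e.symm hH hG (e σ) (sw y) := by
  have : ((sw : InvFld.Fld (ι ⊕ κ) k ≃ₐ[k] InvFld.Fld (κ ⊕ ι) k) :
      InvFld.Fld (ι ⊕ κ) k →ₐ[k] InvFld.Fld (κ ⊕ ι) k).comp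
        ((diagHom G H e hG hH σ : InvFld.Fld (ι ⊕ κ) k ≃ₐ[k] InvFld.Fld (ι ⊕ κ) k) :
          InvFld.Fld (ι ⊕ κ) k →ₐ[k] InvFld.Fld (ι ⊕ κ) k) =
      ((diagHom H G e.symm hH hG (e σ) : InvFld.Fld (κ ⊕ ι) k ≃ₐ[k] InvFld.Fld (κ ⊕ ι) k) :
          InvFld.Fld (κ ⊕ ι) k →ₐ[k] InvFld.Fld (κ ⊕ ι) k).comp
        ((sw : InvFld.Fld (ι ⊕ κ) k ≃ₐ[k] InvFld.Fld (κ ⊕ ι) k) :
          InvFld.Fld (ι ⊕ κ) k →ₐ[k] InvFld.Fld (κ ⊕ ι) k) := by
    apply fld_algHom_ext
    rintro (i | j)
    · have hσ : ((e.symm (e σ) : G) : InvFld.Fld ι k ≃ₐ[k] InvFld.Fld ι k) = σ := by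
        rw [MulEquiv.symm_apply_apply]
      have h1 : sw (diagHom G H e hG hH σ (InvFld.X (Sum.inl i))) =
          algebraMap (MvPolynomial (κ ⊕ ι) k) (InvFld.Fld (κ ⊕ ι) k)
            (rename Sum.inr (pol (hG σ σ.2) i)) := by
        rw [diagHom_X_inl, sw_algebraMap, rename_rename]
        rfl
      have h2 : diagHom H G e.symm hH hG (e σ) (sw (InvFld.X (Sum.inl i))) =
          algebraMap (MvPolynomial (κ ⊕ ι) k) (InvFld.Fld (κ ⊕ ι) k)
            (rename Sum.inr (pol (hG σ σ.2) i)) := by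
        rw [sw_X_inl, diagHom_X_inr, pol_congr _ (hG σ σ.2) hσ i]
      show sw (diagHom G H e hG hH σ (InvFld.X (Sum.inl i))) =
        diagHom H G e.symm hH hG (e σ) (sw (InvFld.X (Sum.inl i)))
      rw [h1, h2]
    · have h1 : sw (diagHom G H e hG hH σ (InvFld.X (Sum.inr j))) =
          algebraMap (MvPolynomial (κ ⊕ ι) k) (InvFld.Fld (κ ⊕ ι) k)
            (rename Sum.inl (pol (hH (e σ) (e σ).2) j)) := by
        rw [diagHom_X_inr, sw_algebraMap, rename_rename]
        rfl
      have h2 : diagHom H G e.symm hH hG (e σ) (sw (InvFld.X (Sum.inr j))) =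
          algebraMap (MvPolynomial (κ ⊕ ι) k) (InvFld.Fld (κ ⊕ ι) k)
            (rename Sum.inl (pol (hH (e σ) (e σ).2) j)) := by
        rw [sw_X_inr, diagHom_X_inl]
      show sw (diagHom G H e hG hH σ (InvFld.X (Sum.inr j))) =
        diagHom H G e.symm hH hG (e σ) (sw (InvFld.X (Sum.inr j)))
      rw [h1, h2]
  exact DFunLike.congr_fun this y

theorem map_sw_fixedField :
    (IntermediateField.fixedField (diag G H e hG hH)).map
      ((sw : InvFld.Fld (ι ⊕ κ) k ≃ₐ[k] InvFld.Fld (κ ⊕ ι) k) :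
        InvFld.Fld (ι ⊕ κ) k →ₐ[k] InvFld.Fld (κ ⊕ ι) k) =
      IntermediateField.fixedField (diag H G e.symm hH hG) := by
  ext y'
  simp only [IntermediateField.mem_map, IntermediateField.mem_fixedField_iff, AlgEquiv.coe_toAlgHom]
  constructor
  · rintro ⟨y, hy, rfl⟩
    intro γ' hγ'
    obtain ⟨τ, rfl⟩ := (mem_diag H G e.symm hH hG γ').mp hγ'
    have h1 := sw_diagHom G H e hG hH (e.symm τ) y
    rw [MulEquiv.apply_symm_apply] at h1
    rw [← h1, hy _ ((mem_diag G H e hG hH _).mpr ⟨_, rfl⟩)]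
  · intro hy'
    refine ⟨sw.symm y', ?_, by simp⟩
    intro γ hγ
    obtain ⟨σ, rfl⟩ := (mem_diag G H e hG hH γ).mp hγ
    apply (sw : InvFld.Fld (ι ⊕ κ) k ≃ₐ[k] InvFld.Fld (κ ⊕ ι) k).injective
    rw [sw_diagHom, AlgEquiv.apply_symm_apply]
    exact hy' _ ((mem_diag H G e.symm hH hG _).mpr ⟨_, rfl⟩)

/-- The fixed fields of the two diagonal groups are isomorphic. -/
noncomputable def swapEquiv :
    ↥(IntermediateField.fixedField (diag G H e hG hH)) ≃ₐ[k]
      ↥(IntermediateField.fixedField (diag H G e.symm hH hG)) :=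
  (IntermediateField.equivMap (IntermediateField.fixedField (diag G H e hG hH))
    ((sw : InvFld.Fld (ι ⊕ κ) k ≃ₐ[k] InvFld.Fld (κ ⊕ ι) k) :
      InvFld.Fld (ι ⊕ κ) k →ₐ[k] InvFld.Fld (κ ⊕ ι) k)).trans
    (IntermediateField.equivOfEq (map_sw_fixedField G H e hG hH))

end Swap

end Groth.Agent.Lib.helper12.InvDiag
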