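import Mathlib

/-!
# Base change along a surjective ring map (helper12)

* `isBaseChange_of_bijective`: if `algebraMap R S` is surjective and `f : M →ₗ[R] N` is bijective
  (with `N` an `S`-module, tower), then `f` is a base change.
* consequences for projectivity / finiteness / `rankAtStalk`.
-/

universe u v w

namespace Groth.Agent.Lib.helper12.InvQuot

open TensorProduct

variable {R : Type u} {S : Type v} [CommRing R] [CommRing S] [Algebra R S]
variable {M : Type w} {N : Type w} [AddCommGroup M] [Module R M] [AddCommGroup N] [Module R N]
  [Module S N] [IsScalarTower R S N]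

theorem isBaseChange_of_bijective (hS : Function.Surjective (algebraMap R S)) (f : M →ₗ[R] N)
    (hf : Function.Bijective f) : IsBaseChange S f := by
  apply IsBaseChange.of_lift_unique
  intro Q _ _ _ _ g
  let e : M ≃ₗ[R] N := LinearEquiv.ofBijective f hf
  let g0 : N →ₗ[R] Q := g.comp e.symm.toLinearMap
  let g' : N →ₗ[S] Q :=
    { toFun := g0
      map_add' := g0.map_add
      map_smul' := fun s x => by
        obtain ⟨r, rfl⟩ := hS s
        simp only [RingHom.id_apply, algebraMap_smul]
        exact g0.map_smul r x }
  refine ⟨g', ?_, ?_⟩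
  · ext m
    change g (e.symm (f m)) = g m
    congr 1
    exact e.symm_apply_apply m
  · intro g'' hg''
    ext x
    obtain ⟨m, rfl⟩ := hf.2 x
    have := congrArg (fun t => t m) hg''
    change g'' (f m) = g m at this
    rw [this]
    change _ = g (e.symm (f m))
    congr 1
    exact (e.symm_apply_apply m).symm

theorem projective_of_bijective (hS : Function.Surjective (algebraMap R S)) (f : M →ₗ[R] N)
    (hf : Function.Bijective f) [Module.Projective R M] : Module.Projective S N :=
  Module.Projective.of_equiv' (isBaseChange_of_bijective hS f hf).equiv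

theorem finite_of_bijective (hS : Function.Surjective (algebraMap R S)) (f : M →ₗ[R] N)
    (hf : Function.Bijective f) [Module.Finite R M] : Module.Finite S N :=
  Module.Finite.equiv (isBaseChange_of_bijective hS f hf).equiv

theorem rankAtStalk_of_bijective (hS : Function.Surjective (algebraMap R S)) (f : M →ₗ[R] N)
    (hf : Function.Bijective f) [Module.Flat R M] [Module.Finite R M] (p : PrimeSpectrum S) :
    Module.rankAtStalk N p = Module.rankAtStalk M (p.comap (algebraMap R S)) :=
  Module.rankAtStalk_isBaseChange (isBaseChange_of_bijective hS f hf) p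

theorem projective_of_bijective' (hS : Function.Bijective (algebraMap R S)) (f : M →ₗ[R] N)
    (hf : Function.Bijective f) [Module.Projective S N] : Module.Projective R M := by
  let ρe : R ≃+* S := RingEquiv.ofBijective (algebraMap R S) hS
  let e : M ≃ₗ[R] N := LinearEquiv.ofBijective f hf
  letI : RingHomInvPair (ρe.symm : S →+* R) (ρe : R →+* S) := RingHomInvPair.of_ringEquiv ρe.symm
  letI : RingHomInvPair (ρe : R →+* S) (ρe.symm : S →+* R) := RingHomInvPair.of_ringEquiv ρe
  let e₂ : N ≃ₛₗ[(ρe.symm : S →+* R)] M :=
    { toFun := e.symm
      invFun := e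
      map_add' := e.symm.map_add
      map_smul' := fun s x => by
        obtain ⟨r, rfl⟩ := hS.2 s
        have h1 : (ρe.symm : S →+* R) (algebraMap R S r) = r := ρe.symm_apply_apply r
        rw [h1, algebraMap_smul]
        exact e.symm.map_smul r x
      left_inv := e.apply_symm_apply
      right_inv := e.symm_apply_apply }
  exact Module.Projective.of_equiv e₂

theorem exists_comap_eq (hS : Function.Bijective (algebraMap R S)) (p : PrimeSpectrum R) :
    ∃ p' : PrimeSpectrum S, p'.comap (algebraMap R S) = p := by
  let ρe : R ≃+* S := RingEquiv.ofBijective (algebraMap R S) hS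
  refine ⟨p.comap (ρe.symm : S →+* R), ?_⟩
  ext x
  change (ρe.symm : S →+* R) (algebraMap R S x) ∈ p.asIdeal ↔ x ∈ p.asIdeal
  have h1 : (ρe.symm : S →+* R) (algebraMap R S x) = x := ρe.symm_apply_apply x
  rw [h1]

end Groth.Agent.Lib.helper12.InvQuot
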