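import Mathlib
import Groth.Prelude.Def_W4c2brnrinvarInvFld
import Groth.Agent.Lib.Helper12.InvDiag

/-!
# The permutation action on a rational function field and symmetric functions

`P ≤ Aut k(x_1..x_n)` is the group of permutations of the variables; its fixed field is generated by
the elementary symmetric polynomials, which are algebraically independent.
-/

set_option autoImplicit false
set_option linter.style.haveILetI false
set_option linter.unusedSectionVars false

universe u

namespace Groth.Agent.Lib.helper12.InvSym

open MvPolynomial Groth.Agent.Lib.helper12.InvDiag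

variable (k : Type u) [Field k] (n : ℕ)

/-- Permutations acting on the polynomial ring. -/
noncomputable def permAlgHom :
    Equiv.Perm (Fin n) →* (MvPolynomial (Fin n) k ≃ₐ[k] MvPolynomial (Fin n) k) where
  toFun π := renameEquiv k π
  map_one' := by
    ext p : 1
    show rename (⇑(1 : Equiv.Perm (Fin n))) p = p
    simp
  map_mul' π π' := by
    ext p : 1
    show rename (⇑(π * π')) p = rename π (rename π' p)
    rw [rename_rename]
    rfl

/-- Permutations acting on the rational function field. -/
noncomputable def permHom :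
    Equiv.Perm (Fin n) →* (InvFld.Fld (Fin n) k ≃ₐ[k] InvFld.Fld (Fin n) k) :=
  (IsFractionRing.fieldEquivOfAlgEquivHom k (InvFld.Fld (Fin n) k)).comp (permAlgHom k n)

theorem permHom_algebraMap (π : Equiv.Perm (Fin n)) (r : MvPolynomial (Fin n) k) :
    permHom k n π (algebraMap (MvPolynomial (Fin n) k) (InvFld.Fld (Fin n) k) r) =
      algebraMap (MvPolynomial (Fin n) k) (InvFld.Fld (Fin n) k) (rename π r) := by
  simp only [permHom, MonoidHom.comp_apply, IsFractionRing.fieldEquivOfAlgEquivHom_apply,
    IsFractionRing.fieldEquivOfAlgEquiv_algebraMap]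
  rfl

theorem permHom_X (π : Equiv.Perm (Fin n)) (i : Fin n) :
    permHom k n π (InvFld.X i) = InvFld.X (π i) := by
  show permHom k n π (algebraMap (MvPolynomial (Fin n) k) (InvFld.Fld (Fin n) k) (X i)) = _
  rw [permHom_algebraMap, rename_X]

theorem permHom_injective : Function.Injective (permHom k n) := by
  rw [injective_iff_map_eq_one]
  intro π hπ
  ext i : 1
  have h1 := permHom_X k n π i
  rw [hπ] at h1
  have h2 : (X (π i) : MvPolynomial (Fin n) k) = X i := by
    apply IsFractionRing.injective (MvPolynomial (Fin n) k) (InvFld.Fld (Fin n) k)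
    exact h1.symm
  have h3 := X_injective h2
  rw [h3]
  rfl

/-- The group of permutations of the variables. -/
noncomputable def permGroup : Subgroup (InvFld.Fld (Fin n) k ≃ₐ[k] InvFld.Fld (Fin n) k) :=
  (permHom k n).range

instance permGroup_finite : Finite (permGroup k n) :=
  Finite.of_surjective (permHom k n).rangeRestrict (permHom k n).rangeRestrict_surjective

/-- `S_n ≃ P`. -/
noncomputable def permEquiv : Equiv.Perm (Fin n) ≃* permGroup k n :=
  MonoidHom.ofInjective (permHom_injective k n)

theorem permGroup_isLin : ∀ σ ∈ permGroup k n, IsLin σ := by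
  rintro _ ⟨π, rfl⟩ i
  rw [permHom_X]
  exact Submodule.subset_span ⟨π i, rfl⟩

theorem mem_fixedField_permGroup (f : InvFld.Fld (Fin n) k) :
    f ∈ IntermediateField.fixedField (permGroup k n) ↔ ∀ π, permHom k n π f = f := by
  rw [IntermediateField.mem_fixedField_iff]
  constructor
  · intro h π
    exact h _ ⟨π, rfl⟩
  · rintro h _ ⟨π, rfl⟩
    exact h π

/-- The elementary symmetric functions in the rational function field. -/
noncomputable def eps (i : Fin n) : InvFld.Fld (Fin n) k :=
  algebraMap (MvPolynomial (Fin n) k) (InvFld.Fld (Fin n) k) (esymm (Fin n) k (i + 1))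

theorem eps_mem (i : Fin n) : eps k n i ∈ IntermediateField.fixedField (permGroup k n) := by
  rw [mem_fixedField_permGroup]
  intro π
  rw [eps, permHom_algebraMap, rename_esymm]

theorem algebraicIndependent_eps : AlgebraicIndependent k (eps k n) := by
  have h1 : AlgebraicIndependent k (fun i : Fin n => esymm (Fin n) k (i + 1)) := by
    rw [algebraicIndependent_iff_injective_aeval]
    intro p q hpq
    apply esymmAlgHom_fin_injective k (le_refl n)
    apply Subtype.ext
    rw [esymmAlgHom_apply, esymmAlgHom_apply]
    exact hpq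
  exact h1.map' (f := IsScalarTower.toAlgHom k (MvPolynomial (Fin n) k) (InvFld.Fld (Fin n) k))
    (IsFractionRing.injective (MvPolynomial (Fin n) k) (InvFld.Fld (Fin n) k))

theorem algebraMap_mem_of_isSymmetric (a : MvPolynomial (Fin n) k) (ha : a.IsSymmetric) :
    algebraMap (MvPolynomial (Fin n) k) (InvFld.Fld (Fin n) k) a ∈
      IntermediateField.adjoin k (Set.range (eps k n)) := by
  obtain ⟨q, hq⟩ := (esymmAlgHom_fin_bijective k n).2 ⟨a, ha⟩
  have h1 : aeval (fun i : Fin n => esymm (Fin n) k (i + 1)) q = a := by
    rw [← esymmAlgHom_apply, hq]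
  have h2 : algebraMap (MvPolynomial (Fin n) k) (InvFld.Fld (Fin n) k) a = aeval (eps k n) q := by
    rw [← h1, ← aeval_algebraMap_apply]
    rfl
  rw [h2]
  have : aeval (eps k n) q ∈ Algebra.adjoin k (Set.range (eps k n)) := by
    rw [Algebra.adjoin_range_eq_range_aeval]
    exact ⟨q, rfl⟩
  exact IntermediateField.algebra_adjoin_le_adjoin k _ this

theorem fixedField_permGroup :
    IntermediateField.fixedField (permGroup k n) =
      IntermediateField.adjoin k (Set.range (eps k n)) := by
  classical
  apply le_antisymm
  · intro f hf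
    rw [mem_fixedField_permGroup] at hf
    obtain ⟨a, b, hb, rfl⟩ := IsFractionRing.div_surjective (A := MvPolynomial (Fin n) k) f
    have hb0 : b ≠ 0 := nonZeroDivisors.ne_zero hb
    set b' : MvPolynomial (Fin n) k := ∏ π : Equiv.Perm (Fin n), rename π b with hb'
    set c : MvPolynomial (Fin n) k :=
      ∏ π ∈ Finset.univ.erase (1 : Equiv.Perm (Fin n)), rename π b with hc
    have hb'c : b' = b * c := by
      rw [hb', hc, ← Finset.mul_prod_erase Finset.univ _ (Finset.mem_univ (1 : Equiv.Perm (Fin n)))]
      simp
    have hb'sym : b'.IsSymmetric := by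
      intro τ
      rw [hb', map_prod]
      refine Fintype.prod_equiv (Equiv.mulLeft τ) _ _ fun π => ?_
      rw [rename_rename]
      rfl
    have hb'0 : b' ≠ 0 := by
      rw [hb']
      refine Finset.prod_ne_zero_iff.mpr fun π _ => ?_
      intro h
      apply hb0
      apply rename_injective π π.injective
      rw [h, map_zero]
    have hmapb0 : algebraMap (MvPolynomial (Fin n) k) (InvFld.Fld (Fin n) k) b ≠ 0 := by
      intro h
      exact hb0 ((IsFractionRing.to_map_eq_zero_iff).mp h)
    have hmapb'0 : algebraMap (MvPolynomial (Fin n) k) (InvFld.Fld (Fin n) k) b' ≠ 0 := by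
      intro h
      exact hb'0 ((IsFractionRing.to_map_eq_zero_iff).mp h)
    have hfa : algebraMap (MvPolynomial (Fin n) k) (InvFld.Fld (Fin n) k) a /
        algebraMap (MvPolynomial (Fin n) k) (InvFld.Fld (Fin n) k) b =
        algebraMap (MvPolynomial (Fin n) k) (InvFld.Fld (Fin n) k) (a * c) /
        algebraMap (MvPolynomial (Fin n) k) (InvFld.Fld (Fin n) k) b' := by
      rw [div_eq_div_iff hmapb0 hmapb'0, hb'c, map_mul, map_mul]
      ring
    have hacsym : (a * c).IsSymmetric := by
      intro τ
      apply IsFractionRing.injective (MvPolynomial (Fin n) k) (InvFld.Fld (Fin n) k)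
      have h1 : algebraMap (MvPolynomial (Fin n) k) (InvFld.Fld (Fin n) k) (a * c) =
          (algebraMap (MvPolynomial (Fin n) k) (InvFld.Fld (Fin n) k) a /
            algebraMap (MvPolynomial (Fin n) k) (InvFld.Fld (Fin n) k) b) *
          algebraMap (MvPolynomial (Fin n) k) (InvFld.Fld (Fin n) k) b' := by
        rw [hfa]
        field_simp
      rw [← permHom_algebraMap, h1, map_mul, hf τ, permHom_algebraMap, hb'sym τ]
    rw [hfa]
    exact div_mem (algebraMap_mem_of_isSymmetric k n _ hacsym)
      (algebraMap_mem_of_isSymmetric k n _ hb'sym)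
  · rw [IntermediateField.adjoin_le_iff]
    rintro _ ⟨i, rfl⟩
    exact eps_mem k n i

section Pure

variable {k}

/-- A rational function field over a purely transcendental extension of `k` is purely
transcendental over `k`. -/
theorem pure_fld {F : Type*} [Field F] [Algebra k F] {ι₁ ν : Type*} (ε : ι₁ → F)
    (hε : AlgebraicIndependent k ε) (hεtop : IntermediateField.adjoin k (Set.range ε) = ⊤) :
    ∃ u : ν ⊕ ι₁ → InvFld.Fld ν F, AlgebraicIndependent k u ∧
      IntermediateField.adjoin k (Set.range u) = ⊤ := by
  have hX : AlgebraicIndependent F (fun j : ν => (InvFld.X j : InvFld.Fld ν F)) :=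
    (MvPolynomial.algebraicIndependent_X ν F).map'
      (f := IsScalarTower.toAlgHom F (MvPolynomial ν F) (InvFld.Fld ν F))
      (IsFractionRing.injective (MvPolynomial ν F) (InvFld.Fld ν F))
  refine ⟨Sum.elim (fun j : ν => (InvFld.X j : InvFld.Fld ν F))
    (algebraMap F (InvFld.Fld ν F) ∘ ε), hε.sumElim_comp hX, ?_⟩
  set L := IntermediateField.adjoin k (Set.range (Sum.elim (fun j : ν => (InvFld.X j : InvFld.Fld ν F))
    (algebraMap F (InvFld.Fld ν F) ∘ ε))) with hL
  have hF : ∀ a : F, algebraMap F (InvFld.Fld ν F) a ∈ L := by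
    have hle : IntermediateField.adjoin k (Set.range ε) ≤
        L.comap (IsScalarTower.toAlgHom k F (InvFld.Fld ν F)) := by
      rw [IntermediateField.adjoin_le_iff]
      rintro _ ⟨i, rfl⟩
      show algebraMap F (InvFld.Fld ν F) (ε i) ∈ L
      exact IntermediateField.subset_adjoin _ _ ⟨Sum.inr i, rfl⟩
    rw [hεtop] at hle
    intro a
    exact hle (IntermediateField.mem_top (x := a))
  have hpoly : ∀ p : MvPolynomial ν F, algebraMap (MvPolynomial ν F) (InvFld.Fld ν F) p ∈ L := by
    intro p
    induction p using MvPolynomial.induction_on with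
    | C a =>
      rw [← MvPolynomial.algebraMap_eq, ← IsScalarTower.algebraMap_apply]
      exact hF a
    | add p q hp hq => rw [map_add]; exact add_mem hp hq
    | mul_X p i hp =>
      rw [map_mul]
      exact mul_mem hp (IntermediateField.subset_adjoin _ _ ⟨Sum.inl i, rfl⟩)
  rw [eq_top_iff]
  intro f _
  obtain ⟨p, q, _, rfl⟩ := IsFractionRing.div_surjective (A := MvPolynomial ν F) f
  exact div_mem (hpoly p) (hpoly q)

/-- Transport of pure transcendence along an isomorphism, with a `Fin N` indexing. -/
theorem pure_transport {A B : Type*} [Field A] [Field B] [Algebra k A] [Algebra k B]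
    (E : A ≃ₐ[k] B) {ι₂ : Type*} [Fintype ι₂] (u : ι₂ → B) (hu : AlgebraicIndependent k u)
    (hutop : IntermediateField.adjoin k (Set.range u) = ⊤) :
    ∃ (N : ℕ) (t : Fin N → A), AlgebraicIndependent k t ∧
      IntermediateField.adjoin k (Set.range t) = ⊤ := by
  classical
  let eN : Fin (Fintype.card ι₂) ≃ ι₂ := (Fintype.equivFin ι₂).symm
  refine ⟨Fintype.card ι₂, fun j => E.symm (u (eN j)), ?_, ?_⟩
  · have h1 : AlgebraicIndependent k (fun i => E.symm (u i)) :=
      hu.map' (f := (E.symm : B →ₐ[k] A)) E.symm.injective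
    exact h1.comp eN eN.injective
  · have hrange : Set.range (fun j => E.symm (u (eN j))) = (E.symm : B →ₐ[k] A) '' Set.range u := by
      ext a
      constructor
      · rintro ⟨j, rfl⟩
        exact ⟨u (eN j), ⟨eN j, rfl⟩, rfl⟩
      · rintro ⟨_, ⟨i, rfl⟩, rfl⟩
        exact ⟨eN.symm i, by simp⟩
    rw [hrange, ← IntermediateField.adjoin_map, hutop, ← AlgHom.fieldRange_eq_map]
    rw [eq_top_iff]
    intro a _
    exact ⟨E a, by simp⟩

end Pure

end Groth.Agent.Lib.helper12.InvSym
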