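import Mathlib
import Groth.Prelude.Def_W4c2brnrinvarInvFld
import Groth.Agent.Lib.Helper12.InvDiag
import Groth.Agent.Lib.Helper12.InvSym

/-!
# Stable equivalence of invariant fields from the no-name lemma
-/

set_option autoImplicit false
set_option linter.style.haveILetI false
set_option linter.unusedSectionVars false

universe u

namespace Groth.Agent.Lib.helper12.InvStable

open MvPolynomial Groth.Agent.Lib.helper12.InvDiag Groth.Agent.Lib.helper12.InvSym

/-- The statement of the no-name lemma (S15697) over a fixed field `k`. -/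
def NoNameStmt (k : Type u) [Field k] : Prop :=
  ∀ (n m : ℕ)
    (G : Subgroup (InvFld.Fld (Fin n ⊕ Fin m) k ≃ₐ[k] InvFld.Fld (Fin n ⊕ Fin m) k)) [Finite G]
    (_ : ∀ σ ∈ G, ∀ i : Fin n, σ (InvFld.X (Sum.inl i)) ∈ Submodule.span k (Set.range fun j : Fin n => (InvFld.X (Sum.inl j) : InvFld.Fld (Fin n ⊕ Fin m) k)))
    (_ : ∀ σ ∈ G, ∀ i : Fin m, σ (InvFld.X (Sum.inr i)) ∈ Submodule.span k (Set.range fun j : Fin m => (InvFld.X (Sum.inr j) : InvFld.Fld (Fin n ⊕ Fin m) k)))
    (_ : ∀ σ ∈ G, (∀ i : Fin n, σ (InvFld.X (Sum.inl i)) = InvFld.X (Sum.inl i)) → σ = 1),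
    ∃ t : Fin m → InvFld.Fld (Fin n ⊕ Fin m) k,
      AlgebraicIndependent (↥(IntermediateField.adjoin k (Set.range fun j : Fin n => (InvFld.X (Sum.inl j) : InvFld.Fld (Fin n ⊕ Fin m) k)) ⊓ IntermediateField.fixedField G)) t ∧
      IntermediateField.restrictScalars k (IntermediateField.adjoin (↥(IntermediateField.adjoin k (Set.range fun j : Fin n => (InvFld.X (Sum.inl j) : InvFld.Fld (Fin n ⊕ Fin m) k)) ⊓ IntermediateField.fixedField G)) (Set.range t)) =
        IntermediateField.fixedField G

variable {k : Type u} [Field k]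

/-- Stable equivalence of the invariant fields of two faithful linear representations. -/
theorem stable_equiv (hNN : NoNameStmt k) (n m : ℕ)
    (G : Subgroup (InvFld.Fld (Fin n) k ≃ₐ[k] InvFld.Fld (Fin n) k)) [Finite G]
    (H : Subgroup (InvFld.Fld (Fin m) k ≃ₐ[k] InvFld.Fld (Fin m) k)) [Finite H] (e : G ≃* H)
    (hG : ∀ σ ∈ G, IsLin σ) (hH : ∀ τ ∈ H, IsLin τ) :
    Nonempty (InvFld.Fld (Fin m) (IntermediateField.fixedField G) ≃ₐ[k]
      InvFld.Fld (Fin n) (IntermediateField.fixedField H)) := by
  obtain ⟨t, ht, htop⟩ := hNN n m (diag G H e hG hH) (diag_hx G H e hG hH) (diag_hy G H e hG hH)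
    (diag_hfaith G H e hG hH)
  obtain ⟨E1⟩ := nonempty_equiv_of_noname G H e hG hH t ht htop
  obtain ⟨t', ht', htop'⟩ := hNN m n (diag H G e.symm hH hG) (diag_hx H G e.symm hH hG)
    (diag_hy H G e.symm hH hG) (diag_hfaith H G e.symm hH hG)
  obtain ⟨E2⟩ := nonempty_equiv_of_noname H G e.symm hH hG t' ht' htop'
  exact ⟨E1.trans ((swapEquiv G H e hG hH).trans E2.symm)⟩

/-- The invariant field of a faithful linear representation of `S_n` is stably pure. -/
theorem stablyPure_of_perm (hNN : NoNameStmt k) (n m : ℕ)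
    (G : Subgroup (InvFld.Fld (Fin m) k ≃ₐ[k] InvFld.Fld (Fin m) k)) [Finite G]
    (e : G ≃* Equiv.Perm (Fin n)) (hG : ∀ σ ∈ G, IsLin σ) :
    ∃ (r N : ℕ) (t : Fin N → InvFld.Fld (Fin r) (IntermediateField.fixedField G)),
      AlgebraicIndependent k t ∧ IntermediateField.adjoin k (Set.range t) = ⊤ := by
  let e' : G ≃* permGroup k n := e.trans (permEquiv k n)
  obtain ⟨E⟩ := stable_equiv hNN m n G (permGroup k n) e' hG (permGroup_isLin k n)
  let ε' : Fin n → ↥(IntermediateField.fixedField (permGroup k n)) :=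
    fun i => ⟨eps k n i, eps_mem k n i⟩
  have hε' : AlgebraicIndependent k ε' := by
    apply AlgebraicIndependent.of_comp (IntermediateField.fixedField (permGroup k n)).val
    exact algebraicIndependent_eps k n
  have hε'top : IntermediateField.adjoin k (Set.range ε') = ⊤ := by
    have hmap : (IntermediateField.adjoin k (Set.range ε')).map
        (IntermediateField.fixedField (permGroup k n)).val =
        IntermediateField.fixedField (permGroup k n) := by
      rw [IntermediateField.adjoin_map, ← Set.range_comp]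
      exact (fixedField_permGroup k n).symm
    rw [eq_top_iff]
    intro y _
    have hy : (y : InvFld.Fld (Fin n) k) ∈ (IntermediateField.adjoin k (Set.range ε')).map
        (IntermediateField.fixedField (permGroup k n)).val := by
      rw [hmap]
      exact y.2
    obtain ⟨y', hy', hyy'⟩ := hy
    have : y' = y := Subtype.ext hyy'
    rw [← this]
    exact hy'
  obtain ⟨u, hu, hutop⟩ := pure_fld (ν := Fin m) ε' hε' hε'top
  obtain ⟨N, t, ht, httop⟩ := pure_transport E u hu hutop
  exact ⟨n, N, t, ht, httop⟩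

end Groth.Agent.Lib.helper12.InvStable
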