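import Mathlib
import Groth.Agent.Lib.Helper12.JointProper

/-!
# Quasi-separatedness from a jointly surjective pair (helper12)
-/

set_option autoImplicit false
universe u
open CategoryTheory AlgebraicGeometry Limits

namespace Groth.Agent.Lib.Helper12.JointProper

variable {X Y P S : Scheme.{u}} (a : X ⟶ P) (b : Y ⟶ P) (π : P ⟶ S)

theorem quasiCompact_sq [QuasiCompact a] : QuasiCompact (sq a π) :=
  MorphismProperty.pullbackMap (P := @QuasiCompact) (f := a ≫ π) (g := a ≫ π) (f' := π)
    (g' := π) (i₁ := a) (i₂ := a) ‹_› ‹_› rfl rfl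

theorem quasiSeparated_of_joint
    (hs : ∀ x : P, (∃ x' : X, a.base x' = x) ∨ (∃ y : Y, b.base y = x))
    [QuasiCompact a] [QuasiCompact b]
    [QuasiSeparated (a ≫ π)] [QuasiSeparated (b ≫ π)] : QuasiSeparated π := by
  refine ⟨?_⟩
  rw [quasiCompact_iff_forall_isAffineOpen]
  intro O hO
  have := quasiCompact_sq a π
  have := quasiCompact_sq b π
  have h1 : IsCompact ((pullback.diagonal (a ≫ π) ≫ sq a π) ⁻¹ᵁ O : Set X) :=
    (quasiCompact_iff_forall_isAffineOpen (f := pullback.diagonal (a ≫ π) ≫ sq a π)).mp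
      inferInstance O hO
  have h2 : IsCompact ((pullback.diagonal (b ≫ π) ≫ sq b π) ⁻¹ᵁ O : Set Y) :=
    (quasiCompact_iff_forall_isAffineOpen (f := pullback.diagonal (b ≫ π) ≫ sq b π)).mp
      inferInstance O hO
  have e : (pullback.diagonal π ⁻¹ᵁ O : Set P) =
      a.base '' ((pullback.diagonal (a ≫ π) ≫ sq a π) ⁻¹ᵁ O : Set X) ∪
        b.base '' ((pullback.diagonal (b ≫ π) ≫ sq b π) ⁻¹ᵁ O : Set Y) := by
    ext x
    constructor
    · intro hx
      rcases hs x with ⟨x', rfl⟩ | ⟨y, rfl⟩
      · left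
        refine ⟨x', ?_, rfl⟩
        change (pullback.diagonal (a ≫ π) ≫ sq a π).base x' ∈ O
        rw [diagonal_sq, Scheme.Hom.comp_apply]; exact hx
      · right
        refine ⟨y, ?_, rfl⟩
        change (pullback.diagonal (b ≫ π) ≫ sq b π).base y ∈ O
        rw [diagonal_sq, Scheme.Hom.comp_apply]; exact hx
    · rintro (⟨x', hx', rfl⟩ | ⟨y, hy, rfl⟩)
      · change (pullback.diagonal π).base (a.base x') ∈ O
        rw [← Scheme.Hom.comp_apply, ← diagonal_sq]; exact hx'
      · change (pullback.diagonal π).base (b.base y) ∈ O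
        rw [← Scheme.Hom.comp_apply, ← diagonal_sq]; exact hy
  rw [e]
  exact (h1.image a.continuous).union (h2.image b.continuous)

end Groth.Agent.Lib.Helper12.JointProper
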