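import Mathlib

/-!
# Three-dimensional Lie algebras in coordinates (helper12)

`lie_eq`: the bracket of two elements of a Lie algebra with a basis indexed by `Fin 3`, in
coordinates.  `map_lie_of_basis`: a linear map preserving brackets of basis vectors preserves all
brackets.
-/

set_option autoImplicit false
universe u v w

namespace Groth.Agent.Lib.Helper12.Lie3

variable {K : Type u} [CommRing K] {M : Type v} [LieRing M] [LieAlgebra K M]

theorem lie_eq (c : Module.Basis (Fin 3) K M) (a b : M) :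
    ⁅a, b⁆ = (c.repr a 0 * c.repr b 1 - c.repr a 1 * c.repr b 0) • ⁅c 0, c 1⁆ +
      (c.repr a 0 * c.repr b 2 - c.repr a 2 * c.repr b 0) • ⁅c 0, c 2⁆ +
      (c.repr a 1 * c.repr b 2 - c.repr a 2 * c.repr b 1) • ⁅c 1, c 2⁆ := by
  conv_lhs => rw [← c.sum_repr a, ← c.sum_repr b]
  simp only [Fin.sum_univ_three, add_lie, lie_add, smul_lie, lie_smul, lie_self, smul_zero,
    add_zero, zero_add]
  rw [← lie_skew (c 0) (c 1), ← lie_skew (c 0) (c 2), ← lie_skew (c 1) (c 2)]
  module

variable {M' : Type w} [LieRing M'] [LieAlgebra K M']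

theorem map_lie_of_basis {ι : Type*} (c : Module.Basis ι K M) (f : M →ₗ[K] M')
    (h : ∀ i j, f ⁅c i, c j⁆ = ⁅f (c i), f (c j)⁆) (a b : M) : f ⁅a, b⁆ = ⁅f a, f b⁆ := by
  have key : (LieModule.toEnd K M M : M →ₗ[K] Module.End K M).compr₂ f =
      ((LieModule.toEnd K M' M' : M' →ₗ[K] Module.End K M').compl₁₂ f f) := by
    refine c.ext fun i => c.ext fun j => ?_
    simpa using h i j
  have := congrArg (fun B : M →ₗ[K] M →ₗ[K] M' => B a b) key
  simpa using this

end Groth.Agent.Lib.Helper12.Lie3
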