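import Mathlib
import Groth.Prelude.Def_LieS
import Groth.Agent.Lib.Helper12.QuotDesc

/-!
# Condition (E) for dual numbers (uniqueness half) and additivity of the rescaling action (helper12)

* `epi_specMap`: `Spec.map φ` is an epimorphism of schemes when `φ` is injective and admits `σ` with
  `σ ∘ φ` surjective with nil kernel.
* `R2 B = B[ε₁,ε₂]/(ε₁,ε₂)²`; `jointEpi`: maps out of `Spec (R2 B)` are determined by their two
  restrictions to `Spec B[ε]`.
* `key`: for a monoid object `X` over `S` and `w : I_T ⟶ X` restricting to the unit on the zero section,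
  `(b • w) * (c • w) = (b + c) • w`.
-/

set_option autoImplicit false
universe u
open CategoryTheory MonObj AlgebraicGeometry Limits

namespace Groth.Agent.Lib.Helper12.LieE

theorem epi_specMap {R A C : CommRingCat.{u}} (φ : R ⟶ A)
    (hφ : Function.Injective φ.hom) (σ : A ⟶ C)
    (hs : Function.Surjective (φ ≫ σ).hom) (hk : RingHom.ker (φ ≫ σ).hom ≤ nilradical R)
    {Z : Scheme.{u}} (k₁ k₂ : Spec R ⟶ Z)
    (hk12 : Spec.map φ ≫ k₁ = Spec.map φ ≫ k₂) :
    k₁ = k₂ := by
  have hhomeo : IsHomeomorph (PrimeSpectrum.comap (φ ≫ σ).hom) :=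
    PrimeSpectrum.isHomeomorph_comap _ (fun x => ⟨1, Nat.one_pos, by
      obtain ⟨y, hy⟩ := hs x
      exact ⟨y, by rw [pow_one]; exact hy⟩⟩) hk
  have h1 : Topology.IsQuotientMap (Spec.map φ).base := by
    refine Topology.IsQuotientMap.of_comp (f := PrimeSpectrum.comap σ.hom)
      (PrimeSpectrum.continuous_comap σ.hom) (PrimeSpectrum.continuous_comap φ.hom) ?_
    exact hhomeo.isQuotientMap
  have hdom : IsSchemeTheoreticallyDominant (Spec.map φ) := by
    rw [isSchemeTheoreticallyDominant_iff, Scheme.ker_of_isAffine]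
    have : RingHom.ker (Spec.map φ).appTop.hom = ⊥ := by
      rw [← RingHom.injective_iff_ker_eq_bot]
      intro a b hab
      have nat := fun c => congrArg (fun k => k.hom c)
        (Scheme.ΓSpecIso_naturality φ)
      have e1 : φ.hom ((Scheme.ΓSpecIso R).hom a) =
          φ.hom ((Scheme.ΓSpecIso R).hom b) := by
        have ha := nat a
        have hb := nat b
        simp only [CommRingCat.hom_comp, RingHom.coe_comp, Function.comp_apply] at ha hb
        rw [← ha, ← hb]
        exact congrArg _ hab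
      have e2 := hφ e1
      exact (ConcreteCategory.bijective_of_isIso (Scheme.ΓSpecIso R).hom).1 e2
    rw [this]
    exact map_bot (Scheme.IdealSheafData.equivOfIsAffine (X := Spec R)).symm
  exact QuotDesc.Sch.uniq _ h1 (fun V => Scheme.Hom.app_injective _ V) k₁ k₂ hk12

section Rings

variable (B : Type u) [CommRing B]

/-- `B[ε₁,ε₂]/(ε₁,ε₂)²`. -/
abbrev R2 : Type u := TrivSqZeroExt B (B × B)

/-- ε ↦ ε₁ -/
noncomputable def incl₁ : DualNumber B →ₐ[B] R2 B := TrivSqZeroExt.map (LinearMap.inl B B B)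
/-- ε ↦ ε₂ -/
noncomputable def incl₂ : DualNumber B →ₐ[B] R2 B := TrivSqZeroExt.map (LinearMap.inr B B B)
/-- ε₁ ↦ ε, ε₂ ↦ 0 -/
noncomputable def res₁ : R2 B →ₐ[B] DualNumber B := TrivSqZeroExt.map (LinearMap.fst B B B)
/-- ε₁ ↦ 0, ε₂ ↦ ε -/
noncomputable def res₂ : R2 B →ₐ[B] DualNumber B := TrivSqZeroExt.map (LinearMap.snd B B B)
/-- ε₁, ε₂ ↦ ε -/
noncomputable def diag : R2 B →ₐ[B] DualNumber B :=
  TrivSqZeroExt.map (LinearMap.coprod LinearMap.id LinearMap.id)
variable {B} in
/-- ε ↦ bε₁ + cε₂ -/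
noncomputable def lin (b c : B) : DualNumber B →ₐ[B] R2 B :=
  TrivSqZeroExt.map (LinearMap.prod (b • LinearMap.id) (c • LinearMap.id))
variable {B} in
/-- ε ↦ bε -/
noncomputable def sc (b : B) : DualNumber B →ₐ[B] DualNumber B :=
  TrivSqZeroExt.map (b • LinearMap.id)
/-- ε ↦ 0 -/
noncomputable def zr : DualNumber B →ₐ[B] DualNumber B :=
  TrivSqZeroExt.map (0 : B →ₗ[B] B)

theorem res₁_incl₁ : (res₁ B).comp (incl₁ B) = AlgHom.id B _ := by
  rw [res₁, incl₁, ← TrivSqZeroExt.map_comp_map, LinearMap.fst_comp_inl, TrivSqZeroExt.map_id]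
theorem res₂_incl₂ : (res₂ B).comp (incl₂ B) = AlgHom.id B _ := by
  rw [res₂, incl₂, ← TrivSqZeroExt.map_comp_map, LinearMap.snd_comp_inr, TrivSqZeroExt.map_id]
theorem res₁_incl₂ : (res₁ B).comp (incl₂ B) = zr B := by
  rw [res₁, incl₂, ← TrivSqZeroExt.map_comp_map, LinearMap.fst_comp_inr, zr]
theorem res₂_incl₁ : (res₂ B).comp (incl₁ B) = zr B := by
  rw [res₂, incl₁, ← TrivSqZeroExt.map_comp_map, LinearMap.snd_comp_inl, zr]
theorem diag_incl₁ : (diag B).comp (incl₁ B) = AlgHom.id B _ := by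
  rw [diag, incl₁, ← TrivSqZeroExt.map_comp_map, LinearMap.coprod_inl, TrivSqZeroExt.map_id]
theorem diag_incl₂ : (diag B).comp (incl₂ B) = AlgHom.id B _ := by
  rw [diag, incl₂, ← TrivSqZeroExt.map_comp_map, LinearMap.coprod_inr, TrivSqZeroExt.map_id]
variable {B} in
theorem res₁_lin (b c : B) : (res₁ B).comp (lin b c) = sc b := by
  rw [res₁, lin, ← TrivSqZeroExt.map_comp_map, LinearMap.fst_prod, sc]
variable {B} in
theorem res₂_lin (b c : B) : (res₂ B).comp (lin b c) = sc c := by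
  rw [res₂, lin, ← TrivSqZeroExt.map_comp_map, LinearMap.snd_prod, sc]
variable {B} in
theorem diag_lin (b c : B) : (diag B).comp (lin b c) = sc (b + c) := by
  rw [diag, lin, ← TrivSqZeroExt.map_comp_map, sc]
  congr 1
  ext
  simp

variable {B} in
theorem sc_toRingHom (b : B) : (sc b).toRingHom = LieS.scaleHom b := by
  refine RingHom.ext fun x => ?_
  apply TrivSqZeroExt.ext
  · simp [sc, LieS.scaleHom, TrivSqZeroExt.algebraMap_eq_inl']
  · simp [sc, LieS.scaleHom, TrivSqZeroExt.algebraMap_eq_inl', mul_comm]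

variable {B} in
theorem zr_sc (c : B) : (zr B).comp (sc c) = zr B := by
  rw [zr, sc, ← TrivSqZeroExt.map_comp_map, LinearMap.zero_comp]

theorem zr_toRingHom : (zr B).toRingHom =
    (algebraMap B (DualNumber B)).comp (TrivSqZeroExt.fstHom B B B).toRingHom := by
  refine RingHom.ext fun x => ?_
  apply TrivSqZeroExt.ext
  · simp [zr, TrivSqZeroExt.algebraMap_eq_inl']
  · simp [zr, TrivSqZeroExt.algebraMap_eq_inl']

end Rings

section JointEpi

variable (B : Type u) [CommRing B]

/-- Maps out of `Spec (R2 B)` are determined by their restrictions along the two embeddings of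
`Spec B[ε]`. -/
theorem jointEpi {Z : Scheme.{u}} (k₁ k₂ : Spec (CommRingCat.of (R2 B)) ⟶ Z)
    (h₁ : Spec.map (CommRingCat.ofHom (res₁ B).toRingHom) ≫ k₁ =
      Spec.map (CommRingCat.ofHom (res₁ B).toRingHom) ≫ k₂)
    (h₂ : Spec.map (CommRingCat.ofHom (res₂ B).toRingHom) ≫ k₁ =
      Spec.map (CommRingCat.ofHom (res₂ B).toRingHom) ≫ k₂) : k₁ = k₂ := by
  let φ : R2 B →+* DualNumber B × DualNumber B := (res₁ B).toRingHom.prod (res₂ B).toRingHom
  let σ : DualNumber B × DualNumber B →+* B :=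
    (TrivSqZeroExt.fstHom B B B).toRingHom.comp (RingHom.fst _ _)
  let φ' : CommRingCat.of (R2 B) ⟶ CommRingCat.of (DualNumber B × DualNumber B) :=
    CommRingCat.ofHom φ
  let σ' : CommRingCat.of (DualNumber B × DualNumber B) ⟶ CommRingCat.of B := CommRingCat.ofHom σ
  have hσφ : (φ' ≫ σ').hom = (TrivSqZeroExt.fstHom B B (B × B)).toRingHom := by
    refine RingHom.ext fun x => ?_
    simp [φ', σ', φ, σ, res₁]
  refine epi_specMap φ' ?_ σ' ?_ ?_ k₁ k₂ ?_
  · intro a b hab
    have hab' : φ a = φ b := hab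
    have h1 := congrArg (fun t : DualNumber B × DualNumber B => t.1) hab'
    have h2 := congrArg (fun t : DualNumber B × DualNumber B => t.2) hab'
    have h1f := congrArg TrivSqZeroExt.fst h1
    have h1s := congrArg TrivSqZeroExt.snd h1
    have h2s := congrArg TrivSqZeroExt.snd h2
    simp [φ, res₁, res₂] at h1f h1s h2s
    exact TrivSqZeroExt.ext h1f (Prod.ext h1s h2s)
  · rw [hσφ]
    intro b
    exact ⟨TrivSqZeroExt.inl b, by simp⟩
  · rw [hσφ]
    intro x hx
    rw [RingHom.mem_ker] at hx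
    rw [mem_nilradical]
    refine ⟨2, ?_⟩
    have hx' : x.fst = 0 := hx
    rw [pow_two]
    apply TrivSqZeroExt.ext
    · simp [hx']
    · simp [hx']
  · rw [← cancel_epi (coprodSpec (DualNumber B) (DualNumber B))]
    apply coprod.hom_ext
    · rw [coprodSpec_inl_assoc, coprodSpec_inl_assoc, ← Category.assoc, ← Category.assoc,
        ← Spec.map_comp]
      exact h₁
    · rw [coprodSpec_inr_assoc, coprodSpec_inr_assoc, ← Category.assoc, ← Category.assoc,
        ← Spec.map_comp]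
      exact h₂

end JointEpi

section OverS

open LieS

variable {S : Scheme.{u}} {B : Type u} [CommRing B] (f : Spec (CommRingCat.of B) ⟶ S)

/-- The `S`-scheme `Spec R` for a `B`-algebra `R`. -/
noncomputable def ob (R : Type u) [CommRing R] [Algebra B R] : Over S :=
  Over.mk (Spec.map (CommRingCat.ofHom (algebraMap B R)) ≫ f)

/-- `Spec` of a `B`-algebra map, over `S`. -/
noncomputable def ovMap {R R' : Type u} [CommRing R] [CommRing R'] [Algebra B R] [Algebra B R']
    (φ : R →ₐ[B] R') : ob f R' ⟶ ob f R :=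
  Over.homMk (Spec.map (CommRingCat.ofHom φ.toRingHom)) (by
    change Spec.map _ ≫ Spec.map _ ≫ f = Spec.map _ ≫ f
    rw [← Category.assoc, LieS.specMap_comp, AlgHom.toRingHom_eq_coe, AlgHom.comp_algebraMap])

theorem ovMap_left {R R' : Type u} [CommRing R] [CommRing R'] [Algebra B R] [Algebra B R']
    (φ : R →ₐ[B] R') : (ovMap f φ).left = Spec.map (CommRingCat.ofHom φ.toRingHom) := rfl

@[reassoc]
theorem ovMap_comp {R R' R'' : Type u} [CommRing R] [CommRing R'] [CommRing R'']
    [Algebra B R] [Algebra B R'] [Algebra B R'']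
    (φ : R →ₐ[B] R') (ψ : R' →ₐ[B] R'') : ovMap f ψ ≫ ovMap f φ = ovMap f (ψ.comp φ) := by
  apply Over.OverMorphism.ext
  change Spec.map (CommRingCat.ofHom ψ.toRingHom) ≫ Spec.map (CommRingCat.ofHom φ.toRingHom) =
    Spec.map (CommRingCat.ofHom (ψ.comp φ).toRingHom)
  rw [LieS.specMap_comp]
  rfl

theorem ovMap_id {R : Type u} [CommRing R] [Algebra B R] : ovMap f (AlgHom.id B R) = 𝟙 _ := by
  apply Over.OverMorphism.ext
  change Spec.map (CommRingCat.ofHom (AlgHom.id B R).toRingHom) = 𝟙 _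
  exact Spec.map_id _

theorem dpt_eq : dpt B f = ob f (DualNumber B) := rfl

theorem scale_eq (b : B) : (scale B f b : dpt B f ⟶ dpt B f) = ovMap f (sc b) := by
  apply Over.OverMorphism.ext
  change Spec.map (CommRingCat.ofHom (scaleHom b)) = Spec.map (CommRingCat.ofHom (sc b).toRingHom)
  rw [sc_toRingHom]

theorem proj_zeroSec : (proj B f ≫ zeroSec B f : dpt B f ⟶ dpt B f) = ovMap f (zr B) := by
  apply Over.OverMorphism.ext
  change Spec.map (CommRingCat.ofHom (algebraMap B (DualNumber B))) ≫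
      Spec.map (CommRingCat.ofHom (TrivSqZeroExt.fstHom B B B).toRingHom) =
    Spec.map (CommRingCat.ofHom (zr B).toRingHom)
  rw [LieS.specMap_comp, zr_toRingHom]

/-- Additivity of the rescaling action on points of a monoid scheme restricting to the unit on
the zero section (condition (E), uniqueness half). -/
theorem key (X : Over S) [MonObj X] (w : dpt B f ⟶ X) (hw : zeroSec B f ≫ w = 1) (b c : B) :
    (scale B f b ≫ w) * (scale B f c ≫ w) = scale B f (b + c) ≫ w := by
  let w' : ob f (DualNumber B) ⟶ X := w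
  have hz : ovMap f (zr B) ≫ w' = 1 := by
    rw [← proj_zeroSec]
    change (proj B f ≫ zeroSec B f) ≫ w = 1
    rw [Category.assoc, hw, MonObj.comp_one]
  have claim : (ovMap f (incl₁ B) ≫ ovMap f (sc b) ≫ w') *
      (ovMap f (incl₂ B) ≫ ovMap f (sc c) ≫ w') = ovMap f (lin b c) ≫ w' := by
    have e₁ : ovMap f (res₁ B) ≫ ((ovMap f (incl₁ B) ≫ ovMap f (sc b) ≫ w') *
        (ovMap f (incl₂ B) ≫ ovMap f (sc c) ≫ w')) =
        ovMap f (res₁ B) ≫ ovMap f (lin b c) ≫ w' := by
      have l₁ : ovMap f (res₁ B) ≫ ovMap f (incl₁ B) ≫ ovMap f (sc b) ≫ w' =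
          ovMap f (sc b) ≫ w' := by
        rw [ovMap_comp_assoc, res₁_incl₁, ovMap_id, Category.id_comp]
      have l₂ : ovMap f (res₁ B) ≫ ovMap f (incl₂ B) ≫ ovMap f (sc c) ≫ w' = 1 := by
        rw [ovMap_comp_assoc, res₁_incl₂, ovMap_comp_assoc, zr_sc, hz]
      have r : ovMap f (res₁ B) ≫ ovMap f (lin b c) ≫ w' = ovMap f (sc b) ≫ w' := by
        rw [ovMap_comp_assoc, res₁_lin]
      rw [MonObj.comp_mul, l₁, l₂, r, _root_.mul_one]
    have e₂ : ovMap f (res₂ B) ≫ ((ovMap f (incl₁ B) ≫ ovMap f (sc b) ≫ w') *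
        (ovMap f (incl₂ B) ≫ ovMap f (sc c) ≫ w')) =
        ovMap f (res₂ B) ≫ ovMap f (lin b c) ≫ w' := by
      have l₁ : ovMap f (res₂ B) ≫ ovMap f (incl₁ B) ≫ ovMap f (sc b) ≫ w' = 1 := by
        rw [ovMap_comp_assoc, res₂_incl₁, ovMap_comp_assoc, zr_sc, hz]
      have l₂ : ovMap f (res₂ B) ≫ ovMap f (incl₂ B) ≫ ovMap f (sc c) ≫ w' =
          ovMap f (sc c) ≫ w' := by
        rw [ovMap_comp_assoc, res₂_incl₂, ovMap_id, Category.id_comp]
      have r : ovMap f (res₂ B) ≫ ovMap f (lin b c) ≫ w' = ovMap f (sc c) ≫ w' := by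
        rw [ovMap_comp_assoc, res₂_lin]
      rw [MonObj.comp_mul, l₁, l₂, r, _root_.one_mul]
    apply Over.OverMorphism.ext
    exact jointEpi B _ _ (congrArg (fun k => k.left) e₁) (congrArg (fun k => k.left) e₂)
  have l₁ : ovMap f (diag B) ≫ ovMap f (incl₁ B) ≫ ovMap f (sc b) ≫ w' =
      ovMap f (sc b) ≫ w' := by
    rw [ovMap_comp_assoc, diag_incl₁, ovMap_id, Category.id_comp]
  have l₂ : ovMap f (diag B) ≫ ovMap f (incl₂ B) ≫ ovMap f (sc c) ≫ w' =
      ovMap f (sc c) ≫ w' := by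
    rw [ovMap_comp_assoc, diag_incl₂, ovMap_id, Category.id_comp]
  have r : ovMap f (diag B) ≫ ovMap f (lin b c) ≫ w' = ovMap f (sc (b + c)) ≫ w' := by
    rw [ovMap_comp_assoc, diag_lin]
  have e : ovMap f (diag B) ≫ ((ovMap f (incl₁ B) ≫ ovMap f (sc b) ≫ w') *
      (ovMap f (incl₂ B) ≫ ovMap f (sc c) ≫ w')) = ovMap f (diag B) ≫ ovMap f (lin b c) ≫ w' :=
    congrArg (fun k => ovMap f (diag B) ≫ k) claim
  rw [MonObj.comp_mul, l₁, l₂, r] at e
  rw [scale_eq, scale_eq, scale_eq]
  exact e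

theorem scale_one : (scale B f 1 : dpt B f ⟶ dpt B f) = 𝟙 _ := by
  rw [scale_eq]
  have : sc (1 : B) = AlgHom.id B _ := by rw [sc, one_smul, TrivSqZeroExt.map_id]
  rw [this]
  exact ovMap_id f

theorem scale_zero : (scale B f 0 : dpt B f ⟶ dpt B f) = proj B f ≫ zeroSec B f := by
  rw [scale_eq, proj_zeroSec]
  have : sc (0 : B) = zr B := by rw [sc, zero_smul, zr]
  rw [this]

/-- A point of a monoid scheme on the dual numbers restricting to the unit on the zero section is
invertible, with inverse its rescaling by `-1`. -/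
theorem isUnit_of_zeroSec (X : Over S) [MonObj X] (w : dpt B f ⟶ X) (hw : zeroSec B f ≫ w = 1) :
    w * (scale B f (-1) ≫ w) = 1 ∧ (scale B f (-1) ≫ w) * w = 1 := by
  have h0 : scale B f 0 ≫ w = 1 := by
    rw [scale_zero, Category.assoc, hw, MonObj.comp_one]
  have h1 : scale B f 1 ≫ w = w := by rw [scale_one, Category.id_comp]
  constructor
  · have := key f X w hw 1 (-1)
    rwa [add_neg_cancel, h0, h1] at this
  · have := key f X w hw (-1) 1
    rwa [neg_add_cancel, h0, h1] at this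

end OverS

end Groth.Agent.Lib.Helper12.LieE
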