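import Mathlib
import Groth.Prelude.Def_Red
import Groth.Agent.Lib.Helper14.BCGrp

/-!
# Base change in `Over` categories: canonical isomorphisms and their projections (helper12)

* `bc_hom_ext`: morphisms into `Red.bc g X` are determined by their first projection.
* `pullbackComp_hom_app_left_fst_fst`, `..._snd`: components of Mathlib's `Over.pullbackComp`.
* `compIso w f g h X : Red.bc w (Red.bc f X) ≅ Red.bc g X` for `h : w ≫ f = g` (the form used in the SGA3 limit rows),
  `compIso_hom_left_fst`, `compIso_inv_left_fst_fst`, `compIso_naturality`, `isMonHom_compIso_hom/inv`.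
-/

set_option autoImplicit false
set_option linter.style.haveILetI false
set_option linter.unusedSectionVars false

universe u
open CategoryTheory CategoryTheory.Limits AlgebraicGeometry MonoidalCategory
  CartesianMonoidalCategory MonObj

namespace Groth.Agent.Lib.helper12.LimOver

section Basic

variable {S S' S'' : Scheme.{u}}

theorem bc_hom_ext {g : S' ⟶ S} {X : Over S} {T : Over S'} (a b : T ⟶ Red.bc g X)
    (h : a.left ≫ pullback.fst X.hom g = b.left ≫ pullback.fst X.hom g) : a = b := by
  apply Over.OverMorphism.ext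
  apply pullback.hom_ext h
  have ha : a.left ≫ pullback.snd X.hom g = T.hom := Over.w a
  have hb : b.left ≫ pullback.snd X.hom g = T.hom := Over.w b
  exact ha.trans hb.symm

@[reassoc]
theorem pullback_map_left_fst (g : S' ⟶ S) {X Y : Over S} (u : X ⟶ Y) :
    ((Over.pullback g).map u).left ≫ pullback.fst Y.hom g = pullback.fst X.hom g ≫ u.left := by
  exact pullback.lift_fst (pullback.fst X.hom g ≫ u.left) (pullback.snd X.hom g) _

@[reassoc]
theorem pullback_map_left_snd (g : S' ⟶ S) {X Y : Over S} (u : X ⟶ Y) :
    ((Over.pullback g).map u).left ≫ pullback.snd Y.hom g = pullback.snd X.hom g :=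
  Over.w ((Over.pullback g).map u)

variable (w : S'' ⟶ S') (f : S' ⟶ S) (A : Over S)

@[reassoc]
theorem pullbackComp_hom_app_left_fst_fst :
    ((Over.pullbackComp w f).hom.app A).left ≫ pullback.fst ((Over.pullback f).obj A).hom w ≫
      pullback.fst A.hom f = pullback.fst A.hom (w ≫ f) := by
  simp only [Over.pullbackComp, conjugateIsoEquiv_apply_hom, conjugateEquiv_apply_app]
  simp only [Adjunction.comp_unit_app, Functor.comp_map, Over.comp_left, Category.assoc]
  simp only [Over.pullback_map_left, Over.mapPullbackAdj_unit_app, Over.mapPullbackAdj_counit_app]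
  simp only [pullback.lift_fst_assoc, pullback.lift_fst, Category.assoc, Over.homMk_left]
  simp only [Functor.comp_obj, Iso.symm_hom, Over.mapComp_inv_app_left]
  rw [pullback.lift_fst_assoc]
  simp only [Category.assoc, Over.map_obj_hom, Over.map_obj_left]
  erw [pullback.lift_fst_assoc, pullback.lift_fst_assoc]
  simp

@[reassoc]
theorem pullbackComp_inv_app_left_fst :
    ((Over.pullbackComp w f).inv.app A).left ≫ pullback.fst A.hom (w ≫ f) =
      pullback.fst ((Over.pullback f).obj A).hom w ≫ pullback.fst A.hom f := by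
  rw [← pullbackComp_hom_app_left_fst_fst w f A, ← Category.assoc, ← Over.comp_left,
    Iso.inv_hom_id_app, Over.id_left, Category.id_comp]

theorem eqToHom_bc_left_fst {g₁ g₂ : S' ⟶ S} (h : g₁ = g₂) (X : Over S) :
    (eqToHom (congrArg (fun g => Red.bc g X) h)).left ≫ pullback.fst X.hom g₂ =
      pullback.fst X.hom g₁ := by
  subst h
  simp

/-- the canonical isomorphism `(X ×_S S') ×_{S'} S'' ≅ X ×_S S''` for a factorisation `w ≫ f = g` -/
noncomputable def compIso (g : S'' ⟶ S) (h : w ≫ f = g) (X : Over S) :
    Red.bc w (Red.bc f X) ≅ Red.bc g X :=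
  ((Over.pullbackComp w f).app X).symm ≪≫ eqToIso (congrArg (fun g => Red.bc g X) h)

variable {w f} {g : S'' ⟶ S} (h : w ≫ f = g)

@[reassoc]
theorem compIso_hom_left_fst (X : Over S) :
    (compIso w f g h X).hom.left ≫ pullback.fst X.hom g =
      pullback.fst (Red.bc f X).hom w ≫ pullback.fst X.hom f := by
  unfold compIso
  rw [Iso.trans_hom, Over.comp_left, Category.assoc, eqToIso.hom, eqToHom_bc_left_fst h X]
  exact pullbackComp_inv_app_left_fst w f X

@[reassoc]
theorem compIso_inv_left_fst_fst (X : Over S) :
    (compIso w f g h X).inv.left ≫ pullback.fst (Red.bc f X).hom w ≫ pullback.fst X.hom f =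
      pullback.fst X.hom g := by
  have h1 := compIso_hom_left_fst h X
  rw [← h1, ← Category.assoc, ← Over.comp_left, Iso.inv_hom_id, Over.id_left, Category.id_comp]

@[reassoc]
theorem compIso_naturality {X Y : Over S} (u : X ⟶ Y) :
    (Over.pullback w).map ((Over.pullback f).map u) ≫ (compIso w f g h Y).hom =
      (compIso w f g h X).hom ≫ (Over.pullback g).map u := by
  apply bc_hom_ext
  rw [Over.comp_left, Over.comp_left, Category.assoc, Category.assoc, compIso_hom_left_fst,
    pullback_map_left_fst, compIso_hom_left_fst_assoc, pullback_map_left_fst_assoc,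
    pullback_map_left_fst]

theorem compIso_conj {X Y : Over S} (u : X ⟶ Y) :
    (Over.pullback w).map ((Over.pullback f).map u) =
      (compIso w f g h X).hom ≫ (Over.pullback g).map u ≫ (compIso w f g h Y).inv := by
  rw [← Category.assoc, ← compIso_naturality h u, Category.assoc, Iso.hom_inv_id, Category.comp_id]

theorem isMonHom_eqToHom_bc {g₁ g₂ : S' ⟶ S} (h : g₁ = g₂) (G : Over S) [GrpObj G] :
    IsMonHom (eqToHom (congrArg (fun g => Red.bc g G) h)) := by
  subst h
  exact inferInstanceAs (IsMonHom (𝟙 (Red.bc g₁ G)))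

/-- the components of `Over.pullbackComp`, with the types written with `Red.bc` -/
noncomputable abbrev pcInv (w : S'' ⟶ S') (f : S' ⟶ S) (G : Over S) :
    Red.bc w (Red.bc f G) ⟶ Red.bc (w ≫ f) G := (Over.pullbackComp w f).inv.app G

/-- the components of `Over.pullbackComp`, with the types written with `Red.bc` -/
noncomputable abbrev pcHom (w : S'' ⟶ S') (f : S' ⟶ S) (G : Over S) :
    Red.bc (w ≫ f) G ⟶ Red.bc w (Red.bc f G) := (Over.pullbackComp w f).hom.app G

theorem isMonHom_pcInv (w : S'' ⟶ S') (f : S' ⟶ S) (G : Over S) [GrpObj G] :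
    IsMonHom (pcInv w f G) := by
  have h0 : IsMonHom (Groth.Agent.Lib.Helper14.BCGrp.bcCompGrpIso w f G).inv.hom.hom := inferInstance
  have h1 : (Groth.Agent.Lib.Helper14.BCGrp.bcCompGrpIso w f G).inv.hom.hom = pcInv w f G := by
    simp [Groth.Agent.Lib.Helper14.BCGrp.bcCompGrpIso, pcInv]
    exact Category.id_comp _
  rwa [h1] at h0

theorem isMonHom_pcHom (w : S'' ⟶ S') (f : S' ⟶ S) (G : Over S) [GrpObj G] :
    IsMonHom (pcHom w f G) := by
  have h0 : IsMonHom (Groth.Agent.Lib.Helper14.BCGrp.bcCompGrpIso w f G).hom.hom.hom := inferInstance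
  have h1 : (Groth.Agent.Lib.Helper14.BCGrp.bcCompGrpIso w f G).hom.hom.hom = pcHom w f G := by
    simp [Groth.Agent.Lib.Helper14.BCGrp.bcCompGrpIso, pcHom]
    exact Category.comp_id _
  rwa [h1] at h0

theorem compIso_hom_eq (G : Over S) :
    (compIso w f g h G).hom = pcInv w f G ≫ eqToHom (congrArg (fun g => Red.bc g G) h) := rfl

theorem isMonHom_compIso_hom (G : Over S) [GrpObj G] : IsMonHom (compIso w f g h G).hom := by
  rw [compIso_hom_eq]
  haveI := isMonHom_pcInv w f G
  haveI := isMonHom_eqToHom_bc h G
  infer_instance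

theorem isMonHom_compIso_inv (G : Over S) [GrpObj G] : IsMonHom (compIso w f g h G).inv := by
  haveI := isMonHom_compIso_hom h G
  infer_instance

end Basic

end Groth.Agent.Lib.helper12.LimOver
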