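import Mathlib
import Groth.Agent.Lib.Helper12.LimOver1
import Groth.Agent.S9218
import Groth.Agent.S9219

/-!
# Morphisms of finitely presented schemes over a cofiltered limit, in `Over` form (helper12)

`S = lim S_i` cofiltered limit of qcqs schemes with affine transition maps; `P`, `Q` of finite presentation over a
stage `S_i`.
* `exists_map_eq` (faithfulness): `u₁ u₂ : P ⟶ Q` with equal base change to `S` have equal base change to some `S_{i'}`.
* `exists_map_descend` (fullness): every `u : P_S ⟶ Q_S` is, up to the canonical isomorphisms `compIso`, the base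
  change of some `u' : P_{i'} ⟶ Q_{i'}`.
-/

set_option autoImplicit false
set_option linter.style.haveILetI false
set_option linter.unusedSectionVars false

universe u
open CategoryTheory CategoryTheory.Limits AlgebraicGeometry MonoidalCategory
  CartesianMonoidalCategory MonObj

namespace Groth.Agent.Lib.helper12.LimOver

section Lim

variable {I : Type u} [SmallCategory I] [IsCofiltered I]
  (D : I ⥤ Scheme.{u}) (c : Limits.Cone D) (hc : Limits.IsLimit c)
  [∀ (i i' : I) (f : i ⟶ i'), IsAffineHom (D.map f)]
  [∀ i, CompactSpace (D.obj i)] [∀ i, QuasiSeparatedSpace (D.obj i)]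

/-- an object of finite presentation over a stage -/
class FP {S : Scheme.{u}} (P : Over S) : Prop where
  lfp : LocallyOfFinitePresentation P.hom
  qc : QuasiCompact P.hom
  qs : QuasiSeparated P.hom

attribute [instance] FP.lfp FP.qc FP.qs

instance {S : Scheme.{u}} (P : Over S) [LocallyOfFinitePresentation P.hom] [QuasiCompact P.hom]
    [QuasiSeparated P.hom] : FP P := ⟨inferInstance, inferInstance, inferInstance⟩

instance fp_bc {S S' : Scheme.{u}} (g : S' ⟶ S) (P : Over S) [FP P] : FP (Red.bc g P) where
  lfp := inferInstanceAs (LocallyOfFinitePresentation (pullback.snd P.hom g))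
  qc := inferInstanceAs (QuasiCompact (pullback.snd P.hom g))
  qs := inferInstanceAs (QuasiSeparated (pullback.snd P.hom g))

include hc in
/-- **faithfulness**: morphisms with equal base change to the limit agree at some stage -/
theorem exists_map_eq (i : I) (P Q : Over (D.obj i)) [FP P] [FP Q] (u₁ u₂ : P ⟶ Q)
    (h : (Over.pullback (c.π.app i)).map u₁ = (Over.pullback (c.π.app i)).map u₂) :
    ∃ (i' : I) (g : i' ⟶ i), (Over.pullback (D.map g)).map u₁ = (Over.pullback (D.map g)).map u₂ := by
  haveI : CompactSpace P.left := QuasiCompact.compactSpace_of_compactSpace P.hom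
  haveI : QuasiSeparatedSpace P.left := quasiSeparatedSpace_of_quasiSeparated P.hom
  haveI : CompactSpace Q.left := QuasiCompact.compactSpace_of_compactSpace Q.hom
  haveI : QuasiSeparatedSpace Q.left := quasiSeparatedSpace_of_quasiSeparated Q.hom
  have h' : pullback.fst P.hom (c.π.app i) ≫ u₁.left = pullback.fst P.hom (c.π.app i) ≫ u₂.left := by
    rw [← pullback_map_left_fst, ← pullback_map_left_fst, h]
  obtain ⟨j, φ, hφ⟩ := Groth.Agent.S9219.result D c hc i P.hom Q.hom
    (pullback.fst P.hom (c.π.app i)) (pullback.snd P.hom (c.π.app i))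
    (IsPullback.of_hasPullback _ _) u₁.left u₂.left (Over.w u₁) (Over.w u₂) h'
  refine ⟨j, φ, ?_⟩
  apply bc_hom_ext
  rw [pullback_map_left_fst, pullback_map_left_fst, hφ]

include hc in
/-- **fullness**: every morphism between the base changes to the limit comes from some stage -/
theorem exists_map_descend (i : I) (P Q : Over (D.obj i)) [FP P] [FP Q]
    (u : Red.bc (c.π.app i) P ⟶ Red.bc (c.π.app i) Q) :
    ∃ (i' : I) (g : i' ⟶ i) (u' : Red.bc (D.map g) P ⟶ Red.bc (D.map g) Q),
      (Over.pullback (c.π.app i')).map u' =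
        (compIso (c.π.app i') (D.map g) (c.π.app i) (c.w g) P).hom ≫ u ≫
          (compIso (c.π.app i') (D.map g) (c.π.app i) (c.w g) Q).inv := by
  haveI : CompactSpace P.left := QuasiCompact.compactSpace_of_compactSpace P.hom
  haveI : QuasiSeparatedSpace P.left := quasiSeparatedSpace_of_quasiSeparated P.hom
  haveI : CompactSpace Q.left := QuasiCompact.compactSpace_of_compactSpace Q.hom
  haveI : QuasiSeparatedSpace Q.left := quasiSeparatedSpace_of_quasiSeparated Q.hom
  obtain ⟨j, φ, fj, sX, sY, h1, h2, h3, h4, h5, h6⟩ := Groth.Agent.S9218.result D c hc i P.hom Q.hom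
    (pullback.fst P.hom (c.π.app i)) (pullback.snd P.hom (c.π.app i))
    (IsPullback.of_hasPullback _ _)
    (pullback.fst Q.hom (c.π.app i)) (pullback.snd Q.hom (c.π.app i))
    (IsPullback.of_hasPullback _ _) u.left (Over.w u)
  let u' : Red.bc (D.map φ) P ⟶ Red.bc (D.map φ) Q := Over.homMk fj h1
  refine ⟨j, φ, u', ?_⟩
  have hsX : (compIso (c.π.app j) (D.map φ) (c.π.app i) (c.w φ) P).inv.left ≫
      pullback.fst (Red.bc (D.map φ) P).hom (c.π.app j) = sX := by
    apply pullback.hom_ext
    · rw [Category.assoc, h2]
      exact compIso_inv_left_fst_fst (c.w φ) P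
    · rw [Category.assoc, h3]
      have e1 : pullback.fst (Red.bc (D.map φ) P).hom (c.π.app j) ≫ pullback.snd P.hom (D.map φ) =
          pullback.snd (Red.bc (D.map φ) P).hom (c.π.app j) ≫ c.π.app j := pullback.condition
      rw [e1, ← Category.assoc]
      congr 1
      exact Over.w (compIso (c.π.app j) (D.map φ) (c.π.app i) (c.w φ) P).inv
  rw [← Category.assoc, Iso.eq_comp_inv]
  apply bc_hom_ext
  rw [Over.comp_left, Over.comp_left, Category.assoc, Category.assoc, compIso_hom_left_fst,
    pullback_map_left_fst_assoc]
  rw [← cancel_epi (compIso (c.π.app j) (D.map φ) (c.π.app i) (c.w φ) P).inv.left]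
  rw [← Category.assoc, hsX, ← Category.assoc _ _ (u.left ≫ _), ← Over.comp_left, Iso.inv_hom_id,
    Over.id_left, Category.id_comp]
  change sX ≫ fj ≫ pullback.fst Q.hom (D.map φ) = _
  rw [← Category.assoc, h6, Category.assoc, h4]

end Lim

end Groth.Agent.Lib.helper12.LimOver
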