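import Mathlib
import Groth.Agent.Lib.Helper12.LimOver2

/-!
# Homomorphisms of group schemes over a cofiltered limit (helper12)

* `isMonHom_map_iff`: for a monoidal functor `F`, `F.map v` is a homomorphism iff `F` equalises the two pairs of
  morphisms expressing that `v` is one.
* `map_eq_persist`: equality of base changes at a stage persists at all later stages.
* `exists_isMonHom_map`: if the base change of `v` to the limit is a homomorphism then so is its base change to
  some stage.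
* `compIso_coherence`, `refineHom`, `refineHom_spec`: passing to a later stage.
-/

set_option autoImplicit false
set_option linter.style.haveILetI false
set_option linter.unusedSectionVars false

universe u
open CategoryTheory CategoryTheory.Limits AlgebraicGeometry MonoidalCategory
  CartesianMonoidalCategory MonObj

namespace Groth.Agent.Lib.helper12.LimOver

section Abstract

open Functor.LaxMonoidal Functor.OplaxMonoidal
open scoped Obj

variable {C E : Type*} [Category C] [Category E] [CartesianMonoidalCategory C]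
  [CartesianMonoidalCategory E] (F : C ⥤ E) [F.Monoidal] {P Q : C} [MonObj P] [MonObj Q]

theorem isMonHom_map_iff (v : P ⟶ Q) :
    IsMonHom (F.map v) ↔
      F.map (η[P] ≫ v) = F.map η[Q] ∧ F.map (μ[P] ≫ v) = F.map ((v ⊗ₘ v) ≫ μ[Q]) := by
  constructor
  · intro h
    constructor
    · have h1 := IsMonHom.one_hom (F.map v)
      rw [Functor.obj.η_def, Functor.obj.η_def, Category.assoc, cancel_epi] at h1
      rw [F.map_comp]
      exact h1
    · have h1 := IsMonHom.mul_hom (F.map v)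
      rw [Functor.obj.μ_def, Functor.obj.μ_def, Category.assoc, μ_natural_assoc, cancel_epi] at h1
      rw [F.map_comp, F.map_comp]
      exact h1
  · rintro ⟨h1, h2⟩
    refine ⟨?_, ?_⟩
    · rw [Functor.obj.η_def, Functor.obj.η_def, Category.assoc, ← F.map_comp, h1]
    · rw [Functor.obj.μ_def, Functor.obj.μ_def, Category.assoc, μ_natural_assoc, ← F.map_comp,
        ← F.map_comp, h2]

end Abstract

section FPInst

variable {S : Scheme.{u}}

instance fp_unit : FP (𝟙_ (Over S)) where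
  lfp := inferInstanceAs (LocallyOfFinitePresentation (𝟙 S))
  qc := inferInstanceAs (QuasiCompact (𝟙 S))
  qs := inferInstanceAs (QuasiSeparated (𝟙 S))

instance fp_tensor (P Q : Over S) [FP P] [FP Q] : FP (P ⊗ Q) where
  lfp := inferInstanceAs (LocallyOfFinitePresentation (pullback.fst P.hom Q.hom ≫ P.hom))
  qc := inferInstanceAs (QuasiCompact (pullback.fst P.hom Q.hom ≫ P.hom))
  qs := inferInstanceAs (QuasiSeparated (pullback.fst P.hom Q.hom ≫ P.hom))

end FPInst

section Persist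

variable {S S' S'' : Scheme.{u}}

theorem map_eq_iff_fst (g : S' ⟶ S) {P Q : Over S} (u₁ u₂ : P ⟶ Q) :
    (Over.pullback g).map u₁ = (Over.pullback g).map u₂ ↔
      pullback.fst P.hom g ≫ u₁.left = pullback.fst P.hom g ≫ u₂.left := by
  constructor
  · intro h
    rw [← pullback_map_left_fst, ← pullback_map_left_fst, h]
  · intro h
    apply bc_hom_ext
    rw [pullback_map_left_fst, pullback_map_left_fst, h]

theorem map_eq_persist (k : S'' ⟶ S') (g : S' ⟶ S) {P Q : Over S} (u₁ u₂ : P ⟶ Q)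
    (h : (Over.pullback g).map u₁ = (Over.pullback g).map u₂) :
    (Over.pullback (k ≫ g)).map u₁ = (Over.pullback (k ≫ g)).map u₂ := by
  rw [map_eq_iff_fst] at h ⊢
  obtain ⟨L, e⟩ : ∃ L : pullback P.hom (k ≫ g) ⟶ pullback P.hom g,
      L ≫ pullback.fst P.hom g = pullback.fst P.hom (k ≫ g) :=
    ⟨pullback.lift (pullback.fst P.hom (k ≫ g)) (pullback.snd P.hom (k ≫ g) ≫ k)
      (by rw [Category.assoc, pullback.condition]), pullback.lift_fst _ _ _⟩
  rw [← e, Category.assoc, Category.assoc, h]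

theorem map_eq_persist' (k : S'' ⟶ S') (g : S' ⟶ S) (g' : S'' ⟶ S) (hg : k ≫ g = g')
    {P Q : Over S} (u₁ u₂ : P ⟶ Q)
    (h : (Over.pullback g).map u₁ = (Over.pullback g).map u₂) :
    (Over.pullback g').map u₁ = (Over.pullback g').map u₂ := by
  subst hg
  exact map_eq_persist k g u₁ u₂ h

end Persist

section Lim

variable {I : Type u} [SmallCategory I] [IsCofiltered I]
  (D : I ⥤ Scheme.{u}) (c : Limits.Cone D) (hc : Limits.IsLimit c)
  [∀ (i i' : I) (f : i ⟶ i'), IsAffineHom (D.map f)]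
  [∀ i, CompactSpace (D.obj i)] [∀ i, QuasiSeparatedSpace (D.obj i)]

include hc in
/-- two equalities descend simultaneously -/
theorem exists_map_eq₂ (i : I) {P Q P' Q' : Over (D.obj i)} [FP P] [FP Q] [FP P'] [FP Q']
    (u₁ u₂ : P ⟶ Q) (v₁ v₂ : P' ⟶ Q')
    (hu : (Over.pullback (c.π.app i)).map u₁ = (Over.pullback (c.π.app i)).map u₂)
    (hv : (Over.pullback (c.π.app i)).map v₁ = (Over.pullback (c.π.app i)).map v₂) :
    ∃ (i' : I) (g : i' ⟶ i), (Over.pullback (D.map g)).map u₁ = (Over.pullback (D.map g)).map u₂ ∧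
      (Over.pullback (D.map g)).map v₁ = (Over.pullback (D.map g)).map v₂ := by
  obtain ⟨i₁, g₁, h₁⟩ := exists_map_eq D c hc i P Q u₁ u₂ hu
  obtain ⟨i₂, g₂, h₂⟩ := exists_map_eq D c hc i P' Q' v₁ v₂ hv
  obtain ⟨i₃, k₁, k₂, hk⟩ := IsCofiltered.cospan g₁ g₂
  refine ⟨i₃, k₁ ≫ g₁, ?_, ?_⟩
  · exact map_eq_persist' (D.map k₁) (D.map g₁) _ (D.map_comp k₁ g₁).symm u₁ u₂ h₁
  · refine map_eq_persist' (D.map k₂) (D.map g₂) _ ?_ v₁ v₂ h₂
    rw [← D.map_comp, hk]

include hc in
/-- if the base change of `v` to the limit is a homomorphism, so is its base change to some stage -/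
theorem exists_isMonHom_map (i : I) (P Q : Over (D.obj i)) [GrpObj P] [GrpObj Q] [FP P] [FP Q]
    (v : P ⟶ Q) (h : IsMonHom ((Over.pullback (c.π.app i)).map v)) :
    ∃ (i' : I) (g : i' ⟶ i), IsMonHom ((Over.pullback (D.map g)).map v) := by
  rw [isMonHom_map_iff] at h
  obtain ⟨i', g, h1, h2⟩ := exists_map_eq₂ D c hc i (η[P] ≫ v) η[Q] (μ[P] ≫ v) ((v ⊗ₘ v) ≫ μ[Q])
    h.1 h.2
  exact ⟨i', g, (isMonHom_map_iff _ v).mpr ⟨h1, h2⟩⟩

end Lim

section Coherence

variable {S₀ S₁ S₂ S₃ : Scheme.{u}}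

/-- coherence of the canonical isomorphisms `compIso` for three composable base changes -/
theorem compIso_coherence (k : S₃ ⟶ S₂) (w : S₂ ⟶ S₁) (f : S₁ ⟶ S₀) (g₂ : S₂ ⟶ S₀) (g₃ : S₃ ⟶ S₀)
    (w' : S₃ ⟶ S₁) (h₂ : w ≫ f = g₂) (h₃ : k ≫ g₂ = g₃) (hw' : k ≫ w = w') (h₃' : w' ≫ f = g₃)
    (X : Over S₀) :
    (Over.pullback k).map (compIso w f g₂ h₂ X).hom ≫ (compIso k g₂ g₃ h₃ X).hom =
      (compIso k w w' hw' (Red.bc f X)).hom ≫ (compIso w' f g₃ h₃' X).hom := by
  apply bc_hom_ext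
  rw [Over.comp_left, Over.comp_left, Category.assoc, Category.assoc, compIso_hom_left_fst,
    compIso_hom_left_fst, pullback_map_left_fst_assoc, compIso_hom_left_fst,
    compIso_hom_left_fst_assoc]

end Coherence

section Refine

variable {I : Type u} [SmallCategory I]
  (D : I ⥤ Scheme.{u}) (c : Limits.Cone D)

/-- transport a morphism between base changes at stage `f₁ : i₁ ⟶ j` to the later stage `g ≫ f₁` -/
noncomputable def refineHom {j i₁ i₂ : I} (f₁ : i₁ ⟶ j) (g : i₂ ⟶ i₁) {P Q : Over (D.obj j)}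
    (u₁ : Red.bc (D.map f₁) P ⟶ Red.bc (D.map f₁) Q) :
    Red.bc (D.map (g ≫ f₁)) P ⟶ Red.bc (D.map (g ≫ f₁)) Q :=
  (compIso (D.map g) (D.map f₁) (D.map (g ≫ f₁)) (D.map_comp g f₁).symm P).inv ≫
    (Over.pullback (D.map g)).map u₁ ≫
      (compIso (D.map g) (D.map f₁) (D.map (g ≫ f₁)) (D.map_comp g f₁).symm Q).hom

theorem isMonHom_refineHom {j i₁ i₂ : I} (f₁ : i₁ ⟶ j) (g : i₂ ⟶ i₁) {P Q : Over (D.obj j)}
    [GrpObj P] [GrpObj Q] (u₁ : Red.bc (D.map f₁) P ⟶ Red.bc (D.map f₁) Q)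
    (h : IsMonHom ((Over.pullback (D.map g)).map u₁)) : IsMonHom (refineHom D f₁ g u₁) := by
  unfold refineHom
  haveI := isMonHom_compIso_inv (D.map_comp g f₁).symm P
  haveI := isMonHom_compIso_hom (D.map_comp g f₁).symm Q
  infer_instance

/-- the refined morphism has the same base change to the limit (up to the canonical isomorphisms) -/
theorem refineHom_spec {j i₁ i₂ : I} (f₁ : i₁ ⟶ j) (g : i₂ ⟶ i₁) {P Q : Over (D.obj j)}
    (u₁ : Red.bc (D.map f₁) P ⟶ Red.bc (D.map f₁) Q)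
    (u : Red.bc (c.π.app j) P ⟶ Red.bc (c.π.app j) Q)
    (hu : (Over.pullback (c.π.app i₁)).map u₁ =
      (compIso (c.π.app i₁) (D.map f₁) (c.π.app j) (c.w f₁) P).hom ≫ u ≫
        (compIso (c.π.app i₁) (D.map f₁) (c.π.app j) (c.w f₁) Q).inv) :
    (Over.pullback (c.π.app i₂)).map (refineHom D f₁ g u₁) =
      (compIso (c.π.app i₂) (D.map (g ≫ f₁)) (c.π.app j) (c.w (g ≫ f₁)) P).hom ≫ u ≫
        (compIso (c.π.app i₂) (D.map (g ≫ f₁)) (c.π.app j) (c.w (g ≫ f₁)) Q).inv := by
  have cohP := compIso_coherence (c.π.app i₂) (D.map g) (D.map f₁) (D.map (g ≫ f₁)) (c.π.app j)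
    (c.π.app i₁) (D.map_comp g f₁).symm (c.w (g ≫ f₁)) (c.w g) (c.w f₁) P
  have cohQ := compIso_coherence (c.π.app i₂) (D.map g) (D.map f₁) (D.map (g ≫ f₁)) (c.π.app j)
    (c.π.app i₁) (D.map_comp g f₁).symm (c.w (g ≫ f₁)) (c.w g) (c.w f₁) Q
  have nat := compIso_naturality (c.w g) u₁
  have hu' : (Over.pullback (c.π.app i₁)).map u₁ ≫
      (compIso (c.π.app i₁) (D.map f₁) (c.π.app j) (c.w f₁) Q).hom =
      (compIso (c.π.app i₁) (D.map f₁) (c.π.app j) (c.w f₁) P).hom ≫ u := by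
    rw [hu, Category.assoc, Category.assoc, Iso.inv_hom_id, Category.comp_id]
  have hσ : (Over.pullback (c.π.app i₂)).map
      (compIso (D.map g) (D.map f₁) (D.map (g ≫ f₁)) (D.map_comp g f₁).symm P).inv ≫
      (compIso (c.π.app i₂) (D.map g) (c.π.app i₁) (c.w g) (Red.bc (D.map f₁) P)).hom ≫
      (compIso (c.π.app i₁) (D.map f₁) (c.π.app j) (c.w f₁) P).hom =
      (compIso (c.π.app i₂) (D.map (g ≫ f₁)) (c.π.app j) (c.w (g ≫ f₁)) P).hom := by
    rw [← cohP, ← Category.assoc, ← (Over.pullback (c.π.app i₂)).map_comp, Iso.inv_hom_id,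
      CategoryTheory.Functor.map_id, Category.id_comp]
  rw [← Category.assoc, Iso.eq_comp_inv]
  unfold refineHom
  calc (Over.pullback (c.π.app i₂)).map
        ((compIso (D.map g) (D.map f₁) (D.map (g ≫ f₁)) (D.map_comp g f₁).symm P).inv ≫
          (Over.pullback (D.map g)).map u₁ ≫
          (compIso (D.map g) (D.map f₁) (D.map (g ≫ f₁)) (D.map_comp g f₁).symm Q).hom) ≫
        (compIso (c.π.app i₂) (D.map (g ≫ f₁)) (c.π.app j) (c.w (g ≫ f₁)) Q).hom
      = (Over.pullback (c.π.app i₂)).map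
          (compIso (D.map g) (D.map f₁) (D.map (g ≫ f₁)) (D.map_comp g f₁).symm P).inv ≫
        (Over.pullback (c.π.app i₂)).map ((Over.pullback (D.map g)).map u₁) ≫
        ((Over.pullback (c.π.app i₂)).map
          (compIso (D.map g) (D.map f₁) (D.map (g ≫ f₁)) (D.map_comp g f₁).symm Q).hom ≫
        (compIso (c.π.app i₂) (D.map (g ≫ f₁)) (c.π.app j) (c.w (g ≫ f₁)) Q).hom) := by
        rw [(Over.pullback (c.π.app i₂)).map_comp, (Over.pullback (c.π.app i₂)).map_comp,
          Category.assoc, Category.assoc]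
    _ = (Over.pullback (c.π.app i₂)).map
          (compIso (D.map g) (D.map f₁) (D.map (g ≫ f₁)) (D.map_comp g f₁).symm P).inv ≫
        ((Over.pullback (c.π.app i₂)).map ((Over.pullback (D.map g)).map u₁) ≫
        (compIso (c.π.app i₂) (D.map g) (c.π.app i₁) (c.w g) (Red.bc (D.map f₁) Q)).hom) ≫
        (compIso (c.π.app i₁) (D.map f₁) (c.π.app j) (c.w f₁) Q).hom := by
        rw [cohQ, Category.assoc]
    _ = (Over.pullback (c.π.app i₂)).map
          (compIso (D.map g) (D.map f₁) (D.map (g ≫ f₁)) (D.map_comp g f₁).symm P).inv ≫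
        (compIso (c.π.app i₂) (D.map g) (c.π.app i₁) (c.w g) (Red.bc (D.map f₁) P)).hom ≫
        ((Over.pullback (c.π.app i₁)).map u₁ ≫
        (compIso (c.π.app i₁) (D.map f₁) (c.π.app j) (c.w f₁) Q).hom) := by
        rw [nat, Category.assoc]
    _ = (compIso (c.π.app i₂) (D.map (g ≫ f₁)) (c.π.app j) (c.w (g ≫ f₁)) P).hom ≫ u := by
        rw [hu', ← hσ, Category.assoc, Category.assoc]

end Refine

end Groth.Agent.Lib.helper12.LimOver
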