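import Mathlib
import Groth.Agent.Lib.Helper12.LimOver3

/-!
# Normal and central homomorphisms of group schemes over a cofiltered limit (helper12)

* `NormalPts v`, `CentralPts v`: the pointwise conditions (as in `AlgGrp.IsNormalHom`), `normalPts_iff`,
  `centralPts_iff`: reformulation with the universal point of `G ⊗ N`.
* behaviour under monoidal functors and under conjugation by isomorphisms of group objects.
* `StableProp`: properties of homomorphisms stable under base change and conjugation; `StableProp.of_stage`,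
  `StableProp.persist`.
* `exists_normalPts_stage`, `exists_centralPts_stage`.
-/

set_option autoImplicit false
set_option linter.style.haveILetI false
set_option linter.unusedSectionVars false

universe u
open CategoryTheory CategoryTheory.Limits AlgebraicGeometry MonoidalCategory
  CartesianMonoidalCategory MonObj GrpObj

namespace Groth.Agent.Lib.helper12.LimOver

section Abstract

open Functor.LaxMonoidal Functor.Monoidal
open scoped Obj

variable {C E : Type*} [Category C] [Category E] [CartesianMonoidalCategory C]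
  [CartesianMonoidalCategory E] {N G : C} [GrpObj N] [GrpObj G]

/-- the image of `v` is stable under conjugation, pointwise -/
def NormalPts (v : N ⟶ G) : Prop :=
  ∀ (T : C) (g : T ⟶ G) (n : T ⟶ N), ∃ n' : T ⟶ N, g * (n ≫ v) * g⁻¹ = n' ≫ v

/-- the image of `v` is central, pointwise -/
def CentralPts (v : N ⟶ G) : Prop :=
  ∀ (T : C) (g : T ⟶ G) (n : T ⟶ N), g * (n ≫ v) = (n ≫ v) * g

/-- `(g, n) ↦ g v(n) g⁻¹` -/
def conjHom (v : N ⟶ G) : G ⊗ N ⟶ G := fst G N * (snd G N ≫ v) * (fst G N)⁻¹

/-- `(g, n) ↦ g v(n)` -/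
def commL (v : N ⟶ G) : G ⊗ N ⟶ G := fst G N * (snd G N ≫ v)

/-- `(g, n) ↦ v(n) g` -/
def commR (v : N ⟶ G) : G ⊗ N ⟶ G := (snd G N ≫ v) * fst G N

theorem lift_conjHom (v : N ⟶ G) {T : C} (g : T ⟶ G) (n : T ⟶ N) :
    lift g n ≫ conjHom v = g * (n ≫ v) * g⁻¹ := by
  unfold conjHom
  rw [comp_mul, comp_mul, comp_inv, lift_fst, ← Category.assoc, lift_snd]

theorem lift_commL (v : N ⟶ G) {T : C} (g : T ⟶ G) (n : T ⟶ N) :
    lift g n ≫ commL v = g * (n ≫ v) := by
  unfold commL
  rw [comp_mul, lift_fst, ← Category.assoc, lift_snd]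

theorem lift_commR (v : N ⟶ G) {T : C} (g : T ⟶ G) (n : T ⟶ N) :
    lift g n ≫ commR v = (n ≫ v) * g := by
  unfold commR
  rw [comp_mul, lift_fst, ← Category.assoc, lift_snd]

theorem normalPts_iff (v : N ⟶ G) : NormalPts v ↔ ∃ ν : G ⊗ N ⟶ N, ν ≫ v = conjHom v := by
  constructor
  · intro h
    obtain ⟨n', hn'⟩ := h (G ⊗ N) (fst G N) (snd G N)
    exact ⟨n', hn'.symm⟩
  · rintro ⟨ν, hν⟩ T g n
    refine ⟨lift g n ≫ ν, ?_⟩
    rw [Category.assoc, hν, lift_conjHom]

theorem centralPts_iff (v : N ⟶ G) : CentralPts v ↔ commL v = commR v := by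
  constructor
  · intro h
    exact h (G ⊗ N) (fst G N) (snd G N)
  · intro h T g n
    rw [← lift_commL, ← lift_commR, h]

variable (F : C ⥤ E) [F.Monoidal]

theorem μ_map_conjHom (v : N ⟶ G) : Functor.LaxMonoidal.μ F G N ≫ F.map (conjHom v) = conjHom (F.map v) := by
  unfold conjHom
  rw [Functor.map_mul, Functor.map_mul, Functor.map_inv', comp_mul, comp_mul, comp_inv, μ_fst,
    F.map_comp, μ_snd_assoc]

theorem μ_map_commL (v : N ⟶ G) : Functor.LaxMonoidal.μ F G N ≫ F.map (commL v) = commL (F.map v) := by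
  unfold commL
  rw [Functor.map_mul, comp_mul, μ_fst, F.map_comp, μ_snd_assoc]

theorem μ_map_commR (v : N ⟶ G) : Functor.LaxMonoidal.μ F G N ≫ F.map (commR v) = commR (F.map v) := by
  unfold commR
  rw [Functor.map_mul, comp_mul, μ_fst, F.map_comp, μ_snd_assoc]

theorem normalPts_map (v : N ⟶ G) (h : NormalPts v) : NormalPts (F.map v) := by
  rw [normalPts_iff] at h ⊢
  obtain ⟨ν, hν⟩ := h
  refine ⟨Functor.LaxMonoidal.μ F G N ≫ F.map ν, ?_⟩
  rw [Category.assoc, ← F.map_comp, hν, μ_map_conjHom]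

theorem centralPts_map (v : N ⟶ G) (h : CentralPts v) : CentralPts (F.map v) := by
  rw [centralPts_iff] at h ⊢
  rw [← μ_map_commL, ← μ_map_commR, h]

/-- `F.map v` is normal iff the conjugation morphism factors after applying `F` -/
theorem normalPts_map_iff (v : N ⟶ G) :
    NormalPts (F.map v) ↔ ∃ ν : F.obj (G ⊗ N) ⟶ F.obj N, ν ≫ F.map v = F.map (conjHom v) := by
  rw [normalPts_iff]
  constructor
  · rintro ⟨ν, hν⟩
    refine ⟨inv (Functor.LaxMonoidal.μ F G N) ≫ ν, ?_⟩
    rw [Category.assoc, hν, ← μ_map_conjHom, IsIso.inv_hom_id_assoc]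
  · rintro ⟨ν, hν⟩
    refine ⟨Functor.LaxMonoidal.μ F G N ≫ ν, ?_⟩
    rw [Category.assoc, hν, μ_map_conjHom]

theorem centralPts_map_iff (v : N ⟶ G) :
    CentralPts (F.map v) ↔ F.map (commL v) = F.map (commR v) := by
  rw [centralPts_iff, ← μ_map_commL, ← μ_map_commR, cancel_epi]

variable {N' G' : C} [GrpObj N'] [GrpObj G']

theorem normalPts_conj (v : N ⟶ G) (a : N' ≅ N) (b : G ≅ G') [IsMonHom b.hom]
    (h : NormalPts v) : NormalPts (a.hom ≫ v ≫ b.hom) := by
  intro T g' n'
  obtain ⟨m, hm⟩ := h T (g' ≫ b.inv) (n' ≫ a.hom)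
  refine ⟨m ≫ a.inv, ?_⟩
  have e1 : (m ≫ a.inv) ≫ a.hom ≫ v ≫ b.hom = (m ≫ v) ≫ b.hom := by
    simp
  rw [e1, ← hm, mul_comp, mul_comp, inv_comp]
  simp

theorem centralPts_conj (v : N ⟶ G) (a : N' ≅ N) (b : G ≅ G') [IsMonHom b.hom]
    (h : CentralPts v) : CentralPts (a.hom ≫ v ≫ b.hom) := by
  intro T g' n'
  have hm := h T (g' ≫ b.inv) (n' ≫ a.hom)
  have e := congrArg (fun t => t ≫ b.hom) hm
  simp only [mul_comp] at e
  simpa using e

end Abstract

/-- a property of morphisms between group schemes, stable under base change and under conjugation by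
isomorphisms of group schemes -/
structure StableProp where
  /-- the property -/
  P : ∀ {S : Scheme.{u}} {N G : Over S} [GrpObj N] [GrpObj G], (N ⟶ G) → Prop
  map : ∀ {S S' : Scheme.{u}} (g : S' ⟶ S) {N G : Over S} [GrpObj N] [GrpObj G] (v : N ⟶ G),
    P v → P ((Over.pullback g).map v)
  conj : ∀ {S : Scheme.{u}} {N G N' G' : Over S} [GrpObj N] [GrpObj G] [GrpObj N'] [GrpObj G']
    (v : N ⟶ G) (a : N' ≅ N) (b : G ≅ G') [IsMonHom a.hom] [IsMonHom b.hom], P v → P (a.hom ≫ v ≫ b.hom)

/-- normality as a stable property -/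
def StableProp.normal : StableProp.{u} where
  P v := NormalPts v
  map g _ _ _ _ v h := normalPts_map (Over.pullback g) v h
  conj v a b _ _ h := normalPts_conj v a b h

/-- centrality as a stable property -/
def StableProp.central : StableProp.{u} where
  P v := CentralPts v
  map g _ _ _ _ v h := centralPts_map (Over.pullback g) v h
  conj v a b _ _ h := centralPts_conj v a b h

/-- being a monomorphism as a stable property -/
def StableProp.mono : StableProp.{u} where
  P v := Mono v
  map g _ _ _ _ v h := by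
    haveI := h
    infer_instance
  conj v a b _ _ h := by
    haveI := h
    infer_instance

/-- conjunction of stable properties -/
def StableProp.and (A B : StableProp.{u}) : StableProp.{u} where
  P v := A.P v ∧ B.P v
  map g _ _ _ _ v h := ⟨A.map g v h.1, B.map g v h.2⟩
  conj v a b _ _ h := ⟨A.conj v a b h.1, B.conj v a b h.2⟩

section Transfer

variable {S S' S'' : Scheme.{u}}

/-- transfer along a factorisation `w ≫ f = g` -/
theorem StableProp.transfer (A : StableProp.{u}) (w : S'' ⟶ S') (f : S' ⟶ S) (g : S'' ⟶ S)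
    (h : w ≫ f = g) {N G : Over S} [GrpObj N] [GrpObj G] (v : N ⟶ G)
    (hv : A.P ((Over.pullback f).map v)) : A.P ((Over.pullback g).map v) := by
  have h1 := A.map w _ hv
  have e : (Over.pullback g).map v = (compIso w f g h N).inv ≫
      (Over.pullback w).map ((Over.pullback f).map v) ≫ (compIso w f g h G).hom := by
    rw [compIso_naturality, Iso.inv_hom_id_assoc]
  rw [e]
  haveI : IsMonHom (compIso w f g h N).symm.hom := isMonHom_compIso_inv h N
  haveI : IsMonHom (compIso w f g h G).hom := isMonHom_compIso_hom h G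
  exact A.conj _ (compIso w f g h N).symm (compIso w f g h G) h1

end Transfer

section Lim

variable {I : Type u} [SmallCategory I] [IsCofiltered I]
  (D : I ⥤ Scheme.{u}) (c : Limits.Cone D) (hc : Limits.IsLimit c)
  [∀ (i i' : I) (f : i ⟶ i'), IsAffineHom (D.map f)]
  [∀ i, CompactSpace (D.obj i)] [∀ i, QuasiSeparatedSpace (D.obj i)]

/-- from a stage to the limit -/
theorem StableProp.of_stage (A : StableProp.{u}) {j i : I} (f : i ⟶ j) {N G : Over (D.obj j)}
    [GrpObj N] [GrpObj G] (v : N ⟶ G) (hv : A.P ((Over.pullback (D.map f)).map v)) :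
    A.P ((Over.pullback (c.π.app j)).map v) :=
  A.transfer (c.π.app i) (D.map f) (c.π.app j) (c.w f) v hv

/-- from a stage to a later stage -/
theorem StableProp.persist (A : StableProp.{u}) {j i i' : I} (f : i ⟶ j) (k : i' ⟶ i) (f' : i' ⟶ j)
    (hk : k ≫ f = f') {N G : Over (D.obj j)}
    [GrpObj N] [GrpObj G] (v : N ⟶ G) (hv : A.P ((Over.pullback (D.map f)).map v)) :
    A.P ((Over.pullback (D.map f')).map v) :=
  A.transfer (D.map k) (D.map f) (D.map f') (by rw [← D.map_comp, hk]) v hv

/-- two stable properties which hold at (possibly different) stages hold at a common stage -/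
theorem StableProp.exists_common (A B : StableProp.{u}) {j i₁ i₂ : I} (f₁ : i₁ ⟶ j) (f₂ : i₂ ⟶ j)
    {N G : Over (D.obj j)} [GrpObj N] [GrpObj G] (v : N ⟶ G)
    (h₁ : A.P ((Over.pullback (D.map f₁)).map v)) (h₂ : B.P ((Over.pullback (D.map f₂)).map v)) :
    ∃ (i : I) (f : i ⟶ j), A.P ((Over.pullback (D.map f)).map v) ∧
      B.P ((Over.pullback (D.map f)).map v) := by
  obtain ⟨i₃, k₁, k₂, hk⟩ := IsCofiltered.cospan f₁ f₂
  exact ⟨i₃, k₁ ≫ f₁, A.persist D f₁ k₁ _ rfl v h₁, B.persist D f₂ k₂ _ hk.symm v h₂⟩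

include hc in
theorem exists_centralPts_stage (j : I) (N G : Over (D.obj j)) [GrpObj N] [GrpObj G] [FP N] [FP G]
    (v : N ⟶ G) (h : CentralPts ((Over.pullback (c.π.app j)).map v)) :
    ∃ (i : I) (f : i ⟶ j), CentralPts ((Over.pullback (D.map f)).map v) := by
  rw [centralPts_map_iff] at h
  obtain ⟨i, f, hf⟩ := exists_map_eq D c hc j (G ⊗ N) G (commL v) (commR v) h
  exact ⟨i, f, (centralPts_map_iff _ v).mpr hf⟩

include hc in
theorem exists_normalPts_stage (j : I) (N G : Over (D.obj j)) [GrpObj N] [GrpObj G] [FP N] [FP G]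
    (v : N ⟶ G) (h : NormalPts ((Over.pullback (c.π.app j)).map v)) :
    ∃ (i : I) (f : i ⟶ j), NormalPts ((Over.pullback (D.map f)).map v) := by
  rw [normalPts_map_iff] at h
  obtain ⟨ν, hν⟩ := h
  obtain ⟨i₁, f₁, ν₁, hν₁⟩ := exists_map_descend D c hc j (G ⊗ N) N ν
  -- the two morphisms at stage `i₁`
  have key : (Over.pullback (c.π.app i₁)).map (ν₁ ≫ (Over.pullback (D.map f₁)).map v) =
      (Over.pullback (c.π.app i₁)).map ((Over.pullback (D.map f₁)).map (conjHom v)) := by
    rw [Functor.map_comp, hν₁, compIso_conj (c.w f₁) v, compIso_conj (c.w f₁) (conjHom v)]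
    simp only [Category.assoc, Iso.inv_hom_id_assoc]
    rw [← Category.assoc ν, hν]
  obtain ⟨i₂, g, hg⟩ := exists_map_eq D c hc i₁ _ _ _ _ key
  refine ⟨i₂, g ≫ f₁, ?_⟩
  -- normality of `F_g (F_{f₁} v)`, then transfer
  have h1 : NormalPts ((Over.pullback (D.map g)).map ((Over.pullback (D.map f₁)).map v)) := by
    rw [normalPts_iff]
    refine ⟨Functor.LaxMonoidal.μ (Over.pullback (D.map g)) _ _ ≫
      (Over.pullback (D.map g)).map (Functor.LaxMonoidal.μ (Over.pullback (D.map f₁)) G N ≫ ν₁), ?_⟩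
    rw [← μ_map_conjHom (Over.pullback (D.map g)), ← μ_map_conjHom (Over.pullback (D.map f₁)) v,
      Category.assoc, ← (Over.pullback (D.map g)).map_comp, Category.assoc,
      (Over.pullback (D.map g)).map_comp, hg, ← (Over.pullback (D.map g)).map_comp]
  have e : (Over.pullback (D.map (g ≫ f₁))).map v =
      (compIso (D.map g) (D.map f₁) (D.map (g ≫ f₁)) (D.map_comp g f₁).symm N).inv ≫
      (Over.pullback (D.map g)).map ((Over.pullback (D.map f₁)).map v) ≫
      (compIso (D.map g) (D.map f₁) (D.map (g ≫ f₁)) (D.map_comp g f₁).symm G).hom := by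
    rw [compIso_naturality, Iso.inv_hom_id_assoc]
  rw [e]
  haveI := isMonHom_compIso_hom (D.map_comp g f₁).symm G
  exact normalPts_conj _ (compIso (D.map g) (D.map f₁) (D.map (g ≫ f₁)) (D.map_comp g f₁).symm N).symm
    (compIso (D.map g) (D.map f₁) (D.map (g ≫ f₁)) (D.map_comp g f₁).symm G) h1

end Lim

end Groth.Agent.Lib.helper12.LimOver
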