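import Mathlib
import Groth.Agent.Lib.Helper12.LimOver4
import Groth.Agent.S2579
import Groth.Agent.S2581
import Groth.Agent.S2075

/-!
# Descent of monomorphisms, flat and surjective morphisms to a stage, in `Over` form (helper12)

* `isPullback_map_left`: the canonical pullback tower of `(Over.pullback φ).map v`.
* `tower_transfer`: a property of morphisms respecting isomorphisms which holds for one pullback tower holds for
  the canonical one.
* `exists_mono_stage`, `exists_flat_stage`, `exists_surjective_stage`.
-/

set_option autoImplicit false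
set_option linter.style.haveILetI false
set_option linter.unusedSectionVars false

universe u
open CategoryTheory CategoryTheory.Limits AlgebraicGeometry MonoidalCategory
  CartesianMonoidalCategory MonObj

namespace Groth.Agent.Lib.helper12.LimOver

section Tower

variable {S S' : Scheme.{u}}

/-- the canonical pullback square computing the base change of a morphism of `Over S` -/
theorem isPullback_map_left (φ : S' ⟶ S) {P Q : Over S} (v : P ⟶ Q) :
    IsPullback (pullback.fst P.hom φ) ((Over.pullback φ).map v).left v.left (pullback.fst Q.hom φ) := by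
  have s : IsPullback (pullback.fst P.hom φ) (((Over.pullback φ).map v).left ≫ pullback.snd Q.hom φ)
      (v.left ≫ Q.hom) φ := by
    rw [pullback_map_left_snd, Over.w]
    exact IsPullback.of_hasPullback _ _
  exact IsPullback.of_bot s (pullback_map_left_fst φ v).symm (IsPullback.of_hasPullback Q.hom φ)

/-- a property of morphisms respecting isomorphisms which holds in one pullback tower holds in the canonical one -/
theorem tower_transfer (W : MorphismProperty Scheme.{u}) [W.RespectsIso] (φ : S' ⟶ S) {P Q : Over S}
    (v : P ⟶ Q) {Xi Yi : Scheme.{u}} (fi : Xi ⟶ Yi) (gi : Yi ⟶ S') (pY : Yi ⟶ Q.left)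
    (pX : Xi ⟶ P.left) (hY : IsPullback pY gi Q.hom φ) (hX : IsPullback pX fi v.left pY)
    (h : W fi) : W ((Over.pullback φ).map v).left := by
  let eY : Yi ≅ pullback Q.hom φ := hY.isoIsPullback _ _ (IsPullback.of_hasPullback Q.hom φ)
  have heY : eY.hom ≫ pullback.fst Q.hom φ = pY := hY.isoIsPullback_hom_fst _ _ _
  have hX' : IsPullback pX (fi ≫ eY.hom) v.left (pullback.fst Q.hom φ) := by
    refine hX.of_iso (Iso.refl _) (Iso.refl _) eY (Iso.refl _) ?_ ?_ ?_ ?_
    · simp
    · simp
    · simp
    · simp [heY]
  let eX : Xi ≅ pullback P.hom φ := hX'.isoIsPullback _ _ (isPullback_map_left φ v)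
  have heX : eX.hom ≫ ((Over.pullback φ).map v).left = fi ≫ eY.hom :=
    hX'.isoIsPullback_hom_snd _ _ _
  have e : ((Over.pullback φ).map v).left = eX.inv ≫ fi ≫ eY.hom := by
    rw [← heX, Iso.inv_hom_id_assoc]
  rw [e]
  exact (W.cancel_left_of_respectsIso _ _).mpr ((W.cancel_right_of_respectsIso _ _).mpr h)

end Tower

section Lim

variable {I : Type u} [SmallCategory I] [IsCofiltered I]
  (D : I ⥤ Scheme.{u}) (c : Limits.Cone D) (hc : Limits.IsLimit c)
  [∀ (i i' : I) (f : i ⟶ i'), IsAffineHom (D.map f)]
  [∀ i, CompactSpace (D.obj i)] [∀ i, QuasiSeparatedSpace (D.obj i)]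

include hc in
/-- monomorphisms descend to a stage -/
theorem exists_mono_stage (j : I) (P Q : Over (D.obj j)) [FP P] [FP Q] (v : P ⟶ Q)
    (h : Mono ((Over.pullback (c.π.app j)).map v)) :
    ∃ (i : I) (f : i ⟶ j), Mono ((Over.pullback (D.map f)).map v) := by
  haveI : Mono ((Over.pullback (c.π.app j)).map v).left := inferInstance
  haveI : LocallyOfFinitePresentation (v.left ≫ Q.hom) := by rw [Over.w]; infer_instance
  haveI : QuasiCompact (v.left ≫ Q.hom) := by rw [Over.w]; infer_instance
  haveI : QuasiSeparated (v.left ≫ Q.hom) := by rw [Over.w]; infer_instance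
  obtain ⟨i, φ, Xi, Yi, fi, gi, pY, pX, hY, hX, hfi⟩ := Groth.Agent.S2579.result D c hc j v.left Q.hom
    ((Over.pullback (c.π.app j)).map v).left (pullback.snd Q.hom (c.π.app j))
    (pullback.fst Q.hom (c.π.app j)) (pullback.fst P.hom (c.π.app j))
    (IsPullback.of_hasPullback _ _) (isPullback_map_left _ v)
  refine ⟨i, φ, ?_⟩
  haveI : Mono ((Over.pullback (D.map φ)).map v).left :=
    tower_transfer (MorphismProperty.monomorphisms Scheme.{u}) (D.map φ) v fi gi pY pX hY hX
      (MorphismProperty.monomorphisms.infer_property fi)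
  exact Over.mono_of_mono_left _

include hc in
/-- surjective morphisms descend to a stage -/
theorem exists_surjective_stage (j : I) (P Q : Over (D.obj j)) [FP P] [FP Q] (v : P ⟶ Q)
    (h : Surjective ((Over.pullback (c.π.app j)).map v).left) :
    ∃ (i : I) (f : i ⟶ j), Surjective ((Over.pullback (D.map f)).map v).left := by
  haveI : LocallyOfFinitePresentation (v.left ≫ Q.hom) := by rw [Over.w]; infer_instance
  haveI : QuasiCompact (v.left ≫ Q.hom) := by rw [Over.w]; infer_instance
  haveI : QuasiSeparated (v.left ≫ Q.hom) := by rw [Over.w]; infer_instance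
  obtain ⟨i, φ, Xi, Yi, fi, gi, pY, pX, hY, hX, hfi⟩ := Groth.Agent.S2581.result D c hc j v.left Q.hom
    ((Over.pullback (c.π.app j)).map v).left (pullback.snd Q.hom (c.π.app j))
    (pullback.fst Q.hom (c.π.app j)) (pullback.fst P.hom (c.π.app j))
    (IsPullback.of_hasPullback _ _) (isPullback_map_left _ v)
  exact ⟨i, φ, tower_transfer @Surjective (D.map φ) v fi gi pY pX hY hX hfi⟩

include hc in
/-- flat morphisms descend to a stage -/
theorem exists_flat_stage (j : I) (P Q : Over (D.obj j)) [FP P] [FP Q] (v : P ⟶ Q)
    (h : Flat ((Over.pullback (c.π.app j)).map v).left) :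
    ∃ (i : I) (f : i ⟶ j), Flat ((Over.pullback (D.map f)).map v).left := by
  haveI : CompactSpace P.left := QuasiCompact.compactSpace_of_compactSpace P.hom
  haveI : QuasiSeparatedSpace P.left := quasiSeparatedSpace_of_quasiSeparated P.hom
  haveI : CompactSpace Q.left := QuasiCompact.compactSpace_of_compactSpace Q.hom
  haveI : QuasiSeparatedSpace Q.left := quasiSeparatedSpace_of_quasiSeparated Q.hom
  haveI : LocallyOfFinitePresentation (v.left ≫ Q.hom) := by rw [Over.w]; infer_instance
  haveI : LocallyOfFinitePresentation v.left :=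
    Groth.Agent.Lib.helper7.locallyOfFinitePresentation_of_comp v.left Q.hom
  obtain ⟨i, φ, Xi, Yi, fi, gi, pY, pX, hY, hX, hfi⟩ := Groth.Agent.S2075.result D c hc j v.left Q.hom
    ((Over.pullback (c.π.app j)).map v).left (pullback.snd Q.hom (c.π.app j))
    (pullback.fst Q.hom (c.π.app j)) (pullback.fst P.hom (c.π.app j))
    (IsPullback.of_hasPullback _ _) (isPullback_map_left _ v)
  exact ⟨i, φ, tower_transfer @Flat (D.map φ) v fi gi pY pX hY hX hfi⟩

end Lim

end Groth.Agent.Lib.helper12.LimOver
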