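import Mathlib
import Groth.Agent.Lib.Helper12.LimOver5
import Groth.Agent.S0591

/-!
# Objects, isomorphisms and fppf coverings over a cofiltered limit, in `Over` form (helper12)

* `exists_obj_descend`: an object of finite presentation over the limit comes from a stage.
* `isIso_map_transfer`, `exists_isIso_stage`: isomorphisms descend to a stage.
* `prop_hom_transfer`, `exists_flat_hom_stage`, `exists_surjective_hom_stage`: flatness / surjectivity of structure
  morphisms.
* `FppfCover`, `fppfCover_transfer`, `exists_fppfCover_stage`.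
* `isIso_torsor_lift_iff`: the shear morphism and monoidal functors.
-/

set_option autoImplicit false
set_option linter.style.haveILetI false
set_option linter.unusedSectionVars false

universe u
open CategoryTheory CategoryTheory.Limits AlgebraicGeometry MonoidalCategory
  CartesianMonoidalCategory MonObj

namespace Groth.Agent.Lib.helper12.LimOver

section Abstract

open Functor.LaxMonoidal Functor.Monoidal

variable {C E : Type*} [Category C] [Category E] [CartesianMonoidalCategory C]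
  [CartesianMonoidalCategory E] (F : C ⥤ E) [F.Monoidal] {G X : C}

theorem torsor_lift_μ (a : G ⊗ X ⟶ X) :
    lift (Functor.LaxMonoidal.μ F G X ≫ F.map a) (snd (F.obj G) (F.obj X)) ≫
      Functor.LaxMonoidal.μ F X X =
    Functor.LaxMonoidal.μ F G X ≫ F.map (lift a (snd G X)) := by
  rw [← μ_snd F G X, ← comp_lift, Category.assoc, lift_μ]

theorem isIso_torsor_lift_iff (a : G ⊗ X ⟶ X) :
    IsIso (lift (Functor.LaxMonoidal.μ F G X ≫ F.map a) (snd (F.obj G) (F.obj X))) ↔
      IsIso (F.map (lift a (snd G X))) := by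
  have h := torsor_lift_μ F a
  constructor
  · intro hi
    have e : F.map (lift a (snd G X)) = inv (Functor.LaxMonoidal.μ F G X) ≫
        lift (Functor.LaxMonoidal.μ F G X ≫ F.map a) (snd (F.obj G) (F.obj X)) ≫
          Functor.LaxMonoidal.μ F X X := by
      rw [h, IsIso.inv_hom_id_assoc]
    rw [e]
    infer_instance
  · intro hi
    have e : lift (Functor.LaxMonoidal.μ F G X ≫ F.map a) (snd (F.obj G) (F.obj X)) =
        Functor.LaxMonoidal.μ F G X ≫ F.map (lift a (snd G X)) ≫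
          inv (Functor.LaxMonoidal.μ F X X) := by
      rw [← Category.assoc, ← h, Category.assoc, IsIso.hom_inv_id, Category.comp_id]
    rw [e]
    infer_instance

end Abstract

section Transfer

variable {S S' S'' : Scheme.{u}}

theorem isIso_map_transfer (w : S'' ⟶ S') (f : S' ⟶ S) (g : S'' ⟶ S) (h : w ≫ f = g)
    {P Q : Over S} (v : P ⟶ Q) (hv : IsIso ((Over.pullback f).map v)) :
    IsIso ((Over.pullback g).map v) := by
  have e : (Over.pullback g).map v = (compIso w f g h P).inv ≫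
      (Over.pullback w).map ((Over.pullback f).map v) ≫ (compIso w f g h Q).hom := by
    rw [compIso_naturality, Iso.inv_hom_id_assoc]
  rw [e]
  infer_instance

/-- a property of morphisms stable under base change passes from the structure morphism of a base change to
that of a further base change -/
theorem prop_hom_transfer (P : MorphismProperty Scheme.{u}) [P.IsStableUnderBaseChange]
    (w : S'' ⟶ S') (f : S' ⟶ S) (g : S'' ⟶ S) (h : w ≫ f = g) (W : Over S)
    (hW : P (Red.bc f W).hom) : P (Red.bc g W).hom := by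
  have h1 : P (Red.bc w (Red.bc f W)).hom := P.pullback_snd _ _ hW
  have e : (Red.bc g W).hom = (compIso w f g h W).inv.left ≫ (Red.bc w (Red.bc f W)).hom :=
    (Over.w (compIso w f g h W).inv).symm
  rw [e]
  exact (P.cancel_left_of_respectsIso _ _).mpr h1

theorem hom_eq_left_toUnit (φ : S' ⟶ S) (W : Over S) :
    ((Over.pullback φ).map (toUnit W)).left ≫ pullback.snd (𝟙_ (Over S)).hom φ = (Red.bc φ W).hom :=
  pullback_map_left_snd φ (toUnit W)

theorem prop_hom_iff_left (P : MorphismProperty Scheme.{u}) [P.RespectsIso] (φ : S' ⟶ S)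
    (W : Over S) : P (Red.bc φ W).hom ↔ P ((Over.pullback φ).map (toUnit W)).left := by
  rw [← hom_eq_left_toUnit]
  haveI : IsIso (pullback.snd (𝟙_ (Over S)).hom φ) :=
    inferInstanceAs (IsIso (pullback.snd (𝟙 S) φ))
  exact P.cancel_right_of_respectsIso _ _

/-- the structure morphism is covering for the fppf topology -/
def FppfCover {T : Scheme.{u}} (Y : Over T) : Prop :=
  ∃ (Z : Scheme.{u}) (v : Z ⟶ T) (w : Z ⟶ Y.left), w ≫ Y.hom = v ∧
    Flat v ∧ Surjective v ∧ LocallyOfFinitePresentation v ∧ QuasiCompact v ∧ QuasiSeparated v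

theorem fppfCover_iff {T : Scheme.{u}} (Y : Over T) :
    FppfCover Y ↔ ∃ (Z : Over T) (_ : Z ⟶ Y), Flat Z.hom ∧ Surjective Z.hom ∧ FP Z := by
  constructor
  · rintro ⟨Z, v, w, hw, h1, h2, h3, h4, h5⟩
    exact ⟨Over.mk v, Over.homMk w hw, h1, h2, ⟨h3, h4, h5⟩⟩
  · rintro ⟨Z, m, h1, h2, h3⟩
    exact ⟨Z.left, Z.hom, m.left, Over.w m, h1, h2, h3.lfp, h3.qc, h3.qs⟩

theorem fppfCover_of_iso {T : Scheme.{u}} {Y Y' : Over T} (e : Y ≅ Y') (h : FppfCover Y) :
    FppfCover Y' := by
  rw [fppfCover_iff] at h ⊢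
  obtain ⟨Z, m, h1, h2, h3⟩ := h
  exact ⟨Z, m ≫ e.hom, h1, h2, h3⟩

theorem fppfCover_bc {T T' : Scheme.{u}} (ψ : T' ⟶ T) {Y : Over T} (h : FppfCover Y) :
    FppfCover (Red.bc ψ Y) := by
  rw [fppfCover_iff] at h ⊢
  obtain ⟨Z, m, h1, h2, h3⟩ := h
  refine ⟨Red.bc ψ Z, (Over.pullback ψ).map m, ?_, ?_, inferInstance⟩
  · exact inferInstanceAs (Flat (pullback.snd Z.hom ψ))
  · exact inferInstanceAs (Surjective (pullback.snd Z.hom ψ))

theorem fppfCover_transfer (w : S'' ⟶ S') (f : S' ⟶ S) (g : S'' ⟶ S) (h : w ≫ f = g) (X : Over S)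
    (hX : FppfCover (Red.bc f X)) : FppfCover (Red.bc g X) :=
  fppfCover_of_iso (compIso w f g h X) (fppfCover_bc w hX)

end Transfer

section Lim

variable {I : Type u} [SmallCategory I] [IsCofiltered I]
  (D : I ⥤ Scheme.{u}) (c : Limits.Cone D) (hc : Limits.IsLimit c)
  [∀ (i i' : I) (f : i ⟶ i'), IsAffineHom (D.map f)]
  [∀ i, CompactSpace (D.obj i)] [∀ i, QuasiSeparatedSpace (D.obj i)]

include hc in
/-- an object of finite presentation over the limit comes from a stage -/
theorem exists_obj_descend (Z : Over c.pt) [FP Z] :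
    ∃ (i : I) (Zi : Over (D.obj i)) (_ : FP Zi), Nonempty (Z ≅ Red.bc (c.π.app i) Zi) := by
  obtain ⟨i, Xi, fi, g, h1, h2, h3, hpb⟩ := Groth.Agent.S0591.result D c hc Z.left Z.hom
  refine ⟨i, Over.mk fi, ⟨h1, h2, h3⟩, ⟨Over.isoMk hpb.isoPullback ?_⟩⟩
  exact hpb.isoPullback_hom_snd

include hc in
/-- isomorphisms descend to a stage -/
theorem exists_isIso_stage (j : I) (P Q : Over (D.obj j)) [FP P] [FP Q] (v : P ⟶ Q)
    (h : IsIso ((Over.pullback (c.π.app j)).map v)) :
    ∃ (i : I) (f : i ⟶ j), IsIso ((Over.pullback (D.map f)).map v) := by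
  obtain ⟨i₁, f₁, w₁, hw₁⟩ := exists_map_descend D c hc j Q P
    (inv ((Over.pullback (c.π.app j)).map v))
  have k1 : (Over.pullback (c.π.app i₁)).map (w₁ ≫ (Over.pullback (D.map f₁)).map v) =
      (Over.pullback (c.π.app i₁)).map (𝟙 _) := by
    rw [(Over.pullback (c.π.app i₁)).map_comp, hw₁, compIso_conj (c.w f₁) v]
    simp
  have k2 : (Over.pullback (c.π.app i₁)).map ((Over.pullback (D.map f₁)).map v ≫ w₁) =
      (Over.pullback (c.π.app i₁)).map (𝟙 _) := by
    rw [(Over.pullback (c.π.app i₁)).map_comp, hw₁, compIso_conj (c.w f₁) v]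
    simp
  obtain ⟨i₂, g, hg1, hg2⟩ := exists_map_eq₂ D c hc i₁ _ _ _ _ k1 k2
  refine ⟨i₂, g ≫ f₁, ?_⟩
  have h3 : IsIso ((Over.pullback (D.map g)).map ((Over.pullback (D.map f₁)).map v)) := by
    refine ⟨(Over.pullback (D.map g)).map w₁, ?_, ?_⟩
    · rw [← (Over.pullback (D.map g)).map_comp, hg2, CategoryTheory.Functor.map_id]
    · rw [← (Over.pullback (D.map g)).map_comp, hg1, CategoryTheory.Functor.map_id]
  have e : (Over.pullback (D.map (g ≫ f₁))).map v =
      (compIso (D.map g) (D.map f₁) (D.map (g ≫ f₁)) (D.map_comp g f₁).symm P).inv ≫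
      (Over.pullback (D.map g)).map ((Over.pullback (D.map f₁)).map v) ≫
      (compIso (D.map g) (D.map f₁) (D.map (g ≫ f₁)) (D.map_comp g f₁).symm Q).hom := by
    rw [compIso_naturality, Iso.inv_hom_id_assoc]
  rw [e]
  infer_instance

include hc in
theorem exists_flat_hom_stage (i : I) (W : Over (D.obj i)) [FP W]
    (h : Flat (Red.bc (c.π.app i) W).hom) :
    ∃ (i' : I) (g : i' ⟶ i), Flat (Red.bc (D.map g) W).hom := by
  rw [prop_hom_iff_left @Flat] at h
  obtain ⟨i', g, hg⟩ := exists_flat_stage D c hc i W (𝟙_ _) (toUnit W) h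
  exact ⟨i', g, (prop_hom_iff_left @Flat _ _).mpr hg⟩

include hc in
theorem exists_surjective_hom_stage (i : I) (W : Over (D.obj i)) [FP W]
    (h : Surjective (Red.bc (c.π.app i) W).hom) :
    ∃ (i' : I) (g : i' ⟶ i), Surjective (Red.bc (D.map g) W).hom := by
  rw [prop_hom_iff_left @Surjective] at h
  obtain ⟨i', g, hg⟩ := exists_surjective_stage D c hc i W (𝟙_ _) (toUnit W) h
  exact ⟨i', g, (prop_hom_iff_left @Surjective _ _).mpr hg⟩

include hc in
/-- flatness and surjectivity of the structure morphism descend simultaneously -/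
theorem exists_flat_surjective_hom_stage (i : I) (W : Over (D.obj i)) [FP W]
    (h1 : Flat (Red.bc (c.π.app i) W).hom) (h2 : Surjective (Red.bc (c.π.app i) W).hom) :
    ∃ (i' : I) (g : i' ⟶ i), Flat (Red.bc (D.map g) W).hom ∧ Surjective (Red.bc (D.map g) W).hom := by
  obtain ⟨i₁, g₁, hf₁⟩ := exists_flat_hom_stage D c hc i W h1
  obtain ⟨i₂, g₂, hf₂⟩ := exists_surjective_hom_stage D c hc i W h2
  obtain ⟨i₃, t₁, t₂, ht⟩ := IsCofiltered.cospan g₁ g₂
  refine ⟨i₃, t₁ ≫ g₁, ?_, ?_⟩
  · exact prop_hom_transfer @Flat (D.map t₁) (D.map g₁) _ (D.map_comp t₁ g₁).symm W hf₁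
  · exact prop_hom_transfer @Surjective (D.map t₂) (D.map g₂) _ (by rw [← D.map_comp, ht]) W hf₂

include hc in
/-- fppf coverings descend to a stage -/
theorem exists_fppfCover_stage (j : I) (X : Over (D.obj j)) [FP X]
    (h : FppfCover (Red.bc (c.π.app j) X)) :
    ∃ (i : I) (f : i ⟶ j), FppfCover (Red.bc (D.map f) X) := by
  rw [fppfCover_iff] at h
  obtain ⟨Z, m, hfl, hsu, hZ⟩ := h
  obtain ⟨i₀, Z₀, hZ₀, ⟨ez⟩⟩ := exists_obj_descend D c hc Z
  obtain ⟨k, a, b, -⟩ : ∃ (k : I) (a : k ⟶ j) (b : k ⟶ i₀), True :=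
    ⟨IsCofiltered.min j i₀, IsCofiltered.minToLeft j i₀, IsCofiltered.minToRight j i₀, trivial⟩
  obtain ⟨k', g, u', -⟩ := exists_map_descend D c hc k (Red.bc (D.map b) Z₀) (Red.bc (D.map a) X)
    ((compIso (c.π.app k) (D.map b) (c.π.app i₀) (c.w b) Z₀).hom ≫ ez.inv ≫ m ≫
      (compIso (c.π.app k) (D.map a) (c.π.app j) (c.w a) X).inv)
  have eZ' : Red.bc (c.π.app k') (Red.bc (D.map g) (Red.bc (D.map b) Z₀)) ≅ Z :=
    compIso (c.π.app k') (D.map g) (c.π.app k) (c.w g) (Red.bc (D.map b) Z₀) ≪≫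
      compIso (c.π.app k) (D.map b) (c.π.app i₀) (c.w b) Z₀ ≪≫ ez.symm
  have hfl' : Flat (Red.bc (c.π.app k') (Red.bc (D.map g) (Red.bc (D.map b) Z₀))).hom := by
    rw [← Over.w eZ'.hom]
    infer_instance
  have hsu' : Surjective (Red.bc (c.π.app k') (Red.bc (D.map g) (Red.bc (D.map b) Z₀))).hom := by
    rw [← Over.w eZ'.hom]
    infer_instance
  obtain ⟨i₃, t, F3, S3⟩ := exists_flat_surjective_hom_stage D c hc k'
    (Red.bc (D.map g) (Red.bc (D.map b) Z₀)) hfl' hsu'
  have C1 : FppfCover (Red.bc (D.map t) (Red.bc (D.map g) (Red.bc (D.map a) X))) :=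
    (fppfCover_iff _).mpr ⟨Red.bc (D.map t) (Red.bc (D.map g) (Red.bc (D.map b) Z₀)),
      (Over.pullback (D.map t)).map u', F3, S3, inferInstance⟩
  have C2 : FppfCover (Red.bc (D.map (t ≫ g)) (Red.bc (D.map a) X)) :=
    fppfCover_of_iso (compIso (D.map t) (D.map g) _ (D.map_comp t g).symm (Red.bc (D.map a) X)) C1
  exact ⟨i₃, (t ≫ g) ≫ a, fppfCover_of_iso
    (compIso (D.map (t ≫ g)) (D.map a) _ (D.map_comp (t ≫ g) a).symm X) C2⟩

end Lim

end Groth.Agent.Lib.helper12.LimOver
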