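import Mathlib

/-!
# Raw group structures in cartesian monoidal categories (helper12)

The operations of a group object without the axioms (`RawGrp`), the axioms as five equations between explicit
morphisms (`RawGrp.IsGrp`), the image under a monoidal functor (`RawGrp.map`), and:
`RawGrp.isGrp_map_iff`: the image structure satisfies the axioms iff the functor equalises the five pairs.
-/

set_option autoImplicit false
set_option linter.style.haveILetI false
set_option linter.unusedSectionVars false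

open CategoryTheory CategoryTheory.Limits MonoidalCategory CartesianMonoidalCategory MonObj

namespace Groth.Agent.Lib.helper12.LimOver

section Raw

variable {C : Type*} [Category C] [CartesianMonoidalCategory C]

/-- the operations of a group object, without the axioms -/
@[ext]
structure RawGrp (X : C) where
  /-- unit -/
  one : 𝟙_ C ⟶ X
  /-- multiplication -/
  mul : X ⊗ X ⟶ X
  /-- inverse -/
  inv : X ⟶ X

namespace RawGrp

variable {X : C} (r : RawGrp X)

/-- left hand side of `one_mul` -/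
def a1L : 𝟙_ C ⊗ X ⟶ X := (r.one ▷ X) ≫ r.mul
/-- left hand side of `mul_one` -/
def a2L : X ⊗ 𝟙_ C ⟶ X := (X ◁ r.one) ≫ r.mul
/-- left hand side of `mul_assoc` -/
def a3L : (X ⊗ X) ⊗ X ⟶ X := (r.mul ▷ X) ≫ r.mul
/-- right hand side of `mul_assoc` -/
def a3R : (X ⊗ X) ⊗ X ⟶ X := (α_ X X X).hom ≫ (X ◁ r.mul) ≫ r.mul
/-- left hand side of `left_inv` -/
def a4L : X ⟶ X := lift r.inv (𝟙 X) ≫ r.mul
/-- left hand side of `right_inv` -/
def a5L : X ⟶ X := lift (𝟙 X) r.inv ≫ r.mul
/-- right hand side of `left_inv` and `right_inv` -/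
def aE : X ⟶ X := toUnit X ≫ r.one

/-- the group axioms -/
structure IsGrp : Prop where
  h1 : r.a1L = (λ_ X).hom
  h2 : r.a2L = (ρ_ X).hom
  h3 : r.a3L = r.a3R
  h4 : r.a4L = r.aE
  h5 : r.a5L = r.aE

/-- a raw structure satisfying the axioms is a group object -/
@[reducible] def toGrpObj (h : r.IsGrp) : GrpObj X where
  one := r.one
  mul := r.mul
  one_mul := h.h1
  mul_one := h.h2
  mul_assoc := h.h3
  inv := r.inv
  left_inv := h.h4
  right_inv := h.h5

/-- the underlying raw structure of a group object -/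
def ofGrpObj (X : C) [GrpObj X] : RawGrp X := ⟨η[X], μ[X], GrpObj.inv⟩

theorem isGrp_ofGrpObj (X : C) [GrpObj X] : (ofGrpObj X).IsGrp :=
  ⟨MonObj.one_mul X, MonObj.mul_one X, MonObj.mul_assoc X, GrpObj.left_inv X, GrpObj.right_inv X⟩

section Map

variable {E : Type*} [Category E] [CartesianMonoidalCategory E] (F : C ⥤ E) [F.Monoidal]

/-- image of a raw structure under a monoidal functor -/
def map : RawGrp (F.obj X) :=
  ⟨Functor.LaxMonoidal.ε F ≫ F.map r.one, Functor.LaxMonoidal.μ F X X ≫ F.map r.mul, F.map r.inv⟩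

theorem a1L_map : (r.map F).a1L =
    (Functor.LaxMonoidal.ε F ▷ F.obj X) ≫ Functor.LaxMonoidal.μ F (𝟙_ C) X ≫ F.map r.a1L := by
  simp only [a1L, map, comp_whiskerRight, Category.assoc, F.map_comp]
  rw [Functor.LaxMonoidal.μ_natural_left_assoc]

theorem a2L_map : (r.map F).a2L =
    (F.obj X ◁ Functor.LaxMonoidal.ε F) ≫ Functor.LaxMonoidal.μ F X (𝟙_ C) ≫ F.map r.a2L := by
  simp only [a2L, map, MonoidalCategory.whiskerLeft_comp, Category.assoc, F.map_comp]
  rw [Functor.LaxMonoidal.μ_natural_right_assoc]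

theorem a3L_map : (r.map F).a3L =
    (Functor.LaxMonoidal.μ F X X ▷ F.obj X) ≫ Functor.LaxMonoidal.μ F (X ⊗ X) X ≫ F.map r.a3L := by
  simp only [a3L, map, comp_whiskerRight, Category.assoc, F.map_comp]
  rw [Functor.LaxMonoidal.μ_natural_left_assoc]

theorem a3R_map : (r.map F).a3R =
    (Functor.LaxMonoidal.μ F X X ▷ F.obj X) ≫ Functor.LaxMonoidal.μ F (X ⊗ X) X ≫ F.map r.a3R := by
  simp only [a3R, map, MonoidalCategory.whiskerLeft_comp, Category.assoc, F.map_comp]
  rw [Functor.LaxMonoidal.μ_natural_right_assoc, Functor.LaxMonoidal.associativity_assoc]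

theorem a4L_map : (r.map F).a4L = F.map r.a4L := by
  simp only [a4L, map, F.map_comp]
  rw [← F.map_id, Functor.Monoidal.lift_μ_assoc]

theorem a5L_map : (r.map F).a5L = F.map r.a5L := by
  simp only [a5L, map, F.map_comp]
  rw [← F.map_id, Functor.Monoidal.lift_μ_assoc]

theorem aE_map : (r.map F).aE = F.map r.aE := by
  simp only [aE, map, F.map_comp]
  rw [Functor.Monoidal.toUnit_ε_assoc]

/-- the image structure satisfies the group axioms iff the functor equalises the five pairs of morphisms -/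
theorem isGrp_map_iff : (r.map F).IsGrp ↔
    (F.map r.a1L = F.map (λ_ X).hom ∧ F.map r.a2L = F.map (ρ_ X).hom ∧ F.map r.a3L = F.map r.a3R ∧
      F.map r.a4L = F.map r.aE ∧ F.map r.a5L = F.map r.aE) := by
  constructor
  · rintro ⟨h1, h2, h3, h4, h5⟩
    refine ⟨?_, ?_, ?_, ?_, ?_⟩
    · rw [a1L_map, Functor.LaxMonoidal.left_unitality F X, cancel_epi, cancel_epi] at h1
      exact h1
    · rw [a2L_map, Functor.LaxMonoidal.right_unitality F X, cancel_epi, cancel_epi] at h2
      exact h2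
    · rw [a3L_map, a3R_map, cancel_epi, cancel_epi] at h3
      exact h3
    · rw [a4L_map, aE_map] at h4
      exact h4
    · rw [a5L_map, aE_map] at h5
      exact h5
  · rintro ⟨h1, h2, h3, h4, h5⟩
    refine ⟨?_, ?_, ?_, ?_, ?_⟩
    · rw [a1L_map, Functor.LaxMonoidal.left_unitality F X, h1]
    · rw [a2L_map, Functor.LaxMonoidal.right_unitality F X, h2]
    · rw [a3L_map, a3R_map, h3]
    · rw [a4L_map, aE_map, h4]
    · rw [a5L_map, aE_map, h5]

end Map

/-- homomorphisms of raw structures (compatibility with unit and multiplication) -/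
structure IsRawHom {X Y : C} (r : RawGrp X) (s : RawGrp Y) (φ : X ⟶ Y) : Prop where
  one : r.one ≫ φ = s.one
  mul : r.mul ≫ φ = (φ ⊗ₘ φ) ≫ s.mul

theorem IsRawHom.comp {X Y Z : C} {r : RawGrp X} {s : RawGrp Y} {t : RawGrp Z} {φ : X ⟶ Y}
    {ψ : Y ⟶ Z} (h₁ : IsRawHom r s φ) (h₂ : IsRawHom s t ψ) : IsRawHom r t (φ ≫ ψ) where
  one := by rw [← Category.assoc, h₁.one, h₂.one]
  mul := by
    rw [← Category.assoc, h₁.mul, Category.assoc, h₂.mul, ← Category.assoc, tensorHom_comp_tensorHom]

theorem isMonHom_of_isRawHom {X Y : C} [GrpObj X] [GrpObj Y] (φ : X ⟶ Y)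
    (h : IsRawHom (ofGrpObj X) (ofGrpObj Y) φ) : IsMonHom φ :=
  ⟨h.one, h.mul⟩

/-- a raw structure isomorphic to one satisfying the axioms satisfies the axioms -/
theorem isGrp_of_iso {Y Z : C} (φ : Y ≅ Z) (r : RawGrp Y) (s : RawGrp Z) (hs : s.IsGrp)
    (h1 : r.one ≫ φ.hom = s.one) (h2 : r.mul ≫ φ.hom = (φ.hom ⊗ₘ φ.hom) ≫ s.mul)
    (h3 : r.inv ≫ φ.hom = φ.hom ≫ s.inv) : r.IsGrp := by
  letI : GrpObj Z := s.toGrpObj hs
  letI : GrpObj Y := GrpObj.ofIso φ.symm
  have e : r = ofGrpObj Y := by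
    ext
    · show r.one = s.one ≫ φ.symm.hom
      rw [← h1, Category.assoc, Iso.symm_hom, Iso.hom_inv_id, Category.comp_id]
    · show r.mul = (φ.symm.inv ⊗ₘ φ.symm.inv) ≫ s.mul ≫ φ.symm.hom
      rw [Iso.symm_inv, Iso.symm_hom, ← Category.assoc, ← h2, Category.assoc, Iso.hom_inv_id,
        Category.comp_id]
    · show r.inv = φ.symm.inv ≫ s.inv ≫ φ.symm.hom
      rw [Iso.symm_inv, Iso.symm_hom, ← Category.assoc, ← h3, Category.assoc, Iso.hom_inv_id,
        Category.comp_id]
  rw [e]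
  exact isGrp_ofGrpObj Y

end RawGrp

end Raw

end Groth.Agent.Lib.helper12.LimOver
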