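import Mathlib
import Groth.Agent.Lib.Helper12.LimOver6
import Groth.Agent.Lib.Helper12.LimOver7

/-!
# Descent of group structures to a stage of a cofiltered limit (helper12)

* `compIso_μ`, `compIso_ε`: the canonical isomorphisms `compIso` are monoidal.
* `isRawHom_compIso`.
* `Persists`, `exists_common`, `Desc`, `EqAt`: predicates on the stages which persist at later stages.
* `exists_grp_descend`: a group scheme of finite presentation over the limit comes from a stage.
-/

set_option autoImplicit false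
set_option linter.style.haveILetI false
set_option linter.unusedSectionVars false

universe u
open CategoryTheory CategoryTheory.Limits AlgebraicGeometry MonoidalCategory
  CartesianMonoidalCategory MonObj

namespace Groth.Agent.Lib.helper12.LimOver

section MonCompIso

variable {S S' S'' : Scheme.{u}} {w : S'' ⟶ S'} {f : S' ⟶ S} {g : S'' ⟶ S} (h : w ≫ f = g)

@[reassoc]
theorem compIso_μ (X Y : Over S) :
    Functor.LaxMonoidal.μ (Over.pullback w) (Red.bc f X) (Red.bc f Y) ≫
      (Over.pullback w).map (Functor.LaxMonoidal.μ (Over.pullback f) X Y) ≫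
        (compIso w f g h (X ⊗ Y)).hom =
    ((compIso w f g h X).hom ⊗ₘ (compIso w f g h Y).hom) ≫
      Functor.LaxMonoidal.μ (Over.pullback g) X Y := by
  rw [← cancel_mono (Functor.OplaxMonoidal.δ (Over.pullback g) X Y)]
  apply CartesianMonoidalCategory.hom_ext
  · simp only [Category.assoc, Functor.OplaxMonoidal.δ_fst]
    rw [← compIso_naturality h (fst X Y), ← (Over.pullback w).map_comp_assoc,
      Functor.Monoidal.μ_fst, Functor.Monoidal.μ_fst_assoc, Functor.Monoidal.μ_fst, tensorHom_fst]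
  · simp only [Category.assoc, Functor.OplaxMonoidal.δ_snd]
    rw [← compIso_naturality h (snd X Y), ← (Over.pullback w).map_comp_assoc,
      Functor.Monoidal.μ_snd, Functor.Monoidal.μ_snd_assoc, Functor.Monoidal.μ_snd, tensorHom_snd]

@[reassoc]
theorem compIso_ε :
    Functor.LaxMonoidal.ε (Over.pullback w) ≫
      (Over.pullback w).map (Functor.LaxMonoidal.ε (Over.pullback f)) ≫
        (compIso w f g h (𝟙_ (Over S))).hom =
    Functor.LaxMonoidal.ε (Over.pullback g) := by
  rw [← cancel_mono (Functor.OplaxMonoidal.η (Over.pullback g))]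
  exact toUnit_unique _ _

theorem isRawHom_compIso {X : Over S} (r : RawGrp X) :
    RawGrp.IsRawHom ((r.map (Over.pullback f)).map (Over.pullback w)) (r.map (Over.pullback g))
      (compIso w f g h X).hom where
  one := by
    show (Functor.LaxMonoidal.ε (Over.pullback w) ≫ (Over.pullback w).map
      (Functor.LaxMonoidal.ε (Over.pullback f) ≫ (Over.pullback f).map r.one)) ≫
        (compIso w f g h X).hom = Functor.LaxMonoidal.ε (Over.pullback g) ≫ (Over.pullback g).map r.one
    rw [(Over.pullback w).map_comp, Category.assoc, Category.assoc, compIso_naturality h r.one,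
      compIso_ε_assoc h]
  mul := by
    show (Functor.LaxMonoidal.μ (Over.pullback w) _ _ ≫ (Over.pullback w).map
      (Functor.LaxMonoidal.μ (Over.pullback f) X X ≫ (Over.pullback f).map r.mul)) ≫
        (compIso w f g h X).hom = ((compIso w f g h X).hom ⊗ₘ (compIso w f g h X).hom) ≫
          Functor.LaxMonoidal.μ (Over.pullback g) X X ≫ (Over.pullback g).map r.mul
    rw [(Over.pullback w).map_comp, Category.assoc, Category.assoc, compIso_naturality h r.mul,
      compIso_μ_assoc h]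

end MonCompIso

section Persist

variable {I : Type u} [SmallCategory I] [IsCofiltered I] {j : I}

/-- a predicate on the stages over `j` which persists at later stages -/
def Persists (p : ∀ i : I, (i ⟶ j) → Prop) : Prop :=
  ∀ (i i' : I) (f : i ⟶ j) (k : i' ⟶ i), p i f → p i' (k ≫ f)

theorem Persists.and {p q : ∀ i : I, (i ⟶ j) → Prop} (hp : Persists p) (hq : Persists q) :
    Persists (fun i f => p i f ∧ q i f) :=
  fun i i' f k h => ⟨hp i i' f k h.1, hq i i' f k h.2⟩

theorem exists_common {p q : ∀ i : I, (i ⟶ j) → Prop} (hp : Persists p) (hq : Persists q)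
    (h₁ : ∃ (i : I) (f : i ⟶ j), p i f) (h₂ : ∃ (i : I) (f : i ⟶ j), q i f) :
    ∃ (i : I) (f : i ⟶ j), p i f ∧ q i f := by
  obtain ⟨i₁, f₁, h₁⟩ := h₁
  obtain ⟨i₂, f₂, h₂⟩ := h₂
  obtain ⟨i₃, k₁, k₂, hk⟩ := IsCofiltered.cospan f₁ f₂
  refine ⟨i₃, k₁ ≫ f₁, hp _ _ _ _ h₁, ?_⟩
  rw [hk]
  exact hq _ _ _ _ h₂

variable (D : I ⥤ Scheme.{u}) (c : Limits.Cone D) (hc : Limits.IsLimit c)
  [∀ (i i' : I) (f : i ⟶ i'), IsAffineHom (D.map f)]
  [∀ i, CompactSpace (D.obj i)] [∀ i, QuasiSeparatedSpace (D.obj i)]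

/-- the morphism `u` between base changes to the limit comes from the stage `f` -/
def Desc {P Q : Over (D.obj j)} (u : Red.bc (c.π.app j) P ⟶ Red.bc (c.π.app j) Q) (i : I)
    (f : i ⟶ j) : Prop :=
  ∃ u' : Red.bc (D.map f) P ⟶ Red.bc (D.map f) Q, (Over.pullback (c.π.app i)).map u' =
    (compIso (c.π.app i) (D.map f) (c.π.app j) (c.w f) P).hom ≫ u ≫
      (compIso (c.π.app i) (D.map f) (c.π.app j) (c.w f) Q).inv

theorem persists_desc {P Q : Over (D.obj j)} (u : Red.bc (c.π.app j) P ⟶ Red.bc (c.π.app j) Q) :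
    Persists (Desc D c u) :=
  fun _ _ f k ⟨u', hu'⟩ => ⟨refineHom D f k u', refineHom_spec D c f k u' u hu'⟩

include hc in
theorem exists_desc {P Q : Over (D.obj j)} [FP P] [FP Q]
    (u : Red.bc (c.π.app j) P ⟶ Red.bc (c.π.app j) Q) : ∃ (i : I) (f : i ⟶ j), Desc D c u i f :=
  exists_map_descend D c hc j P Q u

/-- the morphisms `a` and `b` have the same base change to the stage `f` -/
def EqAt {P Q : Over (D.obj j)} (a b : P ⟶ Q) (i : I) (f : i ⟶ j) : Prop :=
  (Over.pullback (D.map f)).map a = (Over.pullback (D.map f)).map b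

theorem persists_eqAt {P Q : Over (D.obj j)} (a b : P ⟶ Q) : Persists (EqAt D a b) :=
  fun _ _ f k h => map_eq_persist' (D.map k) (D.map f) _ (D.map_comp k f).symm a b h

include hc in
theorem exists_eqAt {P Q : Over (D.obj j)} [FP P] [FP Q] (a b : P ⟶ Q)
    (h : (Over.pullback (c.π.app j)).map a = (Over.pullback (c.π.app j)).map b) :
    ∃ (i : I) (f : i ⟶ j), EqAt D a b i f :=
  exists_map_eq D c hc j P Q a b h

end Persist

section Main

variable {I : Type u} [SmallCategory I] [IsCofiltered I]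
  (D : I ⥤ Scheme.{u}) (c : Limits.Cone D) (hc : Limits.IsLimit c)
  [∀ (i i' : I) (f : i ⟶ i'), IsAffineHom (D.map f)]
  [∀ i, CompactSpace (D.obj i)] [∀ i, QuasiSeparatedSpace (D.obj i)]

include hc in
/-- a group scheme of finite presentation over the limit comes from a group scheme of finite presentation over
some stage -/
theorem exists_grp_descend (G : Over c.pt) [GrpObj G] [FP G] :
    ∃ (j : I) (Gj : Over (D.obj j)) (_ : GrpObj Gj) (e : G ≅ Red.bc (c.π.app j) Gj),
      IsMonHom e.hom ∧ FP Gj := by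
  obtain ⟨i₀, A, hA, ⟨e₀⟩⟩ := exists_obj_descend D c hc G
  -- the raw structure on the base change of `A`
  let rG' : RawGrp (Red.bc (c.π.app i₀) A) :=
    ⟨η[G] ≫ e₀.hom, (e₀.inv ⊗ₘ e₀.inv) ≫ μ[G] ≫ e₀.hom, e₀.inv ≫ GrpObj.inv ≫ e₀.hom⟩
  have hrG' : rG'.IsGrp := by
    refine RawGrp.isGrp_of_iso e₀.symm rG' (RawGrp.ofGrpObj G) (RawGrp.isGrp_ofGrpObj G) ?_ ?_ ?_
    · show (η[G] ≫ e₀.hom) ≫ e₀.inv = η[G]
      rw [Category.assoc, Iso.hom_inv_id, Category.comp_id]
    · show ((e₀.inv ⊗ₘ e₀.inv) ≫ μ[G] ≫ e₀.hom) ≫ e₀.inv = (e₀.inv ⊗ₘ e₀.inv) ≫ μ[G]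
      rw [Category.assoc, Category.assoc, Iso.hom_inv_id, Category.comp_id]
    · show (e₀.inv ≫ GrpObj.inv ≫ e₀.hom) ≫ e₀.inv = e₀.inv ≫ GrpObj.inv
      rw [Category.assoc, Category.assoc, Iso.hom_inv_id, Category.comp_id]
  have hom₀ : RawGrp.IsRawHom rG' (RawGrp.ofGrpObj G) e₀.inv := by
    refine ⟨?_, ?_⟩
    · show (η[G] ≫ e₀.hom) ≫ e₀.inv = η[G]
      rw [Category.assoc, Iso.hom_inv_id, Category.comp_id]
    · show ((e₀.inv ⊗ₘ e₀.inv) ≫ μ[G] ≫ e₀.hom) ≫ e₀.inv = (e₀.inv ⊗ₘ e₀.inv) ≫ μ[G]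
      rw [Category.assoc, Category.assoc, Iso.hom_inv_id, Category.comp_id]
  -- descend the three operations to a common stage
  obtain ⟨i, f, ⟨m_i, hm⟩, ⟨u_i, hu⟩, ⟨ι_i, hι⟩⟩ :
      ∃ (i : I) (f : i ⟶ i₀),
        Desc D c (Functor.OplaxMonoidal.δ (Over.pullback (c.π.app i₀)) A A ≫ rG'.mul) i f ∧
        Desc D c (Functor.OplaxMonoidal.η (Over.pullback (c.π.app i₀)) ≫ rG'.one) i f ∧
        Desc D c rG'.inv i f :=
    exists_common (persists_desc D c _) ((persists_desc D c _).and (persists_desc D c _))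
      (exists_desc D c hc _)
      (exists_common (persists_desc D c _) (persists_desc D c _) (exists_desc D c hc _)
        (exists_desc D c hc _))
  -- the raw structure at the stage `i`
  let r_i : RawGrp (Red.bc (D.map f) A) :=
    ⟨Functor.LaxMonoidal.ε (Over.pullback (D.map f)) ≫ u_i,
      Functor.LaxMonoidal.μ (Over.pullback (D.map f)) A A ≫ m_i, ι_i⟩
  have c1 : (r_i.map (Over.pullback (c.π.app i))).one ≫
      (compIso (c.π.app i) (D.map f) (c.π.app i₀) (c.w f) A).hom = rG'.one := by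
    show (Functor.LaxMonoidal.ε (Over.pullback (c.π.app i)) ≫ (Over.pullback (c.π.app i)).map
      (Functor.LaxMonoidal.ε (Over.pullback (D.map f)) ≫ u_i)) ≫
        (compIso (c.π.app i) (D.map f) (c.π.app i₀) (c.w f) A).hom = rG'.one
    rw [(Over.pullback (c.π.app i)).map_comp, hu]
    simp only [Category.assoc, Iso.inv_hom_id, Category.comp_id]
    rw [compIso_ε_assoc (c.w f), Functor.Monoidal.ε_η_assoc]
  have c2 : (r_i.map (Over.pullback (c.π.app i))).mul ≫
      (compIso (c.π.app i) (D.map f) (c.π.app i₀) (c.w f) A).hom =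
      ((compIso (c.π.app i) (D.map f) (c.π.app i₀) (c.w f) A).hom ⊗ₘ
        (compIso (c.π.app i) (D.map f) (c.π.app i₀) (c.w f) A).hom) ≫ rG'.mul := by
    show (Functor.LaxMonoidal.μ (Over.pullback (c.π.app i)) _ _ ≫ (Over.pullback (c.π.app i)).map
      (Functor.LaxMonoidal.μ (Over.pullback (D.map f)) A A ≫ m_i)) ≫
        (compIso (c.π.app i) (D.map f) (c.π.app i₀) (c.w f) A).hom = _
    rw [(Over.pullback (c.π.app i)).map_comp, hm]
    simp only [Category.assoc, Iso.inv_hom_id, Category.comp_id]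
    rw [compIso_μ_assoc (c.w f), Functor.Monoidal.μ_δ_assoc]
  have c3 : (r_i.map (Over.pullback (c.π.app i))).inv ≫
      (compIso (c.π.app i) (D.map f) (c.π.app i₀) (c.w f) A).hom =
      (compIso (c.π.app i) (D.map f) (c.π.app i₀) (c.w f) A).hom ≫ rG'.inv := by
    show (Over.pullback (c.π.app i)).map ι_i ≫ _ = _
    rw [hι]
    simp only [Category.assoc, Iso.inv_hom_id, Category.comp_id]
  have hG1 : (r_i.map (Over.pullback (c.π.app i))).IsGrp :=
    RawGrp.isGrp_of_iso (compIso (c.π.app i) (D.map f) (c.π.app i₀) (c.w f) A) _ rG' hrG' c1 c2 c3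
  rw [RawGrp.isGrp_map_iff] at hG1
  obtain ⟨e1, e2, e3, e4, e5⟩ := hG1
  -- the axioms hold at a later stage
  obtain ⟨i', g, q1, q2, q3, q4, q5⟩ :
      ∃ (i' : I) (g : i' ⟶ i), EqAt D r_i.a1L (λ_ _).hom i' g ∧ EqAt D r_i.a2L (ρ_ _).hom i' g ∧
        EqAt D r_i.a3L r_i.a3R i' g ∧ EqAt D r_i.a4L r_i.aE i' g ∧ EqAt D r_i.a5L r_i.aE i' g :=
    exists_common (persists_eqAt D _ _)
      ((persists_eqAt D _ _).and ((persists_eqAt D _ _).and
        ((persists_eqAt D _ _).and (persists_eqAt D _ _))))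
      (exists_eqAt D c hc _ _ e1)
      (exists_common (persists_eqAt D _ _)
        ((persists_eqAt D _ _).and ((persists_eqAt D _ _).and (persists_eqAt D _ _)))
        (exists_eqAt D c hc _ _ e2)
        (exists_common (persists_eqAt D _ _) ((persists_eqAt D _ _).and (persists_eqAt D _ _))
          (exists_eqAt D c hc _ _ e3)
          (exists_common (persists_eqAt D _ _) (persists_eqAt D _ _) (exists_eqAt D c hc _ _ e4)
            (exists_eqAt D c hc _ _ e5))))
  have hG2 : (r_i.map (Over.pullback (D.map g))).IsGrp :=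
    (RawGrp.isGrp_map_iff _ _).mpr ⟨q1, q2, q3, q4, q5⟩
  letI instGj : GrpObj (Red.bc (D.map g) (Red.bc (D.map f) A)) :=
    (r_i.map (Over.pullback (D.map g))).toGrpObj hG2
  have k1 := isRawHom_compIso (c.w g) r_i
  have k2 : RawGrp.IsRawHom (r_i.map (Over.pullback (c.π.app i))) rG'
      (compIso (c.π.app i) (D.map f) (c.π.app i₀) (c.w f) A).hom := ⟨c1, c2⟩
  have k3 := k1.comp (k2.comp hom₀)
  let εf : Red.bc (c.π.app i') (Red.bc (D.map g) (Red.bc (D.map f) A)) ≅ G :=
    compIso (c.π.app i') (D.map g) (c.π.app i) (c.w g) (Red.bc (D.map f) A) ≪≫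
      compIso (c.π.app i) (D.map f) (c.π.app i₀) (c.w f) A ≪≫ e₀.symm
  haveI hmon : IsMonHom εf.hom := ⟨k3.one, k3.mul⟩
  refine ⟨i', _, instGj, εf.symm, ?_, inferInstance⟩
  show IsMonHom εf.inv
  infer_instance

end Main

end Groth.Agent.Lib.helper12.LimOver
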