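import Mathlib
import Groth.Agent.Lib.Helper12.LimOver6
import Groth.Agent.S0114
import Groth.Agent.Lib.Helper5.FppfSource5

/-!
# Finite presentation of fppf quotients (helper12)

* `quasiCompact_of_isPullback_surjective_open`: quasi-compactness descends along surjective open morphisms.
* `quasiSeparated_of_fppf_quotient`, `fp_of_fppf_quotient`: if `p : X ⟶ Y` is fppf with `X ×_Y X ≅ R` and `X`, `R`
  are of finite presentation over `S`, then so is `Y`.
-/

set_option autoImplicit false
set_option linter.style.haveILetI false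
set_option linter.unusedSectionVars false

universe u
open CategoryTheory CategoryTheory.Limits AlgebraicGeometry MonoidalCategory
  CartesianMonoidalCategory MonObj

namespace Groth.Agent.Lib.helper12.LimOver

section Desc

theorem exists_preimage_of_isPullback {A X Y Z : Scheme.{u}} {fst : A ⟶ X} {snd : A ⟶ Y}
    {f : X ⟶ Z} {g : Y ⟶ Z} (h : IsPullback fst snd f g) (x : X) (y : Y) (hxy : f x = g y) :
    ∃ a : A, fst a = x ∧ snd a = y := by
  obtain ⟨a', ha1, ha2⟩ := Scheme.Pullback.exists_preimage_pullback x y hxy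
  refine ⟨h.isoPullback.inv a', ?_, ?_⟩
  · rw [← Scheme.Hom.comp_apply, h.isoPullback_inv_fst, ha1]
  · rw [← Scheme.Hom.comp_apply, h.isoPullback_inv_snd, ha2]

/-- quasi-compactness descends along surjective open morphisms -/
theorem quasiCompact_of_isPullback_surjective_open {A X Y Z : Scheme.{u}} {fst : A ⟶ X}
    {snd : A ⟶ Y} {f : X ⟶ Z} {g : Y ⟶ Z} (h : IsPullback fst snd f g) [Surjective f]
    (hf : IsOpenMap f) [QuasiCompact fst] : QuasiCompact g := by
  refine ⟨fun U hU hUc => ?_⟩
  -- for every point of `U` an affine open of `X` inside `f⁻¹ U` meeting the fibre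
  have key : ∀ z ∈ U, ∃ W : X.Opens, IsCompact (W : Set X) ∧ (W : Set X) ⊆ f ⁻¹' U ∧
      f '' (W : Set X) ∈ nhds z := by
    intro z hz
    obtain ⟨x, rfl⟩ := f.surjective z
    have hx : x ∈ (⟨f ⁻¹' U, hU.preimage f.continuous⟩ : X.Opens) := hz
    obtain ⟨W, hW, hxW, hWU⟩ := (X.isBasis_affineOpens).exists_subset_of_mem_open hx
      (hU.preimage f.continuous)
    obtain ⟨W', hW', rfl⟩ : ∃ W' : X.Opens, IsAffineOpen W' ∧ (W' : Set X) = W := by
      obtain ⟨W', hW', rfl⟩ := hW
      exact ⟨W', hW', rfl⟩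
    refine ⟨W', hW'.isCompact, hWU, ?_⟩
    exact (hf _ W'.2).mem_nhds ⟨x, hxW, rfl⟩
  choose! Wf hWc hWU hWn using key
  obtain ⟨t, htU, ht⟩ := hUc.elim_nhds_subcover (fun z => f '' (Wf z : Set X)) hWn
  let K : Set X := ⋃ z ∈ t, (Wf z : Set X)
  have hKo : IsOpen K := isOpen_biUnion fun z _ => (Wf z).2
  have hKc : IsCompact K := t.isCompact_biUnion fun z hz => hWc z (htU z hz)
  have hKU : K ⊆ f ⁻¹' U := Set.iUnion₂_subset fun z hz => hWU z (htU z hz)
  have hfK : U ⊆ f '' K := by
    intro z hz
    obtain ⟨z', hz', x, hx, rfl⟩ := Set.mem_iUnion₂.mp (ht hz)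
    exact ⟨x, Set.mem_iUnion₂.mpr ⟨z', hz', hx⟩, rfl⟩
  have h1 : g ⁻¹' U = snd '' (fst ⁻¹' K) := by
    ext y
    constructor
    · intro hy
      obtain ⟨x, hxK, hxy⟩ := hfK hy
      obtain ⟨a, ha1, ha2⟩ := exists_preimage_of_isPullback h x y hxy
      exact ⟨a, by simpa [ha1] using hxK, ha2⟩
    · rintro ⟨a, ha, rfl⟩
      show g (snd a) ∈ U
      rw [← Scheme.Hom.comp_apply, ← h.w, Scheme.Hom.comp_apply]
      exact hKU ha
  rw [h1]
  exact (QuasiCompact.isCompact_preimage (f := fst) K hKo hKc).image snd.continuous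

/-- the target of an fppf morphism `p : X ⟶ Y` with `X` quasi-separated over `S` and `X ×_Y X` quasi-compact
over `S` is quasi-separated over `S` -/
theorem quasiSeparated_of_fppf_quotient {X Y S R : Scheme.{u}} (p : X ⟶ Y) (q : Y ⟶ S)
    (s t : R ⟶ X) (hR : IsPullback s t p p) [Surjective p] [Flat p]
    [LocallyOfFinitePresentation p] [QuasiCompact (s ≫ p ≫ q)] [QuasiSeparated (p ≫ q)] :
    QuasiSeparated q := by
  have hpb := (pullback_map_diagonal_isPullback p p q).flip
  haveI : UniversallyOpen p := UniversallyOpen.of_flat p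
  haveI hsu : Surjective (pullback.map (p ≫ q) (p ≫ q) q q p p (𝟙 S) (Category.comp_id _)
      (Category.comp_id _)) :=
    MorphismProperty.pullbackMap (P := @Surjective) (inferInstance : Surjective p)
      (inferInstance : Surjective p) rfl rfl
  have huo : UniversallyOpen (pullback.map (p ≫ q) (p ≫ q) q q p p (𝟙 S) (Category.comp_id _)
      (Category.comp_id _)) :=
    MorphismProperty.pullbackMap (P := @UniversallyOpen) (inferInstance : UniversallyOpen p)
      (inferInstance : UniversallyOpen p) rfl rfl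
  -- the morphism `X ×_Y X ⟶ X ×_S X` is quasi-compact
  haveI hqc : QuasiCompact (pullback.map p p (p ≫ q) (p ≫ q) (𝟙 X) (𝟙 X) q
      (Category.id_comp _).symm (Category.id_comp _).symm) := by
    haveI : QuasiSeparated (pullback.fst (p ≫ q) (p ≫ q) ≫ p ≫ q) := inferInstance
    haveI : QuasiCompact (pullback.map p p (p ≫ q) (p ≫ q) (𝟙 X) (𝟙 X) q
        (Category.id_comp _).symm (Category.id_comp _).symm ≫
        pullback.fst (p ≫ q) (p ≫ q) ≫ p ≫ q) := by
      have e : pullback.map p p (p ≫ q) (p ≫ q) (𝟙 X) (𝟙 X) q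
          (Category.id_comp _).symm (Category.id_comp _).symm ≫
          pullback.fst (p ≫ q) (p ≫ q) ≫ p ≫ q = hR.isoPullback.inv ≫ s ≫ p ≫ q := by
        rw [pullback.lift_fst_assoc, Category.comp_id, ← Category.assoc hR.isoPullback.inv,
          hR.isoPullback_inv_fst]
      rw [e]
      infer_instance
    exact QuasiCompact.of_comp _ (pullback.fst (p ≫ q) (p ≫ q) ≫ p ≫ q)
  haveI : QuasiCompact (pullback.diagonal q) :=
    quasiCompact_of_isPullback_surjective_open hpb
      (Scheme.Hom.isOpenMap _)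
  exact ⟨inferInstance⟩

end Desc

section FP

variable {S : Scheme.{u}}

/-- the quotient of a scheme of finite presentation by an fppf equivalence relation of finite presentation is of
finite presentation -/
theorem fp_of_fppf_quotient {X R Y : Over S} [FP X] [FP R] (s t : R ⟶ X) (p : X ⟶ Y)
    (hR : IsPullback s t p p) (h1 : Flat p.left) (h2 : Surjective p.left)
    (h3 : LocallyOfFinitePresentation p.left) : FP Y := by
  have hR' : IsPullback s.left t.left p.left p.left := hR.map (Over.forget S)
  haveI : LocallyOfFinitePresentation (p.left ≫ Y.hom) := by rw [Over.w]; infer_instance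
  haveI : QuasiCompact (p.left ≫ Y.hom) := by rw [Over.w]; infer_instance
  haveI : QuasiSeparated (p.left ≫ Y.hom) := by rw [Over.w]; infer_instance
  haveI : QuasiCompact (s.left ≫ p.left ≫ Y.hom) := by rw [Over.w, Over.w]; infer_instance
  exact ⟨Groth.Agent.S0114.result p.left Y.hom,
    Groth.Agent.Lib.helper5.FppfSource.quasiCompact_of_comp_surjective' p.left Y.hom,
    quasiSeparated_of_fppf_quotient p.left Y.hom s.left t.left hR'⟩

end FP

end Groth.Agent.Lib.helper12.LimOver
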