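import Mathlib
import Groth.Agent.Lib.Helper12.LimOver8
import Groth.Agent.Lib.Helper12.LimOver9

/-!
# Fppf quotients over a cofiltered limit (helper12)

* `IsFppfQuot s t p`: `p : X ⟶ Y` is flat, surjective, locally of finite presentation and `(s, t)` is its kernel pair.
* `QuotAt φ s t`: the base change of `(s, t)` along `φ` has an fppf quotient.
* `quotAt_transfer`, `exists_quotAt_stage`.
-/

set_option autoImplicit false
set_option linter.style.haveILetI false
set_option linter.unusedSectionVars false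

universe u
open CategoryTheory CategoryTheory.Limits AlgebraicGeometry MonoidalCategory
  CartesianMonoidalCategory MonObj

namespace Groth.Agent.Lib.helper12.LimOver

section Abstract

variable {C : Type*} [Category C]

theorem isPullback_iff_isIso_lift {P R X Y : C} {π₁ π₂ : P ⟶ X} {p : X ⟶ Y}
    (hP : IsPullback π₁ π₂ p p) {s t : R ⟶ X} (θ : R ⟶ P) (h1 : θ ≫ π₁ = s) (h2 : θ ≫ π₂ = t) :
    IsPullback s t p p ↔ IsIso θ := by
  constructor
  · intro hs
    have e : θ = (hs.isoIsPullback _ _ hP).hom :=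
      hP.hom_ext (by rw [h1, IsPullback.isoIsPullback_hom_fst])
        (by rw [h2, IsPullback.isoIsPullback_hom_snd])
    rw [e]
    infer_instance
  · intro hθ
    refine hP.of_iso (asIso θ).symm (Iso.refl _) (Iso.refl _) (Iso.refl _) ?_ ?_ ?_ ?_
    · simp [← h1]
    · simp [← h2]
    · simp
    · simp

end Abstract

section Quot

/-- `p` is an fppf quotient of `X` by `(s, t)` -/
structure IsFppfQuot {T : Scheme.{u}} {R X Y : Over T} (s t : R ⟶ X) (p : X ⟶ Y) : Prop where
  flat : Flat p.left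
  surj : Surjective p.left
  lfp : LocallyOfFinitePresentation p.left
  isPullback : IsPullback s t p p

theorem IsFppfQuot.of_iso {T : Scheme.{u}} {R X Y R' X' Y' : Over T} {s t : R ⟶ X} {p : X ⟶ Y}
    (h : IsFppfQuot s t p) {s' t' : R' ⟶ X'} {p' : X' ⟶ Y'} (a : R ≅ R') (b : X ≅ X') (d : Y ≅ Y')
    (hs : s ≫ b.hom = a.hom ≫ s') (ht : t ≫ b.hom = a.hom ≫ t') (hp : p ≫ d.hom = b.hom ≫ p') :
    IsFppfQuot s' t' p' := by
  have e : p'.left = b.inv.left ≫ p.left ≫ d.hom.left := by
    rw [← Over.comp_left, ← Over.comp_left, hp, Iso.inv_hom_id_assoc]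
  haveI := h.flat
  haveI := h.surj
  haveI := h.lfp
  refine ⟨?_, ?_, ?_, h.isPullback.of_iso a b b d hs ht hp hp⟩
  · rw [e]; infer_instance
  · rw [e]; infer_instance
  · rw [e]; infer_instance

theorem IsFppfQuot.map {T T' : Scheme.{u}} (ψ : T' ⟶ T) {R X Y : Over T} {s t : R ⟶ X}
    {p : X ⟶ Y} (h : IsFppfQuot s t p) :
    IsFppfQuot ((Over.pullback ψ).map s) ((Over.pullback ψ).map t) ((Over.pullback ψ).map p) :=
  ⟨MorphismProperty.of_isPullback (P := @Flat) (isPullback_map_left ψ p) h.flat,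
    MorphismProperty.of_isPullback (P := @Surjective) (isPullback_map_left ψ p) h.surj,
    MorphismProperty.of_isPullback (P := @LocallyOfFinitePresentation) (isPullback_map_left ψ p)
      h.lfp,
    h.isPullback.map (Over.pullback ψ)⟩

/-- the base change of `(s, t)` along `φ` has an fppf quotient -/
def QuotAt {S T : Scheme.{u}} (φ : T ⟶ S) {R X : Over S} (s t : R ⟶ X) : Prop :=
  ∃ (Y : Over T) (p : Red.bc φ X ⟶ Y), Flat p.left ∧ Surjective p.left ∧
    LocallyOfFinitePresentation p.left ∧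
    IsPullback ((Over.pullback φ).map s) ((Over.pullback φ).map t) p p

theorem quotAt_iff {S T : Scheme.{u}} (φ : T ⟶ S) {R X : Over S} (s t : R ⟶ X) :
    QuotAt φ s t ↔ ∃ (Y : Over T) (p : Red.bc φ X ⟶ Y),
      IsFppfQuot ((Over.pullback φ).map s) ((Over.pullback φ).map t) p :=
  ⟨fun ⟨Y, p, h1, h2, h3, h4⟩ => ⟨Y, p, h1, h2, h3, h4⟩,
    fun ⟨Y, p, h⟩ => ⟨Y, p, h.flat, h.surj, h.lfp, h.isPullback⟩⟩

variable {S S' S'' : Scheme.{u}}

/-- from a base change of a base change to the base change along the composite -/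
theorem quotAt_of_comp (w : S'' ⟶ S') (f : S' ⟶ S) (g : S'' ⟶ S) (h : w ≫ f = g) {R X : Over S}
    (s t : R ⟶ X) (hq : QuotAt w ((Over.pullback f).map s) ((Over.pullback f).map t)) :
    QuotAt g s t := by
  rw [quotAt_iff] at hq ⊢
  obtain ⟨Y, p, hp⟩ := hq
  refine ⟨Y, (compIso w f g h X).inv ≫ p, hp.of_iso (compIso w f g h R) (compIso w f g h X)
    (Iso.refl Y) (compIso_naturality h s) (compIso_naturality h t) ?_⟩
  rw [Iso.refl_hom, Category.comp_id, Iso.hom_inv_id_assoc]

theorem quotAt_transfer (w : S'' ⟶ S') (f : S' ⟶ S) (g : S'' ⟶ S) (h : w ≫ f = g) {R X : Over S}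
    (s t : R ⟶ X) (hq : QuotAt f s t) : QuotAt g s t := by
  apply quotAt_of_comp w f g h
  rw [quotAt_iff] at hq ⊢
  obtain ⟨Y, p, hp⟩ := hq
  exact ⟨Red.bc w Y, (Over.pullback w).map p, hp.map w⟩

/-- a property of morphisms stable under base change passes from one base change of a morphism to a further
base change -/
theorem left_transfer (P : MorphismProperty Scheme.{u}) [P.IsStableUnderBaseChange] (w : S'' ⟶ S')
    (f : S' ⟶ S) (g : S'' ⟶ S) (h : w ≫ f = g) {X Y : Over S} (p : X ⟶ Y)
    (hp : P ((Over.pullback f).map p).left) : P ((Over.pullback g).map p).left := by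
  have e : (Over.pullback g).map p = (compIso w f g h X).inv ≫
      (Over.pullback w).map ((Over.pullback f).map p) ≫ (compIso w f g h Y).hom := by
    rw [compIso_naturality, Iso.inv_hom_id_assoc]
  rw [e, Over.comp_left, Over.comp_left]
  refine (P.cancel_left_of_respectsIso _ _).mpr ((P.cancel_right_of_respectsIso _ _).mpr ?_)
  exact MorphismProperty.of_isPullback (isPullback_map_left w _) hp

theorem pb_comp (w : S'' ⟶ S') (f : S' ⟶ S) (g : S'' ⟶ S) (h : w ≫ f = g) {R X Y : Over S}
    (s t : R ⟶ X) (p : X ⟶ Y)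
    (hp : IsPullback ((Over.pullback w).map ((Over.pullback f).map s))
      ((Over.pullback w).map ((Over.pullback f).map t))
      ((Over.pullback w).map ((Over.pullback f).map p))
      ((Over.pullback w).map ((Over.pullback f).map p))) :
    IsPullback ((Over.pullback g).map s) ((Over.pullback g).map t) ((Over.pullback g).map p)
      ((Over.pullback g).map p) :=
  hp.of_iso (compIso w f g h R) (compIso w f g h X) (compIso w f g h X) (compIso w f g h Y)
    (compIso_naturality h s) (compIso_naturality h t) (compIso_naturality h p)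
    (compIso_naturality h p)

theorem pb_of_comp (w : S'' ⟶ S') (f : S' ⟶ S) (g : S'' ⟶ S) (h : w ≫ f = g) {R X Y : Over S}
    (s t : R ⟶ X) (p : X ⟶ Y)
    (hp : IsPullback ((Over.pullback g).map s) ((Over.pullback g).map t) ((Over.pullback g).map p)
      ((Over.pullback g).map p)) :
    IsPullback ((Over.pullback w).map ((Over.pullback f).map s))
      ((Over.pullback w).map ((Over.pullback f).map t))
      ((Over.pullback w).map ((Over.pullback f).map p))
      ((Over.pullback w).map ((Over.pullback f).map p)) :=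
  hp.of_iso' (compIso w f g h R) (compIso w f g h X) (compIso w f g h X) (compIso w f g h Y)
    (compIso_naturality h s).symm (compIso_naturality h t).symm (compIso_naturality h p).symm
    (compIso_naturality h p).symm

theorem pb_transfer (w : S'' ⟶ S') (f : S' ⟶ S) (g : S'' ⟶ S) (h : w ≫ f = g) {R X Y : Over S}
    (s t : R ⟶ X) (p : X ⟶ Y)
    (hp : IsPullback ((Over.pullback f).map s) ((Over.pullback f).map t) ((Over.pullback f).map p)
      ((Over.pullback f).map p)) :
    IsPullback ((Over.pullback g).map s) ((Over.pullback g).map t) ((Over.pullback g).map p)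
      ((Over.pullback g).map p) :=
  pb_comp w f g h s t p (hp.map (Over.pullback w))

/-- the fibre product of objects of finite presentation is of finite presentation -/
theorem fp_of_isPullback_over {T : Scheme.{u}} {P X Y : Over T} [FP X] [FP Y] {π₁ π₂ : P ⟶ X}
    {p : X ⟶ Y} (hP : IsPullback π₁ π₂ p p) : FP P := by
  have hP' : IsPullback π₂.left π₁.left p.left p.left := (hP.map (Over.forget T)).flip
  haveI : LocallyOfFinitePresentation (p.left ≫ Y.hom) := by rw [Over.w]; infer_instance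
  haveI : QuasiCompact (p.left ≫ Y.hom) := by rw [Over.w]; infer_instance
  haveI : QuasiSeparated (p.left ≫ Y.hom) := by rw [Over.w]; infer_instance
  have h1 : LocallyOfFinitePresentation p.left :=
    Groth.Agent.Lib.helper7.locallyOfFinitePresentation_of_comp p.left Y.hom
  have h2 : QuasiCompact p.left := QuasiCompact.of_comp p.left Y.hom
  have h3 : QuasiSeparated p.left := QuasiSeparated.of_comp p.left Y.hom
  haveI : LocallyOfFinitePresentation π₁.left :=
    MorphismProperty.of_isPullback (P := @LocallyOfFinitePresentation) hP' h1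
  haveI : QuasiCompact π₁.left := MorphismProperty.of_isPullback (P := @QuasiCompact) hP' h2
  haveI : QuasiSeparated π₁.left := MorphismProperty.of_isPullback (P := @QuasiSeparated) hP' h3
  have e : P.hom = π₁.left ≫ X.hom := (Over.w π₁).symm
  refine ⟨?_, ?_, ?_⟩
  · rw [e]; infer_instance
  · rw [e]; infer_instance
  · rw [e]; infer_instance

end Quot

section Lim

variable {I : Type u} [SmallCategory I] [IsCofiltered I]
  (D : I ⥤ Scheme.{u}) (c : Limits.Cone D) (hc : Limits.IsLimit c)
  [∀ (i i' : I) (f : i ⟶ i'), IsAffineHom (D.map f)]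
  [∀ i, CompactSpace (D.obj i)] [∀ i, QuasiSeparatedSpace (D.obj i)]

/-- the base change of `p` to the stage `f` has property `P` -/
def LeftAt (P : MorphismProperty Scheme.{u}) {j : I} {X Y : Over (D.obj j)} (p : X ⟶ Y) (i : I)
    (f : i ⟶ j) : Prop :=
  P ((Over.pullback (D.map f)).map p).left

theorem persists_leftAt (P : MorphismProperty Scheme.{u}) [P.IsStableUnderBaseChange] {j : I}
    {X Y : Over (D.obj j)} (p : X ⟶ Y) : Persists (LeftAt D P p) :=
  fun _ _ f k h => left_transfer P (D.map k) (D.map f) _ (D.map_comp k f).symm p h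

/-- the base change of the square to the stage `f` is cartesian -/
def PBAt {j : I} {R X Y : Over (D.obj j)} (s t : R ⟶ X) (p : X ⟶ Y) (i : I) (f : i ⟶ j) : Prop :=
  IsPullback ((Over.pullback (D.map f)).map s) ((Over.pullback (D.map f)).map t)
    ((Over.pullback (D.map f)).map p) ((Over.pullback (D.map f)).map p)

theorem persists_pbAt {j : I} {R X Y : Over (D.obj j)} (s t : R ⟶ X) (p : X ⟶ Y) :
    Persists (PBAt D s t p) :=
  fun _ _ f k h => pb_transfer (D.map k) (D.map f) _ (D.map_comp k f).symm s t p h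

include hc in
theorem exists_isFppfQuot_stage (k : I) {R X Y : Over (D.obj k)} [FP R] [FP X] [FP Y]
    (s t : R ⟶ X) (p : X ⟶ Y)
    (h : IsFppfQuot ((Over.pullback (c.π.app k)).map s) ((Over.pullback (c.π.app k)).map t)
      ((Over.pullback (c.π.app k)).map p)) :
    ∃ (i : I) (g : i ⟶ k), IsFppfQuot ((Over.pullback (D.map g)).map s)
      ((Over.pullback (D.map g)).map t) ((Over.pullback (D.map g)).map p) := by
  have heq : (Over.pullback (c.π.app k)).map (s ≫ p) = (Over.pullback (c.π.app k)).map (t ≫ p) := by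
    rw [(Over.pullback (c.π.app k)).map_comp, (Over.pullback (c.π.app k)).map_comp]
    exact h.isPullback.w
  obtain ⟨i₁, g₁, hg₁⟩ := exists_map_eq D c hc k R Y (s ≫ p) (t ≫ p) heq
  have w₁ : (Over.pullback (D.map g₁)).map s ≫ (Over.pullback (D.map g₁)).map p =
      (Over.pullback (D.map g₁)).map t ≫ (Over.pullback (D.map g₁)).map p := by
    rw [← (Over.pullback (D.map g₁)).map_comp, ← (Over.pullback (D.map g₁)).map_comp]
    exact hg₁
  haveI : FP (pullback ((Over.pullback (D.map g₁)).map p) ((Over.pullback (D.map g₁)).map p)) :=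
    fp_of_isPullback_over (IsPullback.of_hasPullback _ _)
  have hPc := pb_of_comp (c.π.app i₁) (D.map g₁) (c.π.app k) (c.w g₁) s t p h.isPullback
  have hθc : IsIso ((Over.pullback (c.π.app i₁)).map (pullback.lift _ _ w₁)) :=
    (isPullback_iff_isIso_lift ((IsPullback.of_hasPullback _ _).map (Over.pullback (c.π.app i₁)))
      ((Over.pullback (c.π.app i₁)).map (pullback.lift _ _ w₁))
      (by rw [← (Over.pullback (c.π.app i₁)).map_comp, pullback.lift_fst])
      (by rw [← (Over.pullback (c.π.app i₁)).map_comp, pullback.lift_snd])).mp hPc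
  obtain ⟨i₂, g₂, hθ₂⟩ := exists_isIso_stage D c hc i₁ _ _ (pullback.lift _ _ w₁) hθc
  have hPB₂ := (isPullback_iff_isIso_lift
      ((IsPullback.of_hasPullback _ _).map (Over.pullback (D.map g₂)))
      ((Over.pullback (D.map g₂)).map (pullback.lift _ _ w₁))
      (by rw [← (Over.pullback (D.map g₂)).map_comp, pullback.lift_fst])
      (by rw [← (Over.pullback (D.map g₂)).map_comp, pullback.lift_snd])).mpr hθ₂
  have hPB : PBAt D s t p i₂ (g₂ ≫ g₁) :=
    pb_comp (D.map g₂) (D.map g₁) _ (D.map_comp g₂ g₁).symm s t p hPB₂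
  obtain ⟨i₃, g₃, hfl⟩ := exists_flat_stage D c hc k X Y p h.flat
  obtain ⟨i₄, g₄, hsu⟩ := exists_surjective_stage D c hc k X Y p h.surj
  obtain ⟨i, g, hpb, hfl', hsu'⟩ := exists_common (persists_pbAt D s t p)
    ((persists_leftAt D @Flat p).and (persists_leftAt D @Surjective p)) ⟨i₂, _, hPB⟩
    (exists_common (persists_leftAt D @Flat p) (persists_leftAt D @Surjective p) ⟨i₃, g₃, hfl⟩
      ⟨i₄, g₄, hsu⟩)
  refine ⟨i, g, hfl', hsu', ?_, hpb⟩
  haveI : LocallyOfFinitePresentation (((Over.pullback (D.map g)).map p).left ≫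
      (Red.bc (D.map g) Y).hom) := by rw [Over.w]; infer_instance
  exact Groth.Agent.Lib.helper7.locallyOfFinitePresentation_of_comp _ (Red.bc (D.map g) Y).hom

include hc in
theorem exists_quotAt_stage' (k : I) {R X Y : Over (D.obj k)} [FP R] [FP X] [FP Y] (s t : R ⟶ X)
    (pc : Red.bc (c.π.app k) X ⟶ Red.bc (c.π.app k) Y)
    (h : IsFppfQuot ((Over.pullback (c.π.app k)).map s) ((Over.pullback (c.π.app k)).map t) pc) :
    ∃ (i : I) (g : i ⟶ k), QuotAt (D.map g) s t := by
  obtain ⟨k₁, g₁, p₁, hp₁⟩ := exists_map_descend D c hc k X Y pc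
  have h₁ : IsFppfQuot
      ((Over.pullback (c.π.app k₁)).map ((Over.pullback (D.map g₁)).map s))
      ((Over.pullback (c.π.app k₁)).map ((Over.pullback (D.map g₁)).map t))
      ((Over.pullback (c.π.app k₁)).map p₁) := by
    refine h.of_iso (compIso (c.π.app k₁) (D.map g₁) (c.π.app k) (c.w g₁) R).symm
      (compIso (c.π.app k₁) (D.map g₁) (c.π.app k) (c.w g₁) X).symm
      (compIso (c.π.app k₁) (D.map g₁) (c.π.app k) (c.w g₁) Y).symm ?_ ?_ ?_
    · rw [Iso.symm_hom, Iso.symm_hom, Iso.eq_inv_comp, ← Category.assoc, Iso.comp_inv_eq,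
        compIso_naturality]
    · rw [Iso.symm_hom, Iso.symm_hom, Iso.eq_inv_comp, ← Category.assoc, Iso.comp_inv_eq,
        compIso_naturality]
    · rw [hp₁, Iso.symm_hom, Iso.symm_hom, Iso.inv_hom_id_assoc]
  obtain ⟨i, g, hq⟩ := exists_isFppfQuot_stage D c hc k₁ _ _ p₁ h₁
  exact ⟨i, g ≫ g₁, quotAt_of_comp (D.map g) (D.map g₁) _ (D.map_comp g g₁).symm s t
    ((quotAt_iff _ _ _).mpr ⟨_, _, hq⟩)⟩

include hc in
/-- an fppf quotient over the limit comes from an fppf quotient over a stage -/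
theorem exists_quotAt_stage (j : I) {R X : Over (D.obj j)} [FP R] [FP X] (s t : R ⟶ X)
    (h : QuotAt (c.π.app j) s t) : ∃ (i : I) (f : i ⟶ j), QuotAt (D.map f) s t := by
  rw [quotAt_iff] at h
  obtain ⟨Y, p, hp⟩ := h
  haveI : FP Y := fp_of_fppf_quotient _ _ p hp.isPullback hp.flat hp.surj hp.lfp
  obtain ⟨i₀, Y₀, hY₀, ⟨ey⟩⟩ := exists_obj_descend D c hc Y
  obtain ⟨k, a, b, -⟩ : ∃ (k : I) (a : k ⟶ j) (b : k ⟶ i₀), True :=
    ⟨IsCofiltered.min j i₀, IsCofiltered.minToLeft j i₀, IsCofiltered.minToRight j i₀, trivial⟩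
  have hk : IsFppfQuot
      ((Over.pullback (c.π.app k)).map ((Over.pullback (D.map a)).map s))
      ((Over.pullback (c.π.app k)).map ((Over.pullback (D.map a)).map t))
      ((compIso (c.π.app k) (D.map a) (c.π.app j) (c.w a) X).hom ≫ p ≫ ey.hom ≫
        (compIso (c.π.app k) (D.map b) (c.π.app i₀) (c.w b) Y₀).inv) := by
    refine hp.of_iso (compIso (c.π.app k) (D.map a) (c.π.app j) (c.w a) R).symm
      (compIso (c.π.app k) (D.map a) (c.π.app j) (c.w a) X).symm
      (ey ≪≫ (compIso (c.π.app k) (D.map b) (c.π.app i₀) (c.w b) Y₀).symm) ?_ ?_ ?_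
    · rw [Iso.symm_hom, Iso.symm_hom, Iso.eq_inv_comp, ← Category.assoc, Iso.comp_inv_eq,
        compIso_naturality]
    · rw [Iso.symm_hom, Iso.symm_hom, Iso.eq_inv_comp, ← Category.assoc, Iso.comp_inv_eq,
        compIso_naturality]
    · rw [Iso.trans_hom, Iso.symm_hom, Iso.symm_hom, Iso.inv_hom_id_assoc]
  obtain ⟨i, g, hq⟩ := exists_quotAt_stage' D c hc k _ _ _ hk
  exact ⟨i, g ≫ a, quotAt_of_comp (D.map g) (D.map a) _ (D.map_comp g a).symm s t hq⟩

end Lim

section Grp

variable {S T : Scheme.{u}}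

/-- the quotient of a group scheme by a subgroup scheme, in terms of `QuotAt` -/
theorem quotAt_grp_iff (φ : T ⟶ S) {G G' : Over S} [GrpObj G] (u : G' ⟶ G) :
    (∃ (Q : Over T) (p : Red.bc φ G ⟶ Q), Flat p.left ∧ Surjective p.left ∧
      LocallyOfFinitePresentation p.left ∧
      IsPullback ((Red.bc φ G ◁ (Over.pullback φ).map u) ≫ μ[Red.bc φ G])
        (fst (Red.bc φ G) (Red.bc φ G')) p p) ↔
    QuotAt φ ((G ◁ u) ≫ μ[G]) (fst G G') := by
  have e1 : (Red.bc φ G ◁ (Over.pullback φ).map u) ≫ μ[Red.bc φ G] =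
      Functor.LaxMonoidal.μ (Over.pullback φ) G G' ≫ (Over.pullback φ).map ((G ◁ u) ≫ μ[G]) := by
    show (Red.bc φ G ◁ (Over.pullback φ).map u) ≫ Functor.LaxMonoidal.μ (Over.pullback φ) G G ≫
      (Over.pullback φ).map μ[G] = _
    rw [(Over.pullback φ).map_comp, Functor.LaxMonoidal.μ_natural_right_assoc]
  have e2 : fst (Red.bc φ G) (Red.bc φ G') =
      Functor.LaxMonoidal.μ (Over.pullback φ) G G' ≫ (Over.pullback φ).map (fst G G') :=
    (Functor.Monoidal.μ_fst (Over.pullback φ) G G').symm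
  constructor
  · rintro ⟨Q, p, h1, h2, h3, h4⟩
    refine ⟨Q, p, h1, h2, h3, ?_⟩
    refine h4.of_iso (asIso (Functor.LaxMonoidal.μ (Over.pullback φ) G G')) (Iso.refl _)
      (Iso.refl _) (Iso.refl _) ?_ ?_ ?_ ?_
    · rw [Iso.refl_hom, Category.comp_id, asIso_hom, e1]
    · rw [Iso.refl_hom, Category.comp_id, asIso_hom, e2]
    · simp
    · simp
  · rintro ⟨Q, p, h1, h2, h3, h4⟩
    refine ⟨Q, p, h1, h2, h3, ?_⟩
    refine h4.of_iso' (asIso (Functor.LaxMonoidal.μ (Over.pullback φ) G G')) (Iso.refl _)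
      (Iso.refl _) (Iso.refl _) ?_ ?_ ?_ ?_
    · rw [Iso.refl_hom, Category.comp_id, asIso_hom, e1]
    · rw [Iso.refl_hom, Category.comp_id, asIso_hom, e2]
    · simp
    · simp

end Grp

end Groth.Agent.Lib.helper12.LimOver
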