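import Mathlib
import Groth.Agent.Lib.Helper12.LimOver8

/-!
# Subgroup schemes over a cofiltered limit (helper12)

* `RawGrp.isGrp_of_mono`: a raw structure on a subobject of a group object compatible with the operations
  satisfies the axioms.
* `FactAt`, `Fact`, `persists_fact`, `exists_fact`: factorisations through a fixed morphism descend to a stage.
* `GrpFacts`, `grp_of_grpFacts`, `exists_subgroup_stage`, `exists_normal_subgroup_stage`.
-/

set_option autoImplicit false
set_option linter.style.haveILetI false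
set_option linter.unusedSectionVars false

universe u
open CategoryTheory CategoryTheory.Limits AlgebraicGeometry MonoidalCategory
  CartesianMonoidalCategory MonObj

namespace Groth.Agent.Lib.helper12.LimOver

section Abstract

variable {C : Type*} [Category C] [CartesianMonoidalCategory C]

/-- a raw structure on a subobject of a group object, compatible with the operations, satisfies the axioms -/
theorem RawGrp.isGrp_of_mono {H G : C} [GrpObj G] (inc : H ⟶ G) [Mono inc] (r : RawGrp H)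
    (h1 : r.one ≫ inc = η[G]) (h2 : r.mul ≫ inc = (inc ⊗ₘ inc) ≫ μ[G])
    (h3 : r.inv ≫ inc = inc ≫ GrpObj.inv) : r.IsGrp := by
  refine ⟨?_, ?_, ?_, ?_, ?_⟩
  · rw [← cancel_mono inc]
    unfold RawGrp.a1L
    rw [Category.assoc, h2, ← Category.assoc, whiskerRight_comp_tensorHom, h1,
      MonoidalCategory.tensorHom_def', Category.assoc, MonObj.one_mul, leftUnitor_naturality]
  · rw [← cancel_mono inc]
    unfold RawGrp.a2L
    rw [Category.assoc, h2, ← Category.assoc, whiskerLeft_comp_tensorHom, h1,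
      MonoidalCategory.tensorHom_def, Category.assoc, MonObj.mul_one, rightUnitor_naturality]
  · rw [← cancel_mono inc]
    unfold RawGrp.a3L RawGrp.a3R
    rw [Category.assoc, h2, ← Category.assoc, whiskerRight_comp_tensorHom, h2]
    rw [Category.assoc, Category.assoc, h2, ← Category.assoc (H ◁ r.mul),
      whiskerLeft_comp_tensorHom, h2]
    have e1 : ((inc ⊗ₘ inc) ≫ μ[G]) ⊗ₘ inc = ((inc ⊗ₘ inc) ⊗ₘ inc) ≫ (μ[G] ▷ G) := by
      rw [← tensorHom_id, tensorHom_comp_tensorHom, Category.comp_id]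
    have e2 : inc ⊗ₘ ((inc ⊗ₘ inc) ≫ μ[G]) = (inc ⊗ₘ (inc ⊗ₘ inc)) ≫ (G ◁ μ[G]) := by
      rw [← id_tensorHom, tensorHom_comp_tensorHom, Category.comp_id]
    rw [e1, e2, Category.assoc, MonObj.mul_assoc, associator_naturality_assoc, Category.assoc]
  · rw [← cancel_mono inc]
    unfold RawGrp.a4L RawGrp.aE
    rw [Category.assoc, h2, ← Category.assoc, lift_map, h3, Category.id_comp, Category.assoc, h1]
    have e : lift (inc ≫ GrpObj.inv) inc = inc ≫ lift GrpObj.inv (𝟙 G) := by
      rw [comp_lift, Category.comp_id]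
    rw [e, Category.assoc, GrpObj.left_inv, ← Category.assoc, comp_toUnit]
  · rw [← cancel_mono inc]
    unfold RawGrp.a5L RawGrp.aE
    rw [Category.assoc, h2, ← Category.assoc, lift_map, h3, Category.id_comp, Category.assoc, h1]
    have e : lift inc (inc ≫ GrpObj.inv) = inc ≫ lift (𝟙 G) GrpObj.inv := by
      rw [comp_lift, Category.comp_id]
    rw [e, Category.assoc, GrpObj.right_inv, ← Category.assoc, comp_toUnit]

end Abstract

section Fact

variable {S S' S'' : Scheme.{u}}

/-- after base change along `φ`, the morphism `m` factors through `inc` -/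
def FactAt (φ : S' ⟶ S) {P H Q : Over S} (m : P ⟶ Q) (inc : H ⟶ Q) : Prop :=
  ∃ z : Red.bc φ P ⟶ Red.bc φ H, z ≫ (Over.pullback φ).map inc = (Over.pullback φ).map m

theorem factAt_refine (w : S'' ⟶ S') (f : S' ⟶ S) (g : S'' ⟶ S) (h : w ≫ f = g) {P H Q : Over S}
    (m : P ⟶ Q) (inc : H ⟶ Q) (z : Red.bc f P ⟶ Red.bc f H)
    (hz : (Over.pullback w).map (z ≫ (Over.pullback f).map inc) =
      (Over.pullback w).map ((Over.pullback f).map m)) : FactAt g m inc := by
  refine ⟨(compIso w f g h P).inv ≫ (Over.pullback w).map z ≫ (compIso w f g h H).hom, ?_⟩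
  rw [Category.assoc, Category.assoc, ← compIso_naturality h inc, ← Category.assoc
    ((Over.pullback w).map z), ← (Over.pullback w).map_comp, hz, compIso_naturality h m,
    Iso.inv_hom_id_assoc]

theorem factAt_transfer (w : S'' ⟶ S') (f : S' ⟶ S) (g : S'' ⟶ S) (h : w ≫ f = g) {P H Q : Over S}
    (m : P ⟶ Q) (inc : H ⟶ Q) (hf : FactAt f m inc) : FactAt g m inc := by
  obtain ⟨z, hz⟩ := hf
  exact factAt_refine w f g h m inc z (by rw [hz])

end Fact

section Lim

variable {I : Type u} [SmallCategory I] [IsCofiltered I]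
  (D : I ⥤ Scheme.{u}) (c : Limits.Cone D) (hc : Limits.IsLimit c)
  [∀ (i i' : I) (f : i ⟶ i'), IsAffineHom (D.map f)]
  [∀ i, CompactSpace (D.obj i)] [∀ i, QuasiSeparatedSpace (D.obj i)]

/-- factorisation at the stage `a` -/
def Fact {j : I} {P H Q : Over (D.obj j)} (m : P ⟶ Q) (inc : H ⟶ Q) (i : I) (a : i ⟶ j) : Prop :=
  FactAt (D.map a) m inc

theorem persists_fact {j : I} {P H Q : Over (D.obj j)} (m : P ⟶ Q) (inc : H ⟶ Q) :
    Persists (Fact D m inc) :=
  fun _ _ a k h => factAt_transfer (D.map k) (D.map a) _ (D.map_comp k a).symm m inc h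

include hc in
theorem exists_fact {j : I} {P H Q : Over (D.obj j)} [FP P] [FP H] [FP Q] (m : P ⟶ Q)
    (inc : H ⟶ Q) (h : FactAt (c.π.app j) m inc) : ∃ (i : I) (a : i ⟶ j), Fact D m inc i a := by
  obtain ⟨z, hz⟩ := h
  obtain ⟨i₁, a₁, z₁, hz₁⟩ := exists_map_descend D c hc j P H z
  have key : (Over.pullback (c.π.app i₁)).map (z₁ ≫ (Over.pullback (D.map a₁)).map inc) =
      (Over.pullback (c.π.app i₁)).map ((Over.pullback (D.map a₁)).map m) := by
    rw [(Over.pullback (c.π.app i₁)).map_comp, hz₁, compIso_conj (c.w a₁) inc,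
      compIso_conj (c.w a₁) m]
    simp only [Category.assoc, Iso.inv_hom_id_assoc]
    rw [← Category.assoc z, hz]
  obtain ⟨i₂, g, hg⟩ := exists_map_eq D c hc i₁ _ _ _ _ key
  exact ⟨i₂, g ≫ a₁, factAt_refine (D.map g) (D.map a₁) _ (D.map_comp g a₁).symm m inc z₁ hg⟩

end Lim

section Grp

variable {S S' : Scheme.{u}}

/-- the three factorisations expressing that `inc` is stable under the group operations of `G` -/
def GrpFactsAt (φ : S' ⟶ S) {H G : Over S} [GrpObj G] (inc : H ⟶ G) : Prop :=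
  FactAt φ ((inc ⊗ₘ inc) ≫ μ[G]) inc ∧ FactAt φ η[G] inc ∧ FactAt φ (inc ≫ GrpObj.inv) inc

/-- a subobject stable under the group operations is a subgroup -/
theorem grp_of_grpFactsAt (φ : S' ⟶ S) {H G : Over S} [GrpObj G] (inc : H ⟶ G)
    [Mono ((Over.pullback φ).map inc)] (h : GrpFactsAt φ inc) :
    ∃ _ : GrpObj (Red.bc φ H), IsMonHom ((Over.pullback φ).map inc) := by
  obtain ⟨⟨zμ, hμ⟩, ⟨zη, hη⟩, ⟨zι, hι⟩⟩ := h
  let r : RawGrp (Red.bc φ H) :=
    ⟨Functor.LaxMonoidal.ε (Over.pullback φ) ≫ zη,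
      Functor.LaxMonoidal.μ (Over.pullback φ) H H ≫ zμ, zι⟩
  have h1 : r.one ≫ (Over.pullback φ).map inc = η[Red.bc φ G] := by
    show (Functor.LaxMonoidal.ε (Over.pullback φ) ≫ zη) ≫ (Over.pullback φ).map inc =
      Functor.LaxMonoidal.ε (Over.pullback φ) ≫ (Over.pullback φ).map η[G]
    rw [Category.assoc, hη]
  have h2 : r.mul ≫ (Over.pullback φ).map inc =
      ((Over.pullback φ).map inc ⊗ₘ (Over.pullback φ).map inc) ≫ μ[Red.bc φ G] := by
    show (Functor.LaxMonoidal.μ (Over.pullback φ) H H ≫ zμ) ≫ (Over.pullback φ).map inc =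
      ((Over.pullback φ).map inc ⊗ₘ (Over.pullback φ).map inc) ≫
        Functor.LaxMonoidal.μ (Over.pullback φ) G G ≫ (Over.pullback φ).map μ[G]
    rw [Category.assoc, hμ, (Over.pullback φ).map_comp, Functor.LaxMonoidal.μ_natural_assoc]
  have h3 : r.inv ≫ (Over.pullback φ).map inc = (Over.pullback φ).map inc ≫ GrpObj.inv := by
    show zι ≫ (Over.pullback φ).map inc =
      (Over.pullback φ).map inc ≫ (Over.pullback φ).map GrpObj.inv
    rw [hι, (Over.pullback φ).map_comp]
  have hr : r.IsGrp := RawGrp.isGrp_of_mono ((Over.pullback φ).map inc) r h1 h2 h3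
  letI inst : GrpObj (Red.bc φ H) := r.toGrpObj hr
  exact ⟨inst, ⟨h1, h2⟩⟩

/-- conversely a subgroup is stable under the group operations -/
theorem grpFactsAt_of_grp (φ : S' ⟶ S) {H G : Over S} [GrpObj G] (inc : H ⟶ G)
    (h : ∃ _ : GrpObj (Red.bc φ H), IsMonHom ((Over.pullback φ).map inc)) : GrpFactsAt φ inc := by
  obtain ⟨inst, hm⟩ := h
  refine ⟨⟨Functor.OplaxMonoidal.δ (Over.pullback φ) H H ≫ μ[Red.bc φ H], ?_⟩,
    ⟨Functor.OplaxMonoidal.η (Over.pullback φ) ≫ η[Red.bc φ H], ?_⟩, ⟨GrpObj.inv, ?_⟩⟩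
  · rw [Category.assoc, IsMonHom.mul_hom]
    show Functor.OplaxMonoidal.δ (Over.pullback φ) H H ≫
      ((Over.pullback φ).map inc ⊗ₘ (Over.pullback φ).map inc) ≫
        Functor.LaxMonoidal.μ (Over.pullback φ) G G ≫ (Over.pullback φ).map μ[G] = _
    rw [Functor.LaxMonoidal.μ_natural_assoc, Functor.Monoidal.δ_μ_assoc,
      ← (Over.pullback φ).map_comp]
  · rw [Category.assoc, IsMonHom.one_hom]
    show Functor.OplaxMonoidal.η (Over.pullback φ) ≫
      Functor.LaxMonoidal.ε (Over.pullback φ) ≫ (Over.pullback φ).map η[G] = _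
    rw [Functor.Monoidal.η_ε_assoc]
  · rw [GrpObj.inv_hom, (Over.pullback φ).map_comp]
    rfl

end Grp

section Main

variable {I : Type u} [SmallCategory I] [IsCofiltered I]
  (D : I ⥤ Scheme.{u}) (c : Limits.Cone D) (hc : Limits.IsLimit c)
  [∀ (i i' : I) (f : i ⟶ i'), IsAffineHom (D.map f)]
  [∀ i, CompactSpace (D.obj i)] [∀ i, QuasiSeparatedSpace (D.obj i)]

/-- `inc` is stable under the group operations after base change to the stage `a` -/
def GrpFacts {j : I} {H G : Over (D.obj j)} [GrpObj G] (inc : H ⟶ G) (i : I) (a : i ⟶ j) : Prop :=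
  GrpFactsAt (D.map a) inc

theorem persists_grpFacts {j : I} {H G : Over (D.obj j)} [GrpObj G] (inc : H ⟶ G) :
    Persists (GrpFacts D inc) :=
  (persists_fact D _ inc).and ((persists_fact D _ inc).and (persists_fact D _ inc))

include hc in
theorem exists_subgroup_stage (j : I) {H G : Over (D.obj j)} [GrpObj G] [FP H] [FP G]
    (inc : H ⟶ G) (h : GrpFactsAt (c.π.app j) inc) :
    ∃ (i : I) (a : i ⟶ j), GrpFacts D inc i a :=
  exists_common (persists_fact D _ inc) ((persists_fact D _ inc).and (persists_fact D _ inc))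
    (exists_fact D c hc _ inc h.1)
    (exists_common (persists_fact D _ inc) (persists_fact D _ inc) (exists_fact D c hc _ inc h.2.1)
      (exists_fact D c hc _ inc h.2.2))

include hc in
theorem exists_normal_subgroup_stage (j : I) {H G : Over (D.obj j)} [GrpObj G] [FP H] [FP G]
    (inc : H ⟶ G) [Mono inc] (h : GrpFactsAt (c.π.app j) inc)
    (hn : ∀ (T : Over c.pt) (g : T ⟶ Red.bc (c.π.app j) G) (n : T ⟶ Red.bc (c.π.app j) H),
      ∃ n' : T ⟶ Red.bc (c.π.app j) H, g * (n ≫ (Over.pullback (c.π.app j)).map inc) * g⁻¹ =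
        n' ≫ (Over.pullback (c.π.app j)).map inc) :
    ∃ (i : I) (a : i ⟶ j), GrpFacts D inc i a ∧
      ∀ (T : Over (D.obj i)) (g : T ⟶ Red.bc (D.map a) G) (n : T ⟶ Red.bc (D.map a) H),
        ∃ n' : T ⟶ Red.bc (D.map a) H, g * (n ≫ (Over.pullback (D.map a)).map inc) * g⁻¹ =
          n' ≫ (Over.pullback (D.map a)).map inc := by
  obtain ⟨i, a, hfa⟩ := exists_subgroup_stage D c hc j inc h
  obtain ⟨inst, hm⟩ := grp_of_grpFactsAt (D.map a) inc hfa
  obtain ⟨instc, hmc⟩ := grp_of_grpFactsAt (c.π.app j) inc h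
  letI := inst
  letI := instc
  have hn' : NormalPts ((Over.pullback (c.π.app j)).map inc) := hn
  have h1 : NormalPts ((Over.pullback (c.π.app i)).map ((Over.pullback (D.map a)).map inc)) := by
    rw [compIso_conj (c.w a) inc]
    haveI : IsMonHom (compIso (c.π.app i) (D.map a) (c.π.app j) (c.w a) G).symm.hom :=
      isMonHom_compIso_inv (c.w a) G
    exact normalPts_conj _ (compIso (c.π.app i) (D.map a) (c.π.app j) (c.w a) H)
      (compIso (c.π.app i) (D.map a) (c.π.app j) (c.w a) G).symm hn'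
  obtain ⟨i', g, hg⟩ := exists_normalPts_stage D c hc i (Red.bc (D.map a) H) (Red.bc (D.map a) G)
    ((Over.pullback (D.map a)).map inc) h1
  have hfa' := persists_grpFacts D inc i i' a g hfa
  obtain ⟨inst', hm'⟩ := grp_of_grpFactsAt (D.map (g ≫ a)) inc hfa'
  letI := inst'
  have h2 : NormalPts ((Over.pullback (D.map (g ≫ a))).map inc) := by
    have e : (Over.pullback (D.map (g ≫ a))).map inc =
        (compIso (D.map g) (D.map a) (D.map (g ≫ a)) (D.map_comp g a).symm H).symm.hom ≫
        (Over.pullback (D.map g)).map ((Over.pullback (D.map a)).map inc) ≫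
        (compIso (D.map g) (D.map a) (D.map (g ≫ a)) (D.map_comp g a).symm G).hom := by
      rw [compIso_naturality, Iso.symm_hom, Iso.inv_hom_id_assoc]
    rw [e]
    haveI : IsMonHom (compIso (D.map g) (D.map a) (D.map (g ≫ a)) (D.map_comp g a).symm G).hom :=
      isMonHom_compIso_hom (D.map_comp g a).symm G
    exact normalPts_conj _ (compIso (D.map g) (D.map a) (D.map (g ≫ a)) (D.map_comp g a).symm H).symm
      (compIso (D.map g) (D.map a) (D.map (g ≫ a)) (D.map_comp g a).symm G) hg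
  exact ⟨i', g ≫ a, hfa', h2⟩

end Main

section Reindex

variable {I : Type u} [SmallCategory I] [IsCofiltered I]
  (D : I ⥤ Scheme.{u}) (c : Limits.Cone D) (hc : Limits.IsLimit c)
  [∀ (i i' : I) (f : i ⟶ i'), IsAffineHom (D.map f)] (i₀ : I)
  [CompactSpace (D.obj i₀)] [QuasiSeparatedSpace (D.obj i₀)]

include hc in
/-- version of `exists_subgroup_stage` where only the stage `i₀` is assumed quasi-compact and quasi-separated -/
theorem exists_subgroup_stage' {H G : Over (D.obj i₀)} [GrpObj G] [FP H] [FP G]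
    (inc : H ⟶ G) (h : GrpFactsAt (c.π.app i₀) inc) :
    ∃ (i : I) (a : i ⟶ i₀), GrpFactsAt (D.map a) inc := by
  haveI : ∀ (i j : Over i₀) (f : i ⟶ j), IsAffineHom ((Over.forget i₀ ⋙ D).map f) :=
    fun i j f => inferInstanceAs (IsAffineHom (D.map f.left))
  haveI : ∀ i : Over i₀, CompactSpace ((Over.forget i₀ ⋙ D).obj i) :=
    fun i => QuasiCompact.compactSpace_of_compactSpace (D.map i.hom)
  haveI : ∀ i : Over i₀, QuasiSeparatedSpace ((Over.forget i₀ ⋙ D).obj i) :=
    fun i => quasiSeparatedSpace_of_quasiSeparated (D.map i.hom)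
  have hc' : IsLimit (c.whisker (Over.forget i₀)) :=
    (Functor.Initial.isLimitWhiskerEquiv _ _).symm hc
  obtain ⟨i, a, hia⟩ := @exists_subgroup_stage (Over i₀) _ _ (Over.forget i₀ ⋙ D)
    (c.whisker (Over.forget i₀)) hc' _ _ _ (Over.mk (𝟙 i₀)) H G (inferInstance : GrpObj G)
    (inferInstance : FP H) (inferInstance : FP G) inc h
  exact ⟨i.left, a.left, hia⟩

include hc in
/-- version of `exists_normal_subgroup_stage` where only the stage `i₀` is assumed quasi-compact and
quasi-separated -/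
theorem exists_normal_subgroup_stage' {H G : Over (D.obj i₀)} [GrpObj G] [FP H] [FP G]
    (inc : H ⟶ G) [Mono inc] (h : GrpFactsAt (c.π.app i₀) inc)
    (hn : ∀ (T : Over c.pt) (g : T ⟶ Red.bc (c.π.app i₀) G) (n : T ⟶ Red.bc (c.π.app i₀) H),
      ∃ n' : T ⟶ Red.bc (c.π.app i₀) H, g * (n ≫ (Over.pullback (c.π.app i₀)).map inc) * g⁻¹ =
        n' ≫ (Over.pullback (c.π.app i₀)).map inc) :
    ∃ (i : I) (a : i ⟶ i₀), GrpFactsAt (D.map a) inc ∧
      ∀ (T : Over (D.obj i)) (g : T ⟶ Red.bc (D.map a) G) (n : T ⟶ Red.bc (D.map a) H),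
        ∃ n' : T ⟶ Red.bc (D.map a) H, g * (n ≫ (Over.pullback (D.map a)).map inc) * g⁻¹ =
          n' ≫ (Over.pullback (D.map a)).map inc := by
  haveI : ∀ (i j : Over i₀) (f : i ⟶ j), IsAffineHom ((Over.forget i₀ ⋙ D).map f) :=
    fun i j f => inferInstanceAs (IsAffineHom (D.map f.left))
  haveI : ∀ i : Over i₀, CompactSpace ((Over.forget i₀ ⋙ D).obj i) :=
    fun i => QuasiCompact.compactSpace_of_compactSpace (D.map i.hom)
  haveI : ∀ i : Over i₀, QuasiSeparatedSpace ((Over.forget i₀ ⋙ D).obj i) :=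
    fun i => quasiSeparatedSpace_of_quasiSeparated (D.map i.hom)
  have hc' : IsLimit (c.whisker (Over.forget i₀)) :=
    (Functor.Initial.isLimitWhiskerEquiv _ _).symm hc
  obtain ⟨i, a, hia, hna⟩ := @exists_normal_subgroup_stage (Over i₀) _ _ (Over.forget i₀ ⋙ D)
    (c.whisker (Over.forget i₀)) hc' _ _ _ (Over.mk (𝟙 i₀)) H G (inferInstance : GrpObj G)
    (inferInstance : FP H) (inferInstance : FP G) inc (inferInstance : Mono inc) h hn
  exact ⟨i.left, a.left, hia, hna⟩

end Reindex

end Groth.Agent.Lib.helper12.LimOver
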