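import Mathlib
import Groth.Agent.Lib.Helper12.LimOver6
import Groth.Agent.Lib.Helper9.LimDescendEmpty
import Groth.Agent.S3402

/-!
# Descent of fppf coverings to a stage of a cofiltered limit (helper12)

* `exists_flat_obj_descend`, `exists_flat_family_descend`: flat objects of finite presentation come from a stage.
* `exists_forall_map_notMem`, `exists_jointly_surjective_stage`: joint surjectivity descends.
* `exists_fppf_cover_descend`.
-/

set_option autoImplicit false
set_option linter.style.haveILetI false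
set_option linter.unusedSectionVars false

universe u
open CategoryTheory CategoryTheory.Limits AlgebraicGeometry MonoidalCategory
  CartesianMonoidalCategory MonObj

namespace Groth.Agent.Lib.helper12.LimOver

section Lim

variable {I : Type u} [SmallCategory I] [IsCofiltered I]
  (D : I ⥤ Scheme.{u}) (c : Limits.Cone D) (hc : Limits.IsLimit c)
  [∀ (i i' : I) (f : i ⟶ i'), IsAffineHom (D.map f)]
  [∀ i, CompactSpace (D.obj i)] [∀ i, QuasiSeparatedSpace (D.obj i)]

include hc in
theorem exists_flat_obj_descend (Z : Over c.pt) [FP Z] (hfl : Flat Z.hom) :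
    ∃ (i : I) (Zi : Over (D.obj i)), FP Zi ∧ Flat Zi.hom ∧
      Nonempty (Z ≅ Red.bc (c.π.app i) Zi) := by
  obtain ⟨i₁, Z₁, hZ₁, ⟨e⟩⟩ := exists_obj_descend D c hc Z
  have h1 : Flat (Red.bc (c.π.app i₁) Z₁).hom := by
    rw [← Over.w e.inv]
    infer_instance
  obtain ⟨i₂, g, hg⟩ := exists_flat_hom_stage D c hc i₁ Z₁ h1
  exact ⟨i₂, Red.bc (D.map g) Z₁, inferInstance, hg,
    ⟨e ≪≫ (compIso (c.π.app i₂) (D.map g) (c.π.app i₁) (c.w g) Z₁).symm⟩⟩

include hc in
theorem exists_flat_family_descend {n : ℕ} (Z : Fin n → Over c.pt) (hZ : ∀ j, FP (Z j))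
    (hfl : ∀ j, Flat (Z j).hom) :
    ∃ (i : I) (W : Fin n → Over (D.obj i)), ∀ j, FP (W j) ∧ Flat (W j).hom ∧
      Nonempty (Z j ≅ Red.bc (c.π.app i) (W j)) := by
  have h : ∀ j, ∃ (i : I) (Zi : Over (D.obj i)), FP Zi ∧ Flat Zi.hom ∧
      Nonempty (Z j ≅ Red.bc (c.π.app i) Zi) := fun j => by
    haveI := hZ j
    exact exists_flat_obj_descend D c hc (Z j) (hfl j)
  choose ii Zi hFP hflat hiso using h
  classical
  obtain ⟨i, hi⟩ := IsCofiltered.inf_objs_exists (Finset.univ.image ii)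
  have f : ∀ j, i ⟶ ii j := fun j => (hi (Finset.mem_image_of_mem ii (Finset.mem_univ j))).some
  refine ⟨i, fun j => Red.bc (D.map (f j)) (Zi j), fun j => ⟨?_, ?_, ?_⟩⟩
  · haveI := hFP j
    infer_instance
  · haveI := hflat j
    exact inferInstanceAs (Flat (pullback.snd (Zi j).hom (D.map (f j))))
  · obtain ⟨e⟩ := hiso j
    exact ⟨e ≪≫ (compIso (c.π.app i) (D.map (f j)) (c.π.app (ii j)) (c.w (f j)) (Zi j)).symm⟩

include hc in
theorem exists_forall_map_notMem (i : I) (Z : Set (D.obj i)) (hZ : ProCons.IsProConstructible Z)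
    (h : ∀ x : c.pt, (c.π.app i) x ∉ Z) :
    ∃ (i' : I) (φ : i' ⟶ i), ∀ x' : D.obj i', (D.map φ) x' ∉ Z := by
  obtain ⟨i', φ, hφ⟩ := Groth.Agent.Lib.helper9.exists_forall_snd_notMem D c hc i (𝟙 (D.obj i)) Z hZ
    (fun w => by
      have e : (pullback.snd (c.π.app i) (𝟙 (D.obj i))) w =
          (c.π.app i) ((pullback.fst (c.π.app i) (𝟙 (D.obj i))) w) := by
        rw [← Scheme.Hom.comp_apply, pullback.condition, Category.comp_id]
      rw [e]
      exact h _)
  refine ⟨i', φ, fun x' => ?_⟩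
  obtain ⟨w, hw1, hw2⟩ := Scheme.Pullback.exists_preimage_pullback (f := D.map φ)
    (g := 𝟙 (D.obj i)) x' ((D.map φ) x') (by simp)
  rw [← hw2]
  exact hφ w

include hc in
theorem exists_jointly_surjective_stage {n : ℕ} (i : I) (W : Fin n → Over (D.obj i))
    (hW : ∀ j, FP (W j))
    (h : ∀ x : c.pt, ∃ (j : Fin n) (y : (Red.bc (c.π.app i) (W j)).left),
      (Red.bc (c.π.app i) (W j)).hom y = x) :
    ∃ (i' : I) (g : i' ⟶ i), ∀ x' : D.obj i', ∃ (j : Fin n) (y : (Red.bc (D.map g) (W j)).left),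
      (Red.bc (D.map g) (W j)).hom y = x' := by
  have hE : Topology.IsLocallyConstructible (⋃ j, Set.range (W j).hom : Set (D.obj i)) := by
    refine Topology.IsLocallyConstructible.iUnion fun j => ?_
    haveI := hW j
    rw [← Set.image_univ]
    exact (W j).hom.isLocallyConstructible_image Topology.IsLocallyConstructible.univ
  have hEc : Topology.IsLocallyConstructible (⋃ j, Set.range (W j).hom : Set (D.obj i))ᶜ := by
    intro x
    obtain ⟨U, hxU, hU, hUs⟩ := hE x
    exact ⟨U, hxU, hU, by simpa using hUs.compl⟩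
  have hZ : ProCons.IsProConstructible (⋃ j, Set.range (W j).hom : Set (D.obj i))ᶜ :=
    ((Groth.Agent.S3402.result _ _).mp hEc).2
  obtain ⟨i', g, hg⟩ := exists_forall_map_notMem D c hc i _ hZ (fun x hx => hx (by
    obtain ⟨j, y, hy⟩ := h x
    refine Set.mem_iUnion.mpr ⟨j, (pullback.fst (W j).hom (c.π.app i)) y, ?_⟩
    have e1 : (W j).hom ((pullback.fst (W j).hom (c.π.app i)) y) =
        (c.π.app i) ((pullback.snd (W j).hom (c.π.app i)) y) := by
      rw [← Scheme.Hom.comp_apply, pullback.condition, Scheme.Hom.comp_apply]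
    rw [e1]
    exact congrArg _ hy))
  refine ⟨i', g, fun x' => ?_⟩
  have hx' := hg x'
  rw [Set.notMem_compl_iff] at hx'
  obtain ⟨j, v, hv⟩ := Set.mem_iUnion.mp hx'
  obtain ⟨y, hy1, hy2⟩ := Scheme.Pullback.exists_preimage_pullback (f := (W j).hom)
    (g := D.map g) v x' hv
  exact ⟨j, y, hy2⟩

include hc in
/-- an fppf covering of the limit comes from a finite fppf covering of a stage -/
theorem exists_fppf_cover_descend {A : Type u} (U : A → Over c.pt) (hU : ∀ a, FP (U a))
    (hfl : ∀ a, Flat (U a).hom) (hcov : ∀ x : c.pt, ∃ (a : A) (y : (U a).left), (U a).hom y = x) :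
    ∃ (i : I) (n : ℕ) (V : Fin n → Over (D.obj i)) (a : Fin n → A),
      (∀ j, FP (V j) ∧ Flat (V j).hom ∧ Nonempty (U (a j) ≅ Red.bc (c.π.app i) (V j))) ∧
      ∀ x : D.obj i, ∃ (j : Fin n) (y : (V j).left), (V j).hom y = x := by
  haveI : ∀ {i j : I} (f : i ⟶ j), IsAffineHom (D.map f) := fun f => inferInstance
  haveI : CompactSpace c.pt := Scheme.compactSpace_of_isLimit D c hc
  have hopen : ∀ a, IsOpen (Set.range (U a).hom) := fun a => by
    haveI := hU a
    haveI := hfl a
    haveI : UniversallyOpen (U a).hom := UniversallyOpen.of_flat _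
    exact (U a).hom.isOpenMap.isOpen_range
  obtain ⟨t, ht⟩ := isCompact_univ.elim_finite_subcover (fun a => Set.range (U a).hom) hopen
    (fun x _ => by
      obtain ⟨a, y, hy⟩ := hcov x
      exact Set.mem_iUnion.mpr ⟨a, y, hy⟩)
  obtain ⟨i₁, W, hW⟩ := exists_flat_family_descend D c hc
    (fun j : Fin t.card => U ((t.equivFin.symm j : t) : A)) (fun j => hU _) (fun j => hfl _)
  have hsurj : ∀ x : c.pt, ∃ (j : Fin t.card) (y : (Red.bc (c.π.app i₁) (W j)).left),
      (Red.bc (c.π.app i₁) (W j)).hom y = x := by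
    intro x
    obtain ⟨a', ha', y, hy⟩ : ∃ a' ∈ t, ∃ y : (U a').left, (U a').hom y = x := by
      have := ht (Set.mem_univ x)
      simp only [Set.mem_iUnion] at this
      obtain ⟨a', ha', y, hy⟩ := this
      exact ⟨a', ha', y, hy⟩
    obtain ⟨j, hj⟩ : ∃ j : Fin t.card, ((t.equivFin.symm j : t) : A) = a' :=
      ⟨t.equivFin ⟨a', ha'⟩, by simp⟩
    subst hj
    obtain ⟨e⟩ := (hW j).2.2
    refine ⟨j, e.hom.left y, ?_⟩
    rw [← Scheme.Hom.comp_apply, Over.w e.hom]
    exact hy
  obtain ⟨i₂, g, hg⟩ := exists_jointly_surjective_stage D c hc i₁ W (fun j => (hW j).1) hsurj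
  refine ⟨i₂, t.card, fun j => Red.bc (D.map g) (W j), fun j => ((t.equivFin.symm j : t) : A),
    fun j => ⟨?_, ?_, ?_⟩, hg⟩
  · haveI := (hW j).1
    infer_instance
  · haveI := (hW j).2.1
    exact inferInstanceAs (Flat (pullback.snd (W j).hom (D.map g)))
  · obtain ⟨e⟩ := (hW j).2.2
    exact ⟨e ≪≫ (compIso (c.π.app i₂) (D.map g) (c.π.app i₁) (c.w g) (W j)).symm⟩

end Lim

end Groth.Agent.Lib.helper12.LimOver
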