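import Mathlib
import Groth.Prelude.Def_Magnet3
import Groth.Agent.Lib.Helper12.DomBC
import Groth.Agent.Lib.Helper21.MagnetSch

set_option autoImplicit false
universe u
open CategoryTheory Limits AlgebraicGeometry MonoidalCategory CartesianMonoidalCategory MonObj

namespace Groth.Agent.Lib.Helper12.MagnetDom

section Alg
variable (k : Type u) [CommRing k] {M : Type} [AddCommMonoid M] (N : AddSubmonoid M)

theorem sub_inj : Function.Injective (AddMonoidHom.toMultiplicative N.subtype) := by
  intro a b h
  exact Subtype.ext h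

/-- the ring map `k[N] → k[M]` -/
noncomputable abbrev φ₀ : MonoidAlgebra k (Multiplicative N) →+* MonoidAlgebra k (Multiplicative M) :=
  (MonoidAlgebra.mapDomainBialgHom k (AddMonoidHom.toMultiplicative N.subtype)).toAlgHom.toRingHom

/-- the additive retraction `k[M] → k[N]` -/
noncomputable def ρ₀ : MonoidAlgebra k (Multiplicative M) →+ MonoidAlgebra k (Multiplicative N) :=
  MonoidAlgebra.comapDomainAddMonoidHom (AddMonoidHom.toMultiplicative N.subtype) (sub_inj N)

theorem ρ₀_φ₀ (x : MonoidAlgebra k (Multiplicative N)) : ρ₀ k N (φ₀ k N x) = x := by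
  ext : 1
  simp only [ρ₀, φ₀, MonoidAlgebra.comapDomainAddMonoidHom_apply, MonoidAlgebra.coeff_comapDomain]
  exact Finsupp.comapDomain_mapDomain _ (sub_inj N) x.coeff

theorem ρ₀_lin (c : k) (x : MonoidAlgebra k (Multiplicative M)) :
    ρ₀ k N (φ₀ k N (algebraMap k _ c) * x) = algebraMap k _ c * ρ₀ k N x := by
  have h1 : φ₀ k N (algebraMap k _ c) = algebraMap k _ c :=
    (MonoidAlgebra.mapDomainBialgHom k (AddMonoidHom.toMultiplicative N.subtype)).toAlgHom.commutes c
  rw [h1, ← Algebra.smul_def, ← Algebra.smul_def]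
  ext : 1
  simp [ρ₀, Finsupp.comapDomain_smul]

end Alg

section Sch
open Magnet

variable (S : Scheme.{u}) {M : Type} [AddCommMonoid M] (N : AddSubmonoid M) (T : Over S)

theorem dominant_whiskerRight :
    IsSchemeTheoreticallyDominant ((AMonS.map S N.subtype) ▷ T).left := by
  let k := ULift.{u} ℤ
  let tS : S ⟶ Spec (CommRingCat.of k) := Limits.IsTerminal.from specULiftZIsTerminal S
  let i : AMonS S M ⟶ AMonS S N := AMonS.map S N.subtype
  let i₀ : AMon k M ⟶ AMon k N := AMon.map k N.subtype
  let e : CommRingCat.of k ⟶ CommRingCat.of (MonoidAlgebra k (Multiplicative N)) :=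
    CommRingCat.ofHom (algebraMap k _)
  let φ : CommRingCat.of (MonoidAlgebra k (Multiplicative N)) ⟶
      CommRingCat.of (MonoidAlgebra k (Multiplicative M)) := CommRingCat.ofHom (φ₀ k N)
  have he : Spec.map e = (AMon k N).hom := rfl
  have hφ : Spec.map φ = i₀.left := rfl
  -- square E
  have hE : IsPullback (fst (AMonS S N) T).left (snd (AMonS S N) T).left (AMonS S N).hom T.hom :=
    IsPullback.of_hasPullback (AMonS S N).hom T.hom
  have hF : IsPullback (pullback.fst (AMon k N).hom tS) (pullback.snd (AMon k N).hom tS)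
      (AMon k N).hom tS := IsPullback.of_hasPullback _ _
  have hA : IsPullback (snd (AMonS S N) T).left
      ((fst (AMonS S N) T).left ≫ pullback.fst (AMon k N).hom tS) (T.hom ≫ tS) (Spec.map e) :=
    hE.flip.paste_vert hF.flip
  -- square C
  have hi1 : i.left ≫ pullback.fst (AMon k N).hom tS = pullback.fst (AMon k M).hom tS ≫ i₀.left :=
    pullback.lift_fst _ _ _
  have hi2 : i.left ≫ pullback.snd (AMon k N).hom tS = pullback.snd (AMon k M).hom tS :=
    pullback.lift_snd _ _ _
  have hC : IsPullback (pullback.fst (AMon k M).hom tS) i.left i₀.left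
      (pullback.fst (AMon k N).hom tS) := by
    refine IsPullback.of_bot ?_ hi1.symm hF
    rw [hi2, Over.w i₀]
    exact IsPullback.of_hasPullback _ _
  have hD : IsPullback (i ▷ T).left (fst (AMonS S M) T).left (fst (AMonS S N) T).left i.left :=
    (Groth.Agent.Lib.Helper21.MagnetSch.isPullback_whiskerRight i T).map (Over.forget _)
  have hB : IsPullback (i ▷ T).left ((fst (AMonS S M) T).left ≫ pullback.fst (AMon k M).hom tS)
      ((fst (AMonS S N) T).left ≫ pullback.fst (AMon k N).hom tS) (Spec.map φ) :=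
    hD.paste_vert hC.flip
  exact DomBC.dominant_of_isPullback e φ (ρ₀ k N) (ρ₀_φ₀ k N) (ρ₀_lin k N) _ _ _ hA _ _ hB

end Sch

end Groth.Agent.Lib.Helper12.MagnetDom

namespace Groth.Agent.Lib.Helper12.MagnetDom

/-! ### General injective monoid maps (appended) -/

section AlgGen
variable (k : Type u) [CommRing k] {M N : Type} [AddCommMonoid M] [AddCommMonoid N]
  (f : N →+ M) (hf : Function.Injective f)

include hf in
theorem toMul_inj : Function.Injective (AddMonoidHom.toMultiplicative f) := by
  intro a b h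
  exact hf h

/-- the ring map `k[N] → k[M]` induced by `f` -/
noncomputable abbrev φ₁ : MonoidAlgebra k (Multiplicative N) →+* MonoidAlgebra k (Multiplicative M) :=
  (MonoidAlgebra.mapDomainBialgHom k (AddMonoidHom.toMultiplicative f)).toAlgHom.toRingHom

/-- the additive retraction `k[M] → k[N]` -/
noncomputable def ρ₁ : MonoidAlgebra k (Multiplicative M) →+ MonoidAlgebra k (Multiplicative N) :=
  MonoidAlgebra.comapDomainAddMonoidHom (AddMonoidHom.toMultiplicative f) (toMul_inj f hf)

theorem ρ₁_φ₁ (x : MonoidAlgebra k (Multiplicative N)) : ρ₁ k f hf (φ₁ k f x) = x := by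
  ext : 1
  simp only [ρ₁, φ₁, MonoidAlgebra.comapDomainAddMonoidHom_apply, MonoidAlgebra.coeff_comapDomain]
  exact Finsupp.comapDomain_mapDomain _ (toMul_inj f hf) x.coeff

theorem ρ₁_lin (c : k) (x : MonoidAlgebra k (Multiplicative M)) :
    ρ₁ k f hf (φ₁ k f (algebraMap k _ c) * x) = algebraMap k _ c * ρ₁ k f hf x := by
  have h1 : φ₁ k f (algebraMap k _ c) = algebraMap k _ c :=
    (MonoidAlgebra.mapDomainBialgHom k (AddMonoidHom.toMultiplicative f)).toAlgHom.commutes c
  rw [h1, ← Algebra.smul_def, ← Algebra.smul_def]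
  ext : 1
  simp only [ρ₁, MonoidAlgebra.comapDomainAddMonoidHom_apply, MonoidAlgebra.coeff_comapDomain,
    MonoidAlgebra.coeff_smul]
  exact Finsupp.comapDomain_smul_of_injective (toMul_inj f hf) c x.coeff

end AlgGen

section SchGen
open Magnet

variable (S : Scheme.{u}) {M N : Type} [AddCommMonoid M] [AddCommMonoid N]
  (f : N →+ M) (hf : Function.Injective f) (T : Over S)

include hf in
theorem dominant_whiskerRight_of_injective :
    IsSchemeTheoreticallyDominant ((AMonS.map S f) ▷ T).left := by
  let k := ULift.{u} ℤ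
  let tS : S ⟶ Spec (CommRingCat.of k) := Limits.IsTerminal.from specULiftZIsTerminal S
  let i : AMonS S M ⟶ AMonS S N := AMonS.map S f
  let i₀ : AMon k M ⟶ AMon k N := AMon.map k f
  let e : CommRingCat.of k ⟶ CommRingCat.of (MonoidAlgebra k (Multiplicative N)) :=
    CommRingCat.ofHom (algebraMap k _)
  let φ : CommRingCat.of (MonoidAlgebra k (Multiplicative N)) ⟶
      CommRingCat.of (MonoidAlgebra k (Multiplicative M)) := CommRingCat.ofHom (φ₁ k f)
  have he : Spec.map e = (AMon k N).hom := rfl
  have hφ : Spec.map φ = i₀.left := rfl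
  have hE : IsPullback (fst (AMonS S N) T).left (snd (AMonS S N) T).left (AMonS S N).hom T.hom :=
    IsPullback.of_hasPullback (AMonS S N).hom T.hom
  have hF : IsPullback (pullback.fst (AMon k N).hom tS) (pullback.snd (AMon k N).hom tS)
      (AMon k N).hom tS := IsPullback.of_hasPullback _ _
  have hA : IsPullback (snd (AMonS S N) T).left
      ((fst (AMonS S N) T).left ≫ pullback.fst (AMon k N).hom tS) (T.hom ≫ tS) (Spec.map e) :=
    hE.flip.paste_vert hF.flip
  have hi1 : i.left ≫ pullback.fst (AMon k N).hom tS = pullback.fst (AMon k M).hom tS ≫ i₀.left :=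
    pullback.lift_fst _ _ _
  have hi2 : i.left ≫ pullback.snd (AMon k N).hom tS = pullback.snd (AMon k M).hom tS :=
    pullback.lift_snd _ _ _
  have hC : IsPullback (pullback.fst (AMon k M).hom tS) i.left i₀.left
      (pullback.fst (AMon k N).hom tS) := by
    refine IsPullback.of_bot ?_ hi1.symm hF
    rw [hi2, Over.w i₀]
    exact IsPullback.of_hasPullback _ _
  have hD : IsPullback (i ▷ T).left (fst (AMonS S M) T).left (fst (AMonS S N) T).left i.left :=
    (Groth.Agent.Lib.Helper21.MagnetSch.isPullback_whiskerRight i T).map (Over.forget _)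
  have hB : IsPullback (i ▷ T).left ((fst (AMonS S M) T).left ≫ pullback.fst (AMon k M).hom tS)
      ((fst (AMonS S N) T).left ≫ pullback.fst (AMon k N).hom tS) (Spec.map φ) :=
    hD.paste_vert hC.flip
  exact DomBC.dominant_of_isPullback e φ (ρ₁ k f hf) (ρ₁_φ₁ k f hf) (ρ₁_lin k f hf) _ _ _ hA _ _ hB

/-- `AMonS.map` of the identity is the identity. -/
theorem AMonS_map_id : AMonS.map S (AddMonoidHom.id N) = 𝟙 (AMonS S N) := by
  have h0 : AMon.map (ULift.{u} ℤ) (AddMonoidHom.id N) = 𝟙 (AMon (ULift.{u} ℤ) N) := by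
    ext : 1
    rw [AMon.map_left]
    have : (MonoidAlgebra.mapDomainBialgHom (ULift.{u} ℤ)
        (AddMonoidHom.toMultiplicative (AddMonoidHom.id N))).toAlgHom.toRingHom = RingHom.id _ := by
      refine RingHom.ext fun x => ?_
      change MonoidAlgebra.mapDomainBialgHom (ULift.{u} ℤ) (MonoidHom.id (Multiplicative N)) x = x
      rw [MonoidAlgebra.mapDomainBialgHom_id]
      rfl
    rw [this]
    exact Spec.map_id _
  rw [AMonS.map, h0, CategoryTheory.Functor.map_id]

end SchGen

end Groth.Agent.Lib.Helper12.MagnetDom
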