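import Mathlib
import Groth.Prelude.Def_Magnet4
import Groth.Agent.Lib.Helper12.FerrandBC2

/-!
# `A(N')_S` is the pushout of `A(L')_S ← A(L)_S → A(N)_S` (helper12)

Monoid-algebra identities (`res`, `inc`, `splitData`) showing that
`k[N'] = k[N] ×_{k[L]} k[L']` universally for `N' = L' ∖ (L ∖ N)`, and the resulting pushout squares of
schemes over an arbitrary base (`isPushout_AMonS`, `isPushout_bc`).
-/

set_option autoImplicit false
universe u
open CategoryTheory Limits AlgebraicGeometry

namespace Groth.Agent.Lib.Helper12.MagnetPushout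
open Magnet FerrandBC

section Alg
open scoped Classical
variable (k : Type u) [CommRing k] {M : Type} [AddCommMonoid M]

/-- restriction `k[G] → k[F]`: `X^g ↦ X^g` if `g ∈ F`, else `0` (a `k`-linear map) -/
noncomputable def res (F G : AddSubmonoid M) :
    MonoidAlgebra k (Multiplicative ↥G) →ₗ[k] MonoidAlgebra k (Multiplicative ↥F) :=
  (MonoidAlgebra.basis (Multiplicative ↥G) k).constr k
    (fun g => if h : ((Multiplicative.toAdd g : ↥G) : M) ∈ F then
      MonoidAlgebra.single (Multiplicative.ofAdd (⟨_, h⟩ : ↥F)) 1 else 0)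

theorem single_eq_smul {G : Type} [Monoid G] (g : G) (r : k) :
    (MonoidAlgebra.single g r : MonoidAlgebra k G) = r • MonoidAlgebra.single g 1 := by
  rw [MonoidAlgebra.smul_single, smul_eq_mul, mul_one]

theorem res_single_of_mem (F G : AddSubmonoid M) (g : ↥G) (h : (g : M) ∈ F) (r : k) :
    res k F G (MonoidAlgebra.single (Multiplicative.ofAdd g) r) =
      MonoidAlgebra.single (Multiplicative.ofAdd (⟨g, h⟩ : ↥F)) r := by
  rw [single_eq_smul, map_smul, res, ← MonoidAlgebra.basis_apply, Module.Basis.constr_basis,
    dif_pos (show ((Multiplicative.toAdd (Multiplicative.ofAdd g) : ↥G) : M) ∈ F from h),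
    ← single_eq_smul]
  rfl

theorem res_single_of_not_mem (F G : AddSubmonoid M) (g : ↥G) (h : (g : M) ∉ F) (r : k) :
    res k F G (MonoidAlgebra.single (Multiplicative.ofAdd g) r) = 0 := by
  rw [single_eq_smul, map_smul, res, ← MonoidAlgebra.basis_apply, Module.Basis.constr_basis,
    dif_neg (show ¬ ((Multiplicative.toAdd (Multiplicative.ofAdd g) : ↥G) : M) ∈ F from h),
    smul_zero]

/-- inclusion `k[F] → k[G]` for `F ≤ G` -/
noncomputable def inc {F G : AddSubmonoid M} (hle : F ≤ G) :
    MonoidAlgebra k (Multiplicative ↥F) →ₐ[k] MonoidAlgebra k (Multiplicative ↥G) :=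
  (MonoidAlgebra.mapDomainBialgHom k
    (AddMonoidHom.toMultiplicative (AddSubmonoid.inclusion hle))).toAlgHom

theorem inc_single {F G : AddSubmonoid M} (hle : F ≤ G) (f : ↥F) (r : k) :
    inc k hle (MonoidAlgebra.single (Multiplicative.ofAdd f) r) =
      MonoidAlgebra.single (Multiplicative.ofAdd (⟨f, hle f.2⟩ : ↥G)) r := by
  rw [inc, BialgHom.coe_toAlgHom, MonoidAlgebra.mapDomainBialgHom_single]
  rfl

theorem face_eq_res {G F : AddSubmonoid M} (hF : IsFace G F)
    (x : MonoidAlgebra k (Multiplicative ↥G)) : faceAlgHom k hF x = res k F G x := by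
  induction x using MonoidAlgebra.induction_linear with
  | zero => simp
  | add x y hx hy => rw [map_add, map_add, hx, hy]
  | single m r =>
    obtain ⟨g, rfl⟩ : ∃ g : ↥G, Multiplicative.ofAdd g = m := ⟨Multiplicative.toAdd m, rfl⟩
    by_cases h : (g : M) ∈ F
    · rw [faceAlgHom_single_of_mem k hF g h, res_single_of_mem k F G g h]
    · rw [faceAlgHom_single_of_not_mem k hF g h, res_single_of_not_mem k F G g h]

section Data
variable {N N' L L' : AddSubmonoid M} (hNL : N ≤ L) (hN'L' : N' ≤ L') (hL : IsFace L' L)
  (hN : IsFace N' N)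
  (hdiff : (N' : Set M) = (L' : Set M) \ ((L : Set M) \ (N : Set M)))

include hdiff in
theorem mem_N'_iff (x : M) : x ∈ N' ↔ x ∈ L' ∧ (x ∈ L → x ∈ N) := by
  have := Set.ext_iff.mp hdiff x
  simp only [SetLike.mem_coe, Set.mem_sdiff, not_and, not_not] at this
  exact this

/-- the split Ferrand data `k[N'] = k[N] ×_{k[L]} k[L']` -/
noncomputable def splitData :
    SplitData k (MonoidAlgebra k (Multiplicative ↥N')) (MonoidAlgebra k (Multiplicative ↥N))
      (MonoidAlgebra k (Multiplicative ↥L')) (MonoidAlgebra k (Multiplicative ↥L)) where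
  ι₁ := faceAlgHom k hN
  ι₂ := inc k hN'L'
  q := inc k hNL
  p := faceAlgHom k hL
  comm x := by
    rw [face_eq_res, face_eq_res]
    induction x using MonoidAlgebra.induction_linear with
    | zero => simp
    | add x y hx hy => simp only [map_add, hx, hy]
    | single m r =>
      obtain ⟨g, rfl⟩ : ∃ g : ↥N', Multiplicative.ofAdd g = m := ⟨Multiplicative.toAdd m, rfl⟩
      rw [inc_single]
      by_cases h : (g : M) ∈ N
      · rw [res_single_of_mem k N N' g h, inc_single, res_single_of_mem k L L' _ (hNL h)]
      · have h' : (g : M) ∉ L := fun hl => h (((mem_N'_iff hdiff _).mp g.2).2 hl)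
        rw [res_single_of_not_mem k N N' g h, map_zero, res_single_of_not_mem k L L' _ h']
  ρ₂ := res k N' L'
  τ := res k N L
  s := (inc k hL.le).toLinearMap
  h1 x := by
    induction x using MonoidAlgebra.induction_linear with
    | zero => simp
    | add x y hx hy => simp only [map_add, hx, hy]
    | single m r =>
      obtain ⟨g, rfl⟩ : ∃ g : ↥N', Multiplicative.ofAdd g = m := ⟨Multiplicative.toAdd m, rfl⟩
      rw [inc_single, res_single_of_mem k N' L' _ g.2]
  h2 y := by
    simp only [face_eq_res]
    induction y using MonoidAlgebra.induction_linear with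
    | zero => simp
    | add x y hx hy =>
      simp only [map_add, map_sub] at hx hy ⊢
      linear_combination hx + hy
    | single m r =>
      obtain ⟨g, rfl⟩ : ∃ g : ↥L', Multiplicative.ofAdd g = m := ⟨Multiplicative.toAdd m, rfl⟩
      by_cases h : (g : M) ∈ N'
      · rw [res_single_of_mem k N' L' g h, inc_single]
        by_cases hl : (g : M) ∈ L
        · have hn : (g : M) ∈ N := ((mem_N'_iff hdiff _).mp h).2 hl
          rw [res_single_of_mem k L L' g hl, res_single_of_mem k N L _ hn, inc_single, sub_self,
            map_zero, add_zero]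
        · rw [res_single_of_not_mem k L L' g hl, map_zero, map_zero, sub_self, map_zero, add_zero]
      · have hl : (g : M) ∈ L := by
          by_contra hl
          exact h ((mem_N'_iff hdiff _).mpr ⟨g.2, fun h' => absurd h' hl⟩)
        have hn : (g : M) ∉ N := fun hn => h ((mem_N'_iff hdiff _).mpr ⟨g.2, fun _ => hn⟩)
        rw [res_single_of_not_mem k N' L' g h, map_zero, zero_add, res_single_of_mem k L L' g hl,
          res_single_of_not_mem k N L _ hn, map_zero, sub_zero]
        exact inc_single k hL.le _ r
  h3 y := by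
    simp only [face_eq_res]
    induction y using MonoidAlgebra.induction_linear with
    | zero => simp
    | add x y hx hy => simp only [map_add, hx, hy]
    | single m r =>
      obtain ⟨g, rfl⟩ : ∃ g : ↥L', Multiplicative.ofAdd g = m := ⟨Multiplicative.toAdd m, rfl⟩
      by_cases h : (g : M) ∈ N'
      · rw [res_single_of_mem k N' L' g h]
        by_cases hn : (g : M) ∈ N
        · rw [res_single_of_mem k N N' _ hn, res_single_of_mem k L L' g (hNL hn),
            res_single_of_mem k N L _ hn]
        · rw [res_single_of_not_mem k N N' _ hn]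
          by_cases hl : (g : M) ∈ L
          · rw [res_single_of_mem k L L' g hl, res_single_of_not_mem k N L _ hn]
          · rw [res_single_of_not_mem k L L' g hl, map_zero]
      · have hl : (g : M) ∈ L := by
          by_contra hl
          exact h ((mem_N'_iff hdiff _).mpr ⟨g.2, fun h' => absurd h' hl⟩)
        have hn : (g : M) ∉ N := fun hn => h ((mem_N'_iff hdiff _).mpr ⟨g.2, fun _ => hn⟩)
        rw [res_single_of_not_mem k N' L' g h, map_zero, res_single_of_mem k L L' g hl,
          res_single_of_not_mem k N L _ hn]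
  h4 b := by
    induction b using MonoidAlgebra.induction_linear with
    | zero => simp
    | add x y hx hy => simp only [map_add, hx, hy]
    | single m r =>
      obtain ⟨g, rfl⟩ : ∃ g : ↥N, Multiplicative.ofAdd g = m := ⟨Multiplicative.toAdd m, rfl⟩
      rw [inc_single, res_single_of_mem k N L _ g.2]
  h5 a := by
    simp only [face_eq_res]
    induction a using MonoidAlgebra.induction_linear with
    | zero => simp
    | add x y hx hy => simp only [map_add, hx, hy]
    | single m r =>
      obtain ⟨g, rfl⟩ : ∃ g : ↥L, Multiplicative.ofAdd g = m := ⟨Multiplicative.toAdd m, rfl⟩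
      change res k L L' (inc k hL.le _) = _
      rw [inc_single, res_single_of_mem k L L' _ g.2]

end Data

end Alg

section Sch
variable (k : Type u) [CommRing k] {M : Type} [AddCommMonoid M]
  {N N' L L' : AddSubmonoid M} (hNL : N ≤ L) (hN'L' : N' ≤ L') (hL : IsFace L' L)
  (hN : IsFace N' N)
  (hdiff : (N' : Set M) = (L' : Set M) \ ((L : Set M) \ (N : Set M)))

include hdiff in
/-- base change of the square `A(L) → A(L')`, `A(L) → A(N)`, `A(L') → A(N')`, `A(N) → A(N')` along
any `t : S ⟶ Spec k` is a pushout of `S`-schemes -/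
theorem isPushout_bc (S : Scheme.{u}) (t : S ⟶ Spec (CommRingCat.of k)) :
    IsPushout ((Over.pullback t).map (AMon.faceMap k hL))
      ((Over.pullback t).map (AMon.map k (AddSubmonoid.inclusion hNL)))
      ((Over.pullback t).map (AMon.map k (AddSubmonoid.inclusion hN'L')))
      ((Over.pullback t).map (AMon.faceMap k hN)) :=
  isPushout_over (splitData k hNL hN'L' hL hN hdiff) S t

include hdiff in
/-- **`A(N')_S` is the pushout of `A(L')_S ← A(L)_S → A(N)_S`** over any base scheme `S`. -/
theorem isPushout_AMonS (S : Scheme.{u}) :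
    IsPushout (AMonS.faceMap S hL) (AMonS.map S (AddSubmonoid.inclusion hNL))
      (AMonS.map S (AddSubmonoid.inclusion hN'L')) (AMonS.faceMap S hN) :=
  isPushout_bc (ULift.{u} ℤ) hNL hN'L' hL hN hdiff S
    (Limits.IsTerminal.from specULiftZIsTerminal S)

end Sch

end Groth.Agent.Lib.Helper12.MagnetPushout
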