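import Mathlib
import Groth.Prelude.Def_Magnet4
import Groth.Agent.Lib.Helper12.MagnetPushout

/-!
# The pushout `A(N')_S = A(L')_S ⊔_{A(L)_S} A(N)_S` times any `S`-scheme, and attractors (helper12)
-/

set_option autoImplicit false
universe u
open CategoryTheory Limits AlgebraicGeometry MonoidalCategory CartesianMonoidalCategory MonObj

namespace Groth.Agent.Lib.Helper12.MagnetPushout
open Magnet FerrandBC

theorem whiskerRight_left_eq {S : Scheme.{u}} {B' B : Over S} (Y : Over S) (f : B' ⟶ B) :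
    (f ▷ Y).left = ((Over.pullback Y.hom).map f).left := by
  apply pullback.hom_ext
  · simp only [Over.whiskerRight_left_fst, Over.pullback_map_left, pullback.lift_fst]
  · simp only [Over.whiskerRight_left_snd, Over.pullback_map_left, pullback.lift_snd]

section Sch
variable {M : Type} [AddCommMonoid M]
  {N N' L L' : AddSubmonoid M} (hNL : N ≤ L) (hN'L' : N' ≤ L') (hL : IsFace L' L)
  (hN : IsFace N' N)
  (hdiff : (N' : Set M) = (L' : Set M) \ ((L : Set M) \ (N : Set M)))

include hdiff in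
theorem isPushout_pullback_left {S S' : Scheme.{u}} (j : S' ⟶ S) :
    IsPushout ((Over.pullback j).map (AMonS.faceMap S hL)).left
      ((Over.pullback j).map (AMonS.map S (AddSubmonoid.inclusion hNL))).left
      ((Over.pullback j).map (AMonS.map S (AddSubmonoid.inclusion hN'L'))).left
      ((Over.pullback j).map (AMonS.faceMap S hN)).left := by
  have h := (isPushout_bc (ULift.{u} ℤ) hNL hN'L' hL hN hdiff S'
    (j ≫ Limits.IsTerminal.from specULiftZIsTerminal S)).map (Over.forget _)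
  exact h.of_iso (compIso j _ _) (compIso j _ _) (compIso j _ _) (compIso j _ _)
    (pullbackComp_nat j _ _) (pullbackComp_nat j _ _) (pullbackComp_nat j _ _)
    (pullbackComp_nat j _ _)

include hdiff in
/-- the pushout square `A(N')_S = A(L')_S ⊔_{A(L)_S} A(N)_S` stays a pushout after `- ⊗ Y` -/
theorem isPushout_whiskerRight (S : Scheme.{u}) (Y : Over S) :
    IsPushout (AMonS.faceMap S hL ▷ Y) (AMonS.map S (AddSubmonoid.inclusion hNL) ▷ Y)
      (AMonS.map S (AddSubmonoid.inclusion hN'L') ▷ Y) (AMonS.faceMap S hN ▷ Y) := by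
  have w := (isPushout_AMonS hNL hN'L' hL hN hdiff S).w
  refine IsPushout.of_map (Over.forget S) ?_ ?_
  · rw [← comp_whiskerRight, ← comp_whiskerRight, w]
  · change IsPushout (AMonS.faceMap S hL ▷ Y).left
      (AMonS.map S (AddSubmonoid.inclusion hNL) ▷ Y).left
      (AMonS.map S (AddSubmonoid.inclusion hN'L') ▷ Y).left (AMonS.faceMap S hN ▷ Y).left
    rw [whiskerRight_left_eq, whiskerRight_left_eq, whiskerRight_left_eq, whiskerRight_left_eq]
    exact isPushout_pullback_left hNL hN'L' hL hN hdiff Y.hom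

end Sch

section Eqv
variable {C : Type*} [Category C] [CartesianMonoidalCategory C] {A B₁ B₂ : C} [MonObj A]

theorem isEquivariant_whiskerRight (ρ₁ : MonAct A B₁) (ρ₂ : MonAct A B₂) (π : B₁ ⟶ B₂)
    (hπ : MonAct.IsEquivariant ρ₁ ρ₂ π) (T : C) :
    MonAct.IsEquivariant (ρ₁.prod (MonAct.trivial A T)) (ρ₂.prod (MonAct.trivial A T)) (π ▷ T) := by
  rw [MonAct.isEquivariant_iff] at hπ ⊢
  intro T' g x
  rw [← lift_comp_fst_snd x, MonAct.lift_prod_act_assoc, MonAct.lift_trivial_act,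
    lift_whiskerRight, lift_whiskerRight, MonAct.lift_prod_act, MonAct.lift_trivial_act,
    Category.assoc, hπ]

end Eqv

section Sw
variable {C : Type*} [Category C] [CartesianMonoidalCategory C] [BraidedCategory C] (A T : C)

/-- the natural isomorphism `A ⊗ (B ⊗ T) ≅ B ⊗ (T ⊗ A)` -/
def sw (B : C) : A ⊗ (B ⊗ T) ≅ B ⊗ (T ⊗ A) := β_ A (B ⊗ T) ≪≫ α_ B T A

theorem sw_nat {B' B : C} (f : B' ⟶ B) :
    (A ◁ (f ▷ T)) ≫ (sw A T B).hom = (sw A T B').hom ≫ (f ▷ (T ⊗ A)) := by
  simp only [sw, Iso.trans_hom, Category.assoc]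
  rw [← Category.assoc, BraidedCategory.braiding_naturality_right, Category.assoc,
    associator_naturality_left]

theorem sw_inv_nat {B' B : C} (f : B' ⟶ B) :
    (f ▷ (T ⊗ A)) ≫ (sw A T B).inv = (sw A T B').inv ≫ (A ◁ (f ▷ T)) := by
  rw [Iso.comp_inv_eq, Category.assoc, sw_nat, Iso.inv_hom_id_assoc]

end Sw

section Attr
variable {M : Type} [AddCommMonoid M]
  {N N' L L' : AddSubmonoid M} (hNL : N ≤ L) (hN'L' : N' ≤ L') (hL : IsFace L' L)
  (hN : IsFace N' N)
  (hdiff : (N' : Set M) = (L' : Set M) \ ((L : Set M) \ (N : Set M)))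

include hNL hL hdiff in
theorem hom_ext_whiskerLeft {S : Scheme.{u}} (A T : Over S) {Xt : Over S}
    (u v : A ⊗ (AMonS S ↥N' ⊗ T) ⟶ Xt)
    (h₁ : (A ◁ (AMonS.map S (AddSubmonoid.inclusion hN'L') ▷ T)) ≫ u =
      (A ◁ (AMonS.map S (AddSubmonoid.inclusion hN'L') ▷ T)) ≫ v)
    (h₂ : (A ◁ (AMonS.faceMap S hN ▷ T)) ≫ u = (A ◁ (AMonS.faceMap S hN ▷ T)) ≫ v) : u = v := by
  rw [← cancel_epi (sw A T (AMonS S ↥N')).inv]
  apply (isPushout_whiskerRight hNL hN'L' hL hN hdiff S (T ⊗ A)).hom_ext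
  · rw [reassoc_of% (sw_inv_nat A T (AMonS.map S (AddSubmonoid.inclusion hN'L'))),
      reassoc_of% (sw_inv_nat A T (AMonS.map S (AddSubmonoid.inclusion hN'L'))), h₁]
  · rw [reassoc_of% (sw_inv_nat A T (AMonS.faceMap S hN)),
      reassoc_of% (sw_inv_nat A T (AMonS.faceMap S hN)), h₂]

include hdiff in
/-- **the square of attractors `X^{N'} → X^{L'}`, `X^{N'} → X^N`, `X^{L'} → X^L`, `X^N → X^L` is
cartesian** -/
theorem isPullback_attr {S : Scheme.{u}} {X : Over S} (a : MonAct (AMonS S M) X) :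
    IsPullback (attrMap a hN'L') (attrFace a hN) (attrFace a hL) (attrMap a hNL) := by
  refine IsPullback.of_forall_isPullback_app (fun T => ?_)
  have hpo := isPushout_whiskerRight hNL hN'L' hL hN hdiff S T.unop
  rw [Types.isPullback_iff]
  refine ⟨?_, ?_, ?_⟩
  · ext φ
    apply Subtype.ext
    change (AMonS.faceMap S hL ▷ T.unop) ≫ (AMonS.map S (AddSubmonoid.inclusion hN'L') ▷ T.unop) ≫
      φ.1 = (AMonS.map S (AddSubmonoid.inclusion hNL) ▷ T.unop) ≫ (AMonS.faceMap S hN ▷ T.unop) ≫ φ.1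
    rw [reassoc_of% hpo.w]
  · rintro φ₁ φ₂ ⟨h₁, h₂⟩
    apply Subtype.ext
    apply hpo.hom_ext
    · exact congrArg Subtype.val h₁
    · exact congrArg Subtype.val h₂
  · intro φ' φ hφ
    have hφ' : (AMonS.faceMap S hL ▷ T.unop) ≫ φ'.1 =
        (AMonS.map S (AddSubmonoid.inclusion hNL) ▷ T.unop) ≫ φ.1 := congrArg Subtype.val hφ
    refine ⟨⟨hpo.desc φ'.1 φ.1 hφ', ?_⟩, Subtype.ext (hpo.inl_desc _ _ _),
      Subtype.ext (hpo.inr_desc _ _ _)⟩
    have e₁ := isEquivariant_whiskerRight (subAct S M L') (subAct S M N')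
      (AMonS.map S (AddSubmonoid.inclusion hN'L'))
      (MonAct.isEquivariant_restrict_regular _ _ _ (by rw [← AMonS.map_comp]; rfl)) T.unop
    have e₂ := isEquivariant_whiskerRight (subAct S M N) (subAct S M N')
      (AMonS.faceMap S hN) (isEquivariant_faceMapS S hN) T.unop
    have q' := φ'.2
    have q := φ.2
    unfold MonAct.IsEquivariant at e₁ e₂ q' q ⊢
    apply hom_ext_whiskerLeft hNL hN'L' hL hN hdiff
    · rw [← reassoc_of% e₁, hpo.inl_desc, q', ← MonoidalCategory.whiskerLeft_comp_assoc,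
        hpo.inl_desc]
    · rw [← reassoc_of% e₂, hpo.inr_desc, q, ← MonoidalCategory.whiskerLeft_comp_assoc,
        hpo.inr_desc]

end Attr

end Groth.Agent.Lib.Helper12.MagnetPushout
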