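import Mathlib
import Groth.Agent.Lib.Helper12.Milnor

set_option autoImplicit false
set_option linter.unusedSectionVars false
universe u

open TensorProduct

namespace Groth.Agent.Lib.helper12

/-- If `C ⊗ L'` is a finite `C`-module, there is a finite subset `G` of `L'` such that
`C ⊗ (L' / L'') = 0` for all submodules `L''` containing `G`. -/
theorem exists_finset_baseChange_quotient_subsingleton (B' : Type u) [CommRing B']
    (C : Type u) [CommRing C] [Algebra B' C] (L' : Type u) [AddCommGroup L'] [Module B' L']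
    [Module.Finite C (C ⊗[B'] L')] :
    ∃ G : Finset L', ∀ L'' : Submodule B' L', (G : Set L') ⊆ L'' →
      Subsingleton (C ⊗[B'] (L' ⧸ L'')) := by
  classical
  obtain ⟨S, hS⟩ := (Module.Finite.fg_top : (⊤ : Submodule C (C ⊗[B'] L')).FG)
  have hT : ∀ t : C ⊗[B'] L', ∃ T : Finset (C × L'), t = T.sum fun m => m.1 ⊗ₜ[B'] m.2 :=
    fun t => TensorProduct.exists_finset t
  choose T hTt using hT
  refine ⟨S.biUnion (fun t => (T t).image Prod.snd), ?_⟩
  intro L'' hG
  let φ : C ⊗[B'] L' →ₗ[C] C ⊗[B'] (L' ⧸ L'') := LinearMap.baseChange C L''.mkQ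
  have hφs : Function.Surjective φ := by
    have : Function.Surjective (L''.mkQ.lTensor C) :=
      LinearMap.lTensor_surjective _ L''.mkQ_surjective
    exact this
  have hker : LinearMap.ker φ = ⊤ := by
    rw [eq_top_iff, ← hS, Submodule.span_le]
    intro t ht
    rw [SetLike.mem_coe, LinearMap.mem_ker, hTt t, map_sum]
    apply Finset.sum_eq_zero
    intro m hm
    have hm2 : m.2 ∈ L'' := by
      apply hG
      rw [Finset.mem_coe, Finset.mem_biUnion]
      exact ⟨t, ht, Finset.mem_image_of_mem _ hm⟩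
    rw [LinearMap.baseChange_tmul, Submodule.mkQ_apply, (Submodule.Quotient.mk_eq_zero _).mpr hm2,
      TensorProduct.tmul_zero]
  refine ⟨fun x y => ?_⟩
  obtain ⟨x, rfl⟩ := hφs x
  obtain ⟨y, rfl⟩ := hφs y
  have hx : x ∈ LinearMap.ker φ := by rw [hker]; exact Submodule.mem_top
  have hy : y ∈ LinearMap.ker φ := by rw [hker]; exact Submodule.mem_top
  rw [LinearMap.mem_ker.mp hx, LinearMap.mem_ker.mp hy]

end Groth.Agent.Lib.helper12
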