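import Mathlib
import Groth.Agent.Lib.Helper12.MilnorAlg3
import Groth.Agent.Lib.Helper12.FerrandFun1

/-!
# Quasi-finiteness in Milnor squares (helper12)

* `finite_fiber_under`, `quasiFinite_of_joint`: quasi-finiteness of an algebra descends along a
  jointly surjective pair of base changes.
* `quasiFinite_iff_of_isPushout`, `qf_of_pushouts`: algebra / `RingHom` forms of the iff.
* `milnor_ringHom_qf`: the quasi-finite clause missing from `MilnorAlg.milnor_ringHom`.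
* `charts_iff_qf`: the quasi-finite clause missing from `FerrandFun.charts_iff`.
-/

set_option autoImplicit false
set_option linter.style.haveILetI false
universe u
open TensorProduct CategoryTheory

namespace Groth.Agent.Lib.Helper12.MilnorQF

section Alg
variable {R S A : Type*} [CommRing R] [CommRing S] [CommRing A] [Algebra R S] [Algebra R A]

/-- descent of fibre finiteness along a residue field extension -/
theorem finite_fiber_under (P : Ideal A) [P.IsPrime]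
    [Module.Finite P.ResidueField (P.Fiber (A ⊗[R] S))] :
    Module.Finite (P.under R).ResidueField ((P.under R).Fiber S) := by
  let p := P.under R
  let := Localization.AtPrime.algebraOfLiesOver p P
  let e : P.Fiber (A ⊗[R] S) ≃ₐ[P.ResidueField] P.ResidueField ⊗[p.ResidueField] (p.Fiber S) :=
    (Algebra.TensorProduct.cancelBaseChange _ _ _ _ _).trans
      (Algebra.TensorProduct.cancelBaseChange _ _ _ _ _).symm
  have : Module.Finite P.ResidueField (P.ResidueField ⊗[p.ResidueField] (p.Fiber S)) :=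
    .of_surjective e.toLinearMap e.surjective
  exact Module.Finite.of_finite_tensorProduct_of_faithfullyFlat P.ResidueField

/-- quasi-finiteness descends along a jointly surjective pair of base changes -/
theorem quasiFinite_of_joint {A₁ A₂ : Type*} [CommRing A₁] [CommRing A₂] [Algebra R A₁]
    [Algebra R A₂]
    (hjs : ∀ p : Ideal R, p.IsPrime → (∃ P : Ideal A₁, P.IsPrime ∧ P.under R = p) ∨
      (∃ P : Ideal A₂, P.IsPrime ∧ P.under R = p))
    [Algebra.QuasiFinite A₁ (A₁ ⊗[R] S)] [Algebra.QuasiFinite A₂ (A₂ ⊗[R] S)] :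
    Algebra.QuasiFinite R S := by
  refine ⟨fun p hp => ?_⟩
  rcases hjs p hp with ⟨P, hP, rfl⟩ | ⟨P, hP, rfl⟩
  · exact finite_fiber_under (R := R) (S := S) P
  · exact finite_fiber_under (R := R) (S := S) P

theorem quasiFinite_iff_of_isPushout {A₁ A₂ S₁ S₂ : Type*} [CommRing A₁] [CommRing A₂]
    [CommRing S₁] [CommRing S₂] [Algebra R A₁] [Algebra R A₂]
    [Algebra A₁ S₁] [Algebra S S₁] [Algebra R S₁] [IsScalarTower R A₁ S₁] [IsScalarTower R S S₁]
    [Algebra A₂ S₂] [Algebra S S₂] [Algebra R S₂] [IsScalarTower R A₂ S₂] [IsScalarTower R S S₂]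
    [Algebra.IsPushout R A₁ S S₁] [Algebra.IsPushout R A₂ S S₂]
    (hjs : ∀ p : Ideal R, p.IsPrime → (∃ P : Ideal A₁, P.IsPrime ∧ P.under R = p) ∨
      (∃ P : Ideal A₂, P.IsPrime ∧ P.under R = p)) :
    Algebra.QuasiFinite R S ↔ Algebra.QuasiFinite A₁ S₁ ∧ Algebra.QuasiFinite A₂ S₂ := by
  let e₁ : A₁ ⊗[R] S ≃ₐ[A₁] S₁ := Algebra.IsPushout.equiv R A₁ S S₁
  let e₂ : A₂ ⊗[R] S ≃ₐ[A₂] S₂ := Algebra.IsPushout.equiv R A₂ S S₂
  constructor
  · intro h
    exact ⟨(Algebra.QuasiFinite.iff_of_algEquiv e₁).mp inferInstance,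
      (Algebra.QuasiFinite.iff_of_algEquiv e₂).mp inferInstance⟩
  · rintro ⟨h1, h2⟩
    have : Algebra.QuasiFinite A₁ (A₁ ⊗[R] S) := (Algebra.QuasiFinite.iff_of_algEquiv e₁).mpr h1
    have : Algebra.QuasiFinite A₂ (A₂ ⊗[R] S) := (Algebra.QuasiFinite.iff_of_algEquiv e₂).mpr h2
    exact quasiFinite_of_joint hjs

end Alg


section RingHomForm
variable {R S A₁ A₂ S₁ S₂ : Type u} [CommRing R] [CommRing S] [CommRing A₁] [CommRing A₂]
  [CommRing S₁] [CommRing S₂]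

theorem qf_of_pushouts (r₁ : R →+* A₁) (r₂ : R →+* A₂) (σ : R →+* S) (β : A₁ →+* S₁)
    (α : A₂ →+* S₂) (s₁ : S →+* S₁) (s₂ : S →+* S₂)
    (po1 : IsPushout (CommRingCat.ofHom r₁) (CommRingCat.ofHom σ) (CommRingCat.ofHom β)
      (CommRingCat.ofHom s₁))
    (po2 : IsPushout (CommRingCat.ofHom r₂) (CommRingCat.ofHom σ) (CommRingCat.ofHom α)
      (CommRingCat.ofHom s₂))
    (hjs : ∀ y : PrimeSpectrum R, (∃ x : PrimeSpectrum A₁, PrimeSpectrum.comap r₁ x = y) ∨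
      (∃ x : PrimeSpectrum A₂, PrimeSpectrum.comap r₂ x = y)) :
    σ.QuasiFinite ↔ β.QuasiFinite ∧ α.QuasiFinite := by
  letI : Algebra R S := σ.toAlgebra
  letI : Algebra R A₁ := r₁.toAlgebra
  letI : Algebra R A₂ := r₂.toAlgebra
  letI : Algebra A₁ S₁ := β.toAlgebra
  letI : Algebra A₂ S₂ := α.toAlgebra
  letI : Algebra S S₁ := s₁.toAlgebra
  letI : Algebra S S₂ := s₂.toAlgebra
  letI : Algebra R S₁ := (β.comp r₁).toAlgebra
  letI : Algebra R S₂ := (α.comp r₂).toAlgebra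
  haveI : IsScalarTower R A₁ S₁ := IsScalarTower.of_algebraMap_eq (fun _ => rfl)
  haveI : IsScalarTower R A₂ S₂ := IsScalarTower.of_algebraMap_eq (fun _ => rfl)
  haveI : IsScalarTower R S S₁ := IsScalarTower.of_algebraMap_eq (fun x =>
    congrArg (fun f : CommRingCat.of R ⟶ CommRingCat.of S₁ => f.hom x) po1.w)
  haveI : IsScalarTower R S S₂ := IsScalarTower.of_algebraMap_eq (fun x =>
    congrArg (fun f : CommRingCat.of R ⟶ CommRingCat.of S₂ => f.hom x) po2.w)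
  haveI : Algebra.IsPushout R A₁ S S₁ := CommRingCat.isPushout_iff_isPushout.mp po1
  haveI : Algebra.IsPushout R A₂ S S₂ := CommRingCat.isPushout_iff_isPushout.mp po2
  refine quasiFinite_iff_of_isPushout (R := R) (S := S) (A₁ := A₁) (A₂ := A₂) (S₁ := S₁)
    (S₂ := S₂) (fun p hp => ?_)
  rcases hjs ⟨p, hp⟩ with ⟨x, hx⟩ | ⟨x, hx⟩
  · exact Or.inl ⟨x.asIdeal, x.isPrime, congrArg PrimeSpectrum.asIdeal hx⟩
  · exact Or.inr ⟨x.asIdeal, x.isPrime, congrArg PrimeSpectrum.asIdeal hx⟩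

end RingHomForm


section Milnor
open Groth.Agent.Lib.Helper12.SpecPushout Groth.Agent.Lib.Helper12.Ferrand1
  Groth.Agent.Lib.Helper12.MilnorAlg

variable {A A' B A₁ A'₁ B₁ B' : Type u} [CommRing A] [CommRing A'] [CommRing B] [CommRing A₁]
  [CommRing A'₁] [CommRing B₁] [CommRing B']
  (p : A' →+* A) (q : B →+* A) (p₁ : A'₁ →+* A₁) (q₁ : B₁ →+* A₁)
  (α : A' →+* A'₁) (β : B →+* B₁) (γ : A →+* A₁)
  (hp : p₁.comp α = γ.comp p) (hq : q₁.comp β = γ.comp q)

include hp hq in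
theorem milnor_ringHom_qf (hps : Function.Surjective p) (hp₁s : Function.Surjective p₁)
    (γ₀ : B' →+* Pr p q) (hγ₀ : Function.Bijective γ₀)
    (po1 : IsPushout (CommRingCat.ofHom β) (CommRingCat.ofHom q) (CommRingCat.ofHom q₁)
      (CommRingCat.ofHom γ))
    (po2 : IsPushout (CommRingCat.ofHom α) (CommRingCat.ofHom p) (CommRingCat.ofHom p₁)
      (CommRingCat.ofHom γ)) :
    ((mapPr p q p₁ q₁ α β γ hp hq).comp γ₀).QuasiFinite ↔ β.QuasiFinite ∧ α.QuasiFinite := by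
  have key := milnor_ringHom p q p₁ q₁ α β γ hp hq hps hp₁s γ₀ hγ₀ po1 po2
  refine qf_of_pushouts _ _ _ _ _ _ _ key.2.2.2.2.2.2.1 key.2.2.2.2.2.2.2 (fun y => ?_)
  let e : B' ≃+* Pr p q := RingEquiv.ofBijective γ₀ hγ₀
  have hy : PrimeSpectrum.comap γ₀ (PrimeSpectrum.comap e.symm.toRingHom y) = y := by
    apply PrimeSpectrum.ext
    ext x
    change e.symm (γ₀ x) ∈ y.asIdeal ↔ x ∈ y.asIdeal
    have : e.symm (γ₀ x) = x := e.symm_apply_apply x
    rw [this]
  rcases joint_surjective q hps (PrimeSpectrum.comap e.symm.toRingHom y) with ⟨x, hx⟩ | ⟨x, hx⟩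
  · refine Or.inl ⟨x, ?_⟩
    rw [PrimeSpectrum.comap_comp_apply, hx, hy]
  · refine Or.inr ⟨x, ?_⟩
    rw [PrimeSpectrum.comap_comp_apply, hx, hy]

end Milnor

section Charts
open AlgebraicGeometry Groth.Agent.Lib.Helper12.Ferrand Groth.Agent.Lib.Helper12.SpecPushout
  Groth.Agent.Lib.Helper12.Ferrand1 Groth.Agent.Lib.Helper12.FerrandFun

variable {X Y Z P X' Y' Z' P' : Scheme.{u}} {i : Z ⟶ X} {j : Z ⟶ Y} [IsClosedImmersion i]
  {i' : Z' ⟶ X'} {j' : Z' ⟶ Y'} [IsClosedImmersion i']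
  (hcov : ∀ y : Y, ∃ k : GoodPair i j, y ∈ k.V)
  {a : X ⟶ P} {b : Y ⟶ P} (hP : IsPushout i j a b)
  {f : X' ⟶ X} {g : Y' ⟶ Y} {c : Z' ⟶ Z}
  (hX : IsPullback i' c f i) (hY : IsPullback j' c g j)
  [IsAffineHom a] [IsAffineHom b] (O : P.Opens) (hO : IsAffineOpen O)
  (k' : GoodPair i' j') (hU' : k'.U ≤ (f ≫ a) ⁻¹ᵁ O) (hV' : k'.V ≤ (g ≫ b) ⁻¹ᵁ O)

include hcov hO in
theorem charts_iff_qf :
    (γ' hP hX hY O k' hU' hV').QuasiFinite ↔
      (g.appLE (b ⁻¹ᵁ O) k'.V hV').hom.QuasiFinite ∧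
        (f.appLE (a ⁻¹ᵁ O) k'.U hU').hom.QuasiFinite := by
  rw [γ'_eq hP hX hY O hO k' hU' hV']
  exact milnor_ringHom_qf _ _ _ _ _ _ _ _ _ (kO hP O hO).p_surjective k'.p_surjective (γO hP O hO)
    (bijective_γO hcov hP O hO) (po1_k hX hY (kO hP O hO) k' hU' hV') (po2_k hX (kO hP O hO) k' hU')

end Charts

end Groth.Agent.Lib.Helper12.MilnorQF
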