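import Mathlib
import Groth.Agent.Lib.Helper4.CharP1
import Groth.Agent.Lib.Helper19.FibreCone2

/-!
# Noether normalization adapted to an increasing family of ideals (polynomial ring case)
-/

set_option autoImplicit false

namespace Groth.Agent.Lib.helper12.NNChain

open MvPolynomial

variable {k : Type*} [Field k]

/-- an algebra map is integral as soon as a set of algebra generators of the target is -/
theorem isIntegral_of_adjoin_eq_top {A B : Type*} [CommRing A] [CommRing B] [Algebra k A]
    [Algebra k B] (φ : A →ₐ[k] B) (s : Set B) (hs : Algebra.adjoin k s = ⊤)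
    (h : ∀ b ∈ s, φ.toRingHom.IsIntegralElem b) : φ.toRingHom.IsIntegral := by
  intro b
  have hb : b ∈ Algebra.adjoin k s := hs ▸ Algebra.mem_top
  induction hb using Algebra.adjoin_induction with
  | mem x hx => exact h x hx
  | algebraMap c =>
    rw [← φ.commutes c]
    exact φ.toRingHom.isIntegralElem_map
  | add x y _ _ hx hy => exact RingHom.IsIntegralElem.add _ hx hy
  | mul x y _ _ hx hy => exact RingHom.IsIntegralElem.mul _ hx hy

theorem isIntegralElem_pow {A B : Type*} [CommRing A] [CommRing B] (φ : A →+* B) {x : B}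
    (hx : φ.IsIntegralElem x) (m : ℕ) : φ.IsIntegralElem (x ^ m) := by
  let _ := φ.toAlgebra
  exact IsIntegral.pow hx m

variable {n : ℕ}

open Groth.Agent.Lib.helper4.CharPTrick in
/-- **Nagata's step, keeping `f` as a coordinate**: for a nonzero nonunit `f` of `k[X_0..X_n]`
there are `z_1..z_n` with `k[X]` integral over `k[f, z]`. -/
theorem nagata_step (f : MvPolynomial (Fin (n + 1)) k) (hf : f ≠ 0) (hfu : ¬ IsUnit f) :
    ∃ z : Fin n → MvPolynomial (Fin (n + 1)) k,
      (aeval (Fin.cons f z : Fin (n + 1) → MvPolynomial (Fin (n + 1)) k) :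
        MvPolynomial (Fin (n + 1)) k →ₐ[k] MvPolynomial (Fin (n + 1)) k).toRingHom.IsIntegral := by
  classical
  set z : Fin n → MvPolynomial (Fin (n + 1)) k :=
    fun i ↦ X i.succ - X 0 ^ ((2 + f.totalDegree) ^ (i.succ : Fin (n + 1)).1) with hz
  refine ⟨z, ?_⟩
  set Ψ : MvPolynomial (Fin (n + 1)) k →ₐ[k] MvPolynomial (Fin (n + 1)) k :=
    aeval (Fin.cons f z : Fin (n + 1) → MvPolynomial (Fin (n + 1)) k) with hΨ
  have hΨ0 : Ψ (X 0) = f := by simp [hΨ]
  have hΨs : ∀ i : Fin n, Ψ (X i.succ) = z i := by intro i; simp [hΨ]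
  have hu := T_leadingcoeff_isUnit f hf
  set q := finSuccEquiv k n (T f f) with hq
  -- evaluating `q` at `X 0` over `k[z]` gives back `f`
  have hev : Polynomial.eval₂ (aeval z : MvPolynomial (Fin n) k →ₐ[k]
      MvPolynomial (Fin (n + 1)) k).toRingHom (X 0) q = f := by
    rw [hq, eval₂_finSuccEquiv]
    have : (MvPolynomial.aeval (Fin.cons (X 0) z : Fin (n + 1) → MvPolynomial (Fin (n + 1)) k)).comp
        (T f).toAlgHom = AlgHom.id k _ := by
      apply MvPolynomial.algHom_ext
      intro i
      cases i using Fin.cases with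
      | zero => simp
      | succ j => simp [Fin.succ_ne_zero, hz]
    have h2 := congrArg (fun e => e f) this
    exact h2
  -- `q` has positive degree
  have hqdeg : 0 < q.natDegree := by
    by_contra hcon
    have h0 : q.natDegree = 0 := by omega
    have hqC : q = Polynomial.C (q.coeff 0) := Polynomial.eq_C_of_natDegree_eq_zero h0
    have hlc : q.leadingCoeff = q.coeff 0 := by rw [Polynomial.leadingCoeff, h0]
    have hqu : IsUnit q := by
      rw [hqC]
      exact (hlc ▸ hu).map Polynomial.C
    have h1 : IsUnit (T f f) := by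
      have := hqu.map (finSuccEquiv k n).symm
      simpa [hq] using this
    have h2 : IsUnit f := by
      have := h1.map (T f).symm
      rwa [AlgEquiv.symm_apply_apply] at this
    exact hfu h2
  -- the polynomial witnessing integrality of `X 0`
  have hρinj : Function.Injective (rename (Fin.succ : Fin n → Fin (n + 1)) :
      MvPolynomial (Fin n) k →ₐ[k] MvPolynomial (Fin (n + 1)) k) :=
    rename_injective _ (Fin.succ_injective n)
  set ρ : MvPolynomial (Fin n) k →+* MvPolynomial (Fin (n + 1)) k :=
    (rename (Fin.succ : Fin n → Fin (n + 1)) : MvPolynomial (Fin n) k →ₐ[k]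
      MvPolynomial (Fin (n + 1)) k).toRingHom with hρ
  have hρinj' : Function.Injective ρ := hρinj
  have hΨρ : Ψ.toRingHom.comp ρ = (aeval z : MvPolynomial (Fin n) k →ₐ[k]
      MvPolynomial (Fin (n + 1)) k).toRingHom := by
    apply MvPolynomial.ringHom_ext
    · intro c
      simp [hρ, hΨ]
    · intro i
      simp [hρ, hΨ]
  set q' : Polynomial (MvPolynomial (Fin (n + 1)) k) := q.map ρ with hq'
  have hq'deg : q'.natDegree = q.natDegree := Polynomial.natDegree_map_eq_of_injective hρinj' q
  have hq'lc : q'.leadingCoeff = ρ q.leadingCoeff := Polynomial.leadingCoeff_map_of_injective hρinj' q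
  set p : Polynomial (MvPolynomial (Fin (n + 1)) k) := q' - Polynomial.C (X 0) with hp
  have hdeglt : (Polynomial.C (X 0 : MvPolynomial (Fin (n + 1)) k)).degree < q'.degree := by
    refine lt_of_le_of_lt Polynomial.degree_C_le ?_
    rw [Polynomial.degree_eq_natDegree (fun h0 => by rw [h0] at hq'deg; simp at hq'deg; omega)]
    exact_mod_cast (hq'deg ▸ hqdeg)
  have hplc : p.leadingCoeff = ρ q.leadingCoeff := by
    rw [hp, Polynomial.leadingCoeff_sub_of_degree_lt hdeglt, hq'lc]
  have hpu : IsUnit p.leadingCoeff := hplc ▸ hu.map ρ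
  have hpev : Polynomial.eval₂ Ψ.toRingHom (X 0) p = 0 := by
    rw [hp, Polynomial.eval₂_sub, Polynomial.eval₂_C, hq', Polynomial.eval₂_map, hΨρ, hev]
    change f - Ψ (X 0) = 0
    rw [hΨ0, sub_self]
  have hX0 : Ψ.toRingHom.IsIntegralElem (X 0) := by
    refine ⟨_, Polynomial.monic_of_isUnit_leadingCoeff_inv_smul hpu, ?_⟩
    rw [Units.smul_def, Polynomial.smul_eq_C_mul, Polynomial.eval₂_mul, hpev, mul_zero]
  refine isIntegral_of_adjoin_eq_top Ψ (Set.range X) (MvPolynomial.adjoin_range_X) ?_
  rintro _ ⟨i, rfl⟩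
  cases i using Fin.cases with
  | zero => exact hX0
  | succ j =>
    have : (X j.succ : MvPolynomial (Fin (n + 1)) k) =
        Ψ (X j.succ) + X 0 ^ ((2 + f.totalDegree) ^ (j.succ : Fin (n + 1)).1) := by
      rw [hΨs, hz]
      ring
    rw [this]
    exact RingHom.IsIntegralElem.add _ (Ψ.toRingHom.isIntegralElem_map) (isIntegralElem_pow _ hX0 _)

theorem ringKrullDim_mvPolynomial_fin (d : ℕ) :
    ringKrullDim (MvPolynomial (Fin d) k) = (d : WithBot ℕ∞) := by
  rw [MvPolynomial.ringKrullDim_of_isNoetherianRing, ringKrullDim_eq_zero_of_field, zero_add,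
    Nat.card_fin]

theorem not_isUnit_X {σ : Type*} (i : σ) : ¬ IsUnit (X i : MvPolynomial σ k) := by
  intro h
  have := h.map (MvPolynomial.eval (0 : σ → k))
  simp at this

/-- the main inductive statement: for an increasing family of ideals `J_0 ⊆ J_1 ⊆ …` of
`k[X_0..X_{d-1}]` with `dim k[X]/J_l ≤ d - (l+1)`, there are `T_0, …, T_{d-1}` with `T_l ∈ J_l`
and `k[X]` integral over `k[T]`. -/
theorem exists_adapted : ∀ (d : ℕ) (J : Fin d → Ideal (MvPolynomial (Fin d) k)), Monotone J →
    (∀ l : Fin d, ringKrullDim (MvPolynomial (Fin d) k ⧸ J l) ≤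
      ((d - ((l : ℕ) + 1) : ℕ) : WithBot ℕ∞)) →
    ∃ T : Fin d → MvPolynomial (Fin d) k,
      (aeval T : MvPolynomial (Fin d) k →ₐ[k] MvPolynomial (Fin d) k).toRingHom.IsIntegral ∧
      ∀ l, T l ∈ J l := by
  intro d
  induction d with
  | zero =>
    intro J _ _
    refine ⟨Fin.elim0, ?_, fun l => l.elim0⟩
    refine isIntegral_of_adjoin_eq_top _ (Set.range X) MvPolynomial.adjoin_range_X ?_
    rintro _ ⟨i, rfl⟩
    exact i.elim0
  | succ d ih =>
    intro J hmono hdim
    classical
    -- a nonzero nonunit `f ∈ J 0`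
    have hJ0 : J 0 ≠ ⊥ := by
      intro h0
      have h1 := hdim 0
      rw [h0, ringKrullDim_eq_of_ringEquiv (RingEquiv.quotientBot _),
        ringKrullDim_mvPolynomial_fin] at h1
      have h2 : d + 1 ≤ d + 1 - ((0 : Fin (d + 1)).val + 1) := by exact_mod_cast h1
      simp at h2
    obtain ⟨f, hfJ, hf0, hfu⟩ : ∃ f ∈ J 0, f ≠ 0 ∧ ¬ IsUnit f := by
      by_cases htop : J 0 = ⊤
      · exact ⟨X 0, htop ▸ Submodule.mem_top, X_ne_zero 0, not_isUnit_X 0⟩
      · obtain ⟨f, hfJ, hf0⟩ := Submodule.exists_mem_ne_zero_of_ne_bot hJ0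
        exact ⟨f, hfJ, hf0, fun hu => htop (Ideal.eq_top_of_isUnit_mem _ hfJ hu)⟩
    obtain ⟨z, hΨint⟩ := nagata_step f hf0 hfu
    set Ψ : MvPolynomial (Fin (d + 1)) k →ₐ[k] MvPolynomial (Fin (d + 1)) k :=
      aeval (Fin.cons f z : Fin (d + 1) → MvPolynomial (Fin (d + 1)) k) with hΨ
    set ι : MvPolynomial (Fin d) k →ₐ[k] MvPolynomial (Fin (d + 1)) k := aeval z with hι
    -- the ideals one level down
    set J' : Fin d → Ideal (MvPolynomial (Fin d) k) := fun l => (J l.succ).comap ι with hJ'
    have hmono' : Monotone J' := fun a b hab =>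
      Ideal.comap_mono (hmono (Fin.succ_le_succ_iff.mpr hab))
    -- kill `X 0`
    set κ : MvPolynomial (Fin (d + 1)) k →ₐ[k] MvPolynomial (Fin d) k :=
      aeval (Fin.cons 0 X : Fin (d + 1) → MvPolynomial (Fin d) k) with hκ
    have hdim' : ∀ l : Fin d, ringKrullDim (MvPolynomial (Fin d) k ⧸ J' l) ≤
        ((d - ((l : ℕ) + 1) : ℕ) : WithBot ℕ∞) := by
      intro l
      have hfl : f ∈ J l.succ := hmono (Fin.zero_le _) hfJ
      set m := Ideal.Quotient.mk (J l.succ) with hm
      have hcomp : (m.comp ι.toRingHom).comp κ.toRingHom = m.comp Ψ.toRingHom := by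
        apply MvPolynomial.ringHom_ext
        · intro c
          simp [hκ, hι, hΨ]
        · intro i
          cases i using Fin.cases with
          | zero =>
            simp only [RingHom.comp_apply, AlgHom.toRingHom_eq_coe, RingHom.coe_coe, hκ, hΨ,
              aeval_X, Fin.cons_zero, map_zero]
            exact (Ideal.Quotient.eq_zero_iff_mem.mpr hfl).symm
          | succ j => simp [hκ, hι, hΨ]
      set qm : (MvPolynomial (Fin d) k ⧸ J' l) →+* (MvPolynomial (Fin (d + 1)) k ⧸ J l.succ) :=
        Ideal.quotientMap (J l.succ) ι.toRingHom (le_refl _) with hqm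
      have hqminj : Function.Injective qm := Ideal.quotientMap_injective
      have hqmint : qm.IsIntegral := by
        intro y
        obtain ⟨y₀, rfl⟩ := Ideal.Quotient.mk_surjective y
        obtain ⟨p, hpm, hp0⟩ := hΨint y₀
        refine ⟨(p.map κ.toRingHom).map (Ideal.Quotient.mk (J' l)), (hpm.map _).map _, ?_⟩
        rw [Polynomial.eval₂_map, Polynomial.eval₂_map]
        have hq2 : (qm.comp (Ideal.Quotient.mk (J' l))).comp κ.toRingHom = m.comp Ψ.toRingHom := by
          rw [← hcomp]
          rfl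
        rw [hq2, ← Polynomial.hom_eval₂, hp0, map_zero]
      have h1 := Groth.Agent.Lib.helper19.FibreCone.ringKrullDim_le_of_isIntegral_of_injective
        qm hqmint hqminj
      refine h1.trans ((hdim l.succ).trans ?_)
      have : d + 1 - ((l.succ : Fin (d + 1)).val + 1) = d - (l.val + 1) := by
        simp
      rw [this]
    obtain ⟨T', hT'int, hT'mem⟩ := ih J' hmono' hdim'
    refine ⟨Fin.cons f (fun l => ι (T' l)), ?_, ?_⟩
    · -- integrality
      set ρ : MvPolynomial (Fin d) k →ₐ[k] MvPolynomial (Fin (d + 1)) k :=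
        rename (Fin.succ : Fin d → Fin (d + 1)) with hρ
      set Θ : MvPolynomial (Fin (d + 1)) k →ₐ[k] MvPolynomial (Fin (d + 1)) k :=
        aeval (Fin.cons (X 0) (fun l => ρ (T' l)) :
          Fin (d + 1) → MvPolynomial (Fin (d + 1)) k) with hΘ
      have hΨρ : Ψ.comp ρ = ι := by
        apply MvPolynomial.algHom_ext
        intro i
        simp [hρ, hΨ, hι]
      have hcompT : (aeval (Fin.cons f (fun l => ι (T' l)) :
          Fin (d + 1) → MvPolynomial (Fin (d + 1)) k) : MvPolynomial (Fin (d + 1)) k →ₐ[k] _) =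
          Ψ.comp Θ := by
        apply MvPolynomial.algHom_ext
        intro i
        cases i using Fin.cases with
        | zero => simp [hΘ, hΨ]
        | succ j =>
          simp only [aeval_X, Fin.cons_succ, AlgHom.comp_apply, hΘ]
          rw [← hΨρ]
          rfl
      have hΘρ : Θ.comp ρ = ρ.comp (aeval T') := by
        apply MvPolynomial.algHom_ext
        intro i
        simp [hρ, hΘ]
      have hΘint : Θ.toRingHom.IsIntegral := by
        refine isIntegral_of_adjoin_eq_top Θ (Set.range X) MvPolynomial.adjoin_range_X ?_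
        rintro _ ⟨i, rfl⟩
        cases i using Fin.cases with
        | zero =>
          have : (X 0 : MvPolynomial (Fin (d + 1)) k) = Θ (X 0) := by simp [hΘ]
          rw [this]
          exact Θ.toRingHom.isIntegralElem_map
        | succ j =>
          obtain ⟨p, hpm, hp0⟩ := hT'int (X j)
          refine ⟨p.map ρ.toRingHom, hpm.map _, ?_⟩
          rw [Polynomial.eval₂_map]
          have h1 : Θ.toRingHom.comp ρ.toRingHom =
              ρ.toRingHom.comp (aeval T' : MvPolynomial (Fin d) k →ₐ[k] _).toRingHom := by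
            have := congrArg AlgHom.toRingHom hΘρ
            exact this
          have h2 : (X j.succ : MvPolynomial (Fin (d + 1)) k) = ρ.toRingHom (X j) := by
            simp [hρ]
          rw [h1, h2, ← Polynomial.hom_eval₂, hp0, map_zero]
      rw [hcompT]
      exact RingHom.IsIntegral.trans _ _ hΘint hΨint
    · intro l
      cases l using Fin.cases with
      | zero => exact hfJ
      | succ j => exact hT'mem j

end Groth.Agent.Lib.helper12.NNChain
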