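import Mathlib
import Groth.Agent.Lib.Helper12.NNChain1

/-!
# The coordinate ideals `(X_0, …, X_{h-1})` of a polynomial ring
-/

set_option autoImplicit false

namespace Groth.Agent.Lib.helper12.NNChain

open MvPolynomial

section ker

variable {R : Type*} [CommRing R] {σ τ : Type*} {f : σ → τ} (hf : Function.Injective f)

theorem killCompl_X_of_notMem {i : τ} (hi : i ∉ Set.range f) :
    killCompl hf (X i : MvPolynomial τ R) = 0 := by
  classical
  rw [killCompl, aeval_X, dif_neg hi]

theorem sub_rename_killCompl_mem (p : MvPolynomial τ R) :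
    p - rename f (killCompl hf p) ∈ Ideal.span (X '' (Set.range f)ᶜ : Set (MvPolynomial τ R)) := by
  induction p using MvPolynomial.induction_on with
  | C a => simp
  | add p q hp hq =>
    have : p + q - rename f (killCompl hf (p + q)) =
        (p - rename f (killCompl hf p)) + (q - rename f (killCompl hf q)) := by
      rw [map_add, map_add]; ring
    rw [this]
    exact Ideal.add_mem _ hp hq
  | mul_X p i hp =>
    have hXi : (X i : MvPolynomial τ R) - rename f (killCompl hf (X i)) ∈
        Ideal.span (X '' (Set.range f)ᶜ : Set (MvPolynomial τ R)) := by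
      by_cases hi : i ∈ Set.range f
      · obtain ⟨j, rfl⟩ := hi
        have : killCompl hf (X (f j) : MvPolynomial τ R) = X j := by
          rw [← rename_X (R := R) f j, killCompl_rename_app]
        rw [this, rename_X, sub_self]
        exact zero_mem _
      · rw [killCompl_X_of_notMem hf hi, map_zero, sub_zero]
        exact Ideal.subset_span ⟨i, hi, rfl⟩
    have : p * X i - rename f (killCompl hf (p * X i)) =
        (p - rename f (killCompl hf p)) * X i +
          rename f (killCompl hf p) * (X i - rename f (killCompl hf (X i))) := by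
      rw [map_mul, map_mul]; ring
    rw [this]
    exact Ideal.add_mem _ (Ideal.mul_mem_right _ _ hp) (Ideal.mul_mem_left _ _ hXi)

theorem ker_killCompl :
    RingHom.ker (killCompl hf : MvPolynomial τ R →ₐ[R] MvPolynomial σ R) =
      Ideal.span (X '' (Set.range f)ᶜ : Set (MvPolynomial τ R)) := by
  apply le_antisymm
  · intro p hp
    have h1 := sub_rename_killCompl_mem hf p
    rw [RingHom.mem_ker] at hp
    have hp' : killCompl hf p = 0 := hp
    rwa [hp', map_zero, sub_zero] at h1
  · rw [Ideal.span_le]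
    rintro _ ⟨i, hi, rfl⟩
    rw [SetLike.mem_coe, RingHom.mem_ker]
    exact killCompl_X_of_notMem hf hi

theorem killCompl_surjective :
    Function.Surjective (killCompl hf : MvPolynomial τ R →ₐ[R] MvPolynomial σ R) :=
  fun p => ⟨rename f p, killCompl_rename_app hf p⟩

end ker

variable (k : Type*) [Field k]

/-- the coordinate ideal `(X_l : l < h)` of `k[X_0, …, X_{d-1}]` -/
noncomputable def pIdeal (d h : ℕ) : Ideal (MvPolynomial (Fin d) k) :=
  Ideal.span (MvPolynomial.X '' {l : Fin d | (l : ℕ) < h})

variable {k}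

theorem pIdeal_mono (d : ℕ) {h h' : ℕ} (hh : h ≤ h') : pIdeal k d h ≤ pIdeal k d h' :=
  Ideal.span_mono (Set.image_mono fun _ hl => lt_of_lt_of_le hl hh)

theorem X_mem_pIdeal_iff {d h : ℕ} (l : Fin d) :
    (X l : MvPolynomial (Fin d) k) ∈ pIdeal k d h ↔ (l : ℕ) < h := by
  classical
  rw [pIdeal, mem_ideal_span_X_image]
  constructor
  · intro hx
    have hsupp : Finsupp.single l 1 ∈ (X l : MvPolynomial (Fin d) k).support := by
      rw [X, support_monomial, if_neg one_ne_zero]
      exact Finset.mem_singleton_self _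
    obtain ⟨i, hi, hne⟩ := hx _ hsupp
    rw [Finsupp.single_apply] at hne
    by_cases hli : l = i
    · exact hli ▸ hi
    · rw [if_neg hli] at hne
      exact absurd rfl hne
  · intro hl m hm
    rw [X, support_monomial, if_neg one_ne_zero, Finset.mem_singleton] at hm
    subst hm
    exact ⟨l, hl, by simp⟩

theorem pIdeal_zero (d : ℕ) : pIdeal k d 0 = ⊥ := by
  rw [pIdeal]
  simp

/-- the embedding of the surviving variables -/
def shiftFin (d h : ℕ) (hh : h ≤ d) : Fin (d - h) → Fin d := fun j => ⟨h + j.val, by omega⟩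

theorem shiftFin_injective (d h : ℕ) (hh : h ≤ d) : Function.Injective (shiftFin d h hh) := by
  intro a b hab
  have := congrArg Fin.val hab
  simp only [shiftFin] at this
  exact Fin.ext (by omega)

theorem range_shiftFin_compl (d h : ℕ) (hh : h ≤ d) :
    (Set.range (shiftFin d h hh))ᶜ = {l : Fin d | (l : ℕ) < h} := by
  ext l
  simp only [Set.mem_compl_iff, Set.mem_range, Set.mem_ofPred_eq, shiftFin]
  constructor
  · intro hl
    by_contra hcon
    push Not at hcon
    exact hl ⟨⟨l.val - h, by omega⟩, Fin.ext (by simp; omega)⟩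
  · rintro hl ⟨j, rfl⟩
    simp at hl

theorem pIdeal_eq_ker (d h : ℕ) (hh : h ≤ d) :
    pIdeal k d h = RingHom.ker (killCompl (R := k) (shiftFin_injective d h hh) :
      MvPolynomial (Fin d) k →ₐ[k] MvPolynomial (Fin (d - h)) k) := by
  rw [ker_killCompl, range_shiftFin_compl, pIdeal]

instance pIdeal_isPrime (d h : ℕ) : (pIdeal k d h).IsPrime := by
  by_cases hh : h ≤ d
  · rw [pIdeal_eq_ker d h hh]
    exact RingHom.ker_isPrime _
  · have : pIdeal k d h = pIdeal k d d := by
      apply le_antisymm
      · exact Ideal.span_mono (Set.image_mono fun l _ => l.2)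
      · exact pIdeal_mono d (by omega)
    rw [this, pIdeal_eq_ker d d le_rfl]
    exact RingHom.ker_isPrime _

/-- the quotient by a coordinate ideal is a polynomial ring -/
noncomputable def quotPIdealEquiv (d h : ℕ) (hh : h ≤ d) :
    (MvPolynomial (Fin d) k ⧸ pIdeal k d h) ≃+* MvPolynomial (Fin (d - h)) k :=
  (Ideal.quotEquivOfEq (pIdeal_eq_ker d h hh)).trans
    (RingHom.quotientKerEquivOfSurjective
      (f := (killCompl (R := k) (shiftFin_injective d h hh) :
        MvPolynomial (Fin d) k →ₐ[k] MvPolynomial (Fin (d - h)) k).toRingHom)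
      (killCompl_surjective _))

theorem ringKrullDim_quot_pIdeal (d h : ℕ) (hh : h ≤ d) :
    ringKrullDim (MvPolynomial (Fin d) k ⧸ pIdeal k d h) = ((d - h : ℕ) : WithBot ℕ∞) := by
  rw [ringKrullDim_eq_of_ringEquiv (quotPIdealEquiv d h hh), ringKrullDim_mvPolynomial_fin]

theorem isIntegrallyClosed_quot_pIdeal (d h : ℕ) (hh : h ≤ d) :
    IsIntegrallyClosed (MvPolynomial (Fin d) k ⧸ pIdeal k d h) :=
  IsIntegrallyClosed.of_equiv (quotPIdealEquiv d h hh).symm

theorem pIdeal_lt (d : ℕ) {h h' : ℕ} (hh : h < h') (hd : h' ≤ d) : pIdeal k d h < pIdeal k d h' := by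
  refine lt_of_le_of_ne (pIdeal_mono d hh.le) fun heq => ?_
  have h1 : (X ⟨h, by omega⟩ : MvPolynomial (Fin d) k) ∈ pIdeal k d h' :=
    (X_mem_pIdeal_iff _).mpr hh
  rw [← heq, X_mem_pIdeal_iff] at h1
  simp at h1

theorem le_of_pIdeal_le (d : ℕ) {h h' : ℕ} (hd : h ≤ d) (hle : pIdeal k d h ≤ pIdeal k d h') :
    h ≤ h' := by
  by_contra hcon
  push Not at hcon
  have h1 : (X ⟨h', by omega⟩ : MvPolynomial (Fin d) k) ∈ pIdeal k d h :=
    (X_mem_pIdeal_iff _).mpr hcon
  have h2 := hle h1
  rw [X_mem_pIdeal_iff] at h2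
  simp at h2

end Groth.Agent.Lib.helper12.NNChain
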