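import Mathlib
import Groth.Agent.Lib.Helper12.NNChain2

/-!
# Noether normalization adapted to a chain of primes
-/

set_option autoImplicit false

namespace Groth.Agent.Lib.helper12.NNChain

open MvPolynomial
open Groth.Agent.Lib.helper19.FibreCone

theorem withBot_enat_absurd {a : WithBot ℕ∞} {n : ℕ} (h1 : (n : WithBot ℕ∞) ≤ a)
    (h2 : a + 1 ≤ (n : WithBot ℕ∞)) : False := by
  induction a using WithBot.recBotCoe with
  | bot => simp at h1
  | coe b =>
    induction b using ENat.recTopCoe with
    | top =>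
      have : ((⊤ : ℕ∞) : WithBot ℕ∞) + 1 = ((⊤ : ℕ∞) : WithBot ℕ∞) := by
        rw [← WithBot.coe_one, ← WithBot.coe_add, top_add]
      rw [this] at h2
      have h3 : ((⊤ : ℕ∞) : WithBot ℕ∞) ≤ ((n : ℕ∞) : WithBot ℕ∞) := h2
      rw [WithBot.coe_le_coe] at h3
      simp at h3
    | coe m =>
      have h1' : ((n : ℕ∞) : WithBot ℕ∞) ≤ ((m : ℕ∞) : WithBot ℕ∞) := h1
      have h2' : (((m + 1 : ℕ) : ℕ∞) : WithBot ℕ∞) ≤ ((n : ℕ∞) : WithBot ℕ∞) := by
        push_cast
        exact h2
      rw [WithBot.coe_le_coe, Nat.cast_le] at h1' h2'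
      omega

/-- in a domain of dimension `n`, killing a nonzero element drops the dimension: so an integral
map to a ring of dimension `≥ n` is injective -/
theorem injective_of_isIntegral_of_dim {D B : Type*} [CommRing D] [IsDomain D] [CommRing B]
    (n : ℕ) (hD : ringKrullDim D = (n : WithBot ℕ∞)) (ψ : D →+* B) (hψ : ψ.IsIntegral)
    (hB : (n : WithBot ℕ∞) ≤ ringKrullDim B) : Function.Injective ψ := by
  rw [injective_iff_map_eq_zero]
  intro x hx
  by_contra hne
  have hker : Ideal.span {x} ≤ RingHom.ker ψ := by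
    rw [Ideal.span_le, Set.singleton_subset_iff]
    exact hx
  set ψ' : D ⧸ Ideal.span {x} →+* B := Ideal.Quotient.lift _ ψ (fun a ha => hker ha) with hψ'
  have hcomp : ψ'.comp (Ideal.Quotient.mk _) = ψ := by
    ext a
    simp [hψ']
  have hψ'int : ψ'.IsIntegral :=
    RingHom.IsIntegral.tower_top (Ideal.Quotient.mk _) ψ' (hcomp ▸ hψ)
  have h1 := ringKrullDim_le_of_isIntegral ψ' hψ'int
  have h2 := ringKrullDim_quotient_succ_le_of_nonZeroDivisor
    (mem_nonZeroDivisors_of_ne_zero hne)
  rw [hD] at h2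
  exact withBot_enat_absurd (hB.trans h1) h2

variable {k : Type*} [Field k]

/-- identify the contraction of a prime of the right coheight containing the first `h` variables -/
theorem comap_eq_pIdeal {A : Type*} [CommRing A] [Algebra k A] {d : ℕ}
    (φ : MvPolynomial (Fin d) k →ₐ[k] A) (hφ : φ.toRingHom.IsIntegral) (q : Ideal A) [q.IsPrime]
    (h : ℕ) (hh : h ≤ d) (hdim : ringKrullDim (A ⧸ q) = ((d - h : ℕ) : WithBot ℕ∞))
    (hmem : ∀ l : Fin d, (l : ℕ) < h → φ (X l) ∈ q) :
    q.comap φ = pIdeal k d h := by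
  have hle : pIdeal k d h ≤ q.comap φ := by
    rw [pIdeal, Ideal.span_le]
    rintro _ ⟨l, hl, rfl⟩
    exact hmem l hl
  apply le_antisymm _ hle
  intro x hx
  by_contra hxp
  -- work in the domain `D = P / pIdeal`
  have hDdim : ringKrullDim (MvPolynomial (Fin d) k ⧸ pIdeal k d h) =
      ((d - h : ℕ) : WithBot ℕ∞) := ringKrullDim_quot_pIdeal d h hh
  have hmint : ((Ideal.Quotient.mk q).comp φ.toRingHom).IsIntegral :=
    RingHom.IsIntegral.trans _ _ hφ
      ((Ideal.Quotient.mk q).isIntegral_of_surjective Ideal.Quotient.mk_surjective)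
  have hmker : ∀ a ∈ pIdeal k d h, ((Ideal.Quotient.mk q).comp φ.toRingHom) a = 0 := fun a ha =>
    Ideal.Quotient.eq_zero_iff_mem.mpr (hle ha)
  have hcomp : (Ideal.Quotient.lift _ ((Ideal.Quotient.mk q).comp φ.toRingHom) hmker).comp
      (Ideal.Quotient.mk (pIdeal k d h)) = (Ideal.Quotient.mk q).comp φ.toRingHom := by
    refine RingHom.ext fun a => ?_
    simp only [RingHom.comp_apply, Ideal.Quotient.lift_mk]
  have hm1int : (Ideal.Quotient.lift _ ((Ideal.Quotient.mk q).comp φ.toRingHom) hmker).IsIntegral := by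
    apply RingHom.IsIntegral.tower_top (Ideal.Quotient.mk (pIdeal k d h))
    rw [hcomp]
    exact hmint
  have hinj := injective_of_isIntegral_of_dim (d - h) hDdim _ hm1int (le_of_eq hdim.symm)
  have h0 : (Ideal.Quotient.lift _ ((Ideal.Quotient.mk q).comp φ.toRingHom) hmker)
      (Ideal.Quotient.mk (pIdeal k d h) x) = 0 := by
    rw [Ideal.Quotient.lift_mk]
    exact Ideal.Quotient.eq_zero_iff_mem.mpr hx
  rw [← map_zero (Ideal.Quotient.lift _ ((Ideal.Quotient.mk q).comp φ.toRingHom) hmker)] at h0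
  exact hxp (Ideal.Quotient.eq_zero_iff_mem.mp (hinj h0))

universe u

theorem part1 (k A : Type u) [Field k] [CommRing A] [IsDomain A] [Algebra k A]
    [Algebra.FiniteType k A] (d : ℕ) (hd : ringKrullDim A = (d : WithBot ℕ∞))
    (r : ℕ) (q : Fin r → PrimeSpectrum A) (hq : StrictMono q) (h : Fin r → ℕ) (hh : ∀ i, h i ≤ d)
    (hdim : ∀ i, ringKrullDim (A ⧸ (q i).asIdeal) = ((d - h i : ℕ) : WithBot ℕ∞)) :
    ∃ φ : MvPolynomial (Fin d) k →ₐ[k] A, φ.toRingHom.Finite ∧ Function.Injective φ ∧
      ∀ i, (q i).asIdeal.comap φ = pIdeal k d (h i) := by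
  classical
  obtain ⟨s, g, ginj, gfin⟩ := exists_finite_inj_algHom_of_fg k A
  have gint : g.toRingHom.IsIntegral := RingHom.IsIntegral.of_finite gfin
  -- `s = d`
  have hsd : s = d := by
    have h1 := ringKrullDim_le_of_isIntegral g.toRingHom gint
    have h2 := ringKrullDim_le_of_isIntegral_of_injective g.toRingHom gint ginj
    rw [ringKrullDim_mvPolynomial_fin, hd] at h1 h2
    have := le_antisymm h2 h1
    exact_mod_cast this
  subst hsd
  -- the increasing family of ideals
  set J : Fin s → Ideal (MvPolynomial (Fin s) k) :=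
    fun l => ⨅ i : {i : Fin r // (l : ℕ) < h i}, (q i.1).asIdeal.comap g with hJ
  have hmono : Monotone J := by
    intro l l' hl
    exact le_iInf fun i => iInf_le_of_le ⟨i.1, lt_of_le_of_lt hl i.2⟩ le_rfl
  have hdimJ : ∀ l : Fin s, ringKrullDim (MvPolynomial (Fin s) k ⧸ J l) ≤
      ((s - ((l : ℕ) + 1) : ℕ) : WithBot ℕ∞) := by
    intro l
    by_cases hne : (Finset.univ.filter (fun i : Fin r => (l : ℕ) < h i)).Nonempty
    · set i₀ := (Finset.univ.filter (fun i : Fin r => (l : ℕ) < h i)).min' hne with hi₀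
      have hi₀mem : (l : ℕ) < h i₀ := by
        have := Finset.min'_mem _ hne
        rw [Finset.mem_filter] at this
        exact this.2
      have hle : (q i₀).asIdeal.comap g ≤ J l := by
        refine le_iInf fun i => Ideal.comap_mono ?_
        have hi : i.1 ∈ Finset.univ.filter (fun i : Fin r => (l : ℕ) < h i) := by
          rw [Finset.mem_filter]
          exact ⟨Finset.mem_univ _, i.2⟩
        have : i₀ ≤ i.1 := Finset.min'_le _ _ hi
        exact hq.monotone this
      have h1 := ringKrullDim_le_of_surjective (Ideal.Quotient.factor hle)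
        (Ideal.Quotient.factor_surjective hle)
      set qm : (MvPolynomial (Fin s) k ⧸ (q i₀).asIdeal.comap g) →+* (A ⧸ (q i₀).asIdeal) :=
        Ideal.quotientMap (q i₀).asIdeal g.toRingHom (le_refl _) with hqm
      have h2 := ringKrullDim_le_of_isIntegral_of_injective qm
        (RingHom.IsIntegral.quotient g.toRingHom gint) Ideal.quotientMap_injective
      rw [hdim i₀] at h2
      refine h1.trans (h2.trans ?_)
      have : s - h i₀ ≤ s - ((l : ℕ) + 1) := by omega
      exact_mod_cast this
    · have hempty : IsEmpty {i : Fin r // (l : ℕ) < h i} := by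
        constructor
        rintro ⟨i, hi⟩
        exact hne ⟨i, by rw [Finset.mem_filter]; exact ⟨Finset.mem_univ _, hi⟩⟩
      have htop : J l = ⊤ := iInf_of_empty _
      have : Subsingleton (MvPolynomial (Fin s) k ⧸ J l) := by
        rw [htop]
        exact Ideal.Quotient.subsingleton_iff.mpr rfl
      rw [ringKrullDim_eq_bot_of_subsingleton]
      exact bot_le
  obtain ⟨T', hTint, hTmem⟩ := exists_adapted s J hmono hdimJ
  set φ : MvPolynomial (Fin s) k →ₐ[k] A := g.comp (aeval T') with hφ
  have hφint : φ.toRingHom.IsIntegral := RingHom.IsIntegral.trans _ _ hTint gint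
  have hTft : (aeval T' : MvPolynomial (Fin s) k →ₐ[k] MvPolynomial (Fin s) k).toRingHom.FiniteType := by
    have h1 : (algebraMap k (MvPolynomial (Fin s) k)).FiniteType :=
      RingHom.finiteType_algebraMap.mpr inferInstance
    have h2 : algebraMap k (MvPolynomial (Fin s) k) =
        (aeval T' : MvPolynomial (Fin s) k →ₐ[k] MvPolynomial (Fin s) k).toRingHom.comp
          (algebraMap k (MvPolynomial (Fin s) k)) := by
      ext c
      simp
    rw [h2] at h1
    exact h1.of_comp_finiteType
  have hTfin : (aeval T' : MvPolynomial (Fin s) k →ₐ[k] MvPolynomial (Fin s) k).toRingHom.Finite :=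
    hTint.to_finite hTft
  refine ⟨φ, RingHom.Finite.comp gfin hTfin, ?_, ?_⟩
  · exact injective_of_isIntegral_of_dim s (ringKrullDim_mvPolynomial_fin s) φ.toRingHom hφint
      (le_of_eq hd.symm)
  · intro i
    have : (q i).asIdeal.IsPrime := (q i).2
    refine comap_eq_pIdeal φ hφint (q i).asIdeal (h i) (hh i) (hdim i) ?_
    intro l hl
    have h1 : T' l ∈ (q i).asIdeal.comap g :=
      (iInf_le (fun i : {i : Fin r // (l : ℕ) < h i} => (q i.1).asIdeal.comap g) ⟨i, hl⟩) (hTmem l)
    simpa [hφ] using h1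

end Groth.Agent.Lib.helper12.NNChain
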