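import Mathlib
import Groth.Agent.Lib.Helper12.NNChain3

/-!
# Extending a chain of primes compatibly with a Noether normalization (going-down)
-/

set_option autoImplicit false

namespace Groth.Agent.Lib.helper12.NNChain

open MvPolynomial

variable {k : Type*} [Field k] {A : Type*} [CommRing A] [IsDomain A] [Algebra k A] {d : ℕ}

omit [IsDomain A] in
/-- incomparability for an integral ring map -/
theorem eq_of_le_of_comap_eq (φ : MvPolynomial (Fin d) k →ₐ[k] A) (hφ : φ.toRingHom.IsIntegral)
    {I J : Ideal A} [I.IsPrime] (hIJ : I ≤ J) (hc : I.comap φ = J.comap φ) : I = J := by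
  by_contra hne
  have hlt : I < J := lt_of_le_of_ne hIJ hne
  algebraize [φ.toRingHom]
  have : Algebra.IsIntegral (MvPolynomial (Fin d) k) A := ⟨hφ⟩
  have := Ideal.IsIntegral.comap_lt_comap (R := MvPolynomial (Fin d) k) hlt
  exact this.ne hc

/-- one going-down step between a fixed lower prime `q` and an upper prime. -/
theorem goingDown_step (φ : MvPolynomial (Fin d) k →ₐ[k] A) (hφ : φ.toRingHom.IsIntegral)
    (q Q'' : Ideal A) [q.IsPrime] [Q''.IsPrime] (hqQ : q ≤ Q'') (a j : ℕ) (haj : a ≤ j)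
    (hjd : j + 1 ≤ d) (hq : q.comap φ = pIdeal k d a) (hQ : Q''.comap φ = pIdeal k d (j + 1)) :
    ∃ Q' : Ideal A, Q'.IsPrime ∧ q ≤ Q' ∧ Q' ≤ Q'' ∧ Q'.comap φ = pIdeal k d j := by
  have had : a ≤ d := by omega
  set mkR := Ideal.Quotient.mk (pIdeal k d a) with hmkR
  set mkS := Ideal.Quotient.mk q with hmkS
  have hle : pIdeal k d a ≤ q.comap φ.toRingHom := hq.ge
  set fRS : (MvPolynomial (Fin d) k ⧸ pIdeal k d a) →+* (A ⧸ q) :=
    Ideal.quotientMap q φ.toRingHom hle with hfRS
  have hfinj : Function.Injective fRS := Ideal.quotientMap_injective' hq.le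
  have hcomp : fRS.comp mkR = mkS.comp φ.toRingHom := Ideal.quotientMap_comp_mk hle
  have hfint : fRS.IsIntegral := by
    apply RingHom.IsIntegral.tower_top mkR
    rw [hcomp]
    exact RingHom.IsIntegral.trans _ _ hφ
      (mkS.isIntegral_of_surjective Ideal.Quotient.mk_surjective)
  let _ : Algebra (MvPolynomial (Fin d) k ⧸ pIdeal k d a) (A ⧸ q) := fRS.toAlgebra
  have halg : algebraMap (MvPolynomial (Fin d) k ⧸ pIdeal k d a) (A ⧸ q) = fRS := rfl
  have : FaithfulSMul (MvPolynomial (Fin d) k ⧸ pIdeal k d a) (A ⧸ q) :=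
    (faithfulSMul_iff_algebraMap_injective _ _).mpr hfinj
  have : Algebra.IsIntegral (MvPolynomial (Fin d) k ⧸ pIdeal k d a) (A ⧸ q) := ⟨hfint⟩
  have : IsIntegrallyClosed (MvPolynomial (Fin d) k ⧸ pIdeal k d a) :=
    isIntegrallyClosed_quot_pIdeal d a had
  have hkerR : RingHom.ker mkR = pIdeal k d a := Ideal.mk_ker
  have hkerS : RingHom.ker mkS = q := Ideal.mk_ker
  have hsurjR : Function.Surjective mkR := Ideal.Quotient.mk_surjective
  have hsurjS : Function.Surjective mkS := Ideal.Quotient.mk_surjective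
  -- the primes downstairs
  set pR := (pIdeal k d j).map mkR with hpR
  set qR := (pIdeal k d (j + 1)).map mkR with hqR
  set QS := Q''.map mkS with hQS
  have hpRprime : pR.IsPrime :=
    Ideal.map_isPrime_of_surjective hsurjR (hkerR.le.trans (pIdeal_mono d haj))
  have hqRprime : qR.IsPrime :=
    Ideal.map_isPrime_of_surjective hsurjR (hkerR.le.trans (pIdeal_mono d (by omega)))
  have hQSprime : QS.IsPrime := Ideal.map_isPrime_of_surjective hsurjS (hkerS.le.trans hqQ)
  have hcomap_pR : pR.comap mkR = pIdeal k d j := by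
    rw [hpR, Ideal.comap_map_of_surjective mkR hsurjR, ← RingHom.ker_eq_comap_bot, hkerR]
    exact sup_eq_left.mpr (pIdeal_mono d haj)
  have hcomap_qR : qR.comap mkR = pIdeal k d (j + 1) := by
    rw [hqR, Ideal.comap_map_of_surjective mkR hsurjR, ← RingHom.ker_eq_comap_bot, hkerR]
    exact sup_eq_left.mpr (pIdeal_mono d (by omega))
  have hcomap_QS : QS.comap mkS = Q'' := by
    rw [hQS, Ideal.comap_map_of_surjective mkS hsurjS, ← RingHom.ker_eq_comap_bot, hkerS]
    exact sup_eq_left.mpr hqQ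
  have hlies : QS.LiesOver qR := by
    constructor
    apply Ideal.comap_injective_of_surjective mkR hsurjR
    rw [hcomap_qR, Ideal.under_def, halg, Ideal.comap_comap, hcomp, ← Ideal.comap_comap,
      hcomap_QS]
    exact hQ.symm
  have hpq : pR ≤ qR := Ideal.map_mono (pIdeal_mono d (by omega))
  obtain ⟨PS, hPSle, hPSprime, hPSlies⟩ :=
    Ideal.exists_ideal_le_liesOver_of_le (p := pR) (q := qR) QS hpq
  refine ⟨PS.comap mkS, Ideal.comap_isPrime _ _, ?_, ?_, ?_⟩
  · have h1 : RingHom.ker mkS ≤ PS.comap mkS := by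
      rw [RingHom.ker_eq_comap_bot]
      exact Ideal.comap_mono bot_le
    exact hkerS.ge.trans h1
  · rw [← hcomap_QS]
    exact Ideal.comap_mono hPSle
  · have h1 : PS.comap fRS = pR := by
      have := hPSlies.over
      rw [Ideal.under_def, halg] at this
      exact this.symm
    have h2 : (PS.comap mkS).comap φ.toRingHom = (PS.comap fRS).comap mkR := by
      rw [Ideal.comap_comap, Ideal.comap_comap, hcomp]
    change (PS.comap mkS).comap φ.toRingHom = _
    rw [h2, h1, hcomap_pR]

/-- filling in between two primes lying over coordinate ideals -/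
theorem fill (φ : MvPolynomial (Fin d) k →ₐ[k] A) (hφ : φ.toRingHom.IsIntegral)
    (q : PrimeSpectrum A) (a : ℕ) (hq : q.asIdeal.comap φ = pIdeal k d a) :
    ∀ (m : ℕ) (t : PrimeSpectrum A), a + m ≤ d → q ≤ t →
      t.asIdeal.comap φ = pIdeal k d (a + m) →
      ∃ c : ℕ → PrimeSpectrum A, c a = q ∧ c (a + m) = t ∧
        (∀ j, a ≤ j → j ≤ a + m → (c j).asIdeal.comap φ = pIdeal k d j) ∧
        (∀ j, a ≤ j → j < a + m → c j ≤ c (j + 1)) := by
  intro m
  induction m with
  | zero =>
    intro t _ hqt ht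
    have hqt' : q.asIdeal ≤ t.asIdeal := hqt
    have : q = t := by
      apply PrimeSpectrum.ext
      exact eq_of_le_of_comap_eq φ hφ hqt' (hq.trans ht.symm)
    subst this
    refine ⟨fun _ => q, rfl, rfl, ?_, ?_⟩
    · intro j h1 h2
      have : j = a := by omega
      subst this
      exact hq
    · intro j h1 h2
      omega
  | succ m ih =>
    intro t hd hqt ht
    have hqt' : q.asIdeal ≤ t.asIdeal := hqt
    obtain ⟨Q', hQ'prime, hqQ', hQ't, hQ'c⟩ := goingDown_step φ hφ q.asIdeal t.asIdeal hqt' a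
      (a + m) (by omega) (by omega) hq (by rw [ht]; rfl)
    obtain ⟨c', hc'a, hc'b, hc'comap, hc'mono⟩ := ih ⟨Q', hQ'prime⟩ (by omega) hqQ' hQ'c
    refine ⟨Function.update c' (a + (m + 1)) t, ?_, ?_, ?_, ?_⟩
    · rw [Function.update_of_ne (by omega)]
      exact hc'a
    · rw [Function.update_self]
    · intro j h1 h2
      by_cases hj : j = a + (m + 1)
      · subst hj
        rw [Function.update_self]
        exact ht
      · rw [Function.update_of_ne hj]
        exact hc'comap j h1 (by omega)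
    · intro j h1 h2
      by_cases hj : j = a + m
      · subst hj
        rw [Function.update_of_ne (by omega), hc'b]
        have : a + m + 1 = a + (m + 1) := by omega
        rw [this, Function.update_self]
        exact hQ't
      · rw [Function.update_of_ne (by omega), Function.update_of_ne (by omega)]
        exact hc'mono j h1 (by omega)

/-- the property of being a chain over the coordinate ideals up to level `b` -/
def Good (φ : MvPolynomial (Fin d) k →ₐ[k] A) (c : ℕ → PrimeSpectrum A) (b : ℕ) : Prop :=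
  (∀ j, j ≤ b → (c j).asIdeal.comap φ = pIdeal k d j) ∧ (∀ j, j < b → c j ≤ c (j + 1))

theorem extend (φ : MvPolynomial (Fin d) k →ₐ[k] A) (hφ : φ.toRingHom.IsIntegral)
    (c : ℕ → PrimeSpectrum A) (b b' : ℕ) (hc : Good φ c b) (hbb' : b ≤ b') (hb'd : b' ≤ d)
    (t : PrimeSpectrum A) (hct : c b ≤ t) (ht : t.asIdeal.comap φ = pIdeal k d b') :
    ∃ c' : ℕ → PrimeSpectrum A, Good φ c' b' ∧ (∀ j, j ≤ b → c' j = c j) ∧ c' b' = t := by
  obtain ⟨m, rfl⟩ := Nat.exists_eq_add_of_le hbb'
  obtain ⟨c₂, h2a, h2b, h2comap, h2mono⟩ := fill φ hφ (c b) b (hc.1 b le_rfl) m t hb'd hct ht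
  refine ⟨fun j => if j ≤ b then c j else c₂ j, ⟨?_, ?_⟩, ?_, ?_⟩
  · intro j hj
    by_cases hjb : j ≤ b
    · simp only [if_pos hjb]
      exact hc.1 j hjb
    · simp only [if_neg hjb]
      exact h2comap j (by omega) hj
  · intro j hj
    by_cases hjb : j + 1 ≤ b
    · have hjb' : j ≤ b := by omega
      simp only [if_pos hjb, if_pos hjb']
      exact hc.2 j (by omega)
    · by_cases hjb' : j ≤ b
      · have : j = b := by omega
        subst this
        simp only [if_pos le_rfl, if_neg hjb]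
        rw [← h2a]
        exact h2mono j le_rfl (by omega)
      · simp only [if_neg hjb, if_neg hjb']
        exact h2mono j (by omega) hj
  · intro j hj
    simp only [if_pos hj]
  · by_cases hm : b + m ≤ b
    · have : m = 0 := by omega
      subst this
      simp only [add_zero, if_pos le_rfl]
      rw [← h2a]
      exact h2b
    · simp only [if_neg hm]
      exact h2b

theorem part2 (φ : MvPolynomial (Fin d) k →ₐ[k] A) (hfin : φ.toRingHom.Finite)
    (hinj : Function.Injective φ) (r : ℕ) (q : Fin r → PrimeSpectrum A) (hq : StrictMono q)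
    (h : Fin r → ℕ) (hh : ∀ i, h i ≤ d)
    (hcomap : ∀ i, (q i).asIdeal.comap φ = pIdeal k d (h i)) :
    ∃ Q : ℕ → PrimeSpectrum A,
      (∀ j, j ≤ d → (Q j).asIdeal.comap φ = pIdeal k d j) ∧
      (∀ j, j < d → Q j < Q (j + 1)) ∧ (∀ i, Q (h i) = q i) := by
  have hφ : φ.toRingHom.IsIntegral := RingHom.IsIntegral.of_finite hfin
  have hhmono : ∀ i i' : Fin r, i ≤ i' → h i ≤ h i' := by
    intro i i' hii'
    apply le_of_pIdeal_le (k := k) d (hh i)
    rw [← hcomap i, ← hcomap i']
    exact Ideal.comap_mono (hq.monotone hii')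
  -- place the anchors one after the other
  have stage : ∀ i : ℕ, i ≤ r → ∃ (c : ℕ → PrimeSpectrum A) (b : ℕ), b ≤ d ∧ Good φ c b ∧
      (∀ i' : Fin r, i'.val < i → h i' ≤ b ∧ c (h i') = q i') ∧
      (∀ i' : Fin r, i ≤ i'.val → c b ≤ q i' ∧ b ≤ h i') := by
    intro i
    induction i with
    | zero =>
      intro _
      refine ⟨fun _ => ⟨⊥, Ideal.isPrime_bot⟩, 0, Nat.zero_le _, ⟨?_, ?_⟩, ?_, ?_⟩
      · intro j hj
        have : j = 0 := by omega
        subst this
        rw [pIdeal_zero]
        change RingHom.ker φ.toRingHom = ⊥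
        exact (RingHom.injective_iff_ker_eq_bot _).mp hinj
      · intro j hj
        omega
      · intro i' hi'
        omega
      · intro i' _
        exact ⟨bot_le (a := (q i').asIdeal), Nat.zero_le _⟩
    | succ i ih =>
      intro hi
      obtain ⟨c, b, hbd, hgood, hanch, hrest⟩ := ih (by omega)
      obtain ⟨hcb, hbh⟩ := hrest ⟨i, by omega⟩ le_rfl
      obtain ⟨c', hgood', hagree, hc'b⟩ := extend φ hφ c b (h ⟨i, by omega⟩) hgood hbh (hh _)
        (q ⟨i, by omega⟩) hcb (hcomap _)
      refine ⟨c', h ⟨i, by omega⟩, hh _, hgood', ?_, ?_⟩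
      · intro i' hi'
        by_cases hlt : i'.val < i
        · obtain ⟨h1, h2⟩ := hanch i' hlt
          exact ⟨h1.trans hbh, by rw [hagree _ h1, h2]⟩
        · have : i' = ⟨i, by omega⟩ := Fin.ext (by simp; omega)
          rw [this]
          exact ⟨le_rfl, hc'b⟩
      · intro i' hi'
        have hle : (⟨i, by omega⟩ : Fin r) ≤ i' := by
          rw [Fin.le_def]
          simp only
          omega
        rw [hc'b]
        exact ⟨hq.monotone hle, hhmono _ _ hle⟩
  obtain ⟨c, b, hbd, hgood, hanch, _⟩ := stage r le_rfl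
  -- a prime over the top coordinate ideal, above `c b`
  obtain ⟨M, hMprime, hcM, hMc⟩ : ∃ M : Ideal A, M.IsPrime ∧ (c b).asIdeal ≤ M ∧
      M.comap φ = pIdeal k d d := by
    algebraize [φ.toRingHom]
    have : Algebra.IsIntegral (MvPolynomial (Fin d) k) A := ⟨hφ⟩
    have hIP : (c b).asIdeal.comap (algebraMap (MvPolynomial (Fin d) k) A) ≤ pIdeal k d d := by
      have := hgood.1 b le_rfl
      change (c b).asIdeal.comap φ.toRingHom ≤ _
      change (c b).asIdeal.comap φ.toRingHom = _ at this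
      rw [this]
      exact pIdeal_mono d hbd
    obtain ⟨M, hM1, hM2, hM3⟩ := Ideal.exists_ideal_over_prime_of_isIntegral_of_isPrime
      (pIdeal k d d) (c b).asIdeal hIP
    exact ⟨M, hM2, hM1, hM3⟩
  obtain ⟨Q, hQgood, hQagree, _⟩ := extend φ hφ c b d hgood hbd le_rfl ⟨M, hMprime⟩ hcM hMc
  refine ⟨Q, hQgood.1, ?_, ?_⟩
  · intro j hj
    refine lt_of_le_of_ne (hQgood.2 j hj) fun heq => ?_
    have h1 := hQgood.1 j hj.le
    have h2 := hQgood.1 (j + 1) hj
    rw [heq, h2] at h1
    exact (pIdeal_lt (k := k) d (Nat.lt_succ_self j) hj).ne h1.symm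
  · intro i
    obtain ⟨h1, h2⟩ := hanch i i.2
    rw [hQagree _ h1, h2]

end Groth.Agent.Lib.helper12.NNChain
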