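import Mathlib

/-!
# Nilpotent matrices over a field are conjugate to strictly lower triangular matrices
-/

set_option autoImplicit false

namespace Groth.Agent.Lib.helper12.NilTriang

open Module

variable {k : Type*} [Field k]

/-- A nilpotent endomorphism of a finite-dimensional vector space has a basis in which it is
strictly lower triangular: `f (b j)` lies in the span of the `b i` with `j < i`. -/
theorem exists_basis_of_isNilpotent :
    ∀ (m : ℕ) {V : Type*} [AddCommGroup V] [Module k V] [FiniteDimensional k V]
      (_ : finrank k V = m) (f : Module.End k V) (_ : IsNilpotent f),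
      ∃ b : Basis (Fin m) k V, ∀ j, f (b j) ∈ Submodule.span k (b '' {i | j < i}) := by
  intro m
  induction m with
  | zero =>
    intro V _ _ _ hV f _
    have : Subsingleton V := Module.finrank_zero_iff.mp hV
    refine ⟨Basis.empty V, fun j => j.elim0⟩
  | succ m ih =>
    intro V _ _ _ hV f hf
    have hnt : Nontrivial V := Module.nontrivial_of_finrank_pos (R := k) (by omega)
    -- the range of `f` is a proper subspace
    have hrange : LinearMap.range f < ⊤ := by
      rw [lt_top_iff_ne_top]
      intro htop
      obtain ⟨j, hj⟩ := hf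
      have hsurj : Function.Surjective f := LinearMap.range_eq_top.mp htop
      have hsurj' : Function.Surjective (f ^ j) := by
        rw [Module.End.coe_pow]
        exact hsurj.iterate j
      obtain ⟨v, hv⟩ := exists_ne (0 : V)
      obtain ⟨w, hw⟩ := hsurj' v
      rw [hj] at hw
      exact hv (by simpa using hw.symm)
    obtain ⟨φ, hφ0, hφ⟩ := Submodule.exists_le_ker_of_lt_top _ hrange
    set H : Submodule k V := LinearMap.ker φ with hH
    have hfH : ∀ x, f x ∈ H := fun x => hφ (LinearMap.mem_range_self f x)
    obtain ⟨v, hv⟩ : ∃ v, φ v ≠ 0 := by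
      by_contra hcon
      push Not at hcon
      exact hφ0 (LinearMap.ext hcon)
    have hφsurj : LinearMap.range φ = ⊤ := by
      rw [LinearMap.range_eq_top]
      intro c
      refine ⟨(c / φ v) • v, ?_⟩
      rw [map_smul, smul_eq_mul, div_mul_cancel₀ _ hv]
    have hHrank : finrank k H = m := by
      have h1 : finrank k (LinearMap.range φ) + finrank k H = finrank k V :=
        LinearMap.finrank_range_add_finrank_ker φ
      rw [hφsurj, finrank_top, Module.finrank_self, hV] at h1
      omega
    -- restrict `f` to `H`
    let f' : Module.End k H := f.restrict (fun x _ => hfH x)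
    have hf' : IsNilpotent f' := by
      obtain ⟨j, hj⟩ := hf
      refine ⟨j, ?_⟩
      have : f' ^ j = (f ^ j).restrict (fun x hx => by
          rw [hj]; exact H.zero_mem) := by
        exact Module.End.pow_restrict j (fun x _ => hfH x) _
      rw [this]
      ext x
      simp [hj]
    obtain ⟨b', hb'⟩ := ih hHrank f' hf'
    have hli : ∀ (c : k), ∀ x ∈ H, c • v + x = 0 → c = 0 := by
      intro c x hx hcx
      have := congrArg φ hcx
      rw [map_add, map_smul, map_zero, show φ x = 0 from hx, add_zero, smul_eq_mul] at this
      exact (mul_eq_zero.mp this).resolve_right hv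
    have hsp : ∀ z : V, ∃ c : k, z + c • v ∈ H := by
      intro z
      refine ⟨-(φ z / φ v), ?_⟩
      change φ (z + -(φ z / φ v) • v) = 0
      rw [map_add, map_smul, smul_eq_mul, neg_mul, div_mul_cancel₀ _ hv, add_neg_cancel]
    let b : Basis (Fin (m + 1)) k V := Basis.mkFinCons v b' hli hsp
    have hb : (b : Fin (m + 1) → V) = Fin.cons v ((↑) ∘ b') := Basis.coe_mkFinCons v b' hli hsp
    have hbsucc : ∀ i : Fin m, b i.succ = (b' i : V) := by
      intro i
      rw [hb, Fin.cons_succ]
      rfl
    refine ⟨b, ?_⟩
    have hHle : ∀ (S : Set (Fin m)), Submodule.map H.subtype (Submodule.span k (b' '' S)) =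
        Submodule.span k (b '' (Fin.succ '' S)) := by
      intro S
      rw [Submodule.map_span, ← Set.image_comp, ← Set.image_comp]
      congr 1
      apply Set.image_congr
      intro i _
      simp only [Function.comp_apply, Submodule.subtype_apply]
      exact (hbsucc i).symm
    intro j
    refine Fin.cases ?_ ?_ j
    · -- `j = 0`
      have h0 : f (b 0) ∈ H := hfH _
      have hmem : (⟨f (b 0), h0⟩ : H) ∈ Submodule.span k (b' '' Set.univ) := by
        rw [Set.image_univ, b'.span_eq]; trivial
      have := Submodule.mem_map_of_mem (f := H.subtype) hmem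
      rw [hHle] at this
      refine Submodule.span_mono ?_ this
      apply Set.image_mono
      rintro _ ⟨i, -, rfl⟩
      exact Fin.succ_pos i
    · intro j'
      rw [hbsucc]
      have h1 : f (b' j' : V) = ((f' (b' j') : H) : V) := rfl
      rw [h1]
      have := Submodule.mem_map_of_mem (f := H.subtype) (hb' j')
      rw [hHle] at this
      refine Submodule.span_mono ?_ this
      apply Set.image_mono
      rintro _ ⟨i, hi, rfl⟩
      exact Fin.succ_lt_succ_iff.mpr hi

/-- A nilpotent square matrix over a field is conjugate to a strictly lower triangular matrix. -/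
theorem exists_strictLower_conj {n : ℕ} (N : Matrix (Fin n) (Fin n) k) (hN : IsNilpotent N) :
    ∃ (g L : Matrix (Fin n) (Fin n) k), IsUnit g.det ∧ (∀ i j, i ≤ j → L i j = 0) ∧
      N = g * L * g⁻¹ := by
  classical
  let e := Matrix.toLinAlgEquiv' (R := k) (n := Fin n)
  have hf : IsNilpotent (e N) := hN.map e
  obtain ⟨b, hb⟩ := exists_basis_of_isNilpotent n (V := Fin n → k)
    (Module.finrank_fin_fun k) (e N) hf
  let std := Pi.basisFun k (Fin n)
  let g : Matrix (Fin n) (Fin n) k := std.toMatrix b
  let g' : Matrix (Fin n) (Fin n) k := b.toMatrix std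
  let L : Matrix (Fin n) (Fin n) k := LinearMap.toMatrix b b (e N)
  have hgg' : g * g' = 1 := Basis.toMatrix_mul_toMatrix_flip std b
  have hgdet : IsUnit g.det := Matrix.isUnit_det_of_right_inverse hgg'
  have hginv : g⁻¹ = g' := Matrix.inv_eq_right_inv hgg'
  refine ⟨g, L, hgdet, ?_, ?_⟩
  · intro i j hij
    change (LinearMap.toMatrix b b (e N)) i j = 0
    rw [LinearMap.toMatrix_apply]
    have hsupp := Basis.repr_support_subset_of_mem_span b _ (hb j)
    by_contra hne
    have : i ∈ (b.repr ((e N) (b j))).support := Finsupp.mem_support_iff.mpr hne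
    have := hsupp this
    simp only [Set.mem_ofPred_eq] at this
    exact absurd hij (not_le.mpr this)
  · rw [hginv]
    have h := basis_toMatrix_mul_linearMap_toMatrix_mul_basis_toMatrix std b std b (e N)
    have h2 : LinearMap.toMatrix std std (e N) = N := by
      change LinearMap.toMatrix (Pi.basisFun k (Fin n)) (Pi.basisFun k (Fin n)) (Matrix.toLin' N) = N
      rw [LinearMap.toMatrix_eq_toMatrix', LinearMap.toMatrix'_toLin']
    rw [h2] at h
    exact h.symm

end Groth.Agent.Lib.helper12.NilTriang
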