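import Mathlib
import Groth.Agent.Lib.Helper12.NilTriang

/-!
# The nilpotent cone is irreducible
-/

set_option autoImplicit false
universe u

namespace Groth.Agent.Lib.helper12.NilCone

open MvPolynomial Matrix

section general

variable {D : Type*} [CommRing D] {n : ℕ}

/-- the characteristic polynomial of a strictly lower triangular matrix is `X ^ n`. -/
theorem charpoly_strictLower (M : Matrix (Fin n) (Fin n) D) (hM : ∀ i j, i ≤ j → M i j = 0) :
    M.charpoly = Polynomial.X ^ n := by
  rw [← Matrix.charpoly_transpose]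
  have hU : (Mᵀ).IsUpperTriangular := by
    intro i j hij
    exact hM j i (le_of_lt hij)
  rw [Matrix.charpoly_of_isUpperTriangular _ hU]
  have : ∀ i : Fin n, (Polynomial.X - Polynomial.C (Mᵀ i i) : Polynomial D) = Polynomial.X := by
    intro i
    rw [Matrix.transpose_apply, hM i i le_rfl, map_zero, sub_zero]
  simp only [this, Finset.prod_const, Finset.card_univ, Fintype.card_fin]

end general

variable (k : Type u) [Field k] (n : ℕ)

/-- The `i`-th coefficient of the characteristic polynomial of the generic matrix. -/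
noncomputable def cpCoeff (i : ℕ) : MvPolynomial (Fin n × Fin n) k :=
  ((Matrix.mvPolynomialX (Fin n) (Fin n) k).charpoly).coeff i

/-- The ideal of the nilpotent cone. -/
noncomputable def nilIdeal : Ideal (MvPolynomial (Fin n × Fin n) k) :=
  Ideal.span (Set.range (fun i : Fin n => cpCoeff k n (i : ℕ)))

variable {k n}

theorem map_cpCoeff {D : Type*} [CommRing D] (φ : MvPolynomial (Fin n × Fin n) k →+* D) (i : ℕ) :
    φ (cpCoeff k n i) =
      (Matrix.charpoly ((Matrix.mvPolynomialX (Fin n) (Fin n) k).map φ)).coeff i := by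
  unfold cpCoeff
  rw [← Polynomial.coeff_map, ← Matrix.charpoly_map]

theorem eval_cpCoeff (x : Fin n × Fin n → k) (i : ℕ) :
    MvPolynomial.eval x (cpCoeff k n i) =
      (Matrix.charpoly (Matrix.of fun a b => x (a, b))).coeff i := by
  rw [map_cpCoeff]
  congr 2
  ext a b
  simp [Matrix.mvPolynomialX]

/-- a point of the zero locus of the nil ideal is a nilpotent matrix -/
theorem isNilpotent_of_mem_zeroLocus (x : Fin n × Fin n → k)
    (hx : ∀ i : Fin n, MvPolynomial.eval x (cpCoeff k n (i : ℕ)) = 0) :
    IsNilpotent (Matrix.of fun a b => x (a, b) : Matrix (Fin n) (Fin n) k) := by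
  set N : Matrix (Fin n) (Fin n) k := Matrix.of fun a b => x (a, b) with hN
  have hcp : N.charpoly = Polynomial.X ^ n := by
    ext j
    rw [Polynomial.coeff_X_pow]
    rcases lt_trichotomy j n with hj | hj | hj
    · rw [if_neg (ne_of_lt hj)]
      have := hx ⟨j, hj⟩
      rw [eval_cpCoeff] at this
      exact this
    · rw [if_pos hj, hj]
      have h1 : N.charpoly.natDegree = n := by
        rw [Matrix.charpoly_natDegree_eq_dim, Fintype.card_fin]
      have h2 := (Matrix.charpoly_monic N)
      rw [Polynomial.Monic, Polynomial.leadingCoeff, h1] at h2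
      exact h2
    · rw [if_neg (ne_of_gt hj)]
      apply Polynomial.coeff_eq_zero_of_natDegree_lt
      rw [Matrix.charpoly_natDegree_eq_dim, Fintype.card_fin]
      exact hj
  refine ⟨n, ?_⟩
  have := Matrix.aeval_self_charpoly N
  rw [hcp, map_pow, Polynomial.aeval_X] at this
  exact this

/-! ### The parametrization -/

variable (k n) in
/-- The coordinate ring of the parameter space. -/
abbrev ParamRing := MvPolynomial ((Fin n × Fin n) ⊕ (Fin n × Fin n)) k

variable (k n) in
/-- generic matrix `g` -/
noncomputable def Gm : Matrix (Fin n) (Fin n) (ParamRing k n) :=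
  Matrix.of fun i j => X (Sum.inl (i, j))

variable (k n) in
/-- generic strictly lower triangular matrix -/
noncomputable def Um : Matrix (Fin n) (Fin n) (ParamRing k n) :=
  Matrix.of fun i j => if j < i then X (Sum.inr (i, j)) else 0

variable (k n) in
/-- the generic point `g * U * adj g` of the nilpotent cone -/
noncomputable def Pm : Matrix (Fin n) (Fin n) (ParamRing k n) :=
  Gm k n * Um k n * (Gm k n).adjugate

variable (k n) in
/-- the parametrization map on coordinate rings -/
noncomputable def Φ : MvPolynomial (Fin n × Fin n) k →ₐ[k] ParamRing k n :=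
  aeval (fun p => Pm k n p.1 p.2)

theorem map_Φ_mvPolynomialX :
    (Matrix.mvPolynomialX (Fin n) (Fin n) k).map (Φ k n) = Pm k n := by
  ext a b
  simp [Matrix.mvPolynomialX, Φ]

theorem charpoly_Pm : (Pm k n).charpoly = Polynomial.X ^ n := by
  unfold Pm
  rw [Matrix.mul_assoc, Matrix.charpoly_mul_comm, Matrix.mul_assoc, Matrix.adjugate_mul]
  apply charpoly_strictLower
  intro i j hij
  rw [Matrix.mul_apply]
  apply Finset.sum_eq_zero
  intro l _
  by_cases hl : l = j
  · subst hl
    have : Um k n i l = 0 := by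
      simp only [Um, Matrix.of_apply]
      rw [if_neg (not_lt.mpr hij)]
    rw [this, zero_mul]
  · rw [Matrix.smul_apply, Matrix.one_apply_ne hl, smul_zero, mul_zero]

theorem Φ_cpCoeff (i : Fin n) : Φ k n (cpCoeff k n (i : ℕ)) = 0 := by
  have := map_cpCoeff (k := k) (n := n) (Φ k n : MvPolynomial (Fin n × Fin n) k →+* ParamRing k n) i
  have h2 : (Matrix.mvPolynomialX (Fin n) (Fin n) k).map
      ((Φ k n : MvPolynomial (Fin n × Fin n) k →+* ParamRing k n)) = Pm k n :=
    map_Φ_mvPolynomialX
  rw [h2, charpoly_Pm, Polynomial.coeff_X_pow, if_neg (ne_of_lt i.2)] at this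
  exact this

theorem nilIdeal_le_ker : nilIdeal k n ≤ RingHom.ker (Φ k n) := by
  unfold nilIdeal
  rw [Ideal.span_le]
  rintro _ ⟨i, rfl⟩
  exact Φ_cpCoeff i

/-- Every nilpotent matrix is a value of the parametrization. -/
theorem exists_param (N : Matrix (Fin n) (Fin n) k) (hN : IsNilpotent N) :
    ∃ y : (Fin n × Fin n) ⊕ (Fin n × Fin n) → k,
      (Pm k n).map (MvPolynomial.eval y) = N := by
  obtain ⟨g, L, hg, hL, hN'⟩ := NilTriang.exists_strictLower_conj N hN
  refine ⟨Sum.elim (fun p => g p.1 p.2) (fun p => (g.det)⁻¹ * L p.1 p.2), ?_⟩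
  set y : (Fin n × Fin n) ⊕ (Fin n × Fin n) → k :=
    Sum.elim (fun p => g p.1 p.2) (fun p => (g.det)⁻¹ * L p.1 p.2) with hy
  have hG : (Gm k n).map (MvPolynomial.eval y) = g := by
    ext a b
    simp [Gm, hy]
  have hU : (Um k n).map (MvPolynomial.eval y) = (g.det)⁻¹ • L := by
    ext a b
    simp only [Um, Matrix.map_apply, Matrix.of_apply, Matrix.smul_apply, smul_eq_mul]
    by_cases hab : b < a
    · rw [if_pos hab]; simp [hy]
    · rw [if_neg hab, map_zero, hL a b (not_lt.mp hab), mul_zero]
  have hdet : g.det ≠ 0 := hg.ne_zero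
  have hadj : g.adjugate = g.det • g⁻¹ := by
    rw [Matrix.inv_def, Ring.inverse_eq_inv', smul_smul, mul_inv_cancel₀ hdet, one_smul]
  unfold Pm
  have hmap : (Gm k n * Um k n * (Gm k n).adjugate).map (MvPolynomial.eval y) =
      (Gm k n).map (MvPolynomial.eval y) * (Um k n).map (MvPolynomial.eval y) *
        ((Gm k n).map (MvPolynomial.eval y)).adjugate := by
    rw [Matrix.map_mul, Matrix.map_mul]
    congr 1
    exact (RingHom.map_adjugate (MvPolynomial.eval y) (Gm k n))
  rw [hmap, hG, hU, hadj, hN']
  simp only [Matrix.mul_smul, Matrix.smul_mul, smul_smul]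
  rw [mul_inv_cancel₀ hdet, one_smul]

variable [IsAlgClosed k]

theorem ker_Φ_eq_radical : RingHom.ker (Φ k n) = (nilIdeal k n).radical := by
  apply le_antisymm
  · rw [← MvPolynomial.vanishingIdeal_zeroLocus_eq_radical (K := k)]
    intro f hf x hx
    rw [MvPolynomial.mem_zeroLocus_iff] at hx
    have hx' : ∀ i : Fin n, MvPolynomial.eval x (cpCoeff k n (i : ℕ)) = 0 := by
      intro i
      have := hx (cpCoeff k n (i : ℕ)) (Ideal.subset_span ⟨i, rfl⟩)
      rwa [MvPolynomial.aeval_eq_eval] at this
    obtain ⟨y, hy⟩ := exists_param _ (isNilpotent_of_mem_zeroLocus x hx')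
    have hcomp : (MvPolynomial.eval y).comp (Φ k n : MvPolynomial (Fin n × Fin n) k →+* ParamRing k n)
        = MvPolynomial.eval x := by
      apply MvPolynomial.ringHom_ext
      · intro c
        simp
      · rintro ⟨a, b⟩
        have := congrFun (congrFun hy a) b
        simp only [Matrix.map_apply, Matrix.of_apply] at this
        simp only [RingHom.comp_apply, RingHom.coe_coe, Φ, aeval_X, eval_X]
        exact this
    rw [MvPolynomial.aeval_eq_eval, ← hcomp, RingHom.comp_apply]
    have : (Φ k n) f = 0 := hf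
    rw [RingHom.coe_coe, this, map_zero]
  · have hprime : (RingHom.ker (Φ k n)).IsPrime := RingHom.ker_isPrime _
    exact (hprime.radical_le_iff).mpr nilIdeal_le_ker

instance radical_isPrime : ((nilIdeal k n).radical).IsPrime := by
  rw [← ker_Φ_eq_radical]
  exact RingHom.ker_isPrime _

theorem mk_mem_nilradical_iff {A : Type*} [CommRing A] (I : Ideal A) (a : A) :
    Ideal.Quotient.mk I a ∈ nilradical (A ⧸ I) ↔ a ∈ I.radical := by
  rw [mem_nilradical, Ideal.mem_radical_iff]
  constructor
  · rintro ⟨m, hm⟩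
    refine ⟨m, ?_⟩
    rw [← map_pow, Ideal.Quotient.eq_zero_iff_mem] at hm
    exact hm
  · rintro ⟨m, hm⟩
    refine ⟨m, ?_⟩
    rw [← map_pow, Ideal.Quotient.eq_zero_iff_mem]
    exact hm

theorem irreducibleSpace_of_radical_isPrime {A : Type*} [CommRing A] (I : Ideal A)
    (h : I.radical.IsPrime) : IrreducibleSpace (PrimeSpectrum (A ⧸ I)) := by
  rw [PrimeSpectrum.irreducibleSpace_iff_isPrime_nilradical]
  rw [Ideal.isPrime_iff]
  constructor
  · intro htop
    have : (1 : A ⧸ I) ∈ nilradical (A ⧸ I) := by rw [htop]; trivial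
    rw [← map_one (Ideal.Quotient.mk I), mk_mem_nilradical_iff] at this
    exact h.ne_top ((Ideal.eq_top_iff_one _).mpr this)
  · intro x y hxy
    obtain ⟨a, rfl⟩ := Ideal.Quotient.mk_surjective x
    obtain ⟨b, rfl⟩ := Ideal.Quotient.mk_surjective y
    rw [← map_mul, mk_mem_nilradical_iff] at hxy
    rw [mk_mem_nilradical_iff, mk_mem_nilradical_iff]
    exact h.mem_or_mem hxy

theorem irreducibleSpace_nilCone :
    IrreducibleSpace (PrimeSpectrum (MvPolynomial (Fin n × Fin n) k ⧸ nilIdeal k n)) :=
  irreducibleSpace_of_radical_isPrime _ radical_isPrime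

end Groth.Agent.Lib.helper12.NilCone
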