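import Mathlib
import Groth.Agent.Lib.Helper12.NilCone1
import Groth.Agent.Lib.Helper12.FinPowRed

/-!
# The nilpotent cone has dimension at most `n ^ 2 - n`
-/

set_option autoImplicit false
universe u

namespace Groth.Agent.Lib.helper12.NilCone

open MvPolynomial Matrix

theorem charpoly_eq_X_pow_of_coeff {D : Type*} [CommRing D] {n : ℕ}
    (M : Matrix (Fin n) (Fin n) D) (h : ∀ i : Fin n, M.charpoly.coeff (i : ℕ) = 0) :
    M.charpoly = Polynomial.X ^ n := by
  nontriviality D
  ext j
  rw [Polynomial.coeff_X_pow]
  rcases lt_trichotomy j n with hj | hj | hj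
  · rw [if_neg (ne_of_lt hj)]
    exact h ⟨j, hj⟩
  · rw [if_pos hj, hj]
    have h1 : M.charpoly.natDegree = n := by
      rw [Matrix.charpoly_natDegree_eq_dim, Fintype.card_fin]
    have h2 := (Matrix.charpoly_monic M)
    rw [Polynomial.Monic, Polynomial.leadingCoeff, h1] at h2
    exact h2
  · rw [if_neg (ne_of_gt hj)]
    apply Polynomial.coeff_eq_zero_of_natDegree_lt
    rw [Matrix.charpoly_natDegree_eq_dim, Fintype.card_fin]
    exact hj

theorem ringKrullDim_le_of_isIntegral {R S : Type*} [CommRing R] [CommRing S]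
    (φ : R →+* S) (hφ : φ.IsIntegral) : ringKrullDim S ≤ ringKrullDim R := by
  let _ := φ.toAlgebra
  have : Algebra.IsIntegral R S := ⟨hφ⟩
  refine Order.krullDim_le_of_strictMono (PrimeSpectrum.comap φ) ?_
  intro p q hpq
  have := p.isPrime
  exact Ideal.IsIntegral.comap_lt_comap (R := R) (I := p.asIdeal) (J := q.asIdeal) hpq

variable (k : Type u) [Field k] (n : ℕ)

/-- the off-diagonal index set -/
abbrev OffDiag := {p : Fin n × Fin n // p.1 ≠ p.2}

/-- the polynomial ring in the off-diagonal variables -/
abbrev R₀ := MvPolynomial (OffDiag n) k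

/-- the coordinate ring of the nilpotent cone -/
abbrev B := MvPolynomial (Fin n × Fin n) k ⧸ nilIdeal k n

/-- the structure map from the off-diagonal polynomial ring -/
noncomputable def φ₀ : R₀ k n →+* B k n :=
  (Ideal.Quotient.mk (nilIdeal k n)).comp
    (rename (Subtype.val : OffDiag n → Fin n × Fin n) : R₀ k n →ₐ[k] _).toRingHom

/-- images of the diagonal variables -/
noncomputable def dvar : Fin n → B k n := fun i => Ideal.Quotient.mk _ (X (i, i))

/-- the matrix `d_i - X` lifted to a polynomial ring over the off-diagonal ring -/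
noncomputable def Ymat (i : Fin n) : Matrix (Fin n) (Fin n) (MvPolynomial (Fin n) (R₀ k n)) :=
  Matrix.of fun a b => if h : a = b then X i - X a else - C (X ⟨(a, b), h⟩)

theorem totalDegree_det_Ymat_lt (i : Fin n) : (Ymat k n i).det.totalDegree < n := by
  classical
  have hn : 0 < n := Fin.pos i
  rw [Matrix.det_apply]
  refine lt_of_le_of_lt (totalDegree_finsetSum_le (d := n - 1) ?_) (by omega)
  intro σ _
  have hsign : ∀ p : MvPolynomial (Fin n) (R₀ k n),
      (Equiv.Perm.sign σ • p).totalDegree = p.totalDegree := by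
    intro p
    rcases Int.units_eq_one_or (Equiv.Perm.sign σ) with h | h
    · rw [h, one_smul]
    · rw [h, Units.neg_smul, one_smul, totalDegree_neg]
  rw [hsign]
  by_cases hσ : σ i = i
  · have : ∏ j, Ymat k n i (σ j) j = 0 := by
      apply Finset.prod_eq_zero (Finset.mem_univ i)
      rw [hσ]
      simp [Ymat]
    rw [this, totalDegree_zero]
    exact Nat.zero_le _
  · refine (totalDegree_finsetProd _ _).trans ?_
    have hbound : ∀ j, (Ymat k n i (σ j) j).totalDegree ≤ if j = i then 0 else 1 := by
      intro j
      by_cases hj : j = i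
      · rw [if_pos hj, hj]
        simp only [Ymat, Matrix.of_apply, dif_neg hσ]
        rw [totalDegree_neg, totalDegree_C]
      · rw [if_neg hj]
        simp only [Ymat, Matrix.of_apply]
        split_ifs with h
        · refine (totalDegree_sub _ _).trans ?_
          rw [max_le_iff]
          constructor <;> exact (totalDegree_X _).le
        · rw [totalDegree_neg, totalDegree_C]
          exact Nat.zero_le _
    refine (Finset.sum_le_sum (fun j _ => hbound j)).trans ?_
    rw [Finset.sum_ite, Finset.sum_const_zero, zero_add, Finset.sum_const, smul_eq_mul, mul_one]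
    have : (Finset.univ.filter (fun j : Fin n => ¬ j = i)) = Finset.univ.erase i := by
      ext j; simp
    rw [this, Finset.card_erase_of_mem (Finset.mem_univ i), Finset.card_univ, Fintype.card_fin]

section finite

theorem module_finite :
    letI : Algebra (R₀ k n) (B k n) := (φ₀ k n).toAlgebra
    Module.Finite (R₀ k n) (B k n) := by
  classical
  letI : Algebra (R₀ k n) (B k n) := (φ₀ k n).toAlgebra
  have halg : ∀ r : R₀ k n, algebraMap (R₀ k n) (B k n) r = φ₀ k n r := fun _ => rfl
  have hoff : ∀ (a b : Fin n) (h : a ≠ b),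
      algebraMap (R₀ k n) (B k n) (X ⟨(a, b), h⟩) = Ideal.Quotient.mk _ (X (a, b)) := by
    intro a b h
    rw [halg]
    simp [φ₀]
  refine FinPowRed.finite_of_pow_eq_aeval (A := R₀ k n) (B := B k n) (dvar k n) ?_ n
    (fun i => (Ymat k n i).det) (totalDegree_det_Ymat_lt k n) ?_
  · -- generation
    rw [eq_top_iff]
    rintro x -
    obtain ⟨p, rfl⟩ := Ideal.Quotient.mk_surjective x
    induction p using MvPolynomial.induction_on with
    | C c =>
      have : Ideal.Quotient.mk (nilIdeal k n) (C c) = algebraMap (R₀ k n) (B k n) (C c) := by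
        rw [halg]; simp [φ₀]
      rw [this]
      exact Subalgebra.algebraMap_mem _ _
    | add p q hp hq => rw [map_add]; exact Subalgebra.add_mem _ hp hq
    | mul_X p ab hp =>
      rw [map_mul]
      refine Subalgebra.mul_mem _ hp ?_
      obtain ⟨a, b⟩ := ab
      by_cases h : a = b
      · subst h
        exact Algebra.subset_adjoin ⟨a, rfl⟩
      · rw [← hoff a b h]
        exact Subalgebra.algebraMap_mem _ _
  · -- the relation
    intro i
    set Xbar : Matrix (Fin n) (Fin n) (B k n) :=
      (Matrix.mvPolynomialX (Fin n) (Fin n) k).map (Ideal.Quotient.mk (nilIdeal k n)) with hXbar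
    have hcp : Xbar.charpoly = Polynomial.X ^ n := by
      apply charpoly_eq_X_pow_of_coeff
      intro j
      rw [hXbar, ← map_cpCoeff (k := k) (n := n) (Ideal.Quotient.mk (nilIdeal k n)) j,
        Ideal.Quotient.eq_zero_iff_mem]
      exact Ideal.subset_span ⟨j, rfl⟩
    have hY : (Ymat k n i).map (aeval (dvar k n) : MvPolynomial (Fin n) (R₀ k n) →ₐ[R₀ k n] B k n) =
        Matrix.scalar (Fin n) (dvar k n i) - Xbar := by
      ext a b
      simp only [Ymat, Matrix.map_apply, Matrix.of_apply, Matrix.sub_apply, hXbar,
        Matrix.mvPolynomialX_apply, Matrix.scalar_apply, Matrix.diagonal_apply]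
      split_ifs with h
      · subst h
        rw [map_sub, aeval_X, aeval_X]
        rfl
      · rw [map_neg, aeval_C, hoff a b h, zero_sub]
    have h1 : aeval (dvar k n) (Ymat k n i).det =
        ((Ymat k n i).map (aeval (dvar k n) : MvPolynomial (Fin n) (R₀ k n) →ₐ[R₀ k n] B k n)).det := by
      rw [AlgHom.map_det]
      rfl
    rw [h1, hY, ← Matrix.eval_charpoly, hcp, Polynomial.eval_pow, Polynomial.eval_X]

end finite

theorem card_offDiag : Nat.card (OffDiag n) = n ^ 2 - n := by
  classical
  rw [Nat.card_eq_fintype_card]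
  have h1 : Fintype.card (OffDiag n) =
      Fintype.card (Fin n × Fin n) - Fintype.card {p : Fin n × Fin n // p.1 = p.2} :=
    Fintype.card_subtype_compl _
  have h2 : Fintype.card {p : Fin n × Fin n // p.1 = p.2} = n := by
    have e : {p : Fin n × Fin n // p.1 = p.2} ≃ Fin n :=
      { toFun := fun p => p.1.1
        invFun := fun i => ⟨(i, i), rfl⟩
        left_inv := by
          rintro ⟨⟨a, b⟩, h⟩
          simp only [Subtype.mk.injEq, Prod.mk.injEq, true_and]
          exact h
        right_inv := fun i => rfl }
    rw [Fintype.card_congr e, Fintype.card_fin]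
  rw [h1, h2, Fintype.card_prod, Fintype.card_fin, sq]

theorem ringKrullDim_le : ringKrullDim (B k n) ≤ ((n ^ 2 - n : ℕ) : WithBot ℕ∞) := by
  letI : Algebra (R₀ k n) (B k n) := (φ₀ k n).toAlgebra
  have hfin : Module.Finite (R₀ k n) (B k n) := module_finite k n
  have hint : (φ₀ k n).IsIntegral := by
    have : Algebra.IsIntegral (R₀ k n) (B k n) := Algebra.IsIntegral.of_finite _ _
    exact algebraMap_isIntegral_iff.mpr this
  refine (ringKrullDim_le_of_isIntegral (φ₀ k n) hint).trans ?_
  rw [MvPolynomial.ringKrullDim_of_isNoetherianRing, ringKrullDim_eq_zero_of_field, zero_add,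
    card_offDiag]

end Groth.Agent.Lib.helper12.NilCone
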