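import Mathlib
import Groth.Agent.Lib.Helper12.NilCone2
import Groth.Agent.Lib.Helper26.AffEquidim

/-!
# The nilpotent cone is irreducible of dimension `n ^ 2 - n`
-/

set_option autoImplicit false
universe u

namespace Groth.Agent.Lib.helper12.NilCone

open MvPolynomial Matrix

variable (k : Type u) [Field k] [IsAlgClosed k] (n : ℕ)

theorem height_radical_le : ((nilIdeal k n).radical).height ≤ n := by
  have hmem : (nilIdeal k n).radical ∈ (nilIdeal k n).minimalPrimes := by
    rw [← Ideal.radical_minimalPrimes, Ideal.minimalPrimes_eq_subsingleton_self]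
    exact Set.mem_singleton _
  have h1 := Ideal.height_le_card_of_mem_minimalPrimes_span
    (s := Set.range (fun i : Fin n => cpCoeff k n (i : ℕ))) (Set.finite_range _) hmem
  refine h1.trans ?_
  have h2 : (Set.range (fun i : Fin n => cpCoeff k n (i : ℕ))).ncard ≤ n := by
    rw [← Set.image_univ]
    refine (Set.ncard_image_le (Set.finite_univ)).trans ?_
    rw [Set.ncard_univ, Nat.card_eq_fintype_card, Fintype.card_fin]
  exact_mod_cast h2

theorem le_ringKrullDim : ((n ^ 2 - n : ℕ) : WithBot ℕ∞) ≤ ringKrullDim (B k n) := by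
  set P := (nilIdeal k n).radical with hP
  have hsurj : ringKrullDim (MvPolynomial (Fin n × Fin n) k ⧸ P) ≤ ringKrullDim (B k n) := by
    refine ringKrullDim_le_of_surjective (Ideal.Quotient.factor (Ideal.le_radical)) ?_
    exact Ideal.Quotient.factor_surjective _
  refine le_trans ?_ hsurj
  have key := Groth.Agent.Lib.helper26.DimFormula.height_add_dim_quotient_of_domain k
    (MvPolynomial (Fin n × Fin n) k) P
  have hdimR : ringKrullDim (MvPolynomial (Fin n × Fin n) k) = ((n ^ 2 : ℕ) : WithBot ℕ∞) := by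
    rw [MvPolynomial.ringKrullDim_of_isNoetherianRing, ringKrullDim_eq_zero_of_field, zero_add,
      Nat.card_eq_fintype_card, Fintype.card_prod, Fintype.card_fin, sq]
  rw [hdimR] at key
  obtain ⟨m, -, hm⟩ := Groth.Agent.Lib.helper26.DimFormula.exists_nat_trdeg_eq_ringKrullDim k
    (MvPolynomial (Fin n × Fin n) k ⧸ P)
  rw [hm] at key ⊢
  have hht := height_radical_le k n
  rw [← hP] at hht
  obtain ⟨h, hh⟩ := ENat.ne_top_iff_exists.mp (Ideal.height_ne_top_of_isPrime (I := P))
  rw [← hh] at key hht
  have hh' : h ≤ n := by exact_mod_cast hht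
  have key' : h + m = n ^ 2 := by exact_mod_cast key
  have : n ^ 2 - n ≤ m := by omega
  exact_mod_cast this

theorem main :
    IrreducibleSpace (PrimeSpectrum (MvPolynomial (Fin n × Fin n) k ⧸ nilIdeal k n)) ∧
      ringKrullDim (MvPolynomial (Fin n × Fin n) k ⧸ nilIdeal k n) =
        ((n ^ 2 - n : ℕ) : WithBot ℕ∞) :=
  ⟨irreducibleSpace_nilCone, le_antisymm (ringKrullDim_le k n) (le_ringKrullDim k n)⟩

end Groth.Agent.Lib.helper12.NilCone
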