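import Mathlib
import Groth.Prelude.Def_Curves
import Groth.Agent.S0213

/-!
# Norms of finite extensions of `C_1` fields are surjective
-/

set_option autoImplicit false
set_option linter.style.haveILetI false
set_option linter.unusedSectionVars false

universe u v

namespace Groth.Agent.Lib.helper12.NormC1

open MvPolynomial Groth.Agent.S0213

/-- `C_1` in the systems sense implies `C_1` for single forms. -/
theorem isCr_of_isCi (K : Type u) [Field K] (h : Curves.IsCi K 1) : Curves.IsCr K 1 := by
  intro n d f hf hd hdn
  obtain ⟨a, ha0, ha⟩ := h 1 n (fun _ => f) (fun _ => d) (fun _ => hf) (fun _ => hd)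
    (by simpa using hdn)
  exact ⟨a, ha0, ha 0⟩

/-- Over a `C_1` field the norm of a finite extension is surjective. -/
theorem norm_surjective (K : Type u) [Field K] (L : Type v) [Field L] [Algebra K L]
    [FiniteDimensional K L] (hK : Curves.IsCr K 1) :
    Function.Surjective (Algebra.norm K : L → K) := by
  intro a
  have hmpos : 0 < Module.finrank K L := Module.finrank_pos
  set m := Module.finrank K L with hm
  let e : Module.Basis (Fin m) K L := Module.finBasis K L
  let φ : L →ₐ[K] Matrix (Fin m) (Fin m) K := Algebra.leftMulMatrix e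
  let lin : MvPolynomial (Fin (m + 1)) L := ∑ j : Fin m, C (e j) * X j.succ
  have hlin : lin.IsHomogeneous 1 := by
    apply IsHomogeneous.sum
    intro j _
    exact isHomogeneous_C_mul_X _ _
  let g₁ : MvPolynomial (Fin (m + 1)) K := (Psi φ lin).det
  have hg₁ : g₁.IsHomogeneous m := by
    have := det_isHomogeneous (Psi φ lin) 1 (fun r s => cmap_isHomogeneous _ lin 1 hlin)
    simpa using this
  let F : MvPolynomial (Fin (m + 1)) K := g₁ - C a * X 0 ^ m
  have hF : F.IsHomogeneous m := by
    apply IsHomogeneous.sub hg₁
    have h1 : (C a * X (0 : Fin (m + 1)) ^ m : MvPolynomial (Fin (m + 1)) K).IsHomogeneous (0 + m) :=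
      IsHomogeneous.mul (isHomogeneous_C _ a) (isHomogeneous_X_pow _ m)
    simpa using h1
  obtain ⟨x, hx0, hx⟩ := hK (m + 1) m F hF hmpos (by simp)
  set z : L := ∑ j : Fin m, x j.succ • e j with hz
  have hevlin : eval (fun q => algebraMap K L (x q)) lin = z := by
    simp only [lin, map_sum, map_mul, eval_C, eval_X, hz]
    refine Finset.sum_congr rfl fun j _ => ?_
    rw [Algebra.smul_def, mul_comm]
  have hnorm : Algebra.norm K z = a * x 0 ^ m := by
    have h1 : eval x g₁ = Algebra.norm K z := by
      rw [Algebra.norm_eq_matrix_det e, ← hevlin]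
      have := eval_Psi φ x lin
      show eval x (Psi φ lin).det = (φ _).det
      rw [← this, ← RingHom.map_det]
    have h2 : eval x F = eval x g₁ - a * x 0 ^ m := by
      simp only [F, map_sub, map_mul, eval_C, map_pow, eval_X]
    rw [h2, h1, sub_eq_zero] at hx
    exact hx
  have hx00 : x 0 ≠ 0 := by
    intro h0
    rw [h0, zero_pow hmpos.ne', mul_zero] at hnorm
    have hz0 : z = 0 := Algebra.norm_eq_zero_iff.mp hnorm
    apply hx0
    funext t
    refine Fin.cases h0 (fun j => ?_) t
    have h1 : e.repr z j = x j.succ := by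
      rw [hz, e.repr_sum_self]
    rw [hz0] at h1
    simpa using h1.symm
  refine ⟨z / algebraMap K L (x 0), ?_⟩
  rw [div_eq_mul_inv, map_mul, Algebra.norm_inv, hnorm, Algebra.norm_algebraMap, ← hm]
  field_simp

end Groth.Agent.Lib.helper12.NormC1
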