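import Mathlib
import Groth.Agent.Lib.Helper12.NormFn1

/-!
# The norm of the reduction in characteristic `p` (helper12)

* `pow_eq_of_sub_pow_eq_zero`, `pow_eq_zero_of_isLocalization`: algebra.
* `exists_uniform_nilpotent_bound`: on a Noetherian scheme a uniform power kills all nilpotent functions.
* `hasNorm_nilradical_subschemeι` (Stacks 0BD1): `X_red ⟶ X` has a norm of degree `p^e`.
-/

set_option autoImplicit false
set_option linter.style.haveILetI false
universe u
open CategoryTheory AlgebraicGeometry Opposite TopologicalSpace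
namespace Groth.Agent.Lib.Helper12.NormFn
open Groth.Agent.Lib.Helper12.NormSec

/-- in a ring where the prime `p` is zero, `p^e`-th powers only depend on the class modulo elements killed by the
`p^e`-th power. -/
theorem pow_eq_of_sub_pow_eq_zero {R : Type*} [CommRing R] (p : ℕ) (hp : p.Prime)
    (hpR : (p : R) = 0) (e : ℕ) (a a' : R) (h : (a' - a) ^ (p ^ e) = 0) :
    a' ^ (p ^ e) = a ^ (p ^ e) := by
  have h1 : a' = a + (a' - a) := by ring
  rw [h1, (Commute.all a (a' - a)).add_pow_prime_pow_eq' hp e, h, hpR, zero_mul, add_zero, add_zero]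

/-- nilpotents of a localization are killed by the exponent killing the nilpotents of the ring. -/
theorem pow_eq_zero_of_isLocalization {R S : Type*} [CommRing R] [CommRing S] [Algebra R S]
    (M : Submonoid R) [IsLocalization M S] (K : ℕ) (hK : ∀ r : R, IsNilpotent r → r ^ K = 0)
    (x : S) (hx : IsNilpotent x) : x ^ K = 0 := by
  obtain ⟨N, hN⟩ := hx
  obtain ⟨⟨r, m⟩, hrm⟩ := IsLocalization.surj M x
  have hrm' : x * algebraMap R S m = algebraMap R S r := hrm
  have h1 : algebraMap R S (r ^ N) = 0 := by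
    rw [map_pow, ← hrm', mul_pow, hN, zero_mul]
  obtain ⟨t, ht⟩ := (IsLocalization.map_eq_zero_iff M S (r ^ N)).mp h1
  have h2 : IsNilpotent ((t : R) * r) := ⟨N + 1, by
    have : ((t : R) * r) ^ (N + 1) = (t : R) ^ N * r * ((t : R) * r ^ N) := by ring
    rw [this, ht, mul_zero]⟩
  have h3 := hK _ h2
  have h4 : algebraMap R S ((t : R) * r) ^ K = 0 := by rw [← map_pow, h3, map_zero]
  rw [map_mul, ← hrm', mul_pow, mul_pow] at h4
  have hu : IsUnit (algebraMap R S (t : R) ^ K * algebraMap R S (m : R) ^ K) :=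
    ((IsLocalization.map_units S t).pow K).mul ((IsLocalization.map_units S m).pow K)
  have h5 : x ^ K * (algebraMap R S (t : R) ^ K * algebraMap R S (m : R) ^ K) = 0 := by
    rw [← h4]; ring
  exact (hu.mul_left_eq_zero).mp h5

/-- on a Noetherian scheme, a uniform power kills all nilpotent functions. -/
theorem exists_uniform_nilpotent_bound (X : Scheme.{u}) [IsNoetherian X] :
    ∃ K : ℕ, ∀ (V : X.Opens) (n : Γ(X, V)), IsNilpotent n → n ^ K = 0 := by
  classical
  have hex : ∀ x : X, ∃ U : X.Opens, IsAffineOpen U ∧ x ∈ U := fun x => by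
    obtain ⟨U, hU, hxU, -⟩ := Opens.isBasis_iff_nbhd.mp X.isBasis_affineOpens
      (show x ∈ (⊤ : X.Opens) from trivial)
    exact ⟨U, hU, hxU⟩
  choose U hU hxU using hex
  obtain ⟨s, hs⟩ := isCompact_univ.elim_finite_subcover
    (fun x : X => ((U x : X.Opens) : Set X)) (fun x => (U x).isOpen)
    (fun x _ => Set.mem_iUnion.mpr ⟨x, hxU x⟩)
  have hk : ∀ x : X, ∃ k : ℕ, ∀ r : Γ(X, U x), IsNilpotent r → r ^ k = 0 := by
    intro x
    haveI : IsNoetherianRing Γ(X, U x) := IsLocallyNoetherian.component_noetherian ⟨U x, hU x⟩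
    obtain ⟨k, hk⟩ := IsNoetherianRing.isNilpotent_nilradical Γ(X, U x)
    refine ⟨k, fun r hr => ?_⟩
    have : r ^ k ∈ nilradical Γ(X, U x) ^ k := Ideal.pow_mem_pow (mem_nilradical.mpr hr) k
    rw [hk] at this
    exact this
  choose k hk using hk
  refine ⟨∑ x ∈ s, k x, fun V n hn => ?_⟩
  have hex2 : ∀ y : ↥V, ∃ (x : X) (_ : x ∈ s) (a : Γ(X, U x)),
      y.1 ∈ X.basicOpen a ∧ X.basicOpen a ≤ V := by
    intro y
    obtain ⟨x, hx⟩ := Set.mem_iUnion.mp (hs (Set.mem_univ y.1))
    obtain ⟨hxs, hyx⟩ := Set.mem_iUnion.mp hx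
    obtain ⟨a, ha1, ha2⟩ := (hU x).exists_basicOpen_le (V := V) ⟨y.1, y.2⟩ hyx
    exact ⟨x, hxs, a, ha2, ha1⟩
  choose x hxs a hya haV using hex2
  refine eq_of_cover_fn (fun y : ↥V => X.basicOpen (a y)) V haV ?_ _ _ fun y => ?_
  · intro z hz
    exact Opens.mem_iSup.mpr ⟨⟨z, hz⟩, hya ⟨z, hz⟩⟩
  · rw [rf_pow]
    have hzero : rf (haV y) (0 : Γ(X, V)) = 0 := map_zero (X.presheaf.map (homOfLE (haV y)).op).hom
    rw [hzero]
    letI : Algebra Γ(X, U (x y)) Γ(X, X.basicOpen (a y)) :=
      (X.presheaf.map (homOfLE (X.basicOpen_le (a y))).op).hom.toAlgebra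
    haveI : IsLocalization.Away (a y) Γ(X, X.basicOpen (a y)) :=
      (hU (x y)).isLocalization_of_eq_basicOpen (a y) (homOfLE (X.basicOpen_le (a y))) rfl
    have hnil : IsNilpotent (rf (haV y) n) := hn.map (X.presheaf.map (homOfLE (haV y)).op).hom
    have hle : k (x y) ≤ ∑ x ∈ s, k x := Finset.single_le_sum (f := k) (fun _ _ => Nat.zero_le _) (hxs y)
    have h1 := pow_eq_zero_of_isLocalization (Submonoid.powers (a y)) (k (x y)) (hk (x y))
      (rf (haV y) n) hnil
    exact pow_eq_zero_of_le hle h1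

section CharP

variable (X : Scheme.{u}) (p : ℕ) (hp : p.Prime) (hpX : (p : Γ(X, ⊤)) = 0) (e : ℕ)
  (he : ∀ (V : X.Opens) (n : Γ(X, V)), IsNilpotent n → n ^ (p ^ e) = 0)

include hpX in
theorem natCast_eq_zero (V : X.Opens) : (p : Γ(X, V)) = 0 := by
  have := congrArg (X.presheaf.map (homOfLE (le_top : V ≤ ⊤)).op).hom hpX
  rwa [map_natCast, map_zero] at this

include hp hpX he in
/-- the `p^e`-th power of a function only depends on its restriction to the reduction. -/
theorem pow_eq_of_app_eq {V : X.Opens} (hV : IsAffineOpen V) (a a' : Γ(X, V))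
    (h : X.nilradical.subschemeι.app V a = X.nilradical.subschemeι.app V a') :
    a ^ (p ^ e) = a' ^ (p ^ e) := by
  refine pow_eq_of_sub_pow_eq_zero p hp (natCast_eq_zero X p hpX V) e a' a (he V _ ?_)
  have hker : a - a' ∈ RingHom.ker (X.nilradical.subschemeι.app V).hom := by
    rw [RingHom.mem_ker, map_sub, sub_eq_zero]
    exact h
  have h2 := Scheme.IdealSheafData.ker_subschemeι_app X.nilradical ⟨V, hV⟩
  change RingHom.ker (X.nilradical.subschemeι.app V).hom = _ at h2
  rw [h2] at hker
  change a - a' ∈ (⊥ : Ideal Γ(X, V)).radical at hker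
  exact mem_nilradical.mp hker

/-- a chosen lift of a function on the reduction. -/
noncomputable def liftFn {V : X.Opens} (hV : IsAffineOpen V)
    (s : Γ(X.nilradical.subscheme, X.nilradical.subschemeι ⁻¹ᵁ V)) : Γ(X, V) :=
  (Scheme.IdealSheafData.subschemeι_app_surjective X.nilradical ⟨V, hV⟩ s).choose

theorem app_liftFn {V : X.Opens} (hV : IsAffineOpen V)
    (s : Γ(X.nilradical.subscheme, X.nilradical.subschemeι ⁻¹ᵁ V)) :
    X.nilradical.subschemeι.app V (liftFn X hV s) = s :=
  (Scheme.IdealSheafData.subschemeι_app_surjective X.nilradical ⟨V, hV⟩ s).choose_spec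

/-- the affine-local norm data `f ↦ (lift f)^(p^e)` of the reduction in characteristic `p`. -/
noncomputable def affNormRed : AffNorm X.nilradical.subschemeι where
  ν := fun V hV =>
    { toFun := fun s => liftFn X hV s ^ (p ^ e)
      map_one' := by
        have := pow_eq_of_app_eq X p hp hpX e he hV (liftFn X hV 1) 1 (by
          rw [app_liftFn, map_one])
        rw [this, one_pow]
      map_mul' := fun s s' => by
        have := pow_eq_of_app_eq X p hp hpX e he hV (liftFn X hV (s * s'))
          (liftFn X hV s * liftFn X hV s') (by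
          rw [app_liftFn, map_mul, app_liftFn, app_liftFn])
        rw [this, mul_pow] }
  basic := fun V hV a s => by
    change rf _ (liftFn X hV s ^ (p ^ e)) = liftFn X (hV.basicOpen a) _ ^ (p ^ e)
    rw [rf_pow]
    refine (pow_eq_of_app_eq X p hp hpX e he (hV.basicOpen a) _ _ ?_).symm
    rw [app_liftFn]
    have hnat := X.nilradical.subschemeι.naturality (homOfLE (X.basicOpen_le a)).op
    have h1 := congrArg (fun φ => φ.hom (liftFn X hV s)) hnat
    have h2 : X.nilradical.subschemeι.app (X.basicOpen a) (rf (X.basicOpen_le a) (liftFn X hV s)) =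
        rf (X.nilradical.subschemeι.preimage_mono (X.basicOpen_le a))
          (X.nilradical.subschemeι.app V (liftFn X hV s)) := h1
    rw [h2, app_liftFn]

include hp hpX he in
/-- **Stacks 0BD1**: in characteristic `p`, the reduction of a scheme has a norm of degree `p^e` as soon as `p^e`-th
powers kill all nilpotent functions. -/
theorem hasNorm_nilradical_subschemeι : Nrm.HasNorm X.nilradical.subschemeι (p ^ e) := by
  refine (affNormRed X p hp hpX e he).nonempty_normOfDegree (p ^ e)
    (Nat.one_le_pow _ _ hp.pos) ?_ ?_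
  · intro V hV g
    change liftFn X hV _ ^ (p ^ e) = g ^ (p ^ e)
    exact pow_eq_of_app_eq X p hp hpX e he hV _ _ (app_liftFn X hV _)
  · intro V hV s x hx hs
    change X.presheaf.germ V _ hx (liftFn X hV s ^ (p ^ e)) ∈ _
    rw [map_pow]
    refine Ideal.pow_mem_of_mem _ ?_ _ (Nat.pow_pos hp.pos)
    rw [IsLocalRing.mem_maximalIdeal]
    intro hunit
    have h1 : IsUnit (X.nilradical.subschemeι.stalkMap x
        (X.presheaf.germ V (X.nilradical.subschemeι.base x) hx (liftFn X hV s))) :=
      hunit.map (X.nilradical.subschemeι.stalkMap x).hom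
    rw [Scheme.Hom.germ_stalkMap_apply, app_liftFn] at h1
    exact (IsLocalRing.mem_maximalIdeal _).mp hs h1

end CharP

end Groth.Agent.Lib.Helper12.NormFn
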