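import Mathlib

/-!
# The norm of a finite extension of a normal domain (helper12)

For `A` an integrally closed domain, `B` a domain finite over `A` (not necessarily normal), `K`, `L` their fraction
fields: `finiteDimensional_of_finite`, `exists_norm_eq` (the field norm of `b ∈ B` lies in `A`),
`dvd_of_norm_eq` (`b` divides its norm in `B`).
-/

set_option autoImplicit false
set_option linter.style.haveILetI false
set_option linter.unusedSectionVars false
universe u
open Polynomial IntermediateField nonZeroDivisors
namespace Groth.Agent.Lib.Helper12.NormFn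

section Alg

variable (A B K L : Type*) [CommRing A] [IsDomain A] [IsIntegrallyClosed A] [CommRing B] [IsDomain B]
  [Field K] [Field L] [Algebra A K] [IsFractionRing A K] [Algebra B L] [IsFractionRing B L]
  [Algebra A B] [Algebra K L] [Algebra A L] [IsScalarTower A K L] [IsScalarTower A B L]
  [Module.Finite A B]

include K L in
theorem faithfulSMul_of_tower : FaithfulSMul A B := by
  rw [faithfulSMul_iff_algebraMap_injective]
  intro x y hxy
  have h1 : algebraMap A L x = algebraMap A L y := by
    rw [IsScalarTower.algebraMap_apply A B L, IsScalarTower.algebraMap_apply A B L, hxy]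
  rw [IsScalarTower.algebraMap_apply A K L, IsScalarTower.algebraMap_apply A K L] at h1
  exact IsFractionRing.injective A K ((algebraMap K L).injective h1)

include A B in
theorem finiteDimensional_of_finite : FiniteDimensional K L := by
  haveI : FaithfulSMul A B := faithfulSMul_of_tower A B K L
  haveI : Algebra.IsIntegral A B := inferInstance
  haveI : Algebra.IsAlgebraic A B := inferInstance
  haveI : IsLocalization (Algebra.algebraMapSubmonoid B A⁰) L := inferInstance
  exact Module.Finite.of_isLocalization A B A⁰

/-- the norm of an element of `B` lies in `A`. -/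
theorem exists_norm_eq (b : B) : ∃ a : A, algebraMap A K a = Algebra.norm K (algebraMap B L b) := by
  have hint : IsIntegral A b := Algebra.IsIntegral.isIntegral b
  have h1 : IsIntegral A (algebraMap B L b) := hint.map (IsScalarTower.toAlgHom A B L)
  have h2 : IsIntegral A (Algebra.norm K (algebraMap B L b)) := Algebra.isIntegral_norm K h1
  exact IsIntegrallyClosed.isIntegral_iff.mp h2

/-- an element of `B` divides its norm. -/
theorem dvd_of_norm_eq (b : B) (a : A)
    (ha : algebraMap A K a = Algebra.norm K (algebraMap B L b)) : b ∣ algebraMap A B a := by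
  haveI : FiniteDimensional K L := finiteDimensional_of_finite A B K L
  have hint : IsIntegral A b := Algebra.IsIntegral.isIntegral b
  set β := algebraMap B L b with hβ
  have hβint : IsIntegral K β := (hint.map (IsScalarTower.toAlgHom A B L)).tower_top
  have hmin : minpoly K β = (minpoly A b).map (algebraMap A K) :=
    minpoly.isIntegrallyClosed_eq_field_fractions K L hint
  have h1 : Algebra.norm K β = Algebra.norm K (AdjoinSimple.gen K β) ^ Module.finrank K⟮β⟯ L :=
    Algebra.norm_eq_norm_adjoin K β
  have h2 : Algebra.norm K (AdjoinSimple.gen K β) =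
      (-1) ^ (adjoin.powerBasis hβint).dim * (minpoly K β).coeff 0 := by
    have := Algebra.PowerBasis.norm_gen_eq_coeff_zero_minpoly (adjoin.powerBasis hβint)
    rw [adjoin.powerBasis_gen, minpoly_gen] at this
    exact this
  have hm : 0 < Module.finrank K⟮β⟯ L := Module.finrank_pos
  set m := Module.finrank K⟮β⟯ L with hmdef
  set a₀ := (minpoly A b).coeff 0 with ha₀
  have h3 : a = ((-1) ^ (adjoin.powerBasis hβint).dim * a₀) ^ m := by
    apply IsFractionRing.injective A K
    rw [ha, h1, h2, hmin, coeff_map, map_pow, map_mul, map_pow, map_neg, map_one]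
  -- `a₀` is divisible by `b`
  have h4 : b ∣ algebraMap A B a₀ := by
    have h5 := minpoly.aeval A b
    rw [← divX_mul_X_add (minpoly A b), map_add, map_mul, aeval_X, aeval_C] at h5
    refine ⟨-(aeval b (minpoly A b).divX), ?_⟩
    rw [mul_neg, mul_comm]
    exact eq_neg_of_add_eq_zero_right h5
  rw [h3, map_pow, map_mul]
  exact dvd_pow (Dvd.dvd.mul_left h4 _) hm.ne'

end Alg

end Groth.Agent.Lib.Helper12.NormFn
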