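import Mathlib
import Groth.Agent.Lib.Helper12.NormFn1
import Groth.Agent.Lib.Helper12.NormFn4
import Groth.Prelude.Def_Pi1

/-!
# The norm of a finite surjective morphism onto a normal integral scheme (helper12)

* `map_genericPoint`, `ffMap`, `ffAlgebra`, `ffNorm`, `ffDeg`: the function field extension of a surjective
  morphism of integral schemes and its norm.
* `isIntegrallyClosed_of_isNormalScheme`.
* `hasNorm_of_normal` (Stacks 0BD2): `π` has a norm of degree `[K(X) : K(Y)]`.
-/

set_option autoImplicit false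
set_option linter.style.haveILetI false
set_option linter.unusedSectionVars false
universe u
open CategoryTheory AlgebraicGeometry Opposite TopologicalSpace
namespace Groth.Agent.Lib.Helper12.NormFn
open Groth.Agent.Lib.Helper12.NormSec

variable {X Y : Scheme.{u}} [IsIntegral X] [IsIntegral Y] (π : X ⟶ Y)

/-- a surjective morphism of integral schemes maps the generic point to the generic point. -/
theorem map_genericPoint [Surjective π] : π (genericPoint X) = genericPoint Y := by
  have h1 := (genericPoint_spec X).image π.continuous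
  have h2 : closure (π '' (Set.univ : Set X)) = Set.univ := by
    rw [Set.image_univ, π.surjective.range_eq, closure_univ]
  rw [h2] at h1
  exact h1.eq (genericPoint_spec Y)

variable (hη : π (genericPoint X) = genericPoint Y)

/-- the map on function fields. -/
noncomputable def ffMap : Y.functionField ⟶ X.functionField :=
  Y.presheaf.stalkSpecializes (specializes_of_eq hη) ≫ π.stalkMap (genericPoint X)

theorem ffMap_germ (U : Y.Opens) (h : genericPoint Y ∈ U) (a : Γ(Y, U)) :
    (ffMap π hη).hom (Y.presheaf.germ U (genericPoint Y) h a) =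
      X.presheaf.germ (π ⁻¹ᵁ U) (genericPoint X) (by change π (genericPoint X) ∈ U; rw [hη]; exact h)
        (π.app U a) := by
  have h1 := TopCat.Presheaf.germ_stalkSpecializes Y.presheaf h (specializes_of_eq hη)
  have h2 := Scheme.Hom.germ_stalkMap π U (genericPoint X) (by rw [hη]; exact h)
  unfold ffMap
  rw [CommRingCat.hom_comp, RingHom.comp_apply]
  have h3 := congrArg (fun ψ => ψ.hom a) h1
  simp only [CommRingCat.hom_comp, RingHom.comp_apply] at h3
  rw [h3]
  exact congrArg (fun ψ => ψ.hom a) h2

/-- the algebra structure on function fields. -/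
@[instance_reducible] noncomputable def ffAlgebra : Algebra Y.functionField X.functionField := (ffMap π hη).hom.toAlgebra

/-- the norm on function fields. -/
noncomputable def ffNorm : X.functionField →* Y.functionField :=
  letI := ffAlgebra π hη
  Algebra.norm Y.functionField

omit [IsIntegral X] in
/-- sections of a normal integral scheme over a nonempty affine open form an integrally closed domain. -/
theorem isIntegrallyClosed_of_isNormalScheme (hY : Pi1.IsNormalScheme Y) {V : Y.Opens}
    (hV : IsAffineOpen V) [Nonempty (↑V : Scheme.{u})] : IsIntegrallyClosed Γ(Y, V) := by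
  have hmem : ∀ y : PrimeSpectrum Γ(Y, V), hV.fromSpec y ∈ V := fun y =>
    le_of_eq hV.opensRange_fromSpec (show hV.fromSpec y ∈ hV.fromSpec.opensRange from ⟨y, rfl⟩)
  exact @IsIntegrallyClosed.of_isLocalization_maximal Γ(Y, V) _
    (fun (P : Ideal Γ(Y, V)) [hP : P.IsMaximal] => Y.presheaf.stalk (hV.fromSpec ⟨P, hP.isPrime⟩))
    (fun P hP => inferInstance)
    (fun P hP => TopCat.Presheaf.algebra_section_stalk Y.presheaf
      ⟨hV.fromSpec ⟨P, hP.isPrime⟩, hmem ⟨P, hP.isPrime⟩⟩)
    (fun P hP => hV.isLocalization_stalk' ⟨P, hP.isPrime⟩ (hmem ⟨P, hP.isPrime⟩))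
    inferInstance
    (fun P hP => (hY _).2)

/-- the degree of the function field extension. -/
noncomputable def ffDeg : ℕ :=
  letI := ffAlgebra π hη
  Module.finrank Y.functionField X.functionField

theorem ffNorm_ffMap (k : Y.functionField) : ffNorm π hη ((ffMap π hη).hom k) = k ^ ffDeg π hη := by
  letI := ffAlgebra π hη
  exact Algebra.norm_algebraMap k

include hη in
theorem mem_preimage_of_mem {V : Y.Opens} (h : genericPoint Y ∈ V) : genericPoint X ∈ π ⁻¹ᵁ V := by
  change π (genericPoint X) ∈ V
  rw [hη]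
  exact h

/-- the key facts on a nonempty affine open. -/
theorem affine_facts [IsFinite π] (hY : Pi1.IsNormalScheme Y) {V : Y.Opens} (hV : IsAffineOpen V)
    (h : genericPoint Y ∈ V) :
    0 < ffDeg π hη ∧
    (∀ b : Γ(X, π ⁻¹ᵁ V), ∃ a : Γ(Y, V), Y.presheaf.germ V (genericPoint Y) h a =
      ffNorm π hη (X.presheaf.germ (π ⁻¹ᵁ V) (genericPoint X) (mem_preimage_of_mem π hη h) b)) ∧
    (∀ (b : Γ(X, π ⁻¹ᵁ V)) (a : Γ(Y, V)), Y.presheaf.germ V (genericPoint Y) h a =
      ffNorm π hη (X.presheaf.germ (π ⁻¹ᵁ V) (genericPoint X) (mem_preimage_of_mem π hη h) b) →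
      b ∣ π.app V a) := by
  haveI : Nonempty (↑V : Scheme.{u}) := ⟨⟨genericPoint Y, h⟩⟩
  haveI : Nonempty (↑(π ⁻¹ᵁ V) : Scheme.{u}) := ⟨⟨genericPoint X, mem_preimage_of_mem π hη h⟩⟩
  have hπV : IsAffineOpen (π ⁻¹ᵁ V) := hV.preimage π
  haveI : IsFractionRing Γ(Y, V) Y.functionField := functionField_isFractionRing_of_isAffineOpen Y V hV
  haveI : IsFractionRing Γ(X, π ⁻¹ᵁ V) X.functionField :=
    functionField_isFractionRing_of_isAffineOpen X (π ⁻¹ᵁ V) hπV
  haveI : IsIntegrallyClosed Γ(Y, V) := isIntegrallyClosed_of_isNormalScheme hY hV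
  letI : Algebra Γ(Y, V) Γ(X, π ⁻¹ᵁ V) := (π.app V).hom.toAlgebra
  letI : Algebra Y.functionField X.functionField := ffAlgebra π hη
  letI : Algebra Γ(Y, V) X.functionField :=
    ((algebraMap Y.functionField X.functionField).comp
      (algebraMap Γ(Y, V) Y.functionField)).toAlgebra
  haveI : IsScalarTower Γ(Y, V) Y.functionField X.functionField :=
    IsScalarTower.of_algebraMap_eq (fun _ => rfl)
  haveI : IsScalarTower Γ(Y, V) Γ(X, π ⁻¹ᵁ V) X.functionField := by
    refine IsScalarTower.of_algebraMap_eq (fun a => ?_)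
    exact ffMap_germ π hη V h a
  haveI : Module.Finite Γ(Y, V) Γ(X, π ⁻¹ᵁ V) := IsFinite.finite_app π V hV
  haveI : FiniteDimensional Y.functionField X.functionField :=
    finiteDimensional_of_finite Γ(Y, V) Γ(X, π ⁻¹ᵁ V) Y.functionField X.functionField
  refine ⟨Module.finrank_pos, fun b => ?_, fun b a ha => ?_⟩
  · exact exists_norm_eq Γ(Y, V) Γ(X, π ⁻¹ᵁ V) Y.functionField X.functionField b
  · exact dvd_of_norm_eq Γ(Y, V) Γ(X, π ⁻¹ᵁ V) Y.functionField X.functionField b a ha

variable [IsFinite π] (hY : Pi1.IsNormalScheme Y)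

open Classical in
/-- the norm of a function over an affine open (junk value `1` over the empty open). -/
noncomputable def nrmFn {V : Y.Opens} (hV : IsAffineOpen V) (b : Γ(X, π ⁻¹ᵁ V)) : Γ(Y, V) :=
  if h : genericPoint Y ∈ V then ((affine_facts π hη hY hV h).2.1 b).choose else 1

theorem germ_nrmFn {V : Y.Opens} (hV : IsAffineOpen V) (h : genericPoint Y ∈ V)
    (b : Γ(X, π ⁻¹ᵁ V)) :
    Y.presheaf.germ V (genericPoint Y) h (nrmFn π hη hY hV b) =
      ffNorm π hη (X.presheaf.germ (π ⁻¹ᵁ V) (genericPoint X) (mem_preimage_of_mem π hη h) b) := by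
  unfold nrmFn
  rw [dif_pos h]
  exact ((affine_facts π hη hY hV h).2.1 b).choose_spec

omit [IsIntegral X] in
theorem subsingleton_of_notMem {V : Y.Opens} (h : genericPoint Y ∉ V) : Subsingleton Γ(Y, V) := by
  have hV : V = ⊥ := by
    by_contra hne
    apply h
    obtain ⟨y, hy⟩ := (Opens.ne_bot_iff_nonempty V).mp hne
    exact ((genericPoint_spec Y).mem_open_set_iff V.isOpen).mpr ⟨y, trivial, hy⟩
  rw [hV]
  infer_instance

theorem nrmFn_eq_of_germ {V : Y.Opens} (hV : IsAffineOpen V) (b : Γ(X, π ⁻¹ᵁ V)) (a : Γ(Y, V))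
    (ha : ∀ h : genericPoint Y ∈ V, Y.presheaf.germ V (genericPoint Y) h a =
      ffNorm π hη (X.presheaf.germ (π ⁻¹ᵁ V) (genericPoint X) (mem_preimage_of_mem π hη h) b)) :
    nrmFn π hη hY hV b = a := by
  by_cases h : genericPoint Y ∈ V
  · apply germ_injective_of_isIntegral Y (genericPoint Y) h
    rw [germ_nrmFn π hη hY hV h b, ha h]
  · haveI := subsingleton_of_notMem h
    exact Subsingleton.elim _ _

/-- the affine-local norm data of a finite surjective morphism onto a normal integral scheme. -/
noncomputable def affNormNormal : AffNorm π where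
  ν := fun V hV =>
    { toFun := nrmFn π hη hY hV
      map_one' := nrmFn_eq_of_germ π hη hY hV 1 1 fun h => by rw [map_one, map_one, map_one]
      map_mul' := fun s s' => nrmFn_eq_of_germ π hη hY hV _ _ fun h => by
        rw [map_mul, map_mul, map_mul, germ_nrmFn π hη hY hV h, germ_nrmFn π hη hY hV h] }
  basic := fun V hV a s => by
    symm
    refine nrmFn_eq_of_germ π hη hY (hV.basicOpen a) _ _ fun h => ?_
    have hV' : genericPoint Y ∈ V := Y.basicOpen_le a h
    have h1 : Y.presheaf.germ (Y.basicOpen a) (genericPoint Y) h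
        (rf (Y.basicOpen_le a) (nrmFn π hη hY hV s)) =
        Y.presheaf.germ V (genericPoint Y) hV' (nrmFn π hη hY hV s) :=
      TopCat.Presheaf.germ_res_apply Y.presheaf (homOfLE (Y.basicOpen_le a)) _ h _
    have h2 : X.presheaf.germ (π ⁻¹ᵁ Y.basicOpen a) (genericPoint X) (mem_preimage_of_mem π hη h)
        (rf (π.preimage_mono (Y.basicOpen_le a)) s) =
        X.presheaf.germ (π ⁻¹ᵁ V) (genericPoint X) (mem_preimage_of_mem π hη hV') s :=
      TopCat.Presheaf.germ_res_apply X.presheaf (homOfLE (π.preimage_mono (Y.basicOpen_le a))) _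
        (mem_preimage_of_mem π hη h) _
    change Y.presheaf.germ (Y.basicOpen a) (genericPoint Y) h
        (rf (Y.basicOpen_le a) (nrmFn π hη hY hV s)) = _
    rw [h1, h2, germ_nrmFn π hη hY hV hV']

include hY in
/-- **Stacks 0BD2**: a finite surjective morphism of integral schemes onto a normal scheme has a norm (of degree the
degree of the function field extension). -/
theorem hasNorm_of_normal : Nrm.HasNorm π (ffDeg π hη) := by
  -- the degree is positive
  have hpos : 1 ≤ ffDeg π hη := by
    obtain ⟨V, hV, hyV, -⟩ := Opens.isBasis_iff_nbhd.mp Y.isBasis_affineOpens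
      (show genericPoint Y ∈ (⊤ : Y.Opens) from trivial)
    exact (affine_facts π hη hY hV hyV).1
  refine (affNormNormal π hη hY).nonempty_normOfDegree (ffDeg π hη) hpos ?_ ?_
  · intro V hV g
    refine nrmFn_eq_of_germ π hη hY hV _ _ fun h => ?_
    rw [map_pow, ← ffNorm_ffMap π hη, ffMap_germ π hη V h g]
  · intro V hV s x hx hs
    have hgen : genericPoint Y ∈ V :=
      ((genericPoint_spec Y).mem_open_set_iff V.isOpen).mpr ⟨π.base x, trivial, hx⟩
    obtain ⟨y, hy⟩ := (affine_facts π hη hY hV hgen).2.2 s (nrmFn π hη hY hV s)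
      (germ_nrmFn π hη hY hV hgen s)
    change Y.presheaf.germ V (π.base x) hx (nrmFn π hη hY hV s) ∈ _
    rw [IsLocalRing.mem_maximalIdeal]
    intro hunit
    have h1 : IsUnit (π.stalkMap x (Y.presheaf.germ V (π.base x) hx (nrmFn π hη hY hV s))) :=
      hunit.map (π.stalkMap x).hom
    rw [Scheme.Hom.germ_stalkMap_apply] at h1
    have h2 : π.app V (nrmFn π hη hY hV s) = s * y := hy
    rw [h2, map_mul] at h1
    exact (IsLocalRing.mem_maximalIdeal _).mp hs (isUnit_of_mul_isUnit_left h1)

end Groth.Agent.Lib.Helper12.NormFn
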