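import Mathlib
import Groth.Agent.Lib.Helper12.NormSec5
import Groth.Agent.Lib.Helper16.FLF2
import Groth.Agent.Lib.Helper12.AmpleAvoid2
import Groth.Agent.Lib.Helper12.PullAmple

/-!
# Descent of ampleness along finite locally free covers (helper12), part 6 of the norm construction

* `preimage_basicOpen_nm_le`, `mem_basicOpen_nm`: the zero locus of the norm of a function.
* `exists_chart`: charts for the norm construction.
* `exists_norm_genLocus`: the norm `t` of a section `σ` of `g^* M`, with `X_t = {x | g⁻¹(x) ⊆ X'_σ}`.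
* `isAmple_of_isAmple_pullback`: if `g` is finite surjective with `g_* O` finite locally free, `X` quasi-compact and
  `g^* L` ample, then `L` is ample (EGA II 6.6.2, absolute case).
-/

set_option autoImplicit false
set_option linter.style.haveILetI false
universe u
open CategoryTheory AlgebraicGeometry Opposite TopologicalSpace
open Scheme.Modules
namespace Groth.Agent.Lib.Helper12.NormSec
open Groth.Agent.Lib.helper11.InvMod Groth.Agent.Lib.helper11.GenLocus
open Groth.Agent.Lib.helper28.FinProjCharpoly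
open Groth.Agent.Lib.helper16.FLF
open Groth.Agent.Lib.helper12.AmpleBasis Groth.Agent.Lib.helper12.AmpleBasis2
open Groth.Agent.Lib.helper12.AmplePow Groth.Agent.Lib.helper12.TensorInv
open Groth.Agent.Lib.helper11.IsoLocus Groth.Agent.Lib.helper12.PullAmple
open Groth.Agent.Lib.Helper12.AmpleAvoid

variable {X' X : Scheme.{u}} (g : X' ⟶ X)

theorem mem_basicOpen_iff_notMem_primeIdealOf {U : X.Opens} (hU : IsAffineOpen U) (a : Γ(X, U))
    (y : PrimeSpectrum Γ(X, U)) : hU.fromSpec y ∈ X.basicOpen a ↔ a ∉ y.asIdeal := by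
  have h1 : hU.fromSpec y ∈ X.basicOpen a ↔ y ∈ hU.fromSpec ⁻¹ᵁ X.basicOpen a := Iff.rfl
  rw [h1, hU.fromSpec_preimage_basicOpen]
  rfl

/-- (b) `g⁻¹ (D(Nm b)) ⊆ D(b)`. -/
theorem preimage_basicOpen_nm_le {U : X.Opens} {n : ℕ} (D : DualBasis (g.app U).hom n)
    (b : Γ(X', g ⁻¹ᵁ U)) : g ⁻¹ᵁ X.basicOpen (D.nm b) ≤ X'.basicOpen b := by
  rw [Scheme.preimage_basicOpen]
  obtain ⟨y, hy⟩ := D.dvd_nm b
  have : X'.basicOpen (g.app U (D.nm b)) = X'.basicOpen (b * y) := congrArg _ hy.symm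
  rw [this, Scheme.basicOpen_mul]
  exact inf_le_left

/-- (a) if the whole fibre over `x ∈ U` lies in `D(b)` then `x ∈ D(Nm b)`. -/
theorem mem_basicOpen_nm [IsAffineHom g] {U : X.Opens} (hU : IsAffineOpen U) {n : ℕ}
    (D : DualBasis (g.app U).hom n) (b : Γ(X', g ⁻¹ᵁ U)) (x : X) (hx : x ∈ U)
    (hfib : ∀ x' : X', g x' = x → x' ∈ X'.basicOpen b) : x ∈ X.basicOpen (D.nm b) := by
  have hV : IsAffineOpen (g ⁻¹ᵁ U) := hU.preimage g
  by_contra hcon
  have hx' : hU.fromSpec (hU.primeIdealOf ⟨x, hx⟩) = x := hU.fromSpec_primeIdealOf ⟨x, hx⟩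
  rw [← hx', mem_basicOpen_iff_notMem_primeIdealOf, not_not] at hcon
  obtain ⟨𝔮, h𝔮, hc, hb⟩ := (D.nm_mem_iff b (hU.primeIdealOf ⟨x, hx⟩).asIdeal).mp hcon
  let q : PrimeSpectrum Γ(X', g ⁻¹ᵁ U) := ⟨𝔮, h𝔮⟩
  have h1 : g (hV.fromSpec q) = x := by
    have h2 := IsAffineOpen.SpecMap_appLE_fromSpec g hU hV le_rfl
    have h3 : g (hV.fromSpec q) = (hV.fromSpec ≫ g) q := rfl
    rw [h3, ← h2, ← hx']
    change hU.fromSpec (Spec.map (g.appLE U (g ⁻¹ᵁ U) le_rfl) q) = _
    congr 1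
    apply PrimeSpectrum.ext
    rw [← hc]
    rw [← Scheme.Hom.app_eq_appLE]
    rfl
  have h4 := hfib _ h1
  rw [mem_basicOpen_iff_notMem_primeIdealOf] at h4
  exact h4 hb

/-- **Charts**: around every point there is an affine open trivialising `M` over which `g_* O` is free. -/
theorem exists_chart [Surjective g]
    (hfree : FlatMod.IsFinLocFree ((Scheme.Modules.pushforward g).obj (Coh.structureModule X')))
    {M : X.Modules} (hM : PicF.IsInvertible M) (x : X) :
    ∃ (U : X.Opens) (_ : IsAffineOpen U) (_ : x ∈ U) (_ : IsTrivOn M U) (ε : Γ(M, U))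
      (_ : IsGen M U ε) (n : ℕ) (_ : 0 < n) (D : DualBasis (g.app U).hom n), D.mat 1 = 1 := by
  obtain ⟨U₁, n, hx₁, ⟨iso⟩⟩ := hfree x
  obtain ⟨U₂, hx₂, hT₂⟩ := hM x
  obtain ⟨V, hV, hxV, hVle⟩ := (Opens.isBasis_iff_nbhd.mp X.isBasis_affineOpens)
    (show x ∈ (U₁ ⊓ U₂ : X.Opens) from ⟨hx₁, hx₂⟩)
  obtain ⟨iso'⟩ := restrict_iso_freeMod_of_le _ (hVle.trans inf_le_left) n iso
  obtain ⟨φ₀⟩ := sections_of_restrict_iso_freeMod _ hV n iso'
  have hT : IsTrivOn M V := IsTrivOn.of_le (hVle.trans inf_le_right) hT₂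
  obtain ⟨ε, hε⟩ := exists_isGen_of_isTrivOn hT (le_refl V)
  letI : Algebra Γ(X, V) Γ(X', g ⁻¹ᵁ V) := (g.app V).hom.toAlgebra
  let e : Γ(X', g ⁻¹ᵁ V) ≃ₗ[Γ(X, V)]
      Γ((Scheme.Modules.pushforward g).obj (Coh.structureModule X'), V) :=
    { toFun := fun m => m
      invFun := fun m => m
      map_add' := fun _ _ => rfl
      map_smul' := fun _ _ => rfl
      left_inv := fun _ => rfl
      right_inv := fun _ => rfl }
  obtain ⟨D, hD⟩ := exists_dualBasis_of_equiv (g.app V).hom n (e.trans φ₀)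
  refine ⟨V, hV, hxV, hT, ε, hε, n, ?_, D, hD⟩
  rcases Nat.eq_zero_or_pos n with h0 | h0
  · exfalso
    subst h0
    obtain ⟨x', hx'⟩ := Surjective.surj (f := g) x
    haveI : Nonempty (↑(g ⁻¹ᵁ V) : Scheme.{u}) :=
      ⟨⟨x', by change g x' ∈ V; rw [hx']; exact hxV⟩⟩
    haveI : Nontrivial Γ(X', g ⁻¹ᵁ V) := Scheme.component_nontrivial X' (g ⁻¹ᵁ V)
    have h1 : (1 : Γ(X', g ⁻¹ᵁ V)) = 0 := by
      apply (e.trans φ₀).injective
      exact Subsingleton.elim _ _
    exact one_ne_zero h1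
  · exact h0

/-- **Norm of a section**: for `g` finite surjective with `g_* O` finite locally free and `M` invertible on
the quasi-compact `X`, every section `σ` of `g^* M` has a "norm" `t`, a section of a positive power of `M`,
with `X_t = {x | g⁻¹(x) ⊆ X'_σ}`. -/
theorem exists_norm_genLocus [CompactSpace X] [IsAffineHom g] [Surjective g]
    (hfree : FlatMod.IsFinLocFree ((Scheme.Modules.pushforward g).obj (Coh.structureModule X')))
    {M : X.Modules} (hM : PicF.IsInvertible M)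
    (σ : Coh.structureModule X' ⟶ (Scheme.Modules.pullback g).obj M) :
    ∃ (R : ℕ) (_ : 0 < R) (t : Coh.structureModule X ⟶ CohB1.tensorPow M R),
      (∀ x : X, (∀ x' : X', g x' = x → x' ∈ CohB1.genLocus _ σ) → x ∈ CohB1.genLocus _ t) ∧
      g ⁻¹ᵁ (CohB1.genLocus _ t) ≤ CohB1.genLocus _ σ := by
  classical
  choose U hU hxU hT ε hε n hn D o using exists_chart g hfree hM
  obtain ⟨s, hs⟩ := isCompact_univ.elim_finite_subcover
    (fun x : X => ((U x : X.Opens) : Set X)) (fun x => (U x).isOpen)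
    (fun x _ => Set.mem_iUnion.mpr ⟨x, hxU x⟩)
  have hcov : (⊤ : X.Opens) ≤ ⨆ i : ↥s, U i.1 := by
    intro y _
    obtain ⟨i, hi⟩ := Set.mem_iUnion.mp (hs (Set.mem_univ y))
    obtain ⟨his, hyi⟩ := Set.mem_iUnion.mp hi
    exact Opens.mem_iSup.mpr ⟨⟨i, his⟩, hyi⟩
  obtain ⟨R, hR, t, ht⟩ := exists_norm_section g M (fun i : ↥s => U i.1) hcov (fun i => hU i.1)
    (fun i => hT i.1) (fun i => ε i.1) (fun i => hε i.1) (fun i => n i.1) (fun i => hn i.1)
    (fun i => D i.1) (fun i => o i.1) σ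
  have hMR : PicF.IsInvertible (CohB1.tensorPow M R) := isInvertible_tensorPow hM R
  -- local descriptions of the two loci
  have key : ∀ i : ↥s, ∃ b : Γ(X', g ⁻¹ᵁ (U i.1)),
      CohB1.genLocus _ σ ⊓ g ⁻¹ᵁ (U i.1) = X'.basicOpen b ∧
      CohB1.genLocus _ t ⊓ U i.1 = X.basicOpen ((D i.1).nm b) := by
    intro i
    obtain ⟨K, hK, b, hb1, hb2⟩ := ht i
    refine ⟨b, ?_, ?_⟩
    · exact genLocus_inf_eq_basicOpen_of_isGen σ _
        (isGen_eta g (hT i.1) le_rfl (ε i.1) (hε i.1)) b hb1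
    · have hb := hε i.1 _ le_rfl
      rw [rs_self] at hb
      rw [genLocus_inf_eq_basicOpen_of_isGen t _
        (isGen_lpow hM (hU i.1) (hT i.1) (ε i.1) hb R) _ hb2]
      exact Scheme.basicOpen_pow _ _ hK
  refine ⟨R, hR, t, ?_, ?_⟩
  · intro x hx
    obtain ⟨i, hi⟩ := Opens.mem_iSup.mp (hcov (show x ∈ (⊤ : X.Opens) from trivial))
    obtain ⟨b, hb1, hb2⟩ := key i
    have : x ∈ X.basicOpen ((D i.1).nm b) := by
      refine mem_basicOpen_nm g (hU i.1) (D i.1) b x hi fun x' hx' => ?_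
      rw [← hb1]
      exact ⟨hx x' hx', by change g x' ∈ U i.1; rw [hx']; exact hi⟩
    rw [← hb2] at this
    exact this.1
  · intro y' hy'
    have hy : g y' ∈ CohB1.genLocus _ t := hy'
    obtain ⟨i, hi⟩ := Opens.mem_iSup.mp (hcov (show g y' ∈ (⊤ : X.Opens) from trivial))
    obtain ⟨b, hb1, hb2⟩ := key i
    have h1 : g y' ∈ X.basicOpen ((D i.1).nm b) := by
      rw [← hb2]
      exact ⟨hy, hi⟩
    have h2 : y' ∈ X'.basicOpen b := preimage_basicOpen_nm_le g (D i.1) b h1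
    rw [← hb1] at h2
    exact h2.1

/-- **EGA II 6.6.2-type descent of ampleness (absolute case)**: if `g : X' ⟶ X` is finite surjective with
`g_* O_{X'}` finite locally free, `X` quasi-compact, and `g^* L` is ample, then `L` is ample. -/
theorem isAmple_of_isAmple_pullback [CompactSpace X] [IsFinite g] [Surjective g]
    (hfree : FlatMod.IsFinLocFree ((Scheme.Modules.pushforward g).obj (Coh.structureModule X')))
    {L : X.Modules} (hL : PicF.IsInvertible L)
    (h : CohB1.IsAmple ((Scheme.Modules.pullback g).obj L)) : CohB1.IsAmple L := by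
  rw [isAmple_iff_isBasis hL, Opens.isBasis_iff_nbhd]
  intro W x hxW
  have hfin : (g ⁻¹' {x}).Finite := g.finite_preimage_singleton x
  obtain ⟨k, σ', -, hσW, hTσ⟩ := exists_section_of_finite h (g ⁻¹ᵁ W) (g ⁻¹' {x}) hfin (by
    intro x' hx'
    change g x' ∈ W
    rw [show g x' = x from hx']
    exact hxW)
  have hM := isInvertible_tensorPow hL (k + 1)
  let φ := pullTensorPowIso g hL (k + 1)
  have hσ : CohB1.genLocus _ (σ' ≫ φ.inv) = CohB1.genLocus _ σ' := genLocus_comp_iso σ' φ.symm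
  obtain ⟨R, hR, t, ht1, ht2⟩ := exists_norm_genLocus g hfree hM (σ' ≫ φ.inv)
  refine ⟨CohB1.genLocus _ t, ?_, ?_, ?_⟩
  · apply genLocusFamily_tensorPow_subset L (k + 1) (Nat.succ_pos k)
    have heq : R = (R - 1) + 1 := (Nat.sub_add_cancel hR).symm
    exact ⟨R - 1, castSec heq t, (genLocus_castSec heq t).symm⟩
  · refine ht1 x (fun x' hx' => ?_)
    rw [hσ]
    exact hTσ hx'
  · intro y hy
    obtain ⟨y', hy'⟩ := Surjective.surj (f := g) y
    have h1 : y' ∈ g ⁻¹ᵁ (CohB1.genLocus _ t) := by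
      change g y' ∈ CohB1.genLocus _ t
      rw [hy']
      exact hy
    have h2 := ht2 h1
    rw [hσ] at h2
    have h3 : g y' ∈ W := hσW h2
    rwa [hy'] at h3

end Groth.Agent.Lib.Helper12.NormSec
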