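import Mathlib
import Groth.Agent.Lib.Helper12.NormInv3
import Groth.Agent.Lib.Helper12.NormFn2
import Groth.Agent.Lib.Helper12.NormSec6
import Groth.Agent.Lib.Helper16.FLF2

/-!
# The norm of an invertible module (helper12), part 4: finite locally free morphisms have norms

* `PreNorm.ofAffNorm`: affine-local norm data (`NormFn.AffNorm`) with `π⁻¹ D(ν s) ⊆ D(s)` glue to a `PreNorm`.
* `PreNorm.ofFinLocFree`: the norm of a finite flat finitely presented morphism (rank may vary).
* `flat_and_lfp_of_isFinLocFree_push`: an affine morphism `g` with `g_* O` finite locally free is flat and locally of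
  finite presentation.
-/

set_option autoImplicit false
set_option linter.style.haveILetI false
universe u
open CategoryTheory AlgebraicGeometry Opposite TopologicalSpace
open Scheme.Modules

namespace Groth.Agent.Lib.helper12.NormInv

open Groth.Agent.Lib.Helper12.NormSec Groth.Agent.Lib.Helper12.NormFn
open Groth.Agent.Lib.helper16.FLF Groth.Agent.Lib.helper28.FinProjCharpoly

variable {X Y : Scheme.{u}}

/-- affine-local norm data glue to a norm without degree. -/
noncomputable def PreNorm.ofAffNorm {π : X ⟶ Y} (N : AffNorm π)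
    (hb : ∀ (V : Y.Opens) (hV : IsAffineOpen V) (s : Γ(X, π ⁻¹ᵁ V)),
      π ⁻¹ᵁ Y.basicOpen (N.ν V hV s) ≤ X.basicOpen s) : PreNorm π where
  norm := N.glueHom
  norm_res := fun h s => N.glueHom_res h s
  norm_basicOpen := fun U s x hx => by
    have hxU : π.base x ∈ U := Y.basicOpen_le _ hx
    obtain ⟨V, hV, hxV, hVU⟩ := Opens.isBasis_iff_nbhd.mp Y.isBasis_affineOpens hxU
    have h1 : π.base x ∈ Y.basicOpen (rf hVU (N.glueHom U s)) := by
      unfold rf
      rw [Scheme.basicOpen_res]
      exact ⟨hxV, hx⟩
    have h2 : rf hVU (N.glueHom U s) = N.ν V hV (rf (π.preimage_mono hVU) s) :=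
      N.glue_spec U s V hV hVU
    rw [h2] at h1
    have h3 : x ∈ X.basicOpen (rf (π.preimage_mono hVU) s) := hb V hV _ h1
    unfold rf at h3
    rw [Scheme.basicOpen_res] at h3
    exact h3.2

/-- **the norm of a finite locally free morphism** (as a norm without degree; the rank may vary). -/
noncomputable def PreNorm.ofFinLocFree (π : X ⟶ Y) [IsFinite π] [Flat π]
    [LocallyOfFinitePresentation π] : PreNorm π :=
  PreNorm.ofAffNorm (affNormOfFinLocFree π) (fun _ hV s =>
    preimage_basicOpen_nm_le π (exists_dualBasis_of_finLocFree π hV).choose_spec.some s)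

/-- an affine morphism `g` with `g_* O` finite locally free is flat and locally of finite presentation. -/
theorem flat_and_lfp_of_isFinLocFree_push (g : X ⟶ Y) [IsAffineHom g]
    (hfree : FlatMod.IsFinLocFree ((Scheme.Modules.pushforward g).obj (Coh.structureModule X))) :
    Flat g ∧ LocallyOfFinitePresentation g := by
  have key : ∀ x : X, ∃ (U : Y.affineOpens) (V : X.affineOpens) (_ : x ∈ V.1)
      (e : V.1 ≤ g ⁻¹ᵁ U.1), (g.appLE U.1 V.1 e).hom.Flat ∧
        (g.appLE U.1 V.1 e).hom.FinitePresentation := by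
    intro x
    obtain ⟨U, n, hU, hxU, -, ⟨φ₀⟩⟩ := exists_affine_free_sections_of_isFinLocFree _ hfree (g x)
    refine ⟨⟨U, hU⟩, ⟨g ⁻¹ᵁ U, hU.preimage g⟩, hxU, le_rfl, ?_⟩
    rw [← Scheme.Hom.app_eq_appLE]
    letI : Algebra Γ(Y, U) Γ(X, g ⁻¹ᵁ U) := (g.app U).hom.toAlgebra
    let e : Γ(X, g ⁻¹ᵁ U) ≃ₗ[Γ(Y, U)]
        Γ((Scheme.Modules.pushforward g).obj (Coh.structureModule X), U) :=
      { toFun := fun m => m
        invFun := fun m => m
        map_add' := fun _ _ => rfl
        map_smul' := fun _ _ => rfl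
        left_inv := fun _ => rfl
        right_inv := fun _ => rfl }
    let E := e.trans φ₀
    haveI : Module.Free Γ(Y, U) Γ(X, g ⁻¹ᵁ U) := Module.Free.of_equiv E.symm
    haveI : Module.Finite Γ(Y, U) Γ(X, g ⁻¹ᵁ U) := Module.Finite.equiv E.symm
    haveI : Module.FinitePresentation Γ(Y, U) Γ(X, g ⁻¹ᵁ U) :=
      Module.finitePresentation_of_projective _ _
    constructor
    · exact (inferInstance : Module.Flat Γ(Y, U) Γ(X, g ⁻¹ᵁ U))
    · exact (inferInstance : Algebra.FinitePresentation Γ(Y, U) Γ(X, g ⁻¹ᵁ U))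
  constructor
  · rw [HasRingHomProperty.iff_exists_appLE (P := @Flat)
      (RingHom.Flat.stableUnderComposition.stableUnderCompositionWithLocalizationAway
        RingHom.Flat.holdsForLocalizationAway).left]
    intro x
    obtain ⟨U, V, hx, e, h1, -⟩ := key x
    exact ⟨U, V, hx, e, h1⟩
  · rw [HasRingHomProperty.iff_exists_appLE (P := @LocallyOfFinitePresentation)
      (RingHom.finitePresentation_stableUnderComposition.stableUnderCompositionWithLocalizationAway
        RingHom.finitePresentation_holdsForLocalizationAway).left]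
    intro x
    obtain ⟨U, V, hx, e, -, h2⟩ := key x
    exact ⟨U, V, hx, e, h2⟩

end Groth.Agent.Lib.helper12.NormInv
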