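import Mathlib
import Groth.Agent.Lib.Helper12.NormInv3

/-!
# The norm of an invertible module (helper12), part 5: restriction to open subschemes

For `π : X ⟶ Y` with a norm `Nr`, an open `O ⊆ Y`, and norm data `(U a, e a, N, n a)` for an invertible module `L` on `X`
whose opens `U a` form a basis of `Y`:
* `image_basicOpen_ι`, `isGen_restrict`: basic opens and generators on open subschemes.
* `PreNorm.restrict`: the norm of `π ∣_ O`.
* `isAmple_restrict_of_normData`: if `L|_{π⁻¹ O}` is ample then `N|_O` is ample.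
-/

set_option autoImplicit false
set_option linter.style.haveILetI false
universe u
open CategoryTheory AlgebraicGeometry Opposite TopologicalSpace
open Scheme.Modules

namespace Groth.Agent.Lib.helper12.NormInv

open Groth.Agent.Lib.Helper12.NormSec Groth.Agent.Lib.Helper18.PicGlue
open Groth.Agent.Lib.helper11.InvMod

variable {X Y : Scheme.{u}}

/-- basic opens of an open subscheme. -/
theorem image_basicOpen_ι (O : Y.Opens) {W : (↑O : Scheme.{u}).Opens} (r : Γ(↑O, W)) :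
    O.ι ''ᵁ (↑O : Scheme.{u}).basicOpen r = Y.basicOpen (castX r) := by
  rw [Scheme.image_basicOpen, Scheme.Opens.ι_appIso]
  rfl

theorem image_preimage_of_le {O U : Y.Opens} (h : U ≤ O) : O.ι ''ᵁ (O.ι ⁻¹ᵁ U) = U := by
  rw [Scheme.Hom.image_preimage_eq_opensRange_inf, Scheme.Opens.opensRange_ι]
  exact inf_eq_right.mpr h

/-- restriction in an open subscheme is restriction in the ambient scheme. -/
theorem rs_restrict (H : Y.Modules) (O : Y.Opens) {W' W : (↑O : Scheme.{u}).Opens} (h : W' ≤ W)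
    (m : Γ(H.restrict O.ι, W)) :
    castH H (rs (H.restrict O.ι) h m) = rs H (O.ι.image_mono h) (castH H m) := rfl

theorem rf_restrict (O : Y.Opens) {W' W : (↑O : Scheme.{u}).Opens} (h : W' ≤ W) (a : Γ(↑O, W)) :
    castX (rf h a) = rf (O.ι.image_mono h) (castX a) := rfl

/-- a generator of `H` over `U` restricts to a generator of `H|_O` over any open of `O` whose image lies in `U`. -/
theorem isGen_restrict {H : Y.Modules} {U : Y.Opens} {γ : Γ(H, U)} (hγ : IsGen H U γ) (O : Y.Opens)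
    (V' : (↑O : Scheme.{u}).Opens) (h : O.ι ''ᵁ V' ≤ U) :
    IsGen (H.restrict O.ι) V' (rs H h γ : Γ(H, O.ι ''ᵁ V')) := by
  intro W hW
  have hle : O.ι ''ᵁ W ≤ U := (O.ι.image_mono hW).trans h
  have hb := hγ (O.ι ''ᵁ W) hle
  have key : ∀ a : Γ(↑O, W), castH H (a • rs (H.restrict O.ι) hW (rs H h γ : Γ(H, O.ι ''ᵁ V'))) =
      castX a • rs H hle γ := by
    intro a
    rw [restrict_smul, rs_restrict]
    congr 1
    exact rs_rs H h (O.ι.image_mono hW) γ
  constructor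
  · intro a b hab
    have h1 : castX a • rs H hle γ = castX b • rs H hle γ := by
      rw [← key a, ← key b]
      exact congrArg (castH H) hab
    exact hb.1 h1
  · intro m
    obtain ⟨a', ha'⟩ := hb.2 (castH H m)
    refine ⟨castU a', ?_⟩
    have h2 := key (castU a')
    exact h2.trans ha'

section Restrict

variable {π : X ⟶ Y} (Nr : PreNorm π) (O : Y.Opens)

/-- **the norm of the restriction `π ∣_ O`**. -/
noncomputable def PreNorm.restrict : PreNorm (π ∣_ O) where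
  norm := fun W =>
    ((Nr.norm (O.ι ''ᵁ W)).comp
      ((X.presheaf.map (homOfLE (image_morphismRestrict_preimage π O W).ge).op).hom :
        Γ(X, (π ⁻¹ᵁ O).ι ''ᵁ ((π ∣_ O) ⁻¹ᵁ W)) →+* Γ(X, π ⁻¹ᵁ (O.ι ''ᵁ W))).toMonoidHom :
      Γ(X, (π ⁻¹ᵁ O).ι ''ᵁ ((π ∣_ O) ⁻¹ᵁ W)) →* Γ(Y, O.ι ''ᵁ W))
  norm_res := fun {W W'} h s => by
    change rf (O.ι.image_mono h) (Nr.norm (O.ι ''ᵁ W)
        (rf (image_morphismRestrict_preimage π O W).ge (castX s))) =
      Nr.norm (O.ι ''ᵁ W') (rf (image_morphismRestrict_preimage π O W').ge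
        (rf ((π ⁻¹ᵁ O).ι.image_mono ((π ∣_ O).preimage_mono h)) (castX s)))
    rw [Nr.norm_res, rf_rf, rf_rf]
  norm_basicOpen := fun W s x hx => by
    have h1 : O.ι ((π ∣_ O) x) ∈ O.ι ''ᵁ (↑O : Scheme.{u}).basicOpen
        (Nr.norm (O.ι ''ᵁ W) (rf (image_morphismRestrict_preimage π O W).ge (castX s)) :
          Γ(↑O, W)) := ⟨_, hx, rfl⟩
    rw [image_basicOpen_ι] at h1
    have h2 : O.ι ((π ∣_ O) x) = π ((π ⁻¹ᵁ O).ι x) := by
      rw [← Scheme.Hom.comp_apply, morphismRestrict_ι, Scheme.Hom.comp_apply]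
    rw [h2] at h1
    have h3 := Nr.norm_basicOpen _ _ h1
    unfold rf at h3
    rw [Scheme.basicOpen_res] at h3
    have h4 : (π ⁻¹ᵁ O).ι x ∈ (π ⁻¹ᵁ O).ι ''ᵁ (↑(π ⁻¹ᵁ O) : Scheme.{u}).basicOpen s := by
      rw [image_basicOpen_ι]
      exact h3.2
    obtain ⟨x', hx', hxx'⟩ := h4
    have : x' = x := (π ⁻¹ᵁ O).ι.isOpenEmbedding.injective hxx'
    rw [← this]
    exact hx'

theorem PreNorm.restrict_norm_apply (W : (↑O : Scheme.{u}).Opens)
    (s : Γ(↑(π ⁻¹ᵁ O), (π ∣_ O) ⁻¹ᵁ W)) :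
    castX ((Nr.restrict O).norm W s) =
      Nr.norm (O.ι ''ᵁ W) (rf (image_morphismRestrict_preimage π O W).ge (castX s)) := rfl

end Restrict

section Charts

variable {π : X ⟶ Y} (Nr : PreNorm π) {L : X.Modules} {ι : Type u} (U : ι → Y.Opens)
  (e : ∀ a, Γ(L, π ⁻¹ᵁ U a)) (he : ∀ a, IsGen L (π ⁻¹ᵁ U a) (e a)) (O : Y.Opens)

/-- the restricted cover, indexed by the `a` with `U a ≤ O`. -/
def UO (a : {a : ι // U a ≤ O}) : (↑O : Scheme.{u}).Opens := O.ι ⁻¹ᵁ U a.1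

theorem image_UO (a : {a : ι // U a ≤ O}) : O.ι ''ᵁ (UO U O a) = U a.1 :=
  image_preimage_of_le a.2

theorem image_preimage_UO (a : {a : ι // U a ≤ O}) :
    (π ⁻¹ᵁ O).ι ''ᵁ ((π ∣_ O) ⁻¹ᵁ UO U O a) = π ⁻¹ᵁ U a.1 := by
  rw [image_morphismRestrict_preimage, image_UO]

theorem image_inf_UO_le (a b : {a : ι // U a ≤ O}) :
    O.ι ''ᵁ (UO U O a ⊓ UO U O b) ≤ U a.1 ⊓ U b.1 :=
  le_inf ((O.ι.image_mono inf_le_left).trans (image_UO U O a).le)
    ((O.ι.image_mono inf_le_right).trans (image_UO U O b).le)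

theorem image_preimage_inf_UO_le (a b : {a : ι // U a ≤ O}) :
    (π ⁻¹ᵁ O).ι ''ᵁ ((π ∣_ O) ⁻¹ᵁ (UO U O a ⊓ UO U O b)) ≤ π ⁻¹ᵁ (U a.1 ⊓ U b.1) := by
  rw [image_morphismRestrict_preimage]
  exact π.preimage_mono (image_inf_UO_le U O a b)

/-- the restricted generators of `L`. -/
noncomputable def eO (a : {a : ι // U a ≤ O}) :
    Γ(L.restrict (π ⁻¹ᵁ O).ι, (π ∣_ O) ⁻¹ᵁ UO U O a) :=
  (rs L (image_preimage_UO U O a).le (e a.1) :
    Γ(L, (π ⁻¹ᵁ O).ι ''ᵁ ((π ∣_ O) ⁻¹ᵁ UO U O a)))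

include he in
theorem isGen_eO (a : {a : ι // U a ≤ O}) :
    IsGen (L.restrict (π ⁻¹ᵁ O).ι) ((π ∣_ O) ⁻¹ᵁ UO U O a) (eO U e O a) :=
  isGen_restrict (he a.1) (π ⁻¹ᵁ O) _ (image_preimage_UO U O a).le

theorem castH_rs_eO (a : {a : ι // U a ≤ O}) {W : (↑(π ⁻¹ᵁ O) : Scheme.{u}).Opens}
    (h : W ≤ (π ∣_ O) ⁻¹ᵁ UO U O a) :
    castH L (rs (L.restrict (π ⁻¹ᵁ O).ι) h (eO U e O a)) =
      rs L (((π ⁻¹ᵁ O).ι.image_mono h).trans (image_preimage_UO U O a).le) (e a.1) := by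
  rw [rs_restrict]
  exact rs_rs L _ _ (e a.1)

/-- the transition functions of the restricted generators are the restrictions of the transition functions. -/
theorem tr_restrict (a b : {a : ι // U a ≤ O}) :
    castX (tr (π ∣_ O) (UO U O) (eO U e O) (isGen_eO U e he O) a b (UO U O a ⊓ UO U O b)
        inf_le_left inf_le_right) =
      rf (image_preimage_inf_UO_le U O a b)
        (tr π U e he a.1 b.1 (U a.1 ⊓ U b.1) inf_le_left inf_le_right) := by
  have h1 := congrArg (rs L (image_preimage_inf_UO_le U O a b))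
    (tr_spec π U e he a.1 b.1 (U a.1 ⊓ U b.1) inf_le_left inf_le_right)
  rw [rs_smul, rs_rs, rs_rs] at h1
  symm
  refine congrArg castX (tr_unique (π ∣_ O) (UO U O) (eO U e O) (isGen_eO U e he O) a b
    (UO U O a ⊓ UO U O b) inf_le_left inf_le_right
    (castU (rf (image_preimage_inf_UO_le U O a b)
      (tr π U e he a.1 b.1 (U a.1 ⊓ U b.1) inf_le_left inf_le_right))) ?_)
  have h2 := restrict_smul L (π ⁻¹ᵁ O) _
    (castU (rf (image_preimage_inf_UO_le U O a b)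
      (tr π U e he a.1 b.1 (U a.1 ⊓ U b.1) inf_le_left inf_le_right)))
    (rs (L.restrict (π ⁻¹ᵁ O).ι) ((π ∣_ O).preimage_mono
      (inf_le_right : UO U O a ⊓ UO U O b ≤ UO U O b)) (eO U e O b))
  rw [castH_rs_eO] at h2
  have h3 := castH_rs_eO U e O a ((π ∣_ O).preimage_mono
      (inf_le_left : UO U O a ⊓ UO U O b ≤ UO U O a))
  exact h2.trans (h1.trans h3.symm)

/-- the norm cocycle of the restricted data is the restriction of the norm cocycle. -/
theorem etaN_restrict (a b : {a : ι // U a ≤ O}) :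
    castX (((etaN (Nr.restrict O) (UO U O) (eO U e O) (isGen_eO U e he O) a b :
        (Γ(↑O, UO U O a ⊓ UO U O b))ˣ) : Γ(↑O, UO U O a ⊓ UO U O b))) =
      rf (image_inf_UO_le U O a b)
        ((etaN Nr U e he a.1 b.1 : (Γ(Y, U a.1 ⊓ U b.1))ˣ) : Γ(Y, U a.1 ⊓ U b.1)) := by
  rw [etaN_val, etaN_val, Nr.norm_res (image_inf_UO_le U O a b), PreNorm.restrict_norm_apply,
    tr_restrict, rf_rf]

variable {N : Y.Modules} (n : ∀ a, Γ(N, U a))

/-- the restricted generators of `N`. -/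
noncomputable def nO (a : {a : ι // U a ≤ O}) : Γ(N.restrict O.ι, UO U O a) :=
  (rs N (image_UO U O a).le (n a.1) : Γ(N, O.ι ''ᵁ (UO U O a)))

theorem isGen_nO (hn : ∀ a, IsGen N (U a) (n a)) (a : {a : ι // U a ≤ O}) :
    IsGen (N.restrict O.ι) (UO U O a) (nO U O n a) :=
  isGen_restrict (hn a.1) O _ (image_UO U O a).le

theorem castH_rs_nO (a : {a : ι // U a ≤ O}) {W : (↑O : Scheme.{u}).Opens}
    (h : W ≤ UO U O a) :
    castH N (rs (N.restrict O.ι) h (nO U O n a)) =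
      rs N ((O.ι.image_mono h).trans (image_UO U O a).le) (n a.1) := by
  rw [rs_restrict]
  exact rs_rs N _ _ (n a.1)

theorem hrel_restrict
    (hrel : ∀ a b, rs N (inf_le_left : U a ⊓ U b ≤ U a) (n a) =
        ((etaN Nr U e he a b : (Γ(Y, U a ⊓ U b))ˣ) : Γ(Y, U a ⊓ U b)) •
          rs N (inf_le_right : U a ⊓ U b ≤ U b) (n b)) (a b : {a : ι // U a ≤ O}) :
    rs (N.restrict O.ι) (inf_le_left : UO U O a ⊓ UO U O b ≤ UO U O a) (nO U O n a) =
      ((etaN (Nr.restrict O) (UO U O) (eO U e O) (isGen_eO U e he O) a b :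
        (Γ(↑O, UO U O a ⊓ UO U O b))ˣ) : Γ(↑O, UO U O a ⊓ UO U O b)) •
        rs (N.restrict O.ι) (inf_le_right : UO U O a ⊓ UO U O b ≤ UO U O b) (nO U O n b) := by
  have h1 := congrArg (rs N (image_inf_UO_le U O a b)) (hrel a.1 b.1)
  rw [rs_smul, rs_rs, rs_rs] at h1
  have h2 := restrict_smul N O _
    ((etaN (Nr.restrict O) (UO U O) (eO U e O) (isGen_eO U e he O) a b :
        (Γ(↑O, UO U O a ⊓ UO U O b))ˣ) : Γ(↑O, UO U O a ⊓ UO U O b))
    (rs (N.restrict O.ι) (inf_le_right : UO U O a ⊓ UO U O b ≤ UO U O b) (nO U O n b))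
  rw [castH_rs_nO, etaN_restrict Nr U e he O a b] at h2
  have h3 := castH_rs_nO U O n a (inf_le_left : UO U O a ⊓ UO U O b ≤ UO U O a)
  exact (h3.trans h1).trans h2.symm

end Charts

/-- **restriction of the norm construction to opens of the base**: for norm data whose opens `U a` form a basis of
`Y`, if `L|_{π⁻¹ O}` is ample then `N|_O` is ample. -/
theorem isAmple_restrict_of_normData (π : X ⟶ Y) [IsFinite π] (hsurj : Function.Surjective π)
    (Nr : PreNorm π) {L : X.Modules} {ι : Type u} (U : ι → Y.Opens)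
    (hUa : ∀ a, IsAffineOpen (U a))
    (hbasis : ∀ (O : Y.Opens) (y : Y), y ∈ O → ∃ a, y ∈ U a ∧ U a ≤ O)
    (e : ∀ a, Γ(L, π ⁻¹ᵁ U a)) (he : ∀ a, IsGen L (π ⁻¹ᵁ U a) (e a))
    {N : Y.Modules} (hN : PicF.IsInvertible N) (n : ∀ a, Γ(N, U a))
    (hn : ∀ a, IsGen N (U a) (n a))
    (hrel : ∀ a b, rs N (inf_le_left : U a ⊓ U b ≤ U a) (n a) =
        ((etaN Nr U e he a b : (Γ(Y, U a ⊓ U b))ˣ) : Γ(Y, U a ⊓ U b)) •
          rs N (inf_le_right : U a ⊓ U b ≤ U b) (n b))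
    (O : Y.Opens) (hLO : CohB1.IsAmple (L.restrict (π ⁻¹ᵁ O).ι)) :
    CohB1.IsAmple (N.restrict O.ι) := by
  have hsurjO : Function.Surjective (π ∣_ O) := by
    intro y
    obtain ⟨x, hx⟩ := hsurj (O.ι y)
    have hxO : x ∈ π ⁻¹ᵁ O := by
      change π x ∈ O
      rw [hx]
      exact y.2
    refine ⟨⟨x, hxO⟩, ?_⟩
    apply O.ι.isOpenEmbedding.injective
    rw [← Scheme.Hom.comp_apply, morphismRestrict_ι, Scheme.Hom.comp_apply]
    exact hx
  have hUO : iSup (UO U O) = ⊤ := by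
    rw [eq_top_iff]
    intro y _
    obtain ⟨a, hya, haO⟩ := hbasis O (O.ι y) y.2
    exact Opens.mem_iSup.mpr ⟨⟨a, haO⟩, hya⟩
  have hUOa : ∀ a, IsAffineOpen (UO U O a) := by
    intro a
    rw [← Scheme.Hom.isAffineOpen_iff_of_isOpenImmersion O.ι, image_UO]
    exact hUa a.1
  exact isAmple_of_normData (π ∣_ O) hsurjO (Nr.restrict O) hLO (UO U O) hUOa hUO (eO U e O)
    (isGen_eO U e he O) (isInvertible_restrict O.ι hN) (nO U O n) (isGen_nO U O n hn)
    (hrel_restrict Nr U e he O n hrel)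

end Groth.Agent.Lib.helper12.NormInv
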