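import Mathlib
import Groth.Prelude.Def_Curves
import Groth.Agent.S0213
import Groth.Agent.Lib.Helper12.NormC1
import Groth.Agent.Lib.Helper12.H90Cyc

/-!
# The kernel of the norm of a Galois extension of `C_1` fields

For a finite Galois extension `L/K` such that all intermediate norms are surjective (e.g. `K` a
`C_1` field), every element of norm one is a product of elements `w / g w`
(`Ĥ^{-1}(Gal(L/K), Lˣ) = 0`).
-/

set_option autoImplicit false
set_option linter.style.haveILetI false
set_option linter.unusedSectionVars false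

universe u

namespace Groth.Agent.Lib.helper12.NormKer

section Basic

variable (K L : Type*) [Field K] [Field L] [Algebra K L]

/-- The subgroup of `Lˣ` generated by the `w / g w`. -/
def I : Subgroup Lˣ :=
  Subgroup.closure {v : Lˣ | ∃ (w : Lˣ) (g : L ≃ₐ[K] L), (v : L) = (w : L) / g (w : L)}

/-- Every element of norm one lies in `I`. -/
def P : Prop := ∀ u : Lˣ, Algebra.norm K (u : L) = 1 → u ∈ I K L

variable {K L}

theorem gen_mem (w : Lˣ) (g : L ≃ₐ[K] L) : w / Units.map (g : L →* L) w ∈ I K L := by
  apply Subgroup.subset_closure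
  refine ⟨w, g, ?_⟩
  simp [Units.val_div_eq_div_val]

theorem norm_eq_one_of_mem [FiniteDimensional K L] {u : Lˣ} (hu : u ∈ I K L) :
    Algebra.norm K (u : L) = 1 := by
  induction hu using Subgroup.closure_induction with
  | mem v hv =>
    obtain ⟨w, g, hvw⟩ := hv
    rw [hvw, div_eq_mul_inv, map_mul, Algebra.norm_inv, Algebra.norm_eq_of_algEquiv]
    have hne : Algebra.norm K (w : L) ≠ 0 := Algebra.norm_ne_zero_iff.mpr w.ne_zero
    exact mul_inv_cancel₀ hne
  | one => simp
  | mul x y _ _ hx hy => rw [Units.val_mul, map_mul, hx, hy, one_mul]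
  | inv x _ hx => rw [Units.val_inv_eq_inv_val, Algebra.norm_inv, hx, inv_one]

end Basic

section Tower

variable {K M L : Type*} [Field K] [Field M] [Field L] [Algebra K M] [Algebra M L] [Algebra K L]
  [IsScalarTower K M L]

theorem I_mono : I M L ≤ I K L := by
  apply (Subgroup.closure_le _).mpr
  rintro v ⟨w, h, hv⟩
  apply Subgroup.subset_closure
  exact ⟨w, h.restrictScalars K, hv⟩

end Tower

section Cyclic

variable {K L : Type*} [Field K] [Field L] [Algebra K L] [FiniteDimensional K L] [IsGalois K L]

/-- Hilbert 90: the cyclic case. -/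
theorem P_of_cyclic (g : L ≃ₐ[K] L) (hg : ∀ σ, σ ∈ Subgroup.zpowers g) : P K L := by
  intro u hu
  obtain ⟨y, hy⟩ := H90Cyc.exists_div_of_norm_eq_one g hg u hu
  exact Subgroup.subset_closure ⟨y, g, hy⟩

end Cyclic

section Step

variable {K M L : Type*} [Field K] [Field M] [Field L] [Algebra K M] [Algebra M L] [Algebra K L]
  [IsScalarTower K M L] [FiniteDimensional K L] [IsGalois K L] [IsGalois K M]

/-- Compatibility of the relative norm with automorphisms. -/
theorem norm_apply_lift (g : L ≃ₐ[K] L) (gbar : M ≃ₐ[K] M)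
    (hg : ∀ m : M, g (algebraMap M L m) = algebraMap M L (gbar m)) (y : L) :
    Algebra.norm M (g y) = gbar (Algebra.norm M y) := by
  have h := Algebra.norm_eq_of_equiv_equiv (A₁ := M) (B₁ := L) (A₂ := M) (B₂ := L)
    (gbar : M ≃+* M) (g : L ≃+* L) (by
      ext m
      simp only [RingHom.comp_apply, RingHom.coe_coe]
      exact (hg m).symm) y
  have h2 := congrArg (gbar : M ≃+* M) h
  rw [RingEquiv.apply_symm_apply] at h2
  exact h2.symm

/-- The inductive step: a Galois subextension `M/K` with `P K M`, `P M L` and surjective norm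
`L → M`. -/
theorem P_of_tower (hKM : P K M) (hML : P M L)
    (hsurj : Function.Surjective (Algebra.norm M : L → M)) : P K L := by
  have hfinML : FiniteDimensional M L := FiniteDimensional.right K M L
  have hfinKM : FiniteDimensional K M := FiniteDimensional.left K M L
  intro u hu
  let N : Lˣ →* Mˣ := Units.map (Algebra.norm M : L →* M)
  have hNu : N u ∈ I K M := by
    apply hKM
    show Algebra.norm K (Algebra.norm M (u : L)) = 1
    rw [Algebra.norm_norm, hu]
  have hle : I K M ≤ (I K L).map N := by
    apply (Subgroup.closure_le _).mpr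
    rintro v ⟨w, gbar, hv⟩
    obtain ⟨w', hw'⟩ := hsurj (w : M)
    have hw'0 : w' ≠ 0 := by
      intro h0
      rw [h0, Algebra.norm_zero] at hw'
      exact w.ne_zero hw'.symm
    let w'u : Lˣ := Units.mk0 w' hw'0
    let g : L ≃ₐ[K] L := gbar.liftNormal L
    have hg : ∀ m : M, g (algebraMap M L m) = algebraMap M L (gbar m) :=
      fun m => gbar.liftNormal_commutes L m
    refine ⟨w'u / Units.map (g : L →* L) w'u, gen_mem w'u g, ?_⟩
    apply Units.ext
    show Algebra.norm M ((w'u / Units.map (g : L →* L) w'u : Lˣ) : L) = (v : M)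
    rw [hv, Units.val_div_eq_div_val, div_eq_mul_inv, map_mul, Algebra.norm_inv]
    show Algebra.norm M w' * (Algebra.norm M (g w'))⁻¹ = _
    rw [norm_apply_lift g gbar hg, hw', div_eq_mul_inv]
  obtain ⟨t, ht, htN⟩ := hle hNu
  have hut : u / t ∈ I M L := by
    apply hML
    have h1 : (N (u / t) : Mˣ) = 1 := by
      rw [map_div, htN, div_self']
    exact congrArg (fun x : Mˣ => (x : M)) h1
  have h2 : u / t ∈ I K L := I_mono hut
  have h3 : u = u / t * t := by rw [div_mul_cancel]
  rw [h3]
  exact (I K L).mul_mem h2 ht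

end Step

section Subgroup

variable {K L : Type*} [Field K] [Field L] [Algebra K L] [FiniteDimensional K L] [IsGalois K L]

/-- The relative norm to the fixed field of a subgroup is the product over the subgroup. -/
theorem algebraMap_norm_fixedField (H : Subgroup (L ≃ₐ[K] L)) [Fintype H] (y : L) :
    algebraMap (IntermediateField.fixedField H) L
        (Algebra.norm (IntermediateField.fixedField H) y) =
      ∏ h : H, (h : L ≃ₐ[K] L) y := by
  classical
  rw [Algebra.norm_eq_prod_automorphisms]
  symm
  exact Fintype.prod_equiv (IntermediateField.subgroupEquivAlgEquiv H).toEquiv _ _ (fun h => rfl)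

/-- The transversal argument: if `P` holds over the fixed field of `H`, then the `[G:H]`-th power of
an element of norm one lies in `I K L`. -/
theorem pow_index_mem (H : Subgroup (L ≃ₐ[K] L)) (hH : P (IntermediateField.fixedField H) L)
    (u : Lˣ) (hu : Algebra.norm K (u : L) = 1) : u ^ H.index ∈ I K L := by
  classical
  have : Fintype H := Fintype.ofFinite H
  obtain ⟨T, hT, -⟩ := Subgroup.exists_isComplement_right H (1 : L ≃ₐ[K] L)
  have : Fintype T := Fintype.ofFinite T
  have hcard : Fintype.card T = H.index := by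
    rw [← Nat.card_eq_fintype_card]
    exact hT.card_right
  set u' : Lˣ := ∏ c : T, Units.map ((c : L ≃ₐ[K] L) : L →* L) u with hu'
  have hu'val : (u' : L) = ∏ c : T, (c : L ≃ₐ[K] L) (u : L) := by
    rw [hu', Units.coe_prod]
    rfl
  have hnorm' : Algebra.norm (IntermediateField.fixedField H) (u' : L) = 1 := by
    apply (algebraMap (IntermediateField.fixedField H) L).injective
    rw [algebraMap_norm_fixedField, map_one, hu'val]
    have h1 : ∏ h : H, (h : L ≃ₐ[K] L) (∏ c : T, (c : L ≃ₐ[K] L) (u : L)) =
        ∏ x : H × T, ((x.1 : L ≃ₐ[K] L) * (x.2 : L ≃ₐ[K] L)) (u : L) := by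
      rw [Fintype.prod_prod_type]
      refine Finset.prod_congr rfl fun h _ => ?_
      rw [map_prod]
      rfl
    rw [h1]
    have h2 : ∏ x : H × T, ((x.1 : L ≃ₐ[K] L) * (x.2 : L ≃ₐ[K] L)) (u : L) =
        ∏ σ : L ≃ₐ[K] L, σ (u : L) :=
      Fintype.prod_bijective (fun x : H × T => (x.1 : L ≃ₐ[K] L) * (x.2 : L ≃ₐ[K] L)) hT _ _
        (fun _ => rfl)
    rw [h2, ← Algebra.norm_eq_prod_automorphisms, hu, map_one]
  have h3 : u' ∈ I K L := I_mono (hH u' hnorm')
  have h4 : u ^ H.index = u' * ∏ c : T, (u / Units.map ((c : L ≃ₐ[K] L) : L →* L) u) := by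
    rw [Finset.prod_div_distrib, Finset.prod_const, Finset.card_univ, hcard, ← hu',
      mul_div_cancel]
  rw [h4]
  refine (I K L).mul_mem h3 ?_
  exact Subgroup.prod_mem _ (fun c _ => gen_mem u (c : L ≃ₐ[K] L))

end Subgroup

section Main

/-- The `p`-group case, by induction on the degree. -/
theorem P_of_pGroup (p : ℕ) [Fact p.Prime] : ∀ n : ℕ, ∀ (K L : Type u) [Field K] [Field L]
    [Algebra K L] [FiniteDimensional K L] [IsGalois K L], Curves.IsCr K 1 →
    IsPGroup p (L ≃ₐ[K] L) → Module.finrank K L = n → P K L := by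
  intro n
  induction n using Nat.strong_induction_on with
  | _ n ih =>
    intro K L _ _ _ _ _ hK hp hn
    by_cases htriv : Subsingleton (L ≃ₐ[K] L)
    · exact P_of_cyclic 1 (fun σ => by rw [Subsingleton.elim σ 1]; exact Subgroup.one_mem _)
    · rw [not_subsingleton_iff_nontrivial] at htriv
      have hcen : Nontrivial (Subgroup.center (L ≃ₐ[K] L)) := hp.center_nontrivial
      obtain ⟨⟨z, hz⟩, hz1⟩ := exists_ne (1 : Subgroup.center (L ≃ₐ[K] L))
      have hz1' : z ≠ 1 := fun h => hz1 (Subtype.ext h)
      let H : Subgroup (L ≃ₐ[K] L) := Subgroup.zpowers z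
      have hHn : H.Normal := ⟨fun a ha g => by
        have hac : a ∈ Subgroup.center (L ≃ₐ[K] L) := (Subgroup.zpowers_le.mpr hz) ha
        rw [Subgroup.mem_center_iff] at hac
        rw [hac g, mul_inv_cancel_right]
        exact ha⟩
      let M := IntermediateField.fixedField H
      have hGalM : IsGalois K M := IsGalois.of_fixedField_normal_subgroup H
      have hML : Module.finrank M L = Nat.card H :=
        IntermediateField.finrank_fixedField_eq_card H
      have hH1 : 1 < Nat.card H := by
        rw [Nat.card_zpowers]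
        have h0 : 0 < orderOf z := orderOf_pos z
        have h1 : orderOf z ≠ 1 := fun h => hz1' (orderOf_eq_one_iff.mp h)
        omega
      have hmul : Module.finrank K M * Module.finrank M L = Module.finrank K L :=
        Module.finrank_mul_finrank K M L
      have hlt : Module.finrank K M < n := by
        rw [← hn, ← hmul, hML]
        exact lt_mul_of_one_lt_right Module.finrank_pos hH1
      have hpM : IsPGroup p (M ≃ₐ[K] M) :=
        hp.of_surjective (AlgEquiv.restrictNormalHom M) (AlgEquiv.restrictNormalHom_surjective L)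
      have hKM : P K M := ih _ hlt K M hK hpM rfl
      let g' : L ≃ₐ[M] L := IntermediateField.subgroupEquivAlgEquiv H ⟨z, Subgroup.mem_zpowers z⟩
      have hg' : ∀ σ : L ≃ₐ[M] L, σ ∈ Subgroup.zpowers g' := by
        intro σ
        obtain ⟨⟨h, hh⟩, rfl⟩ := (IntermediateField.subgroupEquivAlgEquiv H).surjective σ
        obtain ⟨i, rfl⟩ := Subgroup.mem_zpowers_iff.mp hh
        refine Subgroup.mem_zpowers_iff.mpr ⟨i, ?_⟩
        rw [← map_zpow]
        rfl
      have hML' : P M L := P_of_cyclic g' hg'
      have hCM : Curves.IsCr M 1 := Groth.Agent.S0213.result K M hK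
      exact P_of_tower hKM hML' (NormC1.norm_surjective M L hCM)

/-- Over a `C_1` field every element of norm one of a finite Galois extension is a product of
elements `w / g w`. -/
theorem P_of_isCr (K L : Type u) [Field K] [Field L] [Algebra K L] [FiniteDimensional K L]
    [IsGalois K L] (hK : Curves.IsCr K 1) : P K L := by
  intro u hu
  have key : ∀ (q : ℕ) [Fact q.Prime], ∃ m : ℕ, ¬ q ∣ m ∧ u ^ m ∈ I K L := by
    intro q _
    let Q : Sylow q (L ≃ₐ[K] L) := default
    let M := IntermediateField.fixedField (Q : Subgroup (L ≃ₐ[K] L))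
    have hpM : IsPGroup q (L ≃ₐ[M] L) :=
      Q.isPGroup'.of_equiv (IntermediateField.subgroupEquivAlgEquiv (Q : Subgroup (L ≃ₐ[K] L)))
    have hCM : Curves.IsCr M 1 := Groth.Agent.S0213.result K M hK
    have hPM : P M L := P_of_pGroup q _ M L hCM hpM rfl
    exact ⟨(Q : Subgroup (L ≃ₐ[K] L)).index, Q.not_dvd_index, pow_index_mem _ hPM u hu⟩
  let ubar : Lˣ ⧸ I K L := QuotientGroup.mk u
  have hord : orderOf ubar = 1 := by
    by_contra h
    obtain ⟨q, hq, hqd⟩ := Nat.exists_prime_and_dvd h
    haveI : Fact q.Prime := ⟨hq⟩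
    obtain ⟨m, hqm, hm⟩ := key q
    apply hqm
    refine hqd.trans (orderOf_dvd_of_pow_eq_one ?_)
    rw [← QuotientGroup.mk_pow]
    exact (QuotientGroup.eq_one_iff _).mpr hm
  have h1 : ubar = 1 := orderOf_eq_one_iff.mp hord
  exact (QuotientGroup.eq_one_iff u).mp h1

end Main

end Groth.Agent.Lib.helper12.NormKer
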