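import Mathlib
import Groth.Agent.Lib.Helper12.QuotDesc

/-!
# Descent of morphisms of presheafed spaces along a jointly surjective pair (helper12)

`PSp.*`: for `p₁ : X ⟶ W`, `p₂ : Y ⟶ W` in `PresheafedSpace CommRingCat` such that `W` carries the
quotient topology of `X ⊔ Y`, the sheaf maps are jointly injective, and a pair `q₁ : X ⟶ T`,
`q₂ : Y ⟶ T` constant on the fibres whose (transported) sections are jointly in the image of
`O_W`, there is a unique `χ : W ⟶ T` with `p₁ ≫ χ = q₁` and `p₂ ≫ χ = q₂`.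
-/

set_option autoImplicit false
universe u
open CategoryTheory TopologicalSpace Opposite AlgebraicGeometry Topology

namespace Groth.Agent.Lib.Helper12.PairDesc

open QuotDesc

section AppLE
variable {C : Type*} [Category C]

/-- sections of a morphism of presheafed spaces, restricted to a smaller open -/
def appLE' {X T : PresheafedSpace C} (g : X ⟶ T) (O : Opens T) (U : Opens X)
    (e : U ≤ (Opens.map g.base).obj O) : T.presheaf.obj (op O) ⟶ X.presheaf.obj (op U) :=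
  g.c.app (op O) ≫ X.presheaf.map (homOfLE e).op

theorem appLE'_congr {X T : PresheafedSpace C} (g g' : X ⟶ T) (h : g = g') (O : Opens T)
    (U : Opens X) (e : U ≤ (Opens.map g.base).obj O) (e' : U ≤ (Opens.map g'.base).obj O) :
    appLE' g O U e = appLE' g' O U e' := by
  subst h; rfl

theorem aux7 {𝒞 : Type*} [Category 𝒞] {A B B' D D' E : 𝒞} (gc : A ⟶ B) (r : B ⟶ B')
    (fc' : B' ⟶ D') (r' : D' ⟶ E) (fc : B ⟶ D) (m : D ⟶ D') (r'' : D ⟶ E)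
    (nat : r ≫ fc' = fc ≫ m) (h : m ≫ r' = r'') :
    (gc ≫ r) ≫ (fc' ≫ r') = (gc ≫ fc) ≫ r'' := by
  rw [Category.assoc, ← Category.assoc r, nat, Category.assoc, h, Category.assoc]

theorem appLE'_comp {Z X T : PresheafedSpace C} (f : Z ⟶ X) (g : X ⟶ T) (O : Opens T)
    (U : Opens X) (U' : Opens Z) (e : U ≤ (Opens.map g.base).obj O)
    (e' : U' ≤ (Opens.map f.base).obj U)
    (e'' : U' ≤ (Opens.map (f ≫ g).base).obj O) :
    appLE' g O U e ≫ appLE' f U U' e' = appLE' (f ≫ g) O U' e'' := by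
  unfold appLE'
  refine (aux7 (g.c.app (op O)) (X.presheaf.map (homOfLE e).op) (f.c.app (op U))
    (Z.presheaf.map (homOfLE e').op) (f.c.app (op ((Opens.map g.base).obj O))) _
    (Z.presheaf.map (homOfLE e'').op) (f.c.naturality (homOfLE e).op) ?_).trans ?_
  · exact (Z.presheaf.map_comp _ _).symm.trans (congrArg Z.presheaf.map (Subsingleton.elim _ _))
  · rfl

theorem appLE'_map {X T : PresheafedSpace C} (g : X ⟶ T) (O : Opens T) (U U' : Opens X)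
    (e : U ≤ (Opens.map g.base).obj O) (h : U' ≤ U) :
    appLE' g O U e ≫ X.presheaf.map (homOfLE h).op = appLE' g O U' (h.trans e) := by
  unfold appLE'
  rw [Category.assoc]
  congr 1
  exact (X.presheaf.map_comp _ _).symm.trans (congrArg X.presheaf.map (Subsingleton.elim _ _))

end AppLE

namespace PSp

section
variable {X Y W T : PresheafedSpace CommRingCat.{u}} (p₁ : X ⟶ W) (p₂ : Y ⟶ W)
  (q₁ : X ⟶ T) (q₂ : Y ⟶ T)
  (hsurj : ∀ w : W, (∃ x : X, p₁.base x = w) ∨ (∃ y : Y, p₂.base y = w))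
  (hopen : ∀ s : Set W, IsOpen (p₁.base ⁻¹' s) → IsOpen (p₂.base ⁻¹' s) → IsOpen s)
  (hf₁ : ∀ x x' : X, p₁.base x = p₁.base x' → q₁.base x = q₁.base x')
  (hf₂ : ∀ y y' : Y, p₂.base y = p₂.base y' → q₂.base y = q₂.base y')
  (hf₁₂ : ∀ (x : X) (y : Y), p₁.base x = p₂.base y → q₁.base x = q₂.base y)
  (hinj : ∀ (V : Opens W) (s t : W.presheaf.obj (op V)),
    p₁.c.app (op V) s = p₁.c.app (op V) t → p₂.c.app (op V) s = p₂.c.app (op V) t → s = t)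
  (hrange : ∀ (V : Opens W) (O : Opens T)
    (e₁ : (Opens.map p₁.base).obj V ≤ (Opens.map q₁.base).obj O)
    (e₂ : (Opens.map p₂.base).obj V ≤ (Opens.map q₂.base).obj O) (s : T.presheaf.obj (op O)),
    ∃ τ : W.presheaf.obj (op V), p₁.c.app (op V) τ = appLE' q₁ O _ e₁ s ∧
      p₂.c.app (op V) τ = appLE' q₂ O _ e₂ s)

open Classical in
/-- the base map, as a function -/
noncomputable def vbFun (w : W) : T :=
  if h : ∃ x : X, p₁.base x = w then q₁.base h.choose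
  else q₂.base ((hsurj w).resolve_left h).choose

include hf₁ in
theorem vbFun_p₁ (x : X) : vbFun p₁ p₂ q₁ q₂ hsurj (p₁.base x) = q₁.base x := by
  unfold vbFun
  rw [dif_pos ⟨x, rfl⟩]
  exact hf₁ _ _ (Exists.choose_spec (⟨x, rfl⟩ : ∃ x' : X, p₁.base x' = p₁.base x))

include hf₂ hf₁₂ in
theorem vbFun_p₂ (y : Y) : vbFun p₁ p₂ q₁ q₂ hsurj (p₂.base y) = q₂.base y := by
  unfold vbFun
  by_cases h : ∃ x : X, p₁.base x = p₂.base y
  · rw [dif_pos h]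
    exact hf₁₂ _ _ h.choose_spec
  · rw [dif_neg h]
    exact hf₂ _ _ ((hsurj (p₂.base y)).resolve_left h).choose_spec

include hopen hf₁ hf₂ hf₁₂ in
theorem continuous_vbFun : Continuous (vbFun p₁ p₂ q₁ q₂ hsurj) := by
  refine continuous_def.mpr (fun O hO => hopen _ ?_ ?_)
  · have : p₁.base ⁻¹' (vbFun p₁ p₂ q₁ q₂ hsurj ⁻¹' O) = q₁.base ⁻¹' O := by
      ext x
      simp only [Set.mem_preimage]
      rw [vbFun_p₁ p₁ p₂ q₁ q₂ hsurj hf₁]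
    rw [this]
    exact hO.preimage q₁.base.hom.continuous
  · have : p₂.base ⁻¹' (vbFun p₁ p₂ q₁ q₂ hsurj ⁻¹' O) = q₂.base ⁻¹' O := by
      ext y
      simp only [Set.mem_preimage]
      rw [vbFun_p₂ p₁ p₂ q₁ q₂ hsurj hf₂ hf₁₂]
    rw [this]
    exact hO.preimage q₂.base.hom.continuous

/-- the base map -/
noncomputable def vb : (W : TopCat) ⟶ (T : TopCat) :=
  TopCat.ofHom ⟨vbFun p₁ p₂ q₁ q₂ hsurj, continuous_vbFun p₁ p₂ q₁ q₂ hsurj hopen hf₁ hf₂ hf₁₂⟩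

theorem hb₁ : p₁.base ≫ vb p₁ p₂ q₁ q₂ hsurj hopen hf₁ hf₂ hf₁₂ = q₁.base := by
  ext x
  exact vbFun_p₁ p₁ p₂ q₁ q₂ hsurj hf₁ x

theorem hb₂ : p₂.base ≫ vb p₁ p₂ q₁ q₂ hsurj hopen hf₁ hf₂ hf₁₂ = q₂.base := by
  ext y
  exact vbFun_p₂ p₁ p₂ q₁ q₂ hsurj hf₂ hf₁₂ y

theorem eW₁ (O : Opens T) : (Opens.map p₁.base).obj
    ((Opens.map (vb p₁ p₂ q₁ q₂ hsurj hopen hf₁ hf₂ hf₁₂)).obj O) = (Opens.map q₁.base).obj O := by
  rw [← hb₁ p₁ p₂ q₁ q₂ hsurj hopen hf₁ hf₂ hf₁₂]; rfl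

theorem eW₂ (O : Opens T) : (Opens.map p₂.base).obj
    ((Opens.map (vb p₁ p₂ q₁ q₂ hsurj hopen hf₁ hf₂ hf₁₂)).obj O) = (Opens.map q₂.base).obj O := by
  rw [← hb₂ p₁ p₂ q₁ q₂ hsurj hopen hf₁ hf₂ hf₁₂]; rfl

/-- the transported section maps -/
noncomputable def tW₁ (O : Opens T) : T.presheaf.obj (op O) ⟶ X.presheaf.obj
    (op ((Opens.map p₁.base).obj ((Opens.map (vb p₁ p₂ q₁ q₂ hsurj hopen hf₁ hf₂ hf₁₂)).obj O))) :=
  appLE' q₁ O _ (eW₁ p₁ p₂ q₁ q₂ hsurj hopen hf₁ hf₂ hf₁₂ O).le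

noncomputable def tW₂ (O : Opens T) : T.presheaf.obj (op O) ⟶ Y.presheaf.obj
    (op ((Opens.map p₂.base).obj ((Opens.map (vb p₁ p₂ q₁ q₂ hsurj hopen hf₁ hf₂ hf₁₂)).obj O))) :=
  appLE' q₂ O _ (eW₂ p₁ p₂ q₁ q₂ hsurj hopen hf₁ hf₂ hf₁₂ O).le

/-- the pair of restriction maps into the product ring -/
noncomputable def PP (V : Opens W) : W.presheaf.obj (op V) ⟶
    CommRingCat.of (X.presheaf.obj (op ((Opens.map p₁.base).obj V)) ×
      Y.presheaf.obj (op ((Opens.map p₂.base).obj V))) :=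
  CommRingCat.ofHom (RingHom.prod (p₁.c.app (op V)).hom (p₂.c.app (op V)).hom)

include hinj in
theorem PP_injective (V : Opens W) : Function.Injective (PP p₁ p₂ V) := by
  intro s t hst
  exact hinj V s t (congrArg Prod.fst hst) (congrArg Prod.snd hst)

/-- the pair of transported section maps -/
noncomputable def tt (O : Opens T) : T.presheaf.obj (op O) ⟶
    CommRingCat.of (X.presheaf.obj (op ((Opens.map p₁.base).obj
        ((Opens.map (vb p₁ p₂ q₁ q₂ hsurj hopen hf₁ hf₂ hf₁₂)).obj O))) ×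
      Y.presheaf.obj (op ((Opens.map p₂.base).obj
        ((Opens.map (vb p₁ p₂ q₁ q₂ hsurj hopen hf₁ hf₂ hf₁₂)).obj O)))) :=
  CommRingCat.ofHom (RingHom.prod (tW₁ p₁ p₂ q₁ q₂ hsurj hopen hf₁ hf₂ hf₁₂ O).hom
    (tW₂ p₁ p₂ q₁ q₂ hsurj hopen hf₁ hf₂ hf₁₂ O).hom)

include hrange in
theorem tt_range (O : Opens T) (s : T.presheaf.obj (op O)) :
    tt p₁ p₂ q₁ q₂ hsurj hopen hf₁ hf₂ hf₁₂ O s ∈ Set.range (PP p₁ p₂
      ((Opens.map (vb p₁ p₂ q₁ q₂ hsurj hopen hf₁ hf₂ hf₁₂)).obj O)) := by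
  obtain ⟨τ, h1, h2⟩ := hrange ((Opens.map (vb p₁ p₂ q₁ q₂ hsurj hopen hf₁ hf₂ hf₁₂)).obj O) O
    (eW₁ p₁ p₂ q₁ q₂ hsurj hopen hf₁ hf₂ hf₁₂ O).le
    (eW₂ p₁ p₂ q₁ q₂ hsurj hopen hf₁ hf₂ hf₁₂ O).le s
  exact ⟨τ, Prod.ext h1 h2⟩

/-- the section map -/
noncomputable def cW (O : Opens T) : T.presheaf.obj (op O) ⟶
    W.presheaf.obj (op ((Opens.map (vb p₁ p₂ q₁ q₂ hsurj hopen hf₁ hf₂ hf₁₂)).obj O)) :=
  (exists_lift (PP p₁ p₂ _) (PP_injective p₁ p₂ hinj _)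
    (tt p₁ p₂ q₁ q₂ hsurj hopen hf₁ hf₂ hf₁₂ O)
    (tt_range p₁ p₂ q₁ q₂ hsurj hopen hf₁ hf₂ hf₁₂ hrange O)).choose

theorem cW_spec (O : Opens T) : cW p₁ p₂ q₁ q₂ hsurj hopen hf₁ hf₂ hf₁₂ hinj hrange O ≫ PP p₁ p₂ _ =
    tt p₁ p₂ q₁ q₂ hsurj hopen hf₁ hf₂ hf₁₂ O :=
  (exists_lift (PP p₁ p₂ _) (PP_injective p₁ p₂ hinj _)
    (tt p₁ p₂ q₁ q₂ hsurj hopen hf₁ hf₂ hf₁₂ O)
    (tt_range p₁ p₂ q₁ q₂ hsurj hopen hf₁ hf₂ hf₁₂ hrange O)).choose_spec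

theorem cW_spec₁ (O : Opens T) : cW p₁ p₂ q₁ q₂ hsurj hopen hf₁ hf₂ hf₁₂ hinj hrange O ≫
    p₁.c.app (op ((Opens.map (vb p₁ p₂ q₁ q₂ hsurj hopen hf₁ hf₂ hf₁₂)).obj O)) =
    tW₁ p₁ p₂ q₁ q₂ hsurj hopen hf₁ hf₂ hf₁₂ O := by
  ext s
  exact congrArg Prod.fst (ConcreteCategory.congr_hom
    (cW_spec p₁ p₂ q₁ q₂ hsurj hopen hf₁ hf₂ hf₁₂ hinj hrange O) s)

theorem cW_spec₂ (O : Opens T) : cW p₁ p₂ q₁ q₂ hsurj hopen hf₁ hf₂ hf₁₂ hinj hrange O ≫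
    p₂.c.app (op ((Opens.map (vb p₁ p₂ q₁ q₂ hsurj hopen hf₁ hf₂ hf₁₂)).obj O)) =
    tW₂ p₁ p₂ q₁ q₂ hsurj hopen hf₁ hf₂ hf₁₂ O := by
  ext s
  exact congrArg Prod.snd (ConcreteCategory.congr_hom
    (cW_spec p₁ p₂ q₁ q₂ hsurj hopen hf₁ hf₂ hf₁₂ hinj hrange O) s)

include hinj in
theorem joint_mono {A : CommRingCat.{u}} (V : Opens W) (f g : A ⟶ W.presheaf.obj (op V))
    (h₁ : f ≫ p₁.c.app (op V) = g ≫ p₁.c.app (op V))
    (h₂ : f ≫ p₂.c.app (op V) = g ≫ p₂.c.app (op V)) : f = g := by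
  ext s
  exact hinj V _ _ (ConcreteCategory.congr_hom h₁ s) (ConcreteCategory.congr_hom h₂ s)

/-- the sheaf map -/
noncomputable def vc : T.presheaf ⟶ (vb p₁ p₂ q₁ q₂ hsurj hopen hf₁ hf₂ hf₁₂) _* W.presheaf where
  app O := cW p₁ p₂ q₁ q₂ hsurj hopen hf₁ hf₂ hf₁₂ hinj hrange O.unop
  naturality O₁ O₂ i := by
    refine joint_mono p₁ p₂ hinj _ _ _ ?_ ?_
    · refine aux4 _ _ _ _ _ _ _ _ _ _ _ _ (q₁.c.naturality i)
        (p₁.c.naturality ((Opens.map (vb p₁ p₂ q₁ q₂ hsurj hopen hf₁ hf₂ hf₁₂)).op.map i))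
        (cW_spec₁ p₁ p₂ q₁ q₂ hsurj hopen hf₁ hf₂ hf₁₂ hinj hrange O₁.unop)
        (cW_spec₁ p₁ p₂ q₁ q₂ hsurj hopen hf₁ hf₂ hf₁₂ hinj hrange O₂.unop) ?_
      exact (X.presheaf.map_comp _ _).symm.trans
        ((congrArg X.presheaf.map (Subsingleton.elim _ _)).trans (X.presheaf.map_comp _ _))
    · refine aux4 _ _ _ _ _ _ _ _ _ _ _ _ (q₂.c.naturality i)
        (p₂.c.naturality ((Opens.map (vb p₁ p₂ q₁ q₂ hsurj hopen hf₁ hf₂ hf₁₂)).op.map i))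
        (cW_spec₂ p₁ p₂ q₁ q₂ hsurj hopen hf₁ hf₂ hf₁₂ hinj hrange O₁.unop)
        (cW_spec₂ p₁ p₂ q₁ q₂ hsurj hopen hf₁ hf₂ hf₁₂ hinj hrange O₂.unop) ?_
      exact (Y.presheaf.map_comp _ _).symm.trans
        ((congrArg Y.presheaf.map (Subsingleton.elim _ _)).trans (Y.presheaf.map_comp _ _))

/-- the descended morphism of presheafed spaces -/
noncomputable def desc : W ⟶ T :=
  ⟨vb p₁ p₂ q₁ q₂ hsurj hopen hf₁ hf₂ hf₁₂, vc p₁ p₂ q₁ q₂ hsurj hopen hf₁ hf₂ hf₁₂ hinj hrange⟩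

theorem comp_desc₁ : p₁ ≫ desc p₁ p₂ q₁ q₂ hsurj hopen hf₁ hf₂ hf₁₂ hinj hrange = q₁ := by
  refine PresheafedSpace.ext _ _ (hb₁ p₁ p₂ q₁ q₂ hsurj hopen hf₁ hf₂ hf₁₂) ?_
  refine TopCat.Presheaf.ext (fun O' => ?_)
  erw [TopCat.Presheaf.comp_app, PresheafedSpace.comp_c_app]
  refine aux5 _ _ _ _ _ (cW_spec₁ p₁ p₂ q₁ q₂ hsurj hopen hf₁ hf₂ hf₁₂ hinj hrange O') ?_
  rw [Functor.whiskerRight_app, eqToHom_app]
  exact (X.presheaf.map_comp _ _).symm.trans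
    ((congrArg X.presheaf.map (Subsingleton.elim _ _)).trans (X.presheaf.map_id _))

theorem comp_desc₂ : p₂ ≫ desc p₁ p₂ q₁ q₂ hsurj hopen hf₁ hf₂ hf₁₂ hinj hrange = q₂ := by
  refine PresheafedSpace.ext _ _ (hb₂ p₁ p₂ q₁ q₂ hsurj hopen hf₁ hf₂ hf₁₂) ?_
  refine TopCat.Presheaf.ext (fun O' => ?_)
  erw [TopCat.Presheaf.comp_app, PresheafedSpace.comp_c_app]
  refine aux5 _ _ _ _ _ (cW_spec₂ p₁ p₂ q₁ q₂ hsurj hopen hf₁ hf₂ hf₁₂ hinj hrange O') ?_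
  rw [Functor.whiskerRight_app, eqToHom_app]
  exact (Y.presheaf.map_comp _ _).symm.trans
    ((congrArg Y.presheaf.map (Subsingleton.elim _ _)).trans (Y.presheaf.map_id _))

include hsurj hinj in
theorem uniq (k₁ k₂ : W ⟶ T) (hk₁ : p₁ ≫ k₁ = p₁ ≫ k₂) (hk₂ : p₂ ≫ k₁ = p₂ ≫ k₂) : k₁ = k₂ := by
  have hbase : k₁.base = k₂.base := by
    ext w
    rcases hsurj w with ⟨x, rfl⟩ | ⟨y, rfl⟩
    · exact congrArg (fun k : X ⟶ T => k.base x) hk₁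
    · exact congrArg (fun k : Y ⟶ T => k.base y) hk₂
  refine PresheafedSpace.ext _ _ hbase ?_
  refine TopCat.Presheaf.ext (fun O' => ?_)
  refine joint_mono p₁ p₂ hinj ((Opens.map k₂.base).obj O') _ _ ?_ ?_
  · have e1 : k₁.c.app (op O') ≫ p₁.c.app (op ((Opens.map k₁.base).obj O')) =
        (k₂.c.app (op O') ≫ p₁.c.app (op ((Opens.map k₂.base).obj O'))) ≫
          X.presheaf.map (eqToHom (by rw [hbase])) :=
      PresheafedSpace.congr_app hk₁ (op O')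
    erw [TopCat.Presheaf.comp_app]
    rw [Functor.whiskerRight_app, eqToHom_app]
    refine aux6 _ _ _ _ _ _ _ e1 (p₁.c.naturality _) ?_
    exact (X.presheaf.map_comp _ _).symm.trans
      ((congrArg X.presheaf.map (Subsingleton.elim _ _)).trans (X.presheaf.map_id _))
  · have e1 : k₁.c.app (op O') ≫ p₂.c.app (op ((Opens.map k₁.base).obj O')) =
        (k₂.c.app (op O') ≫ p₂.c.app (op ((Opens.map k₂.base).obj O'))) ≫
          Y.presheaf.map (eqToHom (by rw [hbase])) :=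
      PresheafedSpace.congr_app hk₂ (op O')
    erw [TopCat.Presheaf.comp_app]
    rw [Functor.whiskerRight_app, eqToHom_app]
    refine aux6 _ _ _ _ _ _ _ e1 (p₂.c.naturality _) ?_
    exact (Y.presheaf.map_comp _ _).symm.trans
      ((congrArg Y.presheaf.map (Subsingleton.elim _ _)).trans (Y.presheaf.map_id _))

end
end PSp

end Groth.Agent.Lib.Helper12.PairDesc
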