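import Mathlib

/-!
# helper12: perfect rings of characteristic `p` (elementary algebra)

`IsPerf p R`: `p = 0` in `R` and the `p`-th power map is bijective (no nontriviality needed).
Roots `rt f n = f^(1/p^n)`, the "perfect ideal" `pid S` generated by all roots of the elements of
`S`, quotients, tensor products over `ZMod p`.
-/

set_option autoImplicit false
universe u v

namespace Groth.Agent.Lib.helper12.Perf

/-- perfect ring of characteristic `p`. -/
structure IsPerf (p : ℕ) (R : Type*) [CommRing R] : Prop where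
  char : (p : R) = 0
  bij : Function.Bijective (fun x : R => x ^ p)

variable {p : ℕ} [hp : Fact p.Prime] {R : Type*} [CommRing R] {R' : Type*} [CommRing R']

theorem add_pow_of_char (hc : (p : R) = 0) (x y : R) : (x + y) ^ p = x ^ p + y ^ p := by
  obtain ⟨r, hr⟩ := exists_add_pow_prime_eq hp.out x y
  rw [hr, hc]
  ring

/-- Frobenius as a ring hom, for a ring in which `p = 0`. -/
def frobHom (hc : (p : R) = 0) : R →+* R where
  toFun x := x ^ p
  map_one' := one_pow p
  map_mul' x y := mul_pow x y p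
  map_zero' := zero_pow hp.out.ne_zero
  map_add' := add_pow_of_char hc

@[simp] theorem frobHom_apply (hc : (p : R) = 0) (x : R) : frobHom hc x = x ^ p := rfl

namespace IsPerf

variable (h : IsPerf p R)

/-- Frobenius as a ring automorphism. -/
noncomputable def frob : R ≃+* R := RingEquiv.ofBijective (frobHom h.char) h.bij

theorem frob_apply (x : R) : h.frob x = x ^ p := rfl

/-- the `p`-th root. -/
noncomputable def root : R ≃+* R := h.frob.symm

theorem root_pow (x : R) : (h.root x) ^ p = x := h.frob.apply_symm_apply x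

theorem root_pow' (x : R) : h.root (x ^ p) = x := h.frob.symm_apply_apply x

include h in
theorem eq_zero_of_pow_eq_zero (x : R) (hx : x ^ p = 0) : x = 0 := by
  apply h.bij.1
  change x ^ p = 0 ^ p
  rw [hx, zero_pow hp.out.ne_zero]

include h in
theorem sub_pow (x y : R) : (x - y) ^ p = x ^ p - y ^ p := by
  have := add_pow_of_char h.char (x - y) y
  rw [sub_add_cancel] at this
  rw [this, add_sub_cancel_right]

theorem map_root (h' : IsPerf p R') (φ : R →+* R') (x : R) : φ (h.root x) = h'.root (φ x) := by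
  apply h'.bij.1
  change φ (h.root x) ^ p = h'.root (φ x) ^ p
  rw [← map_pow, root_pow, root_pow]

omit hp in
include h in
theorem of_ringEquiv (e : R ≃+* R') : IsPerf p R' where
  char := by rw [← map_natCast e, h.char, map_zero]
  bij := by
    have : (fun x : R' => x ^ p) = e ∘ (fun x : R => x ^ p) ∘ e.symm := by
      funext x
      simp
    rw [this]
    exact e.bijective.comp (h.bij.comp e.symm.bijective)

/-- iterated roots: `rt f n = f^(1/p^n)`. -/
noncomputable def rt (f : R) : ℕ → R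
  | 0 => f
  | n + 1 => h.root (rt f n)

@[simp] theorem rt_zero (f : R) : h.rt f 0 = f := rfl

theorem rt_succ (f : R) (n : ℕ) : h.rt f (n + 1) = h.root (h.rt f n) := rfl

theorem rt_succ_pow (f : R) (n : ℕ) : h.rt f (n + 1) ^ p = h.rt f n := by
  rw [rt_succ, root_pow]

theorem rt_add_pow (f : R) (n k : ℕ) : h.rt f (n + k) ^ p ^ k = h.rt f n := by
  induction k with
  | zero => simp
  | succ k ih =>
    rw [← add_assoc, pow_succ', pow_mul, rt_succ_pow, ih]

theorem map_rt (h' : IsPerf p R') (φ : R →+* R') (f : R) (n : ℕ) :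
    φ (h.rt f n) = h'.rt (φ f) n := by
  induction n with
  | zero => rfl
  | succ n ih => rw [rt_succ, rt_succ, map_root h h', ih]

/-- the key property: `f^(1/p^n) x = 0` implies `f^((p-1)/p^(n+1)) x = 0`. -/
theorem key (f x : R) (n : ℕ) (hx : h.rt f n * x = 0) : h.rt f (n + 1) ^ (p - 1) * x = 0 := by
  apply h.eq_zero_of_pow_eq_zero
  obtain ⟨q, hq⟩ : ∃ q, p = q + 2 := ⟨p - 2, by have := hp.out.two_le; omega⟩
  have h1 : (h.rt f (n + 1) ^ (p - 1) * x) ^ p = h.rt f n ^ (p - 1) * x ^ p := by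
    rw [mul_pow, ← pow_mul, mul_comm (p - 1) p, pow_mul, rt_succ_pow]
  rw [h1]
  have h2 : p - 1 = q + 1 := by omega
  have hxp : x ^ p = x ^ (q + 2) := congrArg (x ^ ·) hq
  rw [h2, hxp]
  have : h.rt f n ^ (q + 1) * x ^ (q + 2) = h.rt f n ^ q * x ^ (q + 1) * (h.rt f n * x) := by ring
  rw [this, hx, mul_zero]

/-- transition element `f^(1/p^n) / f^(1/p^m)` for `n ≤ m`. -/
noncomputable def tr (f : R) (n m : ℕ) : R := h.rt f m ^ (p ^ (m - n) - 1)

theorem tr_self (f : R) (n : ℕ) : h.tr f n n = 1 := by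
  unfold tr
  simp

theorem tr_mul_rt (f : R) {n m : ℕ} (hnm : n ≤ m) : h.tr f n m * h.rt f m = h.rt f n := by
  unfold tr
  obtain ⟨k, rfl⟩ := Nat.exists_eq_add_of_le hnm
  rw [← pow_succ, Nat.add_sub_cancel_left, Nat.sub_add_cancel (Nat.one_le_pow _ _ hp.out.pos),
    rt_add_pow]

theorem tr_succ (f : R) (n : ℕ) : h.tr f n (n + 1) = h.rt f (n + 1) ^ (p - 1) := by
  unfold tr
  simp

theorem tr_trans (f : R) {n m k : ℕ} (hnm : n ≤ m) (hmk : m ≤ k) :
    h.tr f n m * h.tr f m k = h.tr f n k := by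
  unfold tr
  obtain ⟨a, rfl⟩ := Nat.exists_eq_add_of_le hnm
  obtain ⟨b, rfl⟩ := Nat.exists_eq_add_of_le hmk
  have e1 : n + a - n = a := by omega
  have e2 : n + a + b - (n + a) = b := by omega
  have e3 : n + a + b - n = a + b := by omega
  rw [e1, e2, e3, ← rt_add_pow h f (n + a) b, ← pow_mul, ← pow_add]
  congr 1
  have h1 : 1 ≤ p ^ a := Nat.one_le_pow _ _ hp.out.pos
  have h2 : 1 ≤ p ^ b := Nat.one_le_pow _ _ hp.out.pos
  rw [pow_add, Nat.mul_sub, mul_one]
  have h3 : p ^ b ≤ p ^ b * p ^ a := Nat.le_mul_of_pos_right _ (by omega)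
  rw [mul_comm (p ^ a) (p ^ b)]
  omega

/-- the ideal generated by all roots of the elements of `S`. -/
noncomputable def pid (S : Set R) : Ideal R := Ideal.span {y | ∃ s ∈ S, ∃ n, y = h.rt s n}

theorem rt_mem_pid {S : Set R} {s : R} (hs : s ∈ S) (n : ℕ) : h.rt s n ∈ h.pid S :=
  Ideal.subset_span ⟨s, hs, n, rfl⟩

theorem subset_pid {S : Set R} {s : R} (hs : s ∈ S) : s ∈ h.pid S := h.rt_mem_pid hs 0

theorem pid_le_iff {S : Set R} {I : Ideal R} : h.pid S ≤ I ↔ ∀ s ∈ S, ∀ n, h.rt s n ∈ I := by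
  unfold pid
  rw [Ideal.span_le]
  constructor
  · intro hI s hs n
    exact hI ⟨s, hs, n, rfl⟩
  · rintro hI _ ⟨s, hs, n, rfl⟩
    exact hI s hs n

theorem pid_mono {S T : Set R} (hST : S ⊆ T) : h.pid S ≤ h.pid T :=
  h.pid_le_iff.2 fun _ hs n => h.rt_mem_pid (hST hs) n

theorem pid_empty : h.pid (∅ : Set R) = ⊥ := by
  rw [eq_bot_iff, pid_le_iff]
  intro s hs
  exact absurd hs (Set.notMem_empty s)

theorem pid_union (S T : Set R) : h.pid (S ∪ T) = h.pid S ⊔ h.pid T := by
  apply le_antisymm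
  · rw [pid_le_iff]
    rintro s (hs | hs) n
    · exact Ideal.mem_sup_left (h.rt_mem_pid hs n)
    · exact Ideal.mem_sup_right (h.rt_mem_pid hs n)
  · exact sup_le (h.pid_mono Set.subset_union_left) (h.pid_mono Set.subset_union_right)

theorem pid_insert (f : R) (S : Set R) : h.pid (insert f S) = h.pid S ⊔ h.pid {f} := by
  rw [Set.insert_eq, Set.union_comm, pid_union]

theorem root_mem_pid {S : Set R} {x : R} (hx : x ∈ h.pid S) : h.root x ∈ h.pid S := by
  have h1 : (h.pid S).map (h.root : R →+* R) ≤ h.pid S := by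
    unfold pid
    rw [Ideal.map_span, Ideal.span_le]
    rintro _ ⟨_, ⟨s, hs, n, rfl⟩, rfl⟩
    exact Ideal.subset_span ⟨s, hs, n + 1, rfl⟩
  exact h1 (Ideal.mem_map_of_mem _ hx)

theorem map_pid (h' : IsPerf p R') (φ : R →+* R') (S : Set R) :
    (h.pid S).map φ = h'.pid (φ '' S) := by
  unfold pid
  rw [Ideal.map_span]
  congr 1
  ext y
  constructor
  · rintro ⟨_, ⟨s, hs, n, rfl⟩, rfl⟩
    exact ⟨φ s, ⟨s, hs, rfl⟩, n, h.map_rt h' φ s n⟩
  · rintro ⟨_, ⟨s, hs, rfl⟩, n, rfl⟩
    exact ⟨h.rt s n, ⟨s, hs, n, rfl⟩, h.map_rt h' φ s n⟩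

/-- elements of `pid {f}` are multiples of a single root. -/
theorem mem_pid_singleton {f x : R} : x ∈ h.pid {f} ↔ ∃ n ν, x = h.rt f n * ν := by
  constructor
  · intro hx
    unfold pid at hx
    induction hx using Submodule.span_induction with
    | mem y hy =>
      obtain ⟨s, hs, n, rfl⟩ := hy
      rw [Set.mem_singleton_iff] at hs
      subst hs
      exact ⟨n, 1, (mul_one _).symm⟩
    | zero => exact ⟨0, 0, (mul_zero _).symm⟩
    | add x y _ _ hx hy =>
      obtain ⟨n, ν, rfl⟩ := hx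
      obtain ⟨m, μ, rfl⟩ := hy
      refine ⟨max n m, h.tr f n (max n m) * ν + h.tr f m (max n m) * μ, ?_⟩
      rw [← h.tr_mul_rt f (le_max_left n m), ← h.tr_mul_rt f (le_max_right n m)]
      ring
    | smul a x _ hx =>
      obtain ⟨n, ν, rfl⟩ := hx
      exact ⟨n, a * ν, by rw [smul_eq_mul]; ring⟩
  · rintro ⟨n, ν, rfl⟩
    exact (h.pid {f}).mul_mem_right ν (h.rt_mem_pid (Set.mem_singleton f) n)

include h in
/-- quotient of a perfect ring by a root-closed ideal. -/
theorem quot (I : Ideal R) (hI : ∀ x ∈ I, h.root x ∈ I) : IsPerf p (R ⧸ I) where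
  char := by rw [← map_natCast (Ideal.Quotient.mk I), h.char, map_zero]
  bij := by
    constructor
    · intro x y hxy
      obtain ⟨x, rfl⟩ := Ideal.Quotient.mk_surjective x
      obtain ⟨y, rfl⟩ := Ideal.Quotient.mk_surjective y
      change Ideal.Quotient.mk I x ^ p = Ideal.Quotient.mk I y ^ p at hxy
      rw [← map_pow, ← map_pow, Ideal.Quotient.eq, ← h.sub_pow] at hxy
      rw [Ideal.Quotient.eq, ← h.root_pow' (x - y)]
      exact hI _ hxy
    · intro x
      obtain ⟨x, rfl⟩ := Ideal.Quotient.mk_surjective x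
      refine ⟨Ideal.Quotient.mk I (h.root x), ?_⟩
      change Ideal.Quotient.mk I (h.root x) ^ p = _
      rw [← map_pow, root_pow]

theorem quot_pid (S : Set R) : IsPerf p (R ⧸ h.pid S) :=
  h.quot _ fun _ hx => h.root_mem_pid hx

theorem root_mem_ker (h' : IsPerf p R') (φ : R →+* R') {x : R} (hx : x ∈ RingHom.ker φ) :
    h.root x ∈ RingHom.ker φ := by
  rw [RingHom.mem_ker] at hx ⊢
  rw [h.map_root h', hx, map_zero]

end IsPerf

section tensor

open TensorProduct

variable (p)

/-- Frobenius of a `ZMod p`-algebra as an algebra map. -/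
noncomputable def frobAlg (R : Type*) [CommRing R] [Algebra (ZMod p) R] : R →ₐ[ZMod p] R :=
  { frobHom (p := p) (R := R) (by
      rw [← map_natCast (algebraMap (ZMod p) R), ZMod.natCast_self, map_zero]) with
    commutes' := fun c => by
      change (algebraMap (ZMod p) R c) ^ p = _
      rw [← map_pow, ZMod.pow_card] }

@[simp] theorem frobAlg_apply (R : Type*) [CommRing R] [Algebra (ZMod p) R] (x : R) :
    frobAlg p R x = x ^ p := rfl

variable {p}

theorem IsPerf.of_zmod_algebra (R : Type*) [CommRing R] [Algebra (ZMod p) R]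
    (hb : Function.Bijective (frobAlg p R)) : IsPerf p R where
  char := by rw [← map_natCast (algebraMap (ZMod p) R), ZMod.natCast_self, map_zero]
  bij := hb

/-- tensor product over `ZMod p` of perfect rings is perfect. -/
theorem IsPerf.tensor (A B : Type*) [CommRing A] [CommRing B] [Algebra (ZMod p) A]
    [Algebra (ZMod p) B] (hA : IsPerf p A) (hB : IsPerf p B) : IsPerf p (A ⊗[ZMod p] B) := by
  apply IsPerf.of_zmod_algebra
  let eA : A ≃ₐ[ZMod p] A := AlgEquiv.ofBijective (frobAlg p A) hA.bij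
  let eB : B ≃ₐ[ZMod p] B := AlgEquiv.ofBijective (frobAlg p B) hB.bij
  have h1 : frobAlg p (A ⊗[ZMod p] B) =
      (Algebra.TensorProduct.congr eA eB : A ⊗[ZMod p] B →ₐ[ZMod p] A ⊗[ZMod p] B) := by
    apply Algebra.TensorProduct.ext'
    intro a b
    simp only [frobAlg_apply, Algebra.TensorProduct.tmul_pow]
    rfl
  rw [h1]
  exact (Algebra.TensorProduct.congr eA eB).bijective

end tensor

end Groth.Agent.Lib.helper12.Perf
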