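import Groth.Agent.Lib.Helper12.Perf1

/-!
# helper12: the ideal `(f^(1/p^∞))` of a perfect ring stays injective after tensoring with a
perfect algebra
-/

set_option autoImplicit false
universe u v

namespace Groth.Agent.Lib.helper12.Perf

open TensorProduct

variable {p : ℕ} [hp : Fact p.Prime]

section

variable (A : Type*) [CommRing A] {N : Type*} [CommRing N] [Algebra A N] (hN : IsPerf p N) (f : N)

/-- the ideal `(f^(1/p^∞))` as an `A`-submodule. -/
noncomputable abbrev pidSub : Submodule A N := (hN.pid {f}).restrictScalars A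

/-- `ν ↦ f^(1/p^n) ν` as a map into the ideal. -/
noncomputable def mu (n : ℕ) : N →ₗ[A] ↥(pidSub A hN f) :=
  (LinearMap.mulLeft A (hN.rt f n)).codRestrict (pidSub A hN f) (fun ν =>
    (hN.pid {f}).mul_mem_right ν (hN.rt_mem_pid (Set.mem_singleton f) n))

theorem mu_coe (n : ℕ) (ν : N) : ((mu A hN f n ν : ↥(pidSub A hN f)) : N) = hN.rt f n * ν := rfl

theorem subtype_comp_mu (n : ℕ) :
    (pidSub A hN f).subtype ∘ₗ mu A hN f n = LinearMap.mulLeft A (hN.rt f n) := by
  ext ν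
  rfl

theorem mu_comp_mulLeft {n m : ℕ} (hnm : n ≤ m) :
    mu A hN f m ∘ₗ LinearMap.mulLeft A (hN.tr f n m) = mu A hN f n := by
  ext ν
  change hN.rt f m * (hN.tr f n m * ν) = hN.rt f n * ν
  rw [← mul_assoc, mul_comm (hN.rt f m), hN.tr_mul_rt f hnm]

theorem exists_mu_eq (j : ↥(pidSub A hN f)) : ∃ n ν, mu A hN f n ν = j := by
  obtain ⟨n, ν, hν⟩ := hN.mem_pid_singleton.1 j.2
  exact ⟨n, ν, Subtype.ext hν.symm⟩

theorem mu_eq_mu_iff {n : ℕ} {ν ν' : N} (h : mu A hN f n ν = mu A hN f n ν') :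
    hN.tr f n (n + 1) * ν = hN.tr f n (n + 1) * ν' := by
  have h1 : hN.rt f n * (ν - ν') = 0 := by
    have := congrArg Subtype.val h
    rw [mu_coe, mu_coe] at this
    rw [mul_sub, this, sub_self]
  have h2 := hN.key f (ν - ν') n h1
  rw [← hN.tr_succ, mul_sub, sub_eq_zero] at h2
  exact h2

variable {C : Type*} [CommRing C] [Algebra A C]

theorem lTensor_mulLeft (g : N) (y : C ⊗[A] N) :
    LinearMap.lTensor C (LinearMap.mulLeft A g) y = ((1 : C) ⊗ₜ[A] g) * y := by
  induction y using TensorProduct.induction_on with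
  | zero => simp
  | tmul c ν =>
    rw [LinearMap.lTensor_tmul, Algebra.TensorProduct.tmul_mul_tmul, one_mul]
    rfl
  | add x y hx hy => rw [map_add, hx, hy, mul_add]

theorem exists_lTensor_mu_eq (x : C ⊗[A] ↥(pidSub A hN f)) :
    ∃ n y, LinearMap.lTensor C (mu A hN f n) y = x := by
  induction x using TensorProduct.induction_on with
  | zero => exact ⟨0, 0, map_zero _⟩
  | tmul c j =>
    obtain ⟨n, ν, rfl⟩ := exists_mu_eq A hN f j
    exact ⟨n, c ⊗ₜ ν, rfl⟩
  | add x x' hx hx' =>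
    obtain ⟨n, y, rfl⟩ := hx
    obtain ⟨m, y', rfl⟩ := hx'
    refine ⟨max n m, LinearMap.lTensor C (LinearMap.mulLeft A (hN.tr f n (max n m))) y +
      LinearMap.lTensor C (LinearMap.mulLeft A (hN.tr f m (max n m))) y', ?_⟩
    rw [map_add, ← LinearMap.comp_apply, ← LinearMap.comp_apply, ← LinearMap.lTensor_comp,
      ← LinearMap.lTensor_comp, mu_comp_mulLeft A hN f (le_max_left n m),
      mu_comp_mulLeft A hN f (le_max_right n m)]

/-- `C ⊗ (f^(1/p^∞)) → C ⊗ N` is injective when `C ⊗ N` is perfect. -/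
theorem lTensor_subtype_injective (hD : IsPerf p (C ⊗[A] N)) :
    Function.Injective (LinearMap.lTensor C (pidSub A hN f).subtype) := by
  rw [injective_iff_map_eq_zero]
  intro x hx
  obtain ⟨n, y, rfl⟩ := exists_lTensor_mu_eq A hN f x
  rw [← LinearMap.comp_apply, ← LinearMap.lTensor_comp, subtype_comp_mu, lTensor_mulLeft] at hx
  have h1 : ((1 : C) ⊗ₜ[A] hN.rt f n : C ⊗[A] N) = hD.rt ((1 : C) ⊗ₜ[A] f) n :=
    hN.map_rt hD (Algebra.TensorProduct.includeRight : N →ₐ[A] C ⊗[A] N).toRingHom f n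
  rw [h1] at hx
  have h2 := hD.key _ _ n hx
  have h3 : hD.rt ((1 : C) ⊗ₜ[A] f) (n + 1) ^ (p - 1) = (1 : C) ⊗ₜ[A] hN.tr f n (n + 1) := by
    have : ((1 : C) ⊗ₜ[A] hN.rt f (n + 1) : C ⊗[A] N) = hD.rt ((1 : C) ⊗ₜ[A] f) (n + 1) :=
      hN.map_rt hD (Algebra.TensorProduct.includeRight : N →ₐ[A] C ⊗[A] N).toRingHom f (n + 1)
    rw [← this, Algebra.TensorProduct.tmul_pow, one_pow, hN.tr_succ]
  rw [h3, ← lTensor_mulLeft] at h2
  rw [← mu_comp_mulLeft A hN f (Nat.le_succ n), LinearMap.lTensor_comp, LinearMap.comp_apply, h2,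
    map_zero]

end

end Groth.Agent.Lib.helper12.Perf
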