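import Groth.Agent.Lib.Helper12.Perf2
import Groth.Agent.Lib.Helper7.TorAPI2
import Groth.Agent.Lib.Helper7.ModSES
import Groth.Agent.Lib.Helper10.TorColim

/-!
# helper12: Tor-vanishing for quotients of perfect rings by `(f^(1/p^∞))`
-/

set_option autoImplicit false
universe u

namespace Groth.Agent.Lib.helper12.Perf

open CategoryTheory CategoryTheory.Limits TensorProduct MonoidalCategory
open Groth.Agent.Lib.helper7.TorAPI

variable {A : Type u} [CommRing A]

/-- recognizing filtered colimits in `ModuleCat` elementwise. -/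
noncomputable def isColimitOfConcrete {J : Type u} [SmallCategory J] [IsFiltered J]
    {F : J ⥤ ModuleCat.{u} A} (t : Cocone F)
    (hsurj : ∀ x : t.pt, ∃ i, ∃ xi : F.obj i, x = t.ι.app i xi)
    (hinj : ∀ i (x y : F.obj i), t.ι.app i x = t.ι.app i y →
      ∃ k, ∃ f : i ⟶ k, F.map f x = F.map f y) : IsColimit t := by
  have : ReflectsColimitsOfShape J (forget (ModuleCat.{u} A)) :=
    reflectsColimitsOfShape_of_reflectsIsomorphisms
  apply isColimitOfReflects (forget (ModuleCat.{u} A))
  apply Types.FilteredColimit.isColimitOf'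
  · intro x
    obtain ⟨i, xi, h⟩ := hsurj x
    exact ⟨i, xi, h⟩
  · intro i x y h
    obtain ⟨k, f, hf⟩ := hinj i x y h
    exact ⟨k, f, hf⟩

/-- `Tor_i(-, C)` of a filtered colimit of `Tor_i(-, C)`-acyclic modules vanishes. -/
theorem isZero_T_of_isColimit {J : Type u} [SmallCategory J] [IsFiltered J]
    {F : J ⥤ ModuleCat.{u} A} (c : Cocone F) (hc : IsColimit c) (C : ModuleCat.{u} A) (i : ℕ)
    (h : ∀ j, IsZero ((T i (F.obj j)).obj C)) : IsZero ((T i c.pt).obj C) := by
  have := Groth.Agent.Lib.helper10.TorColim.preservesColimitsOfShape_tor_flip i C J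
  have hc' := isColimitOfPreserves ((Tor (ModuleCat.{u} A) i).flip.obj C) hc
  rw [IsZero.iff_id_eq_zero]
  apply hc'.hom_ext
  intro j
  exact (h j).eq_of_src _ _

variable {p : ℕ} [hp : Fact p.Prime]

section seq

variable (A) {N : Type u} [CommRing N] [Algebra A N] (hN : IsPerf p N) (f : N)

/-- the sequence `N → N → ⋯` with transition maps multiplication by `f^(1/p^n - 1/p^(n+1))`. -/
noncomputable def seqF : ULift.{u} ℕ ⥤ ModuleCat.{u} A where
  obj _ := ModuleCat.of A N
  map {i j} _ := ModuleCat.ofHom (LinearMap.mulLeft A (hN.tr f i.down j.down))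
  map_id i := by
    ext x
    change hN.tr f i.down i.down * x = x
    rw [hN.tr_self, one_mul]
  map_comp {i j k} g g' := by
    have h1 : i.down ≤ j.down := ULift.down_le.2 (leOfHom g)
    have h2 : j.down ≤ k.down := ULift.down_le.2 (leOfHom g')
    ext x
    change hN.tr f i.down k.down * x = hN.tr f j.down k.down * (hN.tr f i.down j.down * x)
    rw [← hN.tr_trans f h1 h2]
    ring

/-- the cocone on the ideal `(f^(1/p^∞))`. -/
noncomputable def seqCocone : Cocone (seqF A hN f) where
  pt := ModuleCat.of A ↥(pidSub A hN f)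
  ι :=
    { app := fun i => ModuleCat.ofHom (mu A hN f i.down)
      naturality := fun i j g => by
        have h1 : i.down ≤ j.down := ULift.down_le.2 (leOfHom g)
        ext (x : N)
        apply Subtype.ext
        change hN.rt f j.down * (hN.tr f i.down j.down * x) = hN.rt f i.down * x
        rw [← mul_assoc, mul_comm (hN.rt f j.down), hN.tr_mul_rt f h1] }

/-- the ideal `(f^(1/p^∞))` is the colimit of the sequence. -/
noncomputable def seqIsColimit : IsColimit (seqCocone A hN f) := by
  apply isColimitOfConcrete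
  · intro x
    obtain ⟨n, ν, h⟩ := exists_mu_eq A hN f x
    exact ⟨⟨n⟩, ν, h.symm⟩
  · intro i x y h
    refine ⟨⟨i.down + 1⟩, homOfLE (Nat.le_succ i.down), ?_⟩
    exact mu_eq_mu_iff A hN f h

theorem isZero_T_pid (C : ModuleCat.{u} A) (i : ℕ)
    (h : IsZero ((T i (ModuleCat.of A N)).obj C)) :
    IsZero ((T i (ModuleCat.of A ↥(pidSub A hN f))).obj C) :=
  isZero_T_of_isColimit (seqCocone A hN f) (seqIsColimit A hN f) C i (fun _ => h)

end seq

section good

variable (p) (A) (C : Type u) [CommRing C] [Algebra A C]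

/-- a perfect `A`-algebra `N` with `C ⊗ N` perfect and `Tor_i^A(N, C) = 0` for `i > 0`. -/
structure Good (N : Type u) [CommRing N] [Algebra A N] : Prop where
  perf : IsPerf p N
  perfT : IsPerf p (C ⊗[A] N)
  tor : ∀ i : ℕ, IsZero ((T (i + 1) (ModuleCat.of A N)).obj (ModuleCat.of A C))

variable {p A C} {N N' : Type u} [CommRing N] [Algebra A N] [CommRing N'] [Algebra A N']

omit hp in
theorem Good.of_algEquiv (hG : Good A p C N) (e : N ≃ₐ[A] N') : Good A p C N' where
  perf := hG.perf.of_ringEquiv e.toRingEquiv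
  perfT := hG.perfT.of_ringEquiv
    (Algebra.TensorProduct.congr (AlgEquiv.refl : C ≃ₐ[A] C) e).toRingEquiv
  tor i := (hG.tor i).of_iso
    (((Tor (ModuleCat.{u} A) (i + 1)).mapIso e.toLinearEquiv.toModuleIso).app
      (ModuleCat.of A C)).symm

theorem Good.quot_singleton (hG : Good A p C N) (f : N) : Good A p C (N ⧸ hG.perf.pid {f}) := by
  have hN := hG.perf
  have hD := hG.perfT
  refine ⟨hN.quot_pid _, ?_, ?_⟩
  · -- `C ⊗ (N/J) ≅ (C ⊗ N)/J^e`
    have e := Algebra.TensorProduct.tensorQuotientEquiv (R := A) A N C (hN.pid {f})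
    have h1 : (hN.pid {f}).map (Algebra.TensorProduct.includeRight (R := A) (A := C) (B := N)) =
        hD.pid {(1 : C) ⊗ₜ[A] f} := by
      have := hN.map_pid hD
        (Algebra.TensorProduct.includeRight : N →ₐ[A] C ⊗[A] N).toRingHom {f}
      rw [Set.image_singleton] at this
      exact this
    have h2 : IsPerf p ((C ⊗[A] N) ⧸ (hN.pid {f}).map
        (Algebra.TensorProduct.includeRight (R := A) (A := C) (B := N))) := by
      rw [h1]
      exact hD.quot_pid _
    exact h2.of_ringEquiv e.symm.toRingEquiv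
  · -- Tor
    have hS := Groth.Agent.Lib.helper7.ModSES.mkSES_shortExact (A := A)
      (pidSub A hN f).subtype (Ideal.Quotient.mkₐ A (hN.pid {f})).toLinearMap
      (by
        intro y
        change Ideal.Quotient.mk (hN.pid {f}) y = 0 ↔ _
        rw [Ideal.Quotient.eq_zero_iff_mem]
        constructor
        · intro hy
          exact ⟨⟨y, hy⟩, rfl⟩
        · rintro ⟨z, rfl⟩
          exact z.2)
      (Submodule.injective_subtype _) Ideal.Quotient.mk_surjective
    intro i
    rcases i with _ | k
    · refine (isZero_one_iff₁ hS (ModuleCat.of A C) (hG.tor 0)).2 ?_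
      rw [ModuleCat.mono_iff_injective]
      change Function.Injective (LinearMap.rTensor C (pidSub A hN f).subtype)
      rw [← LinearMap.lTensor_inj_iff_rTensor_inj]
      exact lTensor_subtype_injective A hN f hD
    · refine (isZero_succ_iff₁ hS (ModuleCat.of A C) (k + 1) (hG.tor (k + 1)) (hG.tor k)).2 ?_
      exact isZero_T_pid A hN f (ModuleCat.of A C) (k + 1) (hG.tor k)

end good

end Groth.Agent.Lib.helper12.Perf
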