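import Groth.Agent.Lib.Helper12.Perf3

/-!
# helper12: `Tor_i^A(B, C) = 0` for perfect rings `C ← A → B` of characteristic `p`
-/

set_option autoImplicit false
universe u

namespace Groth.Agent.Lib.helper12.Perf

open CategoryTheory CategoryTheory.Limits TensorProduct MonoidalCategory
open Groth.Agent.Lib.helper7.TorAPI

variable {A : Type u} [CommRing A] {p : ℕ} [hp : Fact p.Prime]

section finset

variable {C : Type u} [CommRing C] [Algebra A C] {N : Type u} [CommRing N] [Algebra A N]

open scoped Classical in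
theorem Good.quot_finset (hG : Good A p C N) (S : Finset N) :
    Good A p C (N ⧸ hG.perf.pid (S : Set N)) := by
  have hN := hG.perf
  induction S using Finset.induction_on with
  | empty =>
    have h0 : hN.pid ((∅ : Finset N) : Set N) = ⊥ := by
      rw [Finset.coe_empty, IsPerf.pid_empty]
    exact hG.of_algEquiv
      ((AlgEquiv.quotientBot A N).symm.trans (Ideal.quotientEquivAlgOfEq A h0.symm))
  | insert f S hf ih =>
    have h1 := ih.quot_singleton (Ideal.Quotient.mk (hN.pid (S : Set N)) f)
    have e1 : ih.perf.pid {Ideal.Quotient.mk (hN.pid (S : Set N)) f} =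
        (hN.pid {f}).map (Ideal.Quotient.mkₐ A (hN.pid (S : Set N))) := by
      have := hN.map_pid ih.perf (Ideal.Quotient.mk (hN.pid (S : Set N))) {f}
      rw [Set.image_singleton] at this
      exact this.symm
    have e2 : hN.pid (S : Set N) ⊔ hN.pid {f} = hN.pid ((insert f S : Finset N) : Set N) := by
      rw [Finset.coe_insert, IsPerf.pid_insert]
    exact h1.of_algEquiv ((Ideal.quotientEquivAlgOfEq A e1).trans
      ((DoubleQuot.quotQuotEquivQuotSupₐ A _ _).trans (Ideal.quotientEquivAlgOfEq A e2)))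

end finset

section colim

variable (A) {N B : Type u} [CommRing N] [Algebra A N] [CommRing B] [Algebra A B]
  (hN : IsPerf p N) (hB : IsPerf p B) (π : N →ₐ[A] B)

include hB in
theorem rt_mem_ker {s : N} (hs : s ∈ RingHom.ker (π : N →+* B)) (n : ℕ) :
    hN.rt s n ∈ RingHom.ker (π : N →+* B) := by
  induction n with
  | zero => exact hs
  | succ n ih => exact hN.root_mem_ker hB _ ih

open scoped Classical in
/-- the generators attached to a finite subset of the kernel. -/
noncomputable def gens (S : Finset ↥(RingHom.ker (π : N →+* B))) : Finset N :=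
  S.image Subtype.val

theorem gens_mono {S T : Finset ↥(RingHom.ker (π : N →+* B))} (h : S ≤ T) :
    (gens A π S : Set N) ⊆ gens A π T := by
  classical
  intro x hx
  unfold gens at hx ⊢
  rw [Finset.mem_coe] at hx ⊢
  exact Finset.image_subset_image h hx

include hB in
theorem pid_gens_le (S : Finset ↥(RingHom.ker (π : N →+* B))) :
    hN.pid (gens A π S : Set N) ≤ RingHom.ker (π : N →+* B) := by
  classical
  rw [IsPerf.pid_le_iff]
  intro s hs n
  unfold gens at hs
  rw [Finset.mem_coe, Finset.mem_image] at hs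
  obtain ⟨⟨s, hs'⟩, _, rfl⟩ := hs
  exact rt_mem_ker A hN hB π hs' n

/-- transition maps. -/
noncomputable def fac {S T : Finset ↥(RingHom.ker (π : N →+* B))} (h : S ≤ T) :
    (N ⧸ hN.pid (gens A π S : Set N)) →ₗ[A] (N ⧸ hN.pid (gens A π T : Set N)) :=
  (Ideal.Quotient.factorₐ A (hN.pid_mono (gens_mono A π h))).toLinearMap

theorem fac_mk {S T : Finset ↥(RingHom.ker (π : N →+* B))} (h : S ≤ T) (x : N) :
    fac A hN π h (Ideal.Quotient.mk _ x) = Ideal.Quotient.mk _ x := rfl

theorem fac_refl (S : Finset ↥(RingHom.ker (π : N →+* B))) :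
    fac A hN π (le_refl S) = LinearMap.id := by
  apply LinearMap.ext
  intro x
  obtain ⟨x, rfl⟩ := Ideal.Quotient.mk_surjective x
  rw [fac_mk]
  rfl

theorem fac_trans {S T U : Finset ↥(RingHom.ker (π : N →+* B))} (h : S ≤ T) (h' : T ≤ U) :
    fac A hN π (h.trans h') = fac A hN π h' ∘ₗ fac A hN π h := by
  apply LinearMap.ext
  intro x
  obtain ⟨x, rfl⟩ := Ideal.Quotient.mk_surjective x
  rw [LinearMap.comp_apply, fac_mk, fac_mk, fac_mk]

/-- the diagram `S ↦ N / (S^(1/p^∞))`. -/
noncomputable def finF : Finset ↥(RingHom.ker (π : N →+* B)) ⥤ ModuleCat.{u} A where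
  obj S := ModuleCat.of A (N ⧸ hN.pid (gens A π S : Set N))
  map {S T} g := ModuleCat.ofHom (fac A hN π (leOfHom g))
  map_id S := by
    rw [← ModuleCat.ofHom_id]
    congr 1
    exact fac_refl A hN π S
  map_comp {S T U} g g' := by
    rw [← ModuleCat.ofHom_comp]
    congr 1
    exact fac_trans A hN π (leOfHom g) (leOfHom g')

/-- the maps to `B`. -/
noncomputable def toB (S : Finset ↥(RingHom.ker (π : N →+* B))) :
    (N ⧸ hN.pid (gens A π S : Set N)) →ₗ[A] B :=
  (Ideal.Quotient.liftₐ (hN.pid (gens A π S : Set N)) π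
    (fun _ ha => pid_gens_le A hN hB π S ha)).toLinearMap

theorem toB_mk (S : Finset ↥(RingHom.ker (π : N →+* B))) (x : N) :
    toB A hN hB π S (Ideal.Quotient.mk _ x) = π x := rfl

/-- the cocone on `B`. -/
noncomputable def finCocone : Cocone (finF A hN π) where
  pt := ModuleCat.of A B
  ι :=
    { app := fun S => ModuleCat.ofHom (toB A hN hB π S)
      naturality := fun S T g => by
        ext x
        obtain ⟨x, rfl⟩ := Ideal.Quotient.mk_surjective x
        change toB A hN hB π T (fac A hN π (leOfHom g) (Ideal.Quotient.mk _ x)) =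
          toB A hN hB π S (Ideal.Quotient.mk _ x)
        rw [fac_mk, toB_mk, toB_mk] }

open scoped Classical in
noncomputable def finIsColimit (hπ : Function.Surjective π) :
    IsColimit (finCocone A hN hB π) := by
  apply isColimitOfConcrete
  · intro x
    obtain ⟨y, rfl⟩ := hπ x
    exact ⟨∅, Ideal.Quotient.mk _ y, (toB_mk A hN hB π ∅ y).symm⟩
  · intro S x y h
    obtain ⟨x, rfl⟩ := Ideal.Quotient.mk_surjective x
    obtain ⟨y, rfl⟩ := Ideal.Quotient.mk_surjective y
    have h1 : π x = π y := by
      have h' : toB A hN hB π S (Ideal.Quotient.mk _ x) = toB A hN hB π S (Ideal.Quotient.mk _ y) := h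
      rwa [toB_mk, toB_mk] at h'
    have h2 : x - y ∈ RingHom.ker (π : N →+* B) := by
      rw [RingHom.mem_ker]
      change π (x - y) = 0
      rw [map_sub, h1, sub_self]
    have hle : S ≤ insert ⟨x - y, h2⟩ S := Finset.subset_insert _ _
    refine ⟨insert ⟨x - y, h2⟩ S, homOfLE hle, ?_⟩
    change fac A hN π hle (Ideal.Quotient.mk _ x) = fac A hN π hle (Ideal.Quotient.mk _ y)
    rw [fac_mk, fac_mk, Ideal.Quotient.eq]
    apply hN.subset_pid
    unfold gens
    rw [Finset.mem_coe, Finset.mem_image]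
    exact ⟨⟨x - y, h2⟩, Finset.mem_insert_self _ _, rfl⟩

include hB in
open scoped Classical in
theorem isZero_T_of_surjective (hπ : Function.Surjective π) (C : ModuleCat.{u} A) (i : ℕ)
    (h : ∀ S : Finset N, IsZero ((T i (ModuleCat.of A (N ⧸ hN.pid (S : Set N)))).obj C)) :
    IsZero ((T i (ModuleCat.of A B)).obj C) :=
  isZero_T_of_isColimit (finCocone A hN hB π) (finIsColimit A hN hB π hπ) C i
    (fun S => h (gens A π S))

end colim

/-- **Tor-independence of perfect rings.** -/
theorem isZero_tor (p : ℕ) [Fact p.Prime] (A B C : Type u) [CommRing A] [CommRing B] [CommRing C]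
    [CharP A p] [Algebra A B] [Algebra A C]
    (hA : Function.Bijective fun a : A => a ^ p) (hB : Function.Bijective fun b : B => b ^ p)
    (hC : Function.Bijective fun c : C => c ^ p) (i : ℕ) :
    IsZero ((T (i + 1) (ModuleCat.of A B)).obj (ModuleCat.of A C)) := by
  have hA' : IsPerf p A := ⟨CharP.cast_eq_zero A p, hA⟩
  have hB' : IsPerf p B :=
    ⟨by rw [← map_natCast (algebraMap A B), CharP.cast_eq_zero, map_zero], hB⟩
  have hC' : IsPerf p C :=
    ⟨by rw [← map_natCast (algebraMap A C), CharP.cast_eq_zero, map_zero], hC⟩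
  letI : Algebra (ZMod p) A := ZMod.algebra A p
  letI : Algebra (ZMod p) B := ((algebraMap A B).comp (algebraMap (ZMod p) A)).toAlgebra
  letI : Algebra (ZMod p) C := ((algebraMap A C).comp (algebraMap (ZMod p) A)).toAlgebra
  haveI : IsScalarTower (ZMod p) A B := IsScalarTower.of_algebraMap_eq (fun _ => rfl)
  haveI : IsScalarTower (ZMod p) A C := IsScalarTower.of_algebraMap_eq (fun _ => rfl)
  have hN : IsPerf p (A ⊗[ZMod p] B) := IsPerf.tensor A B hA' hB'
  have hD : IsPerf p (C ⊗[A] (A ⊗[ZMod p] B)) :=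
    (IsPerf.tensor C B hC' hB').of_ringEquiv
      (Algebra.TensorProduct.cancelBaseChange (ZMod p) A A C B).symm.toRingEquiv
  have hG : Good A p C (A ⊗[ZMod p] B) :=
    ⟨hN, hD, fun j => isZero_T_flat (ModuleCat.of A (A ⊗[ZMod p] B)) (ModuleCat.of A C) j⟩
  let π : A ⊗[ZMod p] B →ₐ[A] B :=
    Algebra.TensorProduct.lift (Algebra.ofId A B) (AlgHom.id (ZMod p) B)
      (fun _ _ => Commute.all _ _)
  have hπ : Function.Surjective π := by
    intro b
    refine ⟨1 ⊗ₜ b, ?_⟩
    simp [π]
  exact isZero_T_of_surjective A hN hB' π hπ (ModuleCat.of A C) (i + 1)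
    (fun S => (hG.quot_finset S).tor i)

end Groth.Agent.Lib.helper12.Perf
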