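import Mathlib

/-!
# Compact objects among perfect algebras: categorical interface

Recognition of filtered colimits in a full subcategory of `Under B` on underlying types, and a
ring-level interface (`Sys`) for directed systems of `B`-algebras with a cocone, from which a
finitely presentable object yields a section.
-/

set_option autoImplicit false
universe u
open CategoryTheory Limits

namespace Groth.Agent.Lib.helper12.PerfFP

section cat

variable {B : CommRingCat.{u}} (P : ObjectProperty (Under B))

/-- recognition of filtered colimits in a full subcategory of `Under B` on underlying types. -/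
noncomputable def isColimitOfTypes {J : Type u} [SmallCategory J] [IsFiltered J]
    (D : J ⥤ P.FullSubcategory) (c : Cocone D)
    (hc : IsColimit ((forget CommRingCat).mapCocone ((Under.forget B).mapCocone (P.ι.mapCocone c)))) :
    IsColimit c := by
  haveI : IsConnected J := IsFiltered.isConnected J
  haveI : ReflectsColimit ((D ⋙ P.ι) ⋙ Under.forget B) (forget CommRingCat) :=
    reflectsColimit_of_reflectsIsomorphisms _ _
  have h1 : IsColimit ((Under.forget B).mapCocone (P.ι.mapCocone c)) :=
    isColimitOfReflects (forget CommRingCat) hc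
  have h2 : IsColimit (P.ι.mapCocone c) := isColimitOfReflects (Under.forget B) h1
  exact isColimitOfReflects P.ι h2

theorem exists_factor {J : Type u} [SmallCategory J] [IsFiltered J]
    (D : J ⥤ P.FullSubcategory) (c : Cocone D) (hc : IsColimit c)
    (A : P.FullSubcategory) [IsFinitelyPresentable.{u} A] (f : A ⟶ c.pt) :
    ∃ (j : J) (g : A ⟶ D.obj j), g ≫ c.ι.app j = f := by
  have hc' := isColimitOfPreserves (coyoneda.obj (Opposite.op A)) hc
  obtain ⟨j, g, hg⟩ := Types.jointly_surjective_of_isColimit hc' f
  exact ⟨j, g, hg⟩

end cat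

/-- a directed system of rings under `B` (all satisfying a property `Q`) with a cocone to `R`
which is jointly surjective and "eventually injective". -/
structure Sys (B R : Type u) [CommRing B] [CommRing R] (φ : B →+* R) (J : Type u) [Preorder J] where
  X : J → Type u
  [ring : ∀ j, CommRing (X j)]
  s : ∀ j, B →+* X j
  t : ∀ {i j : J}, i ≤ j → (X i →+* X j)
  t_s : ∀ {i j : J} (h : i ≤ j), (t h).comp (s i) = s j
  t_id : ∀ i, t (le_refl i) = RingHom.id _
  t_comp : ∀ {i j k : J} (h : i ≤ j) (h' : j ≤ k), (t h').comp (t h) = t (h.trans h')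
  c : ∀ j, X j →+* R
  c_s : ∀ j, (c j).comp (s j) = φ
  c_t : ∀ {i j : J} (h : i ≤ j), (c j).comp (t h) = c i
  surj : ∀ x : R, ∃ j y, c j y = x
  inj : ∀ j (y y' : X j), c j y = c j y' → ∃ k, ∃ h : j ≤ k, t h y = t h y'

attribute [instance] Sys.ring

section sect

variable {B : CommRingCat.{u}} (P : ObjectProperty (Under B)) (A : P.FullSubcategory)
  {J : Type u} [SemilatticeSup J] [Nonempty J]
  (S : Sys (↑B) (↑A.obj.right) (A.obj.hom.hom) J)
  (hP : ∀ j, P (Under.mk (CommRingCat.ofHom (S.s j))))

/-- the diagram attached to a system. -/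
noncomputable def Sys.diagram : J ⥤ P.FullSubcategory where
  obj j := ⟨Under.mk (CommRingCat.ofHom (S.s j)), hP j⟩
  map {i j} h := ObjectProperty.homMk (Under.homMk (CommRingCat.ofHom (S.t (leOfHom h))) (by
    ext x
    exact congrArg (fun f => f x) (S.t_s (leOfHom h))))
  map_id i := by
    apply ObjectProperty.hom_ext
    apply Under.UnderMorphism.ext
    ext x
    exact congrArg (fun f => f x) (S.t_id i)
  map_comp {i j k} f g := by
    apply ObjectProperty.hom_ext
    apply Under.UnderMorphism.ext
    ext x
    exact (congrArg (fun f => f x) (S.t_comp (leOfHom f) (leOfHom g))).symm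

/-- the cocone attached to a system. -/
noncomputable def Sys.cocone : Cocone (S.diagram P A hP) where
  pt := A
  ι :=
    { app := fun j => ObjectProperty.homMk (Under.homMk (CommRingCat.ofHom (S.c j)) (by
        ext x
        exact congrArg (fun f => f x) (S.c_s j)))
      naturality := fun i j h => by
        apply ObjectProperty.hom_ext
        apply Under.UnderMorphism.ext
        ext x
        exact congrArg (fun f => f x) (S.c_t (leOfHom h)) }

/-- the cocone attached to a system is a colimit cocone. -/
noncomputable def Sys.isColimit : IsColimit (S.cocone P A hP) := by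
  apply isColimitOfTypes
  refine Types.FilteredColimit.isColimitOf' _ _ (fun x => ?_) (fun i x y h => ?_)
  · obtain ⟨j, y, hy⟩ := S.surj x
    exact ⟨j, y, hy.symm⟩
  · obtain ⟨k, hk, e⟩ := S.inj i x y h
    exact ⟨k, homOfLE hk, e⟩

include hP in
theorem Sys.exists_section [IsFinitelyPresentable.{u} A] :
    ∃ (j : J) (σ : A.obj.right →+* S.X j),
      σ.comp A.obj.hom.hom = S.s j ∧ (S.c j).comp σ = RingHom.id _ := by
  obtain ⟨j, g, hg⟩ := exists_factor P (S.diagram P A hP) (S.cocone P A hP) (S.isColimit P A hP) A (𝟙 A)
  refine ⟨j, g.hom.right.hom, ?_, ?_⟩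
  · have := Under.w g.hom
    ext x
    exact congrArg (fun f => f.hom x) this
  · ext x
    exact congrArg (fun f => f.hom.right.hom x) hg

end sect

end Groth.Agent.Lib.helper12.PerfFP
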