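import Groth.Agent.Lib.Helper12.PerfFP1
import Groth.Agent.Lib.Helper12.Perf1

/-!
# Compact perfect algebras are perfectly finitely generated

More elementary algebra of perfect rings, the perfect closure `pc T` of a subring inside a perfect
ring, and the directed system of the `pc (B[S])`, `S` a finite subset.
-/

set_option autoImplicit false
universe u
open CategoryTheory Limits

namespace Groth.Agent.Lib.helper12.Perf

section alg

variable {p : ℕ} [hp : Fact p.Prime] {R : Type*} [CommRing R]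

theorem add_pow_pow_of_char (hc : (p : R) = 0) (x y : R) (n : ℕ) :
    (x + y) ^ p ^ n = x ^ p ^ n + y ^ p ^ n := by
  induction n with
  | zero => simp
  | succ n ih => rw [pow_succ, pow_mul, ih, add_pow_of_char hc, ← pow_mul, ← pow_mul]

theorem sub_pow_pow_of_char (hc : (p : R) = 0) (x y : R) (n : ℕ) :
    (x - y) ^ p ^ n = x ^ p ^ n - y ^ p ^ n := by
  have := add_pow_pow_of_char hc (x - y) y n
  rw [sub_add_cancel] at this
  rw [this, add_sub_cancel_right]

variable (h : IsPerf p R)

omit hp in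
include h in
theorem IsPerf.pow_pow_inj {x y : R} (n : ℕ) (hxy : x ^ p ^ n = y ^ p ^ n) : x = y := by
  induction n generalizing x y with
  | zero => simpa using hxy
  | succ n ih =>
    rw [pow_succ, pow_mul, pow_mul] at hxy
    exact ih (h.bij.1 hxy)

include h in
theorem IsPerf.eq_zero_of_pow_pow_eq_zero {x : R} (n : ℕ) (hx : x ^ p ^ n = 0) : x = 0 :=
  h.pow_pow_inj n (by rw [hx, zero_pow (pow_ne_zero _ hp.out.ne_zero)])

theorem IsPerf.mem_pid_of_pow_mem {S : Set R} {x : R} (n : ℕ) (hx : x ^ p ^ n ∈ h.pid S) :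
    x ∈ h.pid S := by
  induction n generalizing x with
  | zero => simpa using hx
  | succ n ih =>
    rw [pow_succ', pow_mul] at hx
    have := h.root_mem_pid (ih hx)
    rwa [h.root_pow'] at this

theorem IsPerf.rt_pow_pow (f : R) (n : ℕ) : h.rt f n ^ p ^ n = f := by
  have := h.rt_add_pow f 0 n
  rw [zero_add] at this
  rw [this]
  rfl

/-- an element of the perfect ideal generated by `S` has a `p`-power power in the span of `S`. -/
theorem IsPerf.exists_pow_mem_span_of_mem_pid {S : Set R} {x : R} (hx : x ∈ h.pid S) :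
    ∃ N, x ^ p ^ N ∈ Ideal.span S := by
  suffices H : ∃ N, ∀ M, N ≤ M → x ^ p ^ M ∈ Ideal.span S by
    obtain ⟨N, hN⟩ := H
    exact ⟨N, hN N le_rfl⟩
  unfold IsPerf.pid at hx
  induction hx using Submodule.span_induction with
  | mem y hy =>
    obtain ⟨s, hs, n, rfl⟩ := hy
    refine ⟨n, fun M hM => ?_⟩
    obtain ⟨k, rfl⟩ := Nat.exists_eq_add_of_le hM
    rw [pow_add, pow_mul, h.rt_pow_pow]
    exact Ideal.pow_mem_of_mem _ (Ideal.subset_span hs) _ (pow_pos hp.out.pos _)
  | zero => exact ⟨0, fun M _ => by rw [zero_pow (pow_ne_zero _ hp.out.ne_zero)]; exact zero_mem _⟩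
  | add x y _ _ hx hy =>
    obtain ⟨N, hN⟩ := hx
    obtain ⟨N', hN'⟩ := hy
    refine ⟨max N N', fun M hM => ?_⟩
    rw [add_pow_pow_of_char h.char]
    exact add_mem (hN M (le_trans (le_max_left _ _) hM)) (hN' M (le_trans (le_max_right _ _) hM))
  | smul a x _ hx =>
    obtain ⟨N, hN⟩ := hx
    refine ⟨N, fun M hM => ?_⟩
    rw [smul_eq_mul, mul_pow]
    exact Ideal.mul_mem_left _ _ (hN M hM)

end alg

end Groth.Agent.Lib.helper12.Perf

namespace Groth.Agent.Lib.helper12.PerfFP

open Groth.Agent.Lib.helper12.Perf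

section pc

variable (p : ℕ) [hp : Fact p.Prime] {R : Type u} [CommRing R] (h : IsPerf p R)

include h in
/-- the perfect closure of a subring inside a perfect ring. -/
def pc (T : Subring R) : Subring R where
  carrier := {x | ∃ n, x ^ p ^ n ∈ T}
  mul_mem' := by
    rintro x y ⟨n, hn⟩ ⟨m, hm⟩
    refine ⟨n + m, ?_⟩
    rw [mul_pow, pow_add, pow_mul, mul_comm (p ^ n), pow_mul]
    exact T.mul_mem (T.pow_mem hn _) (T.pow_mem hm _)
  one_mem' := ⟨0, by simp⟩
  add_mem' := by
    rintro x y ⟨n, hn⟩ ⟨m, hm⟩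
    refine ⟨n + m, ?_⟩
    rw [add_pow_pow_of_char h.char, pow_add, pow_mul, mul_comm (p ^ n), pow_mul]
    exact T.add_mem (T.pow_mem hn _) (T.pow_mem hm _)
  zero_mem' := ⟨0, by simp⟩
  neg_mem' := by
    rintro x ⟨n, hn⟩
    refine ⟨n, ?_⟩
    rw [neg_pow]
    exact T.mul_mem (T.pow_mem (T.neg_mem T.one_mem) _) hn

theorem mem_pc {T : Subring R} {x : R} : x ∈ pc p h T ↔ ∃ n, x ^ p ^ n ∈ T := Iff.rfl

theorem le_pc (T : Subring R) : T ≤ pc p h T := fun x hx => ⟨0, by simpa using hx⟩

theorem pc_mono {T T' : Subring R} (hT : T ≤ T') : pc p h T ≤ pc p h T' :=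
  fun _ ⟨n, hn⟩ => ⟨n, hT hn⟩

theorem isPerf_pc (T : Subring R) : IsPerf p (pc p h T) where
  char := by
    apply Subtype.ext
    rw [Subring.coe_natCast, h.char]
    rfl
  bij := by
    constructor
    · intro x y hxy
      apply Subtype.ext
      apply h.bij.1
      exact congrArg Subtype.val hxy
    · intro x
      obtain ⟨n, hn⟩ := x.2
      refine ⟨⟨h.root x.1, n + 1, ?_⟩, ?_⟩
      · rw [pow_succ', pow_mul, h.root_pow]
        exact hn
      · apply Subtype.ext
        exact h.root_pow x.1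

end pc

/-- the property "perfect of characteristic `p`" on `Under B`. -/
abbrev PerfProp (p : ℕ) (B : CommRingCat.{u}) : ObjectProperty (Under B) :=
  fun Y => (p : Y.right) = 0 ∧ Function.Bijective fun y : Y.right => y ^ p

section sys1

variable (p : ℕ) [hp : Fact p.Prime] {B R : Type u} [CommRing B] [CommRing R] (φ : B →+* R)
  (h : IsPerf p R)

/-- the subring generated by the image of `B` and a set. -/
def gen (S : Set R) : Subring R := Subring.closure (Set.range φ ∪ S)

theorem gen_mono {S S' : Set R} (hS : S ⊆ S') : gen φ S ≤ gen φ S' :=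
  Subring.closure_mono (Set.union_subset_union_right _ hS)

theorem incl_id (S : Finset R) (hS : pc p h (gen φ ↑S) ≤ pc p h (gen φ ↑S)) :
    Subring.inclusion hS = RingHom.id _ := by
  ext x
  rfl

theorem incl_comp {T T' T'' : Subring R} (h1 : T ≤ T') (h2 : T' ≤ T'') :
    (Subring.inclusion h2).comp (Subring.inclusion h1) = Subring.inclusion (h1.trans h2) := by
  ext x
  rfl

theorem subtype_comp_codRestrict (T : Subring R) (hT : ∀ b, φ b ∈ T) :
    T.subtype.comp (φ.codRestrict T hT) = φ := by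
  ext x
  rfl

theorem subtype_comp_incl {T T' : Subring R} (h1 : T ≤ T') :
    T'.subtype.comp (Subring.inclusion h1) = T.subtype := by
  ext x
  rfl

/-- the directed system of perfect closures of finitely generated subalgebras. -/
noncomputable def sys1 : Sys B R φ (Finset R) where
  X S := ↥(pc p h (gen φ ↑S))
  s S := φ.codRestrict (pc p h (gen φ ↑S))
    (fun b => le_pc p h _ (Subring.subset_closure (Or.inl ⟨b, rfl⟩)))
  t {S S'} hSS' := Subring.inclusion (pc_mono p h (gen_mono φ (Finset.coe_subset.2 hSS')))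
  t_s _ := RingHom.ext fun _ => Subtype.ext rfl
  t_id S := incl_id p φ h S _
  t_comp _ _ := incl_comp _ _
  c S := (pc p h (gen φ ↑S)).subtype
  c_s _ := subtype_comp_codRestrict φ _ _
  c_t _ := subtype_comp_incl _
  surj x := ⟨{x}, ⟨x, le_pc p h _ (Subring.subset_closure (Or.inr (by simp)))⟩, rfl⟩
  inj S y y' hy := ⟨S, le_rfl, congrArg _ (Subtype.ext hy)⟩

end sys1

/-- a compact perfect `B`-algebra is perfectly finitely generated. -/
theorem exists_finset_gen (p : ℕ) [hp : Fact p.Prime] {B : CommRingCat.{u}}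
    (A : (PerfProp p B).FullSubcategory) [IsFinitelyPresentable.{u} A] :
    ∃ S : Finset A.obj.right, ∀ x : A.obj.right, ∃ n, x ^ p ^ n ∈ gen A.obj.hom.hom (↑S) := by
  classical
  have h : IsPerf p A.obj.right := ⟨A.property.1, A.property.2⟩
  let S1 := sys1 p A.obj.hom.hom h
  have hP : ∀ j, PerfProp p B (Under.mk (CommRingCat.ofHom (S1.s j))) := fun j =>
    ⟨(isPerf_pc p h _).char, (isPerf_pc p h _).bij⟩
  obtain ⟨S, σ, -, hσ⟩ := S1.exists_section (PerfProp p B) A hP
  refine ⟨S, fun x => ?_⟩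
  have hx : S1.c S (σ x) = x := congrArg (fun f => f x) hσ
  rw [← hx]
  exact (show ↥(pc p h (gen A.obj.hom.hom ↑S)) from σ x).2

end Groth.Agent.Lib.helper12.PerfFP
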