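import Groth.Agent.Lib.Helper12.PerfFP2

/-!
# Compact perfect algebras are perfectly finitely presented (step 2)

The directed system `Qp ⧸ pid (of '' T)`, `T` a finite subset of the kernel of `k₀ : Q → R`,
where `Qp` is the perfect closure of the polynomial ring `Q`.
-/

set_option autoImplicit false
universe u
open CategoryTheory Limits

namespace Groth.Agent.Lib.helper12.PerfFP

open Groth.Agent.Lib.helper12.Perf

section pclos

variable (K : Type u) [CommRing K] (p : ℕ) [hp : Fact p.Prime] [CharP K p]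

theorem isPerf_perfectClosure : IsPerf p (PerfectClosure K p) where
  char := CharP.cast_eq_zero _ p
  bij := bijective_frobenius (PerfectClosure K p) p

theorem exists_pow_eq_of (z : PerfectClosure K p) :
    ∃ (n : ℕ) (q : K), z ^ p ^ n = PerfectClosure.of K p q := by
  induction z using PerfectClosure.induction_on with
  | _ x =>
    obtain ⟨n, q⟩ := x
    refine ⟨n, q, ?_⟩
    rw [← PerfectClosure.iterate_frobenius_mk, iterate_frobenius]

theorem exists_pow_eq_of_of_eq {q q' : K}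
    (hq : PerfectClosure.of K p q = PerfectClosure.of K p q') :
    ∃ m : ℕ, q ^ p ^ m = q' ^ p ^ m := by
  rw [PerfectClosure.of_apply, PerfectClosure.of_apply, PerfectClosure.mk_eq_iff] at hq
  obtain ⟨z, hz⟩ := hq
  simp only [zero_add, iterate_frobenius] at hz
  exact ⟨z, hz⟩

/-- an element of the ideal generated by the image of an ideal `𝔞` has a `p`-power power in the
image of `𝔞`. -/
theorem exists_pow_eq_of_mem_map (𝔞 : Ideal K) {x : PerfectClosure K p}
    (hx : x ∈ Ideal.map (PerfectClosure.of K p) 𝔞) :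
    ∃ (M : ℕ) (q : K), q ∈ 𝔞 ∧ x ^ p ^ M = PerfectClosure.of K p q := by
  have hc := (isPerf_perfectClosure K p).char
  unfold Ideal.map at hx
  induction hx using Submodule.span_induction with
  | mem y hy =>
    obtain ⟨t, ht, rfl⟩ := hy
    exact ⟨0, t, ht, by simp⟩
  | zero => exact ⟨0, 0, zero_mem _, by simp⟩
  | add x y _ _ hx hy =>
    obtain ⟨M, q, hq, e⟩ := hx
    obtain ⟨M', q', hq', e'⟩ := hy
    refine ⟨M + M', q ^ p ^ M' + q' ^ p ^ M, add_mem (Ideal.pow_mem_of_mem _ hq _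
      (pow_pos hp.out.pos _)) (Ideal.pow_mem_of_mem _ hq' _ (pow_pos hp.out.pos _)), ?_⟩
    rw [add_pow_pow_of_char hc, map_add, map_pow, map_pow, ← e, ← e', ← pow_mul, ← pow_mul,
      ← pow_add, ← pow_add, add_comm M' M]
  | smul a x _ hx =>
    obtain ⟨M, q, hq, e⟩ := hx
    obtain ⟨n, b, hb⟩ := exists_pow_eq_of K p a
    refine ⟨n + M, b ^ p ^ M * q ^ p ^ n, Ideal.mul_mem_left _ _ (Ideal.pow_mem_of_mem _ hq _
      (pow_pos hp.out.pos _)), ?_⟩
    rw [smul_eq_mul, mul_pow, map_mul, map_pow, map_pow, ← hb, ← e, ← pow_mul, ← pow_mul,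
      ← pow_add, ← pow_add, add_comm M n]

end pclos

section sys2

variable (p : ℕ) [hp : Fact p.Prime] {B R : Type u} [CommRing B] [CommRing R] [CharP B p]
  (φ : B →+* R) (hR : IsPerf p R) [CharP R p] [PerfectRing R p]
  {σ : Type u} (k₀ : MvPolynomial σ B →+* R)

/-- the lift of `k₀` to the perfect closure of the polynomial ring. -/
noncomputable def k1 : PerfectClosure (MvPolynomial σ B) p →+* R :=
  PerfectClosure.lift (MvPolynomial σ B) p R k₀

theorem k1_of (q : MvPolynomial σ B) : k1 p k₀ (PerfectClosure.of _ p q) = k₀ q :=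
  congrArg (fun f => f q) ((PerfectClosure.lift (MvPolynomial σ B) p R).symm_apply_apply k₀)

include hR in
theorem rt_mem_ker_k1 {z : PerfectClosure (MvPolynomial σ B) p} (hz : z ∈ RingHom.ker (k1 p k₀))
    (n : ℕ) : (isPerf_perfectClosure (MvPolynomial σ B) p).rt z n ∈ RingHom.ker (k1 p k₀) := by
  induction n with
  | zero => exact hz
  | succ n ih => exact (isPerf_perfectClosure (MvPolynomial σ B) p).root_mem_ker hR _ ih

/-- the ideal attached to a finite subset of the kernel of `k₀`. -/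
noncomputable def I2 (T : Finset ↥(RingHom.ker k₀)) : Ideal (PerfectClosure (MvPolynomial σ B) p) :=
  (isPerf_perfectClosure (MvPolynomial σ B) p).pid
    (PerfectClosure.of (MvPolynomial σ B) p '' (Subtype.val '' (T : Set ↥(RingHom.ker k₀))))

theorem I2_mono {T T' : Finset ↥(RingHom.ker k₀)} (h : T ≤ T') : I2 p k₀ T ≤ I2 p k₀ T' :=
  IsPerf.pid_mono _ (Set.image_mono (Set.image_mono (Finset.coe_subset.2 h)))

include hR in
theorem I2_le_ker (T : Finset ↥(RingHom.ker k₀)) : I2 p k₀ T ≤ RingHom.ker (k1 p k₀) := by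
  unfold I2
  rw [IsPerf.pid_le_iff]
  rintro _ ⟨_, ⟨⟨q, hq⟩, _, rfl⟩, rfl⟩ n
  apply rt_mem_ker_k1 p hR k₀
  rw [RingHom.mem_ker, k1_of]
  exact hq

include hR in
theorem k1_surjective (H1 : ∀ x : R, ∃ (n : ℕ) (q : MvPolynomial σ B), k₀ q = x ^ p ^ n) :
    Function.Surjective (k1 p k₀) := by
  intro x
  obtain ⟨n, q, hq⟩ := H1 x
  refine ⟨PerfectClosure.mk _ p (n, q), ?_⟩
  apply hR.pow_pow_inj n
  rw [← map_pow, ← iterate_frobenius, PerfectClosure.iterate_frobenius_mk, k1_of, hq]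

theorem exists_mem_I2_insert [DecidableEq ↥(RingHom.ker k₀)]
    {z : PerfectClosure (MvPolynomial σ B) p} (hz : z ∈ RingHom.ker (k1 p k₀)) :
    ∃ q : ↥(RingHom.ker k₀), ∀ T, z ∈ I2 p k₀ (insert q T) := by
  obtain ⟨n, q, hq⟩ := exists_pow_eq_of _ p z
  have hq0 : q ∈ RingHom.ker k₀ := by
    rw [RingHom.mem_ker, ← k1_of p, ← hq, map_pow, RingHom.mem_ker.1 hz,
      zero_pow (pow_ne_zero _ hp.out.ne_zero)]
  refine ⟨⟨q, hq0⟩, fun T => ?_⟩
  apply IsPerf.mem_pid_of_pow_mem _ n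
  rw [hq]
  apply IsPerf.subset_pid
  exact ⟨q, ⟨⟨q, hq0⟩, by simp, rfl⟩, rfl⟩

/-- the directed system of the `Qp ⧸ I2 T`. -/
noncomputable def sys2 (hk₀ : k₀.comp MvPolynomial.C = φ)
    (H1 : ∀ x : R, ∃ (n : ℕ) (q : MvPolynomial σ B), k₀ q = x ^ p ^ n) :
    Sys B R φ (Finset ↥(RingHom.ker k₀)) where
  X T := PerfectClosure (MvPolynomial σ B) p ⧸ I2 p k₀ T
  s T := (Ideal.Quotient.mk _).comp ((PerfectClosure.of (MvPolynomial σ B) p).comp MvPolynomial.C)
  t h := Ideal.Quotient.factor (I2_mono p k₀ h)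
  t_s h := by
    rw [← RingHom.comp_assoc, Ideal.Quotient.factor_comp_mk]
  t_id T := Ideal.Quotient.factor_eq
  t_comp h h' := Ideal.Quotient.factor_comp _ _
  c T := Ideal.Quotient.lift _ (k1 p k₀) (fun z hz => I2_le_ker p hR k₀ T hz)
  c_s T := by
    rw [← hk₀]
    ext b
    simp only [RingHom.comp_apply, Ideal.Quotient.lift_mk, k1_of]
  c_t h := by
    apply Ideal.Quotient.ringHom_ext
    ext z
    simp only [RingHom.comp_apply, Ideal.Quotient.factor_mk, Ideal.Quotient.lift_mk]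
  surj x := by
    obtain ⟨z, hz⟩ := k1_surjective p hR k₀ H1 x
    exact ⟨∅, Ideal.Quotient.mk _ z, by rw [Ideal.Quotient.lift_mk, hz]⟩
  inj T y y' hy := by
    classical
    obtain ⟨z, rfl⟩ := Ideal.Quotient.mk_surjective y
    obtain ⟨z', rfl⟩ := Ideal.Quotient.mk_surjective y'
    rw [Ideal.Quotient.lift_mk, Ideal.Quotient.lift_mk, ← sub_eq_zero, ← map_sub] at hy
    obtain ⟨q, hq⟩ := exists_mem_I2_insert p k₀ (RingHom.mem_ker.2 hy)
    refine ⟨insert q T, Finset.subset_insert q T, ?_⟩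
    rw [Ideal.Quotient.factor_mk, Ideal.Quotient.factor_mk, Ideal.Quotient.eq]
    exact hq T

end sys2

end Groth.Agent.Lib.helper12.PerfFP
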