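import Groth.Agent.Lib.Helper12.PerfFP3

/-!
# Compact perfect algebras are perfectly finitely presented (step 2, the retract argument)
-/

set_option autoImplicit false
universe u
open CategoryTheory Limits

namespace Groth.Agent.Lib.helper12.PerfFP

open Groth.Agent.Lib.helper12.Perf

/-- a compact perfect `B`-algebra which is a perfect closure of the image of `k₀` from a finite
polynomial ring: the kernel of `k₀` is, up to radical, finitely generated. -/
theorem exists_finset_ker (p : ℕ) [hp : Fact p.Prime] {B : CommRingCat.{u}} [CharP B p]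
    (A : (PerfProp p B).FullSubcategory) [IsFinitelyPresentable.{u} A] [Nontrivial A.obj.right]
    {σ : Type u} [Finite σ] (k₀ : MvPolynomial σ B →+* A.obj.right)
    (hk₀ : k₀.comp MvPolynomial.C = A.obj.hom.hom)
    (H1 : ∀ x : A.obj.right, ∃ (n : ℕ) (q : MvPolynomial σ B), k₀ q = x ^ p ^ n) :
    ∃ T : Finset (MvPolynomial σ B), (∀ q ∈ T, k₀ q = 0) ∧
      ∀ q, k₀ q = 0 → ∃ m : ℕ, q ^ p ^ m ∈ Ideal.span (T : Set (MvPolynomial σ B)) := by
  classical
  have := Fintype.ofFinite σ
  have hR : IsPerf p A.obj.right := ⟨A.property.1, A.property.2⟩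
  have : CharP A.obj.right p := (CharP.charP_iff_prime_eq_zero hp.out).2 hR.char
  have : PerfectRing A.obj.right p := ⟨hR.bij⟩
  have hQp := isPerf_perfectClosure (MvPolynomial σ B) p
  let S2 := sys2 p A.obj.hom.hom hR k₀ hk₀ H1
  have hX : ∀ T, IsPerf p (S2.X T) := fun T => hQp.quot_pid _
  have hP : ∀ T, PerfProp p B (Under.mk (CommRingCat.ofHom (S2.s T))) := fun T =>
    ⟨(hX T).char, (hX T).bij⟩
  obtain ⟨T, sec, hsec1, hsec2⟩ := S2.exists_section (PerfProp p B) A hP
  -- the images of the variables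
  let xi : σ → S2.X T := fun i =>
    Ideal.Quotient.mk _ (PerfectClosure.of (MvPolynomial σ B) p (MvPolynomial.X i))
  have key : ∀ i : σ, ∃ T', ∃ h : T ≤ T', S2.t h (sec (S2.c T (xi i))) = S2.t h (xi i) :=
    fun i => S2.inj T _ _ (congrArg (fun f => f (S2.c T (xi i))) hsec2)
  choose T'i hle hi using key
  let T' := T ⊔ Finset.univ.sup T'i
  have hTT' : T ≤ T' := le_sup_left
  have hiT' : ∀ i, T'i i ≤ T' := fun i => le_sup_of_le_right (Finset.le_sup (Finset.mem_univ i))
  let f : PerfectClosure (MvPolynomial σ B) p →+* S2.X T' :=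
    (S2.t hTT').comp (Ideal.Quotient.mk _)
  let g : PerfectClosure (MvPolynomial σ B) p →+* S2.X T' :=
    (S2.t hTT').comp ((sec.comp (S2.c T)).comp (Ideal.Quotient.mk _))
  have hfg_of : f.comp (PerfectClosure.of (MvPolynomial σ B) p) =
      g.comp (PerfectClosure.of (MvPolynomial σ B) p) := by
    apply MvPolynomial.ringHom_ext
    · intro b
      have h1 : S2.c T (S2.s T b) = A.obj.hom.hom b := congrArg (fun f => f b) (S2.c_s T)
      have h2 : sec (A.obj.hom.hom b) = S2.s T b := congrArg (fun f => f b) hsec1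
      change S2.t hTT' (S2.s T b) = S2.t hTT' (sec (S2.c T (S2.s T b)))
      rw [h1, h2]
    · intro i
      change S2.t hTT' (xi i) = S2.t hTT' (sec (S2.c T (xi i)))
      rw [← S2.t_comp (hle i) (hiT' i)]
      exact congrArg (S2.t (hiT' i)) (hi i).symm
  have hfg : f = g := by
    ext z
    obtain ⟨n, q, hz⟩ := exists_pow_eq_of _ p z
    apply (hX T').pow_pow_inj n
    rw [← map_pow, ← map_pow, hz]
    exact congrArg (fun f => f q) hfg_of
  have hinj : ∀ z : PerfectClosure (MvPolynomial σ B) p, k1 p k₀ z = 0 → z ∈ I2 p k₀ T' := by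
    intro z hz
    have h1 : g z = 0 := by
      change S2.t hTT' (sec (S2.c T (Ideal.Quotient.mk _ z))) = 0
      have : S2.c T (Ideal.Quotient.mk _ z) = k1 p k₀ z := Ideal.Quotient.lift_mk _ _ _
      rw [this, hz, map_zero, map_zero]
    have h2 : f z = Ideal.Quotient.mk (I2 p k₀ T') z :=
      Ideal.Quotient.factor_mk (I2_mono p k₀ hTT') z
    rw [← hfg, h2] at h1
    exact Ideal.Quotient.eq_zero_iff_mem.1 h1
  refine ⟨T'.image Subtype.val, ?_, fun q hq => ?_⟩
  · intro q hq
    obtain ⟨q', _, rfl⟩ := Finset.mem_image.1 hq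
    exact q'.2
  · have h1 : PerfectClosure.of (MvPolynomial σ B) p q ∈ I2 p k₀ T' :=
      hinj _ (by rw [k1_of]; exact hq)
    obtain ⟨N, hN⟩ := hQp.exists_pow_mem_span_of_mem_pid h1
    rw [← Ideal.map_span] at hN
    obtain ⟨M, q', hq', e⟩ := exists_pow_eq_of_mem_map _ p _ hN
    rw [← map_pow, ← map_pow] at e
    obtain ⟨m, hm⟩ := exists_pow_eq_of_of_eq _ p e
    refine ⟨N + M + m, ?_⟩
    rw [pow_add, pow_add, pow_mul, pow_mul, hm, Finset.coe_image]
    exact Ideal.pow_mem_of_mem _ hq' _ (pow_pos hp.out.pos _)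

end Groth.Agent.Lib.helper12.PerfFP
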