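import Mathlib

/-!
# Units on affine space over a reduced base (helper12)

* `zeroSec n S : S ⟶ 𝔸(n; S)`: the zero section; `zeroSec_over`, `zeroSec_map`.
* `exists_eq_over_of_isUnit`: over an affine reduced base, every unit of `Γ(𝔸(n; S), ⊤)` comes from the base.
* `eq_one_of_isUnit_of_zeroSec`: for `X` reduced, `U ⊆ X` open, a unit of `O(π⁻¹ U)` which restricts to `1`
  along the zero section is `1`.
-/

set_option autoImplicit false
set_option linter.style.haveILetI false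
universe u
open CategoryTheory CategoryTheory.Limits AlgebraicGeometry TopologicalSpace Opposite

namespace Groth.Agent.Lib.helper12.PicAffSpace

variable (n : Type u)

/-- the zero section of affine space -/
noncomputable def zeroSec (S : Scheme.{u}) : S ⟶ 𝔸(n; S) :=
  AffineSpace.homOfVector (𝟙 S) (fun _ => 0)

@[reassoc (attr := simp)]
lemma zeroSec_over (S : Scheme.{u}) : zeroSec n S ≫ 𝔸(n; S) ↘ S = 𝟙 S :=
  AffineSpace.homOfVector_over _ _

lemma zeroSec_appTop_coord (S : Scheme.{u}) (i : n) :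
    (zeroSec n S).appTop (AffineSpace.coord S i) = 0 :=
  AffineSpace.homOfVector_appTop_coord _ _ _

lemma zeroSec_map {S T : Scheme.{u}} (f : S ⟶ T) :
    zeroSec n S ≫ AffineSpace.map n f = f ≫ zeroSec n T := by
  apply AffineSpace.hom_ext
  · rw [Category.assoc, AffineSpace.map_over, zeroSec_over_assoc, Category.assoc, zeroSec_over,
      Category.comp_id]
  · intro i
    rw [Scheme.Hom.comp_appTop, Scheme.Hom.comp_appTop, CommRingCat.comp_apply,
      CommRingCat.comp_apply, AffineSpace.map_appTop_coord, zeroSec_appTop_coord,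
      zeroSec_appTop_coord, map_zero]

/-- over an affine reduced base, every unit of `Γ(𝔸(n; S), ⊤)` comes from the base. -/
theorem exists_eq_over_of_isUnit (S : Scheme.{u}) [IsAffine S] [IsReduced S]
    (v : Γ(𝔸(n; S), ⊤)) (hv : IsUnit v) :
    ∃ r : Γ(S, ⊤), v = (𝔸(n; S) ↘ S).appTop r := by
  let E : MvPolynomial n Γ(S, ⊤) →+* Γ(𝔸(n; S), ⊤) :=
    MvPolynomial.eval₂Hom ((𝔸(n; S) ↘ S).appTop).hom (AffineSpace.coord S)
  have hiso : IsIso (CommRingCat.ofHom E) := by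
    have h1 := AffineSpace.isoOfIsAffine_hom_appTop (n := n) (S := S)
    have h2 : IsIso ((AffineSpace.isoOfIsAffine n S).hom.appTop) := by
      change IsIso ((AffineSpace.isoOfIsAffine n S).hom.app ⊤)
      infer_instance
    rw [h1] at h2
    exact IsIso.of_isIso_comp_left (Scheme.ΓSpecIso _).hom _
  have hbij : Function.Bijective E := ConcreteCategory.bijective_of_isIso (CommRingCat.ofHom E)
  let Ee := RingEquiv.ofBijective E hbij
  have hq : IsUnit (Ee.symm v) := hv.map Ee.symm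
  obtain ⟨r, -, hr⟩ := MvPolynomial.isUnit_iff_eq_C_of_isReduced.mp hq
  refine ⟨r, ?_⟩
  have h3 : v = E (MvPolynomial.C r) := by
    rw [← hr]
    exact (Ee.apply_symm_apply v).symm
  rw [h3]
  exact MvPolynomial.eval₂Hom_C _ _ r

lemma le_zeroSec_preimage (X : Scheme.{u}) (U : X.Opens) :
    U ≤ (zeroSec n X) ⁻¹ᵁ ((𝔸(n; X) ↘ X) ⁻¹ᵁ U) := by
  intro x hx
  change (𝔸(n; X) ↘ X) ((zeroSec n X) x) ∈ U
  rw [← Scheme.Hom.comp_apply, zeroSec_over]
  exact hx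

/-- for `X` reduced: a unit of `O(π⁻¹ U)` which restricts to `1` along the zero section is `1`. -/
theorem eq_one_of_isUnit_of_zeroSec (X : Scheme.{u}) [IsReduced X] (U : X.Opens)
    (u : Γ(𝔸(n; X), (𝔸(n; X) ↘ X) ⁻¹ᵁ U)) (hu : IsUnit u)
    (h1 : ((zeroSec n X).appLE ((𝔸(n; X) ↘ X) ⁻¹ᵁ U) U (le_zeroSec_preimage n X U)).hom u = 1) :
    u = 1 := by
  rw [← sub_eq_zero]
  apply (basicOpen_eq_bot_iff _).mp
  rw [eq_bot_iff]
  intro z hz
  exfalso
  have hzU : z ∈ (𝔸(n; X) ↘ X) ⁻¹ᵁ U := (𝔸(n; X)).basicOpen_le _ hz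
  obtain ⟨V, hV, hxV, hVU⟩ := exists_isAffineOpen_mem_and_subset (x := (𝔸(n; X) ↘ X) z) (U := U) hzU
  haveI : IsAffine (V : Scheme.{u}) := hV
  let h := AffineSpace.map n V.ι
  have Hpb : IsPullback h (𝔸(n; (V : Scheme.{u})) ↘ (V : Scheme.{u})) (𝔸(n; X) ↘ X) V.ι :=
    AffineSpace.isPullback_map (n := n) V.ι
  obtain ⟨w, hw1, -⟩ := Scheme.exists_preimage_of_isPullback Hpb z
    (⟨(𝔸(n; X) ↘ X) z, hxV⟩ : (V : Scheme.{u})) rfl
  have hpre : (⊤ : (𝔸(n; (V : Scheme.{u}))).Opens) ≤ h ⁻¹ᵁ ((𝔸(n; X) ↘ X) ⁻¹ᵁ U) := by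
    intro w' _
    change (𝔸(n; X) ↘ X) (h w') ∈ U
    rw [← Scheme.Hom.comp_apply, Hpb.w, Scheme.Hom.comp_apply]
    exact hVU ((𝔸(n; (V : Scheme.{u})) ↘ (V : Scheme.{u})) w').2
  let v := (h.appLE ((𝔸(n; X) ↘ X) ⁻¹ᵁ U) ⊤ hpre).hom u
  have hvu : IsUnit v := hu.map _
  obtain ⟨r, hr⟩ := exists_eq_over_of_isUnit n (V : Scheme.{u}) v hvu
  -- `r = 1`
  have hr1 : (zeroSec n (V : Scheme.{u})).appTop.hom v = r := by
    rw [hr, ← CommRingCat.comp_apply, ← Scheme.Hom.comp_appTop, zeroSec_over]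
    rfl
  have hr2 : (zeroSec n (V : Scheme.{u})).appTop.hom v = 1 := by
    have e1 : (⊤ : (V : Scheme.{u}).Opens) ≤ (zeroSec n (V : Scheme.{u})) ⁻¹ᵁ ⊤ := le_top
    have e2 : (⊤ : (V : Scheme.{u}).Opens) ≤ V.ι ⁻¹ᵁ U := fun y _ => hVU y.2
    have k1 : (zeroSec n (V : Scheme.{u})).appTop =
        (zeroSec n (V : Scheme.{u})).appLE ⊤ ⊤ e1 := by
      change (zeroSec n (V : Scheme.{u})).app ⊤ = _
      rw [Scheme.Hom.app_eq_appLE]
      rfl
    have k2 : h.appLE ((𝔸(n; X) ↘ X) ⁻¹ᵁ U) ⊤ hpre ≫ (zeroSec n (V : Scheme.{u})).appLE ⊤ ⊤ e1 =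
        (zeroSec n X).appLE ((𝔸(n; X) ↘ X) ⁻¹ᵁ U) U (le_zeroSec_preimage n X U) ≫
          V.ι.appLE U ⊤ e2 := by
      rw [Scheme.Hom.appLE_comp_appLE, Scheme.Hom.appLE_comp_appLE]
      congr 1
      exact zeroSec_map n V.ι
    rw [k1]
    change (h.appLE ((𝔸(n; X) ↘ X) ⁻¹ᵁ U) ⊤ hpre ≫
      (zeroSec n (V : Scheme.{u})).appLE ⊤ ⊤ e1).hom u = 1
    rw [k2, CommRingCat.comp_apply, h1, map_one]
  have hv1 : v = 1 := by
    rw [hr, ← hr1, hr2, map_one]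
  have hw : w ∈ (𝔸(n; (V : Scheme.{u}))).basicOpen
      ((h.appLE ((𝔸(n; X) ↘ X) ⁻¹ᵁ U) ⊤ hpre).hom (u - 1)) := by
    unfold Scheme.Hom.appLE
    rw [CommRingCat.comp_apply, Scheme.basicOpen_res, ← Scheme.preimage_basicOpen]
    refine ⟨trivial, ?_⟩
    change h w ∈ (𝔸(n; X)).basicOpen (u - 1)
    rw [hw1]
    exact hz
  rw [map_sub, map_one] at hw
  change w ∈ (𝔸(n; (V : Scheme.{u}))).basicOpen (v - 1) at hw
  rw [hv1, sub_self, Scheme.basicOpen_zero] at hw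
  exact hw

end Groth.Agent.Lib.helper12.PicAffSpace
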