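import Mathlib
import Groth.Agent.Lib.Helper12.TrivDescent4

/-!
# Triviality near a point from triviality over the local ring (helper12)

* `exists_smul_eq_one_tmul`: if `A'` consists of fractions with denominators in a submonoid `S` of `A`,
  every `z : A' ⊗[A] N` becomes `1 ⊗ m` after multiplication by an element of `S`.
* `exists_trivializing_section_of_localization`: cartesian square `X' = X ×_Y Y'` of affine schemes, `g`
  flat, `Γ(Y')` a ring of fractions of `Γ(Y)` with denominators invertible at `y`, `range g` containing the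
  generizations of `y`; if `p^* L` is trivial, then `L` is generated by a global section over `f⁻¹ D(a)`
  for some `a` with `y ∈ D(a)`.
-/

set_option autoImplicit false
set_option linter.style.haveILetI false
universe u
namespace Groth.Agent.Lib.helper12.PicAffSpace
open TensorProduct

section Algebra

variable {A A' N : Type u} [CommRing A] [CommRing A'] [Algebra A A']
  [AddCommGroup N] [Module A N]

theorem exists_smul_eq_one_tmul (S : Submonoid A)
    (hfrac : ∀ a' : A', ∃ a ∈ S, ∃ b : A, algebraMap A A' a * a' = algebraMap A A' b)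
    (z : A' ⊗[A] N) :
    ∃ a ∈ S, ∃ m : N, (algebraMap A A' a) • z = (1 : A') ⊗ₜ[A] m := by
  induction z using TensorProduct.induction_on with
  | zero => exact ⟨1, S.one_mem, 0, by rw [smul_zero, TensorProduct.tmul_zero]⟩
  | tmul a' n =>
    obtain ⟨a, ha, b, hab⟩ := hfrac a'
    refine ⟨a, ha, b • n, ?_⟩
    rw [TensorProduct.smul_tmul', smul_eq_mul, hab, TensorProduct.tmul_smul,
      TensorProduct.smul_tmul', Algebra.smul_def, mul_one]
  | add z₁ z₂ h₁ h₂ =>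
    obtain ⟨a₁, ha₁, m₁, h₁⟩ := h₁
    obtain ⟨a₂, ha₂, m₂, h₂⟩ := h₂
    refine ⟨a₁ * a₂, S.mul_mem ha₁ ha₂, a₂ • m₁ + a₁ • m₂, ?_⟩
    have e1 : (algebraMap A A' (a₁ * a₂)) • z₁ = (1 : A') ⊗ₜ[A] (a₂ • m₁) := by
      rw [map_mul, mul_comm, mul_smul, h₁, TensorProduct.tmul_smul, algebraMap_smul]
    have e2 : (algebraMap A A' (a₁ * a₂)) • z₂ = (1 : A') ⊗ₜ[A] (a₁ • m₂) := by
      rw [map_mul, mul_smul, h₂, TensorProduct.tmul_smul, algebraMap_smul]
    rw [smul_add, e1, e2, TensorProduct.tmul_add]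

end Algebra

end Groth.Agent.Lib.helper12.PicAffSpace

open CategoryTheory CategoryTheory.Limits AlgebraicGeometry TopologicalSpace Opposite TensorProduct
open Scheme.Modules
open Groth.Agent.Lib.helper8.PullbackUnit Groth.Agent.Lib.helper8.FlatBC
open Groth.Agent.Lib.helper12.AmpleDescent Groth.Agent.Lib.helper12.EpiDescent
open Groth.Agent.Lib.helper11.GenLocus Groth.Agent.Lib.helper11.SerreGG
open Groth.Agent.Lib.helper12.AmpleBasis Groth.Agent.Lib.helper12.QAffDescent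
open Groth.Agent.Lib.helper11.InvMod Groth.Agent.Lib.helper12.TwistExtend
open Groth.Agent.Lib.helper11.IsoLocus Groth.Agent.Lib.helper11.InvPullback
open Groth.Agent.Lib.helper12.TrivDescent

namespace Groth.Agent.Lib.helper12.PicAffSpace

variable {X X' Y Y' : Scheme.{u}} {f : X ⟶ Y} {g : Y' ⟶ Y} {p : X' ⟶ X} {q : X' ⟶ Y'}

/-- the submonoid of global functions invertible at a point -/
noncomputable def unitsAt (Y : Scheme.{u}) (y : Y) : Submonoid Γ(Y, ⊤) where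
  carrier := {a | y ∈ Y.basicOpen a}
  one_mem' := by
    change y ∈ Y.basicOpen (1 : Γ(Y, ⊤))
    rw [Scheme.basicOpen_one]; trivial
  mul_mem' := by
    intro a b ha hb
    change y ∈ Y.basicOpen (a * b)
    rw [Scheme.basicOpen_mul]
    exact ⟨ha, hb⟩

theorem mem_unitsAt (Y : Scheme.{u}) (y : Y) (a : Γ(Y, ⊤)) :
    a ∈ unitsAt Y y ↔ y ∈ Y.basicOpen a := Iff.rfl

/-- cartesian square of affine schemes, `g` flat, `Γ(Y')` a ring of fractions of `Γ(Y)` with
denominators invertible at `y`, and `range g` containing the generizations of `y`: if `p^* L` is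
trivial, then `L` is generated by a global section over `f⁻¹ D(a)` for some `a` with `y ∈ D(a)`. -/
theorem exists_trivializing_section_of_localization [IsAffine X] [IsAffine Y] [IsAffine Y']
    [QuasiCompact f] [QuasiSeparated f] [Flat g] (H : IsPullback p q f g)
    {L : X.Modules} (hL : PicF.IsInvertible L)
    (ε : (Scheme.Modules.pullback p).obj L ≅ Coh.structureModule X') (y : Y)
    (hfrac : ∀ a' : Γ(Y', ⊤), ∃ a ∈ unitsAt Y y, ∃ b : Γ(Y, ⊤),
      g.appTop.hom a * a' = g.appTop.hom b)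
    (hunit : ∀ a ∈ unitsAt Y y, IsUnit (g.appTop.hom a))
    (hrange : ∀ z : Y, (∀ a ∈ unitsAt Y y, z ∈ Y.basicOpen a) → z ∈ Set.range g) :
    ∃ (a : Γ(Y, ⊤)) (t : Coh.structureModule X ⟶ L), y ∈ Y.basicOpen a ∧
      f ⁻¹ᵁ (Y.basicOpen a) ≤ CohB1.genLocus L t := by
  haveI : L.IsQuasicoherent := isQuasicoherent_of_isInvertible hL
  haveI : CompactSpace X := QuasiCompact.compactSpace_of_compactSpace f
  haveI : QuasiSeparatedSpace X := quasiSeparatedSpace_of_quasiSeparated f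
  have hW : (⊤ : X.Opens) ≤ f ⁻¹ᵁ ⊤ := le_top
  have e : (⊤ : Y'.Opens) ≤ g ⁻¹ᵁ ⊤ := le_top
  letI : Algebra Γ(Y, ⊤) Γ(Y', ⊤) := (g.appLE ⊤ ⊤ e).hom.toAlgebra
  have halg : algebraMap Γ(Y, ⊤) Γ(Y', ⊤) = (g.appLE ⊤ ⊤ e).hom := rfl
  have halg' : ∀ a, algebraMap Γ(Y, ⊤) Γ(Y', ⊤) a = g.appTop.hom a := by
    intro a
    rw [halg, appLE_top_top g e]
  haveI : Module.Flat Γ(Y, ⊤) Γ(Y', ⊤) := by
    have h0 := Scheme.Hom.flat_appTop g
    rw [← appLE_top_top g e] at h0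
    exact h0
  have hκ := κ_bijective_of_isQuasiSeparated L ⊤ hW H e halg (isAffineOpen_top Y)
    (isAffineOpen_top Y') isCompact_univ isQuasiSeparated_univ
  let S : X'.Opens := sharp p q ⊤ ⊤
  have hS : (⊤ : X'.Opens) ≤ S := fun x _ => ⟨trivial, trivial⟩
  let ψ := (q.appLE ⊤ S inf_le_right).hom
  let εS := (ε.hom.app S).hom
  have hεS : Function.Bijective εS := by
    have : IsIso (ε.hom.app S) := inferInstance
    exact ConcreteCategory.bijective_of_isIso (ε.hom.app S)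
  obtain ⟨e₀, he₀⟩ := hεS.2 (1 : Γ(X', S))
  obtain ⟨z₀, hz₀⟩ := hκ.2 e₀
  have hfrac' : ∀ a' : Γ(Y', ⊤), ∃ a ∈ unitsAt Y y, ∃ b : Γ(Y, ⊤),
      algebraMap Γ(Y, ⊤) Γ(Y', ⊤) a * a' = algebraMap Γ(Y, ⊤) Γ(Y', ⊤) b := by
    intro a'
    obtain ⟨a, ha, b, hab⟩ := hfrac a'
    exact ⟨a, ha, b, by rw [halg', halg']; exact hab⟩
  obtain ⟨a, ha, m, ham⟩ := exists_smul_eq_one_tmul (unitsAt Y y) hfrac' z₀
  let σ : L.val.obj (op ⊤) := m
  let t := homOfSec L σ
  have ht : sec t ⊤ = σ := by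
    have h8 := val_homOfSec L σ ⊤
    refine h8.trans ?_
    change L.val.map (𝟙 _) σ = σ
    rw [L.val.map_id]
    rfl
  let t' := (pullbackUnitIso p).inv ≫ (Scheme.Modules.pullback p).map t
  have hgl : CohB1.genLocus _ t' = p ⁻¹ᵁ CohB1.genLocus L t :=
    genLocus_pullback p L hL t (pullbackUnitIso p).symm
  let t'' := t' ≫ ε.hom
  have hgl2 : CohB1.genLocus _ t'' = CohB1.genLocus _ t' := genLocus_comp_iso t' ε
  have hgl3 : CohB1.genLocus _ t'' = X'.basicOpen (fn t'' ⊤) := genLocus_structureModule t''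
  have hsec : sec t' S = ρ p (inf_le_left : S ≤ p ⁻¹ᵁ ⊤) L σ := by
    rw [← ht]
    exact sec_pullback_map p t _
  have hκm : κ L ⊤ hW H e halg ((1 : Γ(Y', ⊤)) ⊗ₜ m) = ρ p (inf_le_left : S ≤ p ⁻¹ᵁ ⊤) L σ := by
    have h7 : κ L ⊤ hW H e halg ((1 : Γ(Y', ⊤)) ⊗ₜ m) =
        (1 : Γ(Y', ⊤)) • kW (g' := p) (f' := q) (V' := ⊤) L ⊤ hW m := tlift_tmul _ _ 1 m
    rw [h7, one_smul]
    rfl
  have hfn : fn t'' S = ψ (algebraMap Γ(Y, ⊤) Γ(Y', ⊤) a) := by
    have h1 : fn t'' S = εS (κ L ⊤ hW H e halg ((1 : Γ(Y', ⊤)) ⊗ₜ m)) := by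
      rw [hκm, ← hsec]
      rfl
    rw [h1, ← ham]
    have h2 : κ L ⊤ hW H e halg (algebraMap Γ(Y, ⊤) Γ(Y', ⊤) a • z₀) =
        algebraMap Γ(Y, ⊤) Γ(Y', ⊤) a • κ L ⊤ hW H e halg z₀ := LinearMap.map_smul _ _ _
    have h8 := Hom.app_smul ε.hom (ψ (algebraMap Γ(Y, ⊤) Γ(Y', ⊤) a))
      (show Γ((Scheme.Modules.pullback p).obj L, S) from κ L ⊤ hW H e halg z₀)
    let v₀ : Γ(X', S) := εS (κ L ⊤ hW H e halg z₀)
    let v₁ : Γ(X', S) := εS (κ L ⊤ hW H e halg (algebraMap Γ(Y, ⊤) Γ(Y', ⊤) a • z₀))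
    have h9 : v₀ = 1 := (congrArg εS hz₀).trans he₀
    have h10 : v₁ = ψ (algebraMap Γ(Y, ⊤) Γ(Y', ⊤) a) * v₀ := (congrArg εS h2).trans h8
    rw [h9, mul_one] at h10
    exact h10
  have hfnu : IsUnit (fn t'' S) := by
    rw [hfn, halg']
    exact (hunit a ha).map ψ
  have hall : ∀ x' : X', p x' ∈ CohB1.genLocus L t := by
    intro x'
    have h5 : x' ∈ X'.basicOpen (fn t'' S) := by
      rw [Scheme.basicOpen_of_isUnit _ hfnu]
      exact hS trivial
    have h3 : x' ∈ X'.basicOpen (fn t'' ⊤) := by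
      rw [← res_fn t'' (homOfLE (le_top : S ≤ ⊤)), Scheme.basicOpen_res] at h5
      exact h5.2
    rw [← hgl3, hgl2, hgl] at h3
    exact h3
  -- the ideal argument
  by_contra hcon
  push Not at hcon
  let G := CohB1.genLocus L t
  let J : Ideal Γ(X, ⊤) := ⨅ z : {z : X // z ∉ G}, vanishingIdeal X z.1
  have hJmem : ∀ s : Γ(X, ⊤), s ∈ J ↔ X.basicOpen s ≤ G := by
    intro s
    rw [Ideal.mem_iInf]
    constructor
    · intro h z hz
      by_contra hzG
      exact (notMem_vanishingIdeal_iff X z s).mpr hz (h ⟨z, hzG⟩)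
    · intro h z
      by_contra hzs
      exact z.2 (h ((notMem_vanishingIdeal_iff X z.1 s).mp hzs))
  let T : Submonoid Γ(X, ⊤) := (unitsAt Y y).map f.appTop.hom
  have hdisj : Disjoint (J : Set Γ(X, ⊤)) (T : Set Γ(X, ⊤)) := by
    rw [Set.disjoint_left]
    rintro s hsJ ⟨a₁, ha₁, rfl⟩
    have h1 : X.basicOpen (f.appTop.hom a₁) ≤ G := (hJmem _).mp hsJ
    rw [← Scheme.preimage_basicOpen_top] at h1
    exact hcon a₁ t ha₁ h1
  obtain ⟨Q, hQ, hJQ, hQT⟩ := Ideal.exists_le_prime_disjoint J T hdisj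
  let zQ : X := (isAffineOpen_top X).fromSpec ⟨Q, hQ⟩
  have hzQ : ∀ s : Γ(X, ⊤), zQ ∈ X.basicOpen s ↔ s ∉ Q := by
    intro s
    have h1 := (isAffineOpen_top X).fromSpec_preimage_basicOpen s
    have h2 : zQ ∈ X.basicOpen s ↔
        (⟨Q, hQ⟩ : PrimeSpectrum Γ(X, ⊤)) ∈ (isAffineOpen_top X).fromSpec ⁻¹ᵁ X.basicOpen s :=
      Iff.rfl
    rw [h2, h1]
    rfl
  have hzQG : zQ ∉ G := by
    intro hzG
    obtain ⟨s, hs1, hs2⟩ := (isAffineOpen_top X).exists_basicOpen_le (V := G) ⟨zQ, hzG⟩ trivial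
    exact (hzQ s).mp hs2 (hJQ ((hJmem s).mpr hs1))
  have hfz : f zQ ∈ Set.range g := by
    refine hrange _ (fun a₁ ha₁ => ?_)
    have h1 : f.appTop.hom a₁ ∉ Q := fun h =>
      Set.disjoint_left.mp hQT h ⟨a₁, ha₁, rfl⟩
    have h2 := (hzQ _).mpr h1
    rw [← Scheme.preimage_basicOpen_top] at h2
    exact h2
  obtain ⟨y', hy'⟩ := hfz
  obtain ⟨x', hx'1, -⟩ := Scheme.exists_preimage_of_isPullback H zQ y' hy'.symm
  exact hzQG (hx'1 ▸ hall x')

end Groth.Agent.Lib.helper12.PicAffSpace
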