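import Mathlib
import Groth.Agent.Lib.Helper12.PicAffSpace1
import Groth.Agent.Lib.Helper12.PicAffSpace2
import Groth.Agent.Lib.Helper11.FlatStalk

/-!
# Invertible modules on affine space: triviality near a point of the base (helper12)

* `exists_isTrivOn_of_stalk`: an invertible module on `𝔸(n; X)` whose pullback to
  `𝔸(n; Spec 𝒪_{X,x})` is trivial, is trivial over `π⁻¹ U` for an open neighbourhood `U` of `x`.
-/

set_option autoImplicit false
set_option linter.style.haveILetI false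
universe u

open CategoryTheory CategoryTheory.Limits AlgebraicGeometry TopologicalSpace Opposite TensorProduct
open Scheme.Modules
open Groth.Agent.Lib.helper8.PullbackUnit Groth.Agent.Lib.helper8.FlatBC
open Groth.Agent.Lib.helper12.AmpleDescent Groth.Agent.Lib.helper12.EpiDescent
open Groth.Agent.Lib.helper11.GenLocus Groth.Agent.Lib.helper11.SerreGG
open Groth.Agent.Lib.helper12.AmpleBasis Groth.Agent.Lib.helper12.QAffDescent
open Groth.Agent.Lib.helper11.InvMod Groth.Agent.Lib.helper12.TwistExtend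
open Groth.Agent.Lib.helper11.IsoLocus Groth.Agent.Lib.helper11.InvPullback
open Groth.Agent.Lib.helper12.TrivDescent

namespace Groth.Agent.Lib.helper12.PicAffSpace

variable (n : Type u)

theorem exists_isTrivOn_of_stalk (X : Scheme.{u}) (L : (𝔸(n; X)).Modules)
    (hL : PicF.IsInvertible L) (x : X)
    (ε₀ : (Scheme.Modules.pullback (AffineSpace.map n (X.fromSpecStalk x))).obj L ≅
      Coh.structureModule (𝔸(n; Spec (X.presheaf.stalk x)))) :
    ∃ U : X.Opens, x ∈ U ∧ IsTrivOn L ((𝔸(n; X) ↘ X) ⁻¹ᵁ U) := by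
  obtain ⟨V, hV, hxV, -⟩ := exists_isAffineOpen_mem_and_subset (x := x) (U := ⊤) trivial
  haveI : IsAffine (V : Scheme.{u}) := hV
  let fs := X.fromSpecStalk x
  let g₀ : Spec (X.presheaf.stalk x) ⟶ (V : Scheme.{u}) := V.fromSpecStalkOfMem x hxV
  have hg₀ : g₀ ≫ V.ι = fs := Scheme.Opens.fromSpecStalkOfMem_ι V x hxV
  let fV := (𝔸(n; X) ↘ X) ∣_ V
  have HR := isPullback_morphismRestrict (𝔸(n; X) ↘ X) V
  let q : 𝔸(n; Spec (X.presheaf.stalk x)) ⟶ Spec (X.presheaf.stalk x) :=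
    𝔸(n; Spec (X.presheaf.stalk x)) ↘ Spec (X.presheaf.stalk x)
  have Hbig : IsPullback (AffineSpace.map n fs) q (𝔸(n; X) ↘ X) fs :=
    AffineSpace.isPullback_map (n := n) fs
  have hcond : (q ≫ g₀) ≫ V.ι = AffineSpace.map n fs ≫ (𝔸(n; X) ↘ X) := by
    rw [Category.assoc, hg₀]; exact Hbig.w.symm
  let p : 𝔸(n; Spec (X.presheaf.stalk x)) ⟶ (((𝔸(n; X) ↘ X) ⁻¹ᵁ V : (𝔸(n; X)).Opens) : Scheme.{u}) :=
    HR.lift (q ≫ g₀) (AffineSpace.map n fs) hcond
  have hp1 : p ≫ fV = q ≫ g₀ := HR.lift_fst _ _ _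
  have hp2 : p ≫ ((𝔸(n; X) ↘ X) ⁻¹ᵁ V).ι = AffineSpace.map n fs := HR.lift_snd _ _ _
  have HL : IsPullback p q fV g₀ := by
    refine IsPullback.of_right ?_ hp1 HR.flip
    rw [hp2, hg₀]
    exact Hbig
  -- transport the base to `Spec Γ(X, V)`
  let e := hV.isoSpec
  let f' := fV ≫ e.hom
  let g := g₀ ≫ e.hom
  have H : IsPullback p q f' g :=
    HL.of_iso (Iso.refl _) (Iso.refl _) (Iso.refl _) e (by simp) (by simp) (by simp [f'])
      (by simp [g])
  have hg : g = Spec.map (X.presheaf.germ V x hxV) :=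
    Scheme.Opens.fromSpecStalkOfMem_toSpecΓ V x hxV
  haveI : IsAffine ((((𝔸(n; X) ↘ X) ⁻¹ᵁ V : (𝔸(n; X)).Opens)) : Scheme.{u}) :=
    hV.preimage (𝔸(n; X) ↘ X)
  haveI : Flat fs := Groth.Agent.Lib.helper11.FlatStalk.flat_fromSpecStalk x
  haveI : Flat g₀ := by
    have h1 : Flat (g₀ ≫ V.ι) := by rw [hg₀]; infer_instance
    haveI : MorphismProperty.HasOfPostcompProperty (@Flat.{u}) (@IsOpenImmersion.{u}) :=
      instHasOfPostcompPropertySchemeIsOpenImmersionOfIsStableUnderBaseChange (@Flat)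
    exact MorphismProperty.of_postcomp (W := @Flat) (W' := @IsOpenImmersion) g₀ V.ι
      inferInstance h1
  haveI : Flat g := by
    change Flat (g₀ ≫ e.hom)
    infer_instance
  let γ := X.presheaf.germ V x hxV
  have H' : IsPullback p q f' (Spec.map γ) := hg ▸ H
  haveI : Flat (Spec.map γ) := hg ▸ (inferInstance : Flat g)
  let LV := L.restrict ((𝔸(n; X) ↘ X) ⁻¹ᵁ V).ι
  have hLV : PicF.IsInvertible LV := isInvertible_restrict ((𝔸(n; X) ↘ X) ⁻¹ᵁ V).ι hL
  let ε : (Scheme.Modules.pullback p).obj LV ≅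
      Coh.structureModule (𝔸(n; Spec (X.presheaf.stalk x))) :=
    (Scheme.Modules.pullback p).mapIso
        ((restrictFunctorIsoPullback ((𝔸(n; X) ↘ X) ⁻¹ᵁ V).ι).app L) ≪≫
      (pullbackComp p ((𝔸(n; X) ↘ X) ⁻¹ᵁ V).ι).app L ≪≫ (pullbackCongr hp2).app L ≪≫ ε₀
  let y : Spec Γ(X, V) := hV.primeIdealOf ⟨x, hxV⟩
  letI : Algebra Γ(X, V) (X.presheaf.stalk x) := γ.hom.toAlgebra
  haveI hloc : IsLocalization.AtPrime (X.presheaf.stalk x) y.asIdeal :=
    hV.isLocalization_stalk ⟨x, hxV⟩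
  let iA := Scheme.ΓSpecIso Γ(X, V)
  let iR := Scheme.ΓSpecIso (X.presheaf.stalk x)
  have hnat : ∀ s : Γ(X, V), (Spec.map γ).appTop.hom (iA.inv.hom s) = iR.inv.hom (γ.hom s) := by
    intro s
    have := Scheme.ΓSpecIso_inv_naturality γ
    exact (congr($(this).hom s)).symm
  have hmemU : ∀ a : Γ(Spec Γ(X, V), ⊤), a ∈ unitsAt (Spec Γ(X, V)) y ↔
      iA.hom.hom a ∉ y.asIdeal := by
    intro a
    rw [mem_unitsAt, basicOpen_eq_of_affine']
    rfl
  have hfrac : ∀ a' : Γ(Spec (X.presheaf.stalk x), ⊤), ∃ a ∈ unitsAt (Spec Γ(X, V)) y,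
      ∃ b : Γ(Spec Γ(X, V), ⊤), (Spec.map γ).appTop.hom a * a' = (Spec.map γ).appTop.hom b := by
    intro a'
    obtain ⟨⟨b, s⟩, hbs⟩ := IsLocalization.surj y.asIdeal.primeCompl (iR.hom.hom a')
    refine ⟨iA.inv.hom s.1, ?_, iA.inv.hom b, ?_⟩
    · rw [hmemU]
      have : iA.hom.hom (iA.inv.hom s.1) = s.1 := Iso.inv_hom_id_apply iA s.1
      rw [this]
      exact s.2
    · rw [hnat, hnat]
      have h1 : a' = iR.inv.hom (iR.hom.hom a') := (Iso.hom_inv_id_apply iR a').symm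
      rw [h1, ← map_mul]
      congr 1
      rw [mul_comm]
      exact hbs
  have hunit : ∀ a ∈ unitsAt (Spec Γ(X, V)) y, IsUnit ((Spec.map γ).appTop.hom a) := by
    intro a ha
    rw [hmemU] at ha
    have h1 : a = iA.inv.hom (iA.hom.hom a) := (Iso.hom_inv_id_apply iA a).symm
    rw [h1, hnat]
    have h2 : IsUnit (algebraMap Γ(X, V) (X.presheaf.stalk x) (iA.hom.hom a)) :=
      IsLocalization.map_units (X.presheaf.stalk x)
        (⟨iA.hom.hom a, ha⟩ : y.asIdeal.primeCompl)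
    exact h2.map iR.inv.hom
  have hrange : ∀ z : Spec Γ(X, V), (∀ a ∈ unitsAt (Spec Γ(X, V)) y,
      z ∈ (Spec Γ(X, V)).basicOpen a) → z ∈ Set.range (Spec.map γ) := by
    intro z hz
    have h1 := PrimeSpectrum.localization_comap_range (X.presheaf.stalk x) y.asIdeal.primeCompl
    have h2 : z ∈ {p : PrimeSpectrum Γ(X, V) |
        Disjoint (y.asIdeal.primeCompl : Set Γ(X, V)) p.asIdeal} := by
      change Disjoint _ _
      rw [Set.disjoint_left]
      intro s hs hsz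
      have h3 : iA.inv.hom s ∈ unitsAt (Spec Γ(X, V)) y := by
        rw [hmemU]
        have : iA.hom.hom (iA.inv.hom s) = s := Iso.inv_hom_id_apply iA s
        rw [this]
        exact hs
      have h4 := hz _ h3
      rw [basicOpen_eq_of_affine] at h4
      exact h4 hsz
    rw [← h1] at h2
    exact h2
  obtain ⟨a, t, hya, hat⟩ := exists_trivializing_section_of_localization H' hLV ε y
    hfrac hunit hrange
  let W : (V : Scheme.{u}).Opens := e.hom ⁻¹ᵁ (Spec Γ(X, V)).basicOpen a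
  have hxW : (⟨x, hxV⟩ : (V : Scheme.{u})) ∈ W := hya
  refine ⟨V.ι ''ᵁ W, ⟨⟨x, hxV⟩, hxW, rfl⟩, ?_⟩
  rw [← image_morphismRestrict_preimage]
  exact Groth.Agent.Lib.helper12.AmpleLocal.IsTrivOn.of_restrict (isTrivOn_of_le_genLocus t hat)

end Groth.Agent.Lib.helper12.PicAffSpace
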