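import Mathlib
import Groth.Agent.Lib.Helper12.PicAffSpace1
import Groth.Agent.Lib.Helper12.NormSec5

/-!
# Invertible modules on affine space over a reduced base: gluing normalised generators (helper12)

* `ev`: pullback of a section over `π⁻¹ U` along the zero section, as a section over `U`.
* `exists_normalized_gen`, `normalized_gen_unique`: normalised generators exist where `L` is trivial and
  are unique (reduced base).
* `nonempty_iso_of_locally_trivial`: if `L` on `𝔸(n; X)` (`X` reduced) is trivial locally over `X` and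
  its pullback along the zero section is trivial, then `L` is trivial.
-/

set_option autoImplicit false
set_option linter.style.haveILetI false
set_option linter.unusedSimpArgs false
universe u
open CategoryTheory AlgebraicGeometry Opposite TopologicalSpace
open Scheme.Modules

namespace Groth.Agent.Lib.helper12.PicAffSpace
open Groth.Agent.Lib.Helper12.NormSec
open Groth.Agent.Lib.helper11.InvMod Groth.Agent.Lib.helper11.GenLocus
open Groth.Agent.Lib.helper12.TwistExtend Groth.Agent.Lib.helper12.AmpleBasis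

variable (n : Type u) {X : Scheme.{u}} (L : (𝔸(n; X)).Modules)

theorem appLE_eq_id_of_eq_id (f : X ⟶ X) (hf : f = 𝟙 X) (U : X.Opens) (e : U ≤ f ⁻¹ᵁ U) :
    f.appLE U U e = 𝟙 _ := by
  subst hf
  unfold Scheme.Hom.appLE
  rw [Scheme.Hom.id_app]
  exact (Category.id_comp _).trans (X.presheaf.map_id _)

theorem zeroSec_appLE_over (U : X.Opens) (c : Γ(X, U)) :
    ((zeroSec n X).appLE ((𝔸(n; X) ↘ X) ⁻¹ᵁ U) U (le_zeroSec_preimage n X U)).hom
      (((𝔸(n; X) ↘ X).appLE U ((𝔸(n; X) ↘ X) ⁻¹ᵁ U) le_rfl).hom c) = c := by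
  have h1 : (𝔸(n; X) ↘ X).appLE U ((𝔸(n; X) ↘ X) ⁻¹ᵁ U) le_rfl ≫
      (zeroSec n X).appLE ((𝔸(n; X) ↘ X) ⁻¹ᵁ U) U (le_zeroSec_preimage n X U) = 𝟙 _ := by
    rw [Scheme.Hom.appLE_comp_appLE]
    exact appLE_eq_id_of_eq_id _ (zeroSec_over n X) U _
  exact congr($(h1).hom c)

/-- pullback of a section over `π⁻¹ U` along the zero section, as a section over `U` -/
noncomputable def ev (U : X.Opens) (σ : Γ(L, (𝔸(n; X) ↘ X) ⁻¹ᵁ U)) :
    Γ((Scheme.Modules.pullback (zeroSec n X)).obj L, U) :=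
  rs _ (le_zeroSec_preimage n X U) (eta (zeroSec n X) L _ σ)

theorem ev_smul (U : X.Opens) (a : Γ(𝔸(n; X), (𝔸(n; X) ↘ X) ⁻¹ᵁ U))
    (σ : Γ(L, (𝔸(n; X) ↘ X) ⁻¹ᵁ U)) :
    ev n L U (a • σ) =
      ((zeroSec n X).appLE ((𝔸(n; X) ↘ X) ⁻¹ᵁ U) U (le_zeroSec_preimage n X U)).hom a •
        ev n L U σ := by
  unfold ev
  rw [eta_smul, rs_smul]
  rfl

theorem ev_rs {U' U : X.Opens} (h : U' ≤ U) (σ : Γ(L, (𝔸(n; X) ↘ X) ⁻¹ᵁ U)) :
    ev n L U' (rs L ((𝔸(n; X) ↘ X).preimage_mono h) σ) =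
      rs _ h (ev n L U σ) := by
  unfold ev
  rw [← eta_rs, rs_rs, rs_rs]

/-- normalised generators exist wherever `L` is trivial -/
theorem exists_normalized_gen (U : X.Opens)
    (γ₀ : Γ((Scheme.Modules.pullback (zeroSec n X)).obj L, U))
    (h0 : IsGen ((Scheme.Modules.pullback (zeroSec n X)).obj L) U γ₀)
    (hT : IsTrivOn L ((𝔸(n; X) ↘ X) ⁻¹ᵁ U)) :
    ∃ σ : Γ(L, (𝔸(n; X) ↘ X) ⁻¹ᵁ U), IsGen L ((𝔸(n; X) ↘ X) ⁻¹ᵁ U) σ ∧ ev n L U σ = γ₀ := by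
  obtain ⟨γ, hγ⟩ := exists_isGen_of_isTrivOn hT le_rfl
  have hη := isGen_eta (zeroSec n X) hT le_rfl γ hγ
  have hev : IsGen ((Scheme.Modules.pullback (zeroSec n X)).obj L) U (ev n L U γ) :=
    hη.rs (le_zeroSec_preimage n X U)
  have b1 := hev U le_rfl
  rw [rs_self] at b1
  have b0 := h0 U le_rfl
  rw [rs_self] at b0
  obtain ⟨c, hc⟩ := b0.2 (ev n L U γ)
  obtain ⟨c', hc'⟩ := b1.2 γ₀
  have hc1 : c • γ₀ = ev n L U γ := hc
  have hc2 : c' • ev n L U γ = γ₀ := hc'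
  have hcc : c' * c = 1 := by
    apply b0.1
    change (c' * c) • γ₀ = (1 : Γ(X, U)) • γ₀
    rw [mul_smul, hc1, hc2, one_smul]
  have hunit : IsUnit c' := IsUnit.of_mul_eq_one c hcc
  let d := ((𝔸(n; X) ↘ X).appLE U ((𝔸(n; X) ↘ X) ⁻¹ᵁ U) le_rfl).hom c'
  have hd : IsUnit d := hunit.map _
  refine ⟨d • γ, ?_, ?_⟩
  · refine isGen_of_bijective hT le_rfl _ ?_
    have hb := hγ _ le_rfl
    rw [rs_self] at hb
    have hfun : (fun a : Γ(𝔸(n; X), (𝔸(n; X) ↘ X) ⁻¹ᵁ U) => a • (d • γ)) =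
        (fun a : Γ(𝔸(n; X), (𝔸(n; X) ↘ X) ⁻¹ᵁ U) => a • γ) ∘
          (fun a : Γ(𝔸(n; X), (𝔸(n; X) ↘ X) ⁻¹ᵁ U) => a * d) := by
      funext a
      change a • (d • γ) = (a * d) • γ
      rw [mul_smul]
    rw [hfun]
    refine hb.comp ?_
    rw [← IsUnit.isUnit_iff_mulRight_bijective]
    exact hd
  · rw [ev_smul, zeroSec_appLE_over]
    exact hc2

/-- normalised generators are unique (reduced base) -/
theorem normalized_gen_unique [IsReduced X] (U : X.Opens)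
    (γ₀ : Γ((Scheme.Modules.pullback (zeroSec n X)).obj L, U))
    (h0 : IsGen ((Scheme.Modules.pullback (zeroSec n X)).obj L) U γ₀)
    (σ σ' : Γ(L, (𝔸(n; X) ↘ X) ⁻¹ᵁ U))
    (hσ : IsGen L ((𝔸(n; X) ↘ X) ⁻¹ᵁ U) σ) (hσ' : IsGen L ((𝔸(n; X) ↘ X) ⁻¹ᵁ U) σ')
    (e : ev n L U σ = γ₀) (e' : ev n L U σ' = γ₀) : σ = σ' := by
  have b := hσ _ le_rfl
  rw [rs_self] at b
  have b' := hσ' _ le_rfl
  rw [rs_self] at b'
  have b0 := h0 U le_rfl
  rw [rs_self] at b0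
  obtain ⟨u, hu⟩ := b.2 σ'
  obtain ⟨u', hu'⟩ := b'.2 σ
  have hu1 : u • σ = σ' := hu
  have hu2 : u' • σ' = σ := hu'
  have huu : u * u' = 1 := by
    apply b'.1
    change (u * u') • σ' = (1 : Γ(𝔸(n; X), (𝔸(n; X) ↘ X) ⁻¹ᵁ U)) • σ'
    rw [mul_smul, hu2, hu1, one_smul]
  have hunit : IsUnit u := IsUnit.of_mul_eq_one u' huu
  have hs1 : ((zeroSec n X).appLE ((𝔸(n; X) ↘ X) ⁻¹ᵁ U) U (le_zeroSec_preimage n X U)).hom u = 1 := by
    apply b0.1
    change _ • γ₀ = (1 : Γ(X, U)) • γ₀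
    rw [one_smul]
    have := ev_smul n L U u σ
    rw [hu1, e, e'] at this
    exact this.symm
  have h1 : u = 1 := eq_one_of_isUnit_of_zeroSec n X U u hunit hs1
  rw [← hu1, h1, one_smul]

/-- if `L` on `𝔸(n; X)` (`X` reduced) is trivial locally over `X` and its pullback along the zero
section is trivial, then `L` is trivial. -/
theorem nonempty_iso_of_locally_trivial [IsReduced X]
    (hloc : ∀ x : X, ∃ U : X.Opens, x ∈ U ∧ IsTrivOn L ((𝔸(n; X) ↘ X) ⁻¹ᵁ U))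
    (τ : (Scheme.Modules.pullback (zeroSec n X)).obj L ≅ Coh.structureModule X) :
    Nonempty (L ≅ Coh.structureModule (𝔸(n; X))) := by
  let M := (Scheme.Modules.pullback (zeroSec n X)).obj L
  have hMT : IsTrivOn M ⊤ := IsTrivOn.of_iso τ.symm (isTrivOn_structureModule ⊤)
  obtain ⟨γ₀, hγ₀⟩ := exists_isGen_of_isTrivOn hMT (le_refl ⊤)
  choose U hxU hT using hloc
  have hgen : ∀ x, ∃ σ : Γ(L, (𝔸(n; X) ↘ X) ⁻¹ᵁ (U x)),
      IsGen L ((𝔸(n; X) ↘ X) ⁻¹ᵁ (U x)) σ ∧ ev n L (U x) σ = rs M le_top γ₀ :=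
    fun x => exists_normalized_gen n L (U x) _ (hγ₀.rs le_top) (hT x)
  choose σ hσ hσe using hgen
  let W : X → (𝔸(n; X)).Opens := fun x => (𝔸(n; X) ↘ X) ⁻¹ᵁ (U x)
  have hcov : (⊤ : (𝔸(n; X)).Opens) ≤ ⨆ x, W x := by
    intro z _
    exact Opens.mem_iSup.mpr ⟨(𝔸(n; X) ↘ X) z, hxU ((𝔸(n; X) ↘ X) z)⟩
  have hsf : ∀ x x', res L (inf_le_left : W x ⊓ W x' ≤ W x) (σ x) =
      res L (inf_le_right : W x ⊓ W x' ≤ W x') (σ x') := by
    intro x x'
    have h1 : U x ⊓ U x' ≤ U x := inf_le_left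
    have h2 : U x ⊓ U x' ≤ U x' := inf_le_right
    exact normalized_gen_unique n L (U x ⊓ U x') (rs M le_top γ₀) (hγ₀.rs le_top)
      (rs L ((𝔸(n; X) ↘ X).preimage_mono h1) (σ x))
      (rs L ((𝔸(n; X) ↘ X).preimage_mono h2) (σ x'))
      ((hσ x).rs _) ((hσ x').rs _)
      (by rw [ev_rs n L h1, hσe, rs_rs]) (by rw [ev_rs n L h2, hσe, rs_rs])
  obtain ⟨T, hT'⟩ := exists_glue L W hcov σ hsf
  let t := homOfSec L T
  have hsec : ∀ x, sec t (W x) = σ x := fun x => (val_homOfSec _ T (W x)).trans (hT' x)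
  have htop : CohB1.genLocus L t = ⊤ := by
    rw [eq_top_iff]
    intro z _
    have h3 := genLocus_inf_eq_basicOpen_of_isGen t (σ ((𝔸(n; X) ↘ X) z))
      (hσ ((𝔸(n; X) ↘ X) z)) 1 (by rw [one_smul]; exact hsec _)
    rw [Scheme.basicOpen_one] at h3
    have h4 : z ∈ CohB1.genLocus L t ⊓ W ((𝔸(n; X) ↘ X) z) := by
      rw [h3]
      exact hxU ((𝔸(n; X) ↘ X) z)
    exact h4.1
  have hiso : IsIso t := (Groth.Agent.Lib.helper11.IsoLocus.genLocus_eq_top_iff L t).mp htop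
  exact ⟨(asIso t).symm⟩

end Groth.Agent.Lib.helper12.PicAffSpace
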