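/-
helper12: Kronecker's lemma for integrally closed domains (via valuation subrings) and
surjectivity of `Pic A → Pic A[X]` for an integrally closed domain `A` (content ideals).
-/
import Mathlib

set_option autoImplicit false

open Polynomial

namespace Groth.Agent.Lib.helper12.PicPoly

section Kronecker

variable {K : Type*} [Field K]

/-- Scale a nonzero polynomial over a field to a polynomial over a valuation subring whose content
ideal is the unit ideal. -/
lemma exists_primitive_scaling (V : ValuationSubring K) (f : K[X]) (hf : f ≠ 0) :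
    ∃ (c : K) (f₀ : (V : Type _)[X]), c ≠ 0 ∧ f = C c * f₀.map V.subtype ∧
      f₀.contentIdeal = ⊤ := by
  obtain ⟨i₀, hi₀, hmax⟩ := Finset.exists_max_image f.support
    (fun i => V.valuation (f.coeff i)) (support_nonempty.2 hf)
  have hc : f.coeff i₀ ≠ 0 := mem_support_iff.1 hi₀
  have hle : ∀ i, V.valuation (f.coeff i) ≤ V.valuation (f.coeff i₀) := by
    intro i
    by_cases hi : i ∈ f.support
    · exact hmax i hi
    · rw [notMem_support_iff.1 hi, map_zero]; exact zero_le
  have hmem : ∀ i, (f.coeff i₀)⁻¹ * f.coeff i ∈ V := by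
    intro i
    rw [← V.valuation_le_one_iff, map_mul, map_inv₀]
    have hpos : 0 < V.valuation (f.coeff i₀) := by
      rw [Valuation.pos_iff]; exact hc
    rw [inv_mul_le_iff₀ hpos, mul_one]
    exact hle i
  have hl : C (f.coeff i₀)⁻¹ * f ∈ lifts V.subtype := by
    rw [lifts_iff_coeff_lifts]
    intro n
    rw [coeff_C_mul]
    exact ⟨⟨_, hmem n⟩, rfl⟩
  obtain ⟨f₀, hf₀⟩ := (mem_lifts _).1 hl
  refine ⟨f.coeff i₀, f₀, hc, ?_, ?_⟩
  · rw [hf₀, ← mul_assoc, ← C_mul, mul_inv_cancel₀ hc, C_1, one_mul]
  · have h1 : f₀.coeff i₀ = 1 := by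
      apply V.subtype_injective
      have := congrArg (fun p => p.coeff i₀) hf₀
      simp only [coeff_map, coeff_C_mul] at this
      rw [this, inv_mul_cancel₀ hc, map_one]
    rw [Ideal.eq_top_iff_one, ← h1]
    exact coeff_mem_contentIdeal _ _

/-- Kronecker's lemma over a valuation subring. -/
lemma coeff_mul_coeff_mem_valuationSubring (V : ValuationSubring K) (f g : K[X])
    (hfg : ∀ l, (f * g).coeff l ∈ V) (i j : ℕ) : f.coeff i * g.coeff j ∈ V := by
  by_cases hf : f = 0
  · simp [hf, V.zero_mem]
  by_cases hg : g = 0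
  · simp [hg, V.zero_mem]
  obtain ⟨c, f₀, hc, hfc, hf₀⟩ := exists_primitive_scaling V f hf
  obtain ⟨d, g₀, hd, hgd, hg₀⟩ := exists_primitive_scaling V g hg
  have htop : (f₀ * g₀).contentIdeal = ⊤ :=
    contentIdeal_mul_eq_top_of_contentIdeal_eq_top hf₀ hg₀
  have hprod : f * g = C (c * d) * (f₀ * g₀).map V.subtype := by
    rw [hfc, hgd, Polynomial.map_mul, C_mul]; ring
  have key : ∀ x ∈ (f₀ * g₀).contentIdeal, (c * d) * (x : K) ∈ V := by
    intro x hx
    rw [contentIdeal_def] at hx
    induction hx using Submodule.span_induction with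
    | mem x hx =>
      obtain ⟨l, -, rfl⟩ := (mem_coeffs_iff.1 hx)
      have := hfg l
      rw [hprod, coeff_C_mul, coeff_map] at this
      exact this
    | zero => simp [V.zero_mem]
    | add x y _ _ hx hy =>
      have : (c * d) * ((x + y : V) : K) = (c * d) * (x : K) + (c * d) * (y : K) := by
        push_cast; ring
      rw [this]; exact V.add_mem _ _ hx hy
    | smul r x _ hx =>
      have : (c * d) * ((r • x : V) : K) = (r : K) * ((c * d) * (x : K)) := by
        simp only [smul_eq_mul]; push_cast; ring
      rw [this]; exact V.mul_mem _ _ r.2 hx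
  have hcd : c * d ∈ V := by
    have := key 1 (by rw [htop]; trivial)
    simpa using this
  have : f.coeff i * g.coeff j = (c * d) * ((f₀.coeff i : K) * (g₀.coeff j : K)) := by
    rw [hfc, hgd, coeff_C_mul, coeff_C_mul, coeff_map, coeff_map]
    simp only [ValuationSubring.subtype_apply]
    ring
  rw [this]
  exact V.mul_mem _ _ hcd (V.mul_mem _ _ (f₀.coeff i).2 (g₀.coeff j).2)

variable {A : Type*} [CommRing A] [IsIntegrallyClosed A] [Algebra A K]
  [IsFractionRing A K]

instance isIntegrallyClosedIn_range : IsIntegrallyClosedIn (algebraMap A K).range K := by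
  rw [Subring.isIntegrallyClosedIn_iff]
  intro x hx
  have hA : IsIntegral A x := by
    letI : Algebra A (algebraMap A K).range := (algebraMap A K).rangeRestrict.toAlgebra
    haveI : IsScalarTower A (algebraMap A K).range K :=
      IsScalarTower.of_algebraMap_eq (fun _ => rfl)
    haveI : Algebra.IsIntegral A (algebraMap A K).range :=
      Algebra.isIntegral_of_surjective (algebraMap A K).rangeRestrict_surjective
    exact isIntegral_trans x hx
  obtain ⟨y, rfl⟩ := IsIntegrallyClosed.isIntegral_iff.1 hA
  exact ⟨y, rfl⟩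

/-- **Kronecker's lemma**: if `A` is an integrally closed domain with fraction field `K` and
`f g : K[X]` are such that `f * g` has coefficients in `A`, then all products of a coefficient
of `f` and a coefficient of `g` lie in `A`. -/
theorem kronecker (f g : K[X]) (hfg : ∀ l, (f * g).coeff l ∈ (algebraMap A K).range) (i j : ℕ) :
    f.coeff i * g.coeff j ∈ (algebraMap A K).range := by
  by_contra hx
  obtain ⟨V, hRV, hxV⟩ := Subring.exists_le_valuationSubring_of_isIntegrallyClosedIn hx
  exact hxV (coeff_mul_coeff_mem_valuationSubring V f g (fun l => hRV (hfg l)) i j)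

end Kronecker


section Content

attribute [local instance] Polynomial.algebra

variable {A : Type*} [CommRing A] {K : Type*} [Field K] [Algebra A K]

/-- The content of an `A[X]`-submodule of `K[X]`: the `A`-submodule of `K` spanned by all
coefficients of all its elements. -/
noncomputable def content (J : Submodule A[X] K[X]) : Submodule A K :=
  Submodule.span A {x | ∃ f ∈ J, ∃ i : ℕ, f.coeff i = x}

lemma coeff_mem_content {J : Submodule A[X] K[X]} {f : K[X]} (hf : f ∈ J) (i : ℕ) :
    f.coeff i ∈ content J :=
  Submodule.subset_span ⟨f, hf, i, rfl⟩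

lemma coeff_mem_content_mul (I J : Submodule A[X] K[X]) {p : K[X]} (hp : p ∈ I * J) (l : ℕ) :
    p.coeff l ∈ content I * content J := by
  revert l
  refine Submodule.mul_induction_on hp ?_ ?_
  · intro f hf g hg l
    rw [coeff_mul]
    refine Submodule.sum_mem _ fun x _ => ?_
    exact Submodule.mul_mem_mul (coeff_mem_content hf _) (coeff_mem_content hg _)
  · intro x y hx hy l
    rw [coeff_add]
    exact Submodule.add_mem _ (hx l) (hy l)

variable [IsIntegrallyClosed A] [IsFractionRing A K]

lemma content_mul_le (I J : Submodule A[X] K[X]) (h : I * J ≤ 1) : content I * content J ≤ 1 := by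
  rw [content, content, Submodule.span_mul_span, Submodule.span_le]
  rintro _ ⟨_, ⟨f, hf, i, rfl⟩, _, ⟨g, hg, j, rfl⟩, rfl⟩
  obtain ⟨q, hq⟩ := Submodule.mem_one.1 (h (Submodule.mul_mem_mul hf hg))
  have := kronecker (A := A) f g (fun l => ⟨q.coeff l, by rw [← hq]; simp⟩) i j
  obtain ⟨y, hy⟩ := this
  exact Submodule.mem_one.2 ⟨y, hy⟩

lemma content_mul_content_inv (I : (Submodule A[X] K[X])ˣ) :
    content (I : Submodule A[X] K[X]) * content ((I⁻¹ : (Submodule A[X] K[X])ˣ) :
      Submodule A[X] K[X]) = 1 := by
  apply le_antisymm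
  · exact content_mul_le _ _ (by rw [Units.mul_inv])
  · rw [Submodule.one_le]
    have h1 : (1 : K[X]) ∈ (I : Submodule A[X] K[X]) * ((I⁻¹ : (Submodule A[X] K[X])ˣ) :
        Submodule A[X] K[X]) := by
      rw [Units.mul_inv]; exact Submodule.one_le.1 le_rfl
    have := coeff_mem_content_mul _ _ h1 0
    simpa using this

/-- The content of an invertible submodule is an invertible submodule. -/
noncomputable def contentUnit (I : (Submodule A[X] K[X])ˣ) : (Submodule A K)ˣ :=
  Units.mkOfMulEqOne _ _ (content_mul_content_inv I)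

lemma C_mem_of_mem_content (I : (Submodule A[X] K[X])ˣ) {c : K}
    (hc : c ∈ content (I : Submodule A[X] K[X])) : C c ∈ (I : Submodule A[X] K[X]) := by
  have key : ∀ p ∈ (I : Submodule A[X] K[X]) * ((I⁻¹ : (Submodule A[X] K[X])ˣ) :
      Submodule A[X] K[X]), C c * p ∈ (I : Submodule A[X] K[X]) := by
    intro p hp
    refine Submodule.mul_induction_on hp ?_ ?_
    · intro f hf g hg
      have hl : C c * g ∈ lifts (algebraMap A K) := by
        rw [lifts_iff_coeff_lifts]
        intro n
        rw [coeff_C_mul]
        have h1 : c * g.coeff n ∈ (1 : Submodule A K) := by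
          rw [← content_mul_content_inv I]
          exact Submodule.mul_mem_mul hc (coeff_mem_content hg n)
        obtain ⟨y, hy⟩ := Submodule.mem_one.1 h1
        exact ⟨y, hy⟩
      obtain ⟨q, hq⟩ := (mem_lifts _).1 hl
      have : C c * (f * g) = q • f := by
        rw [Algebra.smul_def, Polynomial.algebraMap_def, coe_mapRingHom, hq]; ring
      rw [this]
      exact Submodule.smul_mem _ _ hf
    · intro x y hx hy
      rw [mul_add]; exact Submodule.add_mem _ hx hy
  have h1 : (1 : K[X]) ∈ (I : Submodule A[X] K[X]) * ((I⁻¹ : (Submodule A[X] K[X])ˣ) :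
      Submodule A[X] K[X]) := by
    rw [Units.mul_inv]; exact Submodule.one_le.1 le_rfl
  simpa using key 1 h1

end Content




end Groth.Agent.Lib.helper12.PicPoly
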