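/-
helper12: surjectivity of `Pic A → Pic A[X]` for an integrally closed domain `A`
(every invertible `A[X]`-module is extended from `A`).
-/
import Groth.Agent.Lib.Helper12.PicPoly
set_option autoImplicit false
open Polynomial
namespace Groth.Agent.Lib.helper12.PicPoly
universe u
attribute [local instance] Polynomial.algebra
open CommRing TensorProduct
variable {A : Type u} [CommRing A] [IsIntegrallyClosed A]

noncomputable def jmap {K : Type u} [Field K] [Algebra A K] [IsFractionRing A K]
    (I : (Submodule A[X] K[X])ˣ) : ((contentUnit I : (Submodule A K)ˣ) : Submodule A K) →ₗ[A]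
      ((I : Submodule A[X] K[X])) :=
    { toFun := fun c => ⟨C (c : K), C_mem_of_mem_content I c.2⟩
      map_add' := fun c d => by
        apply Subtype.ext
        show C ((c + d : ((contentUnit I : (Submodule A K)ˣ) : Submodule A K)) : K) = C (c : K) + C (d : K)
        rw [Submodule.coe_add, C_add]
      map_smul' := fun a c => by
        apply Subtype.ext
        show C ((a • c : ((contentUnit I : (Submodule A K)ˣ) : Submodule A K)) : K) = a • C (c : K)
        rw [Submodule.coe_smul, Polynomial.smul_C] }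

lemma jmap_apply_coe {K : Type u} [Field K] [Algebra A K] [IsFractionRing A K]
    (I : (Submodule A[X] K[X])ˣ) (c : ((contentUnit I : (Submodule A K)ˣ) : Submodule A K)) :
    ((jmap I c : (I : Submodule A[X] K[X])) : K[X]) = C (c : K) := rfl

noncomputable def mu {K : Type u} [Field K] [Algebra A K] [IsFractionRing A K]
    (I : (Submodule A[X] K[X])ˣ) :
    (A[X] ⊗[A] ((contentUnit I : (Submodule A K)ˣ) : Submodule A K)) →ₗ[A[X]]
      ((I : Submodule A[X] K[X])) :=
  LinearMap.liftBaseChange A[X] (jmap I)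

lemma mu_tmul_coe {K : Type u} [Field K] [Algebra A K] [IsFractionRing A K]
    (I : (Submodule A[X] K[X])ˣ) (p : A[X]) (c : ((contentUnit I : (Submodule A K)ˣ) : Submodule A K)) :
    ((mu I (p ⊗ₜ[A] c) : (I : Submodule A[X] K[X])) : K[X]) = p.map (algebraMap A K) * C (c : K) := by
  rw [mu, LinearMap.liftBaseChange_tmul, Submodule.coe_smul, jmap_apply_coe, Algebra.smul_def,
    Polynomial.algebraMap_def, coe_mapRingHom]

lemma mu_surjective {K : Type u} [Field K] [Algebra A K] [IsFractionRing A K]
    (I : (Submodule A[X] K[X])ˣ) : Function.Surjective (mu I) := by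
  rintro ⟨x, hx⟩
  refine ⟨∑ i ∈ Finset.range (x.natDegree + 1), (X ^ i : A[X]) ⊗ₜ[A]
    (⟨x.coeff i, coeff_mem_content hx i⟩ :
      ((contentUnit I : (Submodule A K)ˣ) : Submodule A K)), ?_⟩
  apply Subtype.ext
  rw [map_sum, Submodule.coe_sum]
  show _ = x
  conv_rhs => rw [x.as_sum_range_C_mul_X_pow]
  refine Finset.sum_congr rfl fun i _ => ?_
  rw [mu_tmul_coe, Polynomial.map_pow, map_X, mul_comm]

theorem nonempty_linearEquiv_content {K : Type u} [Field K] [Algebra A K] [IsFractionRing A K]
    (I : (Submodule A[X] K[X])ˣ) :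
    Nonempty ((A[X] ⊗[A] ((contentUnit I : (Submodule A K)ˣ) : Submodule A K)) ≃ₗ[A[X]]
      ((I : Submodule A[X] K[X]))) :=
  ⟨LinearEquiv.ofBijective (mu I) (Module.Invertible.bijective_of_surjective (mu_surjective I))⟩

theorem mapAlgebra_polynomial_surjective [IsDomain A] : Function.Surjective (Pic.mapAlgebra A A[X]) := by
  intro N
  have hsub : Subsingleton (Pic (FractionRing A)[X]) := inferInstance
  have hN : N ∈ relPic A[X] (FractionRing A)[X] := by
    rw [relPic_eq_top]; trivial
  rw [← Submodule.range_unitsToPic] at hN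
  obtain ⟨I, hI⟩ := hN
  refine ⟨Pic.mk A ((contentUnit I : (Submodule A (FractionRing A))ˣ) :
    Submodule A (FractionRing A)), ?_⟩
  obtain ⟨e⟩ := nonempty_linearEquiv_content I
  rw [← hI, Submodule.unitsToPic_apply, Pic.mapAlgebra_apply, Pic.mk_eq_mk_iff]
  exact ⟨(TensorProduct.AlgebraTensorModule.congr (LinearEquiv.refl A[X] A[X])
    (Pic.mk.linearEquiv A _)) ≪≫ₗ e⟩

/-- If the identity of a normal domain `A` is "`𝔸¹`-homotopic" to an endomorphism factoring
through a field, then `Pic A = 0`. -/
theorem free_of_polynomial_homotopy {A k : Type u} [CommRing A] [IsDomain A] [IsIntegrallyClosed A]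
    [Field k] (φ : A →+* A[X]) (h1 : (evalRingHom (1 : A)).comp φ = RingHom.id A)
    (χ : A →+* k) (ι : k →+* A) (h0 : (evalRingHom (0 : A)).comp φ = ι.comp χ)
    (M : Type u) [AddCommGroup M] [Module A M] [Module.Invertible A M] : Module.Free A M := by
  rw [← Pic.mk_eq_one_iff_free]
  obtain ⟨P, hP⟩ := mapAlgebra_polynomial_surjective (Pic.mapRingHom φ (Pic.mk A M))
  rw [← Pic.mapRingHom_algebraMap] at hP
  have hC1 : (evalRingHom (1 : A)).comp (algebraMap A A[X]) = RingHom.id A := by
    ext a; simp
  have hC0 : (evalRingHom (0 : A)).comp (algebraMap A A[X]) = RingHom.id A := by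
    ext a; simp
  have e1 := congrArg (Pic.mapRingHom (evalRingHom (1 : A))) hP
  have e0 := congrArg (Pic.mapRingHom (evalRingHom (0 : A))) hP
  rw [Pic.mapRingHom_mapRingHom, Pic.mapRingHom_mapRingHom, hC1, h1, Pic.mapRingHom_id_apply,
    Pic.mapRingHom_id_apply] at e1
  rw [Pic.mapRingHom_mapRingHom, Pic.mapRingHom_mapRingHom, hC0, h0, Pic.mapRingHom_id_apply,
    ← Pic.mapRingHom_mapRingHom, Subsingleton.elim (Pic.mapRingHom χ (Pic.mk A M)) 1,
    map_one] at e0
  rw [← e1, e0]



end Groth.Agent.Lib.helper12.PicPoly
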