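/-
helper12: the Picard group of a normal affine cone `k[x]/I` (`I` homogeneous) is trivial.
-/
import Groth.Agent.Lib.Helper12.PicPoly2
set_option autoImplicit false
namespace Groth.Agent.Lib.helper12.PicPoly
universe u
open CommRing

section Cone

variable {k : Type u} [Field k] {n : ℕ} (I : Ideal (MvPolynomial (Fin n) k))

/-- The "scaling" homomorphism `k[x] → (k[x]/I)[T]`, `x_i ↦ x_i T`. -/
noncomputable def scale₀ : MvPolynomial (Fin n) k →ₐ[k] Polynomial (MvPolynomial (Fin n) k ⧸ I) :=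
  MvPolynomial.aeval (fun i => Polynomial.C (Ideal.Quotient.mk I (MvPolynomial.X i)) * Polynomial.X)

lemma scale₀_monomial (m : Fin n →₀ ℕ) (c : k) :
    scale₀ I (MvPolynomial.monomial m c) =
      Polynomial.C (Ideal.Quotient.mk I (MvPolynomial.monomial m c)) * Polynomial.X ^ m.degree := by
  rw [scale₀, MvPolynomial.aeval_monomial, MvPolynomial.monomial_eq, map_mul, map_finsuppProd,
    map_mul, map_finsuppProd]
  have hX : (Polynomial.X : Polynomial (MvPolynomial (Fin n) k ⧸ I)) ^ m.degree =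
      ∏ i ∈ m.support, Polynomial.X ^ (m i) := by
    rw [Finsupp.degree_apply, Finset.prod_pow_eq_pow_sum]
  rw [hX, mul_assoc]
  unfold Finsupp.prod
  rw [← Finset.prod_mul_distrib]
  congr 1
  refine Finset.prod_congr rfl fun i _ => ?_
  dsimp only
  rw [map_pow, map_pow]
  ring

lemma scale₀_of_isHomogeneous {f : MvPolynomial (Fin n) k} {d : ℕ} (hf : f.IsHomogeneous d) :
    scale₀ I f = Polynomial.C (Ideal.Quotient.mk I f) * Polynomial.X ^ d := by
  conv_lhs => rw [← f.support_sum_monomial_coeff]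
  conv_rhs => rw [← f.support_sum_monomial_coeff]
  rw [map_sum, map_sum, map_sum, Finset.sum_mul]
  refine Finset.sum_congr rfl fun m hm => ?_
  rw [scale₀_monomial]
  congr 2
  rw [Finsupp.degree_apply]
  exact (hf.degree_eq_sum_deg_support hm).symm

lemma scale₀_eq_zero_of_mem
    (hI : ∃ s : Set (MvPolynomial (Fin n) k), (∀ f ∈ s, ∃ d : ℕ, f.IsHomogeneous d) ∧
      I = Ideal.span s) {f : MvPolynomial (Fin n) k} (hf : f ∈ I) : scale₀ I f = 0 := by
  obtain ⟨s, hs, rfl⟩ := hI
  have hle : Ideal.span s ≤ RingHom.ker (scale₀ (Ideal.span s)).toRingHom := by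
    rw [Ideal.span_le]
    intro g hg
    obtain ⟨d, hd⟩ := hs g hg
    rw [SetLike.mem_coe, RingHom.mem_ker]
    show scale₀ _ g = 0
    rw [scale₀_of_isHomogeneous _ hd, Ideal.Quotient.eq_zero_iff_mem.2 (Ideal.subset_span hg),
      map_zero, zero_mul]
  exact hle hf

/-- The "scaling" homomorphism `k[x]/I → (k[x]/I)[T]`, `x_i ↦ x_i T`, for `I` homogeneous. -/
noncomputable def scale
    (hI : ∃ s : Set (MvPolynomial (Fin n) k), (∀ f ∈ s, ∃ d : ℕ, f.IsHomogeneous d) ∧
      I = Ideal.span s) :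
    (MvPolynomial (Fin n) k ⧸ I) →+* Polynomial (MvPolynomial (Fin n) k ⧸ I) :=
  Ideal.Quotient.lift I (scale₀ I).toRingHom (fun _ hf => scale₀_eq_zero_of_mem I hI hf)

lemma eval_one_comp_scale₀ :
    (Polynomial.evalRingHom (1 : MvPolynomial (Fin n) k ⧸ I)).comp (scale₀ I).toRingHom =
      Ideal.Quotient.mk I := by
  apply MvPolynomial.ringHom_ext
  · intro c
    simp [scale₀, Polynomial.algebraMap_apply]
    rfl
  · intro i
    simp [scale₀]

lemma eval_zero_comp_scale₀ :
    (Polynomial.evalRingHom (0 : MvPolynomial (Fin n) k ⧸ I)).comp (scale₀ I).toRingHom =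
      (algebraMap k (MvPolynomial (Fin n) k ⧸ I)).comp MvPolynomial.constantCoeff := by
  apply MvPolynomial.ringHom_ext
  · intro c
    simp [scale₀, Polynomial.algebraMap_apply]
  · intro i
    simp [scale₀]

lemma constantCoeff_eq_zero_of_mem [Nontrivial (MvPolynomial (Fin n) k ⧸ I)]
    (hI : ∃ s : Set (MvPolynomial (Fin n) k), (∀ f ∈ s, ∃ d : ℕ, f.IsHomogeneous d) ∧
      I = Ideal.span s) {f : MvPolynomial (Fin n) k} (hf : f ∈ I) :
    MvPolynomial.constantCoeff f = 0 := by
  have h := congrArg (fun g => g f) (eval_zero_comp_scale₀ I)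
  simp only [RingHom.comp_apply] at h
  have h2 : (scale₀ I).toRingHom f = 0 := scale₀_eq_zero_of_mem I hI hf
  rw [h2, map_zero] at h
  exact (algebraMap k (MvPolynomial (Fin n) k ⧸ I)).injective (by rw [map_zero]; exact h.symm)

/-- The augmentation `k[x]/I → k` for a proper homogeneous ideal. -/
noncomputable def aug [Nontrivial (MvPolynomial (Fin n) k ⧸ I)]
    (hI : ∃ s : Set (MvPolynomial (Fin n) k), (∀ f ∈ s, ∃ d : ℕ, f.IsHomogeneous d) ∧
      I = Ideal.span s) : (MvPolynomial (Fin n) k ⧸ I) →+* k :=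
  Ideal.Quotient.lift I MvPolynomial.constantCoeff
    (fun _ hf => constantCoeff_eq_zero_of_mem I hI hf)

lemma eval_one_comp_scale
    (hI : ∃ s : Set (MvPolynomial (Fin n) k), (∀ f ∈ s, ∃ d : ℕ, f.IsHomogeneous d) ∧
      I = Ideal.span s) :
    (Polynomial.evalRingHom (1 : MvPolynomial (Fin n) k ⧸ I)).comp (scale I hI) =
      RingHom.id _ := by
  apply Ideal.Quotient.ringHom_ext
  refine RingHom.ext fun f => ?_
  have h := congrArg (fun g => g f) (eval_one_comp_scale₀ I)
  simpa [scale] using h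

lemma eval_zero_comp_scale [Nontrivial (MvPolynomial (Fin n) k ⧸ I)]
    (hI : ∃ s : Set (MvPolynomial (Fin n) k), (∀ f ∈ s, ∃ d : ℕ, f.IsHomogeneous d) ∧
      I = Ideal.span s) :
    (Polynomial.evalRingHom (0 : MvPolynomial (Fin n) k ⧸ I)).comp (scale I hI) =
      (algebraMap k (MvPolynomial (Fin n) k ⧸ I)).comp (aug I hI) := by
  apply Ideal.Quotient.ringHom_ext
  refine RingHom.ext fun f => ?_
  have h := congrArg (fun g => g f) (eval_zero_comp_scale₀ I)
  simpa [scale, aug] using h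

/-- **Pic of a normal affine cone is trivial.** -/
theorem free_of_normal_cone
    (hI : ∃ s : Set (MvPolynomial (Fin n) k), (∀ f ∈ s, ∃ d : ℕ, f.IsHomogeneous d) ∧
      I = Ideal.span s)
    [IsDomain (MvPolynomial (Fin n) k ⧸ I)] [IsIntegrallyClosed (MvPolynomial (Fin n) k ⧸ I)]
    (M : Type u) [AddCommGroup M] [Module (MvPolynomial (Fin n) k ⧸ I) M]
    [Module.Invertible (MvPolynomial (Fin n) k ⧸ I) M] :
    Module.Free (MvPolynomial (Fin n) k ⧸ I) M :=
  free_of_polynomial_homotopy (scale I hI) (eval_one_comp_scale I hI) (aug I hI)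
    (algebraMap k (MvPolynomial (Fin n) k ⧸ I)) (eval_zero_comp_scale I hI) M

end Cone

end Groth.Agent.Lib.helper12.PicPoly
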