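/-
helper12: Picard groups of `R[t⁻¹]`, `R{t}[1/t]`, `R((t))` (Gabber–Ramero), part 1:
abstract ideal correspondences along a ring map `ρ : S → Λ` which is an isomorphism modulo powers
of an element `π`, and invertibility of ideals.
-/
import Mathlib

set_option autoImplicit false

namespace Groth.Agent.Lib.helper12.PicLaurent

open TensorProduct

section Corr

variable {S Λ : Type*} [CommRing S] [CommRing Λ] (ρ : S →+* Λ) (π : S)

/-- extension of the contraction: ideals of `Λ` containing `ρ π ^ n`. -/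
lemma map_comap_eq_of_mem (n : ℕ)
    (hsurj : ∀ y : Λ, ∃ g : S, ρ g - y ∈ Ideal.span {ρ π ^ n})
    (K : Ideal Λ) (hK : ρ π ^ n ∈ K) : (K.comap ρ).map ρ = K := by
  apply le_antisymm (Ideal.map_comap_le)
  intro y hy
  obtain ⟨g, hg⟩ := hsurj y
  have hle : Ideal.span {ρ π ^ n} ≤ K := (Ideal.span_singleton_le_iff_mem K).2 hK
  have hg' : ρ g ∈ K := by
    have : ρ g = (ρ g - y) + y := by ring
    rw [this]
    exact K.add_mem (hle hg) hy
  have h1 : ρ g ∈ (K.comap ρ).map ρ := Ideal.mem_map_of_mem ρ (Ideal.mem_comap.2 hg')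
  have h2 : Ideal.span {ρ π ^ n} ≤ (K.comap ρ).map ρ := by
    rw [Ideal.span_singleton_le_iff_mem, ← map_pow]
    exact Ideal.mem_map_of_mem ρ (Ideal.mem_comap.2 (by rw [map_pow]; exact hK))
  have : y = ρ g - (ρ g - y) := by ring
  rw [this]
  exact Ideal.sub_mem _ h1 (h2 hg)

/-- contraction of the extension: ideals of `S` containing `π ^ n`. -/
lemma comap_map_eq_of_mem (n : ℕ)
    (hinj : ∀ g : S, ρ g ∈ Ideal.span {ρ π ^ n} → g ∈ Ideal.span {π ^ n})
    (hsurj : ∀ y : Λ, ∃ g : S, ρ g - y ∈ Ideal.span {ρ π ^ n})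
    (I₀ : Ideal S) (hI : π ^ n ∈ I₀) : (I₀.map ρ).comap ρ = I₀ := by
  apply le_antisymm _ Ideal.le_comap_map
  have hle : Ideal.span {π ^ n} ≤ I₀ := (Ideal.span_singleton_le_iff_mem I₀).2 hI
  -- every element of `I₀ Λ` is congruent to the image of an element of `I₀`
  have key : ∀ z ∈ I₀.map ρ, ∃ a ∈ I₀, ρ a - z ∈ Ideal.span {ρ π ^ n} := by
    intro z hz
    refine Submodule.span_induction ?_ ?_ ?_ ?_ hz
    · rintro _ ⟨a, ha, rfl⟩
      exact ⟨a, ha, by simp⟩
    · exact ⟨0, I₀.zero_mem, by simp⟩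
    · rintro x y _ _ ⟨a, ha, hax⟩ ⟨b, hb, hby⟩
      refine ⟨a + b, I₀.add_mem ha hb, ?_⟩
      have : ρ (a + b) - (x + y) = (ρ a - x) + (ρ b - y) := by rw [map_add]; ring
      rw [this]
      exact Ideal.add_mem _ hax hby
    · rintro c x _ ⟨a, ha, hax⟩
      obtain ⟨g, hg⟩ := hsurj c
      refine ⟨g * a, I₀.mul_mem_left _ ha, ?_⟩
      have : ρ (g * a) - c • x = (ρ g - c) * ρ a + c * (ρ a - x) := by
        rw [map_mul, smul_eq_mul]; ring
      rw [this]
      exact Ideal.add_mem _ (Ideal.mul_mem_right _ _ hg) (Ideal.mul_mem_left _ _ hax)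
  intro g hg
  obtain ⟨a, ha, haz⟩ := key (ρ g) (Ideal.mem_comap.1 hg)
  have h1 : a - g ∈ Ideal.span {π ^ n} := hinj _ (by rw [map_sub]; exact haz)
  have : g = a - (a - g) := by ring
  rw [this]
  exact I₀.sub_mem ha (hle h1)

end Corr

section Colon

variable {Λ : Type*} [CommRing Λ]

/-- for a projective ideal `J` containing `p`, `J * (p : J) = (p)`. -/
lemma mul_colon_eq_span (J : Ideal Λ) [Module.Projective Λ J] (p : Λ) (hp : p ∈ J) :
    J * (Ideal.span {p}).colon (J : Set Λ) = Ideal.span {p} := by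
  apply le_antisymm
  · rw [Ideal.mul_le]
    intro y hy a ha
    have := Submodule.mem_colon.1 ha y hy
    rwa [smul_eq_mul, mul_comm] at this
  · rw [Ideal.span_singleton_le_iff_mem]
    obtain ⟨s, hs⟩ := Module.projective_def'.1 (inferInstance : Module.Projective Λ J)
    have h1 : (⟨p, hp⟩ : J) = Finsupp.linearCombination Λ id (s ⟨p, hp⟩) := by
      have := congrArg (fun f => f ⟨p, hp⟩) hs
      simpa using this.symm
    have h2 : p = ∑ y ∈ (s ⟨p, hp⟩).support, (s ⟨p, hp⟩) y * (y : Λ) := by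
      have := congrArg (Subtype.val) h1
      rw [Finsupp.linearCombination_apply, Finsupp.sum] at this
      simpa using this
    have hcolon : ∀ y : J, (s ⟨p, hp⟩) y ∈ (Ideal.span {p}).colon (J : Set Λ) := by
      intro y
      rw [Submodule.mem_colon]
      intro z hz
      have h3 : z • (⟨p, hp⟩ : J) = p • (⟨z, hz⟩ : J) := by
        ext
        simp [mul_comm]
      have h4 := congrArg (fun f => f y) (congrArg s h3)
      simp only [map_smul, Finsupp.smul_apply, smul_eq_mul] at h4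
      rw [Ideal.mem_span_singleton', smul_eq_mul]
      exact ⟨s ⟨z, hz⟩ y, by rw [mul_comm, ← h4, mul_comm]⟩
    have hmem : (∑ y ∈ (s ⟨p, hp⟩).support, (s ⟨p, hp⟩) y * (y : Λ)) ∈
        J * (Ideal.span {p}).colon (J : Set Λ) := by
      refine Ideal.sum_mem _ fun y _ => ?_
      have : (s ⟨p, hp⟩) y * (y : Λ) = (y : Λ) * (s ⟨p, hp⟩) y := mul_comm _ _
      rw [this]
      exact Ideal.mul_mem_mul y.2 (hcolon y)
    rwa [← h2] at hmem

end Colon

section Invertible

variable {S : Type*} [CommRing S]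

/-- an ideal `I` with `I * I' = (π)`, `π` a nonzerodivisor, is an invertible module. -/
lemma invertible_of_mul_eq_span (I I' : Ideal S) (π : S) (hπ : π ∈ nonZeroDivisors S)
    (h : I * I' = Ideal.span {π}) : Module.Invertible S I := by
  let A := Localization.Away π
  have hinj : Function.Injective (Algebra.linearMap S A) := by
    have : Function.Injective (algebraMap S A) :=
      IsLocalization.injective A (Submonoid.powers_le.2 hπ)
    exact this
  have : FaithfulSMul S A := (faithfulSMul_iff_algebraMap_injective S A).2 hinj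
  obtain ⟨u, hu⟩ := IsLocalization.Away.algebraMap_isUnit (S := A) π
  have hmap : ∀ K : Ideal S, Submodule.map (Algebra.linearMap S A) K =
      Submodule.map (Algebra.ofId S A).toLinearMap K := fun K => rfl
  have hmul : Submodule.map (Algebra.linearMap S A) I *
      (Submodule.span S {(↑u⁻¹ : A)} * Submodule.map (Algebra.linearMap S A) I') = 1 := by
    rw [mul_comm (Submodule.span S {(↑u⁻¹ : A)}), ← mul_assoc, hmap, hmap, ← Submodule.map_mul]
    have h1 : (I * I' : Submodule S S) = Submodule.span S {π} := h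
    rw [h1, Submodule.map_span, Set.image_singleton, Submodule.span_mul_span,
      Set.singleton_mul_singleton, Submodule.one_eq_span]
    congr 2
    change algebraMap S A π * ↑u⁻¹ = 1
    rw [← hu, Units.mul_inv]
  let U : (Submodule S A)ˣ := Units.mkOfMulEqOne _ _ hmul
  have hU : Module.Invertible S ↥(Submodule.map (Algebra.linearMap S A) I) :=
    inferInstanceAs (Module.Invertible S ↥(U : Submodule S A))
  exact Module.Invertible.congr (Submodule.equivMapOfInjective _ hinj I).symm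

end Invertible

section Nakayama

universe u

variable {Λ : Type u} [CommRing Λ]

/-- regular elements act injectively on projective modules. -/
lemma smul_eq_zero_of_projective {N : Type*} [AddCommGroup N] [Module Λ N] [Module.Projective Λ N]
    {r : Λ} (hr : r ∈ nonZeroDivisors Λ) {n : N} (h : r • n = 0) : n = 0 := by
  obtain ⟨s, hs⟩ := Module.projective_def'.1 (inferInstance : Module.Projective Λ N)
  have hinj : Function.Injective s := by
    intro a b hab
    have h1 := congrArg (fun f => f a) hs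
    have h2 := congrArg (fun f => f b) hs
    simp only [LinearMap.comp_apply, LinearMap.id_apply] at h1 h2
    rw [← h1, ← h2, hab]
  apply hinj
  rw [map_zero]
  ext y
  have h1 := congrArg (fun f => f y) (congrArg s h)
  simp only [map_smul, Finsupp.smul_apply, smul_eq_mul, map_zero, Finsupp.zero_apply] at h1
  rw [Finsupp.zero_apply]
  rw [mul_comm] at h1
  exact (mul_right_mem_nonZeroDivisors_eq_zero_iff hr).1 h1

/-- an invertible module whose reduction modulo `𝔞` is free is, up to an element of `1 + 𝔞`,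
generated by one element. -/
lemma exists_generator_mod (𝔞 : Ideal Λ) [Subsingleton (CommRing.Pic (Λ ⧸ 𝔞))]
    (N : Type*) [AddCommGroup N] [Module Λ N] [Module.Invertible Λ N] :
    ∃ (x : N) (r : Λ), r - 1 ∈ 𝔞 ∧ ∀ n : N, r • n ∈ Submodule.span Λ {x} := by
  have hfree : Module.Free (Λ ⧸ 𝔞) ((Λ ⧸ 𝔞) ⊗[Λ] N) := inferInstance
  obtain ⟨e⟩ := Module.Invertible.free_iff_linearEquiv.1 hfree
  obtain ⟨x, hx⟩ := TensorProduct.mk_surjective Λ N (Λ ⧸ 𝔞) Ideal.Quotient.mk_surjective
    (e.symm 1)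
  have hx' : (1 : Λ ⧸ 𝔞) ⊗ₜ[Λ] x = e.symm 1 := hx
  have key : ∀ n : N, ∃ c : Λ, n - c • x ∈ 𝔞 • (⊤ : Submodule Λ N) := by
    intro n
    obtain ⟨c, hc⟩ := Ideal.Quotient.mk_surjective (e ((1 : Λ ⧸ 𝔞) ⊗ₜ[Λ] n))
    refine ⟨c, ?_⟩
    have h1 : (1 : Λ ⧸ 𝔞) ⊗ₜ[Λ] n = (Ideal.Quotient.mk 𝔞 c) ⊗ₜ[Λ] x := by
      apply e.injective
      have : (Ideal.Quotient.mk 𝔞 c) ⊗ₜ[Λ] x =
          (Ideal.Quotient.mk 𝔞 c) • ((1 : Λ ⧸ 𝔞) ⊗ₜ[Λ] x) := by
        rw [TensorProduct.smul_tmul', smul_eq_mul, mul_one]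
      rw [this, map_smul, hx', LinearEquiv.apply_symm_apply, smul_eq_mul, mul_one, hc]
    have h0 : (1 : Λ ⧸ 𝔞) ⊗ₜ[Λ] (n - c • x) = 0 := by
      rw [TensorProduct.tmul_sub, h1, TensorProduct.tmul_smul, TensorProduct.smul_tmul',
        sub_eq_zero]
      congr 1
      rw [Algebra.smul_def, mul_one]
      rfl
    have := congrArg (quotTensorEquivQuotSMul N 𝔞) h0
    rw [map_zero, ← map_one (Ideal.Quotient.mk 𝔞), quotTensorEquivQuotSMul_mk_tmul, one_smul,
      Submodule.Quotient.mk_eq_zero] at this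
    exact this
  have hfg : (⊤ : Submodule Λ (N ⧸ Submodule.span Λ {x})).FG := Module.finite_def.1 inferInstance
  have hle : (⊤ : Submodule Λ (N ⧸ Submodule.span Λ {x})) ≤ 𝔞 • ⊤ := by
    rintro q -
    obtain ⟨n, rfl⟩ := Submodule.mkQ_surjective _ q
    obtain ⟨c, hc⟩ := key n
    have h1 : (Submodule.span Λ {x}).mkQ n = (Submodule.span Λ {x}).mkQ (n - c • x) := by
      rw [map_sub, map_smul]
      have : (Submodule.span Λ {x}).mkQ x = 0 := by
        rw [Submodule.mkQ_apply, Submodule.Quotient.mk_eq_zero]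
        exact Submodule.mem_span_singleton_self x
      rw [this, smul_zero, sub_zero]
    rw [h1]
    have h2 : (𝔞 • (⊤ : Submodule Λ N)).map (Submodule.span Λ {x}).mkQ ≤ 𝔞 • ⊤ := by
      rw [Submodule.map_smul'']
      exact Submodule.smul_mono le_rfl le_top
    exact h2 (Submodule.mem_map_of_mem hc)
  obtain ⟨r, hr1, hr⟩ :=
    Submodule.exists_sub_one_mem_and_smul_eq_zero_of_fg_of_le_smul 𝔞 ⊤ hfg hle
  refine ⟨x, r, hr1, fun n => ?_⟩
  have := hr ((Submodule.span Λ {x}).mkQ n) trivial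
  rwa [← map_smul, Submodule.mkQ_apply, Submodule.Quotient.mk_eq_zero] at this

/-- an invertible module which, up to a regular element `r`, is generated by one element is
isomorphic to an ideal containing `r`. -/
lemma exists_ideal_equiv (N : Type*) [AddCommGroup N] [Module Λ N] [Module.Invertible Λ N]
    (x : N) (r : Λ) (hr : r ∈ nonZeroDivisors Λ)
    (h : ∀ n : N, r • n ∈ Submodule.span Λ {x}) :
    ∃ J : Ideal Λ, r ∈ J ∧ Nonempty (N ≃ₗ[Λ] J) := by
  have htf : ∀ a : Λ, a • x = 0 → a = 0 := by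
    intro a ha
    have h1 : ∀ n : N, (a * r) • n = (0 : Λ) • n := by
      intro n
      obtain ⟨c, hc⟩ := Submodule.mem_span_singleton.1 (h n)
      rw [mul_smul, ← hc, smul_comm, ha, smul_zero, zero_smul]
    have h2 : a * r = 0 := FaithfulSMul.eq_of_smul_eq_smul h1
    exact (mul_right_mem_nonZeroDivisors_eq_zero_iff hr).1 h2
  have huniq : ∀ a b : Λ, a • x = b • x → a = b := by
    intro a b hab
    have : (a - b) • x = 0 := by rw [sub_smul, hab, sub_self]
    exact sub_eq_zero.1 (htf _ this)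
  choose c hc using fun n => Submodule.mem_span_singleton.1 (h n)
  let ι : N →ₗ[Λ] Λ :=
    { toFun := c
      map_add' := fun n n' => huniq _ _ (by rw [hc, add_smul, hc, hc, smul_add])
      map_smul' := fun a n => huniq _ _ (by
        rw [hc, RingHom.id_apply, smul_eq_mul, mul_smul, hc, smul_comm]) }
  have hιinj : Function.Injective ι := by
    rw [← LinearMap.ker_eq_bot, LinearMap.ker_eq_bot']
    intro n hn
    have h1 : r • n = 0 := by
      have := hc n
      change ι n • x = r • n at this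
      rw [← this, hn, zero_smul]
    exact smul_eq_zero_of_projective hr h1
  refine ⟨LinearMap.range ι, ⟨x, ?_⟩, ⟨LinearEquiv.ofInjective ι hιinj⟩⟩
  apply huniq
  exact hc x

end Nakayama

section Ext

variable {S Λ : Type*} [CommRing S] [CommRing Λ] [Algebra S Λ]

/-- for invertible ideals `I` of `S` and `J = IΛ` of `Λ`, `Λ ⊗ I ≅ J`. -/
lemma nonempty_baseChange_equiv (I : Ideal S) [Module.Invertible S I] (J : Ideal Λ)
    [Module.Invertible Λ J] (h : I.map (algebraMap S Λ) = J) :
    Nonempty ((Λ ⊗[S] I) ≃ₗ[Λ] J) := by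
  let g : I →ₗ[S] J :=
    { toFun := fun a => ⟨algebraMap S Λ a, h ▸ Ideal.mem_map_of_mem _ a.2⟩
      map_add' := fun a b => by ext; simp
      map_smul' := fun c a => by ext; simp [Algebra.smul_def] }
  let f : (Λ ⊗[S] I) →ₗ[Λ] J := LinearMap.liftBaseChange Λ g
  have key : ∀ y ∈ I.map (algebraMap S Λ), ∃ z : Λ ⊗[S] I, ((f z : J) : Λ) = y := by
    intro y hy
    refine Submodule.span_induction ?_ ?_ ?_ ?_ hy
    · rintro _ ⟨a, ha, rfl⟩
      refine ⟨(1 : Λ) ⊗ₜ[S] ⟨a, ha⟩, ?_⟩
      simp [f, g]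
    · exact ⟨0, by simp⟩
    · rintro y z _ _ ⟨a, ha⟩ ⟨b, hb⟩
      refine ⟨a + b, ?_⟩
      rw [map_add, Submodule.coe_add, ha, hb]
    · rintro c y _ ⟨a, ha⟩
      refine ⟨c • a, ?_⟩
      rw [map_smul, Submodule.coe_smul, ha]
  have hsurj : Function.Surjective f := by
    rintro ⟨y, hy⟩
    obtain ⟨z, hz⟩ := key y (h ▸ hy)
    exact ⟨z, Subtype.ext hz⟩
  exact ⟨LinearEquiv.ofBijective f (Module.Invertible.bijective_of_surjective hsurj)⟩

end Ext

end Groth.Agent.Lib.helper12.PicLaurent
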