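/-
helper12: Picard groups of `R[t⁻¹]`, `R{t}[1/t]`, `R((t))` (Gabber–Ramero), part 2:
for a Weierstrass polynomial `Q ∈ R[t]` and `Q* = s^d Q(1/s)`, the map `ρ : R[s] → Λ = R{t}[1/t]`,
`s ↦ t⁻¹`, induces an isomorphism `R[s]/(Q*) ≅ Λ/(Q)`.
-/
import Groth.Agent.Lib.Helper12.HensWeierstrass

set_option autoImplicit false
set_option linter.unusedSectionVars false
set_option linter.style.haveILetI false

namespace Groth.Agent.Lib.helper12.PicLaurent

open Polynomial IsLocalRing
open Groth.Agent.Lib.helper12.HensWeierstrass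

section Reflect

variable {R : Type*} [CommRing R]

lemma reflect_reflect (N : ℕ) (g : R[X]) : reflect N (reflect N g) = g := by
  ext i
  rw [coeff_reflect, coeff_reflect, revAt_invol]

lemma natDegree_reflect_le' (N : ℕ) (g : R[X]) (hg : g.natDegree ≤ N) :
    (reflect N g).natDegree ≤ N := by
  refine (natDegree_reflect_le).trans ?_
  rw [max_eq_left hg]

lemma reflect_X_pow_self (N : ℕ) : reflect N ((X : R[X]) ^ N) = 1 := by
  rw [reflect_monomial, revAt_le le_rfl, Nat.sub_self, pow_zero]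

lemma reflect_pow (d : ℕ) (P : R[X]) (hP : P.natDegree ≤ d) (n : ℕ) :
    reflect (n * d) (P ^ n) = (reflect d P) ^ n := by
  induction n with
  | zero => simp
  | succ n ih =>
    rw [pow_succ, pow_succ, Nat.succ_mul, reflect_mul _ _ _ hP, ih]
    calc (P ^ n).natDegree ≤ n * P.natDegree := natDegree_pow_le
      _ ≤ n * d := Nat.mul_le_mul_left _ hP

end Reflect

section Weier

universe u

variable {R : Type u} [CommRing R] [HenselianLocalRing R]
  {B : Type u} [CommRing B] [Algebra R B] [Algebra R[X] B] [IsScalarTower R R[X] B]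
  (hB : Hens2.IsPairHenselization R[X] (Ideal.span {(X : R[X])}) B)

/-- a power of a Weierstrass polynomial is a Weierstrass polynomial. -/
lemma weierstrass_pow (P : R[X]) (hP : P.Monic)
    (hPc : ∀ i : ℕ, i < P.natDegree → P.coeff i ∈ maximalIdeal R) (n : ℕ) :
    (P ^ n).Monic ∧ ∀ i : ℕ, i < (P ^ n).natDegree → (P ^ n).coeff i ∈ maximalIdeal R := by
  refine ⟨hP.pow n, fun i hi => ?_⟩
  have h1 := sub_X_pow_mem P hP hPc
  have h2 : P ^ n - (X ^ P.natDegree) ^ n ∈ (maximalIdeal R).map (algebraMap R R[X]) := by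
    obtain ⟨c, hc⟩ := sub_dvd_pow_sub_pow P (X ^ P.natDegree) n
    rw [hc]
    exact Ideal.mul_mem_right _ _ h1
  rw [Polynomial.algebraMap_eq, Ideal.mem_map_C_iff] at h2
  have h3 := h2 i
  rw [hP.natDegree_pow] at hi
  rw [coeff_sub, ← pow_mul, coeff_X_pow, if_neg (by rw [mul_comm]; exact ne_of_lt hi),
    sub_zero] at h3
  exact h3

include hB in
/-- no power of `t` lies in `m B`. -/
lemma pow_notMem_map (n : ℕ) :
    algebraMap R[X] B X ^ n ∉ (maximalIdeal R).map (algebraMap R B) := by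
  intro h
  have h1 : algebraMap R[X] B (X ^ n) ∈ Ideal.span {algebraMap R[X] B X ^ (n + 1)} ⊔
      (maximalIdeal R).map (algebraMap R B) := by
    rw [map_pow]
    exact Ideal.mem_sup_right h
  have h2 := mem_sup_of_algebraMap_mem_sup hB (n + 1) (X ^ n) h1
  obtain ⟨a, ha, b, hb, hab⟩ := Submodule.mem_sup.1 h2
  rw [Ideal.mem_span_singleton] at ha
  rw [Polynomial.algebraMap_eq, Ideal.mem_map_C_iff] at hb
  have h3 := congrArg (fun p => p.coeff n) hab
  simp only [coeff_add, coeff_X_pow, if_true] at h3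
  have h4 : a.coeff n = 0 := by
    obtain ⟨c, rfl⟩ := ha
    rw [coeff_X_pow_mul']
    simp
  rw [h4, zero_add] at h3
  have := hb n
  rw [h3] at this
  exact (maximalIdeal R).ne_top_iff_one.1 (Ideal.IsMaximal.ne_top inferInstance) this

end Weier

section Rho

universe u

variable {R : Type u} [CommRing R] [HenselianLocalRing R]
  {B : Type u} [CommRing B] [Algebra R B] [Algebra R[X] B] [IsScalarTower R R[X] B]
  (hB : Hens2.IsPairHenselization R[X] (Ideal.span {(X : R[X])}) B)
  (Λ : Type*) [CommRing Λ] [Algebra B Λ] [IsLocalization.Away (algebraMap R[X] B X) Λ]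

/-- `R[t] → Λ`. -/
noncomputable def αhom : R[X] →+* Λ := (algebraMap B Λ).comp (algebraMap R[X] B)

/-- `R[s] → Λ`, `s ↦ t⁻¹`. -/
noncomputable def ρhom : R[X] →+* Λ :=
  eval₂RingHom ((αhom (R := R) (B := B) Λ).comp C)
    (IsLocalization.Away.invSelf (S := Λ) (algebraMap R[X] B X))

lemma αhom_X_mul_ρhom_X : αhom (R := R) (B := B) Λ X * ρhom (R := R) (B := B) Λ X = 1 := by
  rw [ρhom, coe_eval₂RingHom, eval₂_X]
  exact IsLocalization.Away.mul_invSelf (algebraMap R[X] B X)

lemma αhom_eq_eval₂ (q : R[X]) :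
    αhom (R := R) (B := B) Λ q =
      eval₂ ((αhom (R := R) (B := B) Λ).comp C) (αhom (R := R) (B := B) Λ X) q := by
  have : αhom (R := R) (B := B) Λ =
      eval₂RingHom ((αhom (R := R) (B := B) Λ).comp C) (αhom (R := R) (B := B) Λ X) := by
    apply Polynomial.ringHom_ext
    · intro r; simp
    · simp
  conv_lhs => rw [this]
  rfl

lemma ρhom_reflect_mul (N : ℕ) (q : R[X]) (hq : q.natDegree ≤ N) :
    ρhom (R := R) (B := B) Λ (reflect N q) * αhom (R := R) (B := B) Λ X ^ N =
      αhom (R := R) (B := B) Λ q := by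
  letI : Invertible (αhom (R := R) (B := B) Λ X) :=
    ⟨ρhom (R := R) (B := B) Λ X, by rw [mul_comm]; exact αhom_X_mul_ρhom_X Λ,
      αhom_X_mul_ρhom_X Λ⟩
  have h := eval₂_reflect_mul_pow ((αhom (R := R) (B := B) Λ).comp C)
    (αhom (R := R) (B := B) Λ X) N q hq
  rw [← αhom_eq_eval₂] at h
  rw [← h]
  congr 1
  have h1 : ⅟(αhom (R := R) (B := B) Λ X) = ρhom (R := R) (B := B) Λ X := rfl
  rw [h1, ρhom, coe_eval₂RingHom, eval₂_X]

lemma αhom_reflect_mul (N : ℕ) (g : R[X]) (hg : g.natDegree ≤ N) :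
    αhom (R := R) (B := B) Λ (reflect N g) * ρhom (R := R) (B := B) Λ X ^ N =
      ρhom (R := R) (B := B) Λ g := by
  letI : Invertible (ρhom (R := R) (B := B) Λ X) :=
    ⟨αhom (R := R) (B := B) Λ X, αhom_X_mul_ρhom_X Λ,
      by rw [mul_comm]; exact αhom_X_mul_ρhom_X Λ⟩
  have h := eval₂_reflect_mul_pow ((αhom (R := R) (B := B) Λ).comp C)
    (ρhom (R := R) (B := B) Λ X) N g hg
  have h1 : ⅟(ρhom (R := R) (B := B) Λ X) = αhom (R := R) (B := B) Λ X := rfl
  rw [h1, ← αhom_eq_eval₂] at h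
  rw [h]
  conv_rhs => rw [ρhom, coe_eval₂RingHom]
  rw [ρhom, coe_eval₂RingHom, eval₂_X]

end Rho

section Quot

universe u

variable {R : Type u} [CommRing R] [HenselianLocalRing R]
  {B : Type u} [CommRing B] [Algebra R B] [Algebra R[X] B] [IsScalarTower R R[X] B]
  (hB : Hens2.IsPairHenselization R[X] (Ideal.span {(X : R[X])}) B)
  (Λ : Type*) [CommRing Λ] [Algebra B Λ] [IsLocalization.Away (algebraMap R[X] B X) Λ]

include hB

/-- injectivity of `R[s]/(Q*) → Λ/(Q)`. -/
theorem mem_span_of_ρhom_mem (Q : R[X]) (hQ : Q.Monic)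
    (hQc : ∀ i : ℕ, i < Q.natDegree → Q.coeff i ∈ maximalIdeal R) (g : R[X])
    (h : ρhom (R := R) (B := B) Λ g ∈
      Ideal.span {ρhom (R := R) (B := B) Λ (reflect Q.natDegree Q)}) :
    g ∈ Ideal.span {reflect Q.natDegree Q} := by
  obtain ⟨lam, hlam⟩ := Ideal.mem_span_singleton'.1 h
  have hτσ := αhom_X_mul_ρhom_X (R := R) (B := B) Λ
  have hg' := αhom_reflect_mul (R := R) (B := B) Λ g.natDegree g le_rfl
  have hQs := ρhom_reflect_mul (R := R) (B := B) Λ Q.natDegree Q le_rfl
  obtain ⟨l, b, hb⟩ := IsLocalization.Away.surj (algebraMap R[X] B X)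
    (lam * ρhom (R := R) (B := B) Λ X ^ Q.natDegree * αhom (R := R) (B := B) Λ X ^ g.natDegree)
  have hτpow : ∀ k : ℕ, αhom (R := R) (B := B) Λ X ^ k * ρhom (R := R) (B := B) Λ X ^ k = 1 := by
    intro k; rw [← mul_pow, hτσ, one_pow]
  have hb' : lam * ρhom (R := R) (B := B) Λ X ^ Q.natDegree *
      αhom (R := R) (B := B) Λ X ^ g.natDegree * αhom (R := R) (B := B) Λ X ^ l =
      algebraMap B Λ b := hb
  have h1 : algebraMap B Λ (algebraMap R[X] B (reflect g.natDegree g) * algebraMap R[X] B X ^ l) =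
      algebraMap B Λ (algebraMap R[X] B Q * b) := by
    rw [map_mul, map_mul, ← hb', map_pow]
    change αhom (R := R) (B := B) Λ (reflect g.natDegree g) * αhom (R := R) (B := B) Λ X ^ l =
      αhom (R := R) (B := B) Λ Q * _
    have e1 := hτpow g.natDegree
    have e2 := hτpow Q.natDegree
    linear_combination
      (-(αhom (R := R) (B := B) Λ (reflect g.natDegree g)) * αhom (R := R) (B := B) Λ X ^ l) * e1 +
      (αhom (R := R) (B := B) Λ X ^ g.natDegree * αhom (R := R) (B := B) Λ X ^ l) * hg' -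
      (αhom (R := R) (B := B) Λ X ^ g.natDegree * αhom (R := R) (B := B) Λ X ^ l) * hlam -
      (lam * ρhom (R := R) (B := B) Λ (reflect Q.natDegree Q) *
        αhom (R := R) (B := B) Λ X ^ g.natDegree * αhom (R := R) (B := B) Λ X ^ l) * e2 +
      (lam * ρhom (R := R) (B := B) Λ X ^ Q.natDegree *
        αhom (R := R) (B := B) Λ X ^ g.natDegree * αhom (R := R) (B := B) Λ X ^ l) * hQs
  obtain ⟨⟨_, l', rfl⟩, hc⟩ :=
    (IsLocalization.eq_iff_exists (Submonoid.powers (algebraMap R[X] B X)) Λ).1 h1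
  have h2 : algebraMap R[X] B (X ^ (l' + l) * reflect g.natDegree g) ∈
      Ideal.span {algebraMap R[X] B Q} := by
    rw [Ideal.mem_span_singleton']
    refine ⟨algebraMap R[X] B X ^ l' * b, ?_⟩
    rw [map_mul, map_pow, pow_add]
    simp only at hc
    linear_combination -hc
  have h3 := (weierstrass_quotient hB Q hQ hQc).2 _ h2
  obtain ⟨h, hh⟩ := Ideal.mem_span_singleton'.1 h3
  rw [Ideal.mem_span_singleton']
  by_cases h0 : h = 0
  · rw [h0, zero_mul] at hh
    have h4 : reflect g.natDegree g = 0 := by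
      have := (monic_X_pow (R := R) (l' + l)).isRegular.left
      exact this (by dsimp only; rw [← hh, mul_zero])
    refine ⟨0, ?_⟩
    rw [zero_mul, ← reflect_reflect g.natDegree g, h4, reflect_zero]
  · have hdeg : Q.natDegree + h.natDegree ≤ (l' + l) + g.natDegree := by
      rw [← hQ.natDegree_mul' h0, mul_comm, hh]
      refine (natDegree_mul_le).trans ?_
      exact Nat.add_le_add (natDegree_X_pow_le _) (natDegree_reflect_le' _ _ le_rfl)
    have e1 : reflect ((l' + l) + g.natDegree) (X ^ (l' + l) * reflect g.natDegree g) = g := by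
      rw [reflect_mul _ _ (natDegree_X_pow_le _) (natDegree_reflect_le' _ _ le_rfl),
        reflect_X_pow_self, one_mul, reflect_reflect]
    obtain ⟨e, he⟩ : ∃ e, (l' + l) + g.natDegree = Q.natDegree + e ∧ h.natDegree ≤ e :=
      ⟨(l' + l) + g.natDegree - Q.natDegree, by omega, by omega⟩
    refine ⟨reflect e h, ?_⟩
    rw [← e1, ← hh, he.1, mul_comm h Q, reflect_mul _ _ le_rfl he.2, mul_comm]

/-- surjectivity of `R[s]/(Q*) → Λ/(Q)`. -/
theorem exists_ρhom_sub_mem (Q : R[X]) (hQ : Q.Monic)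
    (hQc : ∀ i : ℕ, i < Q.natDegree → Q.coeff i ∈ maximalIdeal R) (y : Λ) :
    ∃ g : R[X], ρhom (R := R) (B := B) Λ g - y ∈
      Ideal.span {ρhom (R := R) (B := B) Λ (reflect Q.natDegree Q)} := by
  have hτσ := αhom_X_mul_ρhom_X (R := R) (B := B) Λ
  obtain ⟨i, b, hb⟩ := IsLocalization.Away.surj (algebraMap R[X] B X) y
  obtain ⟨q, hq⟩ := (weierstrass_quotient hB Q hQ hQc).1 b
  obtain ⟨c, hc⟩ := Ideal.mem_span_singleton'.1 hq
  have E1 : y * αhom (R := R) (B := B) Λ X ^ i = algebraMap B Λ b := hb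
  have E2 : algebraMap B Λ c * αhom (R := R) (B := B) Λ Q =
      αhom (R := R) (B := B) Λ q - algebraMap B Λ b := by
    have := congrArg (algebraMap B Λ) hc
    rw [map_mul, map_sub] at this
    exact this
  have E3 := ρhom_reflect_mul (R := R) (B := B) Λ q.natDegree q le_rfl
  have E4 := ρhom_reflect_mul (R := R) (B := B) Λ Q.natDegree Q le_rfl
  have hcoeff : (reflect Q.natDegree Q).coeff 0 = 1 := by
    rw [coeff_reflect, revAt_le (Nat.zero_le _), Nat.sub_zero]
    exact hQ
  have hdiv := divX_mul_X_add (reflect Q.natDegree Q)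
  rw [hcoeff, map_one] at hdiv
  obtain ⟨w, E5⟩ := sub_dvd_pow_sub_pow
    (ρhom (R := R) (B := B) Λ (-divX (reflect Q.natDegree Q)))
    (αhom (R := R) (B := B) Λ X) q.natDegree
  have E6 : ρhom (R := R) (B := B) Λ (-divX (reflect Q.natDegree Q)) -
      αhom (R := R) (B := B) Λ X =
      -αhom (R := R) (B := B) Λ X * ρhom (R := R) (B := B) Λ (reflect Q.natDegree Q) := by
    have h1 := congrArg (ρhom (R := R) (B := B) Λ) hdiv
    rw [map_add, map_mul, map_one] at h1
    rw [map_neg]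
    linear_combination (ρhom (R := R) (B := B) Λ (divX (reflect Q.natDegree Q))) * hτσ -
      αhom (R := R) (B := B) Λ X * h1
  have E7 : αhom (R := R) (B := B) Λ X ^ i * ρhom (R := R) (B := B) Λ X ^ i = 1 := by
    rw [← mul_pow, hτσ, one_pow]
  refine ⟨reflect q.natDegree q * (-divX (reflect Q.natDegree Q)) ^ q.natDegree * X ^ i, ?_⟩
  rw [Ideal.mem_span_singleton']
  refine ⟨-(ρhom (R := R) (B := B) Λ (reflect q.natDegree q) * ρhom (R := R) (B := B) Λ X ^ i *
      αhom (R := R) (B := B) Λ X * w) +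
    algebraMap B Λ c * αhom (R := R) (B := B) Λ X ^ Q.natDegree *
      ρhom (R := R) (B := B) Λ X ^ i, ?_⟩
  rw [map_mul, map_mul, map_pow, map_pow]
  linear_combination (-y) * E7 + (ρhom (R := R) (B := B) Λ X ^ i) * E1 +
    (ρhom (R := R) (B := B) Λ X ^ i) * E2 - (ρhom (R := R) (B := B) Λ X ^ i) * E3 +
    (algebraMap B Λ c * ρhom (R := R) (B := B) Λ X ^ i) * E4 -
    (ρhom (R := R) (B := B) Λ (reflect q.natDegree q) * ρhom (R := R) (B := B) Λ X ^ i) * E5 -
    (ρhom (R := R) (B := B) Λ (reflect q.natDegree q) * ρhom (R := R) (B := B) Λ X ^ i * w) * E6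

end Quot

end Groth.Agent.Lib.helper12.PicLaurent
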