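/-
helper12: Picard groups of `R[t⁻¹]`, `R{t}[1/t]`, `R((t))` (Gabber–Ramero), part 3:
the special fibre of `Λ = R{t}[1/t]` is a field; elements of `Λ` outside `mΛ` are Weierstrass
polynomials up to units; units of `R[s]` detected in `Λ`.
-/
import Groth.Agent.Lib.Helper12.PicL1
import Groth.Agent.Lib.Helper12.PicL2
import Groth.Agent.Lib.Helper12.HensIdem

set_option autoImplicit false
set_option linter.unusedSectionVars false
set_option linter.style.haveILetI false

namespace Groth.Agent.Lib.helper12.PicLaurent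

open Polynomial IsLocalRing
open Groth.Agent.Lib.helper12.HensWeierstrass

section PicEquiv

universe u

lemma subsingleton_pic_of_ringEquiv {A A' : Type u} [CommRing A] [CommRing A'] (e : A ≃+* A')
    [Subsingleton (CommRing.Pic A)] : Subsingleton (CommRing.Pic A') := by
  refine ⟨fun x y => ?_⟩
  have h : (CommRing.Pic.mapRingHom (e : A →+* A')).comp
      (CommRing.Pic.mapRingHom (e.symm : A' →+* A)) = MonoidHom.id _ := by
    rw [CommRing.Pic.mapRingHom_comp_mapRingHom]
    have : (e : A →+* A').comp (e.symm : A' →+* A) = RingHom.id A' := by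
      ext a; simp
    rw [this, CommRing.Pic.mapRingHom_id]
  have hx := congrArg (fun f => f x) h
  have hy := congrArg (fun f => f y) h
  simp only [MonoidHom.comp_apply, MonoidHom.id_apply] at hx hy
  rw [← hx, ← hy, Subsingleton.elim (CommRing.Pic.mapRingHom (e.symm : A' →+* A) x)
    (CommRing.Pic.mapRingHom (e.symm : A' →+* A) y)]

end PicEquiv

section Special

universe u

variable {R : Type u} [CommRing R] [HenselianLocalRing R]
  {B : Type u} [CommRing B] [Algebra R B] [Algebra R[X] B] [IsScalarTower R R[X] B]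
  (hB : Hens2.IsPairHenselization R[X] (Ideal.span {(X : R[X])}) B)
  (Λ : Type*) [CommRing Λ] [Algebra B Λ] [IsLocalization.Away (algebraMap R[X] B X) Λ]

/-- the ideal `mΛ`. -/
noncomputable def mΛ : Ideal Λ :=
  ((maximalIdeal R).map (algebraMap R B)).map (algebraMap B Λ)

include hB

lemma one_notMem_mΛ : (1 : Λ) ∉ mΛ (R := R) (B := B) Λ := by
  intro h
  rw [mΛ, IsLocalization.mem_map_algebraMap_iff (Submonoid.powers (algebraMap R[X] B X)) Λ] at h
  obtain ⟨⟨⟨b, hb⟩, ⟨_, n, rfl⟩⟩, hx⟩ := h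
  simp only [one_mul] at hx
  obtain ⟨⟨_, l, rfl⟩, hc⟩ :=
    (IsLocalization.eq_iff_exists (Submonoid.powers (algebraMap R[X] B X)) Λ).1 hx
  simp only at hc
  apply pow_notMem_map hB (l + n)
  rw [pow_add, hc]
  exact Ideal.mul_mem_left _ _ hb

/-- elements of `Λ` outside `mΛ` are Weierstrass polynomials up to units. -/
lemma exists_weierstrass_of_notMem (y : Λ) (hy : y ∉ mΛ (R := R) (B := B) Λ) :
    ∃ (P : R[X]) (v : Λˣ), P.Monic ∧
      (∀ i : ℕ, i < P.natDegree → P.coeff i ∈ maximalIdeal R) ∧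
      y = αhom (R := R) (B := B) Λ P * (v : Λ) := by
  obtain ⟨i, b, hb⟩ := IsLocalization.Away.surj (algebraMap R[X] B X) y
  have hτσ := αhom_X_mul_ρhom_X (R := R) (B := B) Λ
  have hb' : y * αhom (R := R) (B := B) Λ X ^ i = algebraMap B Λ b := hb
  have hbm : b ∉ (maximalIdeal R).map (algebraMap R B) := by
    intro hbm
    apply hy
    have h1 : algebraMap B Λ b ∈ mΛ (R := R) (B := B) Λ := Ideal.mem_map_of_mem _ hbm
    have h2 : y = algebraMap B Λ b * ρhom (R := R) (B := B) Λ X ^ i := by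
      rw [← hb', mul_assoc, ← mul_pow, hτσ, one_pow, mul_one]
    rw [h2]
    exact Ideal.mul_mem_right _ _ h1
  obtain ⟨P, u, hP, hPc, hbP⟩ := exists_weierstrass hB b hbm
  have hunit : IsUnit (algebraMap B Λ (u : B) * ρhom (R := R) (B := B) Λ X ^ i) :=
    (u.isUnit.map (algebraMap B Λ)).mul
      ((IsUnit.of_mul_eq_one _ (by rw [mul_comm]; exact hτσ)).pow i)
  obtain ⟨v, hv⟩ := hunit
  refine ⟨P, v, hP, hPc, ?_⟩
  rw [hv]
  have h3 : algebraMap B Λ b = αhom (R := R) (B := B) Λ P * algebraMap B Λ (u : B) := by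
    rw [hbP, map_mul]; rfl
  have h4 : αhom (R := R) (B := B) Λ X ^ i * ρhom (R := R) (B := B) Λ X ^ i = 1 := by
    rw [← mul_pow, hτσ, one_pow]
  linear_combination (ρhom (R := R) (B := B) Λ X ^ i) * hb' +
    (ρhom (R := R) (B := B) Λ X ^ i) * h3 - y * h4

/-- the special fibre `Λ/mΛ` is a field; in particular its Picard group is trivial. -/
lemma isLocalRing_quotient_mΛ : IsLocalRing (Λ ⧸ mΛ (R := R) (B := B) Λ) := by
  have hnt : Nontrivial (Λ ⧸ mΛ (R := R) (B := B) Λ) := by
    rw [Ideal.Quotient.nontrivial_iff, Ne, Ideal.eq_top_iff_one]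
    exact one_notMem_mΛ hB Λ
  refine IsLocalRing.of_isUnit_or_isUnit_one_sub_self fun a => ?_
  obtain ⟨y, rfl⟩ := Ideal.Quotient.mk_surjective a
  by_cases hy : y ∈ mΛ (R := R) (B := B) Λ
  · right
    rw [Ideal.Quotient.eq_zero_iff_mem.2 hy, sub_zero]
    exact isUnit_one
  · left
    obtain ⟨P, v, hP, hPc, hyP⟩ := exists_weierstrass_of_notMem hB Λ y hy
    -- `P ≡ X ^ d` modulo `m`
    have h1 := sub_X_pow_mem P hP hPc
    have h2 : αhom (R := R) (B := B) Λ (P - X ^ P.natDegree) ∈ mΛ (R := R) (B := B) Λ := by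
      have h3 : algebraMap R[X] B (P - X ^ P.natDegree) ∈
          (maximalIdeal R).map (algebraMap R B) := by
        have hle : (maximalIdeal R).map (algebraMap R R[X]) ≤
            ((maximalIdeal R).map (algebraMap R B)).comap (algebraMap R[X] B) := by
          rw [Ideal.map_le_iff_le_comap]
          intro r hr
          rw [Ideal.mem_comap, Ideal.mem_comap, ← IsScalarTower.algebraMap_apply R R[X] B]
          exact Ideal.mem_map_of_mem _ hr
        exact hle h1
      exact Ideal.mem_map_of_mem _ h3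
    have h4 : Ideal.Quotient.mk (mΛ (R := R) (B := B) Λ) (αhom (R := R) (B := B) Λ P) =
        Ideal.Quotient.mk (mΛ (R := R) (B := B) Λ) (αhom (R := R) (B := B) Λ X ^ P.natDegree) := by
      rw [← sub_eq_zero, ← map_sub, ← map_pow, ← map_sub, Ideal.Quotient.eq_zero_iff_mem]
      exact h2
    rw [hyP, map_mul, h4]
    have hτσ := αhom_X_mul_ρhom_X (R := R) (B := B) Λ
    exact (((IsUnit.of_mul_eq_one _ hτσ).pow _).mul v.isUnit).map
      (Ideal.Quotient.mk (mΛ (R := R) (B := B) Λ))

/-- monic polynomials in `t` are nonzerodivisors of `Λ`. -/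
lemma αhom_mem_nonZeroDivisors (P : R[X]) (hP : P.Monic) :
    αhom (R := R) (B := B) Λ P ∈ nonZeroDivisors Λ := by
  haveI : Module.Flat R[X] B := Groth.Agent.Lib.helper26.PairHens.flat_of_isPairHenselization hB
  have h1 : IsSMulRegular B (algebraMap R[X] B P) :=
    IsSMulRegular.of_flat hP.isRegular.left.isSMulRegular
  have h2 : algebraMap R[X] B P ∈ nonZeroDivisors B :=
    (isLeftRegular_iff_isRegular.1 h1.isLeftRegular).mem_nonZeroDivisors
  exact IsLocalization.map_nonZeroDivisors_le (Submonoid.powers (algebraMap R[X] B X)) Λ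
    ⟨_, h2, rfl⟩

omit hB in
/-- `ρ` maps `m[s]` into `mΛ`. -/
lemma ρhom_mem_mΛ (f : R[X]) (hf : f ∈ (maximalIdeal R).map (C : R →+* R[X])) :
    ρhom (R := R) (B := B) Λ f ∈ mΛ (R := R) (B := B) Λ := by
  rw [Ideal.mem_map_C_iff] at hf
  rw [ρhom, coe_eval₂RingHom, eval₂_eq_sum_range]
  refine Ideal.sum_mem _ fun i _ => Ideal.mul_mem_right _ _ ?_
  change algebraMap B Λ (algebraMap R[X] B (C (f.coeff i))) ∈ _
  have : algebraMap R[X] B (C (f.coeff i)) = algebraMap R B (f.coeff i) := by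
    rw [IsScalarTower.algebraMap_apply R R[X] B]; rfl
  rw [this]
  exact Ideal.mem_map_of_mem _ (Ideal.mem_map_of_mem _ (hf i))

/-- a polynomial `h ∈ 1 + m[s]` which becomes a unit in `Λ` is a unit. -/
lemma isUnit_of_isUnit_ρhom (h : R[X]) (hh : h - 1 ∈ (maximalIdeal R).map (C : R →+* R[X]))
    (hu : IsUnit (ρhom (R := R) (B := B) Λ h)) : IsUnit h := by
  rw [Ideal.mem_map_C_iff] at hh
  have hτσ := αhom_X_mul_ρhom_X (R := R) (B := B) Λ
  -- the constant coefficient is a unit
  have h0 : IsUnit (h.coeff 0) := by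
    by_contra hc
    have h1 : h.coeff 0 ∈ maximalIdeal R := (IsLocalRing.mem_maximalIdeal _).2 hc
    have h2 := hh 0
    rw [coeff_sub, coeff_one_zero] at h2
    have : (1 : R) ∈ maximalIdeal R := by
      have := (maximalIdeal R).sub_mem h1 h2
      rwa [sub_sub_cancel] at this
    exact (maximalIdeal R).ne_top_iff_one.1 (Ideal.IsMaximal.ne_top inferInstance) this
  obtain ⟨u₀, hu₀⟩ := h0
  have hcoeff : ∀ j : ℕ, 1 ≤ j → h.coeff j ∈ maximalIdeal R := by
    intro j hj
    have := hh j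
    rwa [coeff_sub, coeff_one, if_neg (by omega), sub_zero] at this
  -- the reflected, normalised polynomial
  obtain ⟨W, hW⟩ : ∃ W : R[X], W = C (↑u₀⁻¹ : R) * reflect h.natDegree h := ⟨_, rfl⟩
  have hWcoeff : ∀ i : ℕ, i ≤ h.natDegree → W.coeff i = ↑u₀⁻¹ * h.coeff (h.natDegree - i) := by
    intro i hi
    rw [hW, coeff_C_mul, coeff_reflect, revAt_le hi]
  have hWN : W.coeff h.natDegree = 1 := by
    rw [hWcoeff _ le_rfl, Nat.sub_self, ← hu₀, Units.inv_mul]
  have hWle : W.natDegree ≤ h.natDegree := by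
    rw [hW]
    exact (natDegree_C_mul_le _ _).trans (natDegree_reflect_le' _ _ le_rfl)
  have hWdeg : W.natDegree = h.natDegree :=
    natDegree_eq_of_le_of_coeff_ne_zero hWle (by rw [hWN]; exact one_ne_zero)
  have hWmonic : W.Monic := by
    rw [Monic, leadingCoeff, hWdeg, hWN]
  have hWc : ∀ i : ℕ, i < W.natDegree → W.coeff i ∈ maximalIdeal R := by
    intro i hi
    rw [hWdeg] at hi
    rw [hWcoeff i hi.le]
    exact Ideal.mul_mem_left _ _ (hcoeff _ (by omega))
  -- `α W` is a unit
  have hαW : IsUnit (αhom (R := R) (B := B) Λ W) := by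
    rw [hW, map_mul]
    refine IsUnit.mul ?_ ?_
    · exact (u₀⁻¹.isUnit.map (C : R →+* R[X])).map (αhom (R := R) (B := B) Λ)
    · have h1 := αhom_reflect_mul (R := R) (B := B) Λ h.natDegree h le_rfl
      have h2 : αhom (R := R) (B := B) Λ (reflect h.natDegree h) =
          ρhom (R := R) (B := B) Λ h * αhom (R := R) (B := B) Λ X ^ h.natDegree := by
        have h3 : ρhom (R := R) (B := B) Λ X ^ h.natDegree *
            αhom (R := R) (B := B) Λ X ^ h.natDegree = 1 := by
          rw [← mul_pow, mul_comm, hτσ, one_pow]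
        rw [← h1, mul_assoc, h3, mul_one]
      rw [h2]
      exact hu.mul ((IsUnit.of_mul_eq_one _ hτσ).pow _)
  obtain ⟨lam, hlam⟩ := hαW.exists_right_inv
  obtain ⟨l, b, hb⟩ := IsLocalization.Away.surj (algebraMap R[X] B X) lam
  have h1 : algebraMap B Λ (algebraMap R[X] B W * b) =
      algebraMap B Λ (algebraMap R[X] B X ^ l) := by
    rw [map_mul, ← hb, map_pow]
    change αhom (R := R) (B := B) Λ W * _ = _
    rw [← mul_assoc, hlam, one_mul]
  obtain ⟨⟨_, l', rfl⟩, hc⟩ :=
    (IsLocalization.eq_iff_exists (Submonoid.powers (algebraMap R[X] B X)) Λ).1 h1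
  simp only at hc
  have h2 : algebraMap R[X] B (X ^ (l' + l)) ∈ Ideal.span {algebraMap R[X] B W} := by
    rw [Ideal.mem_span_singleton']
    refine ⟨algebraMap R[X] B X ^ l' * b, ?_⟩
    rw [map_pow, pow_add]
    linear_combination hc
  have h3 := (weierstrass_quotient hB W hWmonic hWc).2 _ h2
  obtain ⟨c, hc'⟩ := Ideal.mem_span_singleton'.1 h3
  have hc0 : c ≠ 0 := by
    rintro rfl
    rw [zero_mul] at hc'
    exact (monic_X_pow (R := R) (l' + l)).ne_zero hc'.symm
  have hdeg : l' + l = W.natDegree + c.natDegree := by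
    rw [← hWmonic.natDegree_mul' hc0, mul_comm, hc', natDegree_X_pow]
  have h4 : (1 : R[X]) = reflect W.natDegree W * reflect c.natDegree c := by
    rw [← reflect_mul _ _ le_rfl le_rfl, mul_comm, hc', ← hdeg, reflect_X_pow_self]
  have h5 : reflect W.natDegree W = C (↑u₀⁻¹ : R) * h := by
    rw [hWdeg, hW, reflect_C_mul, reflect_reflect]
  rw [h5] at h4
  exact IsUnit.of_mul_eq_one (C (↑u₀⁻¹ : R) * reflect c.natDegree c) (by rw [h4]; ring)

end Special

end Groth.Agent.Lib.helper12.PicLaurent
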