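/-
helper12: Picard groups of `R[t⁻¹]`, `R{t}[1/t]`, `R((t))` (Gabber–Ramero), part 4:
`Pic R[s] → Pic Λ`, `Λ = R{t}[1/t]`, `s ↦ t⁻¹`, is bijective for `R` henselian local.
-/
import Groth.Agent.Lib.Helper12.PicL3

set_option autoImplicit false
set_option linter.unusedSectionVars false
set_option linter.style.haveILetI false

namespace Groth.Agent.Lib.helper12.PicLaurent

open Polynomial IsLocalRing TensorProduct
open Groth.Agent.Lib.helper12.HensWeierstrass

section Poly

variable {R : Type*} [CommRing R]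

/-- a polynomial with unit constant coefficient is a nonzerodivisor. -/
lemma mem_nonZeroDivisors_of_isUnit_coeff_zero (p : R[X]) (hp : IsUnit (p.coeff 0)) :
    p ∈ nonZeroDivisors R[X] := by
  by_contra h
  obtain ⟨a, ha, hap⟩ := Polynomial.notMem_nonZeroDivisors_iff.1 h
  apply ha
  have h1 := congrArg (fun q => q.coeff 0) hap
  simp only [coeff_smul, smul_eq_mul, coeff_zero] at h1
  exact hp.mul_left_eq_zero.1 h1

/-- the ideal generated by a nonzerodivisor is free. -/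
lemma free_span_singleton (p : R[X]) (hp : p ∈ nonZeroDivisors R[X]) :
    Module.Free R[X] (Ideal.span {p}) := by
  let f : R[X] →ₗ[R[X]] (Ideal.span {p}) :=
    { toFun := fun a => ⟨a * p, Ideal.mul_mem_left _ _ (Ideal.mem_span_singleton_self p)⟩
      map_add' := fun a b => by ext; simp [add_mul]
      map_smul' := fun c a => by ext; simp [mul_assoc] }
  have hf : Function.Bijective f := by
    constructor
    · rw [← LinearMap.ker_eq_bot, LinearMap.ker_eq_bot']
      intro a ha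
      have : a * p = 0 := congrArg Subtype.val ha
      exact (mul_right_mem_nonZeroDivisors_eq_zero_iff hp).1 this
    · rintro ⟨y, hy⟩
      obtain ⟨a, rfl⟩ := Ideal.mem_span_singleton'.1 hy
      exact ⟨a, rfl⟩
  exact Module.Free.of_equiv (LinearEquiv.ofBijective f hf)

end Poly

section Core

universe u

variable {R : Type u} [CommRing R] [HenselianLocalRing R]
  {B : Type u} [CommRing B] [Algebra R B] [Algebra R[X] B] [IsScalarTower R R[X] B]
  (hB : Hens2.IsPairHenselization R[X] (Ideal.span {(X : R[X])}) B)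
  (Λ : Type*) [CommRing Λ] [Algebra B Λ] [IsLocalization.Away (algebraMap R[X] B X) Λ]

/-- the `R[s]`-algebra structure on `Λ`, `s ↦ t⁻¹`. -/
@[instance_reducible]
noncomputable def ρAlgebra : Algebra R[X] Λ := (ρhom (R := R) (B := B) Λ).toAlgebra

omit [HenselianLocalRing R] in
/-- the reflected Weierstrass polynomial is `≡ 1` modulo `m`. -/
lemma reflect_sub_one_mem [IsLocalRing R] (P : R[X]) (hP : P.Monic)
    (hPc : ∀ i : ℕ, i < P.natDegree → P.coeff i ∈ maximalIdeal R) :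
    reflect P.natDegree P - 1 ∈ (maximalIdeal R).map (C : R →+* R[X]) := by
  rw [Ideal.mem_map_C_iff]
  intro j
  rw [coeff_sub, coeff_reflect]
  rcases Nat.eq_zero_or_pos j with rfl | hj
  · rw [revAt_le (Nat.zero_le _), Nat.sub_zero, coeff_one_zero]
    have : P.coeff P.natDegree = 1 := hP
    rw [this, sub_self]
    exact zero_mem _
  · rw [coeff_one, if_neg (by omega), sub_zero]
    by_cases hjd : j ≤ P.natDegree
    · rw [revAt_le hjd]
      exact hPc _ (by omega)
    · have : revAt P.natDegree j = j := by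
        rw [revAt, Function.Embedding.coeFn_mk, if_neg hjd]
      rw [this, coeff_eq_zero_of_natDegree_lt (by omega)]
      exact zero_mem _

include hB

/-- data attached to a Weierstrass polynomial `P`: the comparison `R[s]/(π^n) ≅ Λ/(π^n)` for
`π = P*`. -/
lemma weierstrass_corr (P : R[X]) (hP : P.Monic)
    (hPc : ∀ i : ℕ, i < P.natDegree → P.coeff i ∈ maximalIdeal R) (n : ℕ) :
    (∀ g : R[X], ρhom (R := R) (B := B) Λ g ∈
        Ideal.span {ρhom (R := R) (B := B) Λ (reflect P.natDegree P) ^ n} →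
      g ∈ Ideal.span {reflect P.natDegree P ^ n}) ∧
    (∀ y : Λ, ∃ g : R[X], ρhom (R := R) (B := B) Λ g - y ∈
        Ideal.span {ρhom (R := R) (B := B) Λ (reflect P.natDegree P) ^ n}) := by
  obtain ⟨hPn, hPnc⟩ := weierstrass_pow P hP hPc n
  have hQ : reflect (P ^ n).natDegree (P ^ n) = reflect P.natDegree P ^ n := by
    rw [hP.natDegree_pow, reflect_pow _ _ le_rfl]
  constructor
  · intro g hg
    rw [← hQ]
    apply mem_span_of_ρhom_mem hB Λ (P ^ n) hPn hPnc
    rwa [hQ, map_pow]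
  · intro y
    obtain ⟨g, hg⟩ := exists_ρhom_sub_mem hB Λ (P ^ n) hPn hPnc y
    rw [hQ, map_pow] at hg
    exact ⟨g, hg⟩

/-- `ρ (P*)` and `α P` differ by a unit. -/
lemma ρhom_reflect_eq (P : R[X]) :
    ρhom (R := R) (B := B) Λ (reflect P.natDegree P) =
      αhom (R := R) (B := B) Λ P * ρhom (R := R) (B := B) Λ X ^ P.natDegree := by
  have h1 := ρhom_reflect_mul (R := R) (B := B) Λ P.natDegree P le_rfl
  have h2 : αhom (R := R) (B := B) Λ X ^ P.natDegree *
      ρhom (R := R) (B := B) Λ X ^ P.natDegree = 1 := by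
    rw [← mul_pow, αhom_X_mul_ρhom_X, one_pow]
  rw [← h1, mul_assoc, h2, mul_one]

/-- **essential surjectivity**: every invertible `Λ`-module is extended from an invertible
ideal of `R[s]`. -/
theorem exists_invertible_ideal (N₂ : Type*) [AddCommGroup N₂] [Module Λ N₂]
    [Module.Invertible Λ N₂] :
    letI := ρAlgebra (R := R) (B := B) Λ
    ∃ I : Ideal R[X], Module.Invertible R[X] I ∧ Nonempty ((Λ ⊗[R[X]] I) ≃ₗ[Λ] N₂) := by
  letI := ρAlgebra (R := R) (B := B) Λ
  haveI := isLocalRing_quotient_mΛ hB Λ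
  obtain ⟨x, r, hr1, hrN⟩ := exists_generator_mod (mΛ (R := R) (B := B) Λ) N₂
  have hr : r ∉ mΛ (R := R) (B := B) Λ := fun h => one_notMem_mΛ hB Λ (by
    have := (mΛ (R := R) (B := B) Λ).sub_mem h hr1
    rwa [sub_sub_cancel] at this)
  obtain ⟨P, v, hP, hPc, hrP⟩ := exists_weierstrass_of_notMem hB Λ r hr
  have hrnzd : r ∈ nonZeroDivisors Λ := by
    rw [hrP]
    exact mul_mem (αhom_mem_nonZeroDivisors hB Λ P hP) v.isUnit.mem_nonZeroDivisors
  obtain ⟨J, hrJ, ⟨e⟩⟩ := exists_ideal_equiv N₂ x r hrnzd hrN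
  haveI : Module.Invertible Λ J := Module.Invertible.congr e
  obtain ⟨π, hπ⟩ : ∃ π : R[X], π = reflect P.natDegree P := ⟨_, rfl⟩
  have hρπ : ρhom (R := R) (B := B) Λ π =
      r * ((↑v⁻¹ : Λ) * ρhom (R := R) (B := B) Λ X ^ P.natDegree) := by
    rw [hπ, ρhom_reflect_eq hB Λ P, hrP]
    have := v.mul_inv
    linear_combination (-(αhom (R := R) (B := B) Λ P) *
      ρhom (R := R) (B := B) Λ X ^ P.natDegree) * this
  have hπJ : ρhom (R := R) (B := B) Λ π ∈ J := by
    rw [hρπ]; exact Ideal.mul_mem_right _ _ hrJ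
  have hcorr := fun n => weierstrass_corr hB Λ P hP hPc n
  rw [← hπ] at hcorr
  -- the inverse ideal
  obtain ⟨J', hJ'⟩ : ∃ J' : Ideal Λ,
      J' = (Ideal.span {ρhom (R := R) (B := B) Λ π}).colon (J : Set Λ) := ⟨_, rfl⟩
  have hJJ' : J * J' = Ideal.span {ρhom (R := R) (B := B) Λ π} := by
    rw [hJ']; exact mul_colon_eq_span J _ hπJ
  have hπJ' : ρhom (R := R) (B := B) Λ π ∈ J' := by
    rw [hJ', Submodule.mem_colon]
    intro y _
    rw [smul_eq_mul]
    exact Ideal.mul_mem_right _ _ (Ideal.mem_span_singleton_self _)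
  have hIJ : (J.comap (ρhom (R := R) (B := B) Λ)).map (ρhom (R := R) (B := B) Λ) = J :=
    map_comap_eq_of_mem _ π 1 (hcorr 1).2 J (by rwa [pow_one])
  have hI'J' : (J'.comap (ρhom (R := R) (B := B) Λ)).map (ρhom (R := R) (B := B) Λ) = J' :=
    map_comap_eq_of_mem _ π 1 (hcorr 1).2 J' (by rwa [pow_one])
  have hπI : π ∈ J.comap (ρhom (R := R) (B := B) Λ) := Ideal.mem_comap.2 hπJ
  have hπI' : π ∈ J'.comap (ρhom (R := R) (B := B) Λ) := Ideal.mem_comap.2 hπJ'
  have hprod : J.comap (ρhom (R := R) (B := B) Λ) * J'.comap (ρhom (R := R) (B := B) Λ) =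
      Ideal.span {π} := by
    have h1 : (J.comap (ρhom (R := R) (B := B) Λ) *
        J'.comap (ρhom (R := R) (B := B) Λ)).map (ρhom (R := R) (B := B) Λ) =
        (Ideal.span {π}).map (ρhom (R := R) (B := B) Λ) := by
      rw [Ideal.map_mul, hIJ, hI'J', hJJ', Ideal.map_span, Set.image_singleton]
    have h2 : π ^ 2 ∈ J.comap (ρhom (R := R) (B := B) Λ) *
        J'.comap (ρhom (R := R) (B := B) Λ) := by
      rw [pow_two]; exact Ideal.mul_mem_mul hπI hπI'
    have h3 : π ^ 2 ∈ Ideal.span {π} := by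
      rw [pow_two]; exact Ideal.mul_mem_left _ _ (Ideal.mem_span_singleton_self _)
    rw [← comap_map_eq_of_mem _ π 2 (hcorr 2).1 (hcorr 2).2 _ h2, h1,
      comap_map_eq_of_mem _ π 2 (hcorr 2).1 (hcorr 2).2 _ h3]
  have hπnzd : π ∈ nonZeroDivisors R[X] := by
    apply mem_nonZeroDivisors_of_isUnit_coeff_zero
    rw [hπ, coeff_reflect, revAt_le (Nat.zero_le _), Nat.sub_zero]
    have : P.coeff P.natDegree = 1 := hP
    rw [this]
    exact isUnit_one
  haveI : Module.Invertible R[X] (J.comap (ρhom (R := R) (B := B) Λ)) :=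
    invertible_of_mul_eq_span _ _ π hπnzd hprod
  obtain ⟨e'⟩ := nonempty_baseChange_equiv (J.comap (ρhom (R := R) (B := B) Λ)) J hIJ
  exact ⟨_, inferInstance, ⟨e'.trans e.symm⟩⟩

/-- **injectivity**: an invertible `R[s]`-module which becomes free over `Λ` is free. -/
theorem free_of_baseChange_equiv (M : Type*) [AddCommGroup M] [Module R[X] M]
    [Module.Invertible R[X] M]
    (hfree : letI := ρAlgebra (R := R) (B := B) Λ; Nonempty ((Λ ⊗[R[X]] M) ≃ₗ[Λ] Λ)) :
    Module.Free R[X] M := by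
  letI := ρAlgebra (R := R) (B := B) Λ
  have hτσ := αhom_X_mul_ρhom_X (R := R) (B := B) Λ
  haveI : Subsingleton (CommRing.Pic (R[X] ⧸ (maximalIdeal R).map (C : R →+* R[X]))) := by
    have e : (ResidueField R)[X] ≃+* R[X] ⧸ (maximalIdeal R).map (C : R →+* R[X]) :=
      Ideal.polynomialQuotientEquivQuotientPolynomial (maximalIdeal R)
    exact subsingleton_pic_of_ringEquiv e
  obtain ⟨x, r, hr1, hrM⟩ := exists_generator_mod ((maximalIdeal R).map (C : R →+* R[X])) M
  -- `r` has unit constant coefficient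
  have hr0 : IsUnit (r.coeff 0) := by
    by_contra hc
    have h1 : r.coeff 0 ∈ maximalIdeal R := (IsLocalRing.mem_maximalIdeal _).2 hc
    have h2 := (Ideal.mem_map_C_iff.1 hr1) 0
    rw [coeff_sub, coeff_one_zero] at h2
    have : (1 : R) ∈ maximalIdeal R := by
      have := (maximalIdeal R).sub_mem h1 h2
      rwa [sub_sub_cancel] at this
    exact (maximalIdeal R).ne_top_iff_one.1 (Ideal.IsMaximal.ne_top inferInstance) this
  have hrnzd := mem_nonZeroDivisors_of_isUnit_coeff_zero r hr0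
  obtain ⟨J₁, hrJ, ⟨e⟩⟩ := exists_ideal_equiv M x r hrnzd hrM
  obtain ⟨θ₀⟩ := hfree
  -- the extension of `J₁` to `Λ` is principal
  let g : J₁ →ₗ[R[X]] Λ := (Algebra.linearMap R[X] Λ).comp J₁.subtype
  let f : (Λ ⊗[R[X]] J₁) →ₗ[Λ] Λ := LinearMap.liftBaseChange Λ g
  have hf : ∀ z, f z ∈ J₁.map (ρhom (R := R) (B := B) Λ) := by
    intro z
    induction z using TensorProduct.induction_on with
    | zero => rw [map_zero]; exact zero_mem _
    | tmul lam a =>
      have : f (lam ⊗ₜ[R[X]] a) = lam * ρhom (R := R) (B := B) Λ a := by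
        simp [f, g]; rfl
      rw [this]
      exact Ideal.mul_mem_left _ _ (Ideal.mem_map_of_mem _ a.2)
    | add z z' hz hz' => rw [map_add]; exact add_mem hz hz'
  let θ : Λ ≃ₗ[Λ] (Λ ⊗[R[X]] J₁) :=
    θ₀.symm.trans (LinearEquiv.baseChange R[X] Λ M J₁ e)
  obtain ⟨y, hy⟩ : ∃ y : Λ, y = f (θ 1) := ⟨_, rfl⟩
  have hmap : J₁.map (ρhom (R := R) (B := B) Λ) = Ideal.span {y} := by
    apply le_antisymm
    · rw [Ideal.map_le_iff_le_comap]
      intro a ha
      rw [Ideal.mem_comap, Ideal.mem_span_singleton']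
      have h1 : ρhom (R := R) (B := B) Λ a = f ((1 : Λ) ⊗ₜ[R[X]] ⟨a, ha⟩) := by
        simp [f, g]; rfl
      refine ⟨θ.symm ((1 : Λ) ⊗ₜ[R[X]] ⟨a, ha⟩), ?_⟩
      have h3 : (1 : Λ) ⊗ₜ[R[X]] (⟨a, ha⟩ : J₁) =
          (θ.symm ((1 : Λ) ⊗ₜ[R[X]] (⟨a, ha⟩ : J₁))) • θ 1 := by
        rw [← map_smul, smul_eq_mul, mul_one, LinearEquiv.apply_symm_apply]
      rw [h1, hy]
      conv_rhs => rw [h3]
      rw [map_smul, smul_eq_mul]
    · rw [Ideal.span_singleton_le_iff_mem, hy]
      exact hf _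
  -- `ρ r` and `y` are Weierstrass polynomials up to units
  have hρr1 : ρhom (R := R) (B := B) Λ r - 1 ∈ mΛ (R := R) (B := B) Λ := by
    have := ρhom_mem_mΛ (R := R) (B := B) Λ (r - 1) hr1
    rwa [map_sub, map_one] at this
  have hρr : ρhom (R := R) (B := B) Λ r ∉ mΛ (R := R) (B := B) Λ := fun h =>
    one_notMem_mΛ hB Λ (by
      have := (mΛ (R := R) (B := B) Λ).sub_mem h hρr1
      rwa [sub_sub_cancel] at this)
  have hρrmem : ρhom (R := R) (B := B) Λ r ∈ Ideal.span {y} := by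
    rw [← hmap]; exact Ideal.mem_map_of_mem _ hrJ
  have hy' : y ∉ mΛ (R := R) (B := B) Λ := by
    intro h
    obtain ⟨c, hc⟩ := Ideal.mem_span_singleton'.1 hρrmem
    exact hρr (hc ▸ Ideal.mul_mem_left _ _ h)
  obtain ⟨P, v, hP, hPc, hρrP⟩ := exists_weierstrass_of_notMem hB Λ _ hρr
  obtain ⟨P2, v2, hP2, hP2c, hyP2⟩ := exists_weierstrass_of_notMem hB Λ y hy'
  obtain ⟨π, hπ⟩ : ∃ π : R[X], π = reflect P.natDegree P := ⟨_, rfl⟩
  obtain ⟨π2, hπ2⟩ : ∃ π2 : R[X], π2 = reflect P2.natDegree P2 := ⟨_, rfl⟩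
  have hcorr := weierstrass_corr hB Λ P hP hPc 1
  have hcorr2 := weierstrass_corr hB Λ P2 hP2 hP2c 1
  rw [← hπ, pow_one, pow_one] at hcorr
  rw [← hπ2, pow_one, pow_one] at hcorr2
  have hρπ : ρhom (R := R) (B := B) Λ π =
      αhom (R := R) (B := B) Λ P * ρhom (R := R) (B := B) Λ X ^ P.natDegree := by
    rw [hπ]; exact ρhom_reflect_eq hB Λ P
  have hρπ2 : ρhom (R := R) (B := B) Λ π2 =
      αhom (R := R) (B := B) Λ P2 * ρhom (R := R) (B := B) Λ X ^ P2.natDegree := by
    rw [hπ2]; exact ρhom_reflect_eq hB Λ P2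
  have hpow : ∀ k : ℕ, αhom (R := R) (B := B) Λ X ^ k * ρhom (R := R) (B := B) Λ X ^ k = 1 := by
    intro k; rw [← mul_pow, hτσ, one_pow]
  -- `r = h π` with `h` a unit
  have hrπ : r ∈ Ideal.span {π} := by
    apply hcorr.1
    rw [Ideal.mem_span_singleton']
    refine ⟨(v : Λ) * αhom (R := R) (B := B) Λ X ^ P.natDegree, ?_⟩
    rw [hρπ, hρrP]
    linear_combination ((v : Λ) * αhom (R := R) (B := B) Λ P) * hpow P.natDegree
  obtain ⟨h, hh⟩ := Ideal.mem_span_singleton'.1 hrπ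
  have hπ1 : π - 1 ∈ (maximalIdeal R).map (C : R →+* R[X]) := by
    rw [hπ]; exact reflect_sub_one_mem P hP hPc
  have hh1 : h - 1 ∈ (maximalIdeal R).map (C : R →+* R[X]) := by
    have : h - 1 = (r - 1) - h * (π - 1) := by rw [← hh]; ring
    rw [this]
    exact Ideal.sub_mem _ hr1 (Ideal.mul_mem_left _ _ hπ1)
  have hπnzdΛ : ρhom (R := R) (B := B) Λ π ∈ nonZeroDivisors Λ := by
    rw [hρπ]
    exact mul_mem (αhom_mem_nonZeroDivisors hB Λ P hP)
      ((IsUnit.of_mul_eq_one _ (by rw [mul_comm]; exact hτσ)).pow _).mem_nonZeroDivisors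
  have hhu : IsUnit (ρhom (R := R) (B := B) Λ h) := by
    have h1 : (ρhom (R := R) (B := B) Λ h -
        (v : Λ) * αhom (R := R) (B := B) Λ X ^ P.natDegree) * ρhom (R := R) (B := B) Λ π = 0 := by
      have h2 := congrArg (ρhom (R := R) (B := B) Λ) hh
      rw [map_mul] at h2
      rw [sub_mul, h2, hρrP, hρπ]
      linear_combination (-(v : Λ) * αhom (R := R) (B := B) Λ P) * hpow P.natDegree
    have h3 := (mul_right_mem_nonZeroDivisors_eq_zero_iff hπnzdΛ).1 h1
    rw [sub_eq_zero] at h3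
    rw [h3]
    exact v.isUnit.mul ((IsUnit.of_mul_eq_one _ hτσ).pow _)
  have hhunit := isUnit_of_isUnit_ρhom hB Λ h hh1 hhu
  have hπJ₁ : π ∈ J₁ := by
    obtain ⟨h', hh'⟩ := hhunit.exists_left_inv
    have : π = h' * r := by rw [← hh, ← mul_assoc, hh', one_mul]
    rw [this]
    exact Ideal.mul_mem_left _ _ hrJ
  -- `span {y} = span {ρ π2}`
  have hspan : Ideal.span {y} = Ideal.span {ρhom (R := R) (B := B) Λ π2} := by
    rw [hyP2, hρπ2]
    apply le_antisymm
    · rw [Ideal.span_singleton_le_iff_mem, Ideal.mem_span_singleton']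
      refine ⟨(v2 : Λ) * αhom (R := R) (B := B) Λ X ^ P2.natDegree, ?_⟩
      linear_combination ((v2 : Λ) * αhom (R := R) (B := B) Λ P2) * hpow P2.natDegree
    · rw [Ideal.span_singleton_le_iff_mem, Ideal.mem_span_singleton']
      refine ⟨(↑v2⁻¹ : Λ) * ρhom (R := R) (B := B) Λ X ^ P2.natDegree, ?_⟩
      have := v2.inv_mul
      linear_combination (αhom (R := R) (B := B) Λ P2 *
        ρhom (R := R) (B := B) Λ X ^ P2.natDegree) * this
  have hππ2 : π ∈ Ideal.span {π2} := by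
    apply hcorr2.1
    rw [← hspan, ← hmap]
    exact Ideal.mem_map_of_mem _ hπJ₁
  have hJ₁ : J₁ = Ideal.span {π2} := by
    have h1 : π ^ 1 ∈ J₁ := by rwa [pow_one]
    have h2 : π ^ 1 ∈ Ideal.span {π2} := by rwa [pow_one]
    have hc1 : (∀ g : R[X], ρhom (R := R) (B := B) Λ g ∈
        Ideal.span {ρhom (R := R) (B := B) Λ π ^ 1} → g ∈ Ideal.span {π ^ 1}) := by
      rw [pow_one, pow_one]; exact hcorr.1
    have hc2 : (∀ y : Λ, ∃ g : R[X], ρhom (R := R) (B := B) Λ g - y ∈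
        Ideal.span {ρhom (R := R) (B := B) Λ π ^ 1}) := by
      rw [pow_one]; exact hcorr.2
    rw [← comap_map_eq_of_mem _ π 1 hc1 hc2 J₁ h1, hmap, hspan,
      ← comap_map_eq_of_mem _ π 1 hc1 hc2 (Ideal.span {π2}) h2, Ideal.map_span,
      Set.image_singleton]
  have hπ2nzd : π2 ∈ nonZeroDivisors R[X] := by
    apply mem_nonZeroDivisors_of_isUnit_coeff_zero
    rw [hπ2, coeff_reflect, revAt_le (Nat.zero_le _), Nat.sub_zero]
    have : P2.coeff P2.natDegree = 1 := hP2
    rw [this]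
    exact isUnit_one
  haveI : Module.Free R[X] (Ideal.span {π2}) := free_span_singleton π2 hπ2nzd
  haveI : Module.Free R[X] J₁ := by rw [hJ₁]; infer_instance
  exact Module.Free.of_equiv e.symm

end Core

end Groth.Agent.Lib.helper12.PicLaurent
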