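/-
helper12: Picard groups of `R[t⁻¹]`, `R{t}[1/t]`, `R((t))` (Gabber–Ramero), part 5:
`Pic R[t⁻¹] → Pic R((t))` is bijective for a henselian local ring `R`.
-/
import Groth.Agent.Lib.Helper12.PicL4
import Groth.Agent.Lib.Helper12.GabberMatLaurent

set_option autoImplicit false
set_option linter.unusedSectionVars false
set_option linter.style.haveILetI false

namespace Groth.Agent.Lib.helper12.PicLaurent

open Polynomial IsLocalRing TensorProduct
open Groth.Agent.Lib.helper12.GabberMat Groth.Agent.Lib.helper12.ProjIdem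

section Setup

universe u

variable (R : Type u) [CommRing R]

/-- a henselization of `(R[t], (t))`. -/
abbrev Bh : Type u := Groth.Agent.Lib.helper26.PairHens.H R[X] (Ideal.span {(X : R[X])})

noncomputable instance : Algebra R (Bh R) := ((algebraMap R[X] (Bh R)).comp C).toAlgebra

instance : IsScalarTower R R[X] (Bh R) := .of_algebraMap_eq (fun _ => rfl)

lemma hBh : Hens2.IsPairHenselization R[X] (Ideal.span {(X : R[X])}) (Bh R) :=
  Groth.Agent.Lib.helper26.PairHens.isPairHenselization_H

/-- the canonical map `R{t} → R[[t]]`. -/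
lemma nonempty_ψ : Nonempty (Bh R →ₐ[R[X]] PowerSeries R) := by
  obtain ⟨g, hg, -⟩ := (hBh R).2 (PowerSeries R) (Ideal.span {(PowerSeries.X : PowerSeries R)})
    (algebraMap R[X] (PowerSeries R)) inferInstance (by
      rw [Ideal.map_span, Set.image_singleton, algebraMap_polynomial_powerSeries]
      simp)
  exact ⟨{ g with commutes' := fun p => congrArg (fun f => f p) hg }⟩

/-- `Λ = R{t}[1/t]` (a type synonym, to hide the `R[t]`-module structure of the localization:
we use the `R[s]`-algebra structure `s ↦ t⁻¹` instead). -/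
def Λh : Type u := Localization.Away (algebraMap R[X] (Bh R) X)

noncomputable instance : CommRing (Λh R) :=
  inferInstanceAs (CommRing (Localization.Away (algebraMap R[X] (Bh R) X)))

noncomputable instance : Algebra (Bh R) (Λh R) :=
  inferInstanceAs (Algebra (Bh R) (Localization.Away (algebraMap R[X] (Bh R) X)))

instance : IsLocalization.Away (algebraMap R[X] (Bh R) X) (Λh R) :=
  inferInstanceAs (IsLocalization.Away (algebraMap R[X] (Bh R) X)
    (Localization.Away (algebraMap R[X] (Bh R) X)))

end Setup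

section Chi

universe u

variable {R : Type u} [CommRing R] [HenselianLocalRing R] (ψ : Bh R →ₐ[R[X]] PowerSeries R)

lemma isUnit_ofPowerSeries_ψ :
    IsUnit (((algebraMap (PowerSeries R) (LaurentSeries R)).comp (ψ : Bh R →+* PowerSeries R))
      (algebraMap R[X] (Bh R) X)) := by
  rw [RingHom.comp_apply, laurent_φt, LaurentSeries.coe_algebraMap, HahnSeries.ofPowerSeries_X]
  exact IsUnit.of_mul_eq_one (HahnSeries.single (-1) 1) (by
    rw [HahnSeries.single_mul_single]; simp)

/-- the canonical map `Λ = R{t}[1/t] → R((t))`. -/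
noncomputable def χh : Λh R →+* LaurentSeries R :=
  IsLocalization.Away.lift (algebraMap R[X] (Bh R) X) (isUnit_ofPowerSeries_ψ ψ)

lemma χh_algebraMap (b : Bh R) :
    χh ψ (algebraMap (Bh R) (Λh R) b) = algebraMap (PowerSeries R) (LaurentSeries R) (ψ b) :=
  IsLocalization.Away.lift_eq _ _ b

/-- compatibility of `R[s] → Λ → R((t))` with `s ↦ t⁻¹`. -/
lemma χh_comp_ρhom :
    (χh ψ).comp (ρhom (R := R) (B := Bh R) (Λh R)) =
      Polynomial.eval₂RingHom (HahnSeries.C) (HahnSeries.single (-1 : ℤ) (1 : R)) := by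
  apply Polynomial.ringHom_ext
  · intro r
    rw [RingHom.comp_apply, ρhom, coe_eval₂RingHom, eval₂_C, coe_eval₂RingHom, eval₂_C,
      RingHom.comp_apply]
    change χh ψ (algebraMap (Bh R) (Λh R) (algebraMap R[X] (Bh R) (C r))) = _
    rw [χh_algebraMap, AlgHom.commutes, algebraMap_polynomial_powerSeries,
      LaurentSeries.coe_algebraMap]
    simp
  · rw [RingHom.comp_apply, coe_eval₂RingHom, eval₂_X]
    have h1 := αhom_X_mul_ρhom_X (R := R) (B := Bh R) (Λh R)
    have h2 := congrArg (χh ψ) h1
    rw [map_mul, map_one] at h2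
    have h3 : χh ψ (αhom (R := R) (B := Bh R) (Λh R) X) = HahnSeries.single (1 : ℤ) (1 : R) := by
      change χh ψ (algebraMap (Bh R) (Λh R) (algebraMap R[X] (Bh R) X)) = _
      rw [χh_algebraMap, AlgHom.commutes, algebraMap_polynomial_powerSeries,
        LaurentSeries.coe_algebraMap]
      simp
    rw [h3] at h2
    have h4 : HahnSeries.single (-1 : ℤ) (1 : R) * HahnSeries.single (1 : ℤ) (1 : R) = 1 := by
      rw [HahnSeries.single_mul_single]; simp
    calc χh ψ (ρhom (R := R) (B := Bh R) (Λh R) X)
        = (HahnSeries.single (-1 : ℤ) (1 : R) * HahnSeries.single (1 : ℤ) (1 : R)) *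
          χh ψ (ρhom (R := R) (B := Bh R) (Λh R) X) := by rw [h4, one_mul]
      _ = HahnSeries.single (-1 : ℤ) (1 : R) *
          (HahnSeries.single (1 : ℤ) (1 : R) * χh ψ (ρhom (R := R) (B := Bh R) (Λh R) X)) := by
            rw [mul_assoc]
      _ = HahnSeries.single (-1 : ℤ) (1 : R) := by rw [h2, mul_one]

end Chi

section Main

universe u

variable (R : Type u) [CommRing R] [HenselianLocalRing R] [Algebra R[X] (LaurentSeries R)]
  (halg : algebraMap R[X] (LaurentSeries R) =
    Polynomial.eval₂RingHom (HahnSeries.C) (HahnSeries.single (-1 : ℤ) (1 : R)))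

include halg

/-- **Gabber–Ramero**: for a henselian local ring `R`, `Pic R[t⁻¹] → Pic R((t))` is bijective. -/
theorem pic_laurent_bijective :
    (∀ (M : Type u) [AddCommGroup M] [Module R[X] M] [Module.Invertible R[X] M],
        Module.Free (LaurentSeries R) (LaurentSeries R ⊗[R[X]] M) → Module.Free R[X] M) ∧
    (∀ (L : Type u) [AddCommGroup L] [Module (LaurentSeries R) L]
        [Module.Invertible (LaurentSeries R) L],
        ∃ (M : Type u) (_ : AddCommGroup M) (_ : Module R[X] M), Module.Invertible R[X] M ∧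
          Nonempty (L ≃ₗ[LaurentSeries R] LaurentSeries R ⊗[R[X]] M)) := by
  obtain ⟨ψ⟩ := nonempty_ψ R
  letI algΛ : Algebra R[X] (Λh R) := ρAlgebra (R := R) (B := Bh R) (Λh R)
  letI algχ : Algebra (Λh R) (LaurentSeries R) := (χh ψ).toAlgebra
  haveI tower : IsScalarTower R[X] (Λh R) (LaurentSeries R) := by
    refine IsScalarTower.of_algebraMap_eq (fun p => ?_)
    change _ = χh ψ (ρhom (R := R) (B := Bh R) (Λh R) p)
    have h1 : algebraMap R[X] (LaurentSeries R) p =
        Polynomial.eval₂RingHom (HahnSeries.C) (HahnSeries.single (-1 : ℤ) (1 : R)) p := by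
      rw [halg]
    rw [h1]
    exact (congrArg (fun f => f p) (χh_comp_ρhom ψ)).symm
  have hB := hBh R
  haveI hloc : IsLocalization.Away ((ψ : Bh R →+* PowerSeries R) (algebraMap R[X] (Bh R) X))
      (LaurentSeries R) := by
    rw [laurent_φt]; infer_instance
  have hu : (((IsLocalization.Away.algebraMap_isUnit (S := Λh R)
      (algebraMap R[X] (Bh R) X)).unit : (Λh R)ˣ) : Λh R) =
      algebraMap (Bh R) (Λh R) (algebraMap R[X] (Bh R) X) := IsUnit.unit_spec _
  have huh : (((IsLocalization.Away.algebraMap_isUnit (S := LaurentSeries R)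
      ((ψ : Bh R →+* PowerSeries R) (algebraMap R[X] (Bh R) X))).unit : (LaurentSeries R)ˣ) :
      LaurentSeries R) = algebraMap (PowerSeries R) (LaurentSeries R)
        ((ψ : Bh R →+* PowerSeries R) (algebraMap R[X] (Bh R) X)) := IsUnit.unit_spec _
  have hψ' : ∀ a : Bh R, algebraMap (Λh R) (LaurentSeries R) (algebraMap (Bh R) (Λh R) a) =
      algebraMap (PowerSeries R) (LaurentSeries R) ((ψ : Bh R →+* PowerSeries R) a) :=
    fun a => χh_algebraMap ψ a
  have hc := laurent_hc ψ
  have hd := laurent_hd hB ψ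
  have hA := laurent_hA hB
  have hth := laurent_hth ψ
  have ht := Groth.Agent.Lib.helper12.HensIdem.hens_H4 hB
  refine ⟨?_, ?_⟩
  · intro M _ _ _ hfree
    obtain ⟨e0⟩ := Module.Invertible.free_iff_linearEquiv.1 hfree
    have e1 : LaurentSeries R ⊗[Λh R] (Λh R ⊗[R[X]] M) ≃ₗ[LaurentSeries R]
        LaurentSeries R ⊗[Λh R] (Λh R) :=
      (TensorProduct.AlgebraTensorModule.cancelBaseChange R[X] (Λh R) (LaurentSeries R)
        (LaurentSeries R) M).trans
      (e0.trans (TensorProduct.AlgebraTensorModule.rid (Λh R) (LaurentSeries R)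
        (LaurentSeries R)).symm)
    obtain ⟨e2⟩ := nonempty_linearEquiv_of_baseChange (ψ : Bh R →+* PowerSeries R) hu huh hψ'
      hc hd ht (Λh R ⊗[R[X]] M) (Λh R) ⟨e1⟩
    exact free_of_baseChange_equiv hB (Λh R) M ⟨e2⟩
  · intro N _ _ _
    obtain ⟨n, p, hp, ⟨e1⟩⟩ := exists_projective_extension (ψ : Bh R →+* PowerSeries R)
      hu huh hψ' hc hd hA hth N
    obtain ⟨n', p', hp', ⟨e1'⟩⟩ := exists_projective_extension (ψ : Bh R →+* PowerSeries R)
      hu huh hψ' hc hd hA hth (Module.Dual (LaurentSeries R) N)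
    have hIm := isImage_range hp
    have hIm' := isImage_range hp'
    haveI := hIm.finite
    haveI := hIm.projective
    haveI := hIm'.finite
    haveI := hIm'.projective
    have e3 : LaurentSeries R ⊗[Λh R] (LinearMap.range (Matrix.mulVecLin p') ⊗[Λh R]
        LinearMap.range (Matrix.mulVecLin p)) ≃ₗ[LaurentSeries R]
        LaurentSeries R ⊗[Λh R] (Λh R) :=
      (TensorProduct.AlgebraTensorModule.distribBaseChange (Λh R) (LaurentSeries R) _ _).trans
      ((TensorProduct.congr e1' e1).trans
      ((Module.Invertible.linearEquiv (LaurentSeries R) N).trans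
      (TensorProduct.AlgebraTensorModule.rid (Λh R) (LaurentSeries R) (LaurentSeries R)).symm))
    obtain ⟨e4⟩ := nonempty_linearEquiv_of_baseChange (ψ : Bh R →+* PowerSeries R) hu huh hψ'
      hc hd ht (LinearMap.range (Matrix.mulVecLin p') ⊗[Λh R]
        LinearMap.range (Matrix.mulVecLin p)) (Λh R) ⟨e3⟩
    haveI : Module.Invertible (Λh R) (LinearMap.range (Matrix.mulVecLin p)) :=
      Module.Invertible.right e4
    obtain ⟨I, hI, ⟨e5⟩⟩ := exists_invertible_ideal hB (Λh R)
      (LinearMap.range (Matrix.mulVecLin p))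
    refine ⟨I, inferInstance, inferInstance, hI, ⟨?_⟩⟩
    exact e1.symm.trans ((LinearEquiv.baseChange (Λh R) (LaurentSeries R) _ _ e5.symm).trans
      (TensorProduct.AlgebraTensorModule.cancelBaseChange R[X] (Λh R) (LaurentSeries R)
        (LaurentSeries R) I))

end Main

end Groth.Agent.Lib.helper12.PicLaurent
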