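import Mathlib

set_option linter.style.haveILetI false
set_option linter.unusedSectionVars false

namespace Groth.Agent.Lib.helper12.PicProd

open TensorProduct

universe u v

section DualBasis

variable {B : Type*} [CommRing B] {M : Type*} [AddCommGroup M] [Module B M]

/-- a finite projective module has a finite dual basis. -/
theorem exists_dualBasis [Module.Finite B M] [Module.Projective B M] :
    ∃ (m : ℕ) (y : Fin m → M) (φ : Fin m → Module.Dual B M), ∀ x, x = ∑ j, φ j x • y j := by
  classical
  obtain ⟨m, f, g, -, -, hfg⟩ := Module.Finite.exists_comp_eq_id_of_projective B M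
  refine ⟨m, fun k => f (Pi.single k 1), fun j => LinearMap.proj j ∘ₗ g, fun x => ?_⟩
  have h1 : f (g x) = x := by
    have := congrArg (fun ψ => ψ x) hfg
    simpa using this
  conv_lhs => rw [← h1]
  have h2 : g x = ∑ j, (g x j) • (Pi.single j 1 : Fin m → B) := by
    funext i
    simp [Finset.sum_apply, Pi.single_apply]
  conv_lhs => rw [h2]
  simp only [map_sum, map_smul, LinearMap.comp_apply, LinearMap.proj_apply]

/-- an invertible module with a unimodular pairing is free. -/
theorem free_of_pairing [Module.Invertible B M] {m : ℕ} (y : Fin m → M)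
    (φ : Fin m → Module.Dual B M) (a b : Fin m → B)
    (h : ∑ j, ∑ k, a j * b k * φ j (y k) = 1) : Module.Free B M := by
  let ψ : M →ₗ[B] B := ∑ j, a j • φ j
  let z : M := ∑ k, b k • y k
  have hψz : ψ z = 1 := by
    have h1 : ∀ x : M, ψ x = ∑ j, a j * φ j x := fun x => by
      simp only [ψ, LinearMap.sum_apply, LinearMap.smul_apply, smul_eq_mul]
    rw [h1, ← h]
    refine Finset.sum_congr rfl fun j _ => ?_
    simp only [z, map_sum, map_smul, smul_eq_mul, Finset.mul_sum]
    refine Finset.sum_congr rfl fun k _ => ?_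
    ring
  have hsurj : Function.Surjective ψ := fun c => ⟨c • z, by rw [map_smul, hψz, smul_eq_mul, mul_one]⟩
  have hbij := Module.Invertible.bijective_of_surjective hsurj
  exact Module.Free.of_equiv (LinearEquiv.ofBijective ψ hbij).symm

/-- if the base change of `M` to `D` is free of rank one, the pairing matrix factors over `D`. -/
theorem exists_factor_of_baseChange_equiv {D : Type*} [CommRing D] [Algebra B D] {m : ℕ}
    (y : Fin m → M) (φ : Fin m → Module.Dual B M) (hy : ∀ x, x = ∑ j, φ j x • y j)
    (e : D ⊗[B] M ≃ₗ[D] D) :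
    ∃ v c : Fin m → D, (∀ j k, algebraMap B D (φ j (y k)) = c j * v k) ∧ ∑ j, c j * v j = 1 := by
  let Φ : Fin m → (D ⊗[B] M →ₗ[D] D) := fun j =>
    LinearMap.liftBaseChange D ((Algebra.linearMap B D) ∘ₗ φ j)
  have hΦ : ∀ j (d : D) (x : M), Φ j (d ⊗ₜ[B] x) = d * algebraMap B D (φ j x) := fun j d x => rfl
  have hz : ∀ z : D ⊗[B] M, z = ∑ j, Φ j z • ((1 : D) ⊗ₜ[B] y j) := by
    intro z
    induction z using TensorProduct.induction_on with
    | zero => simp
    | tmul d x =>
      conv_lhs => rw [hy x, TensorProduct.tmul_sum]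
      refine Finset.sum_congr rfl fun j _ => ?_
      rw [hΦ, TensorProduct.smul_tmul', smul_eq_mul, mul_one, mul_comm, ← Algebra.smul_def,
        TensorProduct.smul_tmul]
    | add z1 z2 h1 h2 =>
      conv_lhs => rw [h1, h2]
      rw [← Finset.sum_add_distrib]
      refine Finset.sum_congr rfl fun j _ => ?_
      rw [map_add, add_smul]
  refine ⟨fun k => e ((1 : D) ⊗ₜ[B] y k), fun j => Φ j (e.symm 1), fun j k => ?_, ?_⟩
  · have h1 : (1 : D) ⊗ₜ[B] y k = e ((1 : D) ⊗ₜ[B] y k) • e.symm 1 := by
      rw [← map_smul, smul_eq_mul, mul_one, LinearEquiv.symm_apply_apply]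
    have h2 : Φ j ((1 : D) ⊗ₜ[B] y k) = algebraMap B D (φ j (y k)) := by rw [hΦ, one_mul]
    rw [← h2, h1, map_smul, smul_eq_mul, mul_comm]
  · have h1 := hz (e.symm 1)
    have h2 := congrArg e h1
    rw [LinearEquiv.apply_symm_apply, map_sum] at h2
    simp only [map_smul, smul_eq_mul] at h2
    exact h2.symm

end DualBasis

section Gauss

variable {V : Type*} [CommRing V] [IsDomain V] [ValuationRing V] {K : Type*} [Field K]
  [Algebra V K] [IsFractionRing V K]

/-- a finite nonempty set of nonzero elements of the fraction field of a valuation ring has an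
element dividing all the others. -/
theorem exists_min_of_finset (S : Finset K) (hS : S.Nonempty) (h0 : ∀ s ∈ S, s ≠ 0) :
    ∃ a ∈ S, ∀ s ∈ S, IsLocalization.IsInteger V (s / a) := by
  classical
  induction hS using Finset.Nonempty.cons_induction with
  | singleton a =>
    refine ⟨a, Finset.mem_singleton_self a, fun s hs => ?_⟩
    rw [Finset.mem_singleton.mp hs, div_self (h0 a (Finset.mem_singleton_self a))]
    exact IsLocalization.isInteger_one
  | cons s S' hs hS' ih =>
    obtain ⟨a', ha', hmin⟩ := ih (fun t ht => h0 t (Finset.mem_cons.mpr (Or.inr ht)))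
    have ha'0 : a' ≠ 0 := h0 a' (Finset.mem_cons.mpr (Or.inr ha'))
    have hs0 : s ≠ 0 := h0 s (Finset.mem_cons_self s S')
    rcases ValuationRing.isInteger_or_isInteger V (s / a') with h | h
    · refine ⟨a', Finset.mem_cons.mpr (Or.inr ha'), fun t ht => ?_⟩
      rcases Finset.mem_cons.mp ht with rfl | ht
      · exact h
      · exact hmin t ht
    · refine ⟨s, Finset.mem_cons_self s S', fun t ht => ?_⟩
      rcases Finset.mem_cons.mp ht with rfl | ht
      · rw [div_self hs0]; exact IsLocalization.isInteger_one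
      · have : t / s = (t / a') * (s / a')⁻¹ := by
          field_simp
        rw [this]
        exact IsLocalization.isInteger_mul (hmin t ht) h

variable (V) in
/-- (G1) a finite family of polynomials over the fraction field, not all zero, can be rescaled to a
primitive family over the valuation ring. -/
theorem exists_primitive_scaling {σ : Type*} {m : ℕ} (v : Fin m → MvPolynomial σ K)
    (hv : ∃ k, v k ≠ 0) :
    ∃ (γ : K) (w : Fin m → MvPolynomial σ V), γ ≠ 0 ∧
      (∀ k, MvPolynomial.map (algebraMap V K) (w k) = MvPolynomial.C γ * v k) ∧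
      ∃ k, MvPolynomial.map (IsLocalRing.residue V) (w k) ≠ 0 := by
  classical
  let S : Finset K := Finset.univ.biUnion fun k => (v k).coeffs
  have hS0 : ∀ s ∈ S, s ≠ 0 := by
    intro s hs
    obtain ⟨k, -, hk⟩ := Finset.mem_biUnion.mp hs
    intro h0
    exact MvPolynomial.zero_notMem_coeffs (v k) (h0 ▸ hk)
  have hSne : S.Nonempty := by
    obtain ⟨k, hk⟩ := hv
    obtain ⟨d, hd⟩ := MvPolynomial.ne_zero_iff.mp hk
    exact ⟨(v k).coeff d, Finset.mem_biUnion.mpr ⟨k, Finset.mem_univ k,
      MvPolynomial.coeff_mem_coeffs d hd⟩⟩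
  obtain ⟨a, haS, hmin⟩ := exists_min_of_finset (V := V) S hSne hS0
  have ha0 : a ≠ 0 := hS0 a haS
  have hrange : ∀ k, MvPolynomial.C a⁻¹ * v k ∈
      Set.range (MvPolynomial.map (σ := σ) (algebraMap V K)) := by
    intro k
    rw [MvPolynomial.mem_range_map_iff_coeffs_subset]
    intro c hc
    obtain ⟨d, hd, rfl⟩ := MvPolynomial.mem_coeffs_iff.mp hc
    rw [MvPolynomial.coeff_C_mul]
    have hne : (v k).coeff d ≠ 0 := by
      intro h0
      rw [MvPolynomial.mem_support_iff, MvPolynomial.coeff_C_mul, h0, mul_zero] at hd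
      exact hd rfl
    have hmem : (v k).coeff d ∈ S :=
      Finset.mem_biUnion.mpr ⟨k, Finset.mem_univ k, MvPolynomial.coeff_mem_coeffs d hne⟩
    obtain ⟨r, hr⟩ := hmin _ hmem
    exact ⟨r, by rw [hr]; field_simp⟩
  choose w hw using hrange
  refine ⟨a⁻¹, w, inv_ne_zero ha0, hw, ?_⟩
  obtain ⟨k, -, hk⟩ := Finset.mem_biUnion.mp haS
  obtain ⟨d, hd, rfl⟩ := MvPolynomial.mem_coeffs_iff.mp hk
  refine ⟨k, fun h0 => ?_⟩
  have h1 : (MvPolynomial.map (algebraMap V K) (w k)).coeff d = 1 := by
    rw [hw, MvPolynomial.coeff_C_mul, inv_mul_cancel₀ ha0]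
  rw [MvPolynomial.coeff_map] at h1
  have h2 : (w k).coeff d = 1 := by
    apply IsFractionRing.injective V K
    rw [h1, map_one]
  have h3 := congrArg (MvPolynomial.coeff d) h0
  rw [MvPolynomial.coeff_map, h2, map_one, MvPolynomial.coeff_zero] at h3
  exact one_ne_zero h3

variable (V) in
/-- (G2) Gauss lemma: if `c * w k` is integral for a primitive family `w`, then `c` is integral. -/
theorem mem_range_of_mul_primitive {σ : Type*} {m : ℕ} (w : Fin m → MvPolynomial σ V)
    (hw : ∃ k, MvPolynomial.map (IsLocalRing.residue V) (w k) ≠ 0) (c : MvPolynomial σ K)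
    (hc : ∀ k, c * MvPolynomial.map (algebraMap V K) (w k) ∈
      Set.range (MvPolynomial.map (σ := σ) (algebraMap V K))) :
    c ∈ Set.range (MvPolynomial.map (σ := σ) (algebraMap V K)) := by
  classical
  by_cases hc0 : c = 0
  · exact ⟨0, by rw [hc0, map_zero]⟩
  obtain ⟨δ, c₀, hδ, hc₀, hres⟩ := exists_primitive_scaling V (fun _ : Fin 1 => c) ⟨0, hc0⟩
  replace hc₀ := hc₀ 0
  have hres' : MvPolynomial.map (IsLocalRing.residue V) (c₀ 0) ≠ 0 := by
    obtain ⟨k, hk⟩ := hres
    rwa [Subsingleton.elim k 0] at hk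
  have hcδ : c = MvPolynomial.C δ⁻¹ * MvPolynomial.map (algebraMap V K) (c₀ 0) := by
    rw [hc₀, ← mul_assoc, ← map_mul, inv_mul_cancel₀ hδ, map_one, one_mul]
  by_cases hint : IsLocalization.IsInteger V δ⁻¹
  · obtain ⟨r, hr⟩ := hint
    refine ⟨MvPolynomial.C r * c₀ 0, ?_⟩
    rw [map_mul, MvPolynomial.map_C, hr, ← hcδ]
  · exfalso
    obtain ⟨d, hd⟩ : IsLocalization.IsInteger V δ := by
      rcases ValuationRing.isInteger_or_isInteger V δ⁻¹ with h | h
      · exact absurd h hint
      · rwa [inv_inv] at h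
    -- `d` is not a unit
    have hdm : IsLocalRing.residue V d = 0 := by
      rw [IsLocalRing.residue_eq_zero_iff, IsLocalRing.mem_maximalIdeal]
      intro hu
      apply hint
      obtain ⟨u, rfl⟩ := hu
      refine ⟨((u⁻¹ : Vˣ) : V), ?_⟩
      rw [← hd]
      have : algebraMap V K ((u⁻¹ : Vˣ) : V) * algebraMap V K (u : V) = 1 := by
        rw [← map_mul, Units.inv_mul, map_one]
      exact eq_inv_of_mul_eq_one_left this
    obtain ⟨k₀, hk₀⟩ := hw
    obtain ⟨g, hg⟩ := hc k₀
    have h1 : c₀ 0 * w k₀ = MvPolynomial.C d * g := by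
      apply MvPolynomial.map_injective (algebraMap V K) (IsFractionRing.injective V K)
      rw [map_mul, map_mul, hc₀, MvPolynomial.map_C, hd, hg, mul_assoc]
    have h2 := congrArg (MvPolynomial.map (IsLocalRing.residue V)) h1
    rw [map_mul, map_mul, MvPolynomial.map_C, hdm, map_zero, zero_mul] at h2
    rcases mul_eq_zero.mp h2 with h | h
    · exact hres' h
    · exact hk₀ h

end Gauss

section ValPoly

variable {V : Type u} [CommRing V] [IsDomain V] [ValuationRing V]

/-- for a ring map `π : B → V[x₁,…,xₙ]` (`V` a valuation domain), the image under `π` of the pairing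
matrix of an invertible `B`-module with a dual basis factors as an outer product. -/
theorem exists_factor_valuationRing {B : Type u} [CommRing B] (n : ℕ)
    (π : B →+* MvPolynomial (Fin n) V) {M : Type u} [AddCommGroup M]
    [Module B M] [Module.Invertible B M] {m : ℕ}
    (y : Fin m → M) (φ : Fin m → Module.Dual B M)
    (hy : ∀ x, x = ∑ j, φ j x • y j) :
    ∃ u w : Fin m → MvPolynomial (Fin n) V, (∀ j k, π (φ j (y k)) = u j * w k) ∧
      ∑ j, u j * w j = 1 := by
  classical
  let K := FractionRing V
  let ι : MvPolynomial (Fin n) V →+* MvPolynomial (Fin n) K := MvPolynomial.map (algebraMap V K)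
  have hιinj : Function.Injective ι :=
    MvPolynomial.map_injective (algebraMap V K) (IsFractionRing.injective V K)
  letI : Algebra B (MvPolynomial (Fin n) K) := (ι.comp π).toAlgebra
  haveI : Module.Free (MvPolynomial (Fin n) K) (MvPolynomial (Fin n) K ⊗[B] M) :=
    inferInstance
  obtain ⟨e⟩ := Module.Invertible.free_iff_linearEquiv.mp this
  obtain ⟨v, c, hcv, hsum⟩ := exists_factor_of_baseChange_equiv y φ hy e
  have hcv' : ∀ j k, ι (π (φ j (y k))) = c j * v k := hcv
  have hv : ∃ k, v k ≠ 0 := by
    by_contra hcon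
    push Not at hcon
    simp only [hcon, mul_zero, Finset.sum_const_zero] at hsum
    exact zero_ne_one hsum
  obtain ⟨γ, w, hγ, hw, hprim⟩ := exists_primitive_scaling V v hv
  have h1 : (MvPolynomial.C γ⁻¹ : MvPolynomial (Fin n) K) * MvPolynomial.C γ = 1 := by
    rw [← map_mul, inv_mul_cancel₀ hγ, map_one]
  have hc' : ∀ j, MvPolynomial.C γ⁻¹ * c j ∈
      Set.range (MvPolynomial.map (σ := Fin n) (algebraMap V K)) := by
    intro j
    apply mem_range_of_mul_primitive V w hprim
    intro k
    refine ⟨π (φ j (y k)), ?_⟩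
    rw [hw]
    change ι (π (φ j (y k))) = _
    rw [hcv']
    calc c j * v k = (MvPolynomial.C γ⁻¹ * MvPolynomial.C γ) * (c j * v k) := by
          rw [h1, one_mul]
      _ = _ := by ring
  choose u hu using hc'
  have hmul : ∀ j k, ι (u j * w k) = c j * v k := by
    intro j k
    show MvPolynomial.map (algebraMap V K) (u j * w k) = _
    rw [map_mul, hu, hw]
    calc MvPolynomial.C γ⁻¹ * c j * (MvPolynomial.C γ * v k)
        = (MvPolynomial.C γ⁻¹ * MvPolynomial.C γ) * (c j * v k) := by ring
      _ = c j * v k := by rw [h1, one_mul]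
  refine ⟨u, w, fun j k => ?_, ?_⟩
  · apply hιinj
    rw [hmul]
    exact hcv' j k
  · apply hιinj
    rw [map_sum, map_one, ← hsum]
    exact Finset.sum_congr rfl fun j _ => hmul j j

end ValPoly

section Degree

/-- degree bounds for the factors of a rank one factorization over a polynomial domain. -/
theorem totalDegree_le_of_factor {R : Type*} [CommRing R] [IsDomain R] {σ : Type*} {m : ℕ}
    (u w : Fin m → MvPolynomial σ R) (N : ℕ)
    (hN : ∀ j k, (u j * w k).totalDegree ≤ N) (hsum : ∑ j, u j * w j = 1) :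
    (∀ j, (u j).totalDegree ≤ N) ∧ ∀ k, (w k).totalDegree ≤ N := by
  classical
  obtain ⟨j₀, hj₀⟩ : ∃ j₀, u j₀ * w j₀ ≠ 0 := by
    by_contra hcon
    push Not at hcon
    rw [Finset.sum_eq_zero (fun j _ => hcon j)] at hsum
    exact zero_ne_one hsum
  have hu0 : u j₀ ≠ 0 := left_ne_zero_of_mul hj₀
  have hw0 : w j₀ ≠ 0 := right_ne_zero_of_mul hj₀
  constructor
  · intro j
    by_cases h : u j = 0
    · rw [h, MvPolynomial.totalDegree_zero]; exact Nat.zero_le _
    · have := hN j j₀
      rw [MvPolynomial.totalDegree_mul_of_isDomain h hw0] at this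
      omega
  · intro k
    by_cases h : w k = 0
    · rw [h, MvPolynomial.totalDegree_zero]; exact Nat.zero_le _
    · have := hN j₀ k
      rw [MvPolynomial.totalDegree_mul_of_isDomain hu0 h] at this
      omega

end Degree

section Product

variable {ι : Type*} (R : ι → Type*) [∀ i, CommRing (R i)] {σ : Type*}

/-- the `i`-th component of a polynomial over a product ring. -/
noncomputable def comp (i : ι) : MvPolynomial σ (∀ i, R i) →+* MvPolynomial σ (R i) :=
  MvPolynomial.map (Pi.evalRingHom R i)

theorem coeff_comp (i : ι) (f : MvPolynomial σ (∀ i, R i)) (d : σ →₀ ℕ) :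
    (comp R i f).coeff d = (f.coeff d) i := by
  rw [comp, MvPolynomial.coeff_map]; rfl

theorem comp_injective {f g : MvPolynomial σ (∀ i, R i)} (h : ∀ i, comp R i f = comp R i g) :
    f = g := by
  apply MvPolynomial.ext
  intro d
  have : ∀ i, (f.coeff d) i = (g.coeff d) i := fun i => by
    rw [← coeff_comp R i f d, ← coeff_comp R i g d, h]
  exact funext this

theorem totalDegree_comp_le (i : ι) (f : MvPolynomial σ (∀ i, R i)) :
    (comp R i f).totalDegree ≤ f.totalDegree := by
  show (MvPolynomial.map (Pi.evalRingHom R i) f).totalDegree ≤ f.totalDegree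
  exact Finset.sup_mono (MvPolynomial.support_map_subset (Pi.evalRingHom R i) f)

/-- a family of polynomials of bounded degree comes from a polynomial over the product ring. -/
theorem exists_comp_eq [Finite σ] (F : ∀ i, MvPolynomial σ (R i)) (N : ℕ)
    (hF : ∀ i, (F i).totalDegree ≤ N) :
    ∃ f : MvPolynomial σ (∀ i, R i), ∀ i, comp R i f = F i := by
  classical
  have hfin : {d : σ →₀ ℕ | Finsupp.degree d ≤ N}.Finite := Finsupp.finite_of_degree_le N
  let T : Finset (σ →₀ ℕ) := hfin.toFinset
  refine ⟨∑ d ∈ T, MvPolynomial.monomial d (fun i => (F i).coeff d), fun i => ?_⟩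
  apply MvPolynomial.ext
  intro e
  rw [coeff_comp, MvPolynomial.coeff_sum, Finset.sum_apply]
  simp only [MvPolynomial.coeff_monomial]
  by_cases he : e ∈ T
  · rw [Finset.sum_eq_single e]
    · simp
    · intro d _ hde
      simp [hde]
    · intro h; exact absurd he h
  · have h0 : (F i).coeff e = 0 := by
      by_contra hne
      apply he
      rw [Set.Finite.mem_toFinset, Set.mem_ofPred_eq]
      have h1 := MvPolynomial.le_totalDegree (MvPolynomial.mem_support_iff.mpr hne)
      exact le_trans h1 (hF i)
    rw [h0]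
    refine Finset.sum_eq_zero fun d hd => ?_
    have : d ≠ e := fun h => he (h ▸ hd)
    simp [this]

end Product

section Final

/-- the Picard group of a polynomial ring over a product of valuation domains is trivial. -/
theorem pic_subsingleton {ι : Type u} (R : ι → Type u) [∀ i, CommRing (R i)]
    [∀ i, IsDomain (R i)] [∀ i, ValuationRing (R i)] (n : ℕ) :
    Subsingleton (CommRing.Pic (MvPolynomial (Fin n) (∀ i, R i))) := by
  classical
  rw [CommRing.Pic.subsingleton_iff]
  intro M _ _ hM
  obtain ⟨m, y, φ, hy⟩ := exists_dualBasis (B := MvPolynomial (Fin n) (∀ i, R i)) (M := M)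
  have hfac : ∀ i, ∃ u w : Fin m → MvPolynomial (Fin n) (R i),
      (∀ j k, comp R i (φ j (y k)) = u j * w k) ∧ ∑ j, u j * w j = 1 := fun i =>
    exists_factor_valuationRing n (comp R i) y φ hy
  choose u w huw hsum using hfac
  let N : ℕ := ∑ j, ∑ k, (φ j (y k)).totalDegree
  have hN : ∀ j k, (φ j (y k)).totalDegree ≤ N := by
    intro j k
    have h1 : (φ j (y k)).totalDegree ≤ ∑ k', (φ j (y k')).totalDegree :=
      Finset.single_le_sum (f := fun k' => (φ j (y k')).totalDegree)
        (fun _ _ => Nat.zero_le _) (Finset.mem_univ k)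
    have h2 : ∑ k', (φ j (y k')).totalDegree ≤ N :=
      Finset.single_le_sum (f := fun j' => ∑ k', (φ j' (y k')).totalDegree)
        (fun _ _ => Nat.zero_le _) (Finset.mem_univ j)
    exact le_trans h1 h2
  have hdeg : ∀ i, (∀ j, (u i j).totalDegree ≤ N) ∧ ∀ k, (w i k).totalDegree ≤ N := by
    intro i
    apply totalDegree_le_of_factor (u i) (w i) N _ (hsum i)
    intro j k
    rw [← huw i j k]
    exact le_trans (totalDegree_comp_le R i _) (hN j k)
  have ha : ∀ j, ∃ a : MvPolynomial (Fin n) (∀ i, R i), ∀ i, comp R i a = w i j := fun j =>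
    exists_comp_eq R (fun i => w i j) N fun i => (hdeg i).2 j
  have hb : ∀ k, ∃ b : MvPolynomial (Fin n) (∀ i, R i), ∀ i, comp R i b = u i k := fun k =>
    exists_comp_eq R (fun i => u i k) N fun i => (hdeg i).1 k
  choose a ha using ha
  choose b hb using hb
  apply free_of_pairing y φ a b
  apply comp_injective R
  intro i
  rw [map_sum, map_one]
  have h1 : ∀ j, comp R i (∑ k, a j * b k * φ j (y k)) = w i j * u i j * ∑ k, u i k * w i k := by
    intro j
    rw [map_sum, Finset.mul_sum]
    refine Finset.sum_congr rfl fun k _ => ?_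
    rw [map_mul, map_mul, ha, hb, huw]
    ring
  rw [Finset.sum_congr rfl fun j _ => h1 j, hsum i]
  simp only [mul_one]
  rw [← hsum i]
  exact Finset.sum_congr rfl fun j _ => mul_comm _ _

end Final

end Groth.Agent.Lib.helper12.PicProd
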