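import Mathlib
import Groth.Agent.Lib.Helper12.ProjProper

/-!
# Linear (coordinate) closed embeddings `P^n_R → P^N_R` (helper12)

For an injective `f : Fin (n+1) → Fin (N+1)`, the closed immersion `emb R f hf : P^n_R ⟶ P^N_R`
given by `X_{f j} ↦ X_j`, `X_i ↦ 0` for `i ∉ range f`; it is a morphism over `Spec R`
(`emb_toSpec`), and two such embeddings with complementary index sets have disjoint images
(`disjoint_range_emb`).
-/

set_option autoImplicit false
universe u
open CategoryTheory CategoryTheory.Limits AlgebraicGeometry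
open scoped HomogeneousIdeal

namespace Groth.Agent.Lib.helper12.PnLinEmb

open Groth.Agent.Lib.helper12.ProjProper

variable (R : Type u) [CommRing R] {n N : ℕ} (f : Fin (n + 1) → Fin (N + 1))

/-- the images of the coordinates -/
noncomputable def tt : Fin (N + 1) → MvPolynomial (Fin (n + 1)) R :=
  Function.extend f MvPolynomial.X 0

theorem tt_apply (hf : Function.Injective f) (j : Fin (n + 1)) :
    tt R f (f j) = MvPolynomial.X j :=
  hf.extend_apply _ _ _

theorem tt_of_notMem (i : Fin (N + 1)) (hi : i ∉ Set.range f) : tt R f i = 0 := by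
  unfold tt
  rw [Function.extend_apply' _ _ _ (by simpa using hi)]
  rfl

theorem tt_mem (i : Fin (N + 1)) : tt R f i ∈ CohB1.polyGrading n R 1 := by
  by_cases hi : i ∈ Set.range f
  · obtain ⟨j, rfl⟩ := hi
    unfold tt
    by_cases hf : ∃ j', f j' = f j
    · rw [Function.extend, dif_pos hf]
      exact Groth.Agent.Lib.helper28.TwistPn.X_mem n R _
    · exact absurd ⟨j, rfl⟩ hf
  · rw [tt_of_notMem R f i hi]
    exact zero_mem _

theorem hgen : Subring.closure (((CohB1.polyGrading n R 0 : Submodule R _) : Set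
    (MvPolynomial (Fin (n + 1)) R)) ∪ (CohB1.polyGrading n R 1 : Submodule R _)) = ⊤ := by
  have key : ∀ p : MvPolynomial (Fin (n + 1)) R, p ∈ Subring.closure
      (((CohB1.polyGrading n R 0 : Submodule R _) : Set (MvPolynomial (Fin (n + 1)) R)) ∪
        (CohB1.polyGrading n R 1 : Submodule R _)) := by
    intro p
    induction p using MvPolynomial.induction_on with
    | C a =>
      exact Subring.subset_closure (Or.inl (MvPolynomial.isHomogeneous_C _ a))
    | add p q hp hq => exact Subring.add_mem _ hp hq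
    | mul_X p i hp =>
      exact Subring.mul_mem _ hp (Subring.subset_closure
        (Or.inr (Groth.Agent.Lib.helper28.TwistPn.X_mem n R i)))
  rw [eq_top_iff]
  exact fun p _ => key p

theorem hT (hf : Function.Injective f) : ∀ x ∈ CohB1.polyGrading n R 1,
    ∃ c : Fin (N + 1) → R, x = ∑ i,
      ((algebraMap R (CohB1.polyGrading n R 0) (c i) : CohB1.polyGrading n R 0) :
        MvPolynomial (Fin (n + 1)) R) * tt R f i := by
  classical
  intro x hx
  have hx' : x ∈ Submodule.span R (Set.range (MvPolynomial.X : Fin (n + 1) → _)) := by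
    rw [← MvPolynomial.homogeneousSubmodule_one_eq_span_X]; exact hx
  obtain ⟨c, hc⟩ := (Submodule.mem_span_range_iff_exists_fun R).mp hx'
  refine ⟨Function.extend f c 0, ?_⟩
  have h1 : ∀ i : Fin (N + 1), i ∉ Finset.univ.image f →
      ((algebraMap R (CohB1.polyGrading n R 0) (Function.extend f c 0 i) :
        CohB1.polyGrading n R 0) : MvPolynomial (Fin (n + 1)) R) * tt R f i = 0 := by
    intro i hi
    rw [tt_of_notMem R f i (by simpa using hi), mul_zero]
  rw [← Finset.sum_subset (Finset.subset_univ (Finset.univ.image f)) (fun i _ hi => h1 i hi),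
    Finset.sum_image (fun a _ b _ h => hf h), ← hc]
  refine Finset.sum_congr rfl (fun j _ => ?_)
  rw [tt_apply R f hf, hf.extend_apply, Algebra.smul_def]
  rfl

/-- the coordinate embedding, `Proj` form -/
noncomputable def emb' (hf : Function.Injective f) :
    Proj (CohB1.polyGrading n R) ⟶ Proj (CohB1.polyGrading N R) :=
  Proj.map (evalGr (algebraMap R (CohB1.polyGrading n R 0)) (tt R f) (tt_mem R f))
    (irrelevant_le_evalGr _ _ _ (hgen R) (hT R f hf))

/-- the coordinate embedding `P^n_R ⟶ P^N_R` -/
noncomputable def emb (hf : Function.Injective f) : CohB1.ProjSpace n R ⟶ CohB1.ProjSpace N R :=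
  emb' R f hf

instance (hf : Function.Injective f) : IsClosedImmersion (emb' R f hf) :=
  isClosedImmersion_map_evalGr _ _ _ (hgen R) (hT R f hf)

instance (hf : Function.Injective f) : IsClosedImmersion (emb R f hf) :=
  isClosedImmersion_map_evalGr _ _ _ (hgen R) (hT R f hf)

theorem emb_toSpec (hf : Function.Injective f) :
    emb R f hf ≫ CohB1.ProjSpace.toSpec N R = CohB1.ProjSpace.toSpec n R :=
  map_evalGr_toSpec _ _ _ (hgen R) (hT R f hf)

theorem emb'_preimage_basicOpen (hf : Function.Injective f) (i : Fin (N + 1)) :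
    emb' R f hf ⁻¹ᵁ Proj.basicOpen (CohB1.polyGrading N R) (MvPolynomial.X i) =
      Proj.basicOpen (CohB1.polyGrading n R) (tt R f i) := by
  unfold emb'
  rw [Proj.map_preimage_basicOpen, evalGr_X]

theorem emb'_mem_basicOpen (hf : Function.Injective f) (i : Fin (N + 1))
    (y : Proj (CohB1.polyGrading n R))
    (h : emb' R f hf y ∈ Proj.basicOpen (CohB1.polyGrading N R) (MvPolynomial.X i)) :
    i ∈ Set.range f := by
  by_contra hi
  have h1 : y ∈ emb' R f hf ⁻¹ᵁ Proj.basicOpen (CohB1.polyGrading N R) (MvPolynomial.X i) := h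
  rw [emb'_preimage_basicOpen, tt_of_notMem R f i hi, Proj.basicOpen_zero] at h1
  exact h1

theorem disjoint_range_emb' (hf : Function.Injective f) {m : ℕ} (g : Fin (m + 1) → Fin (N + 1))
    (hg : Function.Injective g) (hdisj : Disjoint (Set.range f) (Set.range g)) :
    Disjoint (Set.range (emb' R f hf)) (Set.range (emb' R g hg)) := by
  rw [Set.disjoint_left]
  rintro z ⟨y₁, rfl⟩ ⟨y₂, h₂⟩
  have hz : emb' R f hf y₁ ∈ (⊤ : (Proj (CohB1.polyGrading N R)).Opens) := trivial
  rw [← Proj.iSup_basicOpen_eq_top (𝒜 := CohB1.polyGrading N R)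
    (MvPolynomial.X : Fin (N + 1) → _) (Groth.Agent.Lib.helper28.TwistPn.irrelevant_le N R)] at hz
  obtain ⟨i, hi⟩ := TopologicalSpace.Opens.mem_iSup.mp hz
  have h1 := emb'_mem_basicOpen R f hf i y₁ hi
  rw [← h₂] at hi
  have h2 := emb'_mem_basicOpen R g hg i y₂ hi
  exact Set.disjoint_left.mp hdisj h1 h2

theorem disjoint_range_emb (hf : Function.Injective f) {m : ℕ} (g : Fin (m + 1) → Fin (N + 1))
    (hg : Function.Injective g) (hdisj : Disjoint (Set.range f) (Set.range g)) :
    Disjoint (Set.range (emb R f hf)) (Set.range (emb R g hg)) :=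
  disjoint_range_emb' R f hf g hg hdisj

end Groth.Agent.Lib.helper12.PnLinEmb
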