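import Mathlib
import Groth.Agent.Lib.Helper12.GGTensor
import Groth.Agent.Lib.Helper5.ConsFibre
import Groth.Agent.Lib.Helper7.IdealMod
import Groth.Agent.Lib.Helper18.HHZero
import Groth.Agent.Lib.Helper18.HHLES
import Groth.Agent.Lib.Helper18.HHConseq

/-!
# The ideal sheaf of a closed point on a proper scheme over an algebraically closed field (helper12)

* `surjective_appTop_subschemeι_point`: `Γ(B, O) → Γ({p}, O)` is surjective.
* `subsingleton_H1_idealMod_point`: `H¹(B, O) = 0 ⇒ H¹(B, I_p) = 0`.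
-/

set_option autoImplicit false
set_option backward.isDefEq.respectTransparency false

universe u

open CategoryTheory AlgebraicGeometry Opposite Limits TopologicalSpace

namespace Groth.Agent.Lib.helper12.PointIdeal

theorem surjective_appTop_subschemeι_point (k : Type u) [Field k] [IsAlgClosed k]
    (B : Scheme.{u}) [B.Over (Spec (CommRingCat.of k))] [IsProper (B ↘ Spec (CommRingCat.of k))]
    (p : B) (hp : IsClosed ({p} : Set B)) :
    Function.Surjective
      ((Scheme.IdealSheafData.vanishingIdeal (⟨{p}, hp⟩ : Closeds B)).subschemeι.appTop).hom := by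
  set I := Scheme.IdealSheafData.vanishingIdeal (⟨{p}, hp⟩ : Closeds B) with hI
  have hr : Set.range I.subschemeι = ({p} : Set B) :=
    Groth.Agent.Lib.helper5.ConsFibre.range_subschemeι_vanishingIdeal _
  haveI : IsIntegral I.subscheme :=
    Groth.Agent.Lib.helper5.ConsFibre.isIntegral_subscheme_vanishingIdeal _ isIrreducible_singleton
  let g : I.subscheme ⟶ Spec (CommRingCat.of k) := I.subschemeι ≫ (B ↘ Spec (CommRingCat.of k))
  haveI : UniversallyClosed g := inferInstance
  have hint : g.appTop.hom.IsIntegral := isIntegral_appTop_of_universallyClosed g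
  let f : k →+* Γ(I.subscheme, ⊤) := g.appTop.hom.comp (Scheme.ΓSpecIso (CommRingCat.of k)).inv.hom
  have hf : f.IsIntegral :=
    RingHom.IsIntegral.trans _ _
      (RingHom.isIntegral_of_surjective _
        (ConcreteCategory.bijective_of_isIso (Scheme.ΓSpecIso (CommRingCat.of k)).inv).2) hint
  have hsurj : Function.Surjective f := (IsAlgClosed.ringHom_bijective_of_isIntegral f hf).2
  intro y
  obtain ⟨a, rfl⟩ := hsurj y
  refine ⟨((B ↘ Spec (CommRingCat.of k)).appTop).hom
    ((Scheme.ΓSpecIso (CommRingCat.of k)).inv.hom a), ?_⟩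
  change _ = (g.appTop).hom _
  have : g.appTop = (B ↘ Spec (CommRingCat.of k)).appTop ≫ I.subschemeι.appTop :=
    Scheme.Hom.comp_appTop _ _
  rw [this]
  rfl

open Groth.Agent.Lib.Helper18 in
/-- `H¹(X₁) = 0` when `H¹(X₂) = 0` and `Γ(X₂) → Γ(X₃)` is surjective. -/
theorem subsingleton_H1_of_surjective_top {X : Scheme.{u}} {S : ShortComplex X.Modules}
    (hS : S.ShortExact) (h₂ : Subsingleton (Coh.HH X S.X₂ 1))
    (hsurj : Function.Surjective (S.g.val.app (op ⊤)).hom) : Subsingleton (Coh.HH X S.X₁ 1) := by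
  have hsurj0 : Function.Surjective (HH.map S.g 0) := by
    intro y
    obtain ⟨τ, hτ⟩ := hsurj (HH.equiv₀ S.X₃ y)
    refine ⟨(HH.equiv₀ S.X₂).symm τ, ?_⟩
    apply (HH.equiv₀ S.X₃).injective
    rw [HH.equiv₀_naturality, LinearEquiv.apply_symm_apply, hτ]
  refine ⟨fun x y => ?_⟩
  have key : ∀ z : Coh.HH X S.X₁ 1, z = 0 := by
    intro z
    obtain ⟨a, ha⟩ := (HH.exact₁ hS 0 z).1 (Subsingleton.elim _ _)
    obtain ⟨b, rfl⟩ := hsurj0 a
    rw [← ha]
    exact (HH.exact₃ hS 0 _).2 ⟨b, rfl⟩
  rw [key x, key y]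

theorem subsingleton_H1_idealMod_point (k : Type u) [Field k] [IsAlgClosed k]
    (B : Scheme.{u}) [B.Over (Spec (CommRingCat.of k))] [IsProper (B ↘ Spec (CommRingCat.of k))]
    (hg : Subsingleton (Coh.HH B (Coh.structureModule B) 1))
    (p : B) (hp : IsClosed ({p} : Set B)) :
    Subsingleton (Coh.HH B (ClSub.idealMod
      (Scheme.IdealSheafData.vanishingIdeal (⟨{p}, hp⟩ : Closeds B))) 1) := by
  have hS := Groth.Agent.Lib.helper7.IdealMod.idealSeq_shortExact
    (Scheme.IdealSheafData.vanishingIdeal (⟨{p}, hp⟩ : Closeds B))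
  exact subsingleton_H1_of_surjective_top hS hg (surjective_appTop_subschemeι_point k B p hp)

end Groth.Agent.Lib.helper12.PointIdeal
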