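import Groth.Agent.Lib.Helper28.AffAlgGlue
import Groth.Agent.Lib.Helper28.GradedTransport
import Groth.Agent.Lib.Helper28.QCAlgHomAffine
import Groth.Prelude.Def_RelProj

/-!
# The polynomial algebra `𝒜[T]` over a quasi-coherent algebra, as a graded quasi-coherent algebra
(helper12)

For a quasi-coherent `O_Y`-algebra `𝒜` we construct the quasi-coherent graded algebra `𝒜[T]`
(`polyGrAlg 𝒜`), with `𝒜` in degree `0` and `T` in degree `1`, glued (helper28 `AffAlgGlue`) from the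
rings `𝒜(U)[T]` over the affine opens.
-/

set_option autoImplicit false
universe u

open CategoryTheory CategoryTheory.Limits AlgebraicGeometry TopologicalSpace Opposite

namespace Groth.Agent.Lib.helper12.PolyAlg

open Groth.Agent.Lib.helper28 Groth.Agent.Lib.helper28.GradedTransport

theorem isLocalization_away_mvPoly {σ R S : Type*} [CommRing R] [CommRing S] (φ : R →+* S) (r : R)
    (h : letI := φ.toAlgebra; IsLocalization.Away r S) :
    letI := (MvPolynomial.map φ : MvPolynomial σ R →+* MvPolynomial σ S).toAlgebra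
    IsLocalization.Away (MvPolynomial.C r : MvPolynomial σ R) (MvPolynomial σ S) := by
  let := φ.toAlgebra
  have h1 : IsLocalization (Submonoid.powers r) S := h
  have h2 := @MvPolynomial.isLocalization σ R _ (Submonoid.powers r) S _ _ h1
  have h3 : (Submonoid.powers r).map (MvPolynomial.C (σ := σ)) =
      Submonoid.powers (MvPolynomial.C r : MvPolynomial σ R) := by
    exact Submonoid.map_powers _ _
  rw [h3] at h2
  let alg2 := (MvPolynomial.map φ : MvPolynomial σ R →+* MvPolynomial σ S).toAlgebra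
  exact { map_units := h2.map_units, surj := h2.surj, exists_of_eq := h2.exists_of_eq }

theorem eval₂_eq_uniqueAlgEquiv_symm {R B : Type*} [CommRing R] [CommRing B]
    (g : MvPolynomial PUnit R →+* B) (P : Polynomial R) :
    Polynomial.eval₂ (g.comp MvPolynomial.C) (g (MvPolynomial.X PUnit.unit)) P =
      g ((MvPolynomial.uniqueAlgEquiv R PUnit).symm P) := by
  have hg : g = MvPolynomial.eval₂Hom (g.comp MvPolynomial.C) (fun i => g (MvPolynomial.X i)) := by
    apply MvPolynomial.ringHom_ext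
    · intro r; simp
    · intro i; simp
  conv_rhs => rw [hg]
  exact (MvPolynomial.eval₂_uniqueAlgEquiv_symm (σ := PUnit) (f := P) (φ := g.comp MvPolynomial.C)
    (a := fun i => g (MvPolynomial.X i))).symm

theorem isHomogeneous_one_iff {R : Type*} [CommRing R] (p : MvPolynomial PUnit R) :
    p.IsHomogeneous 1 ↔ ∃ a : R, p = MvPolynomial.C a * MvPolynomial.X PUnit.unit := by
  constructor
  · intro hp
    refine ⟨p.coeff (Finsupp.single PUnit.unit 1), ?_⟩
    ext d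
    rw [MvPolynomial.coeff_C_mul, MvPolynomial.coeff_X]
    by_cases hd : Finsupp.single PUnit.unit 1 = d
    · subst hd
      rw [if_pos rfl, mul_one]
    · rw [if_neg hd, mul_zero]
      apply hp.coeff_eq_zero
      intro h
      apply hd
      rw [Finsupp.degree_eq_sum] at h
      ext
      simpa using h.symm
  · rintro ⟨a, rfl⟩
    have := (MvPolynomial.isHomogeneous_C PUnit a).mul (MvPolynomial.isHomogeneous_X R PUnit.unit)
    simpa using this

variable {Y : Scheme.{u}} (𝒜 : RelSpec.QCAlg Y)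

/-- `𝒜(U)[T]` (polynomials in one variable, as `MvPolynomial PUnit`). -/
abbrev PolyU (U : (Opens Y)ᵒᵖ) : Type u := MvPolynomial PUnit.{u+1} (𝒜.presheaf.obj U)

/-- The presheaf `U ↦ 𝒜(U)[T]` on all opens (not a sheaf). -/
noncomputable def polyPre : TopCat.Presheaf CommRingCat.{u} Y.carrier where
  obj U := CommRingCat.of (PolyU 𝒜 U)
  map {U V} i := CommRingCat.ofHom (MvPolynomial.map (𝒜.presheaf.map i).hom)
  map_id U := by
    apply CommRingCat.hom_ext
    refine RingHom.ext fun p => ?_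
    change MvPolynomial.map (𝒜.presheaf.map (𝟙 U)).hom p = p
    rw [𝒜.presheaf.map_id]
    exact MvPolynomial.map_id p
  map_comp {U V W} i k := by
    apply CommRingCat.hom_ext
    refine RingHom.ext fun p => ?_
    change MvPolynomial.map (𝒜.presheaf.map (i ≫ k)).hom p =
      MvPolynomial.map (𝒜.presheaf.map k).hom (MvPolynomial.map (𝒜.presheaf.map i).hom p)
    rw [MvPolynomial.map_map, 𝒜.presheaf.map_comp]
    rfl

/-- The constants `𝒜 ⟶ 𝒜[T]`. -/
noncomputable def Cmap : 𝒜.presheaf ⟶ polyPre 𝒜 where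
  app U := CommRingCat.ofHom (MvPolynomial.C : 𝒜.presheaf.obj U →+* PolyU 𝒜 U)
  naturality {U V} i := by
    apply CommRingCat.hom_ext
    refine RingHom.ext fun a => ?_
    exact (MvPolynomial.map_C (𝒜.presheaf.map i).hom a).symm

/-- `U ↦ 𝒜(U)[T]` on the affine opens. -/
noncomputable def polyF : Y.AffineZariskiSiteᵒᵖ ⥤ CommRingCat.{u} :=
  (Scheme.AffineZariskiSite.toOpensFunctor Y).op ⋙ polyPre 𝒜

/-- The structure map `O_Y ⟶ 𝒜[T]` on the affine opens. -/
noncomputable def polyα : (Scheme.AffineZariskiSite.toOpensFunctor Y).op ⋙ Y.presheaf ⟶ polyF 𝒜 :=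
  (Scheme.AffineZariskiSite.toOpensFunctor Y).op.whiskerLeft (𝒜.str ≫ Cmap 𝒜)

theorem coequifibered : (polyα 𝒜).Coequifibered := by
  refine Scheme.AffineZariskiSite.coequifibered_iff_forall_isLocalizationAway.mpr fun U f => ?_
  have hloc := 𝒜.isQC U.1 U.2 f
  exact isLocalization_away_mvPoly (σ := PUnit.{u+1})
    (𝒜.presheaf.map (homOfLE (Y.basicOpen_le f)).op).hom ((𝒜.str.app (op U.1)).hom f) hloc

/-- The quasi-coherent algebra `𝒜[T]`. -/
noncomputable def polyQC : RelSpec.QCAlg Y := AffAlgGlue.alg (coequifibered 𝒜)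

/-- Sections of `𝒜[T]` over an affine open are `𝒜(U)[T]`. -/
noncomputable def gIso (U : Y.AffineZariskiSite) :
    (polyQC 𝒜).presheaf.obj (op U.1) ≅ (polyPre 𝒜).obj (op U.1) :=
  AffAlgGlue.gammaIso (coequifibered 𝒜) U

/-- The comparison `𝒜(U)[T] ⟶ 𝒜[T](U)` on all opens, extending the inverse of `gIso`. -/
noncomputable def β : polyPre 𝒜 ⟶ (polyQC 𝒜).presheaf :=
  Functor.IsCoverDense.restrictHomEquivHom (G := Scheme.AffineZariskiSite.toOpensFunctor Y)
    (K := Opens.grothendieckTopology Y) (ℱ := polyPre 𝒜)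
    (ℱ' := (⟨(polyQC 𝒜).presheaf, (polyQC 𝒜).isSheaf⟩ : TopCat.Sheaf CommRingCat.{u} Y.carrier))
    { app := fun U => (gIso 𝒜 U.unop).inv
      naturality := by
        intro U V i
        have h := AffAlgGlue.gammaIso_naturality (coequifibered 𝒜) i.unop
        refine (Iso.comp_inv_eq (gIso 𝒜 V.unop)).mpr ?_
        refine Eq.trans ?_ (Category.assoc _ _ _).symm
        refine (Iso.eq_inv_comp (gIso 𝒜 U.unop)).mpr ?_
        exact h.symm }

theorem β_app (U : Y.AffineZariskiSite) : (β 𝒜).app (op U.1) = (gIso 𝒜 U).inv := by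
  have h := (Functor.IsCoverDense.restrictHomEquivHom
    (G := Scheme.AffineZariskiSite.toOpensFunctor Y)
    (K := Opens.grothendieckTopology Y) (ℱ := polyPre 𝒜)
    (ℱ' := (⟨(polyQC 𝒜).presheaf, (polyQC 𝒜).isSheaf⟩ :
      TopCat.Sheaf CommRingCat.{u} Y.carrier))).symm_apply_apply
    { app := fun U => (gIso 𝒜 U.unop).inv
      naturality := by
        intro U V i
        have h := AffAlgGlue.gammaIso_naturality (coequifibered 𝒜) i.unop
        refine (Iso.comp_inv_eq (gIso 𝒜 V.unop)).mpr ?_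
        refine Eq.trans ?_ (Category.assoc _ _ _).symm
        refine (Iso.eq_inv_comp (gIso 𝒜 U.unop)).mpr ?_
        exact h.symm }
  exact NatTrans.congr_app h (op U)

/-- The identification `𝒜(U)[T] ≃ 𝒜[T](U)` over an affine open. -/
noncomputable def eU (U : Y.AffineZariskiSite) :
    PolyU 𝒜 (op U.1) ≃+* (polyQC 𝒜).presheaf.obj (op U.1) :=
  (gIso 𝒜 U).symm.commRingCatIsoToRingEquiv

theorem eU_apply (U : Y.AffineZariskiSite) (p : PolyU 𝒜 (op U.1)) :
    eU 𝒜 U p = ((β 𝒜).app (op U.1)).hom p := by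
  rw [β_app]
  rfl

theorem β_res {U V : Y.Opens} (h : V ≤ U) (p : PolyU 𝒜 (op U)) :
    ((polyQC 𝒜).presheaf.map (homOfLE h).op).hom (((β 𝒜).app (op U)).hom p) =
      ((β 𝒜).app (op V)).hom (MvPolynomial.map (𝒜.presheaf.map (homOfLE h).op).hom p) :=
  (congrArg (fun k => k.hom p) ((β 𝒜).naturality (homOfLE h).op)).symm

theorem str_β : 𝒜.str ≫ Cmap 𝒜 ≫ β 𝒜 = (polyQC 𝒜).str := by
  apply QCAlgHomAffine.presheafHom_ext
  intro U
  change 𝒜.str.app (op U.1) ≫ (Cmap 𝒜).app (op U.1) ≫ (β 𝒜).app (op U.1) = _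
  rw [β_app, ← Category.assoc, Iso.comp_inv_eq]
  exact (AffAlgGlue.str_gammaIso (coequifibered 𝒜) U).symm

/-- The structure map of `𝒜 ⟶ 𝒜[T]`. -/
noncomputable def ι : 𝒜 ⟶ polyQC 𝒜 := ⟨Cmap 𝒜 ≫ β 𝒜, str_β 𝒜⟩

theorem ι_apply (U : Y.Opens) (a : 𝒜.presheaf.obj (op U)) :
    ((ι 𝒜).hom.app (op U)).hom a = ((β 𝒜).app (op U)).hom (MvPolynomial.C a) := rfl

theorem str_apply (U : Y.Opens) (r : Γ(Y, U)) :
    ((polyQC 𝒜).str.app (op U)).hom r =
      ((β 𝒜).app (op U)).hom (MvPolynomial.C ((𝒜.str.app (op U)).hom r)) :=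
  (congrArg (fun k => (k.app (op U)).hom r) (str_β 𝒜)).symm

/-- The variable `T`, as a global section of `𝒜[T]`. -/
noncomputable def z : (polyQC 𝒜).presheaf.obj (op ⊤) :=
  ((β 𝒜).app (op ⊤)).hom (MvPolynomial.X PUnit.unit)

theorem z_res (U : Y.Opens) :
    ((polyQC 𝒜).presheaf.map (homOfLE (le_top : U ≤ ⊤)).op).hom (z 𝒜) =
      ((β 𝒜).app (op U)).hom (MvPolynomial.X PUnit.unit) := by
  unfold z
  rw [β_res]
  congr 1
  exact MvPolynomial.map_X _ _

attribute [local instance] MvPolynomial.gradedAlgebra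

/-- The degree-`n` part of `𝒜[T](U)`: the image of the homogeneous polynomials of degree `n`. -/
noncomputable def deg (U : Y.Opens) (hU : IsAffineOpen U) (n : ℕ) :
    AddSubgroup ((polyQC 𝒜).presheaf.obj (op U)) :=
  mapDeg (eU 𝒜 ⟨U, hU⟩) (MvPolynomial.homogeneousSubmodule PUnit.{u+1} (𝒜.presheaf.obj (op U))) n

theorem mem_deg {U : Y.Opens} {hU : IsAffineOpen U} {n : ℕ}
    {x : (polyQC 𝒜).presheaf.obj (op U)} :
    x ∈ deg 𝒜 U hU n ↔ ∃ p : PolyU 𝒜 (op U), p.IsHomogeneous n ∧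
      ((β 𝒜).app (op U)).hom p = x := by
  constructor
  · rintro ⟨p, hp, rfl⟩
    exact ⟨p, hp, (eU_apply 𝒜 ⟨U, hU⟩ p).symm⟩
  · rintro ⟨p, hp, rfl⟩
    exact ⟨p, hp, eU_apply 𝒜 ⟨U, hU⟩ p⟩

/-- `𝒜[T]` as a quasi-coherent graded algebra. -/
noncomputable def polyGrAlg : RelProj.QCGrAlg Y where
  toQCAlg := polyQC 𝒜
  deg := deg 𝒜
  graded U hU := gradedRing (eU 𝒜 ⟨U, hU⟩)
    (MvPolynomial.homogeneousSubmodule PUnit.{u+1} (𝒜.presheaf.obj (op U)))
  map_mem := by
    intro U V hU hV i d x hx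
    obtain ⟨p, hp, rfl⟩ := (mem_deg 𝒜).mp hx
    rw [β_res]
    exact (mem_deg 𝒜).mpr ⟨_, hp.map _, rfl⟩
  str_mem := by
    intro U hU r
    rw [str_apply]
    exact (mem_deg 𝒜).mpr ⟨_, MvPolynomial.isHomogeneous_C _ _, rfl⟩

/-- The section of `𝒜[T]` over `U` named by a polynomial. -/
noncomputable abbrev g (U : Y.Opens) : PolyU 𝒜 (op U) →+* (polyQC 𝒜).presheaf.obj (op U) :=
  ((β 𝒜).app (op U)).hom

theorem g_bijective (U : Y.Opens) (hU : IsAffineOpen U) : Function.Bijective (g 𝒜 U) := by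
  have h : (g 𝒜 U : PolyU 𝒜 (op U) → _) = eU 𝒜 ⟨U, hU⟩ := by
    funext p
    exact (eU_apply 𝒜 ⟨U, hU⟩ p).symm
  rw [h]
  exact (eU 𝒜 ⟨U, hU⟩).bijective

theorem ι_mem (U : Y.Opens) (hU : IsAffineOpen U) (a : 𝒜.presheaf.obj (op U)) :
    ((ι 𝒜).hom.app (op U)).hom a ∈ (polyGrAlg 𝒜).deg U hU 0 :=
  (mem_deg 𝒜).mpr ⟨_, MvPolynomial.isHomogeneous_C _ _, rfl⟩

theorem z_mem (U : Y.Opens) (hU : IsAffineOpen U) :
    ((polyGrAlg 𝒜).presheaf.map (homOfLE (le_top : U ≤ ⊤)).op).hom (z 𝒜) ∈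
      (polyGrAlg 𝒜).deg U hU 1 := by
  have h := z_res 𝒜 U
  exact (mem_deg 𝒜).mpr ⟨_, MvPolynomial.isHomogeneous_X _ _, h.symm⟩

theorem hpoly (U : Y.Opens) (hU : IsAffineOpen U) :
    Function.Bijective (Polynomial.eval₂RingHom ((ι 𝒜).hom.app (op U)).hom
      (((polyGrAlg 𝒜).presheaf.map (homOfLE (le_top : U ≤ ⊤)).op).hom (z 𝒜))) := by
  have h : (Polynomial.eval₂RingHom ((ι 𝒜).hom.app (op U)).hom
      (((polyGrAlg 𝒜).presheaf.map (homOfLE (le_top : U ≤ ⊤)).op).hom (z 𝒜)) :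
        Polynomial (𝒜.presheaf.obj (op U)) → _) =
      (g 𝒜 U) ∘ (MvPolynomial.uniqueAlgEquiv (𝒜.presheaf.obj (op U)) PUnit.{u+1}).symm := by
    funext P
    have h1 := eval₂_eq_uniqueAlgEquiv_symm (g 𝒜 U) P
    have h2 : ((polyGrAlg 𝒜).presheaf.map (homOfLE (le_top : U ≤ ⊤)).op).hom (z 𝒜) =
        g 𝒜 U (MvPolynomial.X PUnit.unit) := z_res 𝒜 U
    change Polynomial.eval₂ _ _ P = _
    rw [h2]
    exact h1
  rw [h]
  exact (g_bijective 𝒜 U hU).comp (MvPolynomial.uniqueAlgEquiv _ _).symm.bijective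

theorem isGenDegOne : (polyGrAlg 𝒜).IsGenDegOne := by
  intro U hU
  rw [eq_top_iff]
  rintro x -
  obtain ⟨p, rfl⟩ := (g_bijective 𝒜 U hU).2 x
  change g 𝒜 U p ∈ Subring.closure _
  induction p using MvPolynomial.induction_on with
  | C a =>
    exact Subring.subset_closure (Or.inl (ι_mem 𝒜 U hU a))
  | add p q hp hq =>
    rw [map_add]
    exact Subring.add_mem _ hp hq
  | mul_X p i hp =>
    rw [map_mul]
    refine Subring.mul_mem _ hp (Subring.subset_closure (Or.inr ?_))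
    exact (mem_deg 𝒜).mpr ⟨_, MvPolynomial.isHomogeneous_X _ _, rfl⟩

theorem isFTDeg_one (hfin : ∀ (U : Y.Opens) (_ : IsAffineOpen U), (𝒜.str.app (op U)).hom.Finite) :
    (polyGrAlg 𝒜).IsFTDeg 1 := by
  classical
  intro U hU
  let _ := (𝒜.str.app (op U)).hom.toAlgebra
  have hfin' : Module.Finite Γ(Y, U) (𝒜.presheaf.obj (op U)) := hfin U hU
  obtain ⟨s, hs⟩ := hfin'.fg_top
  -- the generators `b ↦ b T`
  let τ : 𝒜.presheaf.obj (op U) → (polyQC 𝒜).presheaf.obj (op U) :=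
    fun b => g 𝒜 U (MvPolynomial.C b * MvPolynomial.X PUnit.unit)
  have hτinj : Function.Injective τ := by
    intro b b' hbb
    have h1 := (g_bijective 𝒜 U hU).1 hbb
    have h2 := congrArg (MvPolynomial.coeff (Finsupp.single PUnit.unit 1)) h1
    rw [MvPolynomial.coeff_C_mul, MvPolynomial.coeff_C_mul, MvPolynomial.coeff_X, if_pos rfl,
      mul_one, mul_one] at h2
    exact h2
  refine ⟨s.image τ, ?_, ?_⟩
  · intro t ht
    obtain ⟨b, -, rfl⟩ := Finset.mem_image.mp (Finset.mem_coe.mp ht)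
    exact (mem_deg 𝒜).mpr ⟨_, (isHomogeneous_one_iff _).mpr ⟨b, rfl⟩, rfl⟩
  · intro x hx
    obtain ⟨p, hp, rfl⟩ := (mem_deg 𝒜).mp hx
    obtain ⟨a, rfl⟩ := (isHomogeneous_one_iff p).mp hp
    have ha : a ∈ Submodule.span Γ(Y, U) (s : Set (𝒜.presheaf.obj (op U))) := by
      rw [hs]; trivial
    obtain ⟨c, -, hc⟩ := Submodule.mem_span_finset.mp ha
    refine ⟨fun t => c (Function.invFun τ t), ?_⟩
    have h4 : ∑ t ∈ s.image τ, ((polyQC 𝒜).str.app (op U)).hom (c (Function.invFun τ t)) * t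
        = ∑ b ∈ s, ((polyQC 𝒜).str.app (op U)).hom (c (Function.invFun τ (τ b))) * τ b :=
      Finset.sum_image (fun b _ b' _ h => hτinj h)
    refine Eq.trans ?_ h4.symm
    have h3 : ∀ b ∈ s, ((polyQC 𝒜).str.app (op U)).hom (c (Function.invFun τ (τ b))) * τ b =
        g 𝒜 U (MvPolynomial.C (c b • b) * MvPolynomial.X PUnit.unit) := by
      intro b _
      rw [Function.leftInverse_invFun hτinj b, str_apply]
      change g 𝒜 U _ * g 𝒜 U _ = _
      rw [← map_mul, ← mul_assoc, ← map_mul]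
      rfl
    rw [Finset.sum_congr rfl h3, ← map_sum, ← Finset.sum_mul, ← map_sum, hc]
    rfl

end Groth.Agent.Lib.helper12.PolyAlg
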