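import Mathlib
import Groth.Prelude.Def_W4c1imperftorsorsPerf

/-!
# Preperfection of a "two-generator" algebra

Abstract computation: if `B` is an `R`-algebra (char `p`, `p` odd) spanned by `1` and an element `α` with
`u • α = 0`, `α ^ p = v ^ (p - 1) • α`, with two retractions `ρ₊, ρ₋ : B → R` (`α ↦ ± v`) and a coefficient functional
`κ : B → R ⧸ (u)`, and `R/(u^N)` is `v`-adically separated for all `N`, then `R → B^{p^∞/R}` is bijective.
-/

set_option autoImplicit false
set_option linter.unusedSectionVars false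

universe u

open TensorProduct

namespace Groth.Agent.Lib.helper12.PrePerfNode

open W4c1imperftorsors

section
variable (p : ℕ) [Fact p.Prime] (R : Type u) [CommRing R] [CharP R p]
  (B : Type u) [CommRing B] [Algebra R B]

/-- the pure tensor `r ⊗ b` in the `j`-th Frobenius twist -/
noncomputable def tm (j : ℕ) (r : R) (b : B) : Twist p R B j :=
  r ⊗ₜ[Src p R j] ((aEquiv p R B j).symm b)

variable {R B}

lemma tm_add_left (j : ℕ) (r r' : R) (b : B) :
    tm p R B j (r + r') b = tm p R B j r b + tm p R B j r' b := by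
  unfold tm
  rw [TensorProduct.add_tmul]

lemma tm_add_right (j : ℕ) (r : R) (b b' : B) :
    tm p R B j r (b + b') = tm p R B j r b + tm p R B j r b' := by
  unfold tm
  rw [map_add, TensorProduct.tmul_add]

lemma tm_zero_right (j : ℕ) (r : R) : tm p R B j r (0 : B) = 0 := by
  unfold tm
  rw [map_zero, TensorProduct.tmul_zero]

/-- moving a scalar across the tensor: `(s^{p^j} r) ⊗ b = r ⊗ (s • b)` -/
lemma tm_smul (j : ℕ) (s r : R) (b : B) :
    tm p R B j (s ^ p ^ j * r) b = tm p R B j r (s • b) := by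
  unfold tm
  have h1 : s ^ p ^ j * r = ((srcEquiv p R j).symm s : Src p R j) • r := by
    rw [Algebra.smul_def, algebraMap_src, RingEquiv.apply_symm_apply]
  have h2 : (aEquiv p R B j).symm (s • b) =
      ((srcEquiv p R j).symm s : Src p R j) • (aEquiv p R B j).symm b := by
    rw [Algebra.smul_def, map_mul, Algebra.smul_def ((srcEquiv p R j).symm s), algebraMap_aSrc,
      RingEquiv.apply_symm_apply]
  rw [h1, h2, TensorProduct.smul_tmul]

/-- every element of the twist is a sum of pure tensors -/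
lemma tm_induction (j : ℕ) {P : Twist p R B j → Prop} (h0 : P 0)
    (htm : ∀ r b, P (tm p R B j r b)) (hadd : ∀ x y, P x → P y → P (x + y))
    (x : Twist p R B j) : P x := by
  induction x using TensorProduct.induction_on with
  | zero => exact h0
  | tmul r b =>
    have := htm r (aEquiv p R B j b)
    unfold tm at this
    rwa [RingEquiv.symm_apply_apply] at this
  | add x y hx hy => exact hadd x y hx hy

/-- the `Src`-action on `ASrc` is the `R`-action on `B` -/
lemma aEquiv_smul (j : ℕ) (s : Src p R j) (b : ASrc p R B j) :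
    aEquiv p R B j (s • b) = (srcEquiv p R j s) • (aEquiv p R B j b) := by
  rw [Algebra.smul_def, map_mul, algebraMap_aSrc, RingEquiv.apply_symm_apply, Algebra.smul_def]

/-- general additive functional on the twist: `r ⊗ b ↦ ι r * G b` -/
noncomputable def functional (j : ℕ) {S : Type*} [CommRing S] (ι : R →+* S) (G : B →+ S)
    (hG : ∀ (s : R) (b : B), G (s • b) = ι (s ^ p ^ j) * G b) : Twist p R B j →+ S :=
  TensorProduct.liftAddHom
    (AddMonoidHom.mk' (fun r : R => (AddMonoidHom.mulLeft (ι r)).comp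
        (G.comp (aEquiv p R B j).toAddMonoidHom)) (fun r r' => by
      ext b
      simp only [map_add, AddMonoidHom.coe_comp, Function.comp_apply, AddMonoidHom.coe_mulLeft,
        AddMonoidHom.add_apply, add_mul]))
    (fun s r b => by
      simp only [AddMonoidHom.mk'_apply, AddMonoidHom.coe_comp, Function.comp_apply,
        AddMonoidHom.coe_mulLeft]
      change ι (s • r) * G (aEquiv p R B j b) = ι r * G (aEquiv p R B j (s • b))
      rw [aEquiv_smul, hG, Algebra.smul_def, algebraMap_src, map_mul]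
      ring)

lemma functional_tm (j : ℕ) {S : Type*} [CommRing S] (ι : R →+* S) (G : B →+ S)
    (hG : ∀ (s : R) (b : B), G (s • b) = ι (s ^ p ^ j) * G b) (r : R) (b : B) :
    functional p j ι G hG (tm p R B j r b) = ι r * G b := by
  unfold functional tm
  rw [TensorProduct.liftAddHom_tmul]
  simp only [AddMonoidHom.mk'_apply, AddMonoidHom.coe_comp, Function.comp_apply,
    AddMonoidHom.coe_mulLeft]
  change ι r * G (aEquiv p R B j ((aEquiv p R B j).symm b)) = _
  rw [RingEquiv.apply_symm_apply]

section frob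
variable [CharP B p]

lemma relFrob_tm (j : ℕ) (r : R) (b : B) :
    relFrob p R B j (tm p R B (j + 1) r b) = tm p R B j r (b ^ p) := by
  unfold tm
  change relFrobAux p R B j (r ⊗ₜ[Src p R (j + 1)] (aEquiv p R B (j + 1)).symm b) = _
  rw [relFrobAux, Algebra.TensorProduct.lift_tmul]
  change algebraMap R (Twist p R B j) r * ((1 : R) ⊗ₜ[Src p R j] (aEquiv p R B j).symm
    (frobenius B p (aEquiv p R B (j + 1) ((aEquiv p R B (j + 1)).symm b)))) = _
  rw [Algebra.TensorProduct.algebraMap_apply, Algebra.TensorProduct.tmul_mul_tmul,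
    RingEquiv.apply_symm_apply, frobenius_def, one_mul, mul_one]
  rfl

end frob

lemma tm_zero_left (j : ℕ) (b : B) : tm p R B j (0 : R) b = 0 := by
  unfold tm
  rw [TensorProduct.zero_tmul]

lemma algebraMap_twist (j : ℕ) (r : R) : algebraMap R (Twist p R B j) r = tm p R B j r 1 := by
  unfold tm
  rw [Algebra.TensorProduct.algebraMap_apply, map_one]
  rfl

section main
variable [CharP B p] (hp : p ≠ 2) (u v : R) (huv : u * v = 0)
  (hsep : ∀ N : ℕ, 1 ≤ N → ∀ g : R,
      (∀ n : ℕ, g ∈ Ideal.span {v ^ n} ⊔ Ideal.span {u ^ N}) → g ∈ Ideal.span {u ^ N})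
  (α : B) (hspan : ∀ b : B, ∃ s t : R, b = s • (1 : B) + t • α)
  (hu : u • α = 0) (hpow : α ^ p = (v ^ (p - 1)) • α)
  (ρp ρm : B →ₐ[R] R) (hρp : ρp α = v) (hρm : ρm α = -v)
  (κ : B →+ R ⧸ Ideal.span {u})
  (hκs : ∀ (s : R) (b : B), κ (s • b) = Ideal.Quotient.mk (Ideal.span {u}) s * κ b)
  (hκ1 : κ 1 = 0) (hκα : κ α = 1)

include hspan in
lemma exists_rep (j : ℕ) (x : Twist p R B j) :
    ∃ r c : R, x = tm p R B j r 1 + tm p R B j c α := by
  induction x using tm_induction p j with
  | h0 => exact ⟨0, 0, by rw [tm_zero_left, tm_zero_left, add_zero]⟩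
  | htm r b =>
    obtain ⟨s, t, rfl⟩ := hspan b
    exact ⟨s ^ p ^ j * r, t ^ p ^ j * r, by rw [tm_add_right, tm_smul, tm_smul]⟩
  | hadd x y hx hy =>
    obtain ⟨r, c, rfl⟩ := hx
    obtain ⟨r', c', rfl⟩ := hy
    exact ⟨r + r', c + c', by rw [tm_add_left, tm_add_left]; abel⟩

/-- functional attached to a retraction -/
noncomputable def evalFun (j : ℕ) (ρ : B →ₐ[R] R) : Twist p R B j →+ R :=
  functional p j (RingHom.id R)
    (((iterateFrobenius R p j).comp (ρ : B →+* R)) : B →+* R).toAddMonoidHom
    (fun s b => by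
      change iterateFrobenius R p j (ρ (s • b)) = s ^ p ^ j * iterateFrobenius R p j (ρ b)
      rw [map_smul, smul_eq_mul, map_mul, iterateFrobenius_def])

lemma evalFun_tm (j : ℕ) (ρ : B →ₐ[R] R) (r : R) (b : B) :
    evalFun p j ρ (tm p R B j r b) = r * (ρ b) ^ p ^ j := by
  unfold evalFun
  rw [functional_tm]
  change r * iterateFrobenius R p j (ρ b) = _
  rw [iterateFrobenius_def]

/-- Frobenius iterate `R/(u) → R/(u^{p^j})` -/
noncomputable def frobQuot (j : ℕ) : R ⧸ Ideal.span {u} →+* R ⧸ Ideal.span {u ^ p ^ j} :=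
  Ideal.Quotient.lift (Ideal.span {u})
    ((Ideal.Quotient.mk (Ideal.span {u ^ p ^ j})).comp (iterateFrobenius R p j)) (fun a ha => by
      obtain ⟨d, rfl⟩ := Ideal.mem_span_singleton'.1 ha
      change Ideal.Quotient.mk (Ideal.span {u ^ p ^ j}) (iterateFrobenius R p j (d * u)) = 0
      rw [iterateFrobenius_def, mul_pow, Ideal.Quotient.eq_zero_iff_mem]
      exact Ideal.mul_mem_left _ _ (Ideal.subset_span rfl))

lemma frobQuot_mk (j : ℕ) (a : R) :
    frobQuot p u j (Ideal.Quotient.mk _ a) = Ideal.Quotient.mk _ (a ^ p ^ j) := by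
  unfold frobQuot
  rw [Ideal.Quotient.lift_mk]
  change Ideal.Quotient.mk _ (iterateFrobenius R p j a) = _
  rw [iterateFrobenius_def]

/-- coefficient functional on the twist -/
noncomputable def coeffFun (j : ℕ) : Twist p R B j →+ R ⧸ Ideal.span {u ^ p ^ j} :=
  functional p j (Ideal.Quotient.mk (Ideal.span {u ^ p ^ j}))
    ((frobQuot p u j).toAddMonoidHom.comp κ)
    (fun s b => by
      change frobQuot p u j (κ (s • b)) = _ * frobQuot p u j (κ b)
      rw [hκs, map_mul, frobQuot_mk])

lemma coeffFun_tm (j : ℕ) (r : R) (b : B) :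
    coeffFun p u κ hκs j (tm p R B j r b) =
      Ideal.Quotient.mk (Ideal.span {u ^ p ^ j}) r * frobQuot p u j (κ b) := by
  unfold coeffFun
  rw [functional_tm]
  rfl

end main

end

end Groth.Agent.Lib.helper12.PrePerfNode
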