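import Mathlib
import Groth.Agent.Lib.Helper12.PrePerfNode1

/-!
# Preperfection of a "two-generator" algebra: the main abstract theorem
-/

set_option autoImplicit false
set_option linter.unusedSectionVars false

universe u

open TensorProduct

namespace Groth.Agent.Lib.helper12.PrePerfNode

open W4c1imperftorsors

variable (p : ℕ) [Fact p.Prime] {R : Type u} [CommRing R] [CharP R p]
  {B : Type u} [CommRing B] [Algebra R B] [CharP B p]

lemma mem_prePerf (x : Π j : ℕ, Twist p R B j) :
    x ∈ prePerf p R B ↔ ∀ j, relFrob p R B j (x (j + 1)) = x j := by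
  unfold prePerf
  rw [Algebra.mem_iInf]
  exact Iff.rfl

theorem bijective_algebraMap_prePerf (hp : p ≠ 2) (u v : R) (huv : u * v = 0)
    (hsep : ∀ N : ℕ, 1 ≤ N → ∀ g : R,
      (∀ n : ℕ, g ∈ Ideal.span {v ^ n} ⊔ Ideal.span {u ^ N}) → g ∈ Ideal.span {u ^ N})
    (α : B) (hspan : ∀ b : B, ∃ s t : R, b = s • (1 : B) + t • α)
    (hu : u • α = 0) (hpow : α ^ p = (v ^ (p - 1)) • α)
    (ρp ρm : B →ₐ[R] R) (hρp : ρp α = v) (hρm : ρm α = -v)
    (κ : B →+ R ⧸ Ideal.span {u})
    (hκs : ∀ (s : R) (b : B), κ (s • b) = Ideal.Quotient.mk (Ideal.span {u}) s * κ b)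
    (hκ1 : κ 1 = 0) (hκα : κ α = 1) :
    Function.Bijective (algebraMap R ↥(prePerf p R B)) := by
  have hcomp : ∀ (j : ℕ) (r : R),
      ((algebraMap R ↥(prePerf p R B) r : ↥(prePerf p R B)) : Π j : ℕ, Twist p R B j) j =
        tm p R B j r 1 := by
    intro j r
    rw [← algebraMap_twist]
    rfl
  have hpodd : Odd p := (Fact.out : p.Prime).odd_of_ne_two hp
  -- values of the functionals on representatives
  have hTp : ∀ (j : ℕ) (r c : R), evalFun p j ρp (tm p R B j r 1 + tm p R B j c α) =
      r + c * v ^ p ^ j := by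
    intro j r c
    rw [map_add, evalFun_tm, evalFun_tm, map_one, one_pow, mul_one, hρp]
  have hTm : ∀ (j : ℕ) (r c : R), evalFun p j ρm (tm p R B j r 1 + tm p R B j c α) =
      r - c * v ^ p ^ j := by
    intro j r c
    rw [map_add, evalFun_tm, evalFun_tm, map_one, one_pow, mul_one, hρm, (hpodd.pow).neg_pow]
    ring
  have hK : ∀ (j : ℕ) (r c : R), coeffFun p u κ hκs j (tm p R B j r 1 + tm p R B j c α) =
      Ideal.Quotient.mk (Ideal.span {u ^ p ^ j}) c := by
    intro j r c
    rw [map_add, coeffFun_tm, coeffFun_tm, hκ1, hκα, map_zero, map_one, mul_zero, mul_one,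
      zero_add]
  have h2 : IsUnit (2 : R) := by
    obtain ⟨k, hk⟩ := hpodd
    refine isUnit_iff_exists_inv.2 ⟨((k + 1 : ℕ) : R), ?_⟩
    have : ((2 * (k + 1) : ℕ) : R) = 1 := by
      have h3 : 2 * (k + 1) = p + 1 := by omega
      rw [h3, Nat.cast_add, CharP.cast_eq_zero, Nat.cast_one, zero_add]
    rw [← this]
    push_cast
    ring
  constructor
  · -- injective
    intro r r' h
    have h0 := congrArg (fun x : ↥(prePerf p R B) => (x : Π j : ℕ, Twist p R B j) 0) h
    simp only [hcomp] at h0
    have h1 := congrArg (evalFun p 0 ρp) h0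
    rw [evalFun_tm, evalFun_tm, map_one, one_pow, mul_one, mul_one] at h1
    exact h1
  · -- surjective
    intro x
    have hx := (mem_prePerf p x.1).1 x.2
    choose r c hrc using fun j => exists_rep p α hspan j (x.1 j)
    -- Frobenius on representatives
    have hfrob : ∀ j, relFrob p R B j (x.1 (j + 1)) =
        tm p R B j (r (j + 1)) 1 + tm p R B j ((v ^ (p - 1)) ^ p ^ j * c (j + 1)) α := by
      intro j
      rw [hrc (j + 1), map_add, relFrob_tm, relFrob_tm, one_pow, hpow, tm_smul]
    have hcompat : ∀ j, tm p R B j (r j) 1 + tm p R B j (c j) α =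
        tm p R B j (r (j + 1)) 1 + tm p R B j ((v ^ (p - 1)) ^ p ^ j * c (j + 1)) α := by
      intro j
      rw [← hfrob j, hx j, ← hrc j]
    have hr : ∀ j, r j = r (j + 1) := by
      intro j
      have h1 := congrArg (evalFun p j ρp) (hcompat j)
      have h3 := congrArg (evalFun p j ρm) (hcompat j)
      rw [hTp, hTp] at h1
      rw [hTm, hTm] at h3
      have h4 : 2 * r j = 2 * r (j + 1) := by linear_combination h1 + h3
      exact h2.mul_left_cancel h4
    have hc : ∀ j, c j - (v ^ (p - 1)) ^ p ^ j * c (j + 1) ∈ Ideal.span {u ^ p ^ j} := by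
      intro j
      have h1 := congrArg (coeffFun p u κ hκs j) (hcompat j)
      rw [hK, hK] at h1
      exact Ideal.Quotient.eq.1 h1
    -- the exponent is positive
    have hwv : ∀ j, ∃ w : R, (v ^ (p - 1)) ^ p ^ j = v * w := by
      intro j
      have hp2 : 2 ≤ p := (Fact.out : p.Prime).two_le
      have hpos : 0 < (p - 1) * p ^ j := Nat.mul_pos (by omega) (pow_pos (by omega) j)
      refine ⟨v ^ ((p - 1) * p ^ j - 1), ?_⟩
      rw [← pow_mul, ← pow_succ']
      congr 1
      omega
    have hclaim : ∀ n j, c j ∈ Ideal.span {v ^ n} ⊔ Ideal.span {u ^ p ^ j} := by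
      intro n
      induction n with
      | zero =>
        intro j
        rw [pow_zero, Ideal.span_singleton_one, top_sup_eq]
        exact Submodule.mem_top
      | succ n ih =>
        intro j
        obtain ⟨w, hw⟩ := hwv j
        obtain ⟨a, ha, b, hb, hab⟩ := Submodule.mem_sup.1 (ih (j + 1))
        obtain ⟨a', rfl⟩ := Ideal.mem_span_singleton'.1 ha
        obtain ⟨b', rfl⟩ := Ideal.mem_span_singleton'.1 hb
        have hub : v * w * (b' * u ^ p ^ (j + 1)) = 0 := by
          have hpos : 0 < p ^ (j + 1) := pow_pos (Fact.out : p.Prime).pos _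
          obtain ⟨m, hm⟩ := Nat.exists_eq_succ_of_ne_zero hpos.ne'
          rw [hm, pow_succ]
          have : v * w * (b' * (u ^ m * u)) = (u * v) * (w * b' * u ^ m) := by ring
          rw [this, huv, zero_mul]
        have h1 : c j = (c j - (v ^ (p - 1)) ^ p ^ j * c (j + 1)) + (a' * w) * v ^ (n + 1) := by
          rw [← hab, hw, mul_add, hub, add_zero]
          ring
        rw [h1]
        refine Submodule.add_mem _ (Submodule.mem_sup_right (hc j)) (Submodule.mem_sup_left ?_)
        exact Ideal.mul_mem_left _ _ (Ideal.subset_span rfl)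
    have hczero : ∀ j, tm p R B j (c j) α = 0 := by
      intro j
      have h1 := hsep (p ^ j) (Nat.one_le_pow _ _ (Fact.out : p.Prime).pos) (c j)
        (fun n => hclaim n j)
      obtain ⟨d, hd⟩ := Ideal.mem_span_singleton'.1 h1
      rw [← hd, mul_comm, tm_smul, hu, tm_zero_right]
    have hrconst : ∀ j, r j = r 0 := by
      intro j
      induction j with
      | zero => rfl
      | succ j ih => rw [← hr j, ih]
    refine ⟨r 0, Subtype.ext (funext fun j => ?_)⟩
    rw [hcomp, hrc j, hczero, add_zero, hrconst j]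

end Groth.Agent.Lib.helper12.PrePerfNode
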