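import Mathlib

/-!
# Base change of `A_(f)` (degree-zero homogeneous localization) (helper12)

For `A = R ⊗[R'] B` graded compatibly (`φ : ℬ →+*ᵍ 𝒜` the canonical map), and `b ∈ ℬ d`,
`Away 𝒜 (φ b) = R ⊗[R'] Away ℬ b` (`isPushout_away`, a pushout square in `CommRingCat`).
-/

set_option autoImplicit false
set_option linter.unusedSectionVars false
universe u

namespace Groth.Agent.Lib.helper12.ProjBC

open HomogeneousLocalization TensorProduct

section str

variable {R' B : Type u} [CommRing R'] [CommRing B] [Algebra R' B] (ℬ : ℕ → Submodule R' B)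
  [GradedAlgebra ℬ]

/-- The structure map `R' → B_(b)`. -/
def strHom (b : B) : R' →+* Away ℬ b := (fromZeroRingHom ℬ _).comp (algebraMap R' (ℬ 0))

theorem val_strHom (b : B) (r : R') :
    (strHom ℬ b r).val = Localization.mk (algebraMap R' B r) 1 := rfl

/-- `B_(b)` as an `R'`-algebra. -/
@[reducible] def algAway (b : B) : Algebra R' (Away ℬ b) := (strHom ℬ b).toAlgebra

attribute [local instance] algAway

variable {ℬ} {d : ℕ} {b : B} (hb : b ∈ ℬ d)

/-- `y ↦ y / b ^ k` on `ℬ (k • d)`, as a linear map. -/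
def mu (k : ℕ) : ℬ (k • d) →ₗ[R'] Away ℬ b where
  toFun y := Away.mk ℬ hb k y.1 y.2
  map_add' y y' := by
    apply val_injective
    rw [val_add, Away.val_mk, Away.val_mk, Away.val_mk, Localization.add_mk_self]
    rfl
  map_smul' r y := by
    apply val_injective
    rw [RingHom.id_apply]
    refine Eq.trans ?_ (congrArg val (Algebra.smul_def r (Away.mk ℬ hb k (y : B) y.2)).symm)
    rw [val_mul, Away.val_mk, Away.val_mk]
    change _ = (strHom ℬ b r).val * _
    rw [val_strHom, Localization.mk_mul, one_mul]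
    congr 1
    change r • (y : B) = _
    rw [Algebra.smul_def]

theorem val_mu (k : ℕ) (y : ℬ (k • d)) :
    (mu hb k y).val = Localization.mk (y : B) ⟨b ^ k, (Submonoid.mem_powers_iff _ _).mpr ⟨k, rfl⟩⟩ :=
  rfl

end str

section bc

variable {R R' A B : Type u} [CommRing R'] [CommRing R] [Algebra R' R]
  [CommRing B] [Algebra R' B] {ℬ : ℕ → Submodule R' B} [GradedAlgebra ℬ]
  [CommRing A] [Algebra R A] [Algebra R' A] [IsScalarTower R' R A] {𝒜 : ℕ → Submodule R A}
  [GradedAlgebra 𝒜] [Algebra B A] [IsScalarTower R' B A]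
  (φ : ℬ →+*ᵍ 𝒜) (hφA : ∀ b : B, φ b = algebraMap B A b)
  {d : ℕ} {b : B} (hb : b ∈ ℬ d)

attribute [local instance] algAway

theorem algebraMap_mem_zero_smul (r : R') : algebraMap R' B r ∈ ℬ ((0 : ℕ) • d) := by
  rw [zero_smul]; exact SetLike.algebraMap_mem_graded ℬ r

theorem strHom_eq_mk (r : R') :
    strHom ℬ b r = Away.mk ℬ hb 0 (algebraMap R' B r) (algebraMap_mem_zero_smul r) := by
  apply val_injective
  rw [val_strHom, Away.val_mk]
  congr 1
  exact Subtype.ext (pow_zero b).symm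

include hφA hb in
theorem map_strHom (r : R') :
    Away.map φ b (strHom ℬ b r) = strHom 𝒜 (φ b) (algebraMap R' R r) := by
  rw [strHom_eq_mk hb, Away.map_mk]
  apply val_injective
  rw [Away.val_mk, val_strHom]
  congr 1
  · rw [hφA, ← IsScalarTower.algebraMap_apply, ← IsScalarTower.algebraMap_apply]
  · exact Subtype.ext (pow_zero _)

/-- `A_(φ b)` as an `R'`-algebra. -/
@[reducible] def algAway' : Algebra R' (Away 𝒜 (φ b)) :=
  ((strHom 𝒜 (φ b)).comp (algebraMap R' R)).toAlgebra

section main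

variable [Algebra.IsPushout R' R B A]

/-- The canonical equivalence `R ⊗[R'] B ≃ A`. -/
noncomputable def eps : R ⊗[R'] B ≃ₗ[R] A :=
  (Algebra.IsPushout.out (R := R') (S := R) (R' := B) (S' := A)).equiv

theorem eps_tmul (r : R) (y : B) : eps (r ⊗ₜ[R'] y) = r • algebraMap B A y :=
  IsBaseChange.equiv_tmul _ _ _

/-- The comparison map `R ⊗[R'] B_(b) → A_(φ b)`. -/
noncomputable def cmp : R ⊗[R'] Away ℬ b →+* Away 𝒜 (φ b) :=
  letI := algAway' (R := R) (R' := R') φ (b := b)
  (Algebra.TensorProduct.productMap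
    ({ strHom 𝒜 (φ b) with commutes' := fun _ => rfl } : R →ₐ[R'] Away 𝒜 (φ b))
    ({ Away.map φ b with commutes' := fun r => map_strHom φ hφA hb r } :
      Away ℬ b →ₐ[R'] Away 𝒜 (φ b))).toRingHom

theorem cmp_tmul (r : R) (x : Away ℬ b) :
    cmp φ hφA hb (r ⊗ₜ[R'] x) = strHom 𝒜 (φ b) r * Away.map φ b x := by
  let _ := algAway' (R := R) (R' := R') φ (b := b)
  exact Algebra.TensorProduct.productMap_apply_tmul _ _ _ _

theorem pow_mem_powers (k : ℕ) : φ b ^ k ∈ Submonoid.powers (φ b) := ⟨k, rfl⟩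

/-- The value of the comparison map on `z ∈ R ⊗ ℬ (k • d)`. -/
theorem val_cmp (k : ℕ) (z : R ⊗[R'] ℬ (k • d)) :
    (cmp φ hφA hb ((mu hb k).baseChange R z)).val =
      Localization.mk (eps ((ℬ (k • d)).subtype.baseChange R z)) ⟨φ b ^ k, pow_mem_powers φ k⟩ := by
  induction z using TensorProduct.induction_on with
  | zero => simp only [map_zero, val_zero, Localization.mk_zero]
  | tmul r y =>
    rw [LinearMap.baseChange_tmul, LinearMap.baseChange_tmul, cmp_tmul, eps_tmul,
      val_mul, val_strHom]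
    change _ * (Away.map φ b (Away.mk ℬ hb k y.1 y.2)).val = _
    rw [Away.map_mk, Away.val_mk, Localization.mk_mul, one_mul, Submodule.subtype_apply,
      Algebra.smul_def r (algebraMap B A (y : B)), hφA (y : B)]
  | add z z' hz hz' =>
    rw [map_add, map_add, val_add, hz, hz', map_add, map_add, Localization.add_mk_self]

include hb in
theorem pow_mul_mem {k k' : ℕ} (hkk : k ≤ k') {y : B} (hy : y ∈ ℬ (k • d)) :
    b ^ (k' - k) * y ∈ ℬ (k' • d) := by
  have h1 : b ^ (k' - k) ∈ ℬ ((k' - k) • d) := SetLike.pow_mem_graded _ hb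
  have h2 := SetLike.mul_mem_graded h1 hy
  rwa [← add_smul, Nat.sub_add_cancel hkk] at h2

theorem mu_pow_mul {k k' : ℕ} (hkk : k ≤ k') {y : B} (hy : y ∈ ℬ (k • d)) :
    mu hb k' ⟨b ^ (k' - k) * y, pow_mul_mem hb hkk hy⟩ = mu hb k ⟨y, hy⟩ := by
  apply val_injective
  rw [val_mu, val_mu, Localization.mk_eq_mk_iff, Localization.r_iff_exists]
  refine ⟨1, ?_⟩
  simp only [OneMemClass.coe_one, one_mul]
  change b ^ k * (b ^ (k' - k) * y) = b ^ k' * y
  rw [← mul_assoc, ← pow_add, Nat.add_sub_cancel' hkk]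

/-- Every element of `R ⊗ B_(b)` comes from `R ⊗ ℬ (k • d)` for all large `k`. -/
theorem exists_mem_range (x : R ⊗[R'] Away ℬ b) :
    ∃ k₀ : ℕ, ∀ k, k₀ ≤ k → x ∈ LinearMap.range ((mu hb k).baseChange R) := by
  induction x using TensorProduct.induction_on with
  | zero => exact ⟨0, fun k _ => zero_mem _⟩
  | tmul r c =>
    obtain ⟨n, y, hy, rfl⟩ := Away.mk_surjective ℬ hb c
    refine ⟨n, fun k hk => ⟨r ⊗ₜ ⟨b ^ (k - n) * y, pow_mul_mem hb hk hy⟩, ?_⟩⟩
    rw [LinearMap.baseChange_tmul, mu_pow_mul hb hk hy]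
    rfl
  | add x x' hx hx' =>
    obtain ⟨k₁, h₁⟩ := hx
    obtain ⟨k₂, h₂⟩ := hx'
    exact ⟨max k₁ k₂, fun k hk => Submodule.add_mem _ (h₁ k (le_trans (le_max_left _ _) hk))
      (h₂ k (le_trans (le_max_right _ _) hk))⟩

include hφA in
/-- `eps` is compatible with multiplication by `b ^ N`. -/
theorem eps_mulLeft (N k : ℕ) (z : R ⊗[R'] ℬ (k • d)) :
    eps (((LinearMap.mulLeft R' (b ^ N)) ∘ₗ (ℬ (k • d)).subtype).baseChange R z) =
      φ b ^ N * eps ((ℬ (k • d)).subtype.baseChange R z) := by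
  induction z using TensorProduct.induction_on with
  | zero => simp only [map_zero, mul_zero]
  | tmul r y =>
    rw [LinearMap.baseChange_tmul, LinearMap.baseChange_tmul, eps_tmul, eps_tmul,
      LinearMap.comp_apply, LinearMap.mulLeft_apply, map_mul, map_pow, hφA b, mul_smul_comm]
  | add z z' hz hz' => rw [map_add, map_add, hz, hz', map_add, map_add, mul_add]

/-- The projection `B → ℬ n` as a linear map. -/
noncomputable def projL (n : ℕ) : B →ₗ[R'] ℬ n :=
  (DirectSum.component R' ℕ (fun i => ℬ i) n) ∘ₗ (DirectSum.decomposeLinearEquiv ℬ).toLinearMap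

theorem projL_apply (n : ℕ) (y : B) : projL (ℬ := ℬ) n y = DirectSum.decompose ℬ y n := rfl

theorem projL_of_mem {n : ℕ} {y : B} (hy : y ∈ ℬ n) : projL (ℬ := ℬ) n y = ⟨y, hy⟩ := by
  apply Subtype.ext
  rw [projL_apply]
  exact DirectSum.decompose_of_mem_same ℬ hy

include hb in
theorem pow_mul_mem' (N k : ℕ) {y : B} (hy : y ∈ ℬ (k • d)) :
    b ^ N * y ∈ ℬ ((N + k) • d) := by
  have h1 : b ^ N ∈ ℬ (N • d) := SetLike.pow_mem_graded _ hb
  have h2 := SetLike.mul_mem_graded h1 hy
  rwa [← add_smul] at h2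

/-- The retraction identity. -/
theorem retract_comp (N k : ℕ) :
    ((mu hb (N + k)) ∘ₗ projL ((N + k) • d)) ∘ₗ
      ((LinearMap.mulLeft R' (b ^ N)) ∘ₗ (ℬ (k • d)).subtype) = mu hb k := by
  ext y
  rw [LinearMap.comp_apply, LinearMap.comp_apply, LinearMap.comp_apply, Submodule.subtype_apply,
    LinearMap.mulLeft_apply, projL_of_mem (pow_mul_mem' hb N k y.2)]
  rw [val_mu, val_mu, Localization.mk_eq_mk_iff, Localization.r_iff_exists]
  refine ⟨1, ?_⟩
  simp only [OneMemClass.coe_one, one_mul]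
  change b ^ k * (b ^ N * (y : B)) = b ^ (N + k) * (y : B)
  rw [← mul_assoc, ← pow_add, add_comm]

include hφA in
/-- `eps` is compatible with the projections onto graded pieces. -/
theorem eps_proj (n : ℕ) (w : R ⊗[R'] B) :
    eps (((ℬ n).subtype ∘ₗ projL n).baseChange R w) = (DirectSum.decompose 𝒜 (eps w) n : A) := by
  induction w using TensorProduct.induction_on with
  | zero => simp only [map_zero, DirectSum.decompose_zero, DirectSum.zero_apply, ZeroMemClass.coe_zero]
  | tmul r y =>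
    rw [LinearMap.baseChange_tmul, eps_tmul, eps_tmul, LinearMap.comp_apply,
      Submodule.subtype_apply, projL_apply, ← hφA, φ.map_directSumDecompose,
      DirectSum.decompose_smul, DirectSum.smul_apply, Submodule.coe_smul, hφA]
  | add w w' hw hw' =>
    rw [map_add, map_add, hw, hw', map_add, DirectSum.decompose_add, DirectSum.add_apply,
      Submodule.coe_add]

theorem cmp_injective : Function.Injective (cmp φ hφA hb) := by
  rw [injective_iff_map_eq_zero]
  intro x hx
  obtain ⟨k, hk⟩ := exists_mem_range (R := R) hb x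
  obtain ⟨z, rfl⟩ := hk k le_rfl
  have h1 := val_cmp φ hφA hb k z
  rw [hx, val_zero] at h1
  have h2 := h1.symm
  rw [Localization.mk_eq_mk', IsLocalization.mk'_eq_zero_iff] at h2
  obtain ⟨⟨_, N, rfl⟩, hN⟩ := h2
  have h3 : ((LinearMap.mulLeft R' (b ^ N)) ∘ₗ (ℬ (k • d)).subtype).baseChange R z = 0 := by
    apply (eps (R := R) (R' := R') (A := A) (B := B)).injective
    rw [eps_mulLeft φ hφA, map_zero]
    exact hN
  rw [← retract_comp hb N k, LinearMap.baseChange_comp, LinearMap.comp_apply, h3, map_zero]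

theorem cmp_surjective : Function.Surjective (cmp φ hφA hb) := by
  intro δ
  obtain ⟨k, a, ha, rfl⟩ := Away.mk_surjective 𝒜 (φ.map_mem hb) δ
  set w : R ⊗[R'] B := (eps (R := R) (R' := R') (A := A) (B := B)).symm a with hw
  refine ⟨(mu hb k).baseChange R ((projL (k • d)).baseChange R w), ?_⟩
  apply val_injective
  rw [val_cmp, Away.val_mk]
  congr 1
  rw [← LinearMap.comp_apply, ← LinearMap.baseChange_comp, eps_proj φ hφA, hw,
    LinearEquiv.apply_symm_apply]
  exact DirectSum.decompose_of_mem_same 𝒜 ha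

include hφA hb in
open CategoryTheory in
/-- **Base change of the degree-zero localization**: `A_(φ b) = R ⊗[R'] B_(b)`, as a pushout
square of commutative rings. -/
theorem isPushout_away :
    IsPushout (CommRingCat.ofHom (algebraMap R' R)) (CommRingCat.ofHom (strHom ℬ b))
      (CommRingCat.ofHom (strHom 𝒜 (φ b))) (CommRingCat.ofHom (Away.map φ b)) := by
  let e : R ⊗[R'] Away ℬ b ≃+* Away 𝒜 (φ b) :=
    RingEquiv.ofBijective (cmp φ hφA hb) ⟨cmp_injective φ hφA hb, cmp_surjective φ hφA hb⟩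
  have h0 := CommRingCat.isPushout_tensorProduct R' R (Away ℬ b)
  refine h0.of_iso (Iso.refl _) (Iso.refl _) (Iso.refl _) e.toCommRingCatIso ?_ ?_ ?_ ?_
  · exact (Category.comp_id _).trans (Category.id_comp _).symm
  · exact (Category.comp_id _).trans (Category.id_comp _).symm
  · rw [Iso.refl_hom, Category.id_comp]
    refine CommRingCat.hom_ext (RingHom.ext fun r => ?_)
    change cmp φ hφA hb (r ⊗ₜ 1) = strHom 𝒜 (φ b) r
    rw [cmp_tmul, map_one, mul_one]
  · rw [Iso.refl_hom, Category.id_comp]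
    refine CommRingCat.hom_ext (RingHom.ext fun c => ?_)
    change cmp φ hφA hb (1 ⊗ₜ c) = Away.map φ b c
    rw [cmp_tmul, map_one, one_mul]

end main

end bc

end Groth.Agent.Lib.helper12.ProjBC
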