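import Mathlib
import Groth.Agent.Lib.Helper12.ProjClosed5
import Groth.Agent.Lib.Helper28.TwistPn
import Groth.Agent.Lib.Lead.ProjMapG

/-!
# A closed subscheme of `P^N_A` is `Proj` of a graded quotient of `A[T₀..T_N]` (helper12)

`exists_proj_of_closedImmersion_projSpace`: the packaged form used for EGA II 5.5.3 (S3585).
-/

set_option autoImplicit false
set_option linter.style.haveILetI false
universe u

open CategoryTheory AlgebraicGeometry Opposite TopologicalSpace HomogeneousLocalization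

namespace Groth.Agent.Lib.helper12.ProjClosed

open MvPolynomial

theorem exists_proj_of_closedImmersion_projSpace (N : ℕ) (A : Type u) [CommRing A] {Z : Scheme.{u}}
    (r : Z ⟶ Proj (CohB1.polyGrading N A)) [IsClosedImmersion r] :
    ∃ (S : Type u) (_ : CommRing S) (_ : Algebra A S) (𝒮 : ℕ → Submodule A S)
      (_ : GradedAlgebra 𝒮) (s : Finset S),
      Function.Surjective (algebraMap A (𝒮 0)) ∧ (∀ g ∈ s, g ∈ 𝒮 1) ∧
      (HomogeneousIdeal.irrelevant 𝒮).toIdeal = Ideal.span (s : Set S) ∧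
      ∃ e : Z ≅ Proj 𝒮, e.hom ≫ Proj.toSpecZero 𝒮 ≫
        Spec.map (CommRingCat.ofHom (algebraMap A (𝒮 0))) =
          r ≫ CohB1.ProjSpace.toSpec N A := by
  classical
  let 𝒜 := CohB1.polyGrading N A
  let t : Finset (MvPolynomial (Fin (N + 1)) A) :=
    Finset.univ.image (X : Fin (N + 1) → MvPolynomial (Fin (N + 1)) A)
  have ht1 : ∀ f ∈ (t : Set (MvPolynomial (Fin (N + 1)) A)), f ∈ 𝒜 1 := by
    intro f hf
    obtain ⟨k, -, rfl⟩ := Finset.mem_image.mp (Finset.mem_coe.mp hf)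
    exact Groth.Agent.Lib.helper28.TwistPn.X_mem N A k
  have hrange : (t : Set (MvPolynomial (Fin (N + 1)) A)) =
      Set.range (X : Fin (N + 1) → MvPolynomial (Fin (N + 1)) A) := by
    ext f
    simp [t]
  have ht : (HomogeneousIdeal.irrelevant 𝒜).toIdeal = Ideal.span (t : Set _) := by
    refine le_antisymm ?_ ?_
    · rw [hrange]
      exact Groth.Agent.Lib.helper28.TwistPn.irrelevant_le N A
    · rw [Ideal.span_le]
      intro f hf
      exact HomogeneousIdeal.mem_irrelevant_of_mem _ Nat.one_pos (ht1 f hf)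
  let I : HomogeneousIdeal 𝒜 := vanHIdeal 𝒜 r (t : Set _) ht1
  obtain ⟨e, he⟩ : ∃ e : Z ≅ Proj (qGr 𝒜 I), e.hom ≫ Proj.map (qHom 𝒜 I)
      (irrelevant_le_map_of_surjective 𝒜 _ _ (qHom_surjective 𝒜 _)) = r :=
    exists_iso_proj_quotient 𝒜 t ht1 ht r
  let φ : 𝒜 →+*ᵍ qGr 𝒜 I := qHom 𝒜 I
  have hφs : Function.Surjective φ := qHom_surjective 𝒜 I
  refine ⟨_, inferInstance, inferInstance, qGr 𝒜 I, inferInstance, t.image φ, ?_, ?_, ?_, e, ?_⟩
  · rintro ⟨x, hx⟩
    obtain ⟨a, ha, rfl⟩ := hx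
    have ha' : a ∈ (1 : Submodule A (MvPolynomial (Fin (N + 1)) A)) := by
      have h0 : a ∈ MvPolynomial.homogeneousSubmodule (Fin (N + 1)) A 0 := ha
      rwa [MvPolynomial.homogeneousSubmodule_zero] at h0
    obtain ⟨c, rfl⟩ := Submodule.mem_one.mp ha'
    refine ⟨c, Subtype.ext ?_⟩
    rw [SetLike.GradeZero.coe_algebraMap]
    exact ((Ideal.Quotient.mkₐ A I.toIdeal).commutes c).symm
  · intro g hg
    obtain ⟨f, hf, rfl⟩ := Finset.mem_image.mp hg
    exact φ.map_mem (ht1 f (Finset.mem_coe.mpr hf))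
  · refine le_antisymm ?_ ?_
    · have h1 := irrelevant_le_map_of_surjective 𝒜 (qGr 𝒜 I) φ hφs
      have h2 : ((HomogeneousIdeal.irrelevant 𝒜).map φ).toIdeal =
          (HomogeneousIdeal.irrelevant 𝒜).toIdeal.map φ := rfl
      refine le_trans (show (HomogeneousIdeal.irrelevant (qGr 𝒜 I)).toIdeal ≤
        ((HomogeneousIdeal.irrelevant 𝒜).map φ).toIdeal from h1) ?_
      have h3 : ((t.image φ : Finset _) : Set _) = φ '' (t : Set _) := Finset.coe_image
      rw [h3, h2, ht, Ideal.map_span]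
    · rw [Ideal.span_le]
      intro g hg
      obtain ⟨f, hf, rfl⟩ := Finset.mem_image.mp (Finset.mem_coe.mp hg)
      exact HomogeneousIdeal.mem_irrelevant_of_mem _ Nat.one_pos
        (φ.map_mem (ht1 f (Finset.mem_coe.mpr hf)))
  · have hspec : r ≫ CohB1.ProjSpace.toSpec N A = r ≫ (Proj.toSpecZero 𝒜 ≫
        Spec.map (CommRingCat.ofHom (algebraMap A (𝒜 0)))) := rfl
    have h5 : CommRingCat.ofHom (algebraMap A (𝒜 0)) ≫
        CommRingCat.ofHom (qHom 𝒜 I).gradedZeroRingHom =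
        CommRingCat.ofHom (algebraMap A (qGr 𝒜 I 0)) := by
      ext c
      exact (Ideal.Quotient.mkₐ A I.toIdeal).commutes c
    rw [hspec]
    conv_rhs => rw [← he]
    rw [Category.assoc, ← Category.assoc (Proj.map _ _),
      Groth.Agent.Lib.Lead.ProjMapG.map_toSpecZero, Category.assoc, ← Spec.map_comp, h5]

end Groth.Agent.Lib.helper12.ProjClosed
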