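import Mathlib

/-
helper12: the symmetric algebra as a graded algebra: scaling of algebra maps and the irrelevant ideal.

* `twistHom 𝒮 ψ c` (`p ↦ Σ c^k ψ(p_k)`), `twistHom_apply_of_mem`.
* `scale_of_isSymmetricAlgebra(')`: two algebra maps out of a symmetric algebra with `ψ'(ι m) = c ψ(ι m)` satisfy
  `ψ' p = c^k ψ p` on `𝒮 k`.
* `mem_span_range_of_mem`, `exists_notMem_of_isSymmetricAlgebra`: `D₊(ι m)` cover `Proj`.
* `exists_lift_of_isSymmetricAlgebra`: ring-hom form of the universal property.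
-/

set_option autoImplicit false
set_option linter.style.haveILetI false
universe u

namespace Groth.Agent.Lib.helper12.SymScale

variable {A S B M : Type*} [CommRing A] [CommRing S] [Algebra A S] (𝒮 : ℕ → Submodule A S)
  [GradedAlgebra 𝒮] [CommRing B] [Algebra A B] [AddCommGroup M] [Module A M]

/-- Twisting an algebra map out of a graded algebra by `c`: `p ↦ Σ c^k ψ(p_k)`. -/
noncomputable def twistHom (ψ : S →ₐ[A] B) (c : B) : S →ₐ[A] B :=
  (DirectSum.toAlgebra A (fun i => 𝒮 i)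
    (fun i => (LinearMap.mulLeft A (c ^ i)).comp (ψ.toLinearMap.comp (𝒮 i).subtype))
    (by simp [GradedMonoid.GOne.one])
    (by
      intro i j ai aj
      simp only [LinearMap.coe_comp, Function.comp_apply, LinearMap.mulLeft_apply,
        Submodule.coe_subtype, AlgHom.toLinearMap_apply]
      change c ^ (i + j) * ψ ((ai : S) * (aj : S)) = _
      rw [map_mul, pow_add]
      ring)).comp (DirectSum.decomposeAlgEquiv 𝒮).toAlgHom

theorem twistHom_apply_of_mem (ψ : S →ₐ[A] B) (c : B) {k : ℕ} {p : S} (hp : p ∈ 𝒮 k) :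
    twistHom 𝒮 ψ c p = c ^ k * ψ p := by
  unfold twistHom
  rw [AlgHom.comp_apply]
  change (DirectSum.toAlgebra A (fun i => 𝒮 i) _ _ _) (DirectSum.decompose 𝒮 p) = _
  rw [DirectSum.decompose_of_mem 𝒮 hp]
  simp [DirectSum.toAlgebra]

theorem scale_of_isSymmetricAlgebra {ι : M →ₗ[A] S} (hsym : IsSymmetricAlgebra ι)
    (hι : ∀ m, ι m ∈ 𝒮 1) (ψ ψ' : S →ₐ[A] B) (c : B) (h : ∀ m, ψ' (ι m) = c * ψ (ι m))
    {k : ℕ} {p : S} (hp : p ∈ 𝒮 k) : ψ' p = c ^ k * ψ p := by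
  have e : ψ' = twistHom 𝒮 ψ c := by
    refine hsym.algHom_ext (LinearMap.ext fun m => ?_)
    change ψ' (ι m) = twistHom 𝒮 ψ c (ι m)
    rw [h, twistHom_apply_of_mem 𝒮 ψ c (hι m), pow_one]
  rw [e, twistHom_apply_of_mem 𝒮 ψ c hp]

theorem mem_span_range_of_mem {ι : M →ₗ[A] S} (hsym : IsSymmetricAlgebra ι)
    (hι : ∀ m, ι m ∈ 𝒮 1) {k : ℕ} (hk : 0 < k) {p : S} (hp : p ∈ 𝒮 k) :
    p ∈ Ideal.span (Set.range ι) := by
  have h := scale_of_isSymmetricAlgebra 𝒮 hsym hι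
    (Ideal.Quotient.mkₐ A (Ideal.span (Set.range ι))) (Ideal.Quotient.mkₐ A (Ideal.span (Set.range ι)))
    0 (fun m => by
      rw [zero_mul]
      exact Ideal.Quotient.eq_zero_iff_mem.mpr (Ideal.subset_span ⟨m, rfl⟩)) hp
  rw [zero_pow hk.ne', zero_mul] at h
  exact Ideal.Quotient.eq_zero_iff_mem.mp h

theorem exists_notMem_of_isSymmetricAlgebra {ι : M →ₗ[A] S} (hsym : IsSymmetricAlgebra ι)
    (hι : ∀ m, ι m ∈ 𝒮 1) (x : ProjectiveSpectrum 𝒮) : ∃ m, ι m ∉ x.asHomogeneousIdeal := by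
  by_contra hcon
  push Not at hcon
  apply x.not_irrelevant_le
  intro z hz
  have h0 : GradedRing.proj 𝒮 0 z = 0 := (HomogeneousIdeal.mem_irrelevant_iff _ z).mp hz
  have hle : Ideal.span (Set.range ι) ≤ x.asHomogeneousIdeal.toIdeal :=
    Ideal.span_le.mpr (by rintro _ ⟨m, rfl⟩; exact hcon m)
  classical
  rw [← DirectSum.sum_support_decompose 𝒮 z]
  refine Ideal.sum_mem _ fun k _ => ?_
  by_cases hk : k = 0
  · subst hk
    have : ((DirectSum.decompose 𝒮 z 0 : 𝒮 0) : S) = 0 := h0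
    rw [this]
    exact Ideal.zero_mem _
  · exact hle (mem_span_range_of_mem 𝒮 hsym hι (Nat.pos_of_ne_zero hk) (SetLike.coe_mem _))

/-- Ring-hom form of the scaling lemma. -/
theorem scale_of_isSymmetricAlgebra' {B' : Type*} [CommRing B'] {ι : M →ₗ[A] S}
    (hsym : IsSymmetricAlgebra ι) (hι : ∀ m, ι m ∈ 𝒮 1) (ρ : A →+* B') (ψ ψ' : S →+* B')
    (hψ : ψ.comp (algebraMap A S) = ρ) (hψ' : ψ'.comp (algebraMap A S) = ρ) (c : B')
    (h : ∀ m, ψ' (ι m) = c * ψ (ι m)) {k : ℕ} {p : S} (hp : p ∈ 𝒮 k) : ψ' p = c ^ k * ψ p := by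
  letI : Algebra A B' := ρ.toAlgebra
  let Ψ : S →ₐ[A] B' := { ψ with commutes' := fun a => congrArg (fun φ : A →+* B' => φ a) hψ }
  let Ψ' : S →ₐ[A] B' := { ψ' with commutes' := fun a => congrArg (fun φ : A →+* B' => φ a) hψ' }
  exact scale_of_isSymmetricAlgebra 𝒮 hsym hι Ψ Ψ' c h hp

/-- Ring-hom form of the universal property of the symmetric algebra. -/
theorem exists_lift_of_isSymmetricAlgebra {B' : Type*} [CommRing B'] {ι : M →ₗ[A] S}
    (hsym : IsSymmetricAlgebra ι) (ρ : A →+* B') (g : M →+ B')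
    (hg : ∀ (a : A) (m : M), g (a • m) = ρ a * g m) :
    ∃ ψ : S →+* B', ψ.comp (algebraMap A S) = ρ ∧ ∀ m, ψ (ι m) = g m := by
  letI : Algebra A B' := ρ.toAlgebra
  let gl : M →ₗ[A] B' :=
    { toFun := g
      map_add' := map_add g
      map_smul' := fun a m => hg a m }
  refine ⟨(hsym.lift gl).toRingHom, ?_, fun m => ?_⟩
  · ext a
    exact (hsym.lift gl).commutes a
  · exact hsym.lift_eq gl m

end Groth.Agent.Lib.helper12.SymScale
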