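import Mathlib
import Groth.Agent.Lib.Helper12.ProjG2
import Groth.Agent.Lib.Helper12.SymScale
import Groth.Agent.Lib.Helper12.AmpleCoprod
import Groth.Prelude.Def_ProjUP

/-
helper12: universal property of `P(M) = Proj (Sym M)` over an affine base: existence (S3591).

* `ratio_of_add`, `ratio_of_smul`; `sg v m`, `rhoG`, `aFnI_add`, `aFnI_smul`, `exists_chartData`,
  `exists_to_proj_sym`.
-/

set_option autoImplicit false
set_option linter.unusedSectionVars false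
universe u

open CategoryTheory CategoryTheory.Limits AlgebraicGeometry Opposite TopologicalSpace

namespace Groth.Agent.Lib.helper12.ProjG

open Groth.Agent.Lib.helper11.IsoLocus Groth.Agent.Lib.helper11.InvHom
open Groth.Agent.Lib.helper11.GenLocus Groth.Agent.Lib.helper11.InvMod
open Groth.Agent.Lib.helper12.ProjUP1 Groth.Agent.Lib.helper12.ProjUP2
open Groth.Agent.Lib.helper12.ProjUP3 Groth.Agent.Lib.helper12.ProjUP4
open Groth.Agent.Lib.helper12.AmpleBasis Groth.Agent.Lib.helper12.TwistExtend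
open Groth.Agent.Lib.helper12.SymScale
open Scheme.Modules HomogeneousLocalization

section Ratio

variable {X : Scheme.{u}} {L : X.Modules}

theorem ratio_of_add (t t₁ t₂ t₃ : Coh.structureModule X ⟶ L) (V : X.Opens)
    (hV : V ≤ CohB1.genLocus L t) (h : sec t₃ V = sec t₁ V + sec t₂ V) :
    ratio t t₃ V hV = ratio t t₁ V hV + ratio t t₂ V hV :=
  (eq_ratio t t₃ V hV _ (by rw [add_smul, ratio_smul, ratio_smul, h])).symm

theorem ratio_of_smul (t t₁ t₂ : Coh.structureModule X ⟶ L) (V : X.Opens)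
    (hV : V ≤ CohB1.genLocus L t) (c : Γ(X, V)) (h : sec t₂ V = c • sec t₁ V) :
    ratio t t₂ V hV = c * ratio t t₁ V hV :=
  (eq_ratio t t₂ V hV _ (by rw [mul_smul, ratio_smul, h])).symm

end Ratio

section Sym

variable {A : Type u} [CommRing A] {X : Scheme.{u}} (q : X ⟶ Spec (CommRingCat.of A))
  {L : X.Modules} {M : Type u} [AddCommGroup M] [Module A M]
  (v : M →+ ProjUP.Γm L) (hv : ∀ (a : A) (m : M), v (a • m) = ProjUP.toGlobal q a • v m)

/-- The sections `v m`, as morphisms. -/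
noncomputable def sg (m : M) : Coh.structureModule X ⟶ L := homOfSec L (v m)

theorem sec_sg (m : M) (V : X.Opens) : sec (sg v m) V = res L (le_top : V ≤ ⊤) (v m) :=
  val_homOfSec L (v m) V

theorem sec_sg_add (m m' : M) (V : X.Opens) :
    sec (sg v (m + m')) V = sec (sg v m) V + sec (sg v m') V := by
  rw [sec_sg, sec_sg, sec_sg, map_add]
  exact map_add (L.val.map (homOfLE (le_top : V ≤ ⊤)).op).hom _ _

include hv in
theorem sec_sg_smul (a : A) (m : M) (V : X.Opens) :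
    sec (sg v (a • m)) V =
      (X.presheaf.map (homOfLE (le_top : V ≤ ⊤)).op (ProjUP.toGlobal q a) : Γ(X, V)) •
        sec (sg v m) V := by
  rw [sec_sg, sec_sg, hv]
  exact map_smul' L (le_top : V ≤ ⊤) (ProjUP.toGlobal q a) (v m)

/-- The structure map `A → Γ(X_{σ m₀}, O)`. -/
noncomputable def rhoG (m₀ : M) : A →+* Γ((gUI (sg v) m₀ : Scheme.{u}), ⊤) :=
  ((gUI (sg v) m₀).ι ≫ q).appTop.hom.comp (Scheme.ΓSpecIso (CommRingCat.of A)).inv.hom

theorem rhoG_apply (m₀ : M) (a : A) :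
    rhoG q v m₀ a = (X.presheaf.map (homOfLE (le_top : (gUI (sg v) m₀).ι ''ᵁ ⊤ ≤ ⊤)).op
      (ProjUP.toGlobal q a) : Γ(X, (gUI (sg v) m₀).ι ''ᵁ ⊤)) := rfl

theorem aFnI_add (m₀ m m' : M) :
    aFnI (sg v) m₀ (m + m') = aFnI (sg v) m₀ m + aFnI (sg v) m₀ m' :=
  ratio_of_add _ _ _ _ _ _ (sec_sg_add v m m' _)

include hv in
theorem aFnI_smul (m₀ : M) (a : A) (m : M) :
    aFnI (sg v) m₀ (a • m) = rhoG q v m₀ a * aFnI (sg v) m₀ m :=
  ratio_of_smul _ _ _ _ _ _ (sec_sg_smul q v hv a m _)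

theorem rhoG_res (i j : M) :
    (X.homOfLE (inf_le_right : gUI (sg v) i ⊓ gUI (sg v) j ≤ gUI (sg v) j)).appTop.hom.comp
        (rhoG q v j) =
      (X.homOfLE (inf_le_left : gUI (sg v) i ⊓ gUI (sg v) j ≤ gUI (sg v) i)).appTop.hom.comp
        (rhoG q v i) := by
  unfold rhoG
  rw [← RingHom.comp_assoc, ← RingHom.comp_assoc]
  congr 1
  rw [← CommRingCat.hom_comp, ← CommRingCat.hom_comp, ← Scheme.Hom.comp_appTop,
    ← Scheme.Hom.comp_appTop, Scheme.homOfLE_ι_assoc, Scheme.homOfLE_ι_assoc]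

variable {S : Type u} [CommRing S] [Algebra A S] (𝒮 : ℕ → Submodule A S) [GradedAlgebra 𝒮]
  (ι : M →ₗ[A] S) (hι : ∀ m : M, ι m ∈ 𝒮 1) (hsym : IsSymmetricAlgebra ι)

include hv hι hsym in
theorem exists_chartData :
    ∃ c : ChartData 𝒮 (fun m => ι m) (sg v),
      ∀ m₀, (c.ψ m₀).comp (algebraMap A S) = rhoG q v m₀ := by
  have H : ∀ m₀ : M, ∃ ψ : S →+* Γ((gUI (sg v) m₀ : Scheme.{u}), ⊤),
      ψ.comp (algebraMap A S) = rhoG q v m₀ ∧ ∀ m, ψ (ι m) = aFnI (sg v) m₀ m := fun m₀ =>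
    exists_lift_of_isSymmetricAlgebra hsym (rhoG q v m₀)
      (AddMonoidHom.mk' (aFnI (sg v) m₀) (aFnI_add v m₀)) (aFnI_smul q v hv m₀)
  choose ψ hψ1 hψ2 using H
  refine ⟨⟨ψ, hψ2, fun i j k a ha => ?_⟩, hψ1⟩
  have h := scale_of_isSymmetricAlgebra' 𝒮 hsym hι
    ((X.homOfLE (inf_le_right : gUI (sg v) i ⊓ gUI (sg v) j ≤ gUI (sg v) j)).appTop.hom.comp
        (rhoG q v j))
    ((X.homOfLE (inf_le_left : gUI (sg v) i ⊓ gUI (sg v) j ≤ gUI (sg v) i)).appTop.hom.comp (ψ i))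
    ((X.homOfLE (inf_le_right : gUI (sg v) i ⊓ gUI (sg v) j ≤ gUI (sg v) j)).appTop.hom.comp (ψ j))
    (by rw [RingHom.comp_assoc, hψ1, rhoG_res])
    (by rw [RingHom.comp_assoc, hψ1])
    ((X.homOfLE (inf_le_right : gUI (sg v) i ⊓ gUI (sg v) j ≤ gUI (sg v) j)).appTop.hom
      (aFnI (sg v) j i))
    (fun m => by
      rw [RingHom.comp_apply, RingHom.comp_apply, hψ2, hψ2]
      exact aFnI_res (sg v) i j m) ha
  rw [hψ2]
  exact h

include hv hι hsym in
theorem exists_to_proj_sym (hL : PicF.IsInvertible L) (hgen : ProjUP.GeneratedBy L v) :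
    ∃ (r : X ⟶ Proj 𝒮)
      (_ : r ≫ Proj.toSpecZero 𝒮 ≫ Spec.map (CommRingCat.ofHom (algebraMap A (𝒮 0))) = q)
      (τ : (Scheme.Modules.pullback r).obj (Twist.twist 𝒮 1) ≅ L),
      ∀ m : M, τ.hom.app ⊤ (ProjUP.pullSec r (Twist.twist 𝒮 1)
        (Twist.globalOf 𝒮 ⟨ι m, hι m⟩)) = v m := by
  have hsec : ∀ m, sec (sg v m) ⊤ = v m := fun m =>
    (sec_sg v m ⊤).trans (Groth.Agent.Lib.helper12.AmpleCoprod.res_self L le_top (v m))
  have hcov : ⨆ m, gUI (sg v) m = ⊤ := by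
    rw [eq_top_iff]
    intro x _
    obtain ⟨m, hm⟩ := exists_mem_genLocus_of_spanI hL (sg v) x (by
      simp_rw [hsec]
      exact hgen x)
    exact TopologicalSpace.Opens.mem_iSup.mpr ⟨m, hm⟩
  obtain ⟨c, hc⟩ := exists_chartData q v hv 𝒮 ι hι hsym
  have hcovP := exists_notMem_of_isSymmetricAlgebra 𝒮 hsym hι
  obtain ⟨r, hr⟩ := exists_toProjG hι c hcov
  obtain ⟨τ, hτ⟩ := exists_iso_nuG hι hcovP c r hr hcov
  refine ⟨r, ?_, τ, fun m => ?_⟩
  · refine (X.openCoverOfIsOpenCover (gUI (sg v)) (TopologicalSpace.IsOpenCover.mk hcov)).hom_ext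
      _ _ fun (m₀ : M) => ?_
    change (gUI (sg v) m₀).ι ≫ r ≫ _ = (gUI (sg v) m₀).ι ≫ q
    rw [← Category.assoc, hr m₀, ← Category.assoc, chart_toSpecZero, Category.assoc,
      ← Spec.map_comp]
    have h1 : CommRingCat.ofHom (algebraMap A (𝒮 0)) ≫
        CommRingCat.ofHom ((c.ψ m₀).comp (algebraMap (𝒮 0) S)) =
        (Scheme.ΓSpecIso (CommRingCat.of A)).inv ≫ ((gUI (sg v) m₀).ι ≫ q).appTop := by
      ext a
      exact congrArg (fun φ : A →+* Γ((gUI (sg v) m₀ : Scheme.{u}), ⊤) => φ a) (hc m₀)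
    rw [h1]
    exact toSpecΓ_SpecMap_appTop _
  · have h0 : sec (tPG 𝒮 (fun m => ι m) hι m) ⊤ = Twist.globalOf 𝒮 ⟨ι m, hι m⟩ := by
      rw [sec_tPG]
      rfl
    have h1 : sec (nuG hι r m) ⊤ =
        ProjUP.pullSec r (Twist.twist 𝒮 1) (Twist.globalOf 𝒮 ⟨ι m, hι m⟩) := by
      have h2 := sec_pullHom r (tPG 𝒮 (fun m => ι m) hι m) ⊤
      rw [h0] at h2
      exact h2
    have h3 : sec (nuG hι r m ≫ τ.hom) ⊤ = v m := by
      rw [hτ m]
      exact hsec m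
    rw [sec_comp, h1] at h3
    exact h3

end Sym

end Groth.Agent.Lib.helper12.ProjG
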