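import Mathlib
import Groth.Prelude.Def_Coh
import Groth.Prelude.Def_ega3
import Groth.Prelude.Def_Twist2
import Groth.Agent.Lib.Helper20.ProjH0
import Groth.Agent.Lib.Helper12.ProjBC1

/-!
# The global function on `Proj 𝒜` attached to an element of the base ring (helper12)

For a graded `R`-algebra `𝒜 : ℕ → Submodule R A`, `Proj 𝒜` is a scheme over `Spec R` (frozen instance
`CohIII.projOverSpec`).  The global function `Coh.toGlobal (Proj 𝒜 ↘ Spec R) r` has value `r / 1` at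
every point.
-/

set_option autoImplicit false
universe u

open CategoryTheory CategoryTheory.Limits AlgebraicGeometry Opposite TopologicalSpace
  HomogeneousLocalization

namespace Groth.Agent.Lib.helper12.ProjGlobalFn

open Groth.Agent.Lib.helper12.ProjBC

variable {R A : Type u} [CommRing R] [CommRing A] [Algebra R A] (𝒜 : ℕ → Submodule R A)
  [GradedAlgebra 𝒜]

/-- The global function attached to `r : R`. -/
noncomputable def gl (r : R) : Twist.O (𝒜 := 𝒜) (op ⊤) :=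
  Coh.toGlobal (X := Proj 𝒜) (Proj 𝒜 ↘ Spec (CommRingCat.of R)) r

theorem awayι_over (f : A) {m : ℕ} (f_deg : f ∈ 𝒜 m) (hm : 0 < m) :
    Proj.awayι 𝒜 f f_deg hm ≫ (Proj 𝒜 ↘ Spec (CommRingCat.of R)) =
      Spec.map (CommRingCat.ofHom (strHom 𝒜 f)) := by
  change Proj.awayι 𝒜 f f_deg hm ≫ (Proj.toSpecZero 𝒜 ≫
    Spec.map (CommRingCat.ofHom (algebraMap R (𝒜 0)))) = _
  rw [← Category.assoc, Proj.awayι_toSpecZero, ← Spec.map_comp]
  rfl

theorem gl_restrict (r : R) (f : A) {m : ℕ} (f_deg : f ∈ 𝒜 m) (hm : 0 < m) :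
    (Proj 𝒜).presheaf.map (homOfLE (le_top : Proj.basicOpen 𝒜 f ≤ ⊤)).op (gl 𝒜 r) =
      Proj.awayToSection 𝒜 f (strHom 𝒜 f r) := by
  have h1 : (Scheme.ΓSpecIso _).hom ((Proj.awayι 𝒜 f f_deg hm).appTop (gl 𝒜 r)) =
      (Proj.basicOpenIsoAway 𝒜 f f_deg hm).inv
        ((Proj 𝒜).presheaf.map (homOfLE (le_top : Proj.basicOpen 𝒜 f ≤ ⊤)).op (gl 𝒜 r)) :=
    ConcreteCategory.congr_hom
      (Groth.Agent.Lib.Helper20.ProjH0.awayι_appTop 𝒜 f f_deg hm) (gl 𝒜 r)
  have h2 : (Scheme.ΓSpecIso _).hom ((Proj.awayι 𝒜 f f_deg hm).appTop (gl 𝒜 r)) =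
      strHom 𝒜 f r := by
    have e1 : (Proj.awayι 𝒜 f f_deg hm).appTop (gl 𝒜 r) =
        (Proj.awayι 𝒜 f f_deg hm ≫ (Proj 𝒜 ↘ Spec (CommRingCat.of R))).appTop
          ((Scheme.ΓSpecIso (CommRingCat.of R)).inv r) := by
      rw [Scheme.Hom.comp_appTop]
      rfl
    rw [e1, awayι_over]
    have e2 := ConcreteCategory.congr_hom
      (Scheme.ΓSpecIso_naturality (CommRingCat.ofHom (strHom 𝒜 f)))
      ((Scheme.ΓSpecIso (CommRingCat.of R)).inv r)
    refine e2.trans ?_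
    have e3 : (Scheme.ΓSpecIso (CommRingCat.of R)).hom
        ((Scheme.ΓSpecIso (CommRingCat.of R)).inv r) = r :=
      ConcreteCategory.congr_hom (Scheme.ΓSpecIso (CommRingCat.of R)).inv_hom_id r
    change (strHom 𝒜 f) ((Scheme.ΓSpecIso (CommRingCat.of R)).hom
      ((Scheme.ΓSpecIso (CommRingCat.of R)).inv r)) = _
    rw [e3]
  rw [h2] at h1
  have h5 := congrArg (Proj.basicOpenIsoAway 𝒜 f f_deg hm).hom h1
  rw [← ConcreteCategory.comp_apply (Proj.basicOpenIsoAway 𝒜 f f_deg hm).inv, Iso.inv_hom_id,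
    Proj.basicOpenIsoAway_hom] at h5
  exact h5.symm

/-- The value of the global function of `r` at a point is `r / 1`. -/
theorem gl_val (r : R) (x : (⊤ : Opens (ProjectiveSpectrum.top 𝒜))) :
    ((gl 𝒜 r).1 x).val = Localization.mk (algebraMap R A r) 1 := by
  obtain ⟨f, m, hm, f_deg, hfx⟩ : ∃ (f : A) (m : ℕ), 0 < m ∧ f ∈ 𝒜 m ∧
      f ∉ x.1.asHomogeneousIdeal := by
    classical
    by_contra hcon
    simp only [not_exists, not_and, not_not] at hcon
    have hle : (HomogeneousIdeal.irrelevant 𝒜).toIdeal ≤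
        (x.1 : ProjectiveSpectrum 𝒜).asHomogeneousIdeal.toIdeal := by
      rw [HomogeneousIdeal.toIdeal_irrelevant_le]
      intro m hm f hf
      exact hcon f m hm hf
    exact (x.1 : ProjectiveSpectrum 𝒜).not_irrelevant_le hle
  have hk : x.1 ∈ ProjectiveSpectrum.basicOpen 𝒜 f :=
    (ProjectiveSpectrum.mem_basicOpen 𝒜 f x.1).mpr hfx
  have h1 : (gl 𝒜 r).1 x =
      (((Proj 𝒜).presheaf.map (homOfLE (le_top : Proj.basicOpen 𝒜 f ≤ ⊤)).op (gl 𝒜 r) :
        Twist.O (𝒜 := 𝒜) (op (Proj.basicOpen 𝒜 f))).1 ⟨x.1, hk⟩) := rfl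
  rw [h1, gl_restrict 𝒜 r f f_deg hm]
  have h2 := ProjectiveSpectrum.Proj.awayToSection_apply 𝒜 f (strHom 𝒜 f r) ⟨x.1, hk⟩
  refine h2.trans ?_
  rw [val_strHom, Localization.mk_one_eq_algebraMap, IsLocalization.map_eq, RingHom.id_apply]
  exact (Localization.mk_one_eq_algebraMap _).symm

end Groth.Agent.Lib.helper12.ProjGlobalFn
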