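import Mathlib
import Groth.Agent.Lib.Helper12.ProjUP1
import Groth.Agent.Lib.Lead.ProjChart

/-!
# Sections of a chartwise-given morphism of homogeneous spectra (helper12)

* `appLE_of_chart`: if `g : Proj ℬ ⟶ Proj 𝒜` restricts on `D₊(f')` to `Spec θ` (`θ : A_(f) → B_(f')`), then on sections
  `g.appLE D₊(f) D₊(f')` is `θ` through the identifications `awayToSection`.
-/

set_option autoImplicit false
universe u

open CategoryTheory CategoryTheory.Limits AlgebraicGeometry Opposite TopologicalSpace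
open HomogeneousLocalization

namespace Groth.Agent.Lib.helper12.ProjQuot

open Groth.Agent.Lib.helper12.ProjUP1

variable {A B σ τ : Type u} [CommRing A] [SetLike σ A] [AddSubgroupClass σ A]
  [CommRing B] [SetLike τ B] [AddSubgroupClass τ B]
  {𝒜 : ℕ → σ} {ℬ : ℕ → τ} [GradedRing 𝒜] [GradedRing ℬ]

theorem appLE_of_chart (g : Proj ℬ ⟶ Proj 𝒜) {f : A} {d : ℕ} (hf : f ∈ 𝒜 d) (hd : 0 < d)
    {f' : B} {d' : ℕ} (hf' : f' ∈ ℬ d') (hd' : 0 < d')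
    (θ : CommRingCat.of (Away 𝒜 f) ⟶ CommRingCat.of (Away ℬ f'))
    (hg : Proj.awayι ℬ f' hf' hd' ≫ g = Spec.map θ ≫ Proj.awayι 𝒜 f hf hd)
    (e : Proj.basicOpen ℬ f' ≤ g ⁻¹ᵁ Proj.basicOpen 𝒜 f) :
    Proj.awayToSection 𝒜 f ≫ g.appLE (Proj.basicOpen 𝒜 f) (Proj.basicOpen ℬ f') e =
      θ ≫ Proj.awayToSection ℬ f' := by
  have h1 : (Proj.basicOpen ℬ f').ι ≫ g = ((Proj.basicOpenIsoSpec ℬ f' hf' hd').hom ≫ Spec.map θ ≫
      (Proj.basicOpenIsoSpec 𝒜 f hf hd).inv) ≫ (Proj.basicOpen 𝒜 f).ι := by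
    rw [Proj.awayι, Proj.awayι, Category.assoc, Iso.inv_comp_eq] at hg
    simp only [Category.assoc]
    exact hg
  have e'' : (⊤ : (↑(Proj.basicOpen ℬ f') : Scheme.{u}).Opens) ≤
      ((Proj.basicOpen ℬ f').ι ≫ g) ⁻¹ᵁ (Proj.basicOpen 𝒜 f) := fun x _ => e x.2
  have h2 : ((Proj.basicOpen ℬ f').ι ≫ g).appLE (Proj.basicOpen 𝒜 f) ⊤ e'' =
      g.appLE (Proj.basicOpen 𝒜 f) (Proj.basicOpen ℬ f') e ≫ (Proj.basicOpen ℬ f').topIso.inv := by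
    rw [Scheme.Hom.comp_appLE, Scheme.Opens.ι_appLE, Scheme.Hom.appLE, Category.assoc,
      Scheme.Opens.topIso_inv]
    congr 1
  have key : ∀ (g₀ : (↑(Proj.basicOpen ℬ f') : Scheme.{u}) ⟶ Proj 𝒜)
      (h' : (↑(Proj.basicOpen ℬ f') : Scheme.{u}) ⟶ (↑(Proj.basicOpen 𝒜 f) : Scheme.{u}))
      (hg₀ : g₀ = h' ≫ (Proj.basicOpen 𝒜 f).ι)
      (e₀ : (⊤ : (↑(Proj.basicOpen ℬ f') : Scheme.{u}).Opens) ≤ g₀ ⁻¹ᵁ (Proj.basicOpen 𝒜 f)),
      g₀.appLE (Proj.basicOpen 𝒜 f) ⊤ e₀ = (Proj.basicOpen 𝒜 f).topIso.inv ≫ h'.appTop := by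
    rintro _ h' rfl e₀
    exact appLE_comp_ι (Proj.basicOpen 𝒜 f) h' e₀
  have h3 := key _ _ h1 e''
  rw [h2, Scheme.Hom.comp_appTop, Scheme.Hom.comp_appTop, basicOpenIsoSpec_inv_appTop] at h3
  have hSpec : (Spec.map θ).appTop =
      (Scheme.ΓSpecIso _).hom ≫ θ ≫ (Scheme.ΓSpecIso _).inv := by
    rw [← Category.assoc, Iso.eq_comp_inv]
    exact Scheme.ΓSpecIso_naturality θ
  have h4 : (Proj.basicOpenIsoSpec ℬ f' hf' hd').hom.appTop =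
      (Scheme.ΓSpecIso _).hom ≫ Proj.awayToSection ℬ f' ≫ (Proj.basicOpen ℬ f').topIso.inv := by
    rw [Proj.basicOpenIsoSpec_hom]
    exact Proj.basicOpenToSpec_app_top ℬ f'
  rw [hSpec, h4] at h3
  simp only [Category.assoc, Iso.inv_hom_id_assoc] at h3
  have h5 : g.appLE (Proj.basicOpen 𝒜 f) (Proj.basicOpen ℬ f') e =
      (Proj.basicOpenIsoAway 𝒜 f hf hd).inv ≫ θ ≫ Proj.awayToSection ℬ f' := by
    rw [← cancel_mono (Proj.basicOpen ℬ f').topIso.inv, h3]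
    simp only [Category.assoc]
  rw [h5, ← Proj.basicOpenIsoAway_hom 𝒜 f hf hd, Iso.hom_inv_id_assoc]

end Groth.Agent.Lib.helper12.ProjQuot
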