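import Mathlib

/-!
# Finite group acting on a graded algebra: algebra for `Proj B^G` (helper12; towards S13181)

* `val_comp_awayMap`: `Away.map g f` is induced by `Localization.awayMap g f`.
* `actHom`, `mapGen`: the graded action of `σ` and the induced map `A_(f) → A_(f')`, `f' = σ f`.
* `decompose_smul`: the action commutes with homogeneous components.
* `exists_invariant_notMem`: a relevant homogeneous prime misses a homogeneous invariant of positive degree.
* `exists_of_forall_mapGen_eq`: the invariants of `A_(c)` (`c` invariant) are fractions with invariant numerator.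
-/

set_option autoImplicit false
set_option linter.unusedSectionVars false
set_option linter.style.haveILetI false
universe u

open HomogeneousLocalization

namespace Groth.Agent.Lib.helper12.ProjQuot

section General

variable {A B σ τ : Type u} [CommRing A] [SetLike σ A] [AddSubgroupClass σ A]
  [CommRing B] [SetLike τ B] [AddSubgroupClass τ B]
  {𝒜 : ℕ → σ} {ℬ : ℕ → τ} [GradedRing 𝒜] [GradedRing ℬ]

theorem val_comp_awayMap (g : 𝒜 →+*ᵍ ℬ) (f : A) {d : ℕ} (hf : f ∈ 𝒜 d) :
    (algebraMap (Away ℬ (g f)) (Localization.Away (g f))).comp (Away.map g f) =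
      (Localization.awayMap g.toRingHom f).comp
        (algebraMap (Away 𝒜 f) (Localization.Away f)) := by
  ext x
  obtain ⟨n, a, ha, rfl⟩ := Away.mk_surjective 𝒜 hf x
  simp only [RingHom.coe_comp, Function.comp_apply, Away.map_mk,
    HomogeneousLocalization.algebraMap_apply, Away.val_mk]
  rw [Localization.awayMap, IsLocalization.Away.map, Localization.mk_eq_mk',
    Localization.mk_eq_mk', IsLocalization.map_mk']
  congr 1
  exact Subtype.ext (map_pow g f n).symm

end General

section Action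

variable {R A : Type u} [CommRing R] [CommRing A] [Algebra R A] (𝒜 : ℕ → Submodule R A)
  [GradedAlgebra 𝒜] {G : Type u} [Group G] [MulSemiringAction G A]
  (hGdeg : ∀ (σ : G) (i : ℕ) (a : A), a ∈ 𝒜 i → σ • a ∈ 𝒜 i)

/-- The graded ring endomorphism `a ↦ σ • a`. -/
def actHom (σ : G) : 𝒜 →+*ᵍ 𝒜 where
  toRingHom := MulSemiringAction.toRingHom G A σ
  map_mem := fun h => hGdeg σ _ _ h

@[simp] theorem actHom_apply (σ : G) (a : A) : actHom 𝒜 hGdeg σ a = σ • a := rfl

include hGdeg in
theorem decompose_smul (σ : G) (a : A) (k : ℕ) :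
    ((DirectSum.decompose 𝒜 (σ • a) k : 𝒜 k) : A) =
      σ • ((DirectSum.decompose 𝒜 a k : 𝒜 k) : A) :=
  (GradedRingHom.map_directSumDecompose 𝒜 𝒜 (actHom 𝒜 hGdeg σ) (x := a) (i := k)).symm

/-- The map `A_(f) → A_(f')` induced by `σ`, `f' = σ • f`. -/
def mapGen (σ : G) (f f' : A) (h : σ • f = f') : Away 𝒜 f →+* Away 𝒜 f' :=
  HomogeneousLocalization.map (actHom 𝒜 hGdeg σ) (by
    rintro _ ⟨k, rfl⟩
    exact ⟨k, by simp only [actHom_apply, smul_pow', h]⟩)

theorem mapGen_mk (σ : G) (f f' : A) (h : σ • f = f') {d : ℕ} (hf : f ∈ 𝒜 d) (hf' : f' ∈ 𝒜 d)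
    (n : ℕ) (a : A) (ha : a ∈ 𝒜 (n • d)) :
    mapGen 𝒜 hGdeg σ f f' h (Away.mk 𝒜 hf n a ha) =
      Away.mk 𝒜 hf' n (σ • a) (hGdeg σ _ _ ha) := by
  subst h
  apply HomogeneousLocalization.val_injective
  simp only [mapGen, Away.mk, HomogeneousLocalization.map_mk, HomogeneousLocalization.val_mk]
  congr 1
  exact Subtype.ext (smul_pow' σ f n)

theorem mapGen_rfl (σ : G) (f : A) :
    mapGen 𝒜 hGdeg σ f (σ • f) rfl = Away.map (actHom 𝒜 hGdeg σ) f := rfl

end Action

section Invariants

variable {R A : Type u} [CommRing R] [CommRing A] [Algebra R A] (𝒜 : ℕ → Submodule R A)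
  [GradedAlgebra 𝒜] {G : Type u} [Group G] [MulSemiringAction G A]
  (hGdeg : ∀ (σ : G) (i : ℕ) (a : A), a ∈ 𝒜 i → σ • a ∈ 𝒜 i)

include hGdeg in
/-- A relevant homogeneous prime cannot contain all homogeneous invariants of positive degree. -/
theorem exists_invariant_notMem [Finite G] (y : ProjectiveSpectrum 𝒜) :
    ∃ (d : ℕ) (_ : 0 < d) (t : A) (_ : t ∈ 𝒜 d), (∀ σ : G, σ • t = t) ∧
      t ∉ y.asHomogeneousIdeal := by
  classical
  by_contra Hcon
  have H : ∀ (d : ℕ), 0 < d → ∀ t ∈ 𝒜 d, (∀ σ : G, σ • t = t) → t ∈ y.asHomogeneousIdeal := by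
    intro d hd t ht hinv
    by_contra hty
    exact Hcon ⟨d, hd, t, ht, hinv, hty⟩
  haveI : Fintype G := Fintype.ofFinite G
  have h1 := y.not_irrelevant_le
  rw [HomogeneousIdeal.irrelevant_le] at h1
  push Not at h1
  obtain ⟨i, hi, h2⟩ := h1
  obtain ⟨b, hb, hby⟩ := SetLike.not_le_iff_exists.mp h2
  have hb' : b ∈ 𝒜 i := hb
  set P := MulSemiringAction.charpoly G b with hP
  set N := P.natDegree with hN
  have hmonic : P.Monic := MulSemiringAction.monic_charpoly G b
  have heval : P.eval b = 0 := MulSemiringAction.eval_charpoly G b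
  have hinv : ∀ j (σ : G), σ • P.coeff j = P.coeff j := fun j σ =>
    MulSemiringAction.smul_coeff_charpoly b j σ
  have hsum : b ^ N + ∑ j ∈ Finset.range N, P.coeff j * b ^ j = 0 := by
    rw [Polynomial.eval_eq_sum_range, Finset.sum_range_succ, hmonic.coeff_natDegree,
      one_mul] at heval
    rw [add_comm]; exact heval
  have hbpow : ∀ j, b ^ j ∈ 𝒜 (j * i) := fun j => by
    have := SetLike.pow_mem_graded j hb'
    rwa [smul_eq_mul] at this
  have hproj := congrArg (GradedRing.proj 𝒜 (N * i)) hsum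
  rw [map_add, map_sum, map_zero, GradedRing.proj_apply,
    DirectSum.decompose_of_mem_same 𝒜 (hbpow N)] at hproj
  have hterm : ∀ j ∈ Finset.range N, GradedRing.proj 𝒜 (N * i) (P.coeff j * b ^ j) ∈
      y.asHomogeneousIdeal := by
    intro j hj
    have hjN : j < N := Finset.mem_range.mp hj
    have hle : j * i ≤ N * i := Nat.mul_le_mul_right i hjN.le
    rw [GradedRing.proj_apply, DirectSum.coe_decompose_mul_of_right_mem_of_le 𝒜 (hbpow j) hle]
    refine Ideal.mul_mem_right _ _ (H (N * i - j * i) ?_ _ (SetLike.coe_mem _) ?_)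
    · have : j * i < N * i := Nat.mul_lt_mul_of_pos_right hjN hi
      omega
    · intro σ
      rw [← decompose_smul 𝒜 hGdeg, hinv]
  have hbN : b ^ N ∈ y.asHomogeneousIdeal := by
    have h3 : b ^ N = -∑ j ∈ Finset.range N, GradedRing.proj 𝒜 (N * i) (P.coeff j * b ^ j) :=
      eq_neg_of_add_eq_zero_left hproj
    rw [h3]
    change _ ∈ y.asHomogeneousIdeal.toIdeal
    exact (Ideal.neg_mem_iff _).mpr (Ideal.sum_mem _ hterm)
  exact hby (y.isPrime.mem_of_pow_mem N hbN)

/-- An element of `A_(c)` (`c` an invariant of positive degree) fixed by the group is a fraction with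
invariant numerator. -/
theorem exists_num_invariant [Finite G] {c : A} {n : ℕ} (hc : c ∈ 𝒜 n)
    (hcinv : ∀ σ : G, σ • c = c) (x : Away 𝒜 c)
    (hx : ∀ σ : G, mapGen 𝒜 hGdeg σ c c (hcinv σ) x = x) :
    ∃ (m : ℕ) (a : A) (ha : a ∈ 𝒜 (m • n)), (∀ σ : G, σ • a = a) ∧ x = Away.mk 𝒜 hc m a ha := by
  classical
  haveI : Fintype G := Fintype.ofFinite G
  obtain ⟨k, a, ha, rfl⟩ := Away.mk_surjective 𝒜 hc x
  have h1 : ∀ σ : G, ∃ m : ℕ, c ^ m * (σ • a) = c ^ m * a := by
    intro σ
    have h2 := hx σ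
    rw [mapGen_mk 𝒜 hGdeg σ c c (hcinv σ) hc hc] at h2
    have h3 := congrArg HomogeneousLocalization.val h2
    rw [Away.val_mk, Away.val_mk, Localization.mk_eq_mk_iff, Localization.r_iff_exists] at h3
    obtain ⟨⟨_, m, rfl⟩, hm⟩ := h3
    refine ⟨m + k, ?_⟩
    simp only at hm
    rw [pow_add, mul_assoc, mul_assoc]
    exact hm
  choose m hm using h1
  set M := ∑ σ : G, m σ with hM
  have hM' : ∀ σ : G, c ^ M * (σ • a) = c ^ M * a := by
    intro σ
    have hle : m σ ≤ M := Finset.single_le_sum (f := m) (fun _ _ => Nat.zero_le _)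
      (Finset.mem_univ σ)
    obtain ⟨e, he⟩ := Nat.exists_eq_add_of_le hle
    rw [he, pow_add, mul_comm (c ^ m σ), mul_assoc, mul_assoc, hm σ]
  have hmem : c ^ M * a ∈ 𝒜 ((M + k) • n) := by
    rw [add_smul]
    exact SetLike.mul_mem_graded (SetLike.pow_mem_graded M hc) ha
  refine ⟨M + k, c ^ M * a, hmem, fun σ => ?_, ?_⟩
  · rw [smul_mul', smul_pow', hcinv σ, hM' σ]
  · apply HomogeneousLocalization.val_injective
    rw [Away.val_mk, Away.val_mk, Localization.mk_eq_mk_iff, Localization.r_iff_exists]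
    refine ⟨1, ?_⟩
    simp only [OneMemClass.coe_one, one_mul]
    ring

end Invariants

end Groth.Agent.Lib.helper12.ProjQuot
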