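import Mathlib
import Groth.Prelude.Def_SGA1
import Groth.Agent.Lib.Helper12.ProjQuot1
import Groth.Agent.Lib.Helper12.ProjQuot2
import Groth.Agent.Lib.Helper2.QuotLib

/-!
# `Proj B^G` is the quotient of `Proj B` by a finite group `G` of graded automorphisms (helper12; S13181)
-/

set_option autoImplicit false
set_option linter.unusedSectionVars false
set_option linter.style.haveILetI false
universe u

open CategoryTheory CategoryTheory.Limits AlgebraicGeometry Opposite TopologicalSpace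
open HomogeneousLocalization

namespace Groth.Agent.Lib.helper12.ProjQuot

open Groth.Agent.Lib.Lead Groth.Agent.Lib.helper2.QuotLib

theorem away_mk_congr' {A σ : Type u} [CommRing A] [SetLike σ A] [AddSubgroupClass σ A]
    {𝒜 : ℕ → σ} [GradedRing 𝒜] {h : A} {n : ℕ} (hh : h ∈ 𝒜 n) (k : ℕ) {x x' : A} (e : x = x')
    (hx : x ∈ 𝒜 (k • n)) (hx' : x' ∈ 𝒜 (k • n)) :
    Away.mk 𝒜 hh k x hx = Away.mk 𝒜 hh k x' hx' := by
  subst e; rfl

theorem injective_res_of_eq {X : Scheme.{u}} (W V : X.Opens) (h : W = V) (e : V ≤ W) :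
    Function.Injective (X.presheaf.map (homOfLE e).op).hom := by
  subst h
  have : (homOfLE e).op = 𝟙 (op W) := Subsingleton.elim _ _
  rw [this, X.presheaf.map_id]
  exact fun _ _ h => h

theorem isQuot_proj_of_invariants {R A : Type u} [CommRing R] [CommRing A] [Algebra R A]
    (𝒜 : ℕ → Submodule R A) [GradedAlgebra 𝒜]
    {G : Type u} [Group G] [Finite G] [MulSemiringAction G A]
    (hGdeg : ∀ (σ : G) (i : ℕ) (a : A), a ∈ 𝒜 i → σ • a ∈ 𝒜 i)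
    {C : Type u} [CommRing C] [Algebra R C] (𝒞 : ℕ → Submodule R C) [GradedAlgebra 𝒞]
    (ι : C →ₐ[R] A) (hι : Function.Injective ι)
    (hιdeg : ∀ (i : ℕ) (a : A), a ∈ (𝒞 i).map ι.toLinearMap ↔ (a ∈ 𝒜 i ∧ ∀ σ : G, σ • a = a))
    (ρ : G →* Aut (Proj 𝒜))
    (hρ : ∀ (σ : G) (n : ℕ) (f : A) (hn : 0 < n) (hf : f ∈ 𝒜 n)
      (θ : CommRingCat.of (HomogeneousLocalization.Away 𝒜 f) ⟶ CommRingCat.of (HomogeneousLocalization.Away 𝒜 (σ • f))),
      (algebraMap (HomogeneousLocalization.Away 𝒜 (σ • f)) (Localization.Away (σ • f))).comp θ.hom =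
        (Localization.awayMap (MulSemiringAction.toRingHom G A σ) f).comp
          (algebraMap (HomogeneousLocalization.Away 𝒜 f) (Localization.Away f)) →
      Proj.awayι 𝒜 (σ • f) (hGdeg σ n f hf) hn ≫ (ρ σ).inv = Spec.map θ ≫ Proj.awayι 𝒜 f hf hn)
    (π : Proj 𝒜 ⟶ Proj 𝒞)
    (hπ : ∀ (n : ℕ) (c : C) (hn : 0 < n) (hc : c ∈ 𝒞 n)
      (θ : CommRingCat.of (HomogeneousLocalization.Away 𝒞 c) ⟶ CommRingCat.of (HomogeneousLocalization.Away 𝒜 (ι c))),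
      (algebraMap (HomogeneousLocalization.Away 𝒜 (ι c)) (Localization.Away (ι c))).comp θ.hom =
        (Localization.awayMap ι.toRingHom c).comp
          (algebraMap (HomogeneousLocalization.Away 𝒞 c) (Localization.Away c)) →
      Proj.awayι 𝒜 (ι c) ((hιdeg n (ι c)).mp (Submodule.mem_map_of_mem hc)).1 hn ≫ π =
        Spec.map θ ≫ Proj.awayι 𝒞 c hc hn) :
    SGA1.IsQuot ρ π := by
  classical
  -- the graded homomorphism
  let ψ : 𝒞 →+*ᵍ 𝒜 :=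
    { toRingHom := ι.toRingHom
      map_mem := fun {i x} hx => ((hιdeg i (ι x)).mp (Submodule.mem_map_of_mem hx)).1 }
  have hψ : ∀ x, ψ x = ι x := fun _ => rfl
  have hψinv : ∀ (i : ℕ) (x : C), x ∈ 𝒞 i → ∀ σ : G, σ • ψ x = ψ x := fun i x hx =>
    ((hιdeg i (ι x)).mp (Submodule.mem_map_of_mem hx)).2
  have hchart : ProjChart.IsChartMap ψ π := fun d hd f hf =>
    hπ d f hd hf (CommRingCat.ofHom (Away.map ψ f)) (val_comp_awayMap ψ f hf)
  have hcov : ProjChart.Covers ψ := by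
    intro y
    obtain ⟨d, hd, t, ht, htinv, hty⟩ := exists_invariant_notMem 𝒜 hGdeg (G := G) y
    obtain ⟨c, hc, rfl⟩ := (hιdeg d t).mpr ⟨ht, htinv⟩
    exact ⟨d, hd, c, hc, hty⟩
  -- the action in charts
  have hρgen : ∀ (σ : G) (n : ℕ) (f : A) (hn : 0 < n) (hf : f ∈ 𝒜 n) (f' : A) (h : σ • f = f')
      (hf' : f' ∈ 𝒜 n), Proj.awayι 𝒜 f' hf' hn ≫ (ρ σ).inv =
        Spec.map (CommRingCat.ofHom (mapGen 𝒜 hGdeg σ f f' h)) ≫ Proj.awayι 𝒜 f hf hn := by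
    intro σ n f hn hf f' h hf'
    subst h
    exact hρ σ n f hn hf (CommRingCat.ofHom (Away.map (actHom 𝒜 hGdeg σ) f))
      (val_comp_awayMap (actHom 𝒜 hGdeg σ) f hf)
  have hcomp : ∀ (σ : G) (d : ℕ) (c : C) (hc : c ∈ 𝒞 d),
      (mapGen 𝒜 hGdeg σ (ψ c) (ψ c) (hψinv d c hc σ)).comp (Away.map ψ c) = Away.map ψ c := by
    intro σ d c hc
    ext z
    obtain ⟨k, a, ha, rfl⟩ := Away.mk_surjective 𝒞 hc z
    simp only [RingHom.coe_comp, Function.comp_apply, Away.map_mk]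
    rw [mapGen_mk 𝒜 hGdeg σ (ψ c) (ψ c) (hψinv d c hc σ) (ψ.map_mem hc) (ψ.map_mem hc)]
    exact congrArg HomogeneousLocalization.val
      (away_mk_congr' (𝒜 := 𝒜) (ψ.map_mem hc) k (hψinv _ a ha σ) _ _)
  have hinv' : ∀ σ : G, (ρ σ).inv ≫ π = π := by
    intro σ
    refine (ProjChart.cover hcov).openCover.hom_ext _ _ fun s => ?_
    change Proj.awayι 𝒜 (ψ s.2) (ψ.map_mem s.2.2) s.1.2 ≫ (ρ σ).inv ≫ π =
      Proj.awayι 𝒜 (ψ s.2) (ψ.map_mem s.2.2) s.1.2 ≫ π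
    rw [reassoc_of% (hρgen σ s.1 (ψ s.2) s.1.2 (ψ.map_mem s.2.2) (ψ s.2)
      (hψinv s.1 s.2 s.2.2 σ) (ψ.map_mem s.2.2)), hchart s.1 s.1.2 s.2 s.2.2, ← Spec.map_comp_assoc,
      ← CommRingCat.ofHom_comp, hcomp σ s.1 s.2 s.2.2]
  have inv : ∀ g : G, (ρ g).hom ≫ π = π := by
    intro g
    calc (ρ g).hom ≫ π = (ρ g).hom ≫ (ρ g).inv ≫ π := by rw [hinv' g]
      _ = π := by rw [Iso.hom_inv_id_assoc]
  have hpre : ∀ (d : ℕ) (hd : 0 < d) (c : C) (hc : c ∈ 𝒞 d),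
      π ⁻¹ᵁ Proj.basicOpen 𝒞 c = Proj.basicOpen 𝒜 (ψ c) := fun d hd c hc =>
    ProjChart.preimage_basicOpen hchart hcov hd c hc
  refine isQuot_of_affine_cover π inv
    (fun s : Σ i : PNat, 𝒞 i => Proj.basicOpen 𝒞 (s.2 : C)) ?_ ?_ ?_ ?_
  · intro y
    have h1 := y.not_irrelevant_le
    rw [HomogeneousIdeal.irrelevant_le] at h1
    push Not at h1
    obtain ⟨i, hi, h2⟩ := h1
    obtain ⟨b, hb, hby⟩ := SetLike.not_le_iff_exists.mp h2
    exact ⟨⟨⟨i, hi⟩, ⟨b, hb⟩⟩, (ProjectiveSpectrum.mem_basicOpen 𝒞 b y).mpr hby⟩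
  · intro s
    exact Proj.isAffineOpen_basicOpen 𝒞 _ s.2.2 s.1.2
  · intro s
    rw [hpre s.1 s.1.2 s.2 s.2.2]
    exact Proj.isAffineOpen_basicOpen 𝒜 _ (ψ.map_mem s.2.2) s.1.2
  · rintro ⟨⟨d, hd⟩, ⟨c, hc⟩⟩
    change SecCond π inv (Proj.basicOpen 𝒞 c)
    have hVU : π ⁻¹ᵁ Proj.basicOpen 𝒞 c = Proj.basicOpen 𝒜 (ψ c) := hpre d hd c hc
    have e : Proj.basicOpen 𝒜 (ψ c) ≤ π ⁻¹ᵁ Proj.basicOpen 𝒞 c := hVU.ge
    have L1 := appLE_of_chart π hc hd (ψ.map_mem hc) hd (CommRingCat.ofHom (Away.map ψ c))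
      (hchart d hd c hc) e
    have L1' : ∀ z, (π.appLE (Proj.basicOpen 𝒞 c) (Proj.basicOpen 𝒜 (ψ c)) e).hom
        ((Proj.awayToSection 𝒞 c).hom z) = (Proj.awayToSection 𝒜 (ψ c)).hom (Away.map ψ c z) :=
      fun z => congrArg (fun φ => φ.hom z) L1
    have happ : ∀ t, (π.appLE (Proj.basicOpen 𝒞 c) (Proj.basicOpen 𝒜 (ψ c)) e).hom t =
        ((Proj 𝒜).presheaf.map (homOfLE e).op).hom ((π.app (Proj.basicOpen 𝒞 c)).hom t) :=
      fun t => rfl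
    have hbij𝒞 : Function.Bijective (Proj.awayToSection 𝒞 c).hom := by
      rw [← Proj.basicOpenIsoAway_hom 𝒞 c hc hd]
      exact ConcreteCategory.bijective_of_isIso (Proj.basicOpenIsoAway 𝒞 c hc hd).hom
    have hbij𝒜 : Function.Bijective (Proj.awayToSection 𝒜 (ψ c)).hom := by
      rw [← Proj.basicOpenIsoAway_hom 𝒜 (ψ c) (ψ.map_mem hc) hd]
      exact ConcreteCategory.bijective_of_isIso (Proj.basicOpenIsoAway 𝒜 (ψ c) (ψ.map_mem hc) hd).hom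
    have hmapinj : Function.Injective (Away.map ψ c) :=
      ProjChart.away_map_injective_of_tnInj ψ
        ⟨0, fun k _ a _ ha => hι (ha.trans (map_zero ι).symm)⟩ hd c hc
    constructor
    · intro t₁ t₂ h
      obtain ⟨z₁, rfl⟩ := hbij𝒞.2 t₁
      obtain ⟨z₂, rfl⟩ := hbij𝒞.2 t₂
      have h1 : (π.appLE (Proj.basicOpen 𝒞 c) (Proj.basicOpen 𝒜 (ψ c)) e).hom
          ((Proj.awayToSection 𝒞 c).hom z₁) =
          (π.appLE (Proj.basicOpen 𝒞 c) (Proj.basicOpen 𝒜 (ψ c)) e).hom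
          ((Proj.awayToSection 𝒞 c).hom z₂) := by
        rw [happ, happ, h]
      rw [L1', L1'] at h1
      rw [hmapinj (hbij𝒜.1 h1)]
    · intro s hs
      have hVst : IsStable ρ (Proj.basicOpen 𝒜 (ψ c)) := hVU ▸ isStable_preimage π inv _
      set s' := ((Proj 𝒜).presheaf.map (homOfLE e).op).hom s with hs'
      have hs'inv : ∀ g : G, sig hVst g s' = s' := by
        intro g
        rw [hs', ← sig_res (isStable_preimage π inv _) hVst e g s, hs g]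
      obtain ⟨x, hx⟩ := hbij𝒜.2 s'
      have hxinv : ∀ σ : G, mapGen 𝒜 hGdeg σ (ψ c) (ψ c) (hψinv d c hc σ) x = x := by
        intro σ
        have eσ : Proj.basicOpen 𝒜 (ψ c) ≤ (ρ σ).inv ⁻¹ᵁ Proj.basicOpen 𝒜 (ψ c) := by
          have h1 : (ρ σ⁻¹).hom = (ρ σ).inv := by rw [map_inv]; rfl
          rw [← h1]
          exact hVst σ⁻¹
        have L2 := appLE_of_chart (ρ σ).inv (ψ.map_mem hc) hd (ψ.map_mem hc) hd
          (CommRingCat.ofHom (mapGen 𝒜 hGdeg σ (ψ c) (ψ c) (hψinv d c hc σ)))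
          (hρgen σ d (ψ c) hd (ψ.map_mem hc) (ψ c) (hψinv d c hc σ) (ψ.map_mem hc)) eσ
        have L2' := congrArg (fun φ => φ.hom x) L2
        have h2 : ((ρ σ).inv.appLE (Proj.basicOpen 𝒜 (ψ c)) (Proj.basicOpen 𝒜 (ψ c)) eσ).hom s' =
            s' := by
          have h1 : (ρ σ⁻¹).hom = (ρ σ).inv := by rw [map_inv]; rfl
          have h3 := appLE_eq_of_eq (ρ σ⁻¹).hom (ρ σ).inv h1 (Proj.basicOpen 𝒜 (ψ c))
            (hVst σ⁻¹) eσ
          have h4 := hs'inv σ⁻¹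
          unfold sig at h4
          rw [h3] at h4
          exact h4
        apply hbij𝒜.1
        have h5 : (Proj.awayToSection 𝒜 (ψ c)).hom
            (mapGen 𝒜 hGdeg σ (ψ c) (ψ c) (hψinv d c hc σ) x) =
            ((ρ σ).inv.appLE (Proj.basicOpen 𝒜 (ψ c)) (Proj.basicOpen 𝒜 (ψ c)) eσ).hom
              ((Proj.awayToSection 𝒜 (ψ c)).hom x) := L2'.symm
        rw [h5, hx, h2]
      obtain ⟨m, a, ha, hainv, hxa⟩ := exists_num_invariant 𝒜 hGdeg (ψ.map_mem hc)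
        (hψinv d c hc) x hxinv
      obtain ⟨c', hc', rfl⟩ := (hιdeg (m • d) a).mpr ⟨ha, hainv⟩
      refine ⟨(Proj.awayToSection 𝒞 c).hom (Away.mk 𝒞 hc m c' hc'), ?_⟩
      apply injective_res_of_eq _ _ hVU e
      have h6 := L1' (Away.mk 𝒞 hc m c' hc')
      rw [happ] at h6
      rw [h6, Away.map_mk, ← hs', ← hx, hxa]
      rfl

end Groth.Agent.Lib.helper12.ProjQuot
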