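import Mathlib
import Groth.Agent.Lib.Helper12.ProjClosed4

/-!
# The Čech-style graded module of a module on `Proj` (helper12)

Let `𝒜₊` be generated by a finite set `s` of degree-one elements, `U i = D₊(fᵢ)` (`i : s`) and `F`
an `O`-module on `Proj 𝒜`.  `Mn n` is the group of families `(mᵢ) ∈ ∏ Γ(F, U i)` with
`mᵢ = (fⱼ/fᵢ)ⁿ mⱼ` on `U i ⊓ U j` (the sections of `F(n)`); homogeneous elements `a ∈ 𝒜 d` act by
`(a ⋆ m)ᵢ = (a / fᵢᵈ) mᵢ`.  A `Fam` is a family of subgroups `N n ≤ Mn n` stable under the action.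

This file: restriction helpers, fractions, `Mn`, `act`, `Fam`.
-/

set_option autoImplicit false
universe u

open CategoryTheory AlgebraicGeometry Opposite TopologicalSpace HomogeneousLocalization

namespace Groth.Agent.Lib.helper12.ProjTilde

open Groth.Agent.Lib.helper12.ProjClosed

section Res

variable {X : Scheme.{u}}

/-- Restriction of sections of a module. -/
noncomputable def res (G : X.Modules) {V V' : X.Opens} (h : V ≤ V') (x : Γ(G, V')) : Γ(G, V) :=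
  G.presheaf.map (homOfLE h).op x

theorem res_res (G : X.Modules) {V₁ V₂ V₃ : X.Opens} (h₁ : V₂ ≤ V₁) (h₂ : V₃ ≤ V₂)
    (x : Γ(G, V₁)) : res G h₂ (res G h₁ x) = res G (h₂.trans h₁) x := by
  unfold res
  rw [← ConcreteCategory.comp_apply, ← Functor.map_comp]
  rfl

theorem res_self (G : X.Modules) {V : X.Opens} (h : V ≤ V) (x : Γ(G, V)) : res G h x = x := by
  unfold res
  have : (homOfLE h).op = 𝟙 (op V) := rfl
  rw [this, G.presheaf.map_id]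
  rfl

theorem res_add (G : X.Modules) {V V' : X.Opens} (h : V ≤ V') (x y : Γ(G, V')) :
    res G h (x + y) = res G h x + res G h y :=
  map_add (G.presheaf.map (homOfLE h).op).hom x y

theorem res_zero (G : X.Modules) {V V' : X.Opens} (h : V ≤ V') :
    res G h (0 : Γ(G, V')) = 0 :=
  map_zero (G.presheaf.map (homOfLE h).op).hom

theorem res_neg (G : X.Modules) {V V' : X.Opens} (h : V ≤ V') (x : Γ(G, V')) :
    res G h (-x) = -res G h x :=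
  map_neg (G.presheaf.map (homOfLE h).op).hom x

theorem res_sub (G : X.Modules) {V V' : X.Opens} (h : V ≤ V') (x y : Γ(G, V')) :
    res G h (x - y) = res G h x - res G h y :=
  map_sub (G.presheaf.map (homOfLE h).op).hom x y

/-- Restriction of functions. -/
noncomputable def rs {V V' : X.Opens} (h : V ≤ V') (r : Γ(X, V')) : Γ(X, V) :=
  X.presheaf.map (homOfLE h).op r

theorem res_smul (G : X.Modules) {V V' : X.Opens} (h : V ≤ V') (r : Γ(X, V')) (x : Γ(G, V')) :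
    res G h (r • x) = rs h r • res G h x :=
  Scheme.Modules.map_smul G (homOfLE h) r x

/-- Two sections agreeing on an open cover are equal. -/
theorem eq_of_cover (G : X.Modules) {ι : Type*} (W : ι → X.Opens) (V : X.Opens)
    (hle : ∀ i, W i ≤ V) (hcov : V ≤ ⨆ i, W i) (x y : Γ(G, V))
    (hxy : ∀ i, res G (hle i) x = res G (hle i) y) : x = y :=
  TopCat.Sheaf.eq_of_locally_eq' ⟨G.presheaf, G.isSheaf⟩ W V (fun i => homOfLE (hle i)) hcov x y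
    hxy

/-- Two sections agreeing locally are equal. -/
theorem eq_of_locally (G : X.Modules) (V : X.Opens) (x y : Γ(G, V))
    (h : ∀ p : V, ∃ (V' : X.Opens) (hV' : V' ≤ V), p.1 ∈ V' ∧ res G hV' x = res G hV' y) :
    x = y := by
  choose V' hV' hp hxy using h
  refine eq_of_cover G V' V hV' ?_ x y hxy
  intro p hpV
  exact Opens.mem_iSup.mpr ⟨⟨p, hpV⟩, hp ⟨p, hpV⟩⟩

theorem res_injective_of_le (G : X.Modules) {V V' : X.Opens} (h : V ≤ V') (h' : V' ≤ V) :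
    Function.Injective (res G h) := by
  intro x y hxy
  have := congrArg (res G h') hxy
  rwa [res_res, res_res, res_self, res_self] at this

end Res

section Frac

variable {R A : Type u} [CommRing R] [CommRing A] [Algebra R A] (𝒜 : ℕ → Submodule R A)
  [GradedAlgebra 𝒜]

theorem rs_fr {W V : (Proj 𝒜).Opens} (h : V ≤ W) {n : ℕ} {a b : A} (ha : a ∈ 𝒜 n) (hb : b ∈ 𝒜 n)
    (hW : ∀ x : W, b ∉ x.1.asHomogeneousIdeal) :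
    rs h (fr 𝒜 W ha hb hW) = fr 𝒜 V ha hb (fun x => hW ⟨x.1, h x.2⟩) := rfl

theorem fr_eq_one (W : (Proj 𝒜).Opens) {n : ℕ} {a b : A} (ha : a ∈ 𝒜 n) (hb : b ∈ 𝒜 n)
    (hW : ∀ x : W, b ∉ x.1.asHomogeneousIdeal) (e : a = b) : fr 𝒜 W ha hb hW = 1 := by
  subst e
  refine sec_ext 𝒜 _ _ fun x => ?_
  rw [fr_val, Localization.mk_self ⟨a, hW x⟩]
  exact (HomogeneousLocalization.val_one (𝒜 := 𝒜) (x := _)).symm

/-- `a₁/b₁ * a₂/b₂ = a₃/b₃` from a polynomial identity. -/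
theorem fr_mul_eq (W : (Proj 𝒜).Opens) {n₁ n₂ n₃ : ℕ} {a₁ b₁ a₂ b₂ a₃ b₃ : A}
    (ha₁ : a₁ ∈ 𝒜 n₁) (hb₁ : b₁ ∈ 𝒜 n₁) (hW₁ : ∀ x : W, b₁ ∉ x.1.asHomogeneousIdeal)
    (ha₂ : a₂ ∈ 𝒜 n₂) (hb₂ : b₂ ∈ 𝒜 n₂) (hW₂ : ∀ x : W, b₂ ∉ x.1.asHomogeneousIdeal)
    (ha₃ : a₃ ∈ 𝒜 n₃) (hb₃ : b₃ ∈ 𝒜 n₃) (hW₃ : ∀ x : W, b₃ ∉ x.1.asHomogeneousIdeal)
    (e : a₁ * a₂ * b₃ = a₃ * (b₁ * b₂)) :
    fr 𝒜 W ha₁ hb₁ hW₁ * fr 𝒜 W ha₂ hb₂ hW₂ = fr 𝒜 W ha₃ hb₃ hW₃ := by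
  rw [fr_mul]
  exact fr_eq_of_mul_eq 𝒜 _ _ _ _ _ _ _ e

/-- `a₁/b₁ * a₂/b₂ = a₃/b₃ * a₄/b₄` from a polynomial identity. -/
theorem fr_mul_eq_mul (W : (Proj 𝒜).Opens) {n₁ n₂ n₃ n₄ : ℕ} {a₁ b₁ a₂ b₂ a₃ b₃ a₄ b₄ : A}
    (ha₁ : a₁ ∈ 𝒜 n₁) (hb₁ : b₁ ∈ 𝒜 n₁) (hW₁ : ∀ x : W, b₁ ∉ x.1.asHomogeneousIdeal)
    (ha₂ : a₂ ∈ 𝒜 n₂) (hb₂ : b₂ ∈ 𝒜 n₂) (hW₂ : ∀ x : W, b₂ ∉ x.1.asHomogeneousIdeal)
    (ha₃ : a₃ ∈ 𝒜 n₃) (hb₃ : b₃ ∈ 𝒜 n₃) (hW₃ : ∀ x : W, b₃ ∉ x.1.asHomogeneousIdeal)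
    (ha₄ : a₄ ∈ 𝒜 n₄) (hb₄ : b₄ ∈ 𝒜 n₄) (hW₄ : ∀ x : W, b₄ ∉ x.1.asHomogeneousIdeal)
    (e : a₁ * a₂ * (b₃ * b₄) = a₃ * a₄ * (b₁ * b₂)) :
    fr 𝒜 W ha₁ hb₁ hW₁ * fr 𝒜 W ha₂ hb₂ hW₂ = fr 𝒜 W ha₃ hb₃ hW₃ * fr 𝒜 W ha₄ hb₄ hW₄ := by
  rw [fr_mul, fr_mul]
  exact fr_eq_of_mul_eq 𝒜 _ _ _ _ _ _ _ e

end Frac

noncomputable section Cech

variable {R A : Type u} [CommRing R] [CommRing A] [Algebra R A] (𝒜 : ℕ → Submodule R A)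
  [GradedAlgebra 𝒜]

variable {s : Finset A} (hs1 : ∀ f ∈ s, f ∈ 𝒜 1) (F : (Proj 𝒜).Modules)

/-- The chart `D₊(fᵢ)`. -/
abbrev U (i : s) : (Proj 𝒜).Opens := Proj.basicOpen 𝒜 (i : A)

theorem nm (i : s) {W : (Proj 𝒜).Opens} (hW : W ≤ U 𝒜 i) (x : W) :
    (i : A) ∉ x.1.asHomogeneousIdeal :=
  notMem_of_mem_basicOpen 𝒜 ⟨x.1, hW x.2⟩

/-- `a / fᵢᵈ` on an open `W ≤ U i`. -/
abbrev fd (i : s) {W : (Proj 𝒜).Opens} (hW : W ≤ U 𝒜 i) {d : ℕ} {a : A} (ha : a ∈ 𝒜 d) :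
    Γ(Proj 𝒜, W) :=
  fr 𝒜 W ha (pow_mem1 𝒜 (hs1 _ i.2) d) (notMem_pow 𝒜 (nm 𝒜 i hW) d)

/-- The transition function `(fⱼ/fᵢ)ⁿ` on `U i ⊓ U j`. -/
abbrev tr (n : ℕ) (i j : s) : Γ(Proj 𝒜, U 𝒜 i ⊓ U 𝒜 j) :=
  fd 𝒜 hs1 i inf_le_left (pow_mem1 𝒜 (hs1 _ j.2) n)

variable (s) in
/-- Families of sections over the charts. -/
abbrev E : Type u := ∀ i : s, Γ(F, U 𝒜 i)

/-- The families `(mᵢ)` with `mᵢ = (fⱼ/fᵢ)ⁿ mⱼ` on `U i ⊓ U j`. -/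
def Mn (n : ℕ) : AddSubgroup (E 𝒜 s F) where
  carrier := {m | ∀ i j : s, res F inf_le_left (m i) = tr 𝒜 hs1 n i j • res F inf_le_right (m j)}
  zero_mem' := by
    intro i j
    simp only [Pi.zero_apply, res_zero, smul_zero]
  add_mem' := by
    intro m m' hm hm' i j
    simp only [Pi.add_apply, res_add, smul_add]
    rw [hm i j, hm' i j]
  neg_mem' := by
    intro m hm i j
    simp only [Pi.neg_apply, res_neg, smul_neg]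
    rw [hm i j]

theorem mem_Mn {n : ℕ} {m : E 𝒜 s F} : m ∈ Mn 𝒜 hs1 F n ↔
    ∀ i j : s, res F inf_le_left (m i) = tr 𝒜 hs1 n i j • res F inf_le_right (m j) := Iff.rfl

/-- The action of a homogeneous element: `(a ⋆ m)ᵢ = (a / fᵢᵈ) mᵢ`. -/
def act {d : ℕ} {a : A} (ha : a ∈ 𝒜 d) (m : E 𝒜 s F) : E 𝒜 s F :=
  fun i => fd 𝒜 hs1 i le_rfl ha • m i

theorem act_apply {d : ℕ} {a : A} (ha : a ∈ 𝒜 d) (m : E 𝒜 s F) (i : s) :
    act 𝒜 hs1 F ha m i = fd 𝒜 hs1 i le_rfl ha • m i := rfl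

theorem act_add {d : ℕ} {a : A} (ha : a ∈ 𝒜 d) (m m' : E 𝒜 s F) :
    act 𝒜 hs1 F ha (m + m') = act 𝒜 hs1 F ha m + act 𝒜 hs1 F ha m' := by
  funext i
  simp only [act_apply, Pi.add_apply, smul_add]

theorem act_zero {d : ℕ} {a : A} (ha : a ∈ 𝒜 d) :
    act 𝒜 hs1 F ha (0 : E 𝒜 s F) = 0 := by
  funext i
  simp only [act_apply, Pi.zero_apply, smul_zero]

theorem act_neg {d : ℕ} {a : A} (ha : a ∈ 𝒜 d) (m : E 𝒜 s F) :
    act 𝒜 hs1 F ha (-m) = -act 𝒜 hs1 F ha m := by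
  funext i
  simp only [act_apply, Pi.neg_apply, smul_neg]

theorem act_congr {d d' : ℕ} {a a' : A} (ha : a ∈ 𝒜 d) (ha' : a' ∈ 𝒜 d') (e : a = a')
    (hd : d = d') (m : E 𝒜 s F) : act 𝒜 hs1 F ha m = act 𝒜 hs1 F ha' m := by
  subst e; subst hd; rfl

theorem act_add_left {d : ℕ} {a a' : A} (ha : a ∈ 𝒜 d) (ha' : a' ∈ 𝒜 d) (m : E 𝒜 s F) :
    act 𝒜 hs1 F (add_mem ha ha') m = act 𝒜 hs1 F ha m + act 𝒜 hs1 F ha' m := by
  funext i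
  simp only [act_apply, Pi.add_apply]
  unfold fd
  rw [fr_add, add_smul]

theorem act_zero_left (d : ℕ) (m : E 𝒜 s F) :
    act 𝒜 hs1 F (zero_mem (𝒜 d)) m = 0 := by
  funext i
  simp only [act_apply, Pi.zero_apply]
  unfold fd
  rw [fr_eq_zero, zero_smul]

theorem act_one (m : E 𝒜 s F) :
    act 𝒜 hs1 F (SetLike.GradedOne.one_mem : (1 : A) ∈ 𝒜 0) m = m := by
  funext i
  rw [act_apply]
  unfold fd
  rw [fr_eq_one 𝒜 _ _ _ _ (pow_zero _).symm, one_smul]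

theorem act_mul {d d' : ℕ} {a a' : A} (ha : a ∈ 𝒜 d) (ha' : a' ∈ 𝒜 d') (m : E 𝒜 s F) :
    act 𝒜 hs1 F (SetLike.GradedMul.mul_mem ha ha') m = act 𝒜 hs1 F ha (act 𝒜 hs1 F ha' m) := by
  funext i
  rw [act_apply, act_apply, act_apply, ← mul_smul]
  congr 1
  symm
  exact fr_mul_eq 𝒜 _ _ _ _ _ _ _ _ _ _ (by rw [pow_add])

theorem act_mem_Mn {d : ℕ} {a : A} (ha : a ∈ 𝒜 d) {n : ℕ} {m : E 𝒜 s F}
    (hm : m ∈ Mn 𝒜 hs1 F n) : act 𝒜 hs1 F ha m ∈ Mn 𝒜 hs1 F (d + n) := by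
  intro i j
  rw [act_apply, act_apply, res_smul, res_smul, hm i j, ← mul_smul, ← mul_smul]
  congr 1
  rw [rs_fr, rs_fr]
  exact fr_mul_eq_mul 𝒜 _ _ _ _ _ _ _ _ _ _ _ _ _ (by ring)

/-- A family of subgroups of the `Mn n`, stable under the action of homogeneous elements. -/
structure Fam where
  /-- the degree `n` part -/
  N : ℕ → AddSubgroup (E 𝒜 s F)
  le : ∀ n, N n ≤ Mn 𝒜 hs1 F n
  act_mem : ∀ {d : ℕ} {a : A} (ha : a ∈ 𝒜 d) {n : ℕ} {m : E 𝒜 s F},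
    m ∈ N n → act 𝒜 hs1 F ha m ∈ N (d + n)

/-- The full family. -/
def Fam.full : Fam 𝒜 hs1 F where
  N := Mn 𝒜 hs1 F
  le _ := le_rfl
  act_mem ha _ _ hm := act_mem_Mn 𝒜 hs1 F ha hm

end Cech

end Groth.Agent.Lib.helper12.ProjTilde
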