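import Mathlib
import Groth.Agent.Lib.Helper12.ProjTilde1

/-!
# The graded module `⨁ N n` of a Čech family (helper12)

For a family `Φ : Fam 𝒜 hs1 F`: the `A`-module `GM Φ = ⨁ₙ Φ.N n` (via `DirectSum.Gmodule`), the
homogeneous elements `ofE Φ n v`, the grading `gr Φ`, with `DirectSum.Decomposition` and
`SetLike.GradedSMul` instances.
-/

set_option autoImplicit false
universe u

open CategoryTheory AlgebraicGeometry Opposite TopologicalSpace HomogeneousLocalization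

namespace Groth.Agent.Lib.helper12.ProjTilde

open Groth.Agent.Lib.helper12.ProjClosed

noncomputable section

variable {R A : Type u} [CommRing R] [CommRing A] [Algebra R A] {𝒜 : ℕ → Submodule R A}
  [GradedAlgebra 𝒜]

variable {s : Finset A} {hs1 : ∀ f ∈ s, f ∈ 𝒜 1} {F : (Proj 𝒜).Modules} (Φ : Fam 𝒜 hs1 F)

instance gsmul : GradedMonoid.GSMul (fun i => ↥(𝒜 i)) (fun n => ↥(Φ.N n)) where
  smul a m := ⟨act 𝒜 hs1 F a.2 m.1, Φ.act_mem a.2 m.2⟩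

instance gmodule : DirectSum.Gmodule (fun i => ↥(𝒜 i)) (fun n => ↥(Φ.N n)) where
  one_smul := fun ⟨n, m⟩ => Sigma.subtype_ext (zero_add n) (act_one 𝒜 hs1 F m.1)
  mul_smul := fun ⟨i, a⟩ ⟨j, a'⟩ ⟨k, m⟩ =>
    Sigma.subtype_ext (add_assoc i j k) (act_mul 𝒜 hs1 F a.2 a'.2 m.1)
  smul_add a b c := Subtype.ext (act_add 𝒜 hs1 F a.2 b.1 c.1)
  smul_zero a := Subtype.ext (act_zero 𝒜 hs1 F a.2)
  add_smul a a' b := Subtype.ext (act_add_left 𝒜 hs1 F a.2 a'.2 b.1)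
  zero_smul b := Subtype.ext (act_zero_left 𝒜 hs1 F _ b.1)

/-- The graded module `⨁ₙ Φ.N n`. -/
def GM : Type u := DirectSum ℕ (fun n => ↥(Φ.N n))

instance : AddCommGroup (GM Φ) := inferInstanceAs (AddCommGroup (DirectSum ℕ fun n => ↥(Φ.N n)))

instance modA : Module A (GM Φ) :=
  Module.compHom (DirectSum ℕ fun n => ↥(Φ.N n))
    (DirectSum.decomposeRingEquiv 𝒜 : A ≃+* DirectSum ℕ fun i => ↥(𝒜 i)).toRingHom

instance modR : Module R (GM Φ) := Module.compHom (GM Φ) (algebraMap R A)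

instance : IsScalarTower R A (GM Φ) := IsScalarTower.of_algebraMap_smul (fun _ _ => rfl)

/-- The inclusion of the degree `n` part. -/
def ofN (n : ℕ) : Φ.N n →+ GM Φ := DirectSum.of (fun n => ↥(Φ.N n)) n

theorem smul_ofN {d : ℕ} {a : A} (ha : a ∈ 𝒜 d) {n : ℕ} (y : Φ.N n) :
    a • ofN Φ n y = ofN Φ (d + n) ⟨act 𝒜 hs1 F ha y.1, Φ.act_mem ha y.2⟩ := by
  change (DirectSum.decompose 𝒜 a) • (DirectSum.of (fun n => ↥(Φ.N n)) n y) = _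
  rw [DirectSum.decompose_of_mem 𝒜 ha]
  exact DirectSum.Gmodule.of_smul_of (fun i => ↥(𝒜 i)) (fun n => ↥(Φ.N n)) (⟨a, ha⟩ : 𝒜 d) y

theorem ofN_injective (n : ℕ) : Function.Injective (ofN Φ n) :=
  DirectSum.of_injective (β := fun n => ↥(Φ.N n)) n

theorem ofN_cast {k n : ℕ} (h : k = n) (v : E 𝒜 s F) (hv : v ∈ Φ.N k) :
    ofN Φ k ⟨v, hv⟩ = ofN Φ n ⟨v, h ▸ hv⟩ := by
  subst h; rfl

open Classical in
/-- The homogeneous element of degree `n` given by `v` (zero unless `v ∈ Φ.N n`). -/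
def ofE (n : ℕ) (v : E 𝒜 s F) : GM Φ := if h : v ∈ Φ.N n then ofN Φ n ⟨v, h⟩ else 0

theorem ofE_of_mem {n : ℕ} {v : E 𝒜 s F} (h : v ∈ Φ.N n) : ofE Φ n v = ofN Φ n ⟨v, h⟩ :=
  dif_pos h

theorem ofN_eq_ofE {n : ℕ} (y : Φ.N n) : ofN Φ n y = ofE Φ n y.1 :=
  (ofE_of_mem Φ y.2).symm

theorem smul_ofE {d : ℕ} {a : A} (ha : a ∈ 𝒜 d) {n : ℕ} {v : E 𝒜 s F} (hv : v ∈ Φ.N n) :
    a • ofE Φ n v = ofE Φ (d + n) (act 𝒜 hs1 F ha v) := by
  rw [ofE_of_mem Φ hv, ofE_of_mem Φ (Φ.act_mem ha hv), smul_ofN Φ ha]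

theorem ofE_add {n : ℕ} {v w : E 𝒜 s F} (hv : v ∈ Φ.N n) (hw : w ∈ Φ.N n) :
    ofE Φ n (v + w) = ofE Φ n v + ofE Φ n w := by
  rw [ofE_of_mem Φ hv, ofE_of_mem Φ hw, ofE_of_mem Φ (add_mem hv hw), ← map_add]
  rfl

theorem ofE_sub {n : ℕ} {v w : E 𝒜 s F} (hv : v ∈ Φ.N n) (hw : w ∈ Φ.N n) :
    ofE Φ n (v - w) = ofE Φ n v - ofE Φ n w := by
  rw [ofE_of_mem Φ hv, ofE_of_mem Φ hw, ofE_of_mem Φ (sub_mem hv hw), ← map_sub]
  rfl

theorem ofE_zero (n : ℕ) : ofE Φ n 0 = 0 := by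
  rw [ofE_of_mem Φ (zero_mem _)]
  exact map_zero (ofN Φ n)

theorem ofE_eq_zero_iff {n : ℕ} {v : E 𝒜 s F} (hv : v ∈ Φ.N n) : ofE Φ n v = 0 ↔ v = 0 := by
  rw [ofE_of_mem Φ hv]
  constructor
  · intro h
    have := ofN_injective Φ n (h.trans (map_zero (ofN Φ n)).symm)
    exact congrArg Subtype.val this
  · rintro rfl
    exact map_zero (ofN Φ n)

theorem ofE_inj {n : ℕ} {v w : E 𝒜 s F} (hv : v ∈ Φ.N n) (hw : w ∈ Φ.N n)
    (h : ofE Φ n v = ofE Φ n w) : v = w := by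
  have h1 : ofE Φ n (v - w) = 0 := by rw [ofE_sub Φ hv hw, h, sub_self]
  exact sub_eq_zero.mp ((ofE_eq_zero_iff Φ (sub_mem hv hw)).mp h1)

theorem ofN_mem_range_of_eq {k n : ℕ} (h : k = n) (z : Φ.N k) :
    ofN Φ k z ∈ Set.range (ofN Φ n) := by
  subst h; exact ⟨z, rfl⟩

/-- The grading of `GM Φ`. -/
def gr (n : ℕ) : Submodule R (GM Φ) where
  carrier := Set.range (ofN Φ n)
  zero_mem' := ⟨0, map_zero _⟩
  add_mem' := by
    rintro _ _ ⟨a, rfl⟩ ⟨b, rfl⟩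
    exact ⟨a + b, map_add _ _ _⟩
  smul_mem' := by
    rintro r _ ⟨y, rfl⟩
    have h0 : algebraMap R A r ∈ 𝒜 0 := SetLike.algebraMap_mem_graded 𝒜 r
    change algebraMap R A r • ofN Φ n y ∈ _
    rw [smul_ofN Φ h0]
    exact ofN_mem_range_of_eq Φ (zero_add n) _

theorem mem_gr {n : ℕ} {x : GM Φ} : x ∈ gr Φ n ↔ ∃ y : Φ.N n, ofN Φ n y = x := Iff.rfl

theorem ofN_mem_gr {n : ℕ} (y : Φ.N n) : ofN Φ n y ∈ gr Φ n := ⟨y, rfl⟩

theorem ofE_mem_gr (n : ℕ) (v : E 𝒜 s F) : ofE Φ n v ∈ gr Φ n := by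
  unfold ofE
  split_ifs with h
  · exact ofN_mem_gr Φ _
  · exact zero_mem _

theorem exists_eq_ofE {n : ℕ} {x : GM Φ} (hx : x ∈ gr Φ n) :
    ∃ v : E 𝒜 s F, v ∈ Φ.N n ∧ x = ofE Φ n v := by
  obtain ⟨y, rfl⟩ := hx
  exact ⟨y.1, y.2, ofN_eq_ofE Φ y⟩

instance : SetLike.GradedSMul 𝒜 (gr Φ) where
  smul_mem := by
    rintro i j a _ ha ⟨y, rfl⟩
    rw [smul_ofN Φ ha]
    exact ofN_mem_gr Φ _

/-- The decomposition map. -/
def decomp : GM Φ →+ DirectSum ℕ (fun n => ↥(gr Φ n)) :=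
  DirectSum.toAddMonoid (β := fun n => ↥(Φ.N n)) fun n =>
    (DirectSum.of (fun n => ↥(gr Φ n)) n).comp
      ((ofN Φ n).codRestrict (gr Φ n) (fun y => ofN_mem_gr Φ y))

theorem decomp_ofN (n : ℕ) (y : Φ.N n) :
    decomp Φ (ofN Φ n y) = DirectSum.of (fun n => ↥(gr Φ n)) n ⟨ofN Φ n y, ofN_mem_gr Φ y⟩ :=
  DirectSum.toAddMonoid_of (β := fun n => ↥(Φ.N n)) _ n y

instance : DirectSum.Decomposition (gr Φ) :=
  DirectSum.Decomposition.ofAddHom (gr Φ) (decomp Φ)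
    (by
      refine DirectSum.addHom_ext (β := fun n => ↥(Φ.N n)) fun n y => ?_
      change DirectSum.coeAddMonoidHom (gr Φ) (decomp Φ (ofN Φ n y)) = ofN Φ n y
      rw [decomp_ofN, DirectSum.coeAddMonoidHom_of])
    (by
      refine DirectSum.addHom_ext fun n x => ?_
      obtain ⟨x, y, rfl⟩ := x
      change decomp Φ (DirectSum.coeAddMonoidHom (gr Φ) (DirectSum.of (fun n => ↥(gr Φ n)) n _)) = _
      rw [DirectSum.coeAddMonoidHom_of, decomp_ofN]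
      rfl)

end

end Groth.Agent.Lib.helper12.ProjTilde
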