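import Mathlib
import Groth.Agent.Lib.Helper12.ProjTilde2
import Groth.Agent.Lib.Helper28.TildeQCoh
import Groth.Agent.Lib.Helper28.HomOfBasis

/-!
# The comparison morphism `(⨁ N n)~ ⟶ F` (helper12)

For a family `Φ : Fam 𝒜 hs1 F`: representations of sections of `(GM Φ)~` as fractions, the
sections `tau` of `F`, independence of chart and representation.
-/

set_option autoImplicit false
universe u

open CategoryTheory AlgebraicGeometry Opposite TopologicalSpace HomogeneousLocalization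

namespace Groth.Agent.Lib.helper12.ProjTilde

open Groth.Agent.Lib.helper12.ProjClosed
open Groth.Agent.Lib.helper28.GrFrac Groth.Agent.Lib.helper28.GrTildeSec
  Groth.Agent.Lib.helper28.ProjSec Groth.Agent.Lib.helper28.TildeQCoh

noncomputable section

variable {R A : Type u} [CommRing R] [CommRing A] [Algebra R A] {𝒜 : ℕ → Submodule R A}
  [GradedAlgebra 𝒜]

variable {s : Finset A} {hs1 : ∀ f ∈ s, f ∈ 𝒜 1} {F : (Proj 𝒜).Modules} (Φ : Fam 𝒜 hs1 F)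

/-- `(fᵢᶜ / h) • vᵢ` on `W ≤ U i`. -/
def tau (i : s) {W : (Proj 𝒜).Opens} (hWi : W ≤ U 𝒜 i) {c : ℕ} {h : A} (hh : h ∈ 𝒜 c)
    (hW : ∀ x : W, h ∉ x.1.asHomogeneousIdeal) (v : E 𝒜 s F) : Γ(F, W) :=
  fr 𝒜 W (pow_mem1 𝒜 (hs1 _ i.2) c) hh hW • res F hWi (v i)

theorem res_tau (i : s) {W W' : (Proj 𝒜).Opens} (hWi : W ≤ U 𝒜 i) (hW' : W' ≤ W) {c : ℕ} {h : A}
    (hh : h ∈ 𝒜 c) (hW : ∀ x : W, h ∉ x.1.asHomogeneousIdeal) (v : E 𝒜 s F) :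
    res F hW' (tau (hs1 := hs1) i hWi hh hW v) =
      tau (hs1 := hs1) i (hW'.trans hWi) hh (fun x => hW ⟨x.1, hW' x.2⟩) v := by
  unfold tau
  rw [res_smul, res_res, rs_fr]

include Φ in
/-- Independence of the chart. -/
theorem tau_chart (i j : s) {W : (Proj 𝒜).Opens} (hWi : W ≤ U 𝒜 i) (hWj : W ≤ U 𝒜 j) {c : ℕ}
    {h : A} (hh : h ∈ 𝒜 c) (hW : ∀ x : W, h ∉ x.1.asHomogeneousIdeal) {v : E 𝒜 s F}
    (hv : v ∈ Φ.N c) :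
    tau (hs1 := hs1) i hWi hh hW v = tau (hs1 := hs1) j hWj hh hW v := by
  have hv' := Φ.le c hv i j
  have h1 : res F hWi (v i) = res F (le_inf hWi hWj) (res F inf_le_left (v i)) := by
    rw [res_res]
  unfold tau
  rw [h1, hv', res_smul, res_res, ← mul_smul]
  congr 1
  rw [rs_fr]
  exact fr_mul_eq 𝒜 _ _ _ _ _ _ _ _ _ _ (by ring)

/-- The sheaf `(GM Φ)~`. -/
abbrev T : (Proj 𝒜).Modules := GrTilde.tilde 𝒜 (gr Φ) 0

/-- The value of a section of `(GM Φ)~` at a point. -/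
def ev {W : (Proj 𝒜).Opens} (σ : Γ(T Φ, W)) (x : W) : GrTilde.LocMod 𝒜 (M := GM Φ) x.1 :=
  (((toSect 𝒜 (gr Φ) σ).1 x : GrTilde.tildeAt 𝒜 (gr Φ) 0 x.1) : GrTilde.LocMod 𝒜 (M := GM Φ) x.1)

theorem ev_ext {W : (Proj 𝒜).Opens} (σ σ' : Γ(T Φ, W)) (h : ∀ x : W, ev Φ σ x = ev Φ σ' x) :
    σ = σ' :=
  sect_ext 𝒜 (gr Φ) σ σ' h

theorem ev_add {W : (Proj 𝒜).Opens} (σ σ' : Γ(T Φ, W)) (x : W) :
    ev Φ (σ + σ') x = ev Φ σ x + ev Φ σ' x := rfl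

theorem ev_zero {W : (Proj 𝒜).Opens} (x : W) : ev Φ (0 : Γ(T Φ, W)) x = 0 := rfl

theorem ev_smul {W : (Proj 𝒜).Opens} (r : Γ(Proj 𝒜, W)) (σ : Γ(T Φ, W)) (x : W) :
    ev Φ (r • σ) x = ((toO 𝒜 r).1 x).val • ev Φ σ x :=
  GrTilde.coe_smul_val 0 x.1 ((toO 𝒜 r).1 x) ((toSect 𝒜 (gr Φ) σ).1 x)

theorem ev_res {W W' : (Proj 𝒜).Opens} (h : W' ≤ W) (σ : Γ(T Φ, W)) (x : W') :
    ev Φ (res (T Φ) h σ) x = ev Φ σ ⟨x.1, h x.2⟩ := rfl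

/-- `σ = ofE c v / h` on `W`. -/
structure IsRep {W : (Proj 𝒜).Opens} (σ : Γ(T Φ, W)) (c : ℕ) (h : A) (v : E 𝒜 s F) : Prop where
  hh : h ∈ 𝒜 c
  hv : v ∈ Φ.N c
  hW : ∀ x : W, h ∉ x.1.asHomogeneousIdeal
  heq : ∀ x : W, ev Φ σ x = LocalizedModule.mk (ofE Φ c v) ⟨h, hW x⟩

theorem exists_notMem_component {p : ProjectiveSpectrum 𝒜} {u : A}
    (hu : u ∉ p.asHomogeneousIdeal) :
    ∃ d : ℕ, (DirectSum.decompose 𝒜 u d : A) ∉ p.asHomogeneousIdeal := by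
  classical
  by_contra hcon
  push Not at hcon
  apply hu
  change u ∈ p.asHomogeneousIdeal.toIdeal
  rw [← DirectSum.sum_support_decompose 𝒜 u]
  exact Ideal.sum_mem _ (fun d _ => hcon d)

/-- If `u • ofE D w = 0` with `u ∉ p`, some homogeneous `g ∉ p` kills `w`. -/
theorem exists_homog_kill {p : ProjectiveSpectrum 𝒜} {u : A} (hu : u ∉ p.asHomogeneousIdeal)
    {D : ℕ} {w : E 𝒜 s F} (hw : w ∈ Φ.N D) (h0 : u • ofE Φ D w = 0) :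
    ∃ (d : ℕ) (g : A) (hg : g ∈ 𝒜 d), g ∉ p.asHomogeneousIdeal ∧ act 𝒜 hs1 F hg w = 0 := by
  have hhom := torsionOf_isHomogeneous 𝒜 (gr Φ) (ofE_mem_gr Φ D w)
  obtain ⟨d, hd⟩ := exists_notMem_component hu
  refine ⟨d, _, (DirectSum.decompose 𝒜 u d).2, hd, ?_⟩
  have hmem : (DirectSum.decompose 𝒜 u d : A) ∈ Ideal.torsionOf A (GM Φ) (ofE Φ D w) :=
    hhom d ((Ideal.mem_torsionOf_iff _ _).mpr h0)
  rw [Ideal.mem_torsionOf_iff, smul_ofE Φ (DirectSum.decompose 𝒜 u d).2 hw] at hmem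
  exact (ofE_eq_zero_iff Φ (Φ.act_mem _ hw)).mp hmem

/-- Independence of the representation. -/
theorem tau_rep (i : s) {W : (Proj 𝒜).Opens} (hWi : W ≤ U 𝒜 i) {c c' : ℕ} {h h' : A}
    (hh : h ∈ 𝒜 c) (hh' : h' ∈ 𝒜 c') (hW : ∀ x : W, h ∉ x.1.asHomogeneousIdeal)
    (hW' : ∀ x : W, h' ∉ x.1.asHomogeneousIdeal) {v v' : E 𝒜 s F} (hv : v ∈ Φ.N c)
    (hv' : v' ∈ Φ.N c')
    (heq : ∀ x : W, (LocalizedModule.mk (ofE Φ c v) ⟨h, hW x⟩ :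
      GrTilde.LocMod 𝒜 (M := GM Φ) x.1) = LocalizedModule.mk (ofE Φ c' v') ⟨h', hW' x⟩) :
    tau (hs1 := hs1) i hWi hh hW v = tau (hs1 := hs1) i hWi hh' hW' v' := by
  refine eq_of_locally F W _ _ fun p => ?_
  have hp := heq p
  rw [LocalizedModule.mk_eq] at hp
  obtain ⟨u, hu⟩ := hp
  have hmem2 : act 𝒜 hs1 F hh v' ∈ Φ.N (c' + c) := by
    rw [add_comm]; exact Φ.act_mem hh hv'
  have hu' : (u : A) • ofE Φ (c' + c) (act 𝒜 hs1 F hh' v - act 𝒜 hs1 F hh v') = 0 := by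
    rw [ofE_sub Φ (Φ.act_mem hh' hv) hmem2, ← smul_ofE Φ hh' hv]
    have : ofE Φ (c' + c) (act 𝒜 hs1 F hh v') = h • ofE Φ c' v' := by
      rw [smul_ofE Φ hh hv', add_comm]
    rw [this, smul_sub, sub_eq_zero]
    exact hu
  obtain ⟨d, g, hg, hgp, hact⟩ := exists_homog_kill Φ u.2 (sub_mem (Φ.act_mem hh' hv) hmem2) hu'
  have hi := congrFun hact i
  rw [act_apply] at hi
  simp only [Pi.sub_apply, Pi.zero_apply, act_apply] at hi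
  let V' : (Proj 𝒜).Opens := W ⊓ Proj.basicOpen 𝒜 g
  have hV' : V' ≤ W := inf_le_left
  have hgV' : ∀ x : V', g ∉ x.1.asHomogeneousIdeal := fun x =>
    notMem_of_mem_basicOpen 𝒜 ⟨x.1, x.2.2⟩
  refine ⟨V', hV', ⟨p.2, (ProjectiveSpectrum.mem_basicOpen 𝒜 _ _).mpr hgp⟩, ?_⟩
  rw [res_tau, res_tau]
  unfold tau
  have hi' := congrArg (res F (hV'.trans hWi)) hi
  rw [res_smul, res_sub, res_smul, res_smul, res_zero, rs_fr, rs_fr, rs_fr] at hi'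
  have hghh' : g * h * h' ∈ 𝒜 (d + c + c') :=
    SetLike.GradedMul.mul_mem (SetLike.GradedMul.mul_mem hg hh) hh'
  have hnm : ∀ x : V', g * h * h' ∉ x.1.asHomogeneousIdeal := fun x =>
    notMem_mul 𝒜 (notMem_mul 𝒜 hgV' (fun y => hW ⟨y.1, hV' y.2⟩)) (fun y => hW' ⟨y.1, hV' y.2⟩) x
  have key := congrArg (fun z => fr 𝒜 V' (pow_mem1 𝒜 (hs1 _ i.2) (d + c + c')) hghh' hnm • z) hi'
  simp only [smul_zero, smul_sub, ← mul_smul] at key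
  rw [sub_eq_zero] at key
  convert key using 2
  · rw [fr_mul, fr_mul]
    exact fr_eq_of_mul_eq 𝒜 _ _ _ _ _ _ _ (by ring)
  · rw [fr_mul, fr_mul]
    exact fr_eq_of_mul_eq 𝒜 _ _ _ _ _ _ _ (by ring)

theorem IsRep.add {W : (Proj 𝒜).Opens} {σ σ' : Γ(T Φ, W)} {c c' : ℕ} {h h' : A}
    {v v' : E 𝒜 s F} (hr : IsRep Φ σ c h v) (hr' : IsRep Φ σ' c' h' v') :
    IsRep Φ (σ + σ') (c + c') (h * h') (act 𝒜 hs1 F hr'.hh v + act 𝒜 hs1 F hr.hh v') := by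
  have hm1 : act 𝒜 hs1 F hr'.hh v ∈ Φ.N (c + c') := by
    rw [add_comm]; exact Φ.act_mem hr'.hh hr.hv
  have hm2 : act 𝒜 hs1 F hr.hh v' ∈ Φ.N (c + c') := Φ.act_mem hr.hh hr'.hv
  refine ⟨SetLike.GradedMul.mul_mem hr.hh hr'.hh, add_mem hm1 hm2, notMem_mul 𝒜 hr.hW hr'.hW,
    fun x => ?_⟩
  rw [ev_add, hr.heq x, hr'.heq x, LocalizedModule.mk_add_mk, ofE_add Φ hm1 hm2]
  congr 1
  congr 1
  · change h' • ofE Φ c v = _
    rw [smul_ofE Φ hr'.hh hr.hv, add_comm]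
  · change h • ofE Φ c' v' = _
    rw [smul_ofE Φ hr.hh hr'.hv]

theorem IsRep.smul {W : (Proj 𝒜).Opens} {σ : Γ(T Φ, W)} {c : ℕ} {h : A}
    {v : E 𝒜 s F} (hr : IsRep Φ σ c h v) {k : ℕ} {a g : A} (ha : a ∈ 𝒜 k) (hg : g ∈ 𝒜 k)
    (hgW : ∀ x : W, g ∉ x.1.asHomogeneousIdeal) :
    IsRep Φ (fr 𝒜 W ha hg hgW • σ) (k + c) (g * h) (act 𝒜 hs1 F ha v) := by
  refine ⟨SetLike.GradedMul.mul_mem hg hr.hh, Φ.act_mem ha hr.hv, notMem_mul 𝒜 hgW hr.hW,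
    fun x => ?_⟩
  rw [ev_smul, hr.heq x]
  change (Localization.mk a ⟨g, hgW x⟩ : Localization _) • _ = _
  rw [LocalizedModule.mk_smul_mk, smul_ofE Φ ha hr.hv]
  rfl

theorem IsRep.res {W W' : (Proj 𝒜).Opens} (hW' : W' ≤ W) {σ : Γ(T Φ, W)} {c : ℕ} {h : A}
    {v : E 𝒜 s F} (hr : IsRep Φ σ c h v) : IsRep Φ (res (T Φ) hW' σ) c h v :=
  ⟨hr.hh, hr.hv, fun x => hr.hW ⟨x.1, hW' x.2⟩, fun x => hr.heq ⟨x.1, hW' x.2⟩⟩

theorem IsRep.zero {W : (Proj 𝒜).Opens} :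
    IsRep Φ (0 : Γ(T Φ, W)) 0 1 (0 : E 𝒜 s F) := by
  refine ⟨SetLike.GradedOne.one_mem, zero_mem _, fun x h =>
    x.1.isPrime.ne_top ((Ideal.eq_top_iff_one _).mpr h), fun x => ?_⟩
  rw [ev_zero, ofE_zero, LocalizedModule.zero_mk]

variable (𝒜 s) in
/-- Index of the basis: homogeneous `H` of positive degree with `D₊(H) ≤ U i`. -/
structure BIdx where
  i : s
  c : ℕ
  H : A
  hc : 0 < c
  hH : H ∈ 𝒜 c
  hle : Proj.basicOpen 𝒜 H ≤ U 𝒜 i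

/-- The open of a basis index. -/
abbrev BIdx.op (b : BIdx 𝒜 s) : (Proj 𝒜).Opens := Proj.basicOpen 𝒜 b.H

theorem exists_rep (b : BIdx 𝒜 s) (σ : Γ(T Φ, b.op)) :
    ∃ (c : ℕ) (h : A) (v : E 𝒜 s F), IsRep Φ σ c h v := by
  obtain ⟨k, i', m, hi', hm⟩ := sect_eq_fraction 𝒜 (gr Φ) 0 b.hc b.hH (toSect 𝒜 (gr Φ) σ)
  have hi'' : i' = k * b.c := by
    have : (i' : ℤ) = ((k * b.c : ℕ) : ℤ) := by rw [hi']; push_cast; ring
    exact_mod_cast this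
  subst hi''
  obtain ⟨v, hv, hmv⟩ := exists_eq_ofE Φ m.2
  have hHk : b.H ^ k ∈ 𝒜 (k * b.c) := by
    simpa [smul_eq_mul] using SetLike.pow_mem_graded k b.hH
  refine ⟨k * b.c, b.H ^ k, v, hHk, hv, notMem_pow 𝒜 (notMem_of_mem_basicOpen 𝒜) k, fun x => ?_⟩
  rw [← hmv]
  exact hm x

theorem exists_phi (b : BIdx 𝒜 s) (σ : Γ(T Φ, b.op)) :
    ∃ t : Γ(F, b.op), ∀ (c : ℕ) (h : A) (v : E 𝒜 s F) (hr : IsRep Φ σ c h v) (j : s)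
      (hWj : b.op ≤ U 𝒜 j), t = tau (hs1 := hs1) j hWj hr.hh hr.hW v := by
  obtain ⟨c₀, h₀, v₀, hr₀⟩ := exists_rep Φ b σ
  refine ⟨tau (hs1 := hs1) b.i b.hle hr₀.hh hr₀.hW v₀, fun c h v hr j hWj => ?_⟩
  rw [tau_chart Φ b.i j b.hle hWj hr₀.hh hr₀.hW hr₀.hv]
  exact tau_rep Φ j hWj hr₀.hh hr.hh hr₀.hW hr.hW hr₀.hv hr.hv
    (fun x => (hr₀.heq x).symm.trans (hr.heq x))

/-- The comparison map on a basic open. -/
def phiFun (b : BIdx 𝒜 s) (σ : Γ(T Φ, b.op)) : Γ(F, b.op) := (exists_phi Φ b σ).choose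

theorem phiFun_eq (b : BIdx 𝒜 s) {σ : Γ(T Φ, b.op)} {c : ℕ} {h : A} {v : E 𝒜 s F}
    (hr : IsRep Φ σ c h v) (j : s) (hWj : b.op ≤ U 𝒜 j) :
    phiFun Φ b σ = tau (hs1 := hs1) j hWj hr.hh hr.hW v :=
  (exists_phi Φ b σ).choose_spec c h v hr j hWj

theorem phiFun_add (b : BIdx 𝒜 s) (σ σ' : Γ(T Φ, b.op)) :
    phiFun Φ b (σ + σ') = phiFun Φ b σ + phiFun Φ b σ' := by
  obtain ⟨c, h, v, hr⟩ := exists_rep Φ b σ
  obtain ⟨c', h', v', hr'⟩ := exists_rep Φ b σ'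
  rw [phiFun_eq Φ b hr b.i b.hle, phiFun_eq Φ b hr' b.i b.hle,
    phiFun_eq Φ b (hr.add Φ hr') b.i b.hle]
  unfold tau
  rw [Pi.add_apply, act_apply, act_apply, res_add, res_smul, res_smul, smul_add, ← mul_smul,
    ← mul_smul, rs_fr, rs_fr]
  congr 2
  · exact fr_mul_eq 𝒜 _ _ _ _ _ _ _ _ _ _ (by ring)
  · exact fr_mul_eq 𝒜 _ _ _ _ _ _ _ _ _ _ (by ring)

theorem phiFun_smul (b : BIdx 𝒜 s) (r : Γ(Proj 𝒜, b.op)) (σ : Γ(T Φ, b.op)) :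
    phiFun Φ b (r • σ) = r • phiFun Φ b σ := by
  obtain ⟨k, a, ha, hra⟩ := O_eq_fraction 𝒜 b.hc b.hH r
  have hHk : b.H ^ k ∈ 𝒜 (k * b.c) := by
    simpa [smul_eq_mul] using SetLike.pow_mem_graded k b.hH
  have hnm : ∀ x : b.op, b.H ^ k ∉ x.1.asHomogeneousIdeal :=
    notMem_pow 𝒜 (notMem_of_mem_basicOpen 𝒜) k
  have hr_eq : r = fr 𝒜 b.op ha hHk hnm :=
    sec_ext 𝒜 _ _ (fun x => (hra x).trans (fr_val 𝒜 b.op ha hHk hnm x).symm)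
  obtain ⟨c, h, v, hr⟩ := exists_rep Φ b σ
  rw [hr_eq, phiFun_eq Φ b (hr.smul Φ ha hHk hnm) b.i b.hle, phiFun_eq Φ b hr b.i b.hle]
  unfold tau
  rw [act_apply, res_smul, ← mul_smul, ← mul_smul, rs_fr]
  congr 1
  exact fr_mul_eq_mul 𝒜 _ _ _ _ _ _ _ _ _ _ _ _ _ (by ring)

theorem phiFun_res (b b' : BIdx 𝒜 s) (hle : b'.op ≤ b.op) (σ : Γ(T Φ, b.op)) :
    phiFun Φ b' (res (T Φ) hle σ) = res F hle (phiFun Φ b σ) := by
  obtain ⟨c, h, v, hr⟩ := exists_rep Φ b σ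
  rw [phiFun_eq Φ b' (hr.res Φ hle) b.i (hle.trans b.hle), phiFun_eq Φ b hr b.i b.hle, res_tau]

theorem exists_mem_U (hs : (HomogeneousIdeal.irrelevant 𝒜).toIdeal = Ideal.span (s : Set A))
    (x : ProjectiveSpectrum 𝒜) : ∃ i : s, x ∈ U 𝒜 i := by
  by_contra hcon
  push Not at hcon
  apply x.not_irrelevant_le
  intro z hz
  have hz' : z ∈ (HomogeneousIdeal.irrelevant 𝒜).toIdeal := hz
  rw [hs] at hz'
  refine (Ideal.span_le.mpr ?_ : Ideal.span (s : Set A) ≤ x.asHomogeneousIdeal.toIdeal) hz'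
  intro f hf
  by_contra hfx
  exact hcon ⟨f, hf⟩ ((ProjectiveSpectrum.mem_basicOpen 𝒜 f x).mpr hfx)

include hs1 in
theorem isBasis (hs : (HomogeneousIdeal.irrelevant 𝒜).toIdeal = Ideal.span (s : Set A)) :
    Opens.IsBasis (Set.range (BIdx.op : BIdx 𝒜 s → (Proj 𝒜).Opens)) := by
  rw [Opens.isBasis_iff_nbhd]
  intro V x hx
  obtain ⟨i, hi⟩ := exists_mem_U hs x
  obtain ⟨k, h, hh, hhx, hhV⟩ := exists_homogeneous_basicOpen 𝒜 V x hx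
  have hi' : (i : A) ∉ x.asHomogeneousIdeal := (ProjectiveSpectrum.mem_basicOpen 𝒜 _ x).mp hi
  let b : BIdx 𝒜 s :=
    { i := i
      c := k + 1
      H := h * i
      hc := Nat.succ_pos k
      hH := SetLike.GradedMul.mul_mem hh (hs1 _ i.2)
      hle := by
        intro z hz
        refine (ProjectiveSpectrum.mem_basicOpen 𝒜 _ z).mpr fun hzi => ?_
        exact (ProjectiveSpectrum.mem_basicOpen 𝒜 _ z).mp hz (Ideal.mul_mem_left _ _ hzi) }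
  refine ⟨b.op, ⟨b, rfl⟩, ?_, ?_⟩
  · refine (ProjectiveSpectrum.mem_basicOpen 𝒜 _ x).mpr fun hmem => ?_
    exact (x.isPrime.mem_or_mem hmem).elim hhx hi'
  · intro z hz
    refine hhV z fun hzh => ?_
    exact (ProjectiveSpectrum.mem_basicOpen 𝒜 _ z).mp hz (Ideal.mul_mem_right _ _ hzh)

include hs1 in
theorem exists_beta (hs : (HomogeneousIdeal.irrelevant 𝒜).toIdeal = Ideal.span (s : Set A)) :
    ∃ β : T Φ ⟶ F, ∀ (b : BIdx 𝒜 s) (σ : Γ(T Φ, b.op)), β.app b.op σ = phiFun Φ b σ :=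
  Groth.Agent.Lib.helper28.HomOfBasis.exists_hom_of_basis (BIdx.op : BIdx 𝒜 s → (Proj 𝒜).Opens)
    (isBasis (hs1 := hs1) hs)
    (fun b => AddMonoidHom.mk' (phiFun Φ b) (phiFun_add Φ b))
    (fun b' b hle σ => phiFun_res Φ b b' hle σ)
    (fun b r σ => phiFun_smul Φ b r σ)

end

end Groth.Agent.Lib.helper12.ProjTilde
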