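import Mathlib
import Groth.Agent.Lib.Helper12.ProjTilde3
import Groth.Agent.Lib.Helper7.KerSections
import Groth.Agent.Lib.Helper7.QCohAffine

/-!
# The comparison morphism `(⨁ N n)~ ⟶ F` is an isomorphism (helper12)

`F` quasi-coherent on `Proj 𝒜`, `𝒜₊` generated by the finite set `s ⊆ 𝒜 1`, `Φ` a family such that
every section of `F` over a chart `U i` is the `i`-th component of an element of some `Φ.N c`.
Then `(GM Φ)~ ≅ F`.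
-/

set_option autoImplicit false
universe u

open CategoryTheory AlgebraicGeometry Opposite TopologicalSpace HomogeneousLocalization

namespace Groth.Agent.Lib.helper12.ProjTilde

open Groth.Agent.Lib.helper12.ProjClosed
open Groth.Agent.Lib.helper28.GrFrac Groth.Agent.Lib.helper28.GrTildeSec
  Groth.Agent.Lib.helper28.ProjSec Groth.Agent.Lib.helper28.TildeQCoh

noncomputable section

variable {R A : Type u} [CommRing R] [CommRing A] [Algebra R A] {𝒜 : ℕ → Submodule R A}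
  [GradedAlgebra 𝒜]

variable {s : Finset A} {hs1 : ∀ f ∈ s, f ∈ 𝒜 1} {F : (Proj 𝒜).Modules} (Φ : Fam 𝒜 hs1 F)

include hs1 in
theorem isAffineOpen_U (i : s) : IsAffineOpen (U 𝒜 i) :=
  Proj.isAffineOpen_basicOpen 𝒜 (i : A) (hs1 _ i.2) one_pos

include hs1 in
theorem isAffineOpen_U_inf (i j : s) : IsAffineOpen (U 𝒜 i ⊓ U 𝒜 j) := by
  have h : U 𝒜 i ⊓ U 𝒜 j = Proj.basicOpen 𝒜 ((i : A) * (j : A)) := (Proj.basicOpen_mul 𝒜 _ _).symm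
  rw [h]
  exact Proj.isAffineOpen_basicOpen 𝒜 _ (SetLike.GradedMul.mul_mem (hs1 _ i.2) (hs1 _ j.2))
    (by norm_num)

variable (hs1) in
/-- The basis index of the chart `U i`. -/
abbrev chartIdx (i : s) : BIdx 𝒜 s := ⟨i, 1, i, one_pos, hs1 _ i.2, le_rfl⟩

/-- The function `fᵢ₀ / fⱼ` on an open `W ≤ U j`. -/
abbrev gq (i₀ j : s) {W : (Proj 𝒜).Opens} (hW : W ≤ U 𝒜 j) : Γ(Proj 𝒜, W) :=
  fd 𝒜 hs1 j hW (hs1 _ i₀.2)

theorem gq_pow (i₀ j : s) {W : (Proj 𝒜).Opens} (hW : W ≤ U 𝒜 j) (n : ℕ) :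
    gq (hs1 := hs1) i₀ j hW ^ n = fd 𝒜 hs1 j hW (pow_mem1 𝒜 (hs1 _ i₀.2) n) := by
  unfold gq fd
  rw [fr_pow]
  exact fr_eq_of_mul_eq 𝒜 _ _ _ _ _ _ _ (by rw [← pow_mul, one_mul])

theorem basicOpen_gq (i₀ j : s) {W : (Proj 𝒜).Opens} (hW : W ≤ U 𝒜 j) :
    (Proj 𝒜).basicOpen (gq (hs1 := hs1) i₀ j hW) = W ⊓ U 𝒜 i₀ :=
  basicOpen_fr 𝒜 W _ _ _

/-- A section of a quasi-coherent module over `U j` vanishing on `U j ⊓ U i₀` is killed by a power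
of `fᵢ₀ / fⱼ`. -/
theorem exists_pow_kill [F.IsQuasicoherent] (i₀ j : s) {W : (Proj 𝒜).Opens} (hW : W ≤ U 𝒜 j)
    (hWa : IsAffineOpen W) (y : Γ(F, W))
    (hy : res F (inf_le_left : W ⊓ U 𝒜 i₀ ≤ W) y = 0) :
    ∃ n : ℕ, fd 𝒜 hs1 j hW (pow_mem1 𝒜 (hs1 _ i₀.2) n) • y = 0 := by
  have hle : (Proj 𝒜).basicOpen (gq (hs1 := hs1) i₀ j hW) ≤ W ⊓ U 𝒜 i₀ :=
    (basicOpen_gq i₀ j hW).le
  obtain ⟨n, hn⟩ := Groth.Agent.Lib.helper7.exists_pow_smul_eq_zero_of_isAffineOpen hWa F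
    (gq (hs1 := hs1) i₀ j hW) y (by
      have := congrArg (res F hle) hy
      rw [res_res, res_zero] at this
      exact this)
  exact ⟨n, by rw [← gq_pow]; exact hn⟩

theorem rs_pow {X : Scheme.{u}} {V V' : X.Opens} (h : V ≤ V') (r : Γ(X, V')) (n : ℕ) :
    rs h (r ^ n) = rs h r ^ n :=
  map_pow (X.presheaf.map (homOfLE h).op).hom r n

/-- A section of a quasi-coherent module over `W ⊓ U i₀` (`W ≤ U j` affine), multiplied by a power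
of `fᵢ₀ / fⱼ`, extends to `W`. -/
theorem exists_pow_extend [F.IsQuasicoherent] (i₀ j : s) {W : (Proj 𝒜).Opens} (hW : W ≤ U 𝒜 j)
    (hWa : IsAffineOpen W) (t : Γ(F, W ⊓ U 𝒜 i₀)) :
    ∃ (n : ℕ) (z : Γ(F, W)), res F (inf_le_left : W ⊓ U 𝒜 i₀ ≤ W) z =
      fd 𝒜 hs1 j ((inf_le_left : W ⊓ U 𝒜 i₀ ≤ W).trans hW) (pow_mem1 𝒜 (hs1 _ i₀.2) n) • t := by
  have hle : (Proj 𝒜).basicOpen (gq (hs1 := hs1) i₀ j hW) ≤ W ⊓ U 𝒜 i₀ :=
    (basicOpen_gq i₀ j hW).le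
  have hge : W ⊓ U 𝒜 i₀ ≤ (Proj 𝒜).basicOpen (gq (hs1 := hs1) i₀ j hW) :=
    (basicOpen_gq i₀ j hW).ge
  obtain ⟨n, z, hz⟩ := Groth.Agent.Lib.helper7.exists_pow_smul_eq_map_of_isAffineOpen hWa F
    (gq (hs1 := hs1) i₀ j hW) (res F hle t)
  refine ⟨n, z, ?_⟩
  have hz' : res F ((Proj 𝒜).basicOpen_le (gq (hs1 := hs1) i₀ j hW)) z =
      rs ((Proj 𝒜).basicOpen_le (gq (hs1 := hs1) i₀ j hW)) (gq (hs1 := hs1) i₀ j hW) ^ n •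
        res F hle t := hz
  have h2 := congrArg (res F hge) hz'
  rw [res_res, res_smul, res_res, res_self, ← rs_pow, gq_pow] at h2
  exact h2

/-- The comparison map on the chart `U i`. -/
theorem phiFun_chart (i : s) {σ : Γ(T Φ, U 𝒜 i)} {c : ℕ} {h : A} {v : E 𝒜 s F}
    (hr : IsRep Φ σ c h v) :
    phiFun Φ (chartIdx hs1 i) σ =
      fr 𝒜 (U 𝒜 i) (pow_mem1 𝒜 (hs1 _ i.2) c) hr.hh hr.hW • v i := by
  rw [phiFun_eq Φ (chartIdx hs1 i) hr i le_rfl]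
  unfold tau
  rw [res_self]

theorem phiFun_chart_injective [F.IsQuasicoherent] (i : s) (σ : Γ(T Φ, U 𝒜 i))
    (h0 : phiFun Φ (chartIdx hs1 i) σ = 0) : σ = 0 := by
  obtain ⟨c, h, v, hr⟩ := exists_rep Φ (chartIdx hs1 i) σ
  rw [phiFun_chart Φ i hr] at h0
  have hvi : v i = 0 := by
    have h1 := congrArg (fun z => fr 𝒜 (U 𝒜 i) hr.hh (pow_mem1 𝒜 (hs1 _ i.2) c)
      (notMem_pow 𝒜 (nm 𝒜 i le_rfl) c) • z) h0
    simp only [smul_zero, ← mul_smul] at h1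
    rw [fr_mul, fr_eq_one 𝒜 _ _ _ _ (mul_comm _ _), one_smul] at h1
    exact h1
  have hkill : ∀ j : s, ∃ n, fd 𝒜 hs1 j le_rfl (pow_mem1 𝒜 (hs1 _ i.2) n) • v j = 0 := fun j =>
    exists_pow_kill i j le_rfl (isAffineOpen_U (hs1 := hs1) j) (v j) (by
      have := Φ.le c hr.hv j i
      rw [this, hvi, res_zero, smul_zero])
  choose n hn using hkill
  have hN : act 𝒜 hs1 F (pow_mem1 𝒜 (hs1 _ i.2) (∑ j, n j)) v = 0 := by
    funext j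
    rw [act_apply, Pi.zero_apply]
    have hle : n j ≤ ∑ j, n j :=
      Finset.single_le_sum (f := n) (fun _ _ => Nat.zero_le _) (Finset.mem_univ j)
    have : fd 𝒜 hs1 j le_rfl (pow_mem1 𝒜 (hs1 _ i.2) (∑ j, n j)) =
        fd 𝒜 hs1 j le_rfl (pow_mem1 𝒜 (hs1 _ i.2) ((∑ j, n j) - n j)) *
          fd 𝒜 hs1 j le_rfl (pow_mem1 𝒜 (hs1 _ i.2) (n j)) := by
      symm
      exact fr_mul_eq 𝒜 _ _ _ _ _ _ _ _ _ _
        (by rw [← pow_add, ← pow_add, Nat.sub_add_cancel hle])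
    rw [this, mul_smul, hn j, smul_zero]
  refine ev_ext Φ _ _ fun x => ?_
  refine (hr.heq x).trans ?_
  refine (mk_eq_zero_iff _ _).mpr ?_
  refine ⟨⟨(i : A) ^ (∑ j, n j), notMem_pow 𝒜 (nm 𝒜 i le_rfl) _ x⟩, ?_⟩
  change (i : A) ^ (∑ j, n j) • ofE Φ c v = 0
  rw [smul_ofE Φ (pow_mem1 𝒜 (hs1 _ i.2) _) hr.hv, hN, ofE_zero]

theorem phiFun_chart_surjective (i : s) (t : Γ(F, U 𝒜 i))
    (hsurj : ∃ (c : ℕ) (v : E 𝒜 s F), v ∈ Φ.N c ∧ v i = t) :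
    ∃ σ : Γ(T Φ, U 𝒜 i), phiFun Φ (chartIdx hs1 i) σ = t := by
  obtain ⟨c, v, hv, hvi⟩ := hsurj
  have hfc := pow_mem1 𝒜 (hs1 _ i.2) c
  have hnm := notMem_pow 𝒜 (nm 𝒜 i (le_refl (U 𝒜 i))) c
  let σ : Γ(T Φ, U 𝒜 i) := fracSect 𝒜 (gr Φ) 0 (U 𝒜 i) ⟨ofE Φ c v, ofE_mem_gr Φ c v⟩
    ⟨(i : A) ^ c, hfc⟩ hnm (by simp)
  have hr : IsRep Φ σ c ((i : A) ^ c) v := ⟨hfc, hv, hnm, fun x => rfl⟩
  refine ⟨σ, ?_⟩
  rw [phiFun_chart Φ i hr, fr_eq_one 𝒜 _ _ _ _ rfl, one_smul, hvi]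

theorem isIso_of_beta [F.IsQuasicoherent]
    (hs : (HomogeneousIdeal.irrelevant 𝒜).toIdeal = Ideal.span (s : Set A))
    (hsurj : ∀ (i : s) (t : Γ(F, U 𝒜 i)), ∃ (c : ℕ) (v : E 𝒜 s F), v ∈ Φ.N c ∧ v i = t)
    (β : T Φ ⟶ F) (hβ : ∀ (b : BIdx 𝒜 s) (σ : Γ(T Φ, b.op)), β.app b.op σ = phiFun Φ b σ) :
    IsIso β := by
  have : (T Φ).IsQuasicoherent := tilde_isQuasicoherent 𝒜 (gr Φ) 0
  refine Groth.Agent.Lib.helper7.KerSections.isIso_of_bijective_cover β (fun i : s => U 𝒜 i)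
    (fun i => isAffineOpen_U (hs1 := hs1) i) (fun x => exists_mem_U hs x) (fun i => ⟨?_, ?_⟩)
  · rw [injective_iff_map_eq_zero]
    intro σ hσ
    exact phiFun_chart_injective Φ i σ ((hβ (chartIdx hs1 i) σ).symm.trans hσ)
  · intro t
    obtain ⟨σ, hσ⟩ := phiFun_chart_surjective Φ i t (hsurj i t)
    exact ⟨σ, (hβ (chartIdx hs1 i) σ).trans hσ⟩

/-- **Main theorem**: if every section of `F` over a chart comes from the family `Φ`, then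
`(GM Φ)~ ≅ F`. -/
theorem exists_iso [F.IsQuasicoherent]
    (hs : (HomogeneousIdeal.irrelevant 𝒜).toIdeal = Ideal.span (s : Set A))
    (hsurj : ∀ (i : s) (t : Γ(F, U 𝒜 i)), ∃ (c : ℕ) (v : E 𝒜 s F), v ∈ Φ.N c ∧ v i = t) :
    Nonempty (GrTilde.tilde 𝒜 (gr Φ) 0 ≅ F) := by
  obtain ⟨β, hβ⟩ := exists_beta Φ hs
  have := isIso_of_beta Φ hs hsurj β hβ
  exact ⟨asIso β⟩

end

end Groth.Agent.Lib.helper12.ProjTilde
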