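import Mathlib
import Groth.Agent.Lib.Helper12.ProjTilde4

/-!
# Every quasi-coherent module on `Proj` is `M~` (helper12)

`full_surj`: every section of a quasi-coherent `F` over a chart `U i₀` is the `i₀`-th component of
an element of some `Mn c` (extension after multiplying by a power of `fᵢ₀`, in two stages).
`exists_tilde_iso_full`: `(⨁ Mn c)~ ≅ F`.
-/

set_option autoImplicit false
universe u

open CategoryTheory AlgebraicGeometry Opposite TopologicalSpace HomogeneousLocalization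

namespace Groth.Agent.Lib.helper12.ProjTilde

open Groth.Agent.Lib.helper12.ProjClosed

noncomputable section

variable {R A : Type u} [CommRing R] [CommRing A] [Algebra R A] {𝒜 : ℕ → Submodule R A}
  [GradedAlgebra 𝒜]

variable {s : Finset A} {hs1 : ∀ f ∈ s, f ∈ 𝒜 1} {F : (Proj 𝒜).Modules}

theorem fd_pow_split (i₀ j : s) {W : (Proj 𝒜).Opens} (hW : W ≤ U 𝒜 j) {n N : ℕ} (hle : n ≤ N) :
    fd 𝒜 hs1 j hW (pow_mem1 𝒜 (hs1 _ i₀.2) N) =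
      fd 𝒜 hs1 j hW (pow_mem1 𝒜 (hs1 _ i₀.2) (N - n)) *
        fd 𝒜 hs1 j hW (pow_mem1 𝒜 (hs1 _ i₀.2) n) := by
  symm
  exact fr_mul_eq 𝒜 _ _ _ _ _ _ _ _ _ _ (by rw [← pow_add, ← pow_add, Nat.sub_add_cancel hle])

theorem fd_self (i : s) {W : (Proj 𝒜).Opens} (hW : W ≤ U 𝒜 i) (n : ℕ) :
    fd 𝒜 hs1 i hW (pow_mem1 𝒜 (hs1 _ i.2) n) = 1 :=
  fr_eq_one 𝒜 _ _ _ _ rfl

theorem tr_self (n : ℕ) (i : s) : tr 𝒜 hs1 n i i = 1 :=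
  fr_eq_one 𝒜 _ _ _ _ rfl

theorem full_surj [F.IsQuasicoherent] (i₀ : s) (t : Γ(F, U 𝒜 i₀)) :
    ∃ (c : ℕ) (v : E 𝒜 s F), v ∈ Mn 𝒜 hs1 F c ∧ v i₀ = t := by
  -- Stage 1
  have h1 : ∀ j : s, ∃ (n : ℕ) (z : Γ(F, U 𝒜 j)),
      res F (inf_le_left : U 𝒜 j ⊓ U 𝒜 i₀ ≤ U 𝒜 j) z =
        tr 𝒜 hs1 n j i₀ • res F (inf_le_right : U 𝒜 j ⊓ U 𝒜 i₀ ≤ U 𝒜 i₀) t := fun j =>
    exists_pow_extend i₀ j le_rfl (isAffineOpen_U (hs1 := hs1) j) (res F inf_le_right t)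
  choose n z hz using h1
  have hnle : ∀ j, n j ≤ ∑ j, n j := fun j =>
    Finset.single_le_sum (f := n) (fun _ _ => Nat.zero_le _) (Finset.mem_univ j)
  generalize (∑ j, n j) = N at hnle
  obtain ⟨z', hz'def⟩ : ∃ z' : E 𝒜 s F, ∀ j : s,
      z' j = fd 𝒜 hs1 j le_rfl (pow_mem1 𝒜 (hs1 _ i₀.2) (N - n j)) • z j :=
    ⟨fun j => _, fun j => rfl⟩
  have hz' : ∀ j : s, res F (inf_le_left : U 𝒜 j ⊓ U 𝒜 i₀ ≤ U 𝒜 j) (z' j) =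
      tr 𝒜 hs1 N j i₀ • res F (inf_le_right : U 𝒜 j ⊓ U 𝒜 i₀ ≤ U 𝒜 i₀) t := by
    intro j
    rw [hz'def j, res_smul, hz j, ← mul_smul, rs_fr]
    congr 1
    exact (fd_pow_split i₀ j _ (hnle j)).symm
  -- Stage 2
  obtain ⟨δ, hδdef⟩ : ∃ δ : ∀ j l : s, Γ(F, U 𝒜 j ⊓ U 𝒜 l), ∀ j l : s, δ j l =
      res F inf_le_left (z' j) - tr 𝒜 hs1 N j l • res F inf_le_right (z' l) :=
    ⟨fun j l => _, fun j l => rfl⟩
  have hδ : ∀ j l : s,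
      res F (inf_le_left : (U 𝒜 j ⊓ U 𝒜 l) ⊓ U 𝒜 i₀ ≤ U 𝒜 j ⊓ U 𝒜 l) (δ j l) = 0 := by
    intro j l
    have hA : res F (inf_le_left : (U 𝒜 j ⊓ U 𝒜 l) ⊓ U 𝒜 i₀ ≤ U 𝒜 j ⊓ U 𝒜 l)
        (res F inf_le_left (z' j)) =
        res F (le_inf (inf_le_left.trans inf_le_left) inf_le_right :
          (U 𝒜 j ⊓ U 𝒜 l) ⊓ U 𝒜 i₀ ≤ U 𝒜 j ⊓ U 𝒜 i₀) (res F inf_le_left (z' j)) := by
      rw [res_res, res_res]
    have hB : res F (inf_le_left : (U 𝒜 j ⊓ U 𝒜 l) ⊓ U 𝒜 i₀ ≤ U 𝒜 j ⊓ U 𝒜 l)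
        (res F inf_le_right (z' l)) =
        res F (le_inf (inf_le_left.trans inf_le_right) inf_le_right :
          (U 𝒜 j ⊓ U 𝒜 l) ⊓ U 𝒜 i₀ ≤ U 𝒜 l ⊓ U 𝒜 i₀) (res F inf_le_left (z' l)) := by
      rw [res_res, res_res]
    rw [hδdef j l, res_sub, res_smul, hA, hB, hz' j, hz' l, res_smul, res_smul, res_res, res_res,
      ← mul_smul, rs_fr, rs_fr, rs_fr, sub_eq_zero]
    congr 1
    symm
    exact fr_mul_eq 𝒜 _ _ _ _ _ _ _ _ _ _ (by ring)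
  have hkill : ∀ j l : s, ∃ n' : ℕ,
      fd 𝒜 hs1 j (inf_le_left : U 𝒜 j ⊓ U 𝒜 l ≤ U 𝒜 j) (pow_mem1 𝒜 (hs1 _ i₀.2) n') • δ j l = 0 :=
    fun j l => exists_pow_kill i₀ j inf_le_left (isAffineOpen_U_inf (hs1 := hs1) j l) (δ j l)
      (hδ j l)
  choose n' hn' using hkill
  have hn'le : ∀ j l, n' j l ≤ ∑ j, ∑ l, n' j l := fun j l =>
    (Finset.single_le_sum (f := n' j) (fun _ _ => Nat.zero_le _) (Finset.mem_univ l)).trans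
      (Finset.single_le_sum (f := fun j => ∑ l, n' j l) (fun _ _ => Nat.zero_le _)
        (Finset.mem_univ j))
  generalize (∑ j, ∑ l, n' j l) = N' at hn'le
  obtain ⟨y, hydef⟩ : ∃ y : E 𝒜 s F, ∀ j : s,
      y j = fd 𝒜 hs1 j le_rfl (pow_mem1 𝒜 (hs1 _ i₀.2) N') • z' j :=
    ⟨fun j => _, fun j => rfl⟩
  refine ⟨N' + N, y, ?_, ?_⟩
  · intro j l
    rw [← sub_eq_zero]
    have e1 : res F (inf_le_left : U 𝒜 j ⊓ U 𝒜 l ≤ U 𝒜 j) (y j) =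
        fd 𝒜 hs1 j (inf_le_left : U 𝒜 j ⊓ U 𝒜 l ≤ U 𝒜 j) (pow_mem1 𝒜 (hs1 _ i₀.2) N') •
          res F inf_le_left (z' j) := by
      rw [hydef j, res_smul, rs_fr]
    have e2 : tr 𝒜 hs1 (N' + N) j l • res F (inf_le_right : U 𝒜 j ⊓ U 𝒜 l ≤ U 𝒜 l) (y l) =
        fd 𝒜 hs1 j (inf_le_left : U 𝒜 j ⊓ U 𝒜 l ≤ U 𝒜 j) (pow_mem1 𝒜 (hs1 _ i₀.2) N') •
          (tr 𝒜 hs1 N j l • res F inf_le_right (z' l)) := by
      rw [hydef l, res_smul, rs_fr, ← mul_smul, ← mul_smul]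
      congr 1
      exact fr_mul_eq_mul 𝒜 _ _ _ _ _ _ _ _ _ _ _ _ _ (by ring)
    rw [e1, e2, ← smul_sub, ← hδdef j l, fd_pow_split i₀ j _ (hn'le j l), mul_smul, hn' j l,
      smul_zero]
  · have h3 := hz' i₀
    rw [tr_self, one_smul] at h3
    have hz0 : z' i₀ = t := res_injective_of_le F inf_le_left (le_inf le_rfl le_rfl) h3
    rw [hydef i₀, hz0, fd_self, one_smul]

/-- **Every quasi-coherent module on `Proj` is `M~`** (`𝒜₊` generated by finitely many elements of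
degree one). -/
theorem exists_tilde_iso_full [F.IsQuasicoherent]
    (hs : (HomogeneousIdeal.irrelevant 𝒜).toIdeal = Ideal.span (s : Set A)) :
    Nonempty (GrTilde.tilde 𝒜 (gr (Fam.full 𝒜 hs1 F)) 0 ≅ F) :=
  exists_iso (Fam.full 𝒜 hs1 F) hs (fun i t => full_surj i t)

end

end Groth.Agent.Lib.helper12.ProjTilde
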