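import Mathlib
import Groth.Agent.Lib.Helper12.ProjTilde5
import Groth.Agent.Lib.Helper16.CohFinite

/-!
# Finite type quasi-coherent modules on `Proj` are `N~` with `N` finitely generated (helper12)

`Fam.gen`: the family generated by finitely many elements `yl l ∈ Mn (k l)`; `GM` of it is a finite
`A`-module (`finite_gen`).  For `F` quasi-coherent of finite type, suitable generators give
`(GM (gen ..))~ ≅ F` (`exists_tilde_iso_finite`).
-/

set_option autoImplicit false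
universe u

open CategoryTheory AlgebraicGeometry Opposite TopologicalSpace HomogeneousLocalization

namespace Groth.Agent.Lib.helper12.ProjTilde

open Groth.Agent.Lib.helper12.ProjClosed

noncomputable section

variable {R A : Type u} [CommRing R] [CommRing A] [Algebra R A] {𝒜 : ℕ → Submodule R A}
  [GradedAlgebra 𝒜]

variable {s : Finset A} {hs1 : ∀ f ∈ s, f ∈ 𝒜 1} {F : (Proj 𝒜).Modules}

variable {L : Type*} (k : L → ℕ) (yl : L → E 𝒜 s F)

variable (hs1) in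
/-- Generators of the degree `n` part. -/
def genSet (n : ℕ) : Set (E 𝒜 s F) :=
  {v | ∃ (l : L) (d : ℕ) (a : A) (ha : a ∈ 𝒜 d), d + k l = n ∧ v = act 𝒜 hs1 F ha (yl l)}

variable (hs1) in
/-- The degree `n` part of the family generated by the `yl l`. -/
def Ngen (n : ℕ) : AddSubgroup (E 𝒜 s F) := AddSubgroup.closure (genSet hs1 k yl n)

theorem act_mem_Ngen {d' : ℕ} {a' : A} (ha' : a' ∈ 𝒜 d') {n : ℕ} {m : E 𝒜 s F}
    (hm : m ∈ Ngen hs1 k yl n) : act 𝒜 hs1 F ha' m ∈ Ngen hs1 k yl (d' + n) := by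
  induction hm using AddSubgroup.closure_induction with
  | mem v hv =>
    obtain ⟨l, d, a, ha, hd, rfl⟩ := hv
    refine AddSubgroup.subset_closure ⟨l, d' + d, a' * a, SetLike.GradedMul.mul_mem ha' ha, ?_, ?_⟩
    · rw [add_assoc, hd]
    · rw [act_mul]
  | zero => rw [act_zero]; exact zero_mem _
  | add v w _ _ hv hw => rw [act_add]; exact add_mem hv hw
  | neg v _ hv => rw [act_neg]; exact neg_mem hv

variable (hs1) in
/-- The family generated by elements `yl l ∈ Mn (k l)`. -/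
def Fam.gen (hy : ∀ l, yl l ∈ Mn 𝒜 hs1 F (k l)) : Fam 𝒜 hs1 F where
  N := Ngen hs1 k yl
  le n := by
    refine (AddSubgroup.closure_le _).mpr ?_
    rintro v ⟨l, d, a, ha, hd, rfl⟩
    have := act_mem_Mn 𝒜 hs1 F ha (hy l)
    rwa [hd] at this
  act_mem ha _ _ hm := act_mem_Ngen k yl ha hm

theorem yl_mem_Ngen (l : L) : yl l ∈ Ngen hs1 k yl (k l) :=
  AddSubgroup.subset_closure ⟨l, 0, 1, SetLike.GradedOne.one_mem, zero_add _, (act_one 𝒜 hs1 F _).symm⟩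

theorem ofE_neg (Φ : Fam 𝒜 hs1 F) {n : ℕ} {v : E 𝒜 s F} (hv : v ∈ Φ.N n) :
    ofE Φ n (-v) = -ofE Φ n v := by
  have := ofE_sub Φ (zero_mem (Φ.N n)) hv
  rw [zero_sub, ofE_zero, zero_sub] at this
  exact this

theorem ofE_gen_mem_span (hy : ∀ l, yl l ∈ Mn 𝒜 hs1 F (k l)) (n : ℕ) {v : E 𝒜 s F}
    (hv : v ∈ Ngen hs1 k yl n) :
    ofE (Fam.gen hs1 k yl hy) n v ∈ Submodule.span A
      (Set.range fun l : L => ofE (Fam.gen hs1 k yl hy) (k l) (yl l)) := by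
  induction hv using AddSubgroup.closure_induction with
  | mem v hv =>
    obtain ⟨l, d, a, ha, hd, rfl⟩ := hv
    rw [← hd, ← smul_ofE (Fam.gen hs1 k yl hy) ha (yl_mem_Ngen k yl l)]
    exact Submodule.smul_mem _ _ (Submodule.subset_span ⟨l, rfl⟩)
  | zero => rw [ofE_zero]; exact zero_mem _
  | add v w hv hw hv' hw' =>
    rw [ofE_add (Fam.gen hs1 k yl hy) hv hw]
    exact add_mem hv' hw'
  | neg v hv hv' =>
    rw [ofE_neg (Fam.gen hs1 k yl hy) hv]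
    exact neg_mem hv'

theorem finite_gen [Finite L] (hy : ∀ l, yl l ∈ Mn 𝒜 hs1 F (k l)) :
    Module.Finite A (GM (Fam.gen hs1 k yl hy)) := by
  have htop : Submodule.span A
      (Set.range fun l : L => ofE (Fam.gen hs1 k yl hy) (k l) (yl l)) = ⊤ := by
    rw [eq_top_iff]
    intro x _
    refine DirectSum.induction_on
      (motive := fun x : DirectSum ℕ (fun n => ↥((Fam.gen hs1 k yl hy).N n)) =>
        (x : GM (Fam.gen hs1 k yl hy)) ∈ Submodule.span A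
          (Set.range fun l : L => ofE (Fam.gen hs1 k yl hy) (k l) (yl l))) x ?_ ?_ ?_
    · exact zero_mem _
    · intro n y
      change ofN (Fam.gen hs1 k yl hy) n y ∈ _
      rw [ofN_eq_ofE]
      exact ofE_gen_mem_span k yl hy n y.2
    · intro x y hx hy'
      exact add_mem hx hy'
  rw [Module.finite_def, ← htop]
  exact Submodule.fg_span (Set.finite_range _)

variable (hs1) in
/-- `t` is the `i`-th component of an element of `Ngen K` for all large `K`. -/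
def Ev (i : s) (t : Γ(F, U 𝒜 i)) : Prop :=
  ∃ K₀ : ℕ, ∀ K : ℕ, K₀ ≤ K → ∃ v ∈ Ngen hs1 k yl K, v i = t

theorem ev_gen (l : L) (i : s) : Ev hs1 k yl i (yl l i) := by
  refine ⟨k l, fun K hK => ⟨act 𝒜 hs1 F (pow_mem1 𝒜 (hs1 _ i.2) (K - k l)) (yl l), ?_, ?_⟩⟩
  · exact AddSubgroup.subset_closure ⟨l, K - k l, _, _, by omega, rfl⟩
  · rw [act_apply, fd_self, one_smul]

theorem ev_zero' (i : s) : Ev hs1 k yl i 0 :=
  ⟨0, fun _ _ => ⟨0, zero_mem _, rfl⟩⟩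

theorem ev_add' (i : s) {t t' : Γ(F, U 𝒜 i)} (ht : Ev hs1 k yl i t) (ht' : Ev hs1 k yl i t') :
    Ev hs1 k yl i (t + t') := by
  obtain ⟨K₀, hK⟩ := ht
  obtain ⟨K₁, hK'⟩ := ht'
  refine ⟨max K₀ K₁, fun K hle => ?_⟩
  obtain ⟨v, hv, hvi⟩ := hK K ((le_max_left _ _).trans hle)
  obtain ⟨v', hv', hvi'⟩ := hK' K ((le_max_right _ _).trans hle)
  exact ⟨v + v', add_mem hv hv', by rw [Pi.add_apply, hvi, hvi']⟩

theorem ev_smul' (i : s) (r : Γ(Proj 𝒜, U 𝒜 i)) {t : Γ(F, U 𝒜 i)} (ht : Ev hs1 k yl i t) :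
    Ev hs1 k yl i (r • t) := by
  obtain ⟨e, a, ha, hra⟩ := Groth.Agent.Lib.helper28.ProjSec.O_eq_fraction 𝒜 one_pos (hs1 _ i.2) r
  have ha' : a ∈ 𝒜 e := by simpa using ha
  have hr : r = fd 𝒜 hs1 i le_rfl ha' :=
    sec_ext 𝒜 _ _ (fun x => (hra x).trans (fr_val 𝒜 (U 𝒜 i) ha' (pow_mem1 𝒜 (hs1 _ i.2) e)
      (notMem_pow 𝒜 (nm 𝒜 i le_rfl) e) x).symm)
  obtain ⟨K₀, hK⟩ := ht
  refine ⟨e + K₀, fun K hK' => ?_⟩
  obtain ⟨v, hv, hvi⟩ := hK (K - e) (by omega)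
  refine ⟨act 𝒜 hs1 F ha' v, ?_, ?_⟩
  · have := act_mem_Ngen k yl ha' hv
    rwa [show e + (K - e) = K by omega] at this
  · rw [act_apply, hvi, hr]

theorem gen_surj (i : s)
    (hspan : Submodule.span Γ(Proj 𝒜, U 𝒜 i) (Set.range fun l : L => yl l i) = ⊤)
    (t : Γ(F, U 𝒜 i)) : ∃ (c : ℕ) (v : E 𝒜 s F), v ∈ Ngen hs1 k yl c ∧ v i = t := by
  have ht : t ∈ Submodule.span Γ(Proj 𝒜, U 𝒜 i) (Set.range fun l : L => yl l i) := by
    rw [hspan]; trivial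
  have hev : Ev hs1 k yl i t := by
    induction ht using Submodule.span_induction with
    | mem x hx =>
      obtain ⟨l, rfl⟩ := hx
      exact ev_gen k yl l i
    | zero => exact ev_zero' k yl i
    | add x y _ _ hx hy => exact ev_add' k yl i hx hy
    | smul r x _ hx => exact ev_smul' k yl i r hx
  obtain ⟨K₀, hK⟩ := hev
  obtain ⟨v, hv, hvi⟩ := hK K₀ le_rfl
  exact ⟨K₀, v, hv, hvi⟩

/-- **Finite type quasi-coherent modules on `Proj` are `N~` with `N` finitely generated.** -/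
theorem exists_tilde_iso_finite [F.IsQuasicoherent]
    (hs : (HomogeneousIdeal.irrelevant 𝒜).toIdeal = Ideal.span (s : Set A))
    (hFT : ∀ i : s, Module.Finite Γ(Proj 𝒜, U 𝒜 i) Γ(F, U 𝒜 i)) :
    ∃ Φ : Fam 𝒜 hs1 F, Module.Finite A (GM Φ) ∧ Nonempty (GrTilde.tilde 𝒜 (gr Φ) 0 ≅ F) := by
  have hfg : ∀ i : s, ∃ T : Finset Γ(F, U 𝒜 i),
      Submodule.span Γ(Proj 𝒜, U 𝒜 i) (T : Set Γ(F, U 𝒜 i)) = ⊤ := fun i => (hFT i).fg_top
  choose T hT using hfg
  let L := Σ i : s, {τ // τ ∈ T i}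
  have hsur : ∀ l : L, ∃ (c : ℕ) (v : E 𝒜 s F), v ∈ Mn 𝒜 hs1 F c ∧ v l.1 = l.2.1 := fun l =>
    full_surj l.1 l.2.1
  choose k yl hy hyi using hsur
  refine ⟨Fam.gen hs1 k yl hy, finite_gen k yl hy, ?_⟩
  refine exists_iso (Fam.gen hs1 k yl hy) hs (fun i t => gen_surj k yl i ?_ t)
  rw [eq_top_iff, ← hT i]
  refine Submodule.span_mono ?_
  intro τ hτ
  exact ⟨⟨i, ⟨τ, hτ⟩⟩, hyi ⟨i, ⟨τ, hτ⟩⟩⟩

end

end Groth.Agent.Lib.helper12.ProjTilde
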