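import Mathlib
import Groth.Agent.Lib.Helper12.ProjVA2

/-!
# A criterion for `O_X(n)` to be very ample on `X = Proj 𝒜` (helper12)

* `exists_closedImmersion_of_sections`: finitely many `b j ∈ 𝒜 n` such that the "good" `D₊(b j)` cover and the
  rings `A_(b j)` are generated by `R` and the fractions `b l / b j` give a closed immersion `i` of `Proj 𝒜` into a
  projective space over `R` with `O(n) ≅ i^* O(1)` (`𝒜` of finite type over `R`, `R → 𝒜 0` surjective).
-/

set_option autoImplicit false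
set_option linter.unusedSectionVars false
set_option linter.style.haveILetI false
universe u

open CategoryTheory CategoryTheory.Limits AlgebraicGeometry Opposite TopologicalSpace

namespace Groth.Agent.Lib.helper12.ProjVA3

open Groth.Agent.Lib.helper11.IsoLocus Groth.Agent.Lib.helper11.InvHom
open Groth.Agent.Lib.helper11.GenLocus Groth.Agent.Lib.helper11.InvMod
open Groth.Agent.Lib.helper12.ProjUP1 Groth.Agent.Lib.helper12.ProjUP2
open Groth.Agent.Lib.helper12.ProjUP3 Groth.Agent.Lib.helper12.ProjUP4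
open Groth.Agent.Lib.helper28.TwistSecHom Groth.Agent.Lib.helper28.TwistFree
open Groth.Agent.Lib.helper12.ProjVA2
open Scheme.Modules HomogeneousLocalization

variable {R A : Type u} [CommRing R] [CommRing A] [Algebra R A] (𝒜 : ℕ → Submodule R A)
  [GradedAlgebra 𝒜]

theorem exists_closedImmersion_of_sections [Algebra.FiniteType R A]
    (hsurj : Function.Surjective (algebraMap R (𝒜 0))) {n : ℕ} (hn1 : 0 < n)
    {J : Type*} [Fintype J] (b : J → 𝒜 n) (good : J → Prop)
    (hcov : ∀ x : Proj 𝒜, ∃ j, good j ∧ x ∈ Proj.basicOpen 𝒜 (b j : A))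
    (hgen : ∀ j, good j → ∀ C : Subring (Away 𝒜 (b j : A)),
      (∀ r : R, fromZeroRingHom 𝒜 _ (algebraMap R (𝒜 0) r) ∈ C) →
      (∀ l, Away.mk 𝒜 (b j).2 1 (b l : A) (mem_one_smul 𝒜 (b l)) ∈ C) → C = ⊤) :
    ∃ (N : ℕ) (i : Proj 𝒜 ⟶ CohB1.ProjSpaceOver N (Spec (CommRingCat.of R))), IsClosedImmersion i ∧
      i ≫ pullback.snd (CohB1.ProjSpace.toSpec N (ULift.{u} ℤ))
        (specULiftZIsTerminal.from (Spec (CommRingCat.of R))) = toSpecR 𝒜 ∧
      Nonempty (Twist.twist 𝒜 (n : ℤ) ≅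
        (Scheme.Modules.pullback i).obj (Twist.twistOver N (Spec (CommRingCat.of R)) 1)) := by
  classical
  haveI : IsScalarTower R (𝒜 0) A := ⟨fun r a x => by
    change ((r • a : 𝒜 0) : A) * x = r • ((a : A) * x)
    rw [Submodule.coe_smul, smul_mul_assoc]⟩
  haveI : Algebra.FiniteType (𝒜 0) A := Algebra.FiniteType.of_restrictScalars_finiteType R (𝒜 0) A
  haveI : IsClosedImmersion (Spec.map (CommRingCat.ofHom (algebraMap R (𝒜 0)))) :=
    IsClosedImmersion.spec_of_surjective _ hsurj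
  haveI : IsProper (toSpecR 𝒜) := inferInstance
  have hcovn : ∀ x : ProjectiveSpectrum 𝒜, ∃ g ∈ 𝒜 n, g ∉ x.asHomogeneousIdeal := by
    intro x
    obtain ⟨j, -, hj⟩ := hcov x
    exact ⟨(b j : A), (b j).2, (ProjectiveSpectrum.mem_basicOpen 𝒜 _ x).mp hj⟩
  let b' : Option J → 𝒜 n := fun j => j.elim 0 b
  let σ : Option J → (Coh.structureModule (Proj 𝒜) ⟶ Twist.twist 𝒜 (n : ℤ)) :=
    fun j => secHom 𝒜 (b' j)
  have hZeq : ∀ j, CohB1.genLocus _ (σ j) = Proj.basicOpen 𝒜 (b' j : A) := fun j =>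
    genLocus_secHom 𝒜 hn1 (b' j) hcovn
  have hVA : RelAmple.IsRelVeryAmplePn (toSpecR 𝒜) (Twist.twist 𝒜 (n : ℤ)) := by
    refine Groth.Agent.Lib.helper12.VAmple4.isRelVeryAmplePn_of_sections' (toSpecR 𝒜) σ
      (fun j => ∃ k, good k ∧ j = some k) (fun _ => ⊤) (fun j => Proj.basicOpen 𝒜 (b' j : A))
      (fun j _ => hZeq j) (fun _ _ => isAffineOpen_top _)
      (fun j _ => Proj.isAffineOpen_basicOpen 𝒜 _ (b' j).2 hn1) (fun j _ x _ => trivial) ?_ ?_
    · rintro _ ⟨k, hk, rfl⟩
      have hbk : b' (some k) = b k := rfl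
      set CΓ := Subring.closure
        (Set.range ((toSpecR 𝒜).appLE ⊤ (Proj.basicOpen 𝒜 (b' (some k) : A))
          (fun x _ => trivial)).hom ∪
          Set.range (fun l => ratio (σ (some k)) (σ l) (Proj.basicOpen 𝒜 (b' (some k) : A))
            (hZeq (some k)).ge)) with hCΓ
      let C : Subring (Away 𝒜 (b k : A)) := CΓ.comap (Proj.awayToSection 𝒜 (b k : A)).hom
      have hC : C = ⊤ := by
        refine hgen k hk C (fun r => ?_) (fun l => ?_)
        · change (Proj.awayToSection 𝒜 (b k : A)).hom _ ∈ CΓ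
          refine Subring.subset_closure (Or.inl ⟨(Scheme.ΓSpecIso (CommRingCat.of R)).inv.hom r, ?_⟩)
          have h := appLE_toSpecR 𝒜 (b k : A) (b k).2 hn1 (fun x _ => trivial)
          have h' := congrArg
            (fun φ => φ.hom ((Scheme.ΓSpecIso (CommRingCat.of R)).inv.hom r)) h
          refine h'.trans ?_
          simp only [CommRingCat.hom_comp, RingHom.coe_comp, Function.comp_apply,
            CommRingCat.hom_ofHom]
          congr 3
          exact congrFun (congrArg DFunLike.coe (congrArg CommRingCat.Hom.hom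
            (Scheme.ΓSpecIso (CommRingCat.of R)).inv_hom_id)) r
        · change (Proj.awayToSection 𝒜 (b k : A)).hom _ ∈ CΓ
          refine Subring.subset_closure (Or.inr ⟨some l, ?_⟩)
          exact (ratio_secHom 𝒜 (b l) (b k) (hZeq (some k)).ge).trans (frac_eq 𝒜 (b l) (b k))
      rw [eq_top_iff]
      intro y _
      have hy : (Proj.basicOpenIsoAway 𝒜 (b k : A) (b k).2 hn1).inv.hom y ∈ C :=
        hC ▸ Subring.mem_top _
      have hy' : (Proj.awayToSection 𝒜 (b k : A)).hom
          ((Proj.basicOpenIsoAway 𝒜 (b k : A) (b k).2 hn1).inv.hom y) ∈ CΓ := hy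
      have hey : (Proj.awayToSection 𝒜 (b k : A)).hom
          ((Proj.basicOpenIsoAway 𝒜 (b k : A) (b k).2 hn1).inv.hom y) = y := by
        rw [← Proj.basicOpenIsoAway_hom 𝒜 _ (b k).2 hn1]
        exact ConcreteCategory.congr_hom
          (Proj.basicOpenIsoAway 𝒜 _ (b k).2 hn1).inv_hom_id y
      rw [hey] at hy'
      exact hy'
    · intro x
      obtain ⟨j, hj, hx⟩ := hcov x
      exact ⟨some j, ⟨j, hj, rfl⟩, hx⟩
  obtain ⟨N, i, hi, hif, ⟨τ⟩⟩ := hVA
  refine ⟨N, i, ?_, hif, ⟨τ⟩⟩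
  haveI := hi
  haveI : IsProper (i ≫ CohB1.ProjSpaceOver.toBase N (Spec (CommRingCat.of R))) := by
    rw [show i ≫ CohB1.ProjSpaceOver.toBase N (Spec (CommRingCat.of R)) = toSpecR 𝒜 from hif]
    infer_instance
  exact Groth.Agent.Lib.helper12.Chow5.isClosedImmersion_of_isProper_comp i
    (CohB1.ProjSpaceOver.toBase N (Spec (CommRingCat.of R)))

end Groth.Agent.Lib.helper12.ProjVA3
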