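import Mathlib
import Groth.Agent.Lib.Helper12.ProjVA3

/-!
# `O_X(a·l)` very ample on `Proj R[f_1..f_s]`, `l = lcm (deg f_i)`, `a ≥ max(1, s-1)` (helper12; S13182)
-/

set_option autoImplicit false
set_option linter.unusedSectionVars false
set_option linter.style.haveILetI false
universe u

open CategoryTheory CategoryTheory.Limits AlgebraicGeometry Opposite TopologicalSpace
open HomogeneousLocalization

namespace Groth.Agent.Lib.helper12.ProjVA4

section Comb

theorem exists_le_sum_eq {ι : Type*} [DecidableEq ι] (s : Finset ι) (q : ι → ℕ) (t : ℕ)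
    (ht : t ≤ ∑ i ∈ s, q i) :
    ∃ q' : ι → ℕ, (∀ i, q' i ≤ q i) ∧ ∑ i ∈ s, q' i = t := by
  induction t with
  | zero => exact ⟨fun _ => 0, fun _ => Nat.zero_le _, by simp⟩
  | succ t ih =>
    obtain ⟨q', hq', hsum⟩ := ih (Nat.le_of_succ_le ht)
    have hex : ∃ i ∈ s, q' i < q i := by
      by_contra hcon
      push Not at hcon
      have := Finset.sum_le_sum hcon
      omega
    obtain ⟨i, his, hi⟩ := hex
    refine ⟨Function.update q' i (q' i + 1), fun j => ?_, ?_⟩
    · by_cases hj : j = i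
      · subst hj; simp; omega
      · simp [Function.update_of_ne hj, hq' j]
    · rw [Finset.sum_update_of_mem his, ← hsum, ← Finset.add_sum_erase s q' his,
        Finset.sdiff_singleton_eq_erase]
      ring

theorem exists_sub_degree {s : ℕ} (d : Fin s → ℕ) (hd : ∀ i, 0 < d i) (a : ℕ)
    (has : s - 1 ≤ a) (k : ℕ) (α : Fin s → ℕ)
    (hα : ∑ i, α i * d i = (k + 1) * (a * Finset.univ.lcm d)) :
    ∃ β : Fin s → ℕ, (∀ i, β i ≤ α i) ∧ ∑ i, β i * d i = a * Finset.univ.lcm d := by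
  classical
  set l := Finset.univ.lcm d with hl
  have hlpos : 0 < l := by
    rw [Nat.pos_iff_ne_zero, hl, Ne, Finset.lcm_eq_zero_iff]
    rintro ⟨i, -, hi⟩
    exact (hd i).ne' hi
  have hdl : ∀ i, d i ∣ l := fun i => Finset.dvd_lcm (Finset.mem_univ i)
  set m : Fin s → ℕ := fun i => l / d i with hm
  have hmd : ∀ i, m i * d i = l := fun i => Nat.div_mul_cancel (hdl i)
  have hmpos : ∀ i, 0 < m i := fun i => Nat.div_pos (Nat.le_of_dvd hlpos (hdl i)) (hd i)
  set q : Fin s → ℕ := fun i => α i / m i with hq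
  set r : Fin s → ℕ := fun i => α i % m i with hr
  have hαqr : ∀ i, α i = m i * q i + r i := fun i => (Nat.div_add_mod (α i) (m i)).symm
  set ρ := ∑ i, r i * d i with hρ
  have h1 : ∑ i, α i * d i = l * ∑ i, q i + ρ := by
    rw [Finset.mul_sum, hρ, ← Finset.sum_add_distrib]
    refine Finset.sum_congr rfl fun i _ => ?_
    calc α i * d i = (m i * q i + r i) * d i := by rw [← hαqr i]
      _ = l * q i + r i * d i := by rw [add_mul, mul_right_comm, hmd i]
  have h2 : l ∣ ρ := by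
    have h3 : l ∣ l * ∑ i, q i + ρ := by
      rw [← h1, hα]
      exact ⟨(k + 1) * a, by ring⟩
    exact (Nat.dvd_add_right (dvd_mul_right l _)).mp h3
  obtain ⟨c, hc⟩ := h2
  obtain ⟨l', hl'⟩ := Nat.exists_eq_succ_of_ne_zero hlpos.ne'
  have hrd : ∀ i, r i * d i ≤ l' := by
    intro i
    have h4 : r i < m i := Nat.mod_lt _ (hmpos i)
    have h5 : (r i + 1) * d i ≤ m i * d i := Nat.mul_le_mul_right _ h4
    rw [hmd i, hl'] at h5
    have := hd i
    nlinarith
  have hρle : ρ ≤ s * l' := by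
    calc ρ ≤ ∑ _i : Fin s, l' := Finset.sum_le_sum fun i _ => hrd i
      _ = s * l' := by simp
  have hca : c ≤ a := by
    by_contra hcon
    push Not at hcon
    have h6 : s ≤ c := by omega
    have h7 : l * s ≤ l * c := Nat.mul_le_mul_left _ h6
    rw [← hc] at h7
    have h8 : (l' + 1) * s ≤ s * l' := by
      have h8' := h7.trans hρle
      rw [hl'] at h8'
      exact h8'
    have hs0 : s = 0 := by nlinarith
    subst hs0
    have : ρ = 0 := by simp [hρ]
    rw [this] at hc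
    have : c = 0 := by
      rcases Nat.eq_zero_or_pos c with h | h
      · exact h
      · exfalso; have := Nat.mul_pos hlpos h; omega
    omega
  have hQ : ∑ i, q i + c = (k + 1) * a := by
    have h9 : l * (∑ i, q i + c) = l * ((k + 1) * a) := by
      rw [mul_add, ← hc, ← h1, hα]; ring
    exact Nat.eq_of_mul_eq_mul_left hlpos h9
  have hle : a - c ≤ ∑ i, q i := by
    have : a ≤ (k + 1) * a := Nat.le_mul_of_pos_left a (Nat.succ_pos k)
    omega
  obtain ⟨q', hq', hsum⟩ := exists_le_sum_eq Finset.univ q (a - c) hle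
  refine ⟨fun i => m i * q' i + r i, fun i => ?_, ?_⟩
  · rw [hαqr i]
    exact Nat.add_le_add_right (Nat.mul_le_mul_left _ (hq' i)) _
  · have h10 : ∑ i, (m i * q' i + r i) * d i = l * ∑ i, q' i + ρ := by
      rw [Finset.mul_sum, hρ, ← Finset.sum_add_distrib]
      refine Finset.sum_congr rfl fun i _ => ?_
      rw [add_mul, mul_right_comm, hmd i]
    rw [h10, hsum, hc, ← mul_add, Nat.sub_add_cancel hca, mul_comm]

end Comb

section Alg

variable {R A : Type u} [CommRing R] [CommRing A] [Algebra R A] (𝒜 : ℕ → Submodule R A)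
  [GradedAlgebra 𝒜]

theorem away_mk_congr {h : A} {n : ℕ} (hh : h ∈ 𝒜 n) (k : ℕ) {x x' : A} (e : x = x')
    (hx : x ∈ 𝒜 (k • n)) (hx' : x' ∈ 𝒜 (k • n)) :
    Away.mk 𝒜 hh k x hx = Away.mk 𝒜 hh k x' hx' := by
  subst e; rfl

theorem away_mk_mul {h : A} {n : ℕ} (hh : h ∈ 𝒜 n) (k : ℕ) (x y : A) (hx : x ∈ 𝒜 (1 • n))
    (hy : y ∈ 𝒜 (k • n)) (hxy : x * y ∈ 𝒜 ((k + 1) • n)) :
    Away.mk 𝒜 hh (k + 1) (x * y) hxy = Away.mk 𝒜 hh 1 x hx * Away.mk 𝒜 hh k y hy := by
  apply HomogeneousLocalization.val_injective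
  rw [HomogeneousLocalization.val_mul, Away.val_mk, Away.val_mk, Away.val_mk, Localization.mk_mul]
  congr 1
  exact Subtype.ext (by simp [pow_succ'])

theorem away_mk_zero_one {h : A} {n : ℕ} (hh : h ∈ 𝒜 n) (h1 : (1 : A) ∈ 𝒜 (0 • n)) :
    Away.mk 𝒜 hh 0 1 h1 = 1 := by
  apply HomogeneousLocalization.val_injective
  rw [Away.val_mk, HomogeneousLocalization.val_one]
  simp only [pow_zero]
  exact Localization.mk_one

theorem adjoin_zero_eq_top {T : Set A} (hT : Algebra.adjoin R T = ⊤) :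
    Algebra.adjoin (𝒜 0) T = ⊤ := by
  rw [eq_top_iff]
  rintro x -
  have hx : x ∈ Algebra.adjoin R T := hT ▸ Algebra.mem_top
  induction hx using Algebra.adjoin_induction with
  | mem x hx => exact Algebra.subset_adjoin hx
  | algebraMap r => exact Subalgebra.algebraMap_mem _ (algebraMap R (𝒜 0) r)
  | add x y _ _ hx hy => exact add_mem hx hy
  | mul x y _ _ hx hy => exact mul_mem hx hy

variable {s : ℕ} (f : Fin s → A) (deg : Fin s → ℕ) (hdeg : ∀ i, 0 < deg i)
  (hf : ∀ i, f i ∈ 𝒜 (deg i))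

include hf in
theorem prod_pow_mem (α : Fin s → ℕ) {N : ℕ} (hα : ∑ i, α i * deg i = N) :
    ∏ i, f i ^ α i ∈ 𝒜 N := by
  have h := SetLike.prod_pow_mem_graded 𝒜 deg f (F := Finset.univ) α (fun i _ => hf i)
  have h2 : ∑ i, α i • deg i = N := by simpa [smul_eq_mul] using hα
  rwa [h2] at h

include hdeg hf in
theorem closure_eq_top_of_monomials (hgen : Algebra.adjoin R (Set.range f) = ⊤) (a : ℕ)
    (has : s - 1 ≤ a) (h : A) (hh : h ∈ 𝒜 (a * Finset.univ.lcm deg)) (C : Subring (Away 𝒜 h))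
    (hR : ∀ r : R, fromZeroRingHom 𝒜 _ (algebraMap R (𝒜 0) r) ∈ C)
    (hC : ∀ (β : Fin s → ℕ) (_ : ∑ i, β i * deg i = a * Finset.univ.lcm deg)
      (hx : ∏ i, f i ^ β i ∈ 𝒜 (1 • (a * Finset.univ.lcm deg))),
      Away.mk 𝒜 hh 1 (∏ i, f i ^ β i) hx ∈ C) : C = ⊤ := by
  classical
  set n := a * Finset.univ.lcm deg with hn
  have hsurj : Function.Surjective (algebraMap R (𝒜 0)) :=
    ProjVA1.surjective_algebraMap_zero 𝒜 (Set.range f) hgen
      (by rintro _ ⟨i, rfl⟩; exact ⟨deg i, hdeg i, hf i⟩)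
  have hadj0 := adjoin_zero_eq_top 𝒜 hgen
  have hspan := Away.span_mk_prod_pow_eq_top (𝒜 := 𝒜) hh f hadj0 deg hf
  have key : ∀ (k : ℕ) (α : Fin s → ℕ) (hα : ∑ i, α i * deg i = k * n)
      (hx : ∏ i, f i ^ α i ∈ 𝒜 (k • n)), Away.mk 𝒜 hh k (∏ i, f i ^ α i) hx ∈ C := by
    intro k
    induction k with
    | zero =>
      intro α hα hx
      have hα0 : ∀ i, α i = 0 := by
        intro i
        rw [zero_mul] at hα
        have := (Finset.sum_eq_zero_iff.mp hα) i (Finset.mem_univ i)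
        rcases Nat.mul_eq_zero.mp this with h | h
        · exact h
        · exact absurd h (hdeg i).ne'
      have h1 : ∏ i, f i ^ α i = 1 := by simp [hα0]
      rw [away_mk_congr 𝒜 hh 0 h1 hx (h1 ▸ hx), away_mk_zero_one]
      exact C.one_mem
    | succ k ih =>
      intro α hα hx
      obtain ⟨β, hβα, hβ⟩ := exists_sub_degree deg hdeg a has k α hα
      set γ : Fin s → ℕ := fun i => α i - β i with hγ
      have hαβγ : ∀ i, α i = β i + γ i := fun i => by simp [hγ, Nat.add_sub_cancel' (hβα i)]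
      have hγd : ∑ i, γ i * deg i = k * n := by
        have h3 : ∑ i, α i * deg i = ∑ i, β i * deg i + ∑ i, γ i * deg i := by
          rw [← Finset.sum_add_distrib]
          exact Finset.sum_congr rfl fun i _ => by rw [hαβγ i, add_mul]
        rw [hα, hβ] at h3
        have : (k + 1) * n = n + k * n := by ring
        omega
      have hprod : ∏ i, f i ^ α i = (∏ i, f i ^ β i) * ∏ i, f i ^ γ i := by
        rw [← Finset.prod_mul_distrib]
        exact Finset.prod_congr rfl fun i _ => by rw [hαβγ i, pow_add]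
      have hxβ : ∏ i, f i ^ β i ∈ 𝒜 (1 • n) := by
        rw [one_smul]; exact prod_pow_mem 𝒜 f deg hf β hβ
      have hxγ : ∏ i, f i ^ γ i ∈ 𝒜 (k • n) := prod_pow_mem 𝒜 f deg hf γ hγd
      rw [away_mk_congr 𝒜 hh (k + 1) hprod hx (hprod ▸ hx),
        away_mk_mul 𝒜 hh k _ _ hxβ hxγ]
      exact C.mul_mem (hC β hβ hxβ) (ih γ hγd hxγ)
  rw [eq_top_iff]
  rintro x -
  have hx : x ∈ Submodule.span (𝒜 0) _ := hspan ▸ Submodule.mem_top
  induction hx using Submodule.span_induction with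
  | mem x hx =>
    obtain ⟨k, α, hα, rfl⟩ := hx
    exact key k α (by simpa [smul_eq_mul] using hα) _
  | zero => exact C.zero_mem
  | add x y _ _ hx hy => exact C.add_mem hx hy
  | smul r x _ hx =>
    obtain ⟨r', rfl⟩ := hsurj r
    rw [Algebra.smul_def, HomogeneousLocalization.algebraMap_eq]
    exact C.mul_mem (hR r') hx

end Alg

section Main

open Groth.Agent.Lib.helper12.ProjVA2

variable {R A : Type u} [CommRing R] [CommRing A] [Algebra R A] (𝒜 : ℕ → Submodule R A)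
  [GradedAlgebra 𝒜]

/-- **EGA II 4.4.x (lcm form).** -/
theorem exists_closedImmersion_twist_lcm {s : ℕ} (f : Fin s → A) (deg : Fin s → ℕ)
    (hdeg : ∀ i, 0 < deg i) (hf : ∀ i, f i ∈ 𝒜 (deg i))
    (hgen : Algebra.adjoin R (Set.range f) = ⊤) (a : ℕ) (ha : 0 < a) (has : s - 1 ≤ a) :
    ∃ (N : ℕ) (i : Proj 𝒜 ⟶ CohB1.ProjSpaceOver N (Spec (CommRingCat.of R))), IsClosedImmersion i ∧
      i ≫ pullback.snd (CohB1.ProjSpace.toSpec N (ULift.{u} ℤ))
        (specULiftZIsTerminal.from (Spec (CommRingCat.of R))) = toSpecR 𝒜 ∧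
      Nonempty (Twist.twist 𝒜 ((a * Finset.univ.lcm deg : ℕ) : ℤ) ≅
        (Scheme.Modules.pullback i).obj (Twist.twistOver N (Spec (CommRingCat.of R)) 1)) := by
  classical
  set l := Finset.univ.lcm deg with hl
  set n := a * l with hn
  have hlpos : 0 < l := by
    rw [Nat.pos_iff_ne_zero, hl, Ne, Finset.lcm_eq_zero_iff]
    rintro ⟨i, -, hi⟩
    exact (hdeg i).ne' hi
  have hn1 : 0 < n := Nat.mul_pos ha hlpos
  have hdn : ∀ i, deg i ∣ n := fun i =>
    (Finset.dvd_lcm (Finset.mem_univ i)).trans (Dvd.intro_left a rfl)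
  haveI : Algebra.FiniteType R A := ⟨⟨Finset.univ.image f, by
    rw [Finset.coe_image, Finset.coe_univ, Set.image_univ]; exact hgen⟩⟩
  have hsurj : Function.Surjective (algebraMap R (𝒜 0)) :=
    ProjVA1.surjective_algebraMap_zero 𝒜 (Set.range f) hgen
      (by rintro _ ⟨i, rfl⟩; exact ⟨deg i, hdeg i, hf i⟩)
  have hcovf : ⨆ i, Proj.basicOpen 𝒜 (f i) = ⊤ :=
    Proj.iSup_basicOpen_eq_top' 𝒜 f (fun i => ⟨deg i, hf i⟩) (adjoin_zero_eq_top 𝒜 hgen)
  let J := Fin s → Fin (n + 1)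
  let b : J → 𝒜 n := fun β =>
    if hβ : ∑ i, (β i : ℕ) * deg i = n then
      ⟨∏ i, f i ^ (β i : ℕ), prod_pow_mem 𝒜 f deg hf (fun i => (β i : ℕ)) hβ⟩
    else 0
  have hb : ∀ (β : J) (hβ : ∑ i, (β i : ℕ) * deg i = n), (b β : A) = ∏ i, f i ^ (β i : ℕ) := by
    intro β hβ
    simp only [b, dif_pos hβ]
  refine ProjVA3.exists_closedImmersion_of_sections 𝒜 hsurj hn1 b
    (fun _ => True) (fun x => ?_) (fun j _ C hR hC => ?_)
  · have hx : x ∈ (⊤ : (Proj 𝒜).Opens) := trivial
    rw [← hcovf, Opens.mem_iSup] at hx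
    obtain ⟨i, hi⟩ := hx
    have hle : n / deg i < n + 1 := Nat.lt_succ_of_le (Nat.div_le_self _ _)
    let β : J := fun j => if j = i then ⟨n / deg i, hle⟩ else ⟨0, Nat.succ_pos n⟩
    have hβ : ∑ j, (β j : ℕ) * deg j = n := by
      rw [Fintype.sum_eq_single i]
      · simp only [β, if_pos rfl]
        exact Nat.div_mul_cancel (hdn i)
      · intro j hj
        simp only [β, if_neg hj, zero_mul]
    have hbβ : (b β : A) = f i ^ (n / deg i) := by
      rw [hb β hβ, Fintype.prod_eq_single i]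
      · simp only [β, if_pos rfl]
      · intro j hj
        simp only [β, if_neg hj, pow_zero]
    refine ⟨β, trivial, ?_⟩
    rw [hbβ]
    change x ∈ ProjectiveSpectrum.basicOpen 𝒜 (f i ^ (n / deg i))
    rw [ProjectiveSpectrum.basicOpen_pow 𝒜 _ _
      (Nat.div_pos (Nat.le_of_dvd hn1 (hdn i)) (hdeg i))]
    exact hi
  · refine closure_eq_top_of_monomials 𝒜 f deg hdeg hf hgen a has (b j : A) (b j).2 C hR
      (fun β' hβ' hx => ?_)
    have hβle : ∀ i, β' i < n + 1 := by
      intro i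
      have h1 : β' i * deg i ≤ ∑ j, β' j * deg j :=
        Finset.single_le_sum (f := fun j => β' j * deg j) (fun _ _ => Nat.zero_le _)
          (Finset.mem_univ i)
      have h2 : β' i ≤ β' i * deg i := Nat.le_mul_of_pos_right _ (hdeg i)
      rw [hβ'] at h1
      exact Nat.lt_succ_of_le (h2.trans h1)
    let βJ : J := fun i => ⟨β' i, hβle i⟩
    have hβJ : ∑ i, (βJ i : ℕ) * deg i = n := hβ'
    have h3 := hC βJ
    rw [away_mk_congr 𝒜 (b j).2 1 (hb βJ hβJ) (mem_one_smul 𝒜 (b βJ)) hx] at h3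
    exact h3

end Main

end Groth.Agent.Lib.helper12.ProjVA4
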