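import Mathlib
import Groth.Agent.Lib.Helper12.QuotDesc

/-!
# A criterion for a commutative square of schemes to be a pushout (helper12)

Square `i₁ : Z ⟶ X`, `i₂ : Z ⟶ Y`, `π₁ : X ⟶ W`, `π₂ : Y ⟶ W`. If `W` carries the quotient topology
of `X ⊔ Y`, the maps out of `X`, `Y` agreeing on `Z` are constant on the fibres, and
`0 → O_W → π₁_* O_X × π₂_* O_Y ⇉ O_Z` is exact on a basis of opens of `W`, then the square is a
pushout in the category of schemes.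
-/

set_option autoImplicit false
universe u
open CategoryTheory TopologicalSpace Opposite AlgebraicGeometry Topology Limits

namespace Groth.Agent.Lib.Helper12.PushoutCrit

theorem appLE_congr_hom {Z T : Scheme.{u}} (k k' : Z ⟶ T) (hk : k = k') (W : T.Opens) (O : Z.Opens)
    (e : O ≤ k ⁻¹ᵁ W) (e' : O ≤ k' ⁻¹ᵁ W) : k.appLE W O e = k'.appLE W O e' := by
  subst hk; rfl

section
variable {Z X Y W : Scheme.{u}} (i₁ : Z ⟶ X) (i₂ : Z ⟶ Y) (π₁ : X ⟶ W) (π₂ : Y ⟶ W)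
  (w : i₁ ≫ π₁ = i₂ ≫ π₂)

include w in
theorem preimage_le (V : W.Opens) : i₁ ⁻¹ᵁ π₁ ⁻¹ᵁ V ≤ i₂ ⁻¹ᵁ π₂ ⁻¹ᵁ V := by
  rw [← Scheme.Hom.comp_preimage, ← Scheme.Hom.comp_preimage, w]

/-- compatibility on `Z` of a pair of sections over the preimages of `V` -/
def Compat (V : W.Opens) (σ₁ : Γ(X, π₁ ⁻¹ᵁ V)) (σ₂ : Γ(Y, π₂ ⁻¹ᵁ V)) : Prop :=
  i₁.app (π₁ ⁻¹ᵁ V) σ₁ =
    i₂.appLE (π₂ ⁻¹ᵁ V) (i₁ ⁻¹ᵁ π₁ ⁻¹ᵁ V) (preimage_le i₁ i₂ π₁ π₂ w V) σ₂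

theorem Compat.restrict {V B : W.Opens} (hB : B ≤ V) {σ₁ : Γ(X, π₁ ⁻¹ᵁ V)} {σ₂ : Γ(Y, π₂ ⁻¹ᵁ V)}
    (h : Compat i₁ i₂ π₁ π₂ w V σ₁ σ₂) :
    Compat i₁ i₂ π₁ π₂ w B (X.presheaf.map (homOfLE (π₁.preimage_mono hB)).op σ₁)
      (Y.presheaf.map (homOfLE (π₂.preimage_mono hB)).op σ₂) := by
  unfold Compat at h ⊢
  have h1 := congrArg (Z.presheaf.map (homOfLE (i₁.preimage_mono (π₁.preimage_mono hB))).op) h
  rw [← ConcreteCategory.comp_apply, ← ConcreteCategory.comp_apply] at h1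
  rw [Scheme.Hom.appLE_map] at h1
  rw [← ConcreteCategory.comp_apply, ← ConcreteCategory.comp_apply, Scheme.Hom.map_appLE,
    i₁.naturality]
  exact h1

variable (ℬ : Set W.Opens)
  (hℬ : ∀ (V : W.Opens) (p : W), p ∈ V → ∃ B ∈ ℬ, p ∈ B ∧ B ≤ V)
  (hS1 : ∀ B ∈ ℬ, ∀ s t : Γ(W, B), π₁.app B s = π₁.app B t → π₂.app B s = π₂.app B t → s = t)
  (hS2 : ∀ B ∈ ℬ, ∀ (σ₁ : Γ(X, π₁ ⁻¹ᵁ B)) (σ₂ : Γ(Y, π₂ ⁻¹ᵁ B)), Compat i₁ i₂ π₁ π₂ w B σ₁ σ₂ →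
    ∃ τ : Γ(W, B), π₁.app B τ = σ₁ ∧ π₂.app B τ = σ₂)

include hℬ hS1 in
/-- joint injectivity over every open -/
theorem jointInj (V : W.Opens) (s t : Γ(W, V)) (h₁ : π₁.app V s = π₁.app V t)
    (h₂ : π₂.app V s = π₂.app V t) : s = t := by
  let I := {B : W.Opens // B ∈ ℬ ∧ B ≤ V}
  refine W.sheaf.eq_of_locally_eq' (fun i : I => i.1) V (fun i => homOfLE i.2.2) ?_ _ _ (fun i => ?_)
  · intro p hp
    obtain ⟨B, hB, hpB, hBV⟩ := hℬ V p hp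
    exact Opens.mem_iSup.mpr ⟨⟨B, hB, hBV⟩, hpB⟩
  · apply hS1 i.1 i.2.1
    · have e := fun r => ConcreteCategory.congr_hom (π₁.naturality (homOfLE i.2.2).op) r
      simp only [ConcreteCategory.comp_apply] at e
      erw [e s, e t, h₁]
    · have e := fun r => ConcreteCategory.congr_hom (π₂.naturality (homOfLE i.2.2).op) r
      simp only [ConcreteCategory.comp_apply] at e
      erw [e s, e t, h₂]

include hℬ hS1 hS2 in
/-- exactness over every open -/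
theorem exists_glue (V : W.Opens) (σ₁ : Γ(X, π₁ ⁻¹ᵁ V)) (σ₂ : Γ(Y, π₂ ⁻¹ᵁ V))
    (hc : Compat i₁ i₂ π₁ π₂ w V σ₁ σ₂) :
    ∃ τ : Γ(W, V), π₁.app V τ = σ₁ ∧ π₂.app V τ = σ₂ := by
  let I := {B : W.Opens // B ∈ ℬ ∧ B ≤ V}
  let U : I → W.Opens := fun i => i.1
  have hU : ∀ i, U i ≤ V := fun i => i.2.2
  have hcover : V ≤ iSup U := by
    intro p hp
    obtain ⟨B, hB, hpB, hBV⟩ := hℬ V p hp
    exact Opens.mem_iSup.mpr ⟨⟨B, hB, hBV⟩, hpB⟩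
  have hτ : ∀ i : I, ∃ τ : Γ(W, U i),
      π₁.app (U i) τ = X.presheaf.map (homOfLE (π₁.preimage_mono (hU i))).op σ₁ ∧
      π₂.app (U i) τ = Y.presheaf.map (homOfLE (π₂.preimage_mono (hU i))).op σ₂ :=
    fun i => hS2 i.1 i.2.1 _ _ (hc.restrict i₁ i₂ π₁ π₂ w (hU i))
  choose τ hτ₁ hτ₂ using hτ
  have hcompat : TopCat.Presheaf.IsCompatible W.presheaf U τ := by
    intro i k
    apply jointInj π₁ π₂ ℬ hℬ hS1 (U i ⊓ U k)
    · rw [← ConcreteCategory.comp_apply, ← ConcreteCategory.comp_apply, π₁.naturality,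
        π₁.naturality, ConcreteCategory.comp_apply, ConcreteCategory.comp_apply, hτ₁, hτ₁,
        ← ConcreteCategory.comp_apply, ← ConcreteCategory.comp_apply, ← Functor.map_comp,
        ← Functor.map_comp]
      rfl
    · rw [← ConcreteCategory.comp_apply, ← ConcreteCategory.comp_apply, π₂.naturality,
        π₂.naturality, ConcreteCategory.comp_apply, ConcreteCategory.comp_apply, hτ₂, hτ₂,
        ← ConcreteCategory.comp_apply, ← ConcreteCategory.comp_apply, ← Functor.map_comp,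
        ← Functor.map_comp]
      rfl
  obtain ⟨t, ht, -⟩ : ∃! s : Γ(W, V), ∀ i, W.presheaf.map (homOfLE (hU i)).op s = τ i :=
    W.sheaf.existsUnique_gluing' U V (fun i => homOfLE (hU i)) hcover τ hcompat
  refine ⟨t, ?_, ?_⟩
  · refine X.sheaf.eq_of_locally_eq' (fun i => π₁ ⁻¹ᵁ U i) (π₁ ⁻¹ᵁ V)
      (fun i => homOfLE (π₁.preimage_mono (hU i))) ?_ _ _ (fun i => ?_)
    · intro x hx
      obtain ⟨i, hi⟩ := Opens.mem_iSup.mp (hcover hx)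
      exact Opens.mem_iSup.mpr ⟨i, hi⟩
    · have h2 := ht i
      change X.presheaf.map (homOfLE (π₁.preimage_mono (hU i))).op (π₁.app V t) =
        X.presheaf.map (homOfLE (π₁.preimage_mono (hU i))).op σ₁
      rw [← hτ₁ i, ← h2]
      exact (ConcreteCategory.congr_hom (π₁.naturality (homOfLE (hU i)).op) t).symm
  · refine Y.sheaf.eq_of_locally_eq' (fun i => π₂ ⁻¹ᵁ U i) (π₂ ⁻¹ᵁ V)
      (fun i => homOfLE (π₂.preimage_mono (hU i))) ?_ _ _ (fun i => ?_)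
    · intro x hx
      obtain ⟨i, hi⟩ := Opens.mem_iSup.mp (hcover hx)
      exact Opens.mem_iSup.mpr ⟨i, hi⟩
    · have h2 := ht i
      change Y.presheaf.map (homOfLE (π₂.preimage_mono (hU i))).op (π₂.app V t) =
        Y.presheaf.map (homOfLE (π₂.preimage_mono (hU i))).op σ₂
      rw [← hτ₂ i, ← h2]
      exact (ConcreteCategory.congr_hom (π₂.naturality (homOfLE (hU i)).op) t).symm

end

section Main
variable {Z X Y W : Scheme.{u}} (i₁ : Z ⟶ X) (i₂ : Z ⟶ Y) (π₁ : X ⟶ W) (π₂ : Y ⟶ W)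
  (w : i₁ ≫ π₁ = i₂ ≫ π₂)
  (hsurj : ∀ p : W, (∃ x : X, π₁.base x = p) ∨ (∃ y : Y, π₂.base y = p))
  (hopen : ∀ s : Set W, IsOpen (π₁.base ⁻¹' s) → IsOpen (π₂.base ⁻¹' s) → IsOpen s)
  (ℬ : Set W.Opens)
  (hℬ : ∀ (V : W.Opens) (p : W), p ∈ V → ∃ B ∈ ℬ, p ∈ B ∧ B ≤ V)
  (hS1 : ∀ B ∈ ℬ, ∀ s t : Γ(W, B), π₁.app B s = π₁.app B t → π₂.app B s = π₂.app B t → s = t)
  (hS2 : ∀ B ∈ ℬ, ∀ (σ₁ : Γ(X, π₁ ⁻¹ᵁ B)) (σ₂ : Γ(Y, π₂ ⁻¹ᵁ B)), Compat i₁ i₂ π₁ π₂ w B σ₁ σ₂ →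
    ∃ τ : Γ(W, B), π₁.app B τ = σ₁ ∧ π₂.app B τ = σ₂)

/-- the map from the disjoint union -/
noncomputable def pi : X ⨿ Y ⟶ W := coprod.desc π₁ π₂

theorem inl_pi : coprod.inl ≫ pi π₁ π₂ = π₁ := coprod.inl_desc _ _
theorem inr_pi : coprod.inr ≫ pi π₁ π₂ = π₂ := coprod.inr_desc _ _

theorem pi_inl (x : X) : (pi π₁ π₂).base ((coprod.inl : X ⟶ X ⨿ Y).base x) = π₁.base x := by
  rw [← Scheme.Hom.comp_apply, inl_pi]

theorem pi_inr (y : Y) : (pi π₁ π₂).base ((coprod.inr : Y ⟶ X ⨿ Y).base y) = π₂.base y := by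
  rw [← Scheme.Hom.comp_apply, inr_pi]

include hsurj hopen in
theorem isQuotientMap_pi : IsQuotientMap (pi π₁ π₂).base := by
  rw [Topology.isQuotientMap_iff]
  refine ⟨Topology.IsCoinducing.of_isOpen_preimage_iff_isOpen (fun s => ⟨fun hs => ?_, fun hs =>
    IsOpen.preimage (pi π₁ π₂).continuous hs⟩), fun p => ?_⟩
  · apply hopen
    · have : π₁.base ⁻¹' s = (coprod.inl : X ⟶ X ⨿ Y).base ⁻¹' ((pi π₁ π₂).base ⁻¹' s) := by
        ext x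
        simp only [Set.mem_preimage]
        rw [pi_inl]
      rw [this]
      exact IsOpen.preimage (coprod.inl : X ⟶ X ⨿ Y).continuous hs
    · have : π₂.base ⁻¹' s = (coprod.inr : Y ⟶ X ⨿ Y).base ⁻¹' ((pi π₁ π₂).base ⁻¹' s) := by
        ext x
        simp only [Set.mem_preimage]
        rw [pi_inr]
      rw [this]
      exact IsOpen.preimage (coprod.inr : Y ⟶ X ⨿ Y).continuous hs
  · rcases hsurj p with ⟨x, rfl⟩ | ⟨y, rfl⟩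
    · exact ⟨_, pi_inl π₁ π₂ x⟩
    · exact ⟨_, pi_inr π₁ π₂ y⟩

theorem app_eq_inl (V : W.Opens) :
    π₁.app V = (pi π₁ π₂).app V ≫ (coprod.inl : X ⟶ X ⨿ Y).appLE ((pi π₁ π₂) ⁻¹ᵁ V) (π₁ ⁻¹ᵁ V)
      (by rw [← Scheme.Hom.comp_preimage, inl_pi]) := by
  rw [Scheme.Hom.app_eq_appLE, Scheme.Hom.app_eq_appLE, Scheme.Hom.appLE_comp_appLE]
  exact appLE_congr_hom _ _ (inl_pi π₁ π₂).symm _ _ _ _

theorem app_eq_inr (V : W.Opens) :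
    π₂.app V = (pi π₁ π₂).app V ≫ (coprod.inr : Y ⟶ X ⨿ Y).appLE ((pi π₁ π₂) ⁻¹ᵁ V) (π₂ ⁻¹ᵁ V)
      (by rw [← Scheme.Hom.comp_preimage, inr_pi]) := by
  rw [Scheme.Hom.app_eq_appLE, Scheme.Hom.app_eq_appLE, Scheme.Hom.appLE_comp_appLE]
  exact appLE_congr_hom _ _ (inr_pi π₁ π₂).symm _ _ _ _

include hℬ hS1 in
theorem app_pi_injective (V : W.Opens) : Function.Injective ((pi π₁ π₂).app V) := by
  intro s t hst
  apply jointInj π₁ π₂ ℬ hℬ hS1 V s t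
  · rw [app_eq_inl π₁ π₂ V, ConcreteCategory.comp_apply, ConcreteCategory.comp_apply, hst]
  · rw [app_eq_inr π₁ π₂ V, ConcreteCategory.comp_apply, ConcreteCategory.comp_apply, hst]

section Desc
variable {T : Scheme.{u}} (a : X ⟶ T) (b : Y ⟶ T) (hab : i₁ ≫ a = i₂ ≫ b)
  (hf₁ : ∀ x x' : X, π₁.base x = π₁.base x' → a.base x = a.base x')
  (hf₂ : ∀ y y' : Y, π₂.base y = π₂.base y' → b.base y = b.base y')
  (hf₁₂ : ∀ (x : X) (y : Y), π₁.base x = π₂.base y → a.base x = b.base y)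

/-- the map from the disjoint union to the test scheme -/
noncomputable def gg : X ⨿ Y ⟶ T := coprod.desc a b

theorem inl_gg : coprod.inl ≫ gg a b = a := coprod.inl_desc _ _
theorem inr_gg : coprod.inr ≫ gg a b = b := coprod.inr_desc _ _

theorem gg_inl (x : X) : (gg a b).base ((coprod.inl : X ⟶ X ⨿ Y).base x) = a.base x := by
  rw [← Scheme.Hom.comp_apply, inl_gg]

theorem gg_inr (y : Y) : (gg a b).base ((coprod.inr : Y ⟶ X ⨿ Y).base y) = b.base y := by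
  rw [← Scheme.Hom.comp_apply, inr_gg]

include hf₁ hf₂ hf₁₂ in
theorem hfib (p p' : (X ⨿ Y : Scheme.{u})) (h : (pi π₁ π₂).base p = (pi π₁ π₂).base p') :
    (gg a b).base p = (gg a b).base p' := by
  obtain ⟨q, rfl⟩ := (coprodMk X Y).surjective p
  obtain ⟨q', rfl⟩ := (coprodMk X Y).surjective p'
  rcases q with x | y <;> rcases q' with x' | y'
  · rw [coprodMk_inl, coprodMk_inl] at h ⊢
    rw [pi_inl, pi_inl] at h
    rw [gg_inl, gg_inl]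
    exact hf₁ _ _ h
  · rw [coprodMk_inl, coprodMk_inr] at h ⊢
    rw [pi_inl, pi_inr] at h
    rw [gg_inl, gg_inr]
    exact hf₁₂ _ _ h
  · rw [coprodMk_inr, coprodMk_inl] at h ⊢
    rw [pi_inr, pi_inl] at h
    rw [gg_inr, gg_inl]
    exact (hf₁₂ _ _ h.symm).symm
  · rw [coprodMk_inr, coprodMk_inr] at h ⊢
    rw [pi_inr, pi_inr] at h
    rw [gg_inr, gg_inr]
    exact hf₂ _ _ h

include hℬ hS1 hS2 hab in
theorem hrange (V : W.Opens) (O : T.Opens) (e : (pi π₁ π₂) ⁻¹ᵁ V ≤ (gg a b) ⁻¹ᵁ O) (s : Γ(T, O)) :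
    (gg a b).appLE O ((pi π₁ π₂) ⁻¹ᵁ V) e s ∈ Set.range ((pi π₁ π₂).app V) := by
  have e₁ : π₁ ⁻¹ᵁ V ≤ a ⁻¹ᵁ O := by
    have := (coprod.inl : X ⟶ X ⨿ Y).preimage_mono e
    rwa [← Scheme.Hom.comp_preimage, ← Scheme.Hom.comp_preimage, inl_pi, inl_gg] at this
  have e₂ : π₂ ⁻¹ᵁ V ≤ b ⁻¹ᵁ O := by
    have := (coprod.inr : Y ⟶ X ⨿ Y).preimage_mono e
    rwa [← Scheme.Hom.comp_preimage, ← Scheme.Hom.comp_preimage, inr_pi, inr_gg] at this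
  obtain ⟨τ, hτ₁, hτ₂⟩ := exists_glue i₁ i₂ π₁ π₂ w ℬ hℬ hS1 hS2 V
    (a.appLE O (π₁ ⁻¹ᵁ V) e₁ s) (b.appLE O (π₂ ⁻¹ᵁ V) e₂ s) (by
      unfold Compat
      rw [← ConcreteCategory.comp_apply, ← ConcreteCategory.comp_apply, Scheme.Hom.app_eq_appLE,
        Scheme.Hom.appLE_comp_appLE, Scheme.Hom.appLE_comp_appLE]
      exact ConcreteCategory.congr_hom (appLE_congr_hom _ _ hab _ _ _ _) s)
  refine ⟨τ, ?_⟩
  refine (coprodOpenCover.{u, 0} X Y).ext_elem _ _ (fun i => ?_)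
  rcases i with ⟨⟩ | ⟨⟩
  · change (coprod.inl : X ⟶ X ⨿ Y).app _ _ = (coprod.inl : X ⟶ X ⨿ Y).app _ _
    have h1 := congrArg (X.presheaf.map (homOfLE (show (coprod.inl : X ⟶ X ⨿ Y) ⁻¹ᵁ
      ((pi π₁ π₂) ⁻¹ᵁ V) ≤ π₁ ⁻¹ᵁ V by rw [← Scheme.Hom.comp_preimage, inl_pi])).op) hτ₁
    rw [← ConcreteCategory.comp_apply, ← ConcreteCategory.comp_apply, Scheme.Hom.appLE_map,
      Scheme.Hom.app_eq_appLE, Scheme.Hom.appLE_map] at h1
    rw [← ConcreteCategory.comp_apply, ← ConcreteCategory.comp_apply, Scheme.Hom.app_eq_appLE,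
      Scheme.Hom.app_eq_appLE, Scheme.Hom.appLE_comp_appLE, Scheme.Hom.appLE_comp_appLE]
    rw [appLE_congr_hom _ _ (inl_pi π₁ π₂) V _ _ (by rw [← Scheme.Hom.comp_preimage, inl_pi]),
      appLE_congr_hom _ _ (inl_gg a b) O _ _ (by
        rw [← Scheme.Hom.comp_preimage, inl_pi]; exact e₁)]
    exact h1
  · change (coprod.inr : Y ⟶ X ⨿ Y).app _ _ = (coprod.inr : Y ⟶ X ⨿ Y).app _ _
    have h1 := congrArg (Y.presheaf.map (homOfLE (show (coprod.inr : Y ⟶ X ⨿ Y) ⁻¹ᵁ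
      ((pi π₁ π₂) ⁻¹ᵁ V) ≤ π₂ ⁻¹ᵁ V by rw [← Scheme.Hom.comp_preimage, inr_pi])).op) hτ₂
    rw [← ConcreteCategory.comp_apply, ← ConcreteCategory.comp_apply, Scheme.Hom.appLE_map,
      Scheme.Hom.app_eq_appLE, Scheme.Hom.appLE_map] at h1
    rw [← ConcreteCategory.comp_apply, ← ConcreteCategory.comp_apply, Scheme.Hom.app_eq_appLE,
      Scheme.Hom.app_eq_appLE, Scheme.Hom.appLE_comp_appLE, Scheme.Hom.appLE_comp_appLE]
    rw [appLE_congr_hom _ _ (inr_pi π₁ π₂) V _ _ (by rw [← Scheme.Hom.comp_preimage, inr_pi]),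
      appLE_congr_hom _ _ (inr_gg a b) O _ _ (by
        rw [← Scheme.Hom.comp_preimage, inr_pi]; exact e₂)]
    exact h1

/-- the induced morphism out of `W` -/
noncomputable def desc : W ⟶ T :=
  QuotDesc.Sch.desc (pi π₁ π₂) (gg a b) (isQuotientMap_pi π₁ π₂ hsurj hopen)
    (hfib π₁ π₂ a b hf₁ hf₂ hf₁₂) (app_pi_injective π₁ π₂ ℬ hℬ hS1)
    (hrange i₁ i₂ π₁ π₂ w ℬ hℬ hS1 hS2 a b hab)

theorem pi_desc : pi π₁ π₂ ≫ desc i₁ i₂ π₁ π₂ w hsurj hopen ℬ hℬ hS1 hS2 a b hab hf₁ hf₂ hf₁₂ =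
    gg a b :=
  QuotDesc.Sch.comp_desc _ _ _ _ _ _

theorem inl_desc : π₁ ≫ desc i₁ i₂ π₁ π₂ w hsurj hopen ℬ hℬ hS1 hS2 a b hab hf₁ hf₂ hf₁₂ = a := by
  have h := congrArg (fun k => (coprod.inl : X ⟶ X ⨿ Y) ≫ k)
    (pi_desc i₁ i₂ π₁ π₂ w hsurj hopen ℬ hℬ hS1 hS2 a b hab hf₁ hf₂ hf₁₂)
  rwa [← Category.assoc, inl_pi, inl_gg] at h

theorem inr_desc : π₂ ≫ desc i₁ i₂ π₁ π₂ w hsurj hopen ℬ hℬ hS1 hS2 a b hab hf₁ hf₂ hf₁₂ = b := by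
  have h := congrArg (fun k => (coprod.inr : Y ⟶ X ⨿ Y) ≫ k)
    (pi_desc i₁ i₂ π₁ π₂ w hsurj hopen ℬ hℬ hS1 hS2 a b hab hf₁ hf₂ hf₁₂)
  rwa [← Category.assoc, inr_pi, inr_gg] at h

end Desc

include hsurj hopen hℬ hS1 in
theorem hom_ext {T : Scheme.{u}} (k₁ k₂ : W ⟶ T) (h₁ : π₁ ≫ k₁ = π₁ ≫ k₂)
    (h₂ : π₂ ≫ k₁ = π₂ ≫ k₂) : k₁ = k₂ := by
  refine QuotDesc.Sch.uniq (pi π₁ π₂) (isQuotientMap_pi π₁ π₂ hsurj hopen)
    (app_pi_injective π₁ π₂ ℬ hℬ hS1) k₁ k₂ ?_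
  apply coprod.hom_ext
  · rw [← Category.assoc, ← Category.assoc, inl_pi, h₁]
  · rw [← Category.assoc, ← Category.assoc, inr_pi, h₂]

include hsurj hopen hℬ hS1 hS2 in
/-- **Pushout criterion**, general fibre condition. -/
theorem isPushout
    (hfibre : ∀ {T : Scheme.{u}} (a : X ⟶ T) (b : Y ⟶ T), i₁ ≫ a = i₂ ≫ b →
      (∀ x x' : X, π₁.base x = π₁.base x' → a.base x = a.base x') ∧
      (∀ y y' : Y, π₂.base y = π₂.base y' → b.base y = b.base y') ∧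
      (∀ (x : X) (y : Y), π₁.base x = π₂.base y → a.base x = b.base y)) :
    IsPushout i₁ i₂ π₁ π₂ := by
  refine ⟨⟨w⟩, ⟨PushoutCocone.IsColimit.mk _ (fun s => ?_) (fun s => ?_) (fun s => ?_)
    (fun s m h₁ h₂ => ?_)⟩⟩
  · exact desc i₁ i₂ π₁ π₂ w hsurj hopen ℬ hℬ hS1 hS2 s.inl s.inr s.condition
      (hfibre s.inl s.inr s.condition).1 (hfibre s.inl s.inr s.condition).2.1
      (hfibre s.inl s.inr s.condition).2.2
  · exact inl_desc _ _ _ _ _ _ _ _ _ _ _ _ _ _ _ _ _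
  · exact inr_desc _ _ _ _ _ _ _ _ _ _ _ _ _ _ _ _ _
  · apply hom_ext π₁ π₂ hsurj hopen ℬ hℬ hS1
    · rw [h₁]; exact (inl_desc _ _ _ _ _ _ _ _ _ _ _ _ _ _ _ _ _).symm
    · rw [h₂]; exact (inr_desc _ _ _ _ _ _ _ _ _ _ _ _ _ _ _ _ _).symm

include hsurj hopen hℬ hS1 hS2 in
/-- **Pushout criterion** when `π₁`, `π₂` are injective and meet exactly along `Z`. -/
theorem isPushout_of_injective (hπ₁ : Function.Injective π₁.base)
    (hπ₂ : Function.Injective π₂.base)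
    (hmeet : ∀ (x : X) (y : Y), π₁.base x = π₂.base y → ∃ z : Z, i₁.base z = x ∧ i₂.base z = y) :
    IsPushout i₁ i₂ π₁ π₂ := by
  refine isPushout i₁ i₂ π₁ π₂ w hsurj hopen ℬ hℬ hS1 hS2 (fun a b hab => ⟨?_, ?_, ?_⟩)
  · intro x x' h
    rw [hπ₁ h]
  · intro y y' h
    rw [hπ₂ h]
  · intro x y h
    obtain ⟨z, rfl, rfl⟩ := hmeet x y h
    rw [← Scheme.Hom.comp_apply, ← Scheme.Hom.comp_apply, hab]

end Main

end Groth.Agent.Lib.Helper12.PushoutCrit
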