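import Mathlib
import Groth.Agent.Lib.Helper12.Ferrand5

/-!
# Fibres of integral morphisms in quasi-affine schemes lie in affine opens (helper12)

`exists_basicOpen_of_integral`: `T` quasi-affine, `i' : Z' ⟶ T` a closed immersion, `j' : Z' ⟶ Y'`
integral with `Y'` affine; then every fibre of `j'` lies in `i' ⁻¹ (T.basicOpen c)` for an affine
basic open.  `isQuasiAffine_of_lqf`: ZMT consequence.  `exists_affine_of_lqf`: the hypothesis on
fibres needed for Ferrand pushouts is inherited by a separated locally quasi-finite base change.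
-/

set_option autoImplicit false
universe u
open CategoryTheory AlgebraicGeometry Opposite TopologicalSpace PrimeSpectrum Limits

namespace Groth.Agent.Lib.Helper12.QAffAvoid
open Ferrand Ferrand1 Ferrand5

/-- ideal of global sections whose nonvanishing locus in `Spec Γ` lies inside `T`. -/
noncomputable def K (T : Scheme.{u}) : Ideal Γ(T, ⊤) :=
  PrimeSpectrum.vanishingIdeal (Set.range T.toSpecΓ)ᶜ

variable {T : Scheme.{u}} [T.IsQuasiAffine]

omit [T.IsQuasiAffine] in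
theorem basicOpen_subset_range (c : Γ(T, ⊤)) (hc : c ∈ K T) :
    (PrimeSpectrum.basicOpen c : Set (PrimeSpectrum Γ(T, ⊤))) ⊆ Set.range T.toSpecΓ := by
  intro p hp
  by_contra hcon
  exact hp ((PrimeSpectrum.mem_vanishingIdeal _ _).mp hc p hcon)

set_option backward.isDefEq.respectTransparency.types false in
theorem isAffineOpen_of_mem_K (c : Γ(T, ⊤)) (hc : c ∈ K T) : IsAffineOpen (T.basicOpen c) := by
  rw [← Scheme.toSpecΓ_preimage_basicOpen]
  rw [← Scheme.Hom.isAffineOpen_iff_of_isOpenImmersion T.toSpecΓ]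
  convert! IsAffineOpen.Spec_basicOpen c
  exact SetLike.coe_injective (Set.image_preimage_eq_of_subset (basicOpen_subset_range c hc))

set_option backward.isDefEq.respectTransparency.types false in
theorem exists_mem_K (x : T) (O : T.Opens) (hx : x ∈ O) :
    ∃ c ∈ K T, x ∈ T.basicOpen c ∧ T.basicOpen c ≤ O := by
  obtain ⟨_, ⟨_, ⟨r, rfl⟩, rfl⟩, hxr, hrU⟩ := (PrimeSpectrum.isBasis_basic_opens
    (R := Γ(T, ⊤))).exists_subset_of_mem_open (Set.mem_image_of_mem _ hx) (T.toSpecΓ ''ᵁ O).2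
  refine ⟨r, ?_, ?_, ?_⟩
  · rw [K, PrimeSpectrum.mem_vanishingIdeal]
    intro p hp
    by_contra hcon
    exact hp (Set.image_subset_range _ _ (hrU hcon))
  · rw [← Scheme.toSpecΓ_preimage_basicOpen]
    exact hxr
  · rw [← Scheme.toSpecΓ_preimage_basicOpen]
    exact (Set.preimage_mono hrU).trans_eq
      (Set.preimage_image_eq _ T.toSpecΓ.isEmbedding.injective)


variable {Z' Y' : Scheme.{u}} (i' : Z' ⟶ T) [IsClosedImmersion i'] (j' : Z' ⟶ Y')

theorem absorb [IsAffine Z'] (a : Γ(T, ⊤)) (ha : a ∈ K T) (d : Γ(Z', ⊤)) :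
    ∃ a' ∈ K T, ∃ N : ℕ, i'.appTop.hom a' = i'.appTop.hom a ^ (N + 1) * d := by
  have haff := isAffineOpen_of_mem_K a ha
  obtain ⟨t, ht⟩ := i'.app_surjective (T.basicOpen a) haff
    ((Z'.presheaf.map (homOfLE le_top).op).hom d)
  obtain ⟨n, y, hy⟩ := exists_eq_pow_mul_of_isCompact_of_isQuasiSeparated T ⊤ isCompact_univ
    isQuasiSeparated_univ a t
  have e0 : i' ⁻¹ᵁ T.basicOpen a = Z'.basicOpen (i'.appTop.hom a) :=
    Scheme.preimage_basicOpen_top i' a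
  have h1 : (Z'.presheaf.map (homOfLE (le_top : i' ⁻¹ᵁ T.basicOpen a ≤ ⊤)).op).hom
      (i'.appTop.hom y) = (Z'.presheaf.map (homOfLE (le_top : i' ⁻¹ᵁ T.basicOpen a ≤ ⊤)).op).hom
      (i'.appTop.hom a ^ n * d) := by
    have nat : ∀ s : Γ(T, ⊤), (i'.app (T.basicOpen a)).hom
        ((T.presheaf.map (homOfLE (le_top : T.basicOpen a ≤ ⊤)).op).hom s) =
        (Z'.presheaf.map (homOfLE (le_top : i' ⁻¹ᵁ T.basicOpen a ≤ ⊤)).op).hom
          (i'.appTop.hom s) := fun s => by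
      have := i'.naturality (homOfLE (le_top : T.basicOpen a ≤ ⊤)).op
      exact congr($(this).hom s)
    have hy' := congrArg (i'.app (T.basicOpen a)).hom hy
    dsimp only [TopCat.Presheaf.restrictOpenCommRingCat_apply] at hy'
    rw [map_mul, map_pow] at hy'
    erw [nat y, nat a] at hy'
    rw [hy', ht, map_mul, map_pow]
  have h2 : (i'.appTop.hom y) |_ Z'.basicOpen (i'.appTop.hom a) =
      (i'.appTop.hom a ^ n * d) |_ Z'.basicOpen (i'.appTop.hom a) := by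
    have h1' := congrArg (Z'.presheaf.map (homOfLE e0.ge).op).hom h1
    rw [res_res, res_res] at h1'
    exact h1'
  obtain ⟨m, hm⟩ := exists_of_res_eq_of_qcqs_of_top h2
  refine ⟨a * a ^ m * y, Ideal.mul_mem_right _ _ (Ideal.mul_mem_right _ _ ha), m + n, ?_⟩
  rw [map_mul, map_mul, map_pow, mul_assoc, hm]
  ring


omit [IsClosedImmersion i'] in
theorem span_K [IsAffine Z'] :
    Ideal.span (i'.appTop.hom '' (K T : Set Γ(T, ⊤))) = ⊤ := by
  rw [← (isAffineOpen_top Z').self_le_iSup_basicOpen_iff]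
  intro z hz
  obtain ⟨c, hcK, hzc, -⟩ := exists_mem_K (i' z) ⊤ trivial
  refine Opens.mem_iSup.mpr ⟨⟨_, c, hcK, rfl⟩, ?_⟩
  change z ∈ Z'.basicOpen (i'.appTop.hom c)
  rw [← Scheme.preimage_basicOpen_top]
  exact hzc

/-- **Fibres of an integral morphism from a closed subscheme of a quasi-affine scheme lie in
affine (basic) opens.** -/
theorem exists_basicOpen_of_integral [IsAffine Y'] [IsIntegralHom j'] (y' : Y') :
    ∃ c : Γ(T, ⊤), IsAffineOpen (T.basicOpen c) ∧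
      j' ⁻¹' {y'} ⊆ (i' ⁻¹ᵁ (T.basicOpen c) : Set Z') := by
  have : IsAffine Z' := isAffine_of_isAffineHom j'
  have hV₁ := isAffineOpen_top Y'
  have hW := isAffineOpen_top Z'
  obtain ⟨p, hp⟩ := exists_fromSpec_eq hV₁ y' trivial
  have hφ : j'.appTop.hom.IsIntegral := j'.isIntegral_app _ hV₁
  have : p.asIdeal.IsPrime := p.isPrime
  obtain ⟨a, haK, ha⟩ := exists_avoiding j'.appTop.hom hφ i'.appTop.hom (K T)
    (absorb i') (span_K i') p.asIdeal
  refine ⟨a, isAffineOpen_of_mem_K a haK, fun z hz => ?_⟩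
  have hzy : j' z = y' := hz
  obtain ⟨q, hq⟩ := exists_fromSpec_eq hW z trivial
  have hcomap : q.asIdeal.comap j'.appTop.hom = p.asIdeal := by
    have e : Spec.map j'.appTop q = p := by
      apply hV₁.fromSpec.isOpenEmbedding.injective
      rw [hp, ← Scheme.Hom.comp_apply]
      have := IsAffineOpen.SpecMap_appLE_fromSpec j' hV₁ hW le_rfl
      have e2 : Scheme.Hom.appLE j' ⊤ ⊤ le_rfl = j'.appTop := by
        rw [Scheme.Hom.appTop, Scheme.Hom.app_eq_appLE]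
        rfl
      rw [e2] at this
      rw [this, Scheme.Hom.comp_apply, hq, hzy]
    rw [← e]
    rfl
  have h1 := ha q.asIdeal q.isPrime hcomap
  have h2 : z ∈ Z'.basicOpen (i'.appTop.hom a) := by
    rw [← hq]; exact (fromSpec_mem_basicOpen hW _ q).mpr h1
  rw [← Scheme.preimage_basicOpen_top] at h2
  exact h2


theorem isQuasiAffine_of_lqf {T S : Scheme.{u}} (q : T ⟶ S) [IsAffine S] [LocallyQuasiFinite q]
    [LocallyOfFiniteType q] [IsSeparated q] [QuasiCompact q] : T.IsQuasiAffine := by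
  have : IsAffine q.normalization := isAffine_of_isAffineHom q.fromNormalization
  have : CompactSpace T := QuasiCompact.compactSpace_of_compactSpace q
  exact Scheme.IsQuasiAffine.of_isImmersion q.toNormalization

/-- a compact subset of an open of a scheme lies in a quasi-compact open inside it -/
theorem exists_compact_open_between {S : Scheme.{u}} (K : Set S) (hK : IsCompact K) (O : S.Opens)
    (hKO : K ⊆ (O : Set S)) : ∃ O' : S.Opens, IsCompact (O' : Set S) ∧ K ⊆ (O' : Set S) ∧ O' ≤ O := by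
  have : ∀ x : K, ∃ A : S.Opens, IsAffineOpen A ∧ x.1 ∈ A ∧ A ≤ O := fun x => by
    obtain ⟨_, ⟨A, hA, rfl⟩, hxA, hAO⟩ := S.isBasis_affineOpens.exists_subset_of_mem_open
      (hKO x.2) O.2
    exact ⟨A, hA, hxA, hAO⟩
  choose A hA hxA hAO using this
  obtain ⟨t, ht⟩ := hK.elim_finite_subcover (fun x : K => (A x : Set S)) (fun x => (A x).2)
    (fun x hx => Set.mem_iUnion.mpr ⟨⟨x, hx⟩, hxA _⟩)
  refine ⟨⨆ x ∈ t, A x, ?_, ?_, ?_⟩
  · simp only [Opens.coe_iSup]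
    exact t.isCompact_biUnion (fun x _ => (hA x).isCompact)
  · simpa only [Opens.coe_iSup] using ht
  · exact iSup₂_le (fun x _ => hAO x)

theorem exists_affine_of_lqf {X Y Z X' Y' Z' : Scheme.{u}}
    (i : Z ⟶ X) (j : Z ⟶ Y)
    (i' : Z' ⟶ X') [IsClosedImmersion i'] (j' : Z' ⟶ Y') [IsIntegralHom j'] (f : X' ⟶ X)
    (g : Y' ⟶ Y) (h : Z' ⟶ Z)
    (hX : h ≫ i = i' ≫ f) (hY : h ≫ j = j' ≫ g)
    [IsSeparated f] [LocallyQuasiFinite f] [LocallyOfFiniteType f]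
    (y' : Y') (U₀ : X.Opens) (hU₀ : IsAffineOpen U₀)
    (hfib : j ⁻¹' {g y'} ⊆ (i ⁻¹ᵁ U₀ : Set Z)) :
    ∃ U' : X'.Opens, IsAffineOpen U' ∧ j' ⁻¹' {y'} ⊆ (i' ⁻¹ᵁ U' : Set Z') := by
  -- Step A
  have hfibA : j' ⁻¹' {y'} ⊆ (i' ⁻¹ᵁ (f ⁻¹ᵁ U₀) : Set Z') := by
    intro z hz
    have hzy : j' z = y' := hz
    have h1 : h z ∈ j ⁻¹' {g y'} := by
      change j (h z) = g y'
      rw [← Scheme.Hom.comp_apply, hY, Scheme.Hom.comp_apply, hzy]
    have h2 : i (h z) ∈ U₀ := hfib h1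
    rw [← Scheme.Hom.comp_apply, hX, Scheme.Hom.comp_apply] at h2
    exact h2
  -- Step B
  obtain ⟨V₀, hV₀, hyV₀, -⟩ :=
    exists_isAffineOpen_mem_and_subset (X := Y') (x := y') (U := ⊤) trivial
  obtain ⟨g₀, hyg, hgle⟩ := exists_basicOpen_preimage_le j' hV₀ y' hyV₀ (i' ⁻¹ᵁ (f ⁻¹ᵁ U₀)) hfibA
  have hV' : IsAffineOpen (Y'.basicOpen g₀) := hV₀.basicOpen g₀
  have hW' : IsAffineOpen (j' ⁻¹ᵁ Y'.basicOpen g₀) := hV'.preimage j'
  -- Step C
  obtain ⟨O, hO, hOW⟩ := i'.isEmbedding.isInducing.isOpen_iff.mp (j' ⁻¹ᵁ Y'.basicOpen g₀).2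
  let O' : X'.Opens := ⟨O, hO⟩ ⊓ f ⁻¹ᵁ U₀
  have hK : IsCompact (i' '' (j' ⁻¹ᵁ Y'.basicOpen g₀ : Set Z')) :=
    hW'.isCompact.image i'.continuous
  have hKO : i' '' (j' ⁻¹ᵁ Y'.basicOpen g₀ : Set Z') ⊆ (O' : Set X') := by
    rintro _ ⟨z, hz, rfl⟩
    refine ⟨?_, hgle hz⟩
    have : z ∈ i' ⁻¹' O := by rw [hOW]; exact hz
    exact this
  obtain ⟨X₃, hX₃c, hKX₃, hX₃O⟩ := exists_compact_open_between _ hK O' hKO
  have e : i' ⁻¹ᵁ X₃ = j' ⁻¹ᵁ Y'.basicOpen g₀ := by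
    apply le_antisymm
    · intro z hz
      have h1 : i' z ∈ O := (hX₃O hz).1
      have : z ∈ i' ⁻¹' O := h1
      rw [hOW] at this
      exact this
    · intro z hz
      exact hKX₃ ⟨z, hz, rfl⟩
  -- Step D
  have hle : X₃ ≤ f ⁻¹ᵁ U₀ := hX₃O.trans inf_le_right
  have : IsAffine U₀.toScheme := hU₀
  have hq : f.resLE U₀ X₃ hle ≫ U₀.ι = X₃.ι ≫ f := Scheme.Hom.resLE_comp_ι f hle
  have : LocallyQuasiFinite (f.resLE U₀ X₃ hle ≫ U₀.ι) := by rw [hq]; infer_instance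
  have : LocallyOfFiniteType (f.resLE U₀ X₃ hle ≫ U₀.ι) := by rw [hq]; infer_instance
  have : IsSeparated (f.resLE U₀ X₃ hle ≫ U₀.ι) := by rw [hq]; infer_instance
  have : LocallyQuasiFinite (f.resLE U₀ X₃ hle) := LocallyQuasiFinite.of_comp _ U₀.ι
  have : LocallyOfFiniteType (f.resLE U₀ X₃ hle) := locallyOfFiniteType_of_comp _ U₀.ι
  have : IsSeparated (f.resLE U₀ X₃ hle) := IsSeparated.of_comp _ U₀.ι
  have : CompactSpace X₃.toScheme := isCompact_iff_compactSpace.mp hX₃c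
  have : X₃.toScheme.IsQuasiAffine := isQuasiAffine_of_lqf (f.resLE U₀ X₃ hle)
  -- Step E
  have : IsAffine (Y'.basicOpen g₀).toScheme := hV'
  let j'' : (i' ⁻¹ᵁ X₃).toScheme ⟶ (Y'.basicOpen g₀).toScheme :=
    (Z'.isoOfEq e).hom ≫ j' ∣_ Y'.basicOpen g₀
  have hj'' : j'' ≫ (Y'.basicOpen g₀).ι = (i' ⁻¹ᵁ X₃).ι ≫ j' := by
    simp only [j'', Category.assoc, morphismRestrict_ι, Scheme.isoOfEq_hom_ι_assoc]
  have hi'' : (i' ∣_ X₃) ≫ X₃.ι = (i' ⁻¹ᵁ X₃).ι ≫ i' := morphismRestrict_ι i' X₃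
  obtain ⟨y'', hy''⟩ : ∃ y'' : (Y'.basicOpen g₀).toScheme, (Y'.basicOpen g₀).ι y'' = y' :=
    ⟨⟨y', hyg⟩, rfl⟩
  obtain ⟨c, hc, hfibc⟩ := exists_basicOpen_of_integral (i' ∣_ X₃) j'' y''
  refine ⟨X₃.ι ''ᵁ (X₃.toScheme.basicOpen c), hc.image_of_isOpenImmersion X₃.ι, fun z hz => ?_⟩
  have hzy : j' z = y' := hz
  have hzW : z ∈ i' ⁻¹ᵁ X₃ := by
    rw [e]
    change j' z ∈ Y'.basicOpen g₀
    rw [hzy]; exact hyg
  obtain ⟨z'', hz''⟩ : ∃ z'' : (i' ⁻¹ᵁ X₃).toScheme, (i' ⁻¹ᵁ X₃).ι z'' = z := ⟨⟨z, hzW⟩, rfl⟩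
  have h1 : z'' ∈ j'' ⁻¹' {y''} := by
    change j'' z'' = y''
    apply (Y'.basicOpen g₀).ι.isOpenEmbedding.injective
    rw [← Scheme.Hom.comp_apply, hj'', Scheme.Hom.comp_apply, hz'', hy'']
    exact hzy
  have h2 := hfibc h1
  refine ⟨(i' ∣_ X₃) z'', h2, ?_⟩
  rw [← hz'']
  change X₃.ι ((i' ∣_ X₃) z'') = i' ((i' ⁻¹ᵁ X₃).ι z'')
  rw [← Scheme.Hom.comp_apply, hi'', Scheme.Hom.comp_apply]

end Groth.Agent.Lib.Helper12.QAffAvoid
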