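import Mathlib
import Groth.Agent.Lib.Helper12.AmpleEventually
import Groth.Agent.Lib.Helper12.PullAmpleRel
import Groth.Agent.Lib.Helper12.AmpleSep

/-!
# Relative ampleness and composition (helper12; EGA II 4.6.13 (ii), S2331)

* `isInvertible_of_isRelAmple`.
* `isAmple_tensor_pullback_tensorPow_eventually`: `K` ample on `Y`, `L` ample relative to `f : X ⟶ Y` ⇒
  `L ⊗ (f^*K)^{⊗ n}` ample for large `n`.
* `isRelAmple_comp_tensor_pullback_powers` (S2331).
-/

set_option autoImplicit false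
universe u

open CategoryTheory CategoryTheory.Limits AlgebraicGeometry Opposite TopologicalSpace MonoidalCategory

namespace Groth.Agent.Lib.helper12.RelAmpleComp

open Groth.Agent.Lib.helper12.PullTensor Groth.Agent.Lib.helper12.PullAmple
open Groth.Agent.Lib.helper12.PullAmpleRel Groth.Agent.Lib.helper12.AmpleEventually
open Groth.Agent.Lib.helper12.TensorInv Groth.Agent.Lib.helper12.AmplePow
open Groth.Agent.Lib.helper12.AmpleBasis Groth.Agent.Lib.helper12.AmpleBasis2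
open Groth.Agent.Lib.helper12.AmpleLocal Groth.Agent.Lib.helper12.AmpleSep
open Groth.Agent.Lib.helper12.AmpleRestrict Groth.Agent.Lib.helper12.TensorRestrict
open Groth.Agent.Lib.helper11.InvMod Groth.Agent.Lib.helper11.GenLocus
open Groth.Agent.Lib.helper11.InvPullback
open Scheme.Modules

variable {X Y : Scheme.{u}}

theorem isInvertible_of_isRelAmple (f : X ⟶ Y) {L : X.Modules} (hL : RelAmple.IsRelAmple f L) :
    PicF.IsInvertible L := by
  refine isInvertible_of_cover (fun V : Y.affineOpens => f ⁻¹ᵁ V.1) ?_ (fun V => (hL.2 V).1)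
  rw [eq_top_iff]
  intro x _
  obtain ⟨V, hV, hyV, -⟩ := (Opens.isBasis_iff_nbhd.mp Y.isBasis_affineOpens)
    (show f x ∈ (⊤ : Y.Opens) from trivial)
  exact Opens.mem_iSup.mpr ⟨⟨V, hV⟩, hyV⟩

/-- `K` ample on `Y`, `L` ample relative to `f : X ⟶ Y` ⇒ `L ⊗ (f^*K)^{⊗ n}` ample for large `n`. -/
theorem isAmple_tensor_pullback_tensorPow_eventually (f : X ⟶ Y) [QuasiCompact f]
    {L : X.Modules} {K : Y.Modules} (hL : RelAmple.IsRelAmple f L) (hK : CohB1.IsAmple K) :
    ∃ n₀ : ℕ, 0 < n₀ ∧ ∀ n, n₀ ≤ n →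
      CohB1.IsAmple (CohB1.tensorMod L (CohB1.tensorPow ((Scheme.Modules.pullback f).obj K) n)) := by
  have hcY : CompactSpace Y := hK.2.1
  have hsY : QuasiSeparatedSpace Y := quasiSeparatedSpace_of_hasAffineCover hK.1 hK.2.2
  have hcX : CompactSpace X := QuasiCompact.compactSpace_of_compactSpace f
  have hsf : IsSeparated f := isSeparated_of_isRelAmple f hL
  have hsX : QuasiSeparatedSpace X := quasiSeparatedSpace_of_quasiSeparated f
  refine isAmple_tensor_tensorPow_eventually (isInvertible_of_isRelAmple f hL)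
    (isInvertible_pullback f hK.1) fun x => ?_
  obtain ⟨a, t, hyt, haff⟩ := hK.2.2 (f x)
  refine ⟨a, pullSec f hK.1 (a + 1) t, ?_, ?_⟩
  · rw [genLocus_pullSec]; exact hyt
  · have h1 := hL.2 ⟨_, haff⟩
    refine (isAmple_restrict_iff_of_range_eq _ _ ?_ L).mp h1
    rw [Scheme.Opens.range_ι, Scheme.Opens.range_ι, genLocus_pullSec]

section Comp

variable {Z : Scheme.{u}} (f : X ⟶ Y) (g : Y ⟶ Z) [QuasiCompact f] [QuasiCompact g]

/-- Step 1 of S2331: over one affine open `W` of `Z`. -/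
theorem exists_isAmple_restrict {L : X.Modules} {K : Y.Modules}
    (hL : RelAmple.IsRelAmple f L) (hK : RelAmple.IsRelAmple g K) (W : Z.Opens)
    (hW : IsAffineOpen W) :
    ∃ n₀ : ℕ, 0 < n₀ ∧ ∀ n, n₀ ≤ n → CohB1.IsAmple
      ((CohB1.tensorMod L ((Scheme.Modules.pullback f).obj (CohB1.tensorPow K n))).restrict
        ((f ≫ g) ⁻¹ᵁ W).ι) := by
  let YW : Y.Opens := g ⁻¹ᵁ W
  let XW : X.Opens := f ⁻¹ᵁ YW
  let fW := f ∣_ YW
  have hKW : CohB1.IsAmple (K.restrict YW.ι) := hK.2 ⟨W, hW⟩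
  have hLW : RelAmple.IsRelAmple fW (L.restrict XW.ι) :=
    ⟨inferInstance, fun V' => (isAmple_restrict_morphismRestrict_iff f L YW V'.1).mpr
      (hL.2 ⟨YW.ι ''ᵁ V'.1, V'.2.image_of_isOpenImmersion _⟩)⟩
  obtain ⟨n₀, hpos, h⟩ := isAmple_tensor_pullback_tensorPow_eventually fW hLW hKW
  refine ⟨n₀, hpos, fun n hn => ?_⟩
  let e₂ : ((Scheme.Modules.pullback f).obj (CohB1.tensorPow K n)).restrict XW.ι ≅
      CohB1.tensorPow ((Scheme.Modules.pullback fW).obj (K.restrict YW.ι)) n :=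
    pullRestrictIso XW.ι f fW YW.ι (morphismRestrict_ι f YW).symm (CohB1.tensorPow K n) ≪≫
      (Scheme.Modules.pullback fW).mapIso (restrictTensorPowIso YW.ι K n) ≪≫
      pullTensorPowIso fW hKW.1 n
  let e : (CohB1.tensorMod L ((Scheme.Modules.pullback f).obj (CohB1.tensorPow K n))).restrict XW.ι ≅
      CohB1.tensorMod (L.restrict XW.ι)
        (CohB1.tensorPow ((Scheme.Modules.pullback fW).obj (K.restrict YW.ι)) n) :=
    restrictTensorIso XW.ι L _ ≪≫
      Groth.Agent.Lib.Lead.ModTensor.tensorIso (Iso.refl _) e₂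
  exact isAmple_of_iso e.symm (h n hn)

/-- **S2331 / EGA II 4.6.13 (ii)**. -/
theorem isRelAmple_comp_tensor_pullback_powers [CompactSpace Z] {L : X.Modules} {K : Y.Modules}
    (hL : RelAmple.IsRelAmple f L) (hK : RelAmple.IsRelAmple g K) :
    ∃ n₀ : ℕ, 0 < n₀ ∧ ∀ n, n₀ ≤ n → RelAmple.IsRelAmple (f ≫ g)
      (CohB1.tensorMod L ((Scheme.Modules.pullback f).obj (CohB1.tensorPow K n))) := by
  have step := fun W : Z.affineOpens => exists_isAmple_restrict f g hL hK W.1 W.2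
  choose N hNpos hN using step
  obtain ⟨t, ht⟩ := isCompact_univ.elim_finite_subcover
    (fun W : Z.affineOpens => (W.1 : Set Z)) (fun W => W.1.2)
    (fun z _ => by
      obtain ⟨W, hW, hzW, -⟩ := (Opens.isBasis_iff_nbhd.mp Z.isBasis_affineOpens)
        (show z ∈ (⊤ : Z.Opens) from trivial)
      exact Set.mem_iUnion.mpr ⟨⟨W, hW⟩, hzW⟩)
  refine ⟨t.sup N + 1, Nat.succ_pos _, fun n hn => ?_⟩
  have hU : ⨆ W : {W // W ∈ t}, (W.1.1 : Z.Opens) = ⊤ := by
    rw [eq_top_iff]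
    intro z _
    obtain ⟨W, hWt, hzW⟩ := Set.mem_iUnion₂.mp (ht (Set.mem_univ z))
    exact Opens.mem_iSup.mpr ⟨⟨W, hWt⟩, hzW⟩
  rw [isRelAmple_iff_of_openCover (f ≫ g) _ (fun W : {W // W ∈ t} => (W.1.1 : Z.Opens)) hU]
  intro W
  have : IsAffine (↑(W.1.1 : Z.Opens) : Scheme.{u}) := W.1.2
  rw [isRelAmple_iff_isAmple_of_isAffine]
  exact hN W.1 n (le_trans (le_trans (Finset.le_sup (f := N) W.2) (Nat.le_succ _)) hn)

end Comp

end Groth.Agent.Lib.helper12.RelAmpleComp
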