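import Mathlib
import Groth.Agent.Lib.Helper5.ConsMor1
import Groth.Agent.Lib.Helper11.AmpleLim3
import Groth.Agent.Lib.Helper11.AmpOver
import Groth.Agent.Lib.Helper11.RelAmpSq
import Groth.Agent.Lib.Helper12.RelAmpleComp

/-!
# Quasi-projectivity as a property of morphisms: base change and descent to a stage of a limit (helper12)

`QP f := RelProj.IsQuasiProjective f` (of finite type with a relatively ample invertible module).
* `qp_of_isPullback`, instances `RespectsIso`, `IsStableUnderBaseChange`.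
* `limDescends_QP`: EGA IV 8.10.5 (xiv)-type statement: quasi-projectivity descends to a stage of a cofiltered limit
  with affine transition maps.
-/

set_option autoImplicit false
set_option linter.style.haveILetI false
set_option backward.isDefEq.respectTransparency false
universe u
open CategoryTheory CategoryTheory.Limits AlgebraicGeometry TopologicalSpace
open Scheme.Modules

namespace Groth.Agent.Lib.helper12.QProjInd

open Groth.Agent.Lib.helper11.InvMod Groth.Agent.Lib.helper9 Groth.Agent.Lib.helper11.HomDescPP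
  Groth.Agent.Lib.helper12.AmplePow Groth.Agent.Lib.helper11.RelAmpLocus

/-- quasi-projectivity as a morphism property -/
def QP : MorphismProperty Scheme.{u} := fun _ _ f => RelProj.IsQuasiProjective f

theorem qp_iff {X Y : Scheme.{u}} (f : X ⟶ Y) : QP f ↔ RelProj.IsQuasiProjective f := Iff.rfl

theorem qp_of_isPullback {X Y X' Y' : Scheme.{u}} {f : X ⟶ Y} {f' : X' ⟶ Y'} {b : X' ⟶ X}
    {a : Y' ⟶ Y} (sq : IsPullback b f' f a) (h : QP f) : QP f' := by
  obtain ⟨h1, h2, L, hL⟩ := h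
  haveI := h1
  haveI := h2
  exact ⟨MorphismProperty.of_isPullback (P := @LocallyOfFiniteType) sq h1,
    MorphismProperty.of_isPullback (P := @QuasiCompact) sq h2,
    _, isRelAmple_of_isPullback sq hL⟩

instance : QP.{u}.RespectsIso :=
  MorphismProperty.RespectsIso.mk _
    (fun e f hf => qp_of_isPullback (f := f) (b := e.hom) (a := 𝟙 _)
      (IsPullback.of_horiz_isIso ⟨by simp⟩) hf)
    (fun e f hf => qp_of_isPullback (f := f) (b := 𝟙 _) (a := e.inv)
      (IsPullback.of_horiz_isIso ⟨by simp⟩) hf)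

instance : QP.{u}.IsStableUnderBaseChange :=
  MorphismProperty.IsStableUnderBaseChange.of_forall_exists_isPullback
    (fun {X Y Z} f g _ hg => ⟨pullback g f, pullback.snd g f, pullback.fst g f,
      (IsPullback.of_hasPullback g f).flip, qp_of_isPullback (IsPullback.of_hasPullback g f) hg⟩)

/-- pulling back along an isomorphism and back -/
noncomputable def cancelIso {A B : Scheme.{u}} (e : A ≅ B) (M : A.Modules) :
    (Scheme.Modules.pullback e.hom).obj ((Scheme.Modules.pullback e.inv).obj M) ≅ M :=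
  (ηcomp e.hom e.inv (𝟙 A) e.hom_inv_id).app M ≪≫ (pullbackId A).app M

theorem limDescends_QP : Groth.Agent.Lib.helper5.FGLimit.LimDescends.{u} QP := by
  intro I _ _ D c hc hD i₀ _ _ X₀ Y₀ f₀ g₀ _ _ _ _ _ X Y f g qY qX hY hX hQ
  obtain ⟨-, hqc, L, hL⟩ := hQ
  haveI := hqc
  have hLinv : PicF.IsInvertible L :=
    Groth.Agent.Lib.helper12.RelAmpleComp.isInvertible_of_isRelAmple f hL
  haveI : ∀ {i j : I} (φ : i ⟶ j), IsAffineHom (D.map φ) := fun φ => hD _ _ φ
  let t : X₀ ⟶ D.obj i₀ := f₀ ≫ g₀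
  have sqX : IsPullback qX (f ≫ g) t (c.π.app i₀) := hX.paste_vert hY
  let D₁ := bcDiagram D i₀ t
  let c₁ := bcCone D c i₀ t
  have hc₁ : IsLimit c₁ := isLimitBcCone D c i₀ t hc
  let e : X ≅ pullback (c.π.app i₀) t := sqX.flip.isoPullback
  have he_snd : e.hom ≫ pullback.snd (c.π.app i₀) t = qX := sqX.flip.isoPullback_hom_snd
  have he_fst : e.hom ≫ pullback.fst (c.π.app i₀) t = f ≫ g := sqX.flip.isoPullback_hom_fst
  let L₁ : c₁.pt.Modules := (Scheme.Modules.pullback e.inv).obj L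
  have hL₁ : PicF.IsInvertible L₁ := isInvertible_pullback _ hLinv
  let i₁ : Over i₀ := Over.mk (𝟙 i₀)
  haveI : CompactSpace ↥(D₁.obj i₁) :=
    QuasiCompact.compactSpace_of_compactSpace (pullback.snd (D.map i₁.hom) t)
  haveI : QuasiSeparatedSpace ↥(D₁.obj i₁) :=
    quasiSeparatedSpace_of_quasiSeparated (pullback.snd (D.map i₁.hom) t)
  obtain ⟨j, -, Lj, hLj, ⟨iso⟩⟩ := exists_invertible_stage D₁ c₁ hc₁ i₁ L₁ hL₁
  -- the family at the stage `j.left`
  let pY₁ := pullback.fst g₀ (D.map j.hom)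
  let g₁ := pullback.snd g₀ (D.map j.hom)
  let pX₁ := pullback.fst f₀ pY₁
  let f₁ := pullback.snd f₀ pY₁
  have sqY₁ : IsPullback pY₁ g₁ g₀ (D.map j.hom) := IsPullback.of_hasPullback _ _
  have sqX₁' : IsPullback pX₁ f₁ f₀ pY₁ := IsPullback.of_hasPullback _ _
  have sqX₁ : IsPullback pX₁ (f₁ ≫ g₁) t (D.map j.hom) := sqX₁'.paste_vert sqY₁
  let θ : pullback f₀ pY₁ ≅ pullback (D.map j.hom) t := sqX₁.flip.isoPullback
  have hθ_snd : θ.hom ≫ pullback.snd (D.map j.hom) t = pX₁ := sqX₁.flip.isoPullback_hom_snd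
  have hθ_fst : θ.hom ≫ pullback.fst (D.map j.hom) t = f₁ ≫ g₁ := sqX₁.flip.isoPullback_hom_fst
  let L₁' : (pullback f₀ pY₁).Modules := (Scheme.Modules.pullback θ.hom).obj Lj
  have hL₁' : PicF.IsInvertible L₁' := isInvertible_pullback _ hLj
  have hπ : c.π.app j.left ≫ D.map j.hom = c.π.app i₀ := c.w j.hom
  let qY₁ : Y ⟶ pullback g₀ (D.map j.hom) :=
    pullback.lift qY (g ≫ c.π.app j.left) (by rw [hY.w, Category.assoc, hπ])
  have hqY₁_fst : qY₁ ≫ pY₁ = qY := pullback.lift_fst _ _ _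
  have hqY₁_snd : qY₁ ≫ g₁ = g ≫ c.π.app j.left := pullback.lift_snd _ _ _
  have hY₁ : IsPullback qY₁ g g₁ (c.π.app j.left) := by
    refine IsPullback.of_right ?_ hqY₁_snd sqY₁
    rw [hqY₁_fst, hπ]
    exact hY
  let qX₁ : X ⟶ pullback f₀ pY₁ :=
    pullback.lift qX (f ≫ qY₁) (by rw [hX.w, Category.assoc, hqY₁_fst])
  have hqX₁_fst : qX₁ ≫ pX₁ = qX := pullback.lift_fst _ _ _
  have hqX₁_snd : qX₁ ≫ f₁ = f ≫ qY₁ := pullback.lift_snd _ _ _
  have hX₁ : IsPullback qX₁ f f₁ qY₁ := by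
    refine IsPullback.of_right ?_ hqX₁_snd sqX₁'
    rw [hqX₁_fst, hqY₁_fst]
    exact hX
  -- compatibility of the two maps to the stage
  have hcomm : e.hom ≫ c₁.π.app j = qX₁ ≫ θ.hom := by
    apply pullback.hom_ext
    · have h1 : c₁.π.app j ≫ pullback.fst (D.map j.hom) t =
          pullback.fst (c.π.app i₀) t ≫ c.π.app j.left := by
        simp [c₁, pullback.map]
      rw [Category.assoc, h1, reassoc_of% he_fst, Category.assoc, hθ_fst,
        reassoc_of% hqX₁_snd, hqY₁_snd]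
    · have h1 : c₁.π.app j ≫ pullback.snd (D.map j.hom) t = pullback.snd (c.π.app i₀) t := by
        simp [c₁, pullback.map]
      rw [Category.assoc, h1, he_snd, Category.assoc, hθ_snd, hqX₁_fst]
  have isoL : L ≅ (Scheme.Modules.pullback qX₁).obj L₁' :=
    (cancelIso e L).symm ≪≫ (Scheme.Modules.pullback e.hom).mapIso iso.symm ≪≫
      (ηcomp e.hom (c₁.π.app j) _ rfl).app Lj ≪≫ (pullbackCongr hcomm).app Lj ≪≫
      ((ηcomp qX₁ θ.hom _ rfl).app Lj).symm
  have h : RelAmple.IsRelAmple f ((Scheme.Modules.pullback qX₁).obj L₁') :=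
    Groth.Agent.Lib.helper12.AmpleCoprod.isRelAmple_of_iso f isoL hL
  haveI : CompactSpace ↥(D.obj j.left) := QuasiCompact.compactSpace_of_compactSpace (D.map j.hom)
  obtain ⟨j₂, φ₂, hamp⟩ := Groth.Agent.Lib.helper11.AmpleLim.exists_isRelAmple_stage D c hc j.left
    f₁ g₁ L₁' hL₁' f g qY₁ qX₁ hY₁ hX₁ h
  refine ⟨j₂, φ₂ ≫ j.hom, _, _, pullback.snd f₁ (pullback.fst g₁ (D.map φ₂)),
    pullback.snd g₁ (D.map φ₂), pullback.fst g₁ (D.map φ₂) ≫ pY₁,
    pullback.fst f₁ (pullback.fst g₁ (D.map φ₂)) ≫ pX₁, ?_, ?_, ?_, ?_, _, hamp⟩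
  · rw [D.map_comp]
    exact (IsPullback.of_hasPullback g₁ (D.map φ₂)).paste_horiz sqY₁
  · exact (IsPullback.of_hasPullback f₁ (pullback.fst g₁ (D.map φ₂))).paste_horiz sqX₁'
  · infer_instance
  · infer_instance

end Groth.Agent.Lib.helper12.QProjInd
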