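import Mathlib
import Groth.Agent.Lib.Helper12.QProjInd1
import Groth.Agent.Lib.Helper12.NormInv4
import Groth.Agent.Lib.Helper12.NormInv5
import Groth.Agent.Lib.Helper12.PullAmpleRel
import Groth.Agent.Lib.Helper5.ConsMor1

/-!
# Quasi-projectivity is an ind-constructible property of morphisms of algebraic schemes (helper12)

* `exists_isRelAmple_of_finite_flat`: EGA II 6.6.2-type descent of the existence of a relatively ample module along a finite
  locally free surjective cover of the source.
* `qp_of_finite_flat_cover`: quasi-projectivity descends along a finite locally free surjective base change of the target.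
* `isFieldStableMor_QP`, `isIndConsMor_QP`.
-/

set_option autoImplicit false
set_option linter.style.haveILetI false
set_option backward.isDefEq.respectTransparency false
universe u
open CategoryTheory CategoryTheory.Limits AlgebraicGeometry TopologicalSpace

namespace Groth.Agent.Lib.helper12.QProjInd

open Groth.Agent.Lib.helper5.ConsFibre Groth.Agent.Lib.helper5.FGLimit

/-- descent of the existence of a relatively ample invertible module along a finite locally free surjective morphism
(the norm of a relatively ample module is relatively ample). -/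
theorem exists_isRelAmple_of_finite_flat {X X' Y : Scheme.{u}} (f : X ⟶ Y) [QuasiCompact f]
    (g : X' ⟶ X) [IsFinite g] [Flat g] [LocallyOfFinitePresentation g] [Surjective g]
    (L' : X'.Modules) (hL' : PicF.IsInvertible L') (hamp : RelAmple.IsRelAmple (g ≫ f) L') :
    ∃ L : X.Modules, PicF.IsInvertible L ∧ RelAmple.IsRelAmple f L := by
  obtain ⟨-, hamp⟩ := hamp
  let Nr := Groth.Agent.Lib.helper12.NormInv.PreNorm.ofFinLocFree g
  let ι := {U : X.Opens // IsAffineOpen U ∧
    Groth.Agent.Lib.helper11.InvMod.IsTrivOn L' (g ⁻¹ᵁ U)}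
  let U : ι → X.Opens := fun a => a.1
  have hbasis : ∀ (O : X.Opens) (y : X), y ∈ O → ∃ a : ι, y ∈ U a ∧ U a ≤ O := by
    intro O y hy
    obtain ⟨W, hyW, hTW⟩ := Groth.Agent.Lib.Helper18.PicGlue.exists_isTrivOn_preimage g hL' y
    obtain ⟨V, hV, hyV, hVW⟩ := TopologicalSpace.Opens.isBasis_iff_nbhd.mp X.isBasis_affineOpens
      (show y ∈ W ⊓ O from ⟨hyW, hy⟩)
    exact ⟨⟨V, hV, Groth.Agent.Lib.helper11.InvMod.IsTrivOn.of_le
      (g.preimage_mono (hVW.trans inf_le_left)) hTW⟩, hyV, hVW.trans inf_le_right⟩
  have hU : iSup U = ⊤ := by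
    rw [eq_top_iff]
    intro y _
    obtain ⟨a, hya, -⟩ := hbasis ⊤ y trivial
    exact TopologicalSpace.Opens.mem_iSup.mpr ⟨a, hya⟩
  choose e he using fun a : ι =>
    Groth.Agent.Lib.Helper12.NormSec.exists_isGen_of_isTrivOn a.2.2 le_rfl
  obtain ⟨N, n, hN, hn, hrel⟩ := Groth.Agent.Lib.helper12.NormInv.exists_normMod Nr U e he hU
  refine ⟨N, hN, inferInstance, fun V => ?_⟩
  exact Groth.Agent.Lib.helper12.NormInv.isAmple_restrict_of_normData g g.surjective Nr U
    (fun a => a.2.1) hbasis e he hN n hn hrel (f ⁻¹ᵁ V.1) (hamp V)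

/-- a module ample relative to `f` is ample relative to `f ≫ π` for `π` affine. -/
theorem isRelAmple_comp_of_isAffineHom {X Y Z : Scheme.{u}} (f : X ⟶ Y) (π : Y ⟶ Z) [IsAffineHom π]
    {L : X.Modules} (hL : RelAmple.IsRelAmple f L) : RelAmple.IsRelAmple (f ≫ π) L := by
  obtain ⟨hqc, hL⟩ := hL
  haveI := hqc
  exact ⟨inferInstance, fun V => hL ⟨π ⁻¹ᵁ V.1, V.2.preimage π⟩⟩

/-- quasi-projectivity descends along a finite locally free surjective base change of the target. -/
theorem qp_of_finite_flat_cover {X Y X₂ Y₂ : Scheme.{u}} {f : X ⟶ Y} {f₂ : X₂ ⟶ Y₂} {πX : X₂ ⟶ X}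
    {πY : Y₂ ⟶ Y} (sq : IsPullback πX f₂ f πY) [IsFinite πY] [Flat πY]
    [LocallyOfFinitePresentation πY] [Surjective πY] [LocallyOfFiniteType f] [QuasiCompact f]
    (h : QP f₂) : QP f := by
  obtain ⟨-, -, L₂, hL₂⟩ := h
  haveI : IsFinite πX := MorphismProperty.of_isPullback (P := @IsFinite) sq.flip ‹_›
  haveI : Flat πX := MorphismProperty.of_isPullback (P := @Flat) sq.flip ‹_›
  haveI : LocallyOfFinitePresentation πX :=
    MorphismProperty.of_isPullback (P := @LocallyOfFinitePresentation) sq.flip ‹_›
  haveI : Surjective πX := MorphismProperty.of_isPullback (P := @Surjective) sq.flip ‹_›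
  have h1 : RelAmple.IsRelAmple (f₂ ≫ πY) L₂ := isRelAmple_comp_of_isAffineHom f₂ πY hL₂
  rw [← sq.w] at h1
  obtain ⟨L, -, hL⟩ := exists_isRelAmple_of_finite_flat f πX L₂
    (Groth.Agent.Lib.helper12.RelAmpleComp.isInvertible_of_isRelAmple _ h1) h1
  exact ⟨inferInstance, inferInstance, L, hL⟩

theorem isFieldStableMor_QP : ConsProp.IsFieldStableMor (fun X Y T f g => QP.{u} f) := by
  intro X X' Y Y' T T' f g f' g' eX eY h _ _ _ _ _ _ _ _ sqY sqX
  constructor
  · exact qp_of_isPullback sqX
  · intro hQ'
    haveI : IsNoetherian T := isNoetherian_of_subsingleton T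
    haveI : IsNoetherian Y := isNoetherian_of_lft g
    haveI : IsNoetherian X := isNoetherian_of_lft (f ≫ g)
    haveI : LocallyOfFinitePresentation g :=
      (LocallyOfFinitePresentation.iff_locallyOfFiniteType).mpr inferInstance
    haveI : LocallyOfFinitePresentation (f ≫ g) :=
      (LocallyOfFinitePresentation.iff_locallyOfFiniteType).mpr inferInstance
    haveI : LocallyOfFiniteType f := locallyOfFiniteType_of_comp f g
    haveI : QuasiCompact f := quasiCompact_of_isNoetherian f
    obtain ⟨S₁, p, j, hS₁i, hS₁a, hp, hjp, hgen, H⟩ :=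
      (geomSpreads_of_limDescends limDescends_QP) (f ≫ g) g h (sqX.paste_vert sqY) sqY f rfl
        f' hQ' rfl sqX.w.symm
    haveI := hS₁i
    haveI := hS₁a
    haveI := hp
    -- the family over `S₁`
    have hQ₁ : QP (pullback.snd f (pullback.fst g p)) :=
      H (pullback.fst f (pullback.fst g p)) (pullback.snd f (pullback.fst g p) ≫ pullback.snd g p)
        (pullback.fst g p) (pullback.snd g p) (pullback.snd f (pullback.fst g p))
        ((IsPullback.of_hasPullback f (pullback.fst g p)).paste_vert (IsPullback.of_hasPullback g p))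
        (IsPullback.of_hasPullback g p) rfl pullback.condition.symm
    -- a closed point of `S₁`
    obtain ⟨x, -, hx⟩ := IsClosed.exists_closed_singleton (isClosed_univ (X := ↥S₁)) Set.univ_nonempty
    haveI : IsClosedImmersion (S₁.fromSpecResidueField x) :=
      isClosed_singleton_iff_isClosedImmersion.mp hx
    let ι₁ := S₁.fromSpecResidueField x
    let p₂ := ι₁ ≫ p
    haveI : LocallyOfFiniteType p₂ := inferInstance
    haveI : IsFinite p₂ := isFinite_iff_locallyOfFiniteType_of_jacobsonSpace.mpr inferInstance
    haveI : Flat p₂ := inferInstance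
    haveI : Surjective p₂ := (fpqc_of_subsingleton p₂).1.1
    haveI : LocallyOfFinitePresentation p₂ :=
      (LocallyOfFinitePresentation.iff_locallyOfFiniteType).mpr inferInstance
    -- the family over the closed point
    have hQ₂ : QP (pullback.snd (pullback.snd f (pullback.fst g p))
        (pullback.fst (pullback.snd g p) ι₁)) :=
      qp_of_isPullback (IsPullback.of_hasPullback _ _) hQ₁
    have sqY₂ : IsPullback (pullback.fst (pullback.snd g p) ι₁ ≫ pullback.fst g p)
        (pullback.snd (pullback.snd g p) ι₁) g p₂ :=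
      (IsPullback.of_hasPullback (pullback.snd g p) ι₁).paste_horiz (IsPullback.of_hasPullback g p)
    have sqX₂ : IsPullback (pullback.fst (pullback.snd f (pullback.fst g p))
          (pullback.fst (pullback.snd g p) ι₁) ≫ pullback.fst f (pullback.fst g p))
        (pullback.snd (pullback.snd f (pullback.fst g p)) (pullback.fst (pullback.snd g p) ι₁)) f
        (pullback.fst (pullback.snd g p) ι₁ ≫ pullback.fst g p) :=
      (IsPullback.of_hasPullback (pullback.snd f (pullback.fst g p))
        (pullback.fst (pullback.snd g p) ι₁)).paste_horiz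
        (IsPullback.of_hasPullback f (pullback.fst g p))
    haveI : IsFinite (pullback.fst (pullback.snd g p) ι₁ ≫ pullback.fst g p) :=
      MorphismProperty.of_isPullback (P := @IsFinite) sqY₂.flip ‹_›
    haveI : Flat (pullback.fst (pullback.snd g p) ι₁ ≫ pullback.fst g p) :=
      MorphismProperty.of_isPullback (P := @Flat) sqY₂.flip ‹_›
    haveI : LocallyOfFinitePresentation (pullback.fst (pullback.snd g p) ι₁ ≫ pullback.fst g p) :=
      MorphismProperty.of_isPullback (P := @LocallyOfFinitePresentation) sqY₂.flip ‹_›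
    haveI : Surjective (pullback.fst (pullback.snd g p) ι₁ ≫ pullback.fst g p) :=
      MorphismProperty.of_isPullback (P := @Surjective) sqY₂.flip ‹_›
    exact qp_of_finite_flat_cover sqX₂ hQ₂

theorem isIndConsMor_QP : ConsProp.IsIndConsMor (fun X Y T f g => QP.{u} f) :=
  isIndConsMor_of_limDescends isFieldStableMor_QP limDescends_QP

end Groth.Agent.Lib.helper12.QProjInd
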