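import Mathlib
import Groth.Agent.Lib.Helper12.QProjInd2
import Groth.Agent.Lib.Helper12.VAmple4
import Groth.Agent.Lib.Helper12.VAmple5
import Groth.Agent.Lib.Helper12.AmpleRestrict
import Groth.Agent.Lib.Helper19.ProjSpaceProper
import Groth.Agent.S0086

/-!
# (Quasi-)projectivity over a field descends along arbitrary field extensions (helper12)

EGA IV 9.1.5-type statements: if `X ⊗_k K` embeds in a projective space over `K`, then `X` embeds in a projective
space over `k`.
-/

set_option autoImplicit false
set_option linter.style.haveILetI false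
set_option backward.isDefEq.respectTransparency false
universe u
open CategoryTheory CategoryTheory.Limits AlgebraicGeometry TopologicalSpace

namespace Groth.Agent.Lib.helper12.QProjInd

open Groth.Agent.Lib.helper5.ConsFibre

/-- a quasi-projective morphism to an affine scheme factors through an immersion into a projective space. -/
theorem exists_immersion_of_qp {X S : Scheme.{u}} [IsAffine S] (p : X ⟶ S) (h : QP p) :
    ∃ (n : ℕ) (i : X ⟶ CohB1.ProjSpaceOver n S),
      IsImmersion i ∧ i ≫ CohB1.ProjSpaceOver.toBase n S = p := by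
  obtain ⟨h1, h2, L, hL⟩ := h
  haveI := h1
  haveI := h2
  have hamp : CohB1.IsAmple L :=
    (Groth.Agent.Lib.helper12.AmpleRestrict.isRelAmple_iff_isAmple_of_isAffine p L).mp hL
  obtain ⟨n₀, hn⟩ := Groth.Agent.Lib.helper12.VAmple4.isRelVeryAmplePn_tensorPow_eventually p hamp
  obtain ⟨n, i, hi, hip, -⟩ := hn n₀ le_rfl
  exact ⟨n, i, hi, hip⟩

/-- a morphism to a locally Noetherian scheme which factors through an immersion into a projective space is
quasi-projective. -/
theorem qp_of_immersion {X S : Scheme.{u}} [IsLocallyNoetherian S] (p : X ⟶ S) (n : ℕ)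
    (i : X ⟶ CohB1.ProjSpaceOver n S) [IsImmersion i]
    (hi : i ≫ CohB1.ProjSpaceOver.toBase n S = p) : QP p := by
  haveI : IsLocallyNoetherian (CohB1.ProjSpaceOver n S) :=
    LocallyOfFiniteType.isLocallyNoetherian (CohB1.ProjSpaceOver.toBase n S)
  haveI : QuasiCompact i := by
    rw [← i.liftCoborder_ι]
    infer_instance
  haveI : LocallyOfFiniteType p := by
    rw [← hi]
    infer_instance
  haveI : QuasiCompact p := by
    rw [← hi]
    infer_instance
  refine ⟨inferInstance, inferInstance, _,
    Groth.Agent.Lib.helper12.VAmple5.isRelAmple_of_isRelVeryAmplePn p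
      ⟨n, i, inferInstance, hi, ⟨Iso.refl _⟩⟩⟩

variable {k : Type u} [Field k] {X : Scheme.{u}} (p : X ⟶ Spec (CommRingCat.of k))
  (K : Type u) [Field K] [Algebra k K]

theorem fpqc_specMap_field :
    (@Surjective ⊓ @Flat ⊓ @QuasiCompact : MorphismProperty Scheme.{u})
      (Spec.map (CommRingCat.ofHom (algebraMap k K))) :=
  fpqc_of_subsingleton _

/-- quasi-projectivity over a field descends along field extensions. -/
theorem qp_of_qp_field_ext
    (h : QP (pullback.snd p (Spec.map (CommRingCat.ofHom (algebraMap k K))))) : QP p := by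
  set φ := Spec.map (CommRingCat.ofHom (algebraMap k K)) with hφdef
  have hφ := fpqc_specMap_field (k := k) K
  rw [← hφdef] at hφ
  have sq : IsPullback (pullback.fst p φ) (pullback.snd p φ) p φ := IsPullback.of_hasPullback _ _
  obtain ⟨h1, h2, -⟩ := id h
  haveI := h1
  haveI := h2
  haveI hlft : LocallyOfFiniteType p :=
    MorphismProperty.of_isPullback_of_descendsAlong (P := @LocallyOfFiniteType)
      (Q := (@Surjective ⊓ @Flat ⊓ @QuasiCompact : MorphismProperty Scheme.{u})) sq.flip hφ h1
  haveI : Surjective φ := hφ.1.1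
  haveI : Surjective (pullback.fst p φ) :=
    MorphismProperty.of_isPullback (P := @Surjective) sq.flip ‹_›
  haveI : CompactSpace ↥(pullback p φ) :=
    QuasiCompact.compactSpace_of_compactSpace (pullback.snd p φ)
  haveI : CompactSpace ↥X :=
    (pullback.fst p φ).surjective.compactSpace (pullback.fst p φ).continuous
  haveI hqc : QuasiCompact p := HasAffineProperty.iff_of_isAffine.mpr ‹_›
  have sqY : IsPullback φ (𝟙 (Spec (CommRingCat.of K))) (𝟙 (Spec (CommRingCat.of k))) φ :=
    IsPullback.of_vert_isIso ⟨by simp⟩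
  exact (isFieldStableMor_QP p (𝟙 _) (pullback.snd p φ) (𝟙 _) (pullback.fst p φ) φ φ sqY sq).mpr h

/-- EGA IV 9.1.5, quasi-projective case. -/
theorem exists_immersion_of_field_ext
    (h : ∃ (n : ℕ) (i : pullback p (Spec.map (CommRingCat.ofHom (algebraMap k K))) ⟶
        CohB1.ProjSpaceOver n (Spec (CommRingCat.of K))),
      IsImmersion i ∧ i ≫ CohB1.ProjSpaceOver.toBase n (Spec (CommRingCat.of K)) =
        pullback.snd p (Spec.map (CommRingCat.ofHom (algebraMap k K)))) :
    ∃ (n : ℕ) (i : X ⟶ CohB1.ProjSpaceOver n (Spec (CommRingCat.of k))),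
      IsImmersion i ∧ i ≫ CohB1.ProjSpaceOver.toBase n (Spec (CommRingCat.of k)) = p := by
  obtain ⟨n, i, hi, hip⟩ := h
  haveI := hi
  exact exists_immersion_of_qp p (qp_of_qp_field_ext p K (qp_of_immersion _ n i hip))

/-- EGA IV 9.1.5, projective case. -/
theorem exists_closedImmersion_of_field_ext
    (h : ∃ (n : ℕ) (i : pullback p (Spec.map (CommRingCat.ofHom (algebraMap k K))) ⟶
        CohB1.ProjSpaceOver n (Spec (CommRingCat.of K))),
      IsClosedImmersion i ∧ i ≫ CohB1.ProjSpaceOver.toBase n (Spec (CommRingCat.of K)) =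
        pullback.snd p (Spec.map (CommRingCat.ofHom (algebraMap k K)))) :
    ∃ (n : ℕ) (i : X ⟶ CohB1.ProjSpaceOver n (Spec (CommRingCat.of k))),
      IsClosedImmersion i ∧ i ≫ CohB1.ProjSpaceOver.toBase n (Spec (CommRingCat.of k)) = p := by
  have hφ := fpqc_specMap_field (k := k) K
  obtain ⟨n, i, hi, hip⟩ := h
  haveI := hi
  have himm : IsImmersion i := inferInstance
  obtain ⟨m, j, hj, hjp⟩ := exists_immersion_of_field_ext p K ⟨n, i, himm, hip⟩
  haveI := hj
  have sq : IsPullback (pullback.fst p (Spec.map (CommRingCat.ofHom (algebraMap k K))))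
      (pullback.snd p (Spec.map (CommRingCat.ofHom (algebraMap k K)))) p
      (Spec.map (CommRingCat.ofHom (algebraMap k K))) := IsPullback.of_hasPullback _ _
  have hprop' : IsProper (pullback.snd p (Spec.map (CommRingCat.ofHom (algebraMap k K)))) := by
    rw [← hip]
    infer_instance
  haveI := Groth.Agent.S0086.result.{u}
  haveI hprop : IsProper p :=
    MorphismProperty.of_isPullback_of_descendsAlong (P := @IsProper)
      (Q := (@Surjective ⊓ @Flat ⊓ @QuasiCompact : MorphismProperty Scheme.{u})) sq.flip hφ hprop'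
  haveI : IsProper (j ≫ CohB1.ProjSpaceOver.toBase m (Spec (CommRingCat.of k))) := by
    rw [hjp]
    exact hprop
  haveI : IsProper j := IsProper.of_comp j (CohB1.ProjSpaceOver.toBase m (Spec (CommRingCat.of k)))
  exact ⟨m, j, IsClosedImmersion.of_isPreimmersion j j.isClosedMap.isClosed_range, hjp⟩

end Groth.Agent.Lib.helper12.QProjInd
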