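import Mathlib
import Groth.Agent.Lib.Helper12.GTwistAmple
import Groth.Agent.Lib.Helper12.AmpleLocal
import Groth.Agent.Lib.Helper28.RelTwistChart
import Groth.Agent.Lib.Helper28.RelTwistExists
import Groth.Agent.S8261

/-!
# `O(1)` on a relative Proj generated in degree one is relatively ample (helper12; EGA II 4.6.x / 5.5.1)
-/

set_option autoImplicit false
set_option backward.isDefEq.respectTransparency false
universe u

open CategoryTheory CategoryTheory.Limits AlgebraicGeometry Opposite TopologicalSpace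
open Scheme.Modules

namespace Groth.Agent.Lib.helper12.RelProjAmple

open Groth.Agent.Lib.helper12.AmpleLocal Groth.Agent.Lib.helper12.AmplePow
  Groth.Agent.Lib.helper28.RelTwistChart

theorem isRelAmple_relTwist {Y P : Scheme.{u}} (𝒮 : RelProj.QCGrAlg Y)
    (hgen : 𝒮.IsGenDegOne) (hft : 𝒮.IsFTDeg 1) (p : P ⟶ Y)
    (chart : ∀ (U : Y.Opens) (hU : IsAffineOpen U),
      (((p ⁻¹ᵁ U : P.Opens) : Scheme.{u}) ≅ Proj (𝒮.deg U hU)))
    (hP : RelProj.IsRelProj 𝒮 p chart) (L : P.Modules)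
    (lam : ∀ (U : Y.Opens) (hU : IsAffineOpen U),
      L ⟶ (Scheme.Modules.pushforward (RelProj.emb p chart U hU)).obj
        (GrTwist.twist (𝒮.deg U hU) 1))
    (hL : RelProj.IsRelTwist 𝒮 p chart 1 L lam) : RelAmple.IsRelAmple p L := by
  have hfin := Groth.Agent.S8261.result 𝒮 hgen hft p chart hP
  have hqc : QuasiCompact p := hfin.2
  refine ⟨hqc, fun V => ?_⟩
  have hcov := Groth.Agent.Lib.helper28.GTwistAll.hcov_of_closure (𝒮.deg V.1 V.2) (hgen V.1 V.2)
  have hc1 : CompactSpace ((p ⁻¹ᵁ V.1 : P.Opens) : Scheme.{u}) :=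
    isCompact_iff_compactSpace.mp (p.isCompact_preimage V.2.isCompact)
  have hc2 : CompactSpace (Proj (𝒮.deg V.1 V.2)) :=
    (chart V.1 V.2).hom.homeomorph.compactSpace
  have h1 := Groth.Agent.Lib.helper12.GTwistAmple.isAmple_twist (𝒮.deg V.1 V.2) hcov 1 one_pos
  have e1 : ((1 : ℕ) : ℤ) = 1 := Nat.cast_one
  rw [e1] at h1
  have h2 : CohB1.IsAmple (L.restrict (RelProj.emb p chart V.1 V.2)) :=
    isAmple_of_iso (chartIso lam hL V.1 V.2).symm h1
  refine (isAmple_restrict_iff_of_range_eq (RelProj.emb p chart V.1 V.2) (p ⁻¹ᵁ V.1).ι ?_ L).mp h2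
  rw [range_emb, Scheme.Opens.range_ι]

end Groth.Agent.Lib.helper12.RelProjAmple
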