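import Mathlib
import Groth.Agent.Lib.Helper12.ProjProper
import Groth.Agent.S8261

/-!
# Projective morphisms (`RelProj.IsProjective`) are proper (helper12; EGA II 5.5.3)
-/

set_option autoImplicit false
set_option backward.isDefEq.respectTransparency false
universe u

open CategoryTheory CategoryTheory.Limits AlgebraicGeometry Opposite TopologicalSpace

namespace Groth.Agent.Lib.helper12.RelProjProper

theorem isProper_of_isRelProj {Y P : Scheme.{u}} (𝒮 : RelProj.QCGrAlg Y)
    (hgen : 𝒮.IsGenDegOne) (hft : 𝒮.IsFTDeg 1) (p : P ⟶ Y)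
    (chart : ∀ (U : Y.Opens) (hU : IsAffineOpen U),
      (((p ⁻¹ᵁ U : P.Opens) : Scheme.{u}) ≅ Proj (𝒮.deg U hU)))
    (hP : RelProj.IsRelProj 𝒮 p chart) : IsProper p := by
  have key : ∀ U : Y.affineOpens, IsProper (p ∣_ (U : Y.Opens)) := by
    rintro ⟨U, hU⟩
    obtain ⟨T, hT1, hT⟩ := hft U hU
    have h := Groth.Agent.Lib.helper12.ProjProper.isProper_of_gen (𝒜 := 𝒮.deg U hU)
      (Y.presheaf.obj (op U)) (𝒮.strZero U hU) (hgen U hU) T (fun t ht => hT1 ht)
      (fun x hx => by obtain ⟨c, hc⟩ := hT x hx; exact ⟨c, hc⟩)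
    change IsProper (p ∣_ U)
    rw [Groth.Agent.S8261.restrict_eq 𝒮 p chart hP U hU]
    infer_instance
  exact IsZariskiLocalAtTarget.of_iSup_eq_top (P := @IsProper)
    (fun U : Y.affineOpens => (U : Y.Opens)) (iSup_affineOpens_eq_top Y) key

/-- **A projective morphism is proper.** -/
theorem isProper_of_isProjective {X S : Scheme.{u}} (f : X ⟶ S) (h : RelProj.IsProjective f) :
    IsProper f := by
  obtain ⟨𝒮, P, p, chart, e, hgen, hft, hP, rfl⟩ := h
  have := isProper_of_isRelProj 𝒮 hgen hft p chart hP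
  infer_instance

end Groth.Agent.Lib.helper12.RelProjProper
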