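import Mathlib
import Groth.Agent.Lib.Helper12.QProjInd2
import Groth.Agent.Lib.Helper5.ConsProper2
import Groth.Agent.Lib.Helper5.ConsApprox4
import Groth.Agent.S4418
import Groth.Agent.S4419

/-!
# Projectivity of the fibres of a morphism is an ind-constructible condition (helper12)

* `isIndConsMor_and`: the conjunction of two ind-constructible relations on morphisms is ind-constructible.
* `isProjective_iff`: over a Noetherian target, projective = proper and quasi-projective.
* `isIndConstructible_projective_locus`.
-/

set_option autoImplicit false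
set_option linter.style.haveILetI false
set_option backward.isDefEq.respectTransparency false
universe u
open CategoryTheory CategoryTheory.Limits AlgebraicGeometry TopologicalSpace

namespace Groth.Agent.Lib.helper12.QProjInd

open Groth.Agent.Lib.helper5.ConsFibre Groth.Agent.Lib.helper5.FGLimit

theorem isIndConsMor_and {P Q : ∀ ⦃X Y T : Scheme.{u}⦄, (X ⟶ Y) → (Y ⟶ T) → Prop}
    (hP : ConsProp.IsIndConsMor P) (hQ : ConsProp.IsIndConsMor Q) :
    ConsProp.IsIndConsMor (fun X Y T f g => P f g ∧ Q f g) := by
  refine ⟨?_, ?_⟩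
  · intro X X' Y Y' T T' f g f' g' eX eY h _ _ _ _ _ _ _ _ sqY sqX
    exact and_congr (hP.1 f g f' g' eX eY h sqY sqX) (hQ.1 f g f' g' eX eY h sqY sqX)
  · intro X Y S f g _ _ _ _ _ _ hη
    obtain ⟨hηP, hηQ⟩ := hη
    have h1 := hP.2 f g hηP
    have h2 := hQ.2 f g hηQ
    have heq : ConsProp.locusMor (fun X Y T f g => P f g ∧ Q f g) f g =
        ConsProp.locusMor P f g ∩ ConsProp.locusMor Q f g := Set.ext fun _ => Iff.rfl
    rw [heq, interior_inter]
    exact nonempty_preirreducible_inter isOpen_interior isOpen_interior h1 h2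

/-- over a target with Noetherian underlying space, projective = proper and quasi-projective. -/
theorem isProjective_iff {X Y : Scheme.{u}} (f : X ⟶ Y) [NoetherianSpace Y] :
    RelProj.IsProjective f ↔ IsProper f ∧ QP f := by
  constructor
  · intro hf
    obtain ⟨h1, h2⟩ := Groth.Agent.S4418.result f hf
    exact ⟨h2, h1⟩
  · rintro ⟨h1, h2⟩
    haveI := h1
    exact Groth.Agent.S4419.result (Or.inr inferInstance) f h2

/-- EGA IV 9.6.2 (ii)-type statement: the locus where the morphism of fibres is projective is ind-constructible. -/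
theorem isIndConstructible_projective_locus {X Y S : Scheme.{u}} (f : X ⟶ Y) (g : Y ⟶ S)
    [LocallyOfFinitePresentation g] [QuasiCompact g] [QuasiSeparated g]
    [LocallyOfFinitePresentation (f ≫ g)] [QuasiCompact (f ≫ g)] [QuasiSeparated (f ≫ g)] :
    ProCons.IsIndConstructible (ConsProp.locusMor
      (fun X Y T (f : X ⟶ Y) (_ : Y ⟶ T) => RelProj.IsProjective f) f g) := by
  have h := Groth.Agent.Lib.helper5.ConsApprox.isIndConstructible_locusMor'
    (isIndConsMor_and Groth.Agent.Lib.helper5.ConsProper.isIndConsMor_isProper.{u}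
      isIndConsMor_QP.{u}) f g
  have heq : ConsProp.locusMor (fun X Y T (f : X ⟶ Y) (_ : Y ⟶ T) => RelProj.IsProjective f) f g =
      ConsProp.locusMor (fun X Y T (f : X ⟶ Y) (_ : Y ⟶ T) => IsProper f ∧ QP f) f g := by
    ext s
    haveI : IsNoetherian (g.fiber s) :=
      isNoetherian_of_lft (pullback.snd g (S.fromSpecResidueField s))
    exact isProjective_iff (MoreMor.fiberMap f g s)
  rw [heq]
  exact h

end Groth.Agent.Lib.helper12.QProjInd
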