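import Mathlib

/-!
# Ringed-space pushouts of schemes are scheme pushouts (helper12)

If a commutative square of schemes is a pushout in the category of sheafed (= ringed) spaces, then
it is a pushout in the category of schemes: the two legs are jointly surjective, so the induced
morphism of ringed spaces out of the corner is automatically local on stalks.
-/

set_option autoImplicit false
set_option linter.style.haveILetI false
universe u

open CategoryTheory CategoryTheory.Limits AlgebraicGeometry TopologicalSpace Opposite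

namespace Groth.Agent.Lib.Helper12.RSPushout

/-- the forgetful functor from schemes to ringed spaces -/
abbrev FF : Scheme.{u} ⥤ SheafedSpace CommRingCat.{u} :=
  Scheme.forgetToLocallyRingedSpace ⋙ LocallyRingedSpace.forgetToSheafedSpace

/-- a two-point type, to be given the indiscrete topology -/
inductive Two : Type u
  | zero
  | one

instance : TopologicalSpace Two.{u} := ⊤

/-- the legs of a pushout of topological spaces are jointly surjective -/
theorem joint_surjective_of_isPushout_top {A B C D : TopCat.{u}} {f : A ⟶ B} {g : A ⟶ C}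
    {h : B ⟶ D} {k : C ⟶ D} (hp : IsPushout f g h k) (d : D) :
    (∃ b, h b = d) ∨ (∃ c, k c = d) := by
  classical
  by_contra hcon
  push Not at hcon
  let T : TopCat.{u} := TopCat.of Two.{u}
  let φ₁ : D ⟶ T := TopCat.ofHom ⟨fun _ => Two.zero, continuous_top⟩
  let φ₂ : D ⟶ T := TopCat.ofHom ⟨fun x => if x = d then Two.one else Two.zero, continuous_top⟩
  have e : φ₁ = φ₂ := by
    apply hp.hom_ext
    · ext b
      show Two.zero = if h b = d then Two.one else Two.zero
      rw [if_neg (hcon.1 b)]
    · ext c
      show Two.zero = if k c = d then Two.one else Two.zero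
      rw [if_neg (hcon.2 c)]
  have e2 : Two.zero = if d = d then Two.one else Two.zero :=
    congrArg (fun ψ : D ⟶ T => ψ d) e
  rw [if_pos rfl] at e2
  exact Two.noConfusion e2

section Bridge

variable {X Y Z P : Scheme.{u}} {i : Z ⟶ X} {j : Z ⟶ Y} {a : X ⟶ P} {b : Y ⟶ P}

theorem comm_of_sheafedSpace (hpo : IsPushout (FF.map i) (FF.map j) (FF.map a) (FF.map b)) :
    i ≫ a = j ≫ b := by
  apply FF.map_injective
  rw [Functor.map_comp, Functor.map_comp]
  exact hpo.w

theorem joint_surjective_of_sheafedSpace
    (hpo : IsPushout (FF.map i) (FF.map j) (FF.map a) (FF.map b)) (p : P) :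
    (∃ x, a.base x = p) ∨ (∃ y, b.base y = p) :=
  joint_surjective_of_isPushout_top (hpo.map (SheafedSpace.forget CommRingCat.{u})) p

/-- a morphism of ringed spaces out of the corner of a ringed-space pushout of schemes whose
restrictions to the two legs are morphisms of schemes is a morphism of schemes -/
theorem isLocalHom_stalkMap_of_sheafedSpace
    (hpo : IsPushout (FF.map i) (FF.map j) (FF.map a) (FF.map b)) {T : Scheme.{u}}
    (h₀ : FF.obj P ⟶ FF.obj T) (α : X ⟶ T) (β : Y ⟶ T)
    (hα : FF.map a ≫ h₀ = FF.map α) (hβ : FF.map b ≫ h₀ = FF.map β) (p : P) :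
    IsLocalHom (h₀.hom.stalkMap p).hom := by
  have key : ∀ {W : Scheme.{u}} (c : W ⟶ P) (γ : W ⟶ T) (hγ : FF.map c ≫ h₀ = FF.map γ) (w : W),
      IsLocalHom (h₀.hom.stalkMap (c.base w)).hom := by
    intro W c γ hγ w
    have h1 : (FF.map c).hom ≫ h₀.hom = (FF.map γ).hom := congrArg (fun m => m.hom) hγ
    have h2 := PresheafedSpace.stalkMap.comp (FF.map c).hom h₀.hom w
    have h3 : IsLocalHom (((FF.map c).hom ≫ h₀.hom).stalkMap w).hom := by
      rw [h1]
      exact γ.toLRSHom.prop w
    rw [h2] at h3
    have h4 : IsLocalHom (((FF.map c).hom.stalkMap w).hom.comp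
        (h₀.hom.stalkMap (c.base w)).hom) := h3
    exact isLocalHom_of_comp (h₀.hom.stalkMap (c.base w)).hom ((FF.map c).hom.stalkMap w).hom
  rcases joint_surjective_of_sheafedSpace hpo p with ⟨x, rfl⟩ | ⟨y, rfl⟩
  · exact key a α hα x
  · exact key b β hβ y

/-- lift a morphism of ringed spaces out of the corner to a morphism of schemes -/
noncomputable def liftHom
    (hpo : IsPushout (FF.map i) (FF.map j) (FF.map a) (FF.map b)) {T : Scheme.{u}}
    (α : X ⟶ T) (β : Y ⟶ T) (hαβ : i ≫ α = j ≫ β) : P ⟶ T :=
  let h₀ : FF.obj P ⟶ FF.obj T := hpo.desc (FF.map α) (FF.map β)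
    (by rw [← Functor.map_comp, ← Functor.map_comp, hαβ])
  ⟨⟨h₀.hom, isLocalHom_stalkMap_of_sheafedSpace hpo h₀ α β (hpo.inl_desc _ _ _)
    (hpo.inr_desc _ _ _)⟩⟩

theorem map_liftHom
    (hpo : IsPushout (FF.map i) (FF.map j) (FF.map a) (FF.map b)) {T : Scheme.{u}}
    (α : X ⟶ T) (β : Y ⟶ T) (hαβ : i ≫ α = j ≫ β) :
    FF.map (liftHom hpo α β hαβ) = hpo.desc (FF.map α) (FF.map β)
      (by rw [← Functor.map_comp, ← Functor.map_comp, hαβ]) := rfl

/-- **a ringed-space pushout of schemes is a pushout of schemes** -/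
theorem isPushout_of_sheafedSpace
    (hpo : IsPushout (FF.map i) (FF.map j) (FF.map a) (FF.map b)) : IsPushout i j a b := by
  refine ⟨⟨comm_of_sheafedSpace hpo⟩, ⟨PushoutCocone.IsColimit.mk _
    (fun s => liftHom hpo s.inl s.inr s.condition) (fun s => ?_) (fun s => ?_)
    (fun s m h1 h2 => ?_)⟩⟩
  · apply FF.map_injective
    rw [Functor.map_comp, map_liftHom]
    exact hpo.inl_desc _ _ _
  · apply FF.map_injective
    rw [Functor.map_comp, map_liftHom]
    exact hpo.inr_desc _ _ _
  · apply FF.map_injective
    rw [map_liftHom]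
    apply hpo.hom_ext
    · rw [hpo.inl_desc, ← Functor.map_comp, h1]
    · rw [hpo.inr_desc, ← Functor.map_comp, h2]

end Bridge

end Groth.Agent.Lib.Helper12.RSPushout
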