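import Mathlib
import Groth.Agent.Lib.Helper12.PairDesc
import Groth.Agent.Lib.Helper12.PushoutCrit
import Groth.Agent.Lib.Helper12.RSPushout1

/-!
# A criterion for a square of schemes to be a pushout of ringed spaces (helper12)

Same hypotheses as `PushoutCrit.isPushout` (quotient topology, exactness of the sheaf sequence on a
basis), with set-theoretic fibre conditions; the conclusion is that the square is a pushout in the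
category of sheafed spaces.
-/

set_option autoImplicit false
universe u
open CategoryTheory TopologicalSpace Opposite AlgebraicGeometry Topology Limits

namespace Groth.Agent.Lib.Helper12.RSPushout2
open RSPushout PushoutCrit PairDesc

section Crit
variable {Z X Y W : Scheme.{u}} (i₁ : Z ⟶ X) (i₂ : Z ⟶ Y) (π₁ : X ⟶ W) (π₂ : Y ⟶ W)
  (w : i₁ ≫ π₁ = i₂ ≫ π₂)
  (hsurj : ∀ p : W, (∃ x : X, π₁.base x = p) ∨ (∃ y : Y, π₂.base y = p))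
  (hopen : ∀ s : Set W, IsOpen (π₁.base ⁻¹' s) → IsOpen (π₂.base ⁻¹' s) → IsOpen s)
  (ℬ : Set W.Opens)
  (hℬ : ∀ (V : W.Opens) (p : W), p ∈ V → ∃ B ∈ ℬ, p ∈ B ∧ B ≤ V)
  (hS1 : ∀ B ∈ ℬ, ∀ s t : Γ(W, B), π₁.app B s = π₁.app B t → π₂.app B s = π₂.app B t → s = t)
  (hS2 : ∀ B ∈ ℬ, ∀ (σ₁ : Γ(X, π₁ ⁻¹ᵁ B)) (σ₂ : Γ(Y, π₂ ⁻¹ᵁ B)), Compat i₁ i₂ π₁ π₂ w B σ₁ σ₂ →
    ∃ τ : Γ(W, B), π₁.app B τ = σ₁ ∧ π₂.app B τ = σ₂)
  (hπ₂ : Function.Injective π₂.base)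
  (hmeet : ∀ (x : X) (y : Y), π₁.base x = π₂.base y → ∃ z : Z, i₁.base z = x ∧ i₂.base z = y)
  (hfib : ∀ x x' : X, π₁.base x = π₁.base x' → x = x' ∨ ∃ z : Z, i₁.base z = x)

section Desc
variable {T : PresheafedSpace CommRingCat.{u}} (q₁ : X.toPresheafedSpace ⟶ T)
  (q₂ : Y.toPresheafedSpace ⟶ T) (hq : i₁.toPshHom ≫ q₁ = i₂.toPshHom ≫ q₂)

include hq in
theorem hq_base (z : Z) : q₁.base (i₁.base z) = q₂.base (i₂.base z) :=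
  congrArg (fun k : Z.toPresheafedSpace ⟶ T => k.base z) hq

include hq hmeet in
theorem hf₁₂ (x : X) (y : Y) (h : π₁.base x = π₂.base y) : q₁.base x = q₂.base y := by
  obtain ⟨z, rfl, rfl⟩ := hmeet x y h
  exact hq_base i₁ i₂ q₁ q₂ hq z

include hπ₂ in
theorem hf₂ (y y' : Y) (h : π₂.base y = π₂.base y') : q₂.base y = q₂.base y' := by
  rw [hπ₂ h]

include w hq hmeet hfib in
theorem hf₁ (x x' : X) (h : π₁.base x = π₁.base x') : q₁.base x = q₁.base x' := by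
  rcases hfib x x' h with rfl | ⟨z, rfl⟩
  · rfl
  · have h1 : π₁.base x' = π₂.base (i₂.base z) := by
      rw [← h, ← Scheme.Hom.comp_apply, w, Scheme.Hom.comp_apply]
    obtain ⟨z', rfl, hz'⟩ := hmeet x' _ h1
    rw [hq_base i₁ i₂ q₁ q₂ hq z, hq_base i₁ i₂ q₁ q₂ hq z', hz']

include hℬ hS1 in
theorem hinj (V : Opens W) (s t : W.presheaf.obj (op V))
    (h₁ : π₁.toPshHom.c.app (op V) s = π₁.toPshHom.c.app (op V) t)
    (h₂ : π₂.toPshHom.c.app (op V) s = π₂.toPshHom.c.app (op V) t) : s = t :=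
  jointInj π₁ π₂ ℬ hℬ hS1 V s t h₁ h₂

include hℬ hS1 hS2 hq in
theorem hrange (V : Opens W) (O : Opens T)
    (e₁ : (Opens.map π₁.toPshHom.base).obj V ≤ (Opens.map q₁.base).obj O)
    (e₂ : (Opens.map π₂.toPshHom.base).obj V ≤ (Opens.map q₂.base).obj O)
    (s : T.presheaf.obj (op O)) :
    ∃ τ : W.presheaf.obj (op V), π₁.toPshHom.c.app (op V) τ = appLE' q₁ O _ e₁ s ∧
      π₂.toPshHom.c.app (op V) τ = appLE' q₂ O _ e₂ s := by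
  refine exists_glue i₁ i₂ π₁ π₂ w ℬ hℬ hS1 hS2 V (appLE' q₁ O _ e₁ s) (appLE' q₂ O _ e₂ s) ?_
  unfold Compat
  have h1 : appLE' q₁ O _ e₁ ≫ appLE' i₁.toPshHom (π₁ ⁻¹ᵁ V) (i₁ ⁻¹ᵁ π₁ ⁻¹ᵁ V) le_rfl =
      appLE' (i₁.toPshHom ≫ q₁) O (i₁ ⁻¹ᵁ π₁ ⁻¹ᵁ V) (fun z hz => e₁ hz) := appLE'_comp ..
  have h2 : appLE' q₂ O _ e₂ ≫ appLE' i₂.toPshHom (π₂ ⁻¹ᵁ V) (i₁ ⁻¹ᵁ π₁ ⁻¹ᵁ V)
        (PushoutCrit.preimage_le i₁ i₂ π₁ π₂ w V) =
      appLE' (i₂.toPshHom ≫ q₂) O (i₁ ⁻¹ᵁ π₁ ⁻¹ᵁ V)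
        (fun z hz => e₂ (PushoutCrit.preimage_le i₁ i₂ π₁ π₂ w V hz)) := appLE'_comp ..
  have h3 := appLE'_congr _ _ hq O (i₁ ⁻¹ᵁ π₁ ⁻¹ᵁ V) (fun z hz => e₁ hz)
    (fun z hz => e₂ (PushoutCrit.preimage_le i₁ i₂ π₁ π₂ w V hz))
  have h4 := ConcreteCategory.congr_hom (h1.trans (h3.trans h2.symm)) s
  rw [Scheme.Hom.app_eq_appLE]
  exact h4

end Desc

include w hsurj hopen hℬ hS1 hS2 hπ₂ hmeet hfib in
/-- **criterion for a pushout of ringed spaces** -/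
theorem isPushout_sheafedSpace :
    IsPushout (FF.map i₁) (FF.map i₂) (FF.map π₁) (FF.map π₂) := by
  have hw : FF.map i₁ ≫ FF.map π₁ = FF.map i₂ ≫ FF.map π₂ := by
    rw [← Functor.map_comp, ← Functor.map_comp, w]
  have hcond : ∀ s : PushoutCocone (FF.map i₁) (FF.map i₂),
      i₁.toPshHom ≫ s.inl.hom = i₂.toPshHom ≫ s.inr.hom :=
    fun s => congrArg InducedCategory.Hom.hom s.condition
  refine ⟨⟨hw⟩, ⟨PushoutCocone.IsColimit.mk _ (fun s => ?_) (fun s => ?_) (fun s => ?_)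
    (fun s m h₁ h₂ => ?_)⟩⟩
  · exact InducedCategory.homMk (PSp.desc π₁.toPshHom π₂.toPshHom s.inl.hom s.inr.hom hsurj hopen
      (hf₁ i₁ i₂ π₁ π₂ w hmeet hfib s.inl.hom s.inr.hom (hcond s))
      (hf₂ π₂ hπ₂ s.inr.hom)
      (hf₁₂ i₁ i₂ π₁ π₂ hmeet s.inl.hom s.inr.hom (hcond s))
      (hinj π₁ π₂ ℬ hℬ hS1)
      (hrange i₁ i₂ π₁ π₂ w ℬ hℬ hS1 hS2 s.inl.hom s.inr.hom (hcond s)))
  · exact InducedCategory.hom_ext (PSp.comp_desc₁ ..)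
  · exact InducedCategory.hom_ext (PSp.comp_desc₂ ..)
  · apply InducedCategory.hom_ext
    refine PSp.uniq π₁.toPshHom π₂.toPshHom hsurj (hinj π₁ π₂ ℬ hℬ hS1) _ _ ?_ ?_
    · exact (congrArg InducedCategory.Hom.hom h₁).trans (PSp.comp_desc₁ ..).symm
    · exact (congrArg InducedCategory.Hom.hom h₂).trans (PSp.comp_desc₂ ..).symm

end Crit

end Groth.Agent.Lib.Helper12.RSPushout2
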