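import Mathlib
import Groth.Agent.Lib.Helper12.RSPushout2
import Groth.Agent.Lib.Helper12.FerrandFun1
import Groth.Agent.Lib.Helper12.Ferrand6

/-!
# Pushouts of schemes along a closed immersion are pushouts of ringed spaces (helper12)

For a closed immersion `i : Z ⟶ X` and `j : Z ⟶ Y` with enough good affine pairs, any pushout
`P` in the category of schemes whose structure maps `a`, `b` are affine is a pushout in the category
of ringed spaces.
-/

set_option autoImplicit false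
universe u
open CategoryTheory TopologicalSpace Opposite AlgebraicGeometry Topology Limits PrimeSpectrum

namespace Groth.Agent.Lib.Helper12.RSPushout3
open RSPushout PushoutCrit Ferrand SpecPushout FerrandFun

section Model
variable {X Y Z : Scheme.{u}} (i : Z ⟶ X) (j : Z ⟶ Y) [IsClosedImmersion i]
  (hcov : ∀ y : Y, ∃ k : GoodPair i j, y ∈ k.V)

theorem a_fromSpec_apply (k : GoodPair i j) (ξ : Spec Γ(X, k.U)) :
    (Ferrand.a i j hcov).base (k.hU.fromSpec.base ξ) = (ιP i j k).base ((aC i j k).base ξ) :=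
  congrArg (fun φ : Spec Γ(X, k.U) ⟶ P i j => φ.base ξ) (fromSpec_a i j hcov k)

theorem b_fromSpec_apply (k : GoodPair i j) (ξ : Spec Γ(Y, k.V)) :
    (Ferrand.b i j hcov).base (k.hV.fromSpec.base ξ) = (ιP i j k).base ((bC i j k).base ξ) :=
  congrArg (fun φ : Spec Γ(Y, k.V) ⟶ P i j => φ.base ξ) (fromSpec_b i j hcov k)

/-- the glued pushout carries the quotient topology -/
theorem model_isOpen (s : Set (P i j)) (h₁ : IsOpen ((Ferrand.a i j hcov).base ⁻¹' s))
    (h₂ : IsOpen ((Ferrand.b i j hcov).base ⁻¹' s)) : IsOpen s := by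
  have hk : ∀ k : GoodPair i j, IsOpen ((ιP i j k).base ⁻¹' s) := by
    intro k
    refine isOpen_of_preimages (p := k.p) k.q k.p_surjective
      (show Set (PrimeSpectrum k.R) from (ιP i j k).base ⁻¹' s) ?_ ?_
    · have e : (comap (φ₁ k.p k.q)) ⁻¹' ((ιP i j k).base ⁻¹' s) =
          k.hV.fromSpec.base ⁻¹' ((Ferrand.b i j hcov).base ⁻¹' s) := by
        ext ξ
        change (ιP i j k).base ((bC i j k).base ξ) ∈ s ↔
          (Ferrand.b i j hcov).base (k.hV.fromSpec.base ξ) ∈ s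
        rw [b_fromSpec_apply]
      rw [e]
      exact h₂.preimage k.hV.fromSpec.continuous
    · have e : (comap (φ₂ k.p k.q)) ⁻¹' ((ιP i j k).base ⁻¹' s) =
          k.hU.fromSpec.base ⁻¹' ((Ferrand.a i j hcov).base ⁻¹' s) := by
        ext ξ
        change (ιP i j k).base ((aC i j k).base ξ) ∈ s ↔
          (Ferrand.a i j hcov).base (k.hU.fromSpec.base ξ) ∈ s
        rw [a_fromSpec_apply]
      rw [e]
      exact h₁.preimage k.hU.fromSpec.continuous
  rw [isOpen_iff_forall_mem_open]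
  intro y hy
  obtain ⟨k, w, rfl⟩ := Scheme.IsLocallyDirected.ι_jointly_surjective (chart i j) y
  refine ⟨(ιP i j k).base '' ((ιP i j k).base ⁻¹' s), ?_, ?_, ?_⟩
  · rintro _ ⟨w', hw', rfl⟩
    exact hw'
  · exact (ιP i j k).isOpenEmbedding.isOpenMap _ (hk k)
  · exact ⟨w, hy, rfl⟩

/-- the map from `X` to the glued pushout is injective away from `Z` -/
theorem model_fib (x x' : X) (h : (Ferrand.a i j hcov).base x = (Ferrand.a i j hcov).base x') :
    x = x' ∨ ∃ z : Z, i.base z = x := by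
  obtain ⟨k, w, hw⟩ := Scheme.IsLocallyDirected.ι_jointly_surjective (chart i j)
    ((Ferrand.a i j hcov).base x)
  have hx : x ∈ k.U := by
    rw [← a_preimage i j hcov k]
    exact ⟨w, hw⟩
  have hx' : x' ∈ k.U := by
    rw [← a_preimage i j hcov k]
    exact ⟨w, hw.trans h⟩
  obtain ⟨ξ, rfl⟩ := exists_fromSpec_eq k.hU x hx
  obtain ⟨ξ', rfl⟩ := exists_fromSpec_eq k.hU x' hx'
  rw [a_fromSpec_apply, a_fromSpec_apply] at h
  have h' : comap (φ₂ k.p k.q) ξ = comap (φ₂ k.p k.q) ξ' :=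
    (ιP i j k).isOpenEmbedding.injective h
  rcases F2 (p := k.p) k.q k.p_surjective ξ ξ' h' with h1 | ⟨z, z', hz, -, -⟩
  · left
    rw [h1]
  · right
    refine ⟨k.hW.fromSpec.base z, ?_⟩
    have e := congrArg (fun φ : Spec Γ(Z, k.W) ⟶ X => φ.base z)
      (IsAffineOpen.SpecMap_appLE_fromSpec i k.hU k.hW le_rfl)
    simp only [Scheme.Hom.comp_apply] at e
    rw [← e, hz]
    rfl

end Model

section General
variable {X Y Z P : Scheme.{u}} {i : Z ⟶ X} {j : Z ⟶ Y} [IsClosedImmersion i]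
  (hcov : ∀ y : Y, ∃ k : GoodPair i j, y ∈ k.V) {a : X ⟶ P} {b : Y ⟶ P}
  (hP : IsPushout i j a b)

theorem eP_inv_hom (x : P) : (eP hcov hP).hom.base ((eP hcov hP).inv.base x) = x := by
  rw [← Scheme.Hom.comp_apply, Iso.inv_hom_id]; rfl

theorem eP_hom_inv (x : Ferrand.P i j) : (eP hcov hP).inv.base ((eP hcov hP).hom.base x) = x := by
  rw [← Scheme.Hom.comp_apply, Iso.hom_inv_id]; rfl

theorem a_apply (x : X) : a.base x = (eP hcov hP).hom.base ((Ferrand.a i j hcov).base x) := by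
  rw [← Scheme.Hom.comp_apply, a_eP]

theorem b_apply (y : Y) : b.base y = (eP hcov hP).hom.base ((Ferrand.b i j hcov).base y) := by
  rw [← Scheme.Hom.comp_apply, b_eP]

include hcov hP in
theorem isOpen_of_preimages' (s : Set P) (h₁ : IsOpen (a.base ⁻¹' s)) (h₂ : IsOpen (b.base ⁻¹' s)) :
    IsOpen s := by
  have h0 : IsOpen ((eP hcov hP).hom.base ⁻¹' s) := by
    apply model_isOpen i j hcov
    · have : (Ferrand.a i j hcov).base ⁻¹' ((eP hcov hP).hom.base ⁻¹' s) = a.base ⁻¹' s := by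
        ext x
        simp only [Set.mem_preimage]
        rw [a_apply hcov hP]
      rw [this]; exact h₁
    · have : (Ferrand.b i j hcov).base ⁻¹' ((eP hcov hP).hom.base ⁻¹' s) = b.base ⁻¹' s := by
        ext x
        simp only [Set.mem_preimage]
        rw [b_apply hcov hP]
      rw [this]; exact h₂
  have : s = (eP hcov hP).inv.base ⁻¹' ((eP hcov hP).hom.base ⁻¹' s) := by
    ext x
    simp only [Set.mem_preimage]
    rw [eP_inv_hom]
  rw [this]
  exact h0.preimage (eP hcov hP).inv.continuous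

include hcov hP in
theorem fib' (x x' : X) (h : a.base x = a.base x') : x = x' ∨ ∃ z : Z, i.base z = x := by
  apply model_fib i j hcov
  rw [a_apply hcov hP, a_apply hcov hP] at h
  have := congrArg (eP hcov hP).inv.base h
  rwa [eP_hom_inv, eP_hom_inv] at this

variable [IsAffineHom a] [IsAffineHom b]

include hcov hP in
/-- **a pushout of schemes along a closed immersion, with affine structure maps, is a pushout of
ringed spaces** -/
theorem isPushout_sheafedSpace_of_goodPairs :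
    IsPushout (FF.map i) (FF.map j) (FF.map a) (FF.map b) := by
  have hcov₀ : ∀ y : Y, ∃ (U : X.Opens) (V : Y.Opens), IsAffineOpen U ∧ IsAffineOpen V ∧ y ∈ V ∧
      i ⁻¹ᵁ U = j ⁻¹ᵁ V := fun y => by
    obtain ⟨k, hk⟩ := hcov y
    exact ⟨k.U, k.V, k.hU, k.hV, hk, k.h⟩
  obtain ⟨hpb, hb, -, -⟩ := Ferrand6.of_isPushout i j hcov₀ a b hP
  refine RSPushout2.isPushout_sheafedSpace i j a b hP.w (joint_surj hcov hP)
    (isOpen_of_preimages' hcov hP) {B | IsAffineOpen B} ?_ ?_ ?_ ?_ ?_ ?_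
  · intro V p hp
    obtain ⟨B, hB, hpB, hBV⟩ := exists_isAffineOpen_mem_and_subset (x := p) (U := V) hp
    exact ⟨B, hB, hpB, hBV⟩
  · intro B hB s t h₁ h₂
    apply (bijective_γO hcov hP B hB).1
    apply Subtype.ext
    apply Prod.ext
    · change (b.appLE B (b ⁻¹ᵁ B) le_rfl) s = (b.appLE B (b ⁻¹ᵁ B) le_rfl) t
      rw [Scheme.Hom.appLE_eq_app]; exact h₂
    · change (a.appLE B (a ⁻¹ᵁ B) le_rfl) s = (a.appLE B (a ⁻¹ᵁ B) le_rfl) t
      rw [Scheme.Hom.appLE_eq_app]; exact h₁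
  · intro B hB σ₁ σ₂ hc
    have hmem : (σ₂, σ₁) ∈ (kO hP B hB).R := by
      change (j.appLE (b ⁻¹ᵁ B) (i ⁻¹ᵁ a ⁻¹ᵁ B) _) σ₂ =
        (i.appLE (a ⁻¹ᵁ B) (i ⁻¹ᵁ a ⁻¹ᵁ B) le_rfl) σ₁
      rw [Scheme.Hom.appLE_eq_app]
      exact hc.symm
    obtain ⟨τ, hτ⟩ := (bijective_γO hcov hP B hB).2 ⟨(σ₂, σ₁), hmem⟩
    refine ⟨τ, ?_, ?_⟩
    · have h1 : (a.appLE B (a ⁻¹ᵁ B) le_rfl) τ = σ₁ := congrArg (fun r => r.1.2) hτ
      rwa [Scheme.Hom.appLE_eq_app] at h1
    · have h1 : (b.appLE B (b ⁻¹ᵁ B) le_rfl) τ = σ₂ := congrArg (fun r => r.1.1) hτ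
      rwa [Scheme.Hom.appLE_eq_app] at h1
  · exact b.isClosedEmbedding.injective
  · intro x y h
    obtain ⟨z, hz₁, hz₂⟩ := Scheme.Pullback.exists_preimage_pullback x y h
    refine ⟨hpb.isoPullback.inv.base z, ?_, ?_⟩
    · rw [← Scheme.Hom.comp_apply, hpb.isoPullback_inv_fst]; exact hz₁
    · rw [← Scheme.Hom.comp_apply, hpb.isoPullback_inv_snd]; exact hz₂
  · exact fib' hcov hP

end General

end Groth.Agent.Lib.Helper12.RSPushout3
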