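import Mathlib
import Groth.Agent.Lib.Helper12.GTwistOpenAmple
import Groth.Agent.Lib.Helper12.AmpleLocal
import Groth.Agent.Lib.Helper12.AmpleRestrict
import Groth.Agent.Lib.Helper28.RelTwistChart

/-!
# Relative `Proj` of a finite-type quasi-coherent graded algebra over a quasi-compact base
(helper12; EGA II 4.6.18): some `O(d)`, `d > 0`, is invertible and relatively ample.
-/

set_option autoImplicit false
set_option backward.isDefEq.respectTransparency false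
set_option linter.style.haveILetI false
universe u

open CategoryTheory CategoryTheory.Limits AlgebraicGeometry Opposite TopologicalSpace
open Scheme.Modules

namespace Groth.Agent.Lib.helper12.RelProjFT

open Groth.Agent.Lib.helper12.AmpleLocal Groth.Agent.Lib.helper12.AmplePow
  Groth.Agent.Lib.helper28.RelTwistChart Groth.Agent.Lib.helper12.AmpleRestrict

/-- `Proj 𝒮(U)` is quasi-compact when `𝒮(U)` is of finite type over `O(U)`. -/
theorem compactSpace_proj_of_finiteType {Y : Scheme.{u}} (𝒮 : RelProj.QCGrAlg Y)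
    (U : Y.Opens) (hU : IsAffineOpen U) (hft : (𝒮.str.app (op U)).hom.FiniteType) :
    CompactSpace (Proj (𝒮.deg U hU)) := by
  letI alg1 : Algebra Γ(Y, U) (𝒮.presheaf.obj (op U)) := (𝒮.str.app (op U)).hom.toAlgebra
  letI alg2 : Algebra Γ(Y, U) (𝒮.deg U hU 0) := (𝒮.strZero U hU).hom.toAlgebra
  haveI : IsScalarTower Γ(Y, U) (𝒮.deg U hU 0) (𝒮.presheaf.obj (op U)) :=
    IsScalarTower.of_algebraMap_eq fun r => rfl
  haveI hft' : Algebra.FiniteType Γ(Y, U) (𝒮.presheaf.obj (op U)) := hft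
  haveI : Algebra.FiniteType (𝒮.deg U hU 0) (𝒮.presheaf.obj (op U)) :=
    Algebra.FiniteType.of_restrictScalars_finiteType Γ(Y, U) _ _
  exact QuasiCompact.compactSpace_of_compactSpace (Proj.toSpecZero (𝒮.deg U hU))

variable {A σ : Type u} [CommRing A] [SetLike σ A] [AddSubgroupClass σ A] (𝒜 : ℕ → σ)
  [GradedRing 𝒜]

/-- The covering condition in degree `d`. -/
def DegCover (d : ℕ) : Prop :=
  ∀ x : ProjectiveSpectrum 𝒜, ∃ g ∈ 𝒜 d, g ∉ x.asHomogeneousIdeal

theorem DegCover.mul {d : ℕ} (h : DegCover 𝒜 d) (k : ℕ) : DegCover 𝒜 (k * d) := by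
  intro x
  obtain ⟨g, hg, hgx⟩ := h x
  refine ⟨g ^ k, ?_, fun hmem => hgx (x.isPrime.mem_of_pow_mem _ hmem)⟩
  have := SetLike.pow_mem_graded k hg
  rwa [smul_eq_mul] at this

theorem DegCover.of_dvd {d e : ℕ} (h : DegCover 𝒜 d) (hde : d ∣ e) : DegCover 𝒜 e := by
  obtain ⟨k, rfl⟩ := hde
  rw [mul_comm]
  exact h.mul 𝒜 k

theorem exists_degCover [CompactSpace (Proj 𝒜)] : ∃ d : ℕ, 0 < d ∧ DegCover 𝒜 d := by
  obtain ⟨d, hd, h⟩ := Groth.Agent.Lib.helper12.GTwistOpenAmple.exists_degree_cover 𝒜 (𝟙 (Proj 𝒜))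
  refine ⟨d, hd, fun x => ?_⟩
  obtain ⟨g, hg, hgx, -⟩ := h x
  exact ⟨g, hg, hgx⟩

theorem isAmple_twist_of_degCover [CompactSpace (Proj 𝒜)] {d : ℕ} (hd : 0 < d)
    (h : DegCover 𝒜 d) : CohB1.IsAmple (GrTwist.twist 𝒜 (d : ℤ)) := by
  have h1 := Groth.Agent.Lib.helper12.GTwistOpenAmple.isAmple_restrict_twist 𝒜 hd (𝟙 (Proj 𝒜))
    (fun y => by
      obtain ⟨g, hg, hgx⟩ := h y
      refine ⟨g, hg, hgx, ?_⟩
      intro z _
      exact ⟨z, rfl⟩)
  exact (isAmple_restrict_iff_of_isIso (𝟙 (Proj 𝒜))).mp h1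

/-- **EGA II 4.6.18**: for `X = Proj 𝒮` with `𝒮` of finite type over a quasi-compact `Y`, some
`O_X(d)`, `d > 0`, is invertible and relatively ample. -/
theorem exists_twist_invertible_relAmple {Y X : Scheme.{u}} [CompactSpace Y]
    (𝒮 : RelProj.QCGrAlg Y)
    (hft : ∀ (U : Y.Opens) (hU : IsAffineOpen U), (𝒮.str.app (op U)).hom.FiniteType)
    (f : X ⟶ Y)
    (chart : ∀ (U : Y.Opens) (hU : IsAffineOpen U),
      ((f ⁻¹ᵁ U : X.Opens) : Scheme.{u}) ≅ Proj (𝒮.deg U hU)) :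
    ∃ d : ℕ, 0 < d ∧ ∀ (L : X.Modules)
      (lam : ∀ (U : Y.Opens) (hU : IsAffineOpen U),
        L ⟶ (Scheme.Modules.pushforward (RelProj.emb f chart U hU)).obj
          (GrTwist.twist (𝒮.deg U hU) (d : ℤ))),
      RelProj.IsRelTwist 𝒮 f chart (d : ℤ) L lam →
        PicF.IsInvertible L ∧ RelAmple.IsRelAmple f L := by
  classical
  have hc : ∀ (U : Y.Opens) (hU : IsAffineOpen U), CompactSpace (Proj (𝒮.deg U hU)) :=
    fun U hU => compactSpace_proj_of_finiteType 𝒮 U hU (hft U hU)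
  have hcX : ∀ (U : Y.Opens) (hU : IsAffineOpen U),
      CompactSpace ((f ⁻¹ᵁ U : X.Opens) : Scheme.{u}) := fun U hU =>
    haveI := hc U hU
    (chart U hU).hom.homeomorph.symm.compactSpace
  have hqc : QuasiCompact f := by
    rw [quasiCompact_iff_forall_isAffineOpen]
    intro U hU
    exact isCompact_iff_compactSpace.mpr (hcX U hU)
  have hd : ∀ U : Y.affineOpens, ∃ d : ℕ, 0 < d ∧ DegCover (𝒮.deg U.1 U.2) d := fun U => by
    haveI := hc U.1 U.2
    exact exists_degCover _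
  choose dU hdpos hdcov using hd
  obtain ⟨s, hs, hcov⟩ := isCompact_iff_finite_and_eq_biUnion_affineOpens.mp
    (show IsCompact ((⊤ : Y.Opens) : Set Y) from isCompact_univ)
  have hcov' : ⨆ i : s, (i.1 : Y.Opens) = ⊤ := by
    rw [hcov, iSup_subtype']
  let d : ℕ := ∏ U ∈ hs.toFinset, dU U
  have hdpos' : 0 < d := Finset.prod_pos fun U _ => hdpos U
  refine ⟨d, hdpos', fun L lam hL => ?_⟩
  have hamp : ∀ i : s, CohB1.IsAmple (L.restrict (f ⁻¹ᵁ (i.1 : Y.Opens)).ι) := by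
    intro i
    haveI := hc i.1.1 i.1.2
    have hdvd : dU i.1 ∣ d := Finset.dvd_prod_of_mem _ (hs.mem_toFinset.mpr i.2)
    have h1 := isAmple_twist_of_degCover (𝒮.deg i.1.1 i.1.2) hdpos'
      ((hdcov i.1).of_dvd _ hdvd)
    have h2 : CohB1.IsAmple (L.restrict (RelProj.emb f chart i.1.1 i.1.2)) :=
      isAmple_of_iso (chartIso lam hL i.1.1 i.1.2).symm h1
    refine (isAmple_restrict_iff_of_range_eq (RelProj.emb f chart i.1.1 i.1.2)
      (f ⁻¹ᵁ i.1.1).ι ?_ L).mp h2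
    rw [range_emb, Scheme.Opens.range_ι]
  constructor
  · refine isInvertible_of_cover (fun i : s => f ⁻¹ᵁ (i.1 : Y.Opens)) ?_ (fun i => (hamp i).1)
    rw [← Scheme.Hom.preimage_iSup, hcov']
    rfl
  · refine (isRelAmple_iff_of_openCover f L (fun i : s => (i.1 : Y.Opens)) hcov').mpr fun i => ?_
    haveI : IsAffine ((i.1 : Y.Opens) : Scheme.{u}) := i.1.2
    exact (isRelAmple_iff_isAmple_of_isAffine (f ∣_ (i.1 : Y.Opens)) _).mpr (hamp i)

end Groth.Agent.Lib.helper12.RelProjFT
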