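import Mathlib
import Groth.Agent.Lib.Helper12.GTwistOpenAmple
import Groth.Agent.Lib.Helper12.AmpleLocal
import Groth.Agent.Lib.Helper12.PullAmpleRel
import Groth.Agent.Lib.Helper28.RelTwistChart
import Groth.Agent.Lib.Helper28.SymGraded
import Groth.Agent.Lib.Helper12.RelVAmple

/-!
# Relatively very ample (via `P(E)`) ⇒ relatively ample (helper12; EGA II 4.6.2)
-/

set_option autoImplicit false
set_option backward.isDefEq.respectTransparency false
universe u

open CategoryTheory CategoryTheory.Limits AlgebraicGeometry Opposite TopologicalSpace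
open Scheme.Modules
open scoped HomogeneousIdeal

namespace Groth.Agent.Lib.helper12.RelVAmple2

open Groth.Agent.Lib.helper12.AmpleLocal Groth.Agent.Lib.helper12.AmplePow
  Groth.Agent.Lib.helper28.RelTwistChart Groth.Agent.Lib.helper12.PullAmpleRel

/-- EGA II 4.6.2 (S5722): the inverse image of `O_{P(E)}(1)` along a `Y`-morphism `g : X ⟶ P(E)` which is a
topological embedding is ample relative to `f`. -/
theorem isRelAmple_pullback_of_isEmbedding {X Y : Scheme.{u}} (f : X ⟶ Y) [QuasiCompact f]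
    (E : Y.Modules) (hE : Coh.IsQCoh E) (𝒮 : RelProj.QCGrAlg Y) (j : E ⟶ 𝒮.toModule)
    (hS : RelProj.IsGrSymAlg E 𝒮 j) (P : Scheme.{u}) (p : P ⟶ Y)
    (chart : ∀ (U : Y.Opens) (hU : IsAffineOpen U),
      ((p ⁻¹ᵁ U : P.Opens) : Scheme.{u}) ≅ Proj (𝒮.deg U hU))
    (O1 : P.Modules)
    (lam : ∀ (U : Y.Opens) (hU : IsAffineOpen U),
      O1 ⟶ (Scheme.Modules.pushforward (RelProj.emb p chart U hU)).obj
        (GrTwist.twist (𝒮.deg U hU) 1))
    (hO1 : RelProj.IsRelTwist 𝒮 p chart 1 O1 lam)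
    (i : X ⟶ P) (hif : i ≫ p = f) (hemb : Topology.IsEmbedding i.base) :
    RelAmple.IsRelAmple f ((Scheme.Modules.pullback i).obj O1) := by
  have : E.IsQuasicoherent := hE
  refine ⟨inferInstance, fun V => ?_⟩
  classical
  let XV : X.Opens := f ⁻¹ᵁ V.1
  have hcX : CompactSpace (XV : Scheme.{u}) :=
    isCompact_iff_compactSpace.mp (f.isCompact_preimage V.2.isCompact)
  let emb := RelProj.emb p chart V.1 V.2
  have hrange : Set.range (XV.ι ≫ i) ⊆ Set.range emb := by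
    rintro _ ⟨x, rfl⟩
    rw [range_emb]
    change p ((XV.ι ≫ i) x) ∈ V.1
    rw [← Scheme.Hom.comp_apply, Category.assoc, hif]
    exact x.2
  let c : (XV : Scheme.{u}) ⟶ Proj (𝒮.deg V.1 V.2) := IsOpenImmersion.lift emb (XV.ι ≫ i) hrange
  have hc : c ≫ emb = XV.ι ≫ i := IsOpenImmersion.lift_fac _ _ _
  have hcovQ := Groth.Agent.Lib.helper12.RelVAmple.hcov_of_isGrSymAlg E 𝒮 j hS V.1 V.2
  -- a finite family of degree-one elements whose `D₊` cover the image of `c`
  have hcomp : IsCompact (Set.range c) := isCompact_range c.continuous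
  choose t ht1 hty using hcovQ
  obtain ⟨T, hT⟩ := hcomp.elim_finite_subcover
    (fun y : Proj (𝒮.deg V.1 V.2) => ((Proj.basicOpen (𝒮.deg V.1 V.2) (t y) :
      (Proj (𝒮.deg V.1 V.2)).Opens) : Set (Proj (𝒮.deg V.1 V.2))))
    (fun y => (Proj.basicOpen (𝒮.deg V.1 V.2) (t y)).isOpen)
    (fun y _ => Set.mem_iUnion.mpr ⟨y, (ProjectiveSpectrum.mem_basicOpen _ _ _).mpr (hty y)⟩)
  let W : (Proj (𝒮.deg V.1 V.2)).Opens := ⨆ y ∈ T, Proj.basicOpen (𝒮.deg V.1 V.2) (t y)
  have hWc : IsCompact (W : Set (Proj (𝒮.deg V.1 V.2))) := by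
    have : (W : Set (Proj (𝒮.deg V.1 V.2))) = ⋃ y ∈ T,
        ((Proj.basicOpen (𝒮.deg V.1 V.2) (t y) : (Proj (𝒮.deg V.1 V.2)).Opens) : Set _) := by
      simp only [W, Opens.iSup_mk, Opens.carrier_eq_coe, Opens.coe_mk]
    rw [this]
    exact T.finite_toSet.isCompact_biUnion fun y _ =>
      (Proj.isAffineOpen_basicOpen (𝒮.deg V.1 V.2) (t y) (ht1 y) one_pos).isCompact
  have hcW : CompactSpace (W : Scheme.{u}) := isCompact_iff_compactSpace.mp hWc
  have hcovW : ∀ y : (W : Scheme.{u}), ∃ g ∈ 𝒮.deg V.1 V.2 1,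
      g ∉ (show ProjectiveSpectrum (𝒮.deg V.1 V.2) from W.ι y).asHomogeneousIdeal ∧
      Proj.basicOpen (𝒮.deg V.1 V.2) g ≤ W.ι.opensRange := by
    intro y
    have hy : (W.ι y) ∈ W := y.2
    simp only [W, Opens.mem_iSup] at hy
    obtain ⟨y0, hy0T, hy0⟩ := hy
    refine ⟨t y0, ht1 y0, (ProjectiveSpectrum.mem_basicOpen _ _ _).mp hy0, ?_⟩
    rw [Scheme.Opens.opensRange_ι]
    exact le_iSup₂ (f := fun y (_ : y ∈ T) => Proj.basicOpen (𝒮.deg V.1 V.2) (t y)) y0 hy0T
  have hW := Groth.Agent.Lib.helper12.GTwistOpenAmple.isAmple_restrict_twist (𝒮.deg V.1 V.2)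
    one_pos W.ι hcovW
  have e1 : ((1 : ℕ) : ℤ) = 1 := Nat.cast_one
  rw [e1] at hW
  -- `O1` restricted to `W` is ample
  have hN : CohB1.IsAmple (O1.restrict (W.ι ≫ emb)) := by
    rw [← isAmple_restrict_restrict_iff]
    exact isAmple_of_iso ((restrictFunctor W.ι).mapIso (chartIso lam hO1 V.1 V.2)).symm hW
  -- `c` factors through `W`
  have hrW : Set.range c ⊆ Set.range W.ι := by
    rw [Scheme.Opens.range_ι]
    intro z hz
    have := hT hz
    simp only [Set.mem_iUnion] at this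
    obtain ⟨y0, hy0T, hy0⟩ := this
    exact Opens.mem_iSup.mpr ⟨y0, Opens.mem_iSup.mpr ⟨hy0T, hy0⟩⟩
  let c' : (XV : Scheme.{u}) ⟶ (W : Scheme.{u}) := IsOpenImmersion.lift W.ι c hrW
  have hc' : c' ≫ W.ι = c := IsOpenImmersion.lift_fac _ _ _
  have hw : XV.ι ≫ i = c' ≫ (W.ι ≫ emb) := by rw [← Category.assoc, hc', hc]
  have hc'emb : Topology.IsEmbedding c' := by
    have h1 : Topology.IsEmbedding (XV.ι ≫ i) := hemb.comp XV.ι.isEmbedding
    rw [hw] at h1
    exact Topology.IsEmbedding.of_comp c'.continuous (W.ι ≫ emb).continuous h1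
  exact isAmple_restrict_pullback_of_isEmbedding XV.ι i c' (W.ι ≫ emb) hw hc'emb hN

end Groth.Agent.Lib.helper12.RelVAmple2
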