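import Mathlib
import Groth.Agent.Lib.Helper12.NFHensel
import Groth.Agent.Lib.Helper12.NFSplit
import Groth.Agent.Lib.Helper12.NFApproxLocal
set_option linter.style.haveILetI false
set_option linter.unusedSectionVars false

namespace Groth.Agent.Lib.helper12.SALoc
open IsDedekindDomain HeightOneSpectrum NumberField

section nonroot
variable {k : Type*} [Field k] [NumberField k]

/-- a `v`-integral polynomial of degree less than the size of the residue field, with a unit
coefficient, takes a unit value at some integer -/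
theorem exists_int_unit_value (v : HeightOneSpectrum (𝓞 k)) (p : Polynomial k)
    (hint : ∀ i, v.valuation k (p.coeff i) ≤ 1) (hunit : ∃ i, v.valuation k (p.coeff i) = 1)
    (hdeg : p.natDegree < Ideal.absNorm v.asIdeal) :
    ∃ z : 𝓞 k, v.valuation k (p.eval (algebraMap (𝓞 k) k z)) = 1 := by
  classical
  have hden : ∀ i, ∃ nd : 𝓞 k × 𝓞 k, nd.2 ∉ v.asIdeal ∧
      p.coeff i * algebraMap (𝓞 k) k nd.2 = algebraMap (𝓞 k) k nd.1 := by
    intro i
    obtain ⟨n, ⟨d, hd⟩, h⟩ := v.exists_primeCompl_mul_eq_of_integer (p.coeff i) (hint i)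
    exact ⟨(n, d), hd, h⟩
  choose nd hnd1 hnd2 using hden
  set N := p.natDegree with hN
  set s : 𝓞 k := ∏ i ∈ Finset.range (N + 1), (nd i).2 with hs
  have hsv : s ∉ v.asIdeal := by
    intro h
    rw [hs, Ideal.IsPrime.prod_mem_iff (hp := v.isPrime)] at h
    obtain ⟨i, -, hi⟩ := h
    exact hnd1 i hi
  have hs1 : v.valuation k (algebraMap (𝓞 k) k s) = 1 := by
    rw [HeightOneSpectrum.valuation_eq_one_iff_notMem]
    exact hsv
  set c : ℕ → 𝓞 k := fun i => (nd i).1 * ∏ j ∈ (Finset.range (N + 1)).erase i, (nd j).2 with hc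
  have hcs : ∀ i ∈ Finset.range (N + 1),
      algebraMap (𝓞 k) k (c i) = algebraMap (𝓞 k) k s * p.coeff i := by
    intro i hi
    rw [hc, hs, ← Finset.mul_prod_erase _ _ hi]
    simp only [map_mul]
    rw [← hnd2 i]
    ring
  set q : Polynomial (𝓞 k) := ∑ i ∈ Finset.range (N + 1), Polynomial.monomial i (c i) with hq
  have hqcoeff : ∀ i, q.coeff i = if i ∈ Finset.range (N + 1) then c i else 0 := by
    intro i
    rw [hq, Polynomial.finsetSum_coeff]
    simp only [Polynomial.coeff_monomial]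
    rw [Finset.sum_ite_eq' (Finset.range (N + 1)) i]
  have hqmap : q.map (algebraMap (𝓞 k) k) = Polynomial.C (algebraMap (𝓞 k) k s) * p := by
    ext i
    rw [Polynomial.coeff_map, Polynomial.coeff_C_mul, hqcoeff]
    by_cases hi : i ∈ Finset.range (N + 1)
    · rw [if_pos hi, hcs i hi]
    · rw [if_neg hi, map_zero]
      rw [Finset.mem_range, not_lt] at hi
      rw [Polynomial.coeff_eq_zero_of_natDegree_lt (by omega), mul_zero]
  haveI := v.isMaximal
  letI : Field (𝓞 k ⧸ v.asIdeal) := Ideal.Quotient.field v.asIdeal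
  set qb : Polynomial (𝓞 k ⧸ v.asIdeal) := q.map (Ideal.Quotient.mk v.asIdeal) with hqb
  have hqb0 : qb ≠ 0 := by
    obtain ⟨i₀, hi₀⟩ := hunit
    intro h0
    have hi₀r : i₀ ∈ Finset.range (N + 1) := by
      rw [Finset.mem_range]
      by_contra hcon
      rw [not_lt] at hcon
      rw [Polynomial.coeff_eq_zero_of_natDegree_lt (by omega), map_zero] at hi₀
      exact zero_ne_one hi₀
    have h1 : qb.coeff i₀ = 0 := by rw [h0, Polynomial.coeff_zero]
    rw [hqb, Polynomial.coeff_map, hqcoeff, if_pos hi₀r, Ideal.Quotient.eq_zero_iff_mem] at h1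
    have h2 : v.valuation k (algebraMap (𝓞 k) k (c i₀)) < 1 :=
      (v.valuation_lt_one_iff_mem (c i₀)).2 h1
    rw [hcs i₀ hi₀r, map_mul, hs1, one_mul, hi₀] at h2
    exact lt_irrefl _ h2
  have hqbdeg : qb.natDegree ≤ N := by
    refine (Polynomial.natDegree_map_le).trans ?_
    rw [hq]
    refine Polynomial.natDegree_sum_le_of_forall_le _ _ fun i hi => ?_
    refine (Polynomial.natDegree_monomial_le _).trans ?_
    rw [Finset.mem_range] at hi
    omega
  haveI : Finite (𝓞 k ⧸ v.asIdeal) := Ideal.finiteQuotientOfFreeOfNeBot v.asIdeal v.ne_bot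
  haveI : Fintype (𝓞 k ⧸ v.asIdeal) := Fintype.ofFinite _
  have hcard : Fintype.card (𝓞 k ⧸ v.asIdeal) = Ideal.absNorm v.asIdeal := by
    rw [Ideal.absNorm_apply, Submodule.cardQuot_apply, Nat.card_eq_fintype_card]
  have hex : ∃ zb : 𝓞 k ⧸ v.asIdeal, qb.eval zb ≠ 0 := by
    by_contra h
    push Not at h
    apply hqb0
    refine Polynomial.eq_zero_of_natDegree_lt_card_of_eval_eq_zero' qb Finset.univ
      (fun z _ => h z) ?_
    rw [Finset.card_univ, hcard]
    omega
  obtain ⟨zb, hzb⟩ := hex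
  obtain ⟨z, rfl⟩ := Ideal.Quotient.mk_surjective zb
  refine ⟨z, ?_⟩
  have h1 : q.eval z ∉ v.asIdeal := by
    rw [← Ideal.Quotient.eq_zero_iff_mem]
    rw [hqb, Polynomial.eval_map, Polynomial.eval₂_at_apply] at hzb
    exact hzb
  have h2 : v.valuation k (algebraMap (𝓞 k) k (q.eval z)) = 1 := by
    rw [HeightOneSpectrum.valuation_eq_one_iff_notMem]
    exact h1
  have h3 : algebraMap (𝓞 k) k (q.eval z) =
      algebraMap (𝓞 k) k s * p.eval (algebraMap (𝓞 k) k z) := by
    have := congrArg (Polynomial.eval (algebraMap (𝓞 k) k z)) hqmap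
    rw [Polynomial.eval_map, Polynomial.eval₂_at_apply, Polynomial.eval_mul,
      Polynomial.eval_C] at this
    exact this
  rw [h3, map_mul, hs1, one_mul] at h2
  exact h2

/-- only finitely many places have a residue field of bounded size -/
theorem finite_absNorm_le (D : ℕ) :
    {v : HeightOneSpectrum (𝓞 k) | Ideal.absNorm v.asIdeal ≤ D}.Finite := by
  have h := Ideal.finite_setOfPred_absNorm_le (S := 𝓞 k) D
  refine Set.Finite.of_finite_image (f := fun v : HeightOneSpectrum (𝓞 k) => v.asIdeal)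
    (h.subset ?_) ?_
  · rintro _ ⟨v, hv, rfl⟩
    exact hv
  · intro v _ v' _ h
    exact HeightOneSpectrum.ext h

/-- a nonzero element is a unit at almost all places -/
theorem finite_val_ne_one (x : k) (hx : x ≠ 0) :
    {v : HeightOneSpectrum (𝓞 k) | v.valuation k x ≠ 1}.Finite := by
  have h1 : {v : HeightOneSpectrum (𝓞 k) | 1 < v.valuation k x}.Finite :=
    HeightOneSpectrum.Support.finite _ _
  have h2 : {v : HeightOneSpectrum (𝓞 k) | 1 < v.valuation k x⁻¹}.Finite :=
    HeightOneSpectrum.Support.finite _ _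
  refine (h1.union h2).subset fun v hv => ?_
  rw [Set.mem_ofPred_eq] at hv
  rcases lt_or_gt_of_ne hv with h | h
  · right
    rw [Set.mem_ofPred_eq, map_inv₀]
    exact (one_lt_inv₀ (zero_lt_iff.2 ((Valuation.ne_zero_iff _).2 hx))).2 h
  · left
    exact h

end nonroot

section top
variable {Λ : Type*} [TopologicalSpace Λ]

/-- product neighbourhoods with respect to the first coordinate -/
theorem exists_prod_nhd (n : ℕ) (N : Set (Fin (n + 1) → Λ)) (hN : IsOpen N)
    (P : Fin (n + 1) → Λ) (hP : P ∈ N) :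
    ∃ (A : Set Λ) (B : Set (Fin n → Λ)), IsOpen A ∧ IsOpen B ∧ P 0 ∈ A ∧ Fin.tail P ∈ B ∧
      ∀ z ∈ A, ∀ y ∈ B, (Fin.cons z y : Fin (n + 1) → Λ) ∈ N := by
  have hφ : Continuous (fun p : Λ × (Fin n → Λ) => (Fin.cons p.1 p.2 : Fin (n + 1) → Λ)) := by
    refine continuous_pi fun i => ?_
    refine Fin.cases ?_ (fun j => ?_) i
    · show Continuous fun a : Λ × (Fin n → Λ) => (Fin.cons a.1 a.2 : Fin (n + 1) → Λ) 0
      simp only [Fin.cons_zero]
      exact continuous_fst
    · show Continuous fun a : Λ × (Fin n → Λ) => (Fin.cons a.1 a.2 : Fin (n + 1) → Λ) j.succ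
      simp only [Fin.cons_succ]
      exact (continuous_apply j).comp continuous_snd
  have hmem : (P 0, Fin.tail P) ∈
      (fun p : Λ × (Fin n → Λ) => (Fin.cons p.1 p.2 : Fin (n + 1) → Λ)) ⁻¹' N := by
    rw [Set.mem_preimage]
    simp only [Fin.cons_self_tail]
    exact hP
  obtain ⟨A, B, hA, hB, hA0, hB0, hsub⟩ := isOpen_prod_iff.1 (hN.preimage hφ) _ _ hmem
  exact ⟨A, B, hA, hB, hA0, hB0, fun z hz y hy => hsub (Set.mk_mem_prod hz hy)⟩

end top

section infinite
variable {Λ : Type*} [NormedField Λ]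

/-- nonempty open subsets of a normed field with a small nonzero element are infinite -/
theorem infinite_of_isOpen (π : Λ) (hπ0 : π ≠ 0) (hπ1 : ‖π‖ < 1) (U : Set Λ) (hU : IsOpen U)
    (x₀ : Λ) (hx₀ : x₀ ∈ U) : U.Infinite := by
  obtain ⟨ε, hε, hball⟩ := Metric.isOpen_iff.1 hU x₀ hx₀
  obtain ⟨M, hM⟩ := exists_pow_lt_of_lt_one hε hπ1
  have hπpos : 0 < ‖π‖ := norm_pos_iff.2 hπ0
  refine Set.infinite_of_injective_forall_mem (f := fun m : ℕ => x₀ + π ^ (m + M)) ?_ ?_
  · intro a b hab
    simp only [add_right_inj] at hab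
    have h1 : ‖π‖ ^ (a + M) = ‖π‖ ^ (b + M) := by
      rw [← norm_pow, ← norm_pow, hab]
    have := (pow_right_injective₀ hπpos hπ1.ne) h1
    omega
  · intro m
    apply hball
    rw [Metric.mem_ball, dist_eq_norm, add_sub_cancel_left, norm_pow]
    calc ‖π‖ ^ (m + M) ≤ ‖π‖ ^ M := pow_le_pow_of_le_one hπpos.le hπ1.le (by omega)
      _ < ε := hM

open MvPolynomial in
/-- a nonzero polynomial does not vanish identically on a nonempty open set -/
theorem exists_mem_open_aeval_ne_zero {k : Type*} [Field k] [Algebra k Λ] (π : Λ) (hπ0 : π ≠ 0)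
    (hπ1 : ‖π‖ < 1) (n : ℕ) (g : MvPolynomial (Fin n) k) (hg : g ≠ 0) (B : Set (Fin n → Λ))
    (hB : IsOpen B) (y₀ : Fin n → Λ) (hy₀ : y₀ ∈ B) : ∃ y ∈ B, aeval y g ≠ 0 := by
  classical
  obtain ⟨I, u, hu, hsub⟩ := isOpen_pi_iff.1 hB y₀ hy₀
  set s : Fin n → Set Λ := fun i => if i ∈ I then u i else Set.univ with hs
  have hsinf : ∀ i, (s i).Infinite := by
    intro i
    by_cases hi : i ∈ I
    · simp only [hs, hi, if_true]
      exact infinite_of_isOpen π hπ0 hπ1 (u i) (hu i hi).1 (y₀ i) (hu i hi).2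
    · simp only [hs, hi, if_false]
      exact infinite_of_isOpen π hπ0 hπ1 Set.univ isOpen_univ 0 (Set.mem_univ _)
  by_contra hcon
  push Not at hcon
  apply hg
  have hmap : MvPolynomial.map (algebraMap k Λ) g = 0 := by
    refine MvPolynomial.funext_set s hsinf fun y hy => ?_
    rw [map_zero, MvPolynomial.eval_map, ← MvPolynomial.aeval_def]
    refine hcon y (hsub ?_)
    intro i hi
    have := hy i (Set.mem_univ i)
    simp only [hs, Finset.mem_coe.1 hi, if_true] at this
    exact this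
  exact (MvPolynomial.map_injective _ (algebraMap k Λ).injective) (by rw [hmap, map_zero])

end infinite

end Groth.Agent.Lib.helper12.SALoc
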