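import Mathlib
set_option linter.style.haveILetI false
set_option linter.unusedSectionVars false

namespace Groth.Agent.Lib.helper12.SAVal
open MvPolynomial

variable {k Λ Γ₀ : Type*} [Field k] [CommRing Λ] [Algebra k Λ]
  [LinearOrderedCommGroupWithZero Γ₀] (V : Valuation Λ Γ₀)

/-- products of integral congruent elements are congruent -/
theorem val_prod_sub_lt_one {ι : Type*} (S : Finset ι) (a a' : ι → Λ)
    (ha : ∀ i ∈ S, V (a i) ≤ 1) (ha' : ∀ i ∈ S, V (a' i) ≤ 1)
    (h : ∀ i ∈ S, V (a i - a' i) < 1) : V (∏ i ∈ S, a i - ∏ i ∈ S, a' i) < 1 := by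
  classical
  induction S using Finset.induction_on with
  | empty => simp
  | insert j S hj ih =>
    rw [Finset.prod_insert hj, Finset.prod_insert hj]
    have hsplit : a j * ∏ i ∈ S, a i - a' j * ∏ i ∈ S, a' i =
        a j * (∏ i ∈ S, a i - ∏ i ∈ S, a' i) + (a j - a' j) * ∏ i ∈ S, a' i := by ring
    rw [hsplit]
    refine lt_of_le_of_lt (V.map_add _ _) (max_lt ?_ ?_)
    · rw [map_mul]
      have h1 := ih (fun i hi => ha i (Finset.mem_insert_of_mem hi))
        (fun i hi => ha' i (Finset.mem_insert_of_mem hi))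
        (fun i hi => h i (Finset.mem_insert_of_mem hi))
      calc V (a j) * V (∏ i ∈ S, a i - ∏ i ∈ S, a' i)
          ≤ 1 * V (∏ i ∈ S, a i - ∏ i ∈ S, a' i) :=
            mul_le_mul_left (ha j (Finset.mem_insert_self j S)) _
        _ < 1 := by rw [one_mul]; exact h1
    · rw [map_mul]
      have h2 : V (∏ i ∈ S, a' i) ≤ 1 := by
        rw [map_prod]
        exact Finset.prod_le_one' fun i hi => ha' i (Finset.mem_insert_of_mem hi)
      calc V (a j - a' j) * V (∏ i ∈ S, a' i) ≤ V (a j - a' j) * 1 :=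
            mul_le_mul_right h2 _
        _ < 1 := by rw [mul_one]; exact h j (Finset.mem_insert_self j S)

theorem val_pow_sub_lt_one (a a' : Λ) (ha : V a ≤ 1) (ha' : V a' ≤ 1) (h : V (a - a') < 1)
    (e : ℕ) : V (a ^ e - a' ^ e) < 1 := by
  have := val_prod_sub_lt_one V (Finset.range e) (fun _ => a) (fun _ => a') (fun _ _ => ha)
    (fun _ _ => ha') (fun _ _ => h)
  simpa using this

variable {σ : Type*}

/-- an integral polynomial takes integral values at integral points -/
theorem val_aeval_le_one (g : MvPolynomial σ k) (hg : ∀ s, V (algebraMap k Λ (g.coeff s)) ≤ 1)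
    (y : σ → Λ) (hy : ∀ i, V (y i) ≤ 1) : V (aeval y g) ≤ 1 := by
  rw [aeval_def, eval₂_eq]
  refine V.map_sum_le fun s _ => ?_
  rw [map_mul, map_prod]
  refine mul_le_one' (hg s) (Finset.prod_le_one' fun i _ => ?_)
  rw [map_pow]
  exact pow_le_one' (hy i) _

/-- an integral polynomial takes congruent values at congruent integral points -/
theorem val_aeval_sub_lt_one (g : MvPolynomial σ k) (hg : ∀ s, V (algebraMap k Λ (g.coeff s)) ≤ 1)
    (y y' : σ → Λ) (hy : ∀ i, V (y i) ≤ 1) (hy' : ∀ i, V (y' i) ≤ 1)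
    (h : ∀ i, V (y i - y' i) < 1) : V (aeval y g - aeval y' g) < 1 := by
  rw [aeval_def, aeval_def, eval₂_eq, eval₂_eq, ← Finset.sum_sub_distrib]
  refine V.map_sum_lt one_ne_zero fun s _ => ?_
  rw [← mul_sub, map_mul]
  have h1 : V (∏ i ∈ s.support, y i ^ s i - ∏ i ∈ s.support, y' i ^ s i) < 1 := by
    refine val_prod_sub_lt_one V s.support (fun i => y i ^ s i) (fun i => y' i ^ s i)
      (fun i _ => ?_) (fun i _ => ?_) (fun i _ => ?_)
    · rw [map_pow]; exact pow_le_one' (hy i) _
    · rw [map_pow]; exact pow_le_one' (hy' i) _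
    · exact val_pow_sub_lt_one V _ _ (hy i) (hy' i) (h i) _
  calc V (algebraMap k Λ (g.coeff s)) *
        V (∏ i ∈ s.support, y i ^ s i - ∏ i ∈ s.support, y' i ^ s i)
      ≤ 1 * V (∏ i ∈ s.support, y i ^ s i - ∏ i ∈ s.support, y' i ^ s i) :=
        mul_le_mul_left (hg s) _
    _ < 1 := by rw [one_mul]; exact h1

/-- congruent to a unit value: a unit value -/
theorem val_eq_one_of_sub_lt_one (x x' : Λ) (hx' : V x' = 1) (h : V (x - x') < 1) : V x = 1 := by
  have : x = x' + (x - x') := by ring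
  rw [this, V.map_add_eq_of_lt_left (by rw [hx']; exact h), hx']

/-- if a sum of products with integral cofactors is a unit, one of the factors is a unit -/
theorem exists_val_eq_one_of_sum {ι : Type*} (S : Finset ι) (h f : ι → Λ)
    (hh : ∀ i ∈ S, V (h i) ≤ 1) (hf : ∀ i ∈ S, V (f i) ≤ 1)
    (hsum : V (∑ i ∈ S, h i * f i) = 1) : ∃ i ∈ S, V (f i) = 1 := by
  by_contra hcon
  push Not at hcon
  have hlt : V (∑ i ∈ S, h i * f i) < 1 := by
    refine V.map_sum_lt one_ne_zero fun i hi => ?_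
    rw [map_mul]
    have h1 : V (f i) < 1 := lt_of_le_of_ne (hf i hi) (hcon i hi)
    calc V (h i) * V (f i) ≤ 1 * V (f i) := mul_le_mul_left (hh i hi) _
      _ < 1 := by rw [one_mul]; exact h1
  rw [hsum] at hlt
  exact lt_irrefl _ hlt

end Groth.Agent.Lib.helper12.SAVal
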