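import Mathlib
import Groth.Agent.Lib.Helper12.SAVal
set_option linter.style.haveILetI false
set_option linter.unusedSectionVars false

namespace Groth.Agent.Lib.helper12.SAPoly
open MvPolynomial

section ev
variable {k Λ : Type*} [Field k] [CommRing Λ] [Algebra k Λ] (n : ℕ)

/-- evaluation at `cons z y` via the distinguished first variable -/
theorem aeval_cons_eq (z : Λ) (y : Fin n → Λ) (f : MvPolynomial (Fin (n + 1)) k) :
    aeval (Fin.cons z y : Fin (n + 1) → Λ) f =
      Polynomial.eval₂ ((aeval y : MvPolynomial (Fin n) k →ₐ[k] Λ) : MvPolynomial (Fin n) k →+* Λ) z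
        (finSuccEquiv k n f) := by
  have h : ((aeval (Fin.cons z y : Fin (n + 1) → Λ) : MvPolynomial (Fin (n + 1)) k →ₐ[k] Λ) :
      MvPolynomial (Fin (n + 1)) k →+* Λ) =
      (Polynomial.eval₂RingHom ((aeval y : MvPolynomial (Fin n) k →ₐ[k] Λ) :
        MvPolynomial (Fin n) k →+* Λ) z).comp
        ((finSuccEquiv k n : MvPolynomial (Fin (n + 1)) k ≃ₐ[k] _) : _ →+* _) := by
    refine MvPolynomial.ringHom_ext (fun a => ?_) (fun i => ?_)
    · simp [finSuccEquiv_apply]
    · refine Fin.cases ?_ (fun j => ?_) i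
      · simp [finSuccEquiv_X_zero]
      · simp [finSuccEquiv_X_succ]
  exact RingHom.congr_fun h f

theorem aeval_cons_eq_sum (z : Λ) (y : Fin n → Λ) (f : MvPolynomial (Fin (n + 1)) k) (D : ℕ)
    (hD : (finSuccEquiv k n f).natDegree ≤ D) :
    aeval (Fin.cons z y : Fin (n + 1) → Λ) f =
      ∑ l ∈ Finset.range (D + 1), aeval y ((finSuccEquiv k n f).coeff l) * z ^ l := by
  rw [aeval_cons_eq, Polynomial.eval₂_eq_sum_range' _ (Nat.lt_succ_of_le hD)]
  rfl

theorem aeval_eq_sum (P : Fin (n + 1) → Λ) (f : MvPolynomial (Fin (n + 1)) k) (D : ℕ)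
    (hD : (finSuccEquiv k n f).natDegree ≤ D) :
    aeval P f =
      ∑ l ∈ Finset.range (D + 1), aeval (Fin.tail P) ((finSuccEquiv k n f).coeff l) * P 0 ^ l := by
  conv_lhs => rw [← Fin.cons_self_tail P]
  exact aeval_cons_eq_sum n (P 0) (Fin.tail P) f D hD

/-- a nonzero value forces a nonzero coefficient value -/
theorem exists_coeff_ne_zero (P : Fin (n + 1) → Λ) (f : MvPolynomial (Fin (n + 1)) k) (D : ℕ)
    (hD : (finSuccEquiv k n f).natDegree ≤ D) (h : aeval P f ≠ 0) :
    ∃ l ∈ Finset.range (D + 1), aeval (Fin.tail P) ((finSuccEquiv k n f).coeff l) ≠ 0 := by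
  by_contra hcon
  push Not at hcon
  apply h
  rw [aeval_eq_sum n P f D hD]
  refine Finset.sum_eq_zero fun l hl => ?_
  rw [hcon l hl, zero_mul]

variable {Γ₀ : Type*} [LinearOrderedCommGroupWithZero Γ₀] (V : Valuation Λ Γ₀)

theorem coeff_coeff_int (f : MvPolynomial (Fin (n + 1)) k)
    (hf : ∀ s, V (algebraMap k Λ (f.coeff s)) ≤ 1) (l : ℕ) (s : Fin n →₀ ℕ) :
    V (algebraMap k Λ (((finSuccEquiv k n f).coeff l).coeff s)) ≤ 1 := by
  rw [finSuccEquiv_coeff_coeff]
  exact hf _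

/-- a unit value at an integral point forces a unit coefficient value -/
theorem exists_coeff_val_eq_one (P : Fin (n + 1) → Λ) (hP : ∀ i, V (P i) ≤ 1)
    (f : MvPolynomial (Fin (n + 1)) k) (hf : ∀ s, V (algebraMap k Λ (f.coeff s)) ≤ 1) (D : ℕ)
    (hD : (finSuccEquiv k n f).natDegree ≤ D) (h : V (aeval P f) = 1) :
    ∃ l ∈ Finset.range (D + 1), V (aeval (Fin.tail P) ((finSuccEquiv k n f).coeff l)) = 1 := by
  rw [aeval_eq_sum n P f D hD] at h
  have h' : V (∑ l ∈ Finset.range (D + 1),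
      P 0 ^ l * aeval (Fin.tail P) ((finSuccEquiv k n f).coeff l)) = 1 := by
    rw [← h]
    congr 1
    exact Finset.sum_congr rfl fun l _ => mul_comm _ _
  refine SAVal.exists_val_eq_one_of_sum V _ _ _ (fun l _ => ?_) (fun l _ => ?_) h'
  · rw [map_pow]; exact pow_le_one' (hP 0) l
  · exact SAVal.val_aeval_le_one V _ (coeff_coeff_int n V f hf l) _ (fun i => hP i.succ)

end ev

end Groth.Agent.Lib.helper12.SAPoly
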