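import Mathlib
import Groth.Agent.Lib.Helper12.SAVal
import Groth.Agent.Lib.Helper12.SAPoly
import Groth.Agent.Lib.Helper12.SALoc
import Groth.Agent.Lib.Helper12.NFApproxLocal
set_option linter.style.haveILetI false
set_option linter.unusedSectionVars false

universe u
namespace Groth.Agent.Lib.helper12.SAAux
open IsDedekindDomain HeightOneSpectrum NumberField MvPolynomial

section general
variable {k Λ : Type*} [Field k] [CommRing Λ] [Algebra k Λ]
variable {Γ₀ : Type*} [LinearOrderedCommGroupWithZero Γ₀] (V : Valuation Λ Γ₀)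

/-- a point congruent to an integral point with a unit value is integral with a unit value -/
theorem cong_unit {σ : Type*} (F : MvPolynomial σ k)
    (hF : ∀ s, V (algebraMap k Λ (F.coeff s)) ≤ 1) (P Q : σ → Λ) (hQ : ∀ i, V (Q i) ≤ 1)
    (hPQ : ∀ i, V (P i - Q i) < 1) (hu : V (aeval Q F) = 1) :
    V (aeval P F) = 1 := by
  have hP : ∀ i, V (P i) ≤ 1 := by
    intro i
    have : P i = Q i + (P i - Q i) := by ring
    rw [this]
    exact le_trans (V.map_add _ _) (max_le (hQ i) (hPQ i).le)
  exact SAVal.val_eq_one_of_sub_lt_one V _ _ hu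
    (SAVal.val_aeval_sub_lt_one V F hF P Q hP hQ hPQ)

theorem cong_int {σ : Type*} (P Q : σ → Λ) (hQ : ∀ i, V (Q i) ≤ 1)
    (hPQ : ∀ i, V (P i - Q i) < 1) (i : σ) : V (P i) ≤ 1 := by
  have : P i = Q i + (P i - Q i) := by ring
  rw [this]
  exact le_trans (V.map_add _ _) (max_le (hQ i) (hPQ i).le)

/-- Bezout: if a combination with integral cofactors is a unit then some member is a unit -/
theorem bezout_unit {σ ι : Type*} [Fintype ι] (F H : ι → MvPolynomial σ k)
    (hF : ∀ j s, V (algebraMap k Λ ((F j).coeff s)) ≤ 1)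
    (hH : ∀ j s, V (algebraMap k Λ ((H j).coeff s)) ≤ 1) (P : σ → Λ) (hP : ∀ i, V (P i) ≤ 1)
    (hsum : V (∑ j, aeval P (H j) * aeval P (F j)) = 1) : ∃ j, V (aeval P (F j)) = 1 := by
  obtain ⟨j, -, hj⟩ := SAVal.exists_val_eq_one_of_sum V Finset.univ (fun j => aeval P (H j))
    (fun j => aeval P (F j)) (fun j _ => SAVal.val_aeval_le_one V _ (hH j) P hP)
    (fun j _ => SAVal.val_aeval_le_one V _ (hF j) P hP) hsum
  exact ⟨j, hj⟩

end general

section top
variable {Λ : Type*} [TopologicalSpace Λ]

/-- product neighbourhoods, in a form convenient for `choose` -/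
theorem exists_prod_nhd' (n : ℕ) (N : Set (Fin (n + 1) → Λ)) (P : Fin (n + 1) → Λ) :
    ∃ (A : Set Λ) (B : Set (Fin n → Λ)), IsOpen N → P ∈ N →
      (IsOpen A ∧ IsOpen B ∧ P 0 ∈ A ∧ Fin.tail P ∈ B ∧
        ∀ z ∈ A, ∀ y ∈ B, (Fin.cons z y : Fin (n + 1) → Λ) ∈ N) := by
  by_cases h : IsOpen N ∧ P ∈ N
  · obtain ⟨A, B, h1⟩ := SALoc.exists_prod_nhd n N h.1 P h.2
    exact ⟨A, B, fun _ _ => h1⟩
  · exact ⟨Set.univ, Set.univ, fun h1 h2 => absurd ⟨h1, h2⟩ h⟩

end top

section nf
variable {k : Type*} [Field k] [NumberField k]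

/-- the set of points congruent to a given point is open -/
theorem isOpen_close (v : HeightOneSpectrum (𝓞 k)) (n : ℕ) (Q : Fin n → v.adicCompletion k) :
    IsOpen {P : Fin n → v.adicCompletion k | ∀ i, Valued.v (P i - Q i) < 1} := by
  have h : {P : Fin n → v.adicCompletion k | ∀ i, Valued.v (P i - Q i) < 1} =
      Set.pi Set.univ (fun i => Metric.ball (Q i) 1) := by
    ext P
    simp only [Set.mem_ofPred_eq, Set.mem_pi, Set.mem_univ, forall_true_left, Metric.mem_ball,
      dist_eq_norm, Valued.toNormedField.norm_lt_one_iff]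
  rw [h]
  exact isOpen_set_pi Set.finite_univ fun i _ => Metric.isOpen_ball

theorem mem_ball_iff (v : HeightOneSpectrum (𝓞 k)) (z z' : k) :
    algebraMap k (v.adicCompletion k) z ∈
      Metric.ball (algebraMap k (v.adicCompletion k) z') 1 ↔ v.valuation k (z - z') < 1 := by
  rw [Metric.mem_ball, dist_eq_norm, Valued.toNormedField.norm_lt_one_iff, ← map_sub]
  change Valued.v ((z - z' : k) : v.adicCompletion k) < 1 ↔ _
  rw [valuedAdicCompletion_eq_valuation']

theorem val_algebraMap (v : HeightOneSpectrum (𝓞 k)) (x : k) :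
    Valued.v (algebraMap k (v.adicCompletion k) x) = v.valuation k x := by
  change Valued.v ((x : k) : v.adicCompletion k) = _
  rw [valuedAdicCompletion_eq_valuation']

/-- infinite completions contain small nonzero elements -/
theorem exists_small (w : InfinitePlace k) : ∃ π : w.Completion, π ≠ 0 ∧ ‖π‖ < 1 := by
  refine ⟨algebraMap k w.Completion (2⁻¹ : k), ?_, ?_⟩
  · rw [Ne, map_eq_zero]
    norm_num
  · have h := NFApproxLocal.norm_infinite_coe_sub w (2⁻¹ : k) 0
    rw [map_zero, sub_zero, sub_zero] at h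
    have h2 : w (2 : k) = 2 := by
      have := NFSplit.infinitePlace_natCast w 2
      simpa using this
    rw [h, map_inv₀, h2]
    norm_num

/-- the nonvanishing locus of a polynomial is open -/
theorem isOpen_aeval_ne_zero (w : InfinitePlace k) (n : ℕ) (g : MvPolynomial (Fin n) k) :
    IsOpen {y : Fin n → w.Completion | aeval y g ≠ 0} := by
  have hc : Continuous fun y : Fin n → w.Completion => aeval y g := by
    have : (fun y : Fin n → w.Completion => aeval y g) =
        fun y => eval y (map (algebraMap k w.Completion) g) := by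
      funext y
      rw [eval_map, aeval_def]
    rw [this]
    exact MvPolynomial.continuous_eval _
  exact isOpen_ne_fun hc continuous_const

/-- places where some coefficient of a finite family of polynomials is not integral -/
theorem finite_bad_coeff {σ ι : Type*} [Finite ι] (H : ι → MvPolynomial σ k) :
    {v : HeightOneSpectrum (𝓞 k) | ∃ j s, 1 < v.valuation k ((H j).coeff s)}.Finite := by
  classical
  have h : {v : HeightOneSpectrum (𝓞 k) | ∃ j s, 1 < v.valuation k ((H j).coeff s)} ⊆
      ⋃ j, ⋃ s ∈ (H j).support, {v : HeightOneSpectrum (𝓞 k) | 1 < v.valuation k ((H j).coeff s)} := by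
    rintro v ⟨j, s, hs⟩
    rw [Set.mem_iUnion]
    refine ⟨j, ?_⟩
    rw [Set.mem_iUnion₂]
    refine ⟨s, ?_, hs⟩
    rw [MvPolynomial.mem_support_iff]
    intro h0
    rw [h0, map_zero] at hs
    exact not_lt.2 zero_le_one hs
  refine Set.Finite.subset ?_ h
  refine Set.finite_iUnion fun j => ?_
  refine Set.Finite.biUnion (Finset.finite_toSet _) fun s _ => ?_
  exact HeightOneSpectrum.Support.finite _ _

/-- a local integral point over a given integral `y` with a unit coefficient value -/
theorem exists_local_z (v : HeightOneSpectrum (𝓞 k)) (n : ℕ) (f : MvPolynomial (Fin (n + 1)) k)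
    (hf : ∀ s, v.valuation k (f.coeff s) ≤ 1) (D : ℕ)
    (hD : (finSuccEquiv k n f).natDegree ≤ D) (hDv : D < Ideal.absNorm v.asIdeal)
    (y : Fin n → k) (hy : ∀ i, v.valuation k (y i) ≤ 1) (l : ℕ)
    (hl : v.valuation k (aeval y ((finSuccEquiv k n f).coeff l)) = 1) :
    ∃ z : 𝓞 k, v.valuation k
      (aeval (Fin.cons (algebraMap (𝓞 k) k z) y : Fin (n + 1) → k) f) = 1 := by
  set φ : MvPolynomial (Fin n) k →+* k :=
    ((aeval y : MvPolynomial (Fin n) k →ₐ[k] k) : MvPolynomial (Fin n) k →+* k) with hφ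
  set p : Polynomial k := Polynomial.map φ (finSuccEquiv k n f) with hp
  have hcoeff : ∀ i, p.coeff i = aeval y ((finSuccEquiv k n f).coeff i) := by
    intro i
    rw [hp, Polynomial.coeff_map]
    rfl
  have hint : ∀ i, v.valuation k (p.coeff i) ≤ 1 := by
    intro i
    rw [hcoeff]
    refine SAVal.val_aeval_le_one (v.valuation k) _ (fun s => ?_) y hy
    rw [Algebra.algebraMap_self_apply, finSuccEquiv_coeff_coeff]
    exact hf _
  have hunit : ∃ i, v.valuation k (p.coeff i) = 1 := ⟨l, by rw [hcoeff]; exact hl⟩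
  have hdeg : p.natDegree < Ideal.absNorm v.asIdeal :=
    lt_of_le_of_lt (Polynomial.natDegree_map_le.trans hD) hDv
  obtain ⟨z, hz⟩ := SALoc.exists_int_unit_value v p hint hunit hdeg
  refine ⟨z, ?_⟩
  rw [SAPoly.aeval_cons_eq]
  rw [hp, Polynomial.eval_map] at hz
  exact hz

end nf

end Groth.Agent.Lib.helper12.SAAux
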