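import Mathlib
import Groth.Agent.Lib.Helper26.DimFormula7
set_option linter.style.haveILetI false
set_option linter.unusedSectionVars false

universe u
namespace Groth.Agent.Lib.helper12.SADim
open MvPolynomial

theorem arith (a b : WithBot ℕ∞) (n : ℕ) (h1 : a + 1 ≤ b)
    (h2 : b + 2 ≤ ((n + 1 : ℕ) : WithBot ℕ∞)) : a + 2 ≤ (n : WithBot ℕ∞) := by
  induction a using WithBot.recBotCoe with
  | bot => simp
  | coe a =>
    induction b using WithBot.recBotCoe with
    | bot => simp at h1
    | coe b =>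
      have h1' : a + 1 ≤ b := by
        have : ((a + 1 : ℕ∞) : WithBot ℕ∞) ≤ (b : WithBot ℕ∞) := by
          rw [WithBot.coe_add]; exact h1
        exact WithBot.coe_le_coe.1 this
      have h2' : b + 2 ≤ ((n + 1 : ℕ) : ℕ∞) := by
        have : ((b + 2 : ℕ∞) : WithBot ℕ∞) ≤ (((n + 1 : ℕ) : ℕ∞) : WithBot ℕ∞) := by
          rw [WithBot.coe_add]; exact h2
        exact WithBot.coe_le_coe.1 this
      have hb : b ≠ ⊤ := by
        intro h
        rw [h] at h2'
        simp at h2'
      obtain ⟨b', rfl⟩ := ENat.ne_top_iff_exists.1 hb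
      have ha : a ≠ ⊤ := by
        intro h
        rw [h] at h1'
        simp at h1'
      obtain ⟨a', rfl⟩ := ENat.ne_top_iff_exists.1 ha
      have h1'' : a' + 1 ≤ b' := by exact_mod_cast h1'
      have h2'' : b' + 2 ≤ n + 1 := by exact_mod_cast h2'
      have h3 : a' + 2 ≤ n := by omega
      have h4 : ((a' : ℕ∞) + 2 : ℕ∞) ≤ (n : ℕ∞) := by exact_mod_cast h3
      have h5 : (((a' : ℕ∞) + 2 : ℕ∞) : WithBot ℕ∞) ≤ ((n : ℕ∞) : WithBot ℕ∞) :=
        WithBot.coe_le_coe.2 h4
      rw [WithBot.coe_add] at h5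
      exact h5

variable (k : Type u) [Field k] (n : ℕ)

/-- the elimination ideal of an ideal of codimension at least two is nonzero -/
theorem exists_elim (I : Ideal (MvPolynomial (Fin (n + 1)) k))
    (hdim : ringKrullDim (MvPolynomial (Fin (n + 1)) k ⧸ I) + 2 ≤ ((n + 1 : ℕ) : WithBot ℕ∞)) :
    ∃ g : MvPolynomial (Fin n) k, g ≠ 0 ∧ rename Fin.succ g ∈ I := by
  classical
  by_contra hcon
  push Not at hcon
  set ι : MvPolynomial (Fin n) k →ₐ[k] MvPolynomial (Fin (n + 1)) k := rename Fin.succ with hι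
  set M : Submonoid (MvPolynomial (Fin (n + 1)) k) :=
    Submonoid.map (ι : MvPolynomial (Fin n) k →* MvPolynomial (Fin (n + 1)) k)
      (nonZeroDivisors (MvPolynomial (Fin n) k)) with hM
  have hdisj : Disjoint (I : Set (MvPolynomial (Fin (n + 1)) k)) M := by
    rw [Set.disjoint_left]
    rintro x hxI ⟨g, hg, rfl⟩
    exact hcon g (nonZeroDivisors.ne_zero hg) hxI
  obtain ⟨p, hp, hIp, hpM⟩ := Ideal.exists_le_prime_disjoint I M hdisj
  haveI := hp
  set S := MvPolynomial (Fin (n + 1)) k ⧸ p with hS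
  set x : Fin n → S := fun i => Ideal.Quotient.mk p (X i.succ) with hx
  have haeval : (aeval x : MvPolynomial (Fin n) k →ₐ[k] S) = (Ideal.Quotient.mkₐ k p).comp ι := by
    refine MvPolynomial.algHom_ext fun i => ?_
    simp [hx, hι]
  have hindep : AlgebraicIndependent k x := by
    rw [algebraicIndependent_iff_injective_aeval, haeval]
    rw [injective_iff_map_eq_zero]
    intro g hg
    by_contra hg0
    have h1 : ι g ∈ p := by
      have : (Ideal.Quotient.mk p) (ι g) = 0 := hg
      exact Ideal.Quotient.eq_zero_iff_mem.1 this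
    have h2 : ι g ∈ M := ⟨g, mem_nonZeroDivisors_of_ne_zero hg0, rfl⟩
    exact Set.disjoint_left.1 hpM h1 h2
  have hcard := hindep.lift_cardinalMk_le_trdeg
  obtain ⟨d, hd⟩ := Groth.Agent.Lib.helper26.DimFormula.exists_nat_trdeg k S
  have hdimS := (Groth.Agent.Lib.helper26.DimFormula.ringKrullDim_eq_of_trdeg k S d hd).1
  have hnd : n ≤ d := by
    rw [hd, Cardinal.mk_fin] at hcard
    simpa using hcard
  have hle : ringKrullDim S ≤ ringKrullDim (MvPolynomial (Fin (n + 1)) k ⧸ I) :=
    ringKrullDim_le_of_surjective (Ideal.Quotient.factor hIp) (Ideal.Quotient.factor_surjective hIp)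
  have h3 : ((d : ℕ) : WithBot ℕ∞) + 2 ≤ ((n + 1 : ℕ) : WithBot ℕ∞) := by
    rw [← hdimS]
    exact le_trans (add_le_add_left hle 2) hdim
  have h4 : d + 2 ≤ n + 1 := by exact_mod_cast h3
  omega

/-- the reduction map to the polynomial ring over the quotient by the coefficient ideal -/
noncomputable def redMap (J : Ideal (MvPolynomial (Fin n) k)) :
    MvPolynomial (Fin (n + 1)) k →+* Polynomial (MvPolynomial (Fin n) k ⧸ J) :=
  (Polynomial.mapRingHom (Ideal.Quotient.mk J)).comp
    ((finSuccEquiv k n : MvPolynomial (Fin (n + 1)) k ≃ₐ[k] _) : _ →+* _)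

theorem redMap_apply (J : Ideal (MvPolynomial (Fin n) k)) (f : MvPolynomial (Fin (n + 1)) k) :
    redMap k n J f = Polynomial.map (Ideal.Quotient.mk J) (finSuccEquiv k n f) := rfl

theorem redMap_surjective (J : Ideal (MvPolynomial (Fin n) k)) :
    Function.Surjective (redMap k n J) := by
  intro q
  obtain ⟨q', rfl⟩ := Polynomial.map_surjective _ (Ideal.Quotient.mk_surjective (I := J)) q
  obtain ⟨f, rfl⟩ := (finSuccEquiv k n).surjective q'
  exact ⟨f, rfl⟩

/-- the ideal of coefficients has codimension at least two in one variable less -/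
theorem dim_coeff_ideal {ι : Type*} (F : ι → MvPolynomial (Fin (n + 1)) k)
    (J : Ideal (MvPolynomial (Fin n) k))
    (hJ : ∀ j l, (finSuccEquiv k n (F j)).coeff l ∈ J)
    (hdim : ringKrullDim (MvPolynomial (Fin (n + 1)) k ⧸ Ideal.span (Set.range F)) + 2 ≤
      ((n + 1 : ℕ) : WithBot ℕ∞)) :
    ringKrullDim (MvPolynomial (Fin n) k ⧸ J) + 2 ≤ (n : WithBot ℕ∞) := by
  have hker : ∀ a ∈ Ideal.span (Set.range F), redMap k n J a = 0 := by
    intro a ha
    have hle : Ideal.span (Set.range F) ≤ RingHom.ker (redMap k n J) := by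
      rw [Ideal.span_le]
      rintro _ ⟨j, rfl⟩
      rw [SetLike.mem_coe, RingHom.mem_ker, redMap_apply]
      ext l
      rw [Polynomial.coeff_map, Polynomial.coeff_zero, Ideal.Quotient.eq_zero_iff_mem]
      exact hJ j l
    exact hle ha
  have hsurj : Function.Surjective
      (Ideal.Quotient.lift (Ideal.span (Set.range F)) (redMap k n J) hker) :=
    Ideal.Quotient.lift_surjective_of_surjective _ hker (redMap_surjective k n J)
  have h1 : ringKrullDim (Polynomial (MvPolynomial (Fin n) k ⧸ J)) ≤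
      ringKrullDim (MvPolynomial (Fin (n + 1)) k ⧸ Ideal.span (Set.range F)) :=
    ringKrullDim_le_of_surjective _ hsurj
  have h2 := ringKrullDim_succ_le_ringKrullDim_polynomial (R := MvPolynomial (Fin n) k ⧸ J)
  exact arith _ _ n (h2.trans h1) hdim

end Groth.Agent.Lib.helper12.SADim
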