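import Mathlib
import Groth.Agent.Lib.Helper12.SAVal
import Groth.Agent.Lib.Helper12.SAPoly
import Groth.Agent.Lib.Helper12.SADim
import Groth.Agent.Lib.Helper12.SALoc
import Groth.Agent.Lib.Helper12.SAAux
import Groth.Agent.Lib.Helper12.NFApproxLocal
set_option linter.style.haveILetI false
set_option linter.unusedSectionVars false
set_option linter.unusedVariables false

universe u
namespace Groth.Agent.Lib.helper12.SAMain
open IsDedekindDomain HeightOneSpectrum NumberField MvPolynomial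

variable {k : Type u} [Field k] [NumberField k]

/-- strong approximation off `v₀` for the complement of the common zero locus of a family of
polynomials in `n` variables with coefficients integral outside `Sf`, cutting out a closed set of
codimension at least two -/
def SAProp (v₀ : HeightOneSpectrum (𝓞 k)) (Sf : Finset (HeightOneSpectrum (𝓞 k))) (n : ℕ) : Prop :=
  ∀ (ι : Type) [Fintype ι] (F : ι → MvPolynomial (Fin n) k)
    (_ : ∀ v : HeightOneSpectrum (𝓞 k), v ∉ Sf → ∀ j s, v.valuation k ((F j).coeff s) ≤ 1)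
    (_ : ringKrullDim (MvPolynomial (Fin n) k ⧸ Ideal.span (Set.range F)) + 2 ≤
      ((n : ℕ) : WithBot ℕ∞))
    (Pf : (v : HeightOneSpectrum (𝓞 k)) → (Fin n → v.adicCompletion k))
    (Nf : (v : HeightOneSpectrum (𝓞 k)) → Set (Fin n → v.adicCompletion k))
    (_ : ∀ v ∈ Sf, v ≠ v₀ → IsOpen (Nf v) ∧ Pf v ∈ Nf v)
    (Pi : (w : InfinitePlace k) → (Fin n → w.Completion))
    (Ni : (w : InfinitePlace k) → Set (Fin n → w.Completion))
    (_ : ∀ w, IsOpen (Ni w) ∧ Pi w ∈ Ni w)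
    (T : Finset (HeightOneSpectrum (𝓞 k))) (_ : Disjoint T Sf)
    (Q : (v : HeightOneSpectrum (𝓞 k)) → (Fin n → v.adicCompletion k))
    (_ : ∀ v ∈ T, (∀ i, Valued.v (Q v i) ≤ 1) ∧ ∃ j, Valued.v (aeval (Q v) (F j)) = 1)
    (W : (v : HeightOneSpectrum (𝓞 k)) → Set (Fin n → v.adicCompletion k))
    (_ : ∀ v ∈ T, IsOpen (W v) ∧ Q v ∈ W v)
    (_ : ∀ v : HeightOneSpectrum (𝓞 k), v ∉ Sf → ∃ R : Fin n → v.adicCompletion k,
      (∀ i, Valued.v (R i) ≤ 1) ∧ ∃ j, Valued.v (aeval R (F j)) = 1),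
    ∃ P : Fin n → k,
      (∀ v : HeightOneSpectrum (𝓞 k), v ∉ Sf → (∀ i, v.valuation k (P i) ≤ 1) ∧
        ∃ j, v.valuation k (aeval P (F j)) = 1) ∧
      (∀ v ∈ Sf, v ≠ v₀ → (fun i => algebraMap k (v.adicCompletion k) (P i)) ∈ Nf v) ∧
      (∀ w : InfinitePlace k, (fun i => algebraMap k w.Completion (P i)) ∈ Ni w) ∧
      (∀ v ∈ T, (fun i => algebraMap k (v.adicCompletion k) (P i)) ∈ W v)

theorem SAProp_zero (v₀ : HeightOneSpectrum (𝓞 k)) (Sf : Finset (HeightOneSpectrum (𝓞 k))) :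
    SAProp v₀ Sf 0 := by
  intro ι _ F hint hcodim Pf Nf hNf Pi Ni hNi T hT Q hQ W hW hne
  refine ⟨fun i => i.elim0, ?_, ?_, ?_, ?_⟩
  · intro v hv
    refine ⟨fun i => i.elim0, ?_⟩
    obtain ⟨R, -, j, hj⟩ := hne v hv
    refine ⟨j, ?_⟩
    have hR : R = algebraMap k (v.adicCompletion k) ∘ (fun i => i.elim0 : Fin 0 → k) :=
      Subsingleton.elim _ _
    rw [hR, aeval_algebraMap_apply, SAAux.val_algebraMap] at hj
    exact hj
  · intro v hv hv0
    have : (fun i => algebraMap k (v.adicCompletion k) ((fun i => i.elim0 : Fin 0 → k) i)) = Pf v :=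
      Subsingleton.elim _ _
    rw [this]
    exact (hNf v hv hv0).2
  · intro w
    have : (fun i => algebraMap k w.Completion ((fun i => i.elim0 : Fin 0 → k) i)) = Pi w :=
      Subsingleton.elim _ _
    rw [this]
    exact (hNi w).2
  · intro v hv
    have : (fun i => algebraMap k (v.adicCompletion k) ((fun i => i.elim0 : Fin 0 → k) i)) = Q v :=
      Subsingleton.elim _ _
    rw [this]
    exact (hW v hv).2

theorem SAProp_succ (v₀ : HeightOneSpectrum (𝓞 k)) (Sf : Finset (HeightOneSpectrum (𝓞 k)))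
    (hv₀ : v₀ ∈ Sf) (n : ℕ) (IH : SAProp v₀ Sf n) : SAProp v₀ Sf (n + 1) := by
  classical
  unfold SAProp at IH
  intro ι _ F hint hcodim Pf Nf hNf Pi Ni hNi T hT Q hQ W hW hne
  -- the coefficient system
  set G : ι → Polynomial (MvPolynomial (Fin n) k) := fun j => finSuccEquiv k n (F j) with hG
  set D : ℕ := Finset.univ.sup (fun j => (G j).natDegree) with hDdef
  have hD : ∀ j, (G j).natDegree ≤ D := fun j =>
    Finset.le_sup (f := fun j => (G j).natDegree) (Finset.mem_univ j)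
  set F' : ι × Fin (D + 1) → MvPolynomial (Fin n) k := fun e => (G e.1).coeff e.2 with hF'
  have hint' : ∀ v : HeightOneSpectrum (𝓞 k), v ∉ Sf →
      ∀ e s, v.valuation k ((F' e).coeff s) ≤ 1 := by
    intro v hv e s
    show v.valuation k (((finSuccEquiv k n (F e.1)).coeff e.2).coeff s) ≤ 1
    rw [finSuccEquiv_coeff_coeff]
    exact hint v hv _ _
  have hcodim' : ringKrullDim (MvPolynomial (Fin n) k ⧸ Ideal.span (Set.range F')) + 2 ≤
      ((n : ℕ) : WithBot ℕ∞) := by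
    refine SADim.dim_coeff_ideal k n F (Ideal.span (Set.range F')) (fun j l => ?_) hcodim
    by_cases hl : l ≤ D
    · exact Ideal.subset_span ⟨(j, ⟨l, Nat.lt_succ_of_le hl⟩), rfl⟩
    · rw [Polynomial.coeff_eq_zero_of_natDegree_lt (lt_of_le_of_lt (hD j) (not_le.1 hl))]
      exact Ideal.zero_mem _
  -- the elimination polynomial
  obtain ⟨g, hg0, hgI⟩ := SADim.exists_elim k n (Ideal.span (Set.range F)) hcodim
  obtain ⟨H, hH⟩ := (Ideal.mem_span_range_iff_exists_fun).1 hgI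
  -- local integral points
  choose! R hR using hne
  set T₁ : Finset (HeightOneSpectrum (𝓞 k)) :=
    T ∪ (SALoc.finite_absNorm_le (k := k) D).toFinset.filter (fun v => v ∉ Sf) with hT₁
  have hT₁mem : ∀ v, v ∈ T₁ ↔ v ∈ T ∨ (Ideal.absNorm v.asIdeal ≤ D ∧ v ∉ Sf) := by
    intro v
    rw [hT₁, Finset.mem_union, Finset.mem_filter, Set.Finite.mem_toFinset, Set.mem_ofPred_eq]
  have hT₁S : Disjoint T₁ Sf := by
    rw [Finset.disjoint_left]
    intro v hv hvS
    rcases (hT₁mem v).1 hv with h | h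
    · exact (Finset.disjoint_left.1 hT h) hvS
    · exact h.2 hvS
  have hT₁notS : ∀ v ∈ T₁, v ∉ Sf := fun v hv hvS => Finset.disjoint_left.1 hT₁S hv hvS
  set Q₁ : (v : HeightOneSpectrum (𝓞 k)) → (Fin (n + 1) → v.adicCompletion k) :=
    fun v => if v ∈ T then Q v else R v with hQ₁
  have hQ₁a : ∀ v, v ∈ T → Q₁ v = Q v := fun v hv => if_pos hv
  have hQ₁b : ∀ v, v ∉ T → Q₁ v = R v := fun v hv => if_neg hv
  have hQ₁int : ∀ v ∈ T₁, (∀ i, Valued.v (Q₁ v i) ≤ 1) ∧
      ∃ j, Valued.v (aeval (Q₁ v) (F j)) = 1 := by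
    intro v hv
    by_cases hvT : v ∈ T
    · rw [hQ₁a v hvT]; exact hQ v hvT
    · rw [hQ₁b v hvT]; exact hR v (hT₁notS v hv)
  set W₁ : (v : HeightOneSpectrum (𝓞 k)) → Set (Fin (n + 1) → v.adicCompletion k) :=
    fun v => if v ∈ T then W v else Set.univ with hW₁
  have hW₁a : ∀ v, v ∈ T → W₁ v = W v := fun v hv => if_pos hv
  have hW₁b : ∀ v, v ∉ T → W₁ v = Set.univ := fun v hv => if_neg hv
  set W₂ : (v : HeightOneSpectrum (𝓞 k)) → Set (Fin (n + 1) → v.adicCompletion k) := fun v =>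
    W₁ v ∩ {P | ∀ i, Valued.v (P i - Q₁ v i) < 1} with hW₂
  have hW₂open : ∀ v ∈ T₁, IsOpen (W₂ v) ∧ Q₁ v ∈ W₂ v := by
    intro v hv
    constructor
    · refine IsOpen.inter ?_ (SAAux.isOpen_close v (n + 1) (Q₁ v))
      by_cases hvT : v ∈ T
      · rw [hW₁a v hvT]; exact (hW v hvT).1
      · rw [hW₁b v hvT]; exact isOpen_univ
    · refine ⟨?_, fun i => ?_⟩
      · by_cases hvT : v ∈ T
        · rw [hW₁a v hvT, hQ₁a v hvT]; exact (hW v hvT).2
        · rw [hW₁b v hvT]; exact Set.mem_univ _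
      · rw [sub_self, map_zero]; exact zero_lt_one
  -- product decompositions of the neighbourhoods
  have hsplitf : ∀ v : HeightOneSpectrum (𝓞 k), ∃ (A : Set (v.adicCompletion k))
      (B : Set (Fin n → v.adicCompletion k)), IsOpen (Nf v) → Pf v ∈ Nf v →
      (IsOpen A ∧ IsOpen B ∧ Pf v 0 ∈ A ∧ Fin.tail (Pf v) ∈ B ∧
        ∀ z ∈ A, ∀ y ∈ B, (Fin.cons z y : Fin (n + 1) → v.adicCompletion k) ∈ Nf v) :=
    fun v => SAAux.exists_prod_nhd' n (Nf v) (Pf v)
  choose Af Bf hAB using hsplitf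
  have hspliti : ∀ w : InfinitePlace k, ∃ (A : Set w.Completion)
      (B : Set (Fin n → w.Completion)), IsOpen (Ni w) → Pi w ∈ Ni w →
      (IsOpen A ∧ IsOpen B ∧ Pi w 0 ∈ A ∧ Fin.tail (Pi w) ∈ B ∧
        ∀ z ∈ A, ∀ y ∈ B, (Fin.cons z y : Fin (n + 1) → w.Completion) ∈ Ni w) :=
    fun w => SAAux.exists_prod_nhd' n (Ni w) (Pi w)
  choose Ai Bi hABi using hspliti
  have hsplit₁ : ∀ v : HeightOneSpectrum (𝓞 k), ∃ (A : Set (v.adicCompletion k))
      (B : Set (Fin n → v.adicCompletion k)), IsOpen (W₂ v) → Q₁ v ∈ W₂ v →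
      (IsOpen A ∧ IsOpen B ∧ Q₁ v 0 ∈ A ∧ Fin.tail (Q₁ v) ∈ B ∧
        ∀ z ∈ A, ∀ y ∈ B, (Fin.cons z y : Fin (n + 1) → v.adicCompletion k) ∈ W₂ v) :=
    fun v => SAAux.exists_prod_nhd' n (W₂ v) (Q₁ v)
  choose A₁ B₁ hAB₁ using hsplit₁
  -- new points at the infinite places where `g` does not vanish
  have hyw : ∀ w : InfinitePlace k, ∃ y' : Fin n → w.Completion, y' ∈ Bi w ∧ aeval y' g ≠ 0 := by
    intro w
    obtain ⟨π, hπ0, hπ1⟩ := SAAux.exists_small w
    obtain ⟨hA, hB, h0, ht, -⟩ := hABi w (hNi w).1 (hNi w).2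
    exact SALoc.exists_mem_open_aeval_ne_zero π hπ0 hπ1 n g hg0 (Bi w) hB _ ht
  choose yw hyw1 hyw2 using hyw
  -- hypotheses for the induction
  have hcoefK : ∀ v : HeightOneSpectrum (𝓞 k), v ∉ Sf → ∀ j s,
      Valued.v (algebraMap k (v.adicCompletion k) ((F j).coeff s)) ≤ 1 := by
    intro v hv j s
    rw [SAAux.val_algebraMap]; exact hint v hv j s
  have hunit' : ∀ v : HeightOneSpectrum (𝓞 k), v ∉ Sf →
      ∀ R' : Fin (n + 1) → v.adicCompletion k, (∀ i, Valued.v (R' i) ≤ 1) →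
      (∃ j, Valued.v (aeval R' (F j)) = 1) →
      (∀ i, Valued.v (Fin.tail R' i) ≤ 1) ∧ ∃ e, Valued.v (aeval (Fin.tail R') (F' e)) = 1 := by
    intro v hv R' hR'1 hR'2
    obtain ⟨j, hj⟩ := hR'2
    refine ⟨fun i => hR'1 i.succ, ?_⟩
    obtain ⟨l, hl, hl1⟩ := SAPoly.exists_coeff_val_eq_one n Valued.v R' hR'1 (F j)
      (hcoefK v hv j) D (hD j) hj
    exact ⟨(j, ⟨l, Finset.mem_range.1 hl⟩), hl1⟩
  have hQ' : ∀ v ∈ T₁, (∀ i, Valued.v (Fin.tail (Q₁ v) i) ≤ 1) ∧
      ∃ e, Valued.v (aeval (Fin.tail (Q₁ v)) (F' e)) = 1 := fun v hv =>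
    hunit' v (hT₁notS v hv) (Q₁ v) (hQ₁int v hv).1 (hQ₁int v hv).2
  have hB₁ : ∀ v ∈ T₁, IsOpen (B₁ v) ∧ Fin.tail (Q₁ v) ∈ B₁ v := by
    intro v hv
    obtain ⟨hA, hB, h0, ht, -⟩ := hAB₁ v (hW₂open v hv).1 (hW₂open v hv).2
    exact ⟨hB, ht⟩
  have hne' : ∀ v : HeightOneSpectrum (𝓞 k), v ∉ Sf → ∃ R' : Fin n → v.adicCompletion k,
      (∀ i, Valued.v (R' i) ≤ 1) ∧ ∃ e, Valued.v (aeval R' (F' e)) = 1 := fun v hv =>
    ⟨Fin.tail (R v), hunit' v hv (R v) (hR v hv).1 (hR v hv).2⟩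
  have hBf : ∀ v ∈ Sf, v ≠ v₀ → IsOpen (Bf v) ∧ Fin.tail (Pf v) ∈ Bf v := by
    intro v hv hv0
    obtain ⟨hA, hB, h0, ht, -⟩ := hAB v (hNf v hv hv0).1 (hNf v hv hv0).2
    exact ⟨hB, ht⟩
  have hBi : ∀ w : InfinitePlace k, IsOpen (Bi w ∩ {y | aeval y g ≠ 0}) ∧
      yw w ∈ Bi w ∩ {y | aeval y g ≠ 0} := by
    intro w
    obtain ⟨hA, hB, h0, ht, -⟩ := hABi w (hNi w).1 (hNi w).2
    exact ⟨hB.inter (SAAux.isOpen_aeval_ne_zero w n g), hyw1 w, hyw2 w⟩
  obtain ⟨y, hy1, hy2, hy3, hy4⟩ := IH (ι × Fin (D + 1)) F' hint' hcodim'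
    (fun v => Fin.tail (Pf v)) Bf hBf yw (fun w => Bi w ∩ {y | aeval y g ≠ 0}) hBi
    T₁ hT₁S (fun v => Fin.tail (Q₁ v)) hQ' B₁ hB₁ hne'
  -- `g (y) ≠ 0`
  have hc : aeval y g ≠ 0 := by
    obtain ⟨w⟩ := (inferInstance : Nonempty (InfinitePlace k))
    have h : aeval (fun i => algebraMap k w.Completion (y i)) g ≠ 0 := (hy3 w).2
    intro h0
    apply h
    have h2 : (fun i => algebraMap k w.Completion (y i)) = algebraMap k w.Completion ∘ y := rfl
    rw [h2, aeval_algebraMap_apply, h0, map_zero]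
  set Bad : Finset (HeightOneSpectrum (𝓞 k)) :=
    (SALoc.finite_val_ne_one (aeval y g) hc).toFinset ∪ (SAAux.finite_bad_coeff H).toFinset
    with hBad
  have hBad1 : ∀ v, v ∉ Bad → v.valuation k (aeval y g) = 1 := by
    intro v hv
    by_contra h
    exact hv (Finset.mem_union_left _ ((Set.Finite.mem_toFinset _).2 h))
  have hBad2 : ∀ v, v ∉ Bad → ∀ j s, v.valuation k ((H j).coeff s) ≤ 1 := by
    intro v hv j s
    by_contra h
    exact hv (Finset.mem_union_right _ ((Set.Finite.mem_toFinset _).2 ⟨j, s, not_le.1 h⟩))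
  -- local choices of the first coordinate at the remaining places
  have hzloc : ∀ v : HeightOneSpectrum (𝓞 k), ∃ zv : 𝓞 k, v ∉ Sf → v ∉ T₁ →
      ∃ j, v.valuation k
        (aeval (Fin.cons (algebraMap (𝓞 k) k zv) y : Fin (n + 1) → k) (F j)) = 1 := by
    intro v
    by_cases hv : v ∉ Sf ∧ v ∉ T₁
    · obtain ⟨hvS, hvT⟩ := hv
      obtain ⟨hyint, ⟨j, l⟩, hjl⟩ := hy1 v hvS
      have hDv : D < Ideal.absNorm v.asIdeal := by
        by_contra h
        exact hvT ((hT₁mem v).2 (Or.inr ⟨not_lt.1 h, hvS⟩))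
      obtain ⟨z, hz⟩ := SAAux.exists_local_z v n (F j) (hint v hvS j) D (hD j) hDv y hyint l hjl
      exact ⟨z, fun _ _ => ⟨j, hz⟩⟩
    · exact ⟨0, fun h1 h2 => absurd ⟨h1, h2⟩ hv⟩
  choose zloc hzloc using hzloc
  -- the first coordinate by strong approximation
  set Tz : Finset (HeightOneSpectrum (𝓞 k)) := (Sf ∪ T₁ ∪ Bad).erase v₀ with hTz
  set Uf : (v : HeightOneSpectrum (𝓞 k)) → Set (v.adicCompletion k) := fun v =>
    if v ∈ Sf then Af v else if v ∈ T₁ then A₁ v else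
      Metric.ball (algebraMap k (v.adicCompletion k) (algebraMap (𝓞 k) k (zloc v))) 1 with hUf
  have hUf1 : ∀ v, v ∈ Sf → Uf v = Af v := fun v hv => if_pos hv
  have hUf2 : ∀ v, v ∉ Sf → v ∈ T₁ → Uf v = A₁ v := fun v hv hv' => by
    rw [hUf]; simp only [if_neg hv, if_pos hv']
  have hUf3 : ∀ v, v ∉ Sf → v ∉ T₁ → Uf v =
      Metric.ball (algebraMap k (v.adicCompletion k) (algebraMap (𝓞 k) k (zloc v))) 1 :=
    fun v hv hv' => by
      rw [hUf]; simp only [if_neg hv, if_neg hv']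
  have hUfopen : ∀ v ∈ Tz, IsOpen (Uf v) ∧ (Uf v).Nonempty := by
    intro v hv
    rw [hTz, Finset.mem_erase] at hv
    obtain ⟨hv0, hv⟩ := hv
    by_cases hvS : v ∈ Sf
    · rw [hUf1 v hvS]
      obtain ⟨hA, hB, h0, ht, -⟩ := hAB v (hNf v hvS hv0).1 (hNf v hvS hv0).2
      exact ⟨hA, ⟨_, h0⟩⟩
    · by_cases hvT : v ∈ T₁
      · rw [hUf2 v hvS hvT]
        obtain ⟨hA, hB, h0, ht, -⟩ := hAB₁ v (hW₂open v hvT).1 (hW₂open v hvT).2
        exact ⟨hA, ⟨_, h0⟩⟩
      · rw [hUf3 v hvS hvT]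
        exact ⟨Metric.isOpen_ball, ⟨_, Metric.mem_ball_self one_pos⟩⟩
  obtain ⟨z, hz1, hz2, hz3⟩ := NFApproxLocal.strong_approx_local v₀ Tz
    (Finset.notMem_erase v₀ _) Finset.univ Uf hUfopen Ai
    (fun w _ => by
      obtain ⟨hA, hB, h0, ht, -⟩ := hABi w (hNi w).1 (hNi w).2
      exact ⟨hA, ⟨_, h0⟩⟩)
  have hconsf : ∀ v : HeightOneSpectrum (𝓞 k),
      (fun i => algebraMap k (v.adicCompletion k) ((Fin.cons z y : Fin (n + 1) → k) i)) =
      (Fin.cons (algebraMap k (v.adicCompletion k) z)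
        (fun i => algebraMap k (v.adicCompletion k) (y i)) : Fin (n + 1) → v.adicCompletion k) := by
    intro v
    funext i
    refine Fin.cases ?_ (fun j => ?_) i
    · simp only [Fin.cons_zero]
    · simp only [Fin.cons_succ]
  have hconsi : ∀ w : InfinitePlace k,
      (fun i => algebraMap k w.Completion ((Fin.cons z y : Fin (n + 1) → k) i)) =
      (Fin.cons (algebraMap k w.Completion z)
        (fun i => algebraMap k w.Completion (y i)) : Fin (n + 1) → w.Completion) := by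
    intro w
    funext i
    refine Fin.cases ?_ (fun j => ?_) i
    · simp only [Fin.cons_zero]
    · simp only [Fin.cons_succ]
  have hW₂mem : ∀ v ∈ T₁,
      (fun i => algebraMap k (v.adicCompletion k) ((Fin.cons z y : Fin (n + 1) → k) i)) ∈ W₂ v := by
    intro v hv
    rw [hconsf v]
    obtain ⟨hA, hB, h0, ht, hsub⟩ := hAB₁ v (hW₂open v hv).1 (hW₂open v hv).2
    refine hsub _ ?_ _ (hy4 v hv)
    have hvTz : v ∈ Tz := by
      rw [hTz, Finset.mem_erase]
      refine ⟨fun h => hT₁notS v hv (h ▸ hv₀), ?_⟩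
      exact Finset.mem_union_left _ (Finset.mem_union_right _ hv)
    have := hz1 v hvTz
    rw [hUf2 v (hT₁notS v hv) hv] at this
    exact this
  refine ⟨Fin.cons z y, ?_, ?_, ?_, ?_⟩
  · -- integrality and unit values outside `Sf`
    intro v hv
    have hv0 : v ≠ v₀ := fun h => hv (h ▸ hv₀)
    have hyint := (hy1 v hv).1
    by_cases hvT : v ∈ T₁
    · have hmem : ∀ i, Valued.v
          ((fun i => algebraMap k (v.adicCompletion k) ((Fin.cons z y : Fin (n + 1) → k) i)) i -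
            Q₁ v i) < 1 := (hW₂mem v hvT).2
      obtain ⟨hQint, j, hj⟩ := hQ₁int v hvT
      have hPint := SAAux.cong_int Valued.v _ (Q₁ v) hQint hmem
      have hPu := SAAux.cong_unit Valued.v (F j) (hcoefK v hv j) _ (Q₁ v) hQint hmem hj
      constructor
      · intro i
        have := hPint i
        rw [SAAux.val_algebraMap] at this
        exact this
      · refine ⟨j, ?_⟩
        have h2 : (fun i => algebraMap k (v.adicCompletion k)
            ((Fin.cons z y : Fin (n + 1) → k) i)) =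
            algebraMap k (v.adicCompletion k) ∘ (Fin.cons z y : Fin (n + 1) → k) := rfl
        rw [h2, aeval_algebraMap_apply, SAAux.val_algebraMap] at hPu
        exact hPu
    · by_cases hvB : v ∈ Bad
      · have hvTz : v ∈ Tz := by
          rw [hTz, Finset.mem_erase]
          exact ⟨hv0, Finset.mem_union_right _ hvB⟩
        have hzv := hz1 v hvTz
        rw [hUf3 v hv hvT, SAAux.mem_ball_iff] at hzv
        obtain ⟨j, hj⟩ := hzloc v hv hvT
        have hQint : ∀ i, v.valuation k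
            ((Fin.cons (algebraMap (𝓞 k) k (zloc v)) y : Fin (n + 1) → k) i) ≤ 1 := by
          intro i
          refine Fin.cases ?_ (fun i' => ?_) i
          · rw [Fin.cons_zero]; exact v.valuation_le_one _
          · rw [Fin.cons_succ]; exact hyint i'
        have hPQ : ∀ i, v.valuation k ((Fin.cons z y : Fin (n + 1) → k) i -
            (Fin.cons (algebraMap (𝓞 k) k (zloc v)) y : Fin (n + 1) → k) i) < 1 := by
          intro i
          refine Fin.cases ?_ (fun i' => ?_) i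
          · rw [Fin.cons_zero, Fin.cons_zero]; exact hzv
          · rw [Fin.cons_succ, Fin.cons_succ, sub_self, map_zero]; exact zero_lt_one
        refine ⟨SAAux.cong_int (v.valuation k) _ _ hQint hPQ, j, ?_⟩
        exact SAAux.cong_unit (v.valuation k) (F j)
          (fun s => by rw [Algebra.algebraMap_self_apply]; exact hint v hv j s) _ _ hQint hPQ hj
      · have hvTz : v ∉ Tz := by
          rw [hTz, Finset.mem_erase, Finset.mem_union, Finset.mem_union]
          rintro ⟨-, (h | h) | h⟩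
          · exact hv h
          · exact hvT h
          · exact hvB h
        have hzint : v.valuation k z ≤ 1 := hz3 v hvTz hv0
        have hPint : ∀ i, v.valuation k ((Fin.cons z y : Fin (n + 1) → k) i) ≤ 1 := by
          intro i
          refine Fin.cases ?_ (fun i' => ?_) i
          · rw [Fin.cons_zero]; exact hzint
          · rw [Fin.cons_succ]; exact hyint i'
        refine ⟨hPint, ?_⟩
        refine SAAux.bezout_unit (v.valuation k) F H
          (fun j s => by rw [Algebra.algebraMap_self_apply]; exact hint v hv j s)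
          (fun j s => by rw [Algebra.algebraMap_self_apply]; exact hBad2 v hvB j s) _ hPint ?_
        have h1 : aeval (Fin.cons z y : Fin (n + 1) → k) (∑ j, H j * F j) = aeval y g := by
          rw [hH, aeval_rename]
          have : (Fin.cons z y : Fin (n + 1) → k) ∘ Fin.succ = y := by
            funext i
            simp only [Function.comp_apply, Fin.cons_succ]
          rw [this]
        rw [map_sum] at h1
        simp only [map_mul] at h1
        rw [h1]
        exact hBad1 v hvB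
  · intro v hv hv0
    rw [hconsf v]
    obtain ⟨hA, hB, h0, ht, hsub⟩ := hAB v (hNf v hv hv0).1 (hNf v hv hv0).2
    refine hsub _ ?_ _ (hy2 v hv hv0)
    have hvTz : v ∈ Tz := by
      rw [hTz, Finset.mem_erase]
      exact ⟨hv0, Finset.mem_union_left _ (Finset.mem_union_left _ hv)⟩
    have := hz1 v hvTz
    rw [hUf1 v hv] at this
    exact this
  · intro w
    rw [hconsi w]
    obtain ⟨hA, hB, h0, ht, hsub⟩ := hABi w (hNi w).1 (hNi w).2
    exact hsub _ (hz2 w (Finset.mem_univ w)) _ (hy3 w).1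
  · intro v hv
    have hvT₁ : v ∈ T₁ := (hT₁mem v).2 (Or.inl hv)
    have h1 := (hW₂mem v hvT₁).1
    rw [hW₁a v hv] at h1
    exact h1

/-- strong approximation off `v₀` for complements of closed subsets of codimension at least two in
affine space -/
theorem SAProp_all (v₀ : HeightOneSpectrum (𝓞 k)) (Sf : Finset (HeightOneSpectrum (𝓞 k)))
    (hv₀ : v₀ ∈ Sf) (n : ℕ) : SAProp v₀ Sf n := by
  induction n with
  | zero => exact SAProp_zero v₀ Sf
  | succ n ih => exact SAProp_succ v₀ Sf hv₀ n ih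

end Groth.Agent.Lib.helper12.SAMain
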