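import Mathlib
import Groth.Agent.Lib.Helper12.Segre2

/-!
# Segre maps (helper12), part 3: the Segre embedding and `O(1)`

* `exists_segre_iso`: `exists_segre` together with `r^*O(1) ≅ u^*O(1) ⊗ v^*O(1)`.
* `exists_segre_embedding_iso`: the Segre embedding `φ` with `φ^*O(1) ≅ p₁^*O(1) ⊗ p₂^*O(1)`.
-/

set_option autoImplicit false
universe u

open CategoryTheory CategoryTheory.Limits AlgebraicGeometry Opposite TopologicalSpace

namespace Groth.Agent.Lib.helper12.Segre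

open Groth.Agent.Lib.helper11.IsoLocus Groth.Agent.Lib.helper11.InvHom
open Groth.Agent.Lib.helper11.GenLocus Groth.Agent.Lib.helper11.InvMod
open Groth.Agent.Lib.helper11.InvPullback
open Groth.Agent.Lib.helper12.ProjUP1 Groth.Agent.Lib.helper12.ProjUP3
open Groth.Agent.Lib.helper12.ProjUP4 Groth.Agent.Lib.helper12.ProjUP5
open Groth.Agent.Lib.helper12.ProjUP6 Groth.Agent.Lib.helper12.VAmple1
open Groth.Agent.Lib.helper12.TensorSec Groth.Agent.Lib.helper12.TensorInv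
open Scheme.Modules

/-- **Segre map on `T`-points.** -/
theorem exists_segre_iso {R : Type u} [CommRing R] {n m N : ℕ}
    (e : Fin (N + 1) ≃ Fin (n + 1) × Fin (m + 1))
    {T : Scheme.{u}} (q : T ⟶ Spec (CommRingCat.of R))
    (u : T ⟶ Proj (CohB1.polyGrading n R)) (v : T ⟶ Proj (CohB1.polyGrading m R)) :
    ∃ r : T ⟶ Proj (CohB1.polyGrading N R),
      (show T ⟶ CohB1.ProjSpace N R from r) ≫ CohB1.ProjSpace.toSpec N R = q ∧
      (∀ c, r ⁻¹ᵁ Dp R N c = u ⁻¹ᵁ Dp R n (e c).1 ⊓ v ⁻¹ᵁ Dp R m (e c).2) ∧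
      (∀ (c c' : Fin (N + 1)) (W : T.Opens) (hW : W ≤ r ⁻¹ᵁ Dp R N c)
        (hu : W ≤ u ⁻¹ᵁ Dp R n (e c).1) (hv : W ≤ v ⁻¹ᵁ Dp R m (e c).2),
        (r.appLE (Dp R N c) W hW).hom (cP R N c c') =
          (u.appLE (Dp R n (e c).1) W hu).hom (cP R n (e c).1 (e c').1) *
          (v.appLE (Dp R m (e c).2) W hv).hom (cP R m (e c).2 (e c').2)) ∧
      Nonempty ((Scheme.Modules.pullback r).obj (Twist.twist (CohB1.polyGrading N R) ((1 : ℕ) : ℤ)) ≅
        CohB1.tensorMod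
          ((Scheme.Modules.pullback u).obj (Twist.twist (CohB1.polyGrading n R) ((1 : ℕ) : ℤ)))
          ((Scheme.Modules.pullback v).obj (Twist.twist (CohB1.polyGrading m R) ((1 : ℕ) : ℤ)))) := by
  have hMu : PicF.IsInvertible ((Scheme.Modules.pullback u).obj
      (Twist.twist (CohB1.polyGrading n R) ((1 : ℕ) : ℤ))) :=
    isInvertible_pullback u isInvertible_twist_one
  have hMv : PicF.IsInvertible ((Scheme.Modules.pullback v).obj
      (Twist.twist (CohB1.polyGrading m R) ((1 : ℕ) : ℤ))) :=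
    isInvertible_pullback v isInvertible_twist_one
  let σ : Fin (N + 1) → (Coh.structureModule T ⟶ CohB1.tensorMod
      ((Scheme.Modules.pullback u).obj (Twist.twist (CohB1.polyGrading n R) ((1 : ℕ) : ℤ)))
      ((Scheme.Modules.pullback v).obj (Twist.twist (CohB1.polyGrading m R) ((1 : ℕ) : ℤ)))) :=
    fun c => SecTwist.tmulHom (nu u (e c).1) (nu v (e c).2)
  have hloc : ∀ c, CohB1.genLocus _ (σ c) = u ⁻¹ᵁ Dp R n (e c).1 ⊓ v ⁻¹ᵁ Dp R m (e c).2 := by
    intro c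
    rw [← genLocus_nu u (e c).1, ← genLocus_nu v (e c).2]
    exact genLocus_tmulHom hMu hMv _ _
  have hcov : ⨆ c, gU σ c = ⊤ := by
    rw [eq_top_iff]
    intro x _
    obtain ⟨a, ha⟩ := Groth.Agent.Lib.helper28.TwistPn.exists_X_notMem n R (u x)
    obtain ⟨b, hb⟩ := Groth.Agent.Lib.helper28.TwistPn.exists_X_notMem m R (v x)
    refine Opens.mem_iSup.mpr ⟨e.symm (a, b), ?_⟩
    change x ∈ CohB1.genLocus _ (σ (e.symm (a, b)))
    rw [hloc, Equiv.apply_symm_apply]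
    exact ⟨(ProjectiveSpectrum.mem_basicOpen _ _ _).mpr ha,
      (ProjectiveSpectrum.mem_basicOpen _ _ _).mpr hb⟩
  obtain ⟨r, hr⟩ := exists_toProj q σ hcov
  obtain ⟨τ, hτ⟩ := exists_iso_nu q σ r hr hcov
  refine ⟨r, toProj_toSpec q σ hcov r hr, fun c => ?_, fun c c' W hW hu hv => ?_, ⟨τ⟩⟩
  · rw [preimage_Dp_eq r σ τ hτ c, hloc]
  · have hV0 : r ⁻¹ᵁ Dp R N c ≤ CohB1.genLocus _ (σ c) := (preimage_Dp_eq r σ τ hτ c).le
    have h1 : (r.appLE (Dp R N c) W hW).hom (cP R N c c') =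
        ratio (σ c) (σ c') W (hW.trans hV0) := by
      rw [← ratio_res (σ c) (σ c') hW hV0, ratio_sigma_app r σ τ hτ c c' hV0]
      rfl
    have hgu : u ⁻¹ᵁ Dp R n (e c).1 ≤ CohB1.genLocus _ (nu u (e c).1) := (genLocus_nu u _).ge
    have hgv : v ⁻¹ᵁ Dp R m (e c).2 ≤ CohB1.genLocus _ (nu v (e c).2) := (genLocus_nu v _).ge
    have h2 : (u.appLE (Dp R n (e c).1) W hu).hom (cP R n (e c).1 (e c').1) =
        ratio (nu u (e c).1) (nu u (e c').1) W (hu.trans hgu) := by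
      rw [← ratio_res (nu u (e c).1) (nu u (e c').1) hu hgu, ratio_nu_app u _ _ hgu]
      rfl
    have h3 : (v.appLE (Dp R m (e c).2) W hv).hom (cP R m (e c).2 (e c').2) =
        ratio (nu v (e c).2) (nu v (e c').2) W (hv.trans hgv) := by
      rw [← ratio_res (nu v (e c).2) (nu v (e c').2) hv hgv, ratio_nu_app v _ _ hgv]
      rfl
    rw [h1, h2, h3]
    exact ratio_tmulHom _ _ _ _ W _ _ _

/-- **Segre embedding with `O(1)`**: a closed immersion `φ : P^n_S ×_S P^m_S ⟶ P^{nm+n+m}_S` over `S`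
with `φ^*O(1) ≅ p₁^*O(1) ⊗ p₂^*O(1)`. -/
theorem exists_segre_embedding_iso (S : Scheme.{u}) (n m : ℕ) :
    ∃ φ : pullback (CohB1.ProjSpaceOver.toBase n S) (CohB1.ProjSpaceOver.toBase m S) ⟶
        CohB1.ProjSpaceOver (n * m + n + m) S,
      IsClosedImmersion φ ∧ φ ≫ CohB1.ProjSpaceOver.toBase (n * m + n + m) S =
        pullback.fst (CohB1.ProjSpaceOver.toBase n S) (CohB1.ProjSpaceOver.toBase m S) ≫
          CohB1.ProjSpaceOver.toBase n S ∧
      Nonempty ((Scheme.Modules.pullback φ).obj (Twist.twistOver (n * m + n + m) S 1) ≅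
        CohB1.tensorMod
          ((Scheme.Modules.pullback (pullback.fst (CohB1.ProjSpaceOver.toBase n S)
            (CohB1.ProjSpaceOver.toBase m S))).obj (Twist.twistOver n S 1))
          ((Scheme.Modules.pullback (pullback.snd (CohB1.ProjSpaceOver.toBase n S)
            (CohB1.ProjSpaceOver.toBase m S))).obj (Twist.twistOver m S 1))) := by
  have := Groth.Agent.Lib.helper19.ProjSpaceProper.proper_toBase n S
  have := Groth.Agent.Lib.helper19.ProjSpaceProper.proper_toBase m S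
  have := Groth.Agent.Lib.helper19.ProjSpaceProper.proper_toBase (n * m + n + m) S
  let p1 : pullback (CohB1.ProjSpaceOver.toBase n S) (CohB1.ProjSpaceOver.toBase m S) ⟶
    CohB1.ProjSpaceOver n S := pullback.fst _ _
  let p2 : pullback (CohB1.ProjSpaceOver.toBase n S) (CohB1.ProjSpaceOver.toBase m S) ⟶
    CohB1.ProjSpaceOver m S := pullback.snd _ _
  let f1 : CohB1.ProjSpaceOver n S ⟶ CohB1.ProjSpace n (ULift.{u} ℤ) :=
    pullback.fst (CohB1.ProjSpace.toSpec n (ULift.{u} ℤ)) (specULiftZIsTerminal.from S)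
  let f2 : CohB1.ProjSpaceOver m S ⟶ CohB1.ProjSpace m (ULift.{u} ℤ) :=
    pullback.fst (CohB1.ProjSpace.toSpec m (ULift.{u} ℤ)) (specULiftZIsTerminal.from S)
  let u : pullback (CohB1.ProjSpaceOver.toBase n S) (CohB1.ProjSpaceOver.toBase m S) ⟶
    Proj (CohB1.polyGrading n (ULift.{u} ℤ)) := p1 ≫ f1
  let v : pullback (CohB1.ProjSpaceOver.toBase n S) (CohB1.ProjSpaceOver.toBase m S) ⟶
    Proj (CohB1.polyGrading m (ULift.{u} ℤ)) := p2 ≫ f2
  let h : pullback (CohB1.ProjSpaceOver.toBase n S) (CohB1.ProjSpaceOver.toBase m S) ⟶ S :=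
    p1 ≫ CohB1.ProjSpaceOver.toBase n S
  have hN : n * m + n + m + 1 = (n + 1) * (m + 1) := by ring
  let e : Fin (n * m + n + m + 1) ≃ Fin (n + 1) × Fin (m + 1) :=
    (finCongr hN).trans finProdFinEquiv.symm
  obtain ⟨r, hr, h2, h3, ⟨τ⟩⟩ := exists_segre_iso e (specULiftZIsTerminal.from _) u v
  have hrh : (show pullback (CohB1.ProjSpaceOver.toBase n S) (CohB1.ProjSpaceOver.toBase m S) ⟶
      CohB1.ProjSpace (n * m + n + m) (ULift.{u} ℤ) from r) ≫
      CohB1.ProjSpace.toSpec (n * m + n + m) (ULift.{u} ℤ) = h ≫ specULiftZIsTerminal.from S :=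
    specULiftZIsTerminal.hom_ext _ _
  let f3 : CohB1.ProjSpaceOver (n * m + n + m) S ⟶ CohB1.ProjSpace (n * m + n + m) (ULift.{u} ℤ) :=
    pullback.fst (CohB1.ProjSpace.toSpec (n * m + n + m) (ULift.{u} ℤ)) (specULiftZIsTerminal.from S)
  let φ : pullback (CohB1.ProjSpaceOver.toBase n S) (CohB1.ProjSpaceOver.toBase m S) ⟶
      CohB1.ProjSpaceOver (n * m + n + m) S := pullback.lift _ h hrh
  have hφ2 : φ ≫ CohB1.ProjSpaceOver.toBase (n * m + n + m) S = h := pullback.lift_snd _ _ _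
  have hφ1 : φ ≫ f3 = r := pullback.lift_fst _ _ _
  refine ⟨φ, ?_, hφ2, ⟨?_⟩⟩
  swap
  · -- the isomorphism `φ^*O(1) ≅ p₁^*O(1) ⊗ p₂^*O(1)`
    refine (Scheme.Modules.pullbackComp φ f3).app _ ≪≫
      (Scheme.Modules.pullbackCongr hφ1).app _ ≪≫ τ ≪≫ PicGrp.tensorModIso ?_ ?_
    · exact ((Scheme.Modules.pullbackComp p1 f1).app _).symm
    · exact ((Scheme.Modules.pullbackComp p2 f2).app _).symm
  rw [IsClosedImmersion.iff_isProper_and_mono]
  constructor
  · have hp : IsProper (φ ≫ CohB1.ProjSpaceOver.toBase (n * m + n + m) S) := by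
      rw [hφ2]
      exact (inferInstance : IsProper (p1 ≫ CohB1.ProjSpaceOver.toBase n S))
    exact IsProper.of_comp φ (CohB1.ProjSpaceOver.toBase (n * m + n + m) S)
  · constructor
    intro T g₁ g₂ hg
    have hgr : g₁ ≫ r = g₂ ≫ r := by
      have h1 : (g₁ ≫ φ) ≫ f3 = (g₂ ≫ φ) ≫ f3 := congrArg (· ≫ f3) hg
      rw [Category.assoc, Category.assoc] at h1
      exact (congrArg (g₁ ≫ ·) hφ1).symm.trans (h1.trans (congrArg (g₂ ≫ ·) hφ1))
    have hgh : g₁ ≫ h = g₂ ≫ h := by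
      have h1 : (g₁ ≫ φ) ≫ CohB1.ProjSpaceOver.toBase (n * m + n + m) S =
          (g₂ ≫ φ) ≫ CohB1.ProjSpaceOver.toBase (n * m + n + m) S :=
        congrArg (· ≫ CohB1.ProjSpaceOver.toBase (n * m + n + m) S) hg
      rw [Category.assoc, Category.assoc] at h1
      exact (congrArg (g₁ ≫ ·) hφ2).symm.trans (h1.trans (congrArg (g₂ ≫ ·) hφ2))
    have hgu : g₁ ≫ u = g₂ ≫ u :=
      segre_comp_eq_left e (specULiftZIsTerminal.from _) u v (specULiftZIsTerminal.hom_ext _ _)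
        r hr h2 h3 g₁ g₂ hgr
    have hgv : g₁ ≫ v = g₂ ≫ v :=
      segre_comp_eq_right e (specULiftZIsTerminal.from _) u v (specULiftZIsTerminal.hom_ext _ _)
        r hr h2 h3 g₁ g₂ hgr
    have hc : p1 ≫ CohB1.ProjSpaceOver.toBase n S = p2 ≫ CohB1.ProjSpaceOver.toBase m S :=
      pullback.condition
    have hgh' : g₁ ≫ p2 ≫ CohB1.ProjSpaceOver.toBase m S =
        g₂ ≫ p2 ≫ CohB1.ProjSpaceOver.toBase m S := by
      rw [← hc]; exact hgh
    apply pullback.hom_ext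
    · apply pullback.hom_ext
      · exact (Category.assoc g₁ p1 f1).trans (hgu.trans (Category.assoc g₂ p1 f1).symm)
      · exact (Category.assoc g₁ p1 (CohB1.ProjSpaceOver.toBase n S)).trans
          (hgh.trans (Category.assoc g₂ p1 (CohB1.ProjSpaceOver.toBase n S)).symm)
    · apply pullback.hom_ext
      · exact (Category.assoc g₁ p2 f2).trans (hgv.trans (Category.assoc g₂ p2 f2).symm)
      · exact (Category.assoc g₁ p2 (CohB1.ProjSpaceOver.toBase m S)).trans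
          (hgh'.trans (Category.assoc g₂ p2 (CohB1.ProjSpaceOver.toBase m S)).symm)

end Groth.Agent.Lib.helper12.Segre
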