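import Mathlib

/-!
# Semisimple endomorphisms with the same characteristic polynomial are conjugate
(over an algebraically closed field)
-/

set_option autoImplicit false

namespace Groth.Agent.Lib.helper12.SemisimpleConj

open Module

variable {k : Type*} [Field k] [IsAlgClosed k]

theorem exists_conj_of_charpoly_eq {V : Type*} [AddCommGroup V] [Module k V]
    [FiniteDimensional k V] (f₁ f₂ : Module.End k V) (h₁ : f₁.IsSemisimple)
    (h₂ : f₂.IsSemisimple) (hcp : f₁.charpoly = f₂.charpoly) :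
    ∃ g : V ≃ₗ[k] V, ∀ x, g (f₁ x) = f₂ (g x) := by
  classical
  have int₁ : DirectSum.IsInternal (fun μ : k => f₁.eigenspace μ) :=
    DirectSum.isInternal_submodule_of_iSupIndep_of_iSup_eq_top f₁.eigenspaces_iSupIndep
      h₁.iSup_eigenspace_eq_top
  have int₂ : DirectSum.IsInternal (fun μ : k => f₂.eigenspace μ) :=
    DirectSum.isInternal_submodule_of_iSupIndep_of_iSup_eq_top f₂.eigenspaces_iSupIndep
      h₂.iSup_eigenspace_eq_top
  have hd : ∀ μ : k, finrank k (f₁.eigenspace μ) = finrank k (f₂.eigenspace μ) := by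
    intro μ
    rw [← (Module.End.isFinitelySemisimple_iff_isSemisimple.mpr h₁).maxGenEigenspace_eq_eigenspace,
      ← (Module.End.isFinitelySemisimple_iff_isSemisimple.mpr h₂).maxGenEigenspace_eq_eigenspace,
      LinearMap.finrank_maxGenEigenspace_eq, LinearMap.finrank_maxGenEigenspace_eq, hcp]
  let v₁ : ∀ μ : k, Basis (Fin (finrank k (f₁.eigenspace μ))) k (f₁.eigenspace μ) :=
    fun μ => Module.finBasisOfFinrankEq k _ rfl
  let v₂ : ∀ μ : k, Basis (Fin (finrank k (f₁.eigenspace μ))) k (f₂.eigenspace μ) :=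
    fun μ => Module.finBasisOfFinrankEq k _ (hd μ).symm
  let b₁ := int₁.collectedBasis v₁
  let b₂ := int₂.collectedBasis v₂
  let g : V ≃ₗ[k] V := b₁.equiv b₂ (Equiv.refl _)
  refine ⟨g, ?_⟩
  have key : (g : V →ₗ[k] V) ∘ₗ f₁ = f₂ ∘ₗ (g : V →ₗ[k] V) := by
    apply b₁.ext
    intro a
    have hm₁ : b₁ a ∈ f₁.eigenspace a.1 := int₁.collectedBasis_mem v₁ a
    have hm₂ : b₂ a ∈ f₂.eigenspace a.1 := int₂.collectedBasis_mem v₂ a
    rw [Module.End.mem_eigenspace_iff] at hm₁ hm₂
    have hg : g (b₁ a) = b₂ a := by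
      simp [g]
    simp only [LinearMap.coe_comp, LinearEquiv.coe_coe, Function.comp_apply]
    rw [hm₁, map_smul, hg, hm₂]
  intro x
  exact LinearMap.congr_fun key x

theorem exists_matrix_conj_of_charpoly_eq {n : ℕ} (S₁ S₂ : Matrix (Fin n) (Fin n) k)
    (h₁ : Module.End.IsSemisimple (Matrix.toLin' S₁))
    (h₂ : Module.End.IsSemisimple (Matrix.toLin' S₂)) (hcp : S₁.charpoly = S₂.charpoly) :
    ∃ A : Matrix (Fin n) (Fin n) k, IsUnit A.det ∧ A * S₁ * A⁻¹ = S₂ := by
  have hc : ∀ S : Matrix (Fin n) (Fin n) k, (Matrix.toLin' S).charpoly = S.charpoly := by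
    intro S
    rw [← LinearMap.charpoly_toMatrix (Matrix.toLin' S) (Pi.basisFun k (Fin n)),
      LinearMap.toMatrix_eq_toMatrix', LinearMap.toMatrix'_toLin']
  obtain ⟨g, hg⟩ := exists_conj_of_charpoly_eq (Matrix.toLin' S₁) (Matrix.toLin' S₂) h₁ h₂
    (by rw [hc, hc, hcp])
  set A := LinearMap.toMatrix' (g : (Fin n → k) →ₗ[k] (Fin n → k)) with hA
  set A' := LinearMap.toMatrix' (g.symm : (Fin n → k) →ₗ[k] (Fin n → k)) with hA'
  have hAA' : A * A' = 1 := by
    rw [hA, hA', ← LinearMap.toMatrix'_comp]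
    have : (g : (Fin n → k) →ₗ[k] (Fin n → k)) ∘ₗ (g.symm : (Fin n → k) →ₗ[k] (Fin n → k)) =
        LinearMap.id := by
      ext x; simp
    rw [this, LinearMap.toMatrix'_id]
  have hdet : IsUnit A.det := by
    have := congrArg Matrix.det hAA'
    rw [Matrix.det_mul, Matrix.det_one] at this
    exact IsUnit.of_mul_eq_one _ this
  refine ⟨A, hdet, ?_⟩
  have hcomm : A * S₁ = S₂ * A := by
    have h1 : (g : (Fin n → k) →ₗ[k] (Fin n → k)) ∘ₗ Matrix.toLin' S₁ =
        Matrix.toLin' S₂ ∘ₗ (g : (Fin n → k) →ₗ[k] (Fin n → k)) := by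
      apply LinearMap.ext
      intro x
      exact hg x
    have h2 := congrArg LinearMap.toMatrix' h1
    rwa [LinearMap.toMatrix'_comp, LinearMap.toMatrix'_comp, LinearMap.toMatrix'_toLin',
      LinearMap.toMatrix'_toLin'] at h2
  rw [hcomm, Matrix.mul_nonsing_inv_cancel_right _ _ hdet]

end Groth.Agent.Lib.helper12.SemisimpleConj
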