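import Mathlib
import Groth.Agent.Lib.Helper12.SerreGamma2
import Groth.Agent.S15549

/-!
# Serre's theorem: `M_n → Γ(Proj A, M(n)~)` is bijective for `n ≫ 0` (general degrees) (helper12)

`A` a Noetherian ring graded by additive subgroups (generators of any positive degrees), `M` a graded
module satisfying (TF).  The proof of surjectivity is elementary (no cohomology): induction on the
number of generators of the irrelevant ideal not killing a homogeneous submodule `W`, descending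
along multiplication by one generator `x`, with the bounded-torsion lemma for `x • W`.

* `alpha_injective_eventually`, `alpha_surjective_eventually`, `alpha_bijective_eventually`.
-/

set_option autoImplicit false
set_option linter.unusedSectionVars false
universe u

open CategoryTheory AlgebraicGeometry Opposite TopologicalSpace

namespace Groth.Agent.Lib.helper12.SerreGamma

variable {A σ : Type u} [CommRing A] [SetLike σ A] [AddSubgroupClass σ A] (𝒜 : ℕ → σ)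
  [GradedRing 𝒜]
variable {M τ : Type u} [AddCommGroup M] [Module A M] [SetLike τ M] [AddSubgroupClass τ M]
  (ℳ : ℕ → τ) [DirectSum.Decomposition ℳ] [SetLike.GradedSMul 𝒜 ℳ]

/-- The section is the global section `m / 1` of some `m ∈ W` of the right degree. -/
def IsGlobal (W : Submodule A M) {n : ℤ}
    (w : GrMod.sect 𝒜 ℳ n (op (⊤ : Opens (ProjectiveSpectrum.top 𝒜)))) : Prop :=
  ∃ (i : ℕ) (m : M), (i : ℤ) = n ∧ m ∈ ℳ i ∧ m ∈ W ∧
    ∀ y : ProjectiveSpectrum 𝒜, gval 𝒜 ℳ w y =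
      LocalizedModule.mk m (1 : y.asHomogeneousIdeal.toIdeal.primeCompl)

/-- In large degrees every `W`-section is a global section `m / 1`, `m ∈ W`. -/
def Surj (W : Submodule A M) : Prop :=
  ∃ n₀ : ℤ, ∀ n : ℤ, n₀ ≤ n →
    ∀ w : GrMod.sect 𝒜 ℳ n (op (⊤ : Opens (ProjectiveSpectrum.top 𝒜))),
      SecIn 𝒜 ℳ W w → IsGlobal 𝒜 ℳ W w

variable {𝒜 ℳ}

/-- One descending step along multiplication by `x`. -/
theorem step [IsNoetherianRing A]
    (hTF : ∃ k : ℕ, (Submodule.span A (⋃ i ∈ Set.Ici k, (ℳ i : Set M))).FG)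
    {W : Submodule A M} (hW : IsHomog ℳ W) {d : ℕ} {x : A} (hx : x ∈ 𝒜 d)
    (hP : Surj 𝒜 ℳ (killed x W)) :
    ∃ n₁ : ℤ, ∀ n' : ℤ, n₁ ≤ n' →
      ∀ w₁ : GrMod.sect 𝒜 ℳ n' (op (⊤ : Opens (ProjectiveSpectrum.top 𝒜))), SecIn 𝒜 ℳ W w₁ →
        (∃ (i' : ℕ) (m' : M), (i' : ℤ) = n' + d ∧ m' ∈ ℳ i' ∧ m' ∈ W ∧
          ∀ y : ProjectiveSpectrum 𝒜, x • gval 𝒜 ℳ w₁ y =
            LocalizedModule.mk m' (1 : y.asHomogeneousIdeal.toIdeal.primeCompl)) →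
        IsGlobal 𝒜 ℳ W w₁ := by
  classical
  obtain ⟨n₃, h₃⟩ := hP
  obtain ⟨n₂, h₂⟩ := bounded_torsion 𝒜 ℳ hTF (smulSub x W)
  refine ⟨max (max n₃ 0) (n₂ : ℤ), fun n' hn' w₁ hw₁ hex => ?_⟩
  obtain ⟨i', m', hi', hm', hm'W, hxw⟩ := hex
  have hn'0 : 0 ≤ n' := (le_max_right n₃ 0).trans ((le_max_left _ _).trans hn')
  have hn'3 : n₃ ≤ n' := (le_max_left n₃ 0).trans ((le_max_left _ _).trans hn')
  have hn'2 : (n₂ : ℤ) ≤ n' := (le_max_right _ _).trans hn'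
  -- pointwise: `m'` is moved into `x • W`
  have h1 : ∀ y : ProjectiveSpectrum 𝒜, ∃ u : A, u ∉ y.asHomogeneousIdeal ∧
      u • m' ∈ smulSub x W := by
    intro y
    obtain ⟨m, hm, s, hs, h⟩ := hw₁ y
    have h2 := hxw y
    rw [h, LocalizedModule.smul'_mk, LocalizedModule.mk_eq] at h2
    obtain ⟨u, hu⟩ := h2
    refine ⟨u.1 * s, fun hmem => (y.isPrime.mem_or_mem hmem).elim u.2 hs, ?_⟩
    rw [mem_smulSub]
    refine ⟨u.1 • m, W.smul_mem _ hm, ?_⟩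
    have hu' : (u : A) • (1 : A) • x • m = (u : A) • s • m' := hu
    rw [mul_smul, ← hu', one_smul, smul_comm]
  obtain ⟨q, hq⟩ := exists_pow_irrelevant_smul_mem 𝒜 ℳ (hW.smulSub 𝒜 ℳ hx) hm' h1
  have hi'2 : n₂ ≤ i' := by
    have : (n₂ : ℤ) ≤ (i' : ℤ) := by rw [hi']; linarith [Int.natCast_nonneg d]
    exact_mod_cast this
  have hm'x := h₂ i' hi'2 m' hm' ⟨q, hq⟩
  rw [mem_smulSub] at hm'x
  obtain ⟨m₀, hm₀W, hm₀⟩ := hm'x
  have hdi : d ≤ i' := by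
    have : (d : ℤ) ≤ (i' : ℤ) := by rw [hi']; linarith
    exact_mod_cast this
  obtain ⟨i₁, rfl⟩ := Nat.exists_eq_add_of_le hdi
  have hi₁ : (i₁ : ℤ) = n' := by push_cast at hi'; linarith
  subst hi₁
  let m₁ : M := ((DirectSum.decompose ℳ m₀) i₁ : M)
  have hm₁ : m₁ ∈ ℳ i₁ := SetLike.coe_mem _
  have hm₁W : m₁ ∈ W := hW m₀ hm₀W i₁
  have hxm₁ : x • m₁ = m' := by
    have := decompose_smul_of_left_mem 𝒜 ℳ hx m₀ i₁
    rw [hm₀, DirectSum.decompose_of_mem_same ℳ hm'] at this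
    exact this.symm
  -- the difference section
  have hw₂ : SecIn 𝒜 ℳ W (w₁ - GrMod.globalOf 𝒜 ℳ ⟨m₁, hm₁⟩) :=
    hw₁.sub_globalOf ⟨m₁, hm₁⟩ hm₁W
  have hxw₂ : ∀ y : ProjectiveSpectrum 𝒜,
      x • gval 𝒜 ℳ (w₁ - GrMod.globalOf 𝒜 ℳ ⟨m₁, hm₁⟩) y = 0 := by
    intro y
    rw [gval_sub, smul_sub, hxw y, gval_globalOf, LocalizedModule.smul'_mk]
    change LocalizedModule.mk m' 1 - LocalizedModule.mk (x • m₁) 1 = 0
    rw [hxm₁, sub_self]
  have hw₂' : SecIn 𝒜 ℳ (killed x W) (w₁ - GrMod.globalOf 𝒜 ℳ ⟨m₁, hm₁⟩) := by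
    intro y
    obtain ⟨m, hm, s, hs, h⟩ := hw₂ y
    have h2 := hxw₂ y
    rw [h, LocalizedModule.smul'_mk, Groth.Agent.Lib.helper28.GMTildeQCoh.mk_eq_zero_iff] at h2
    obtain ⟨u, hu⟩ := h2
    have hu' : (u : A) • x • m = 0 := hu
    refine ⟨u.1 • m, mem_killed.mpr ⟨W.smul_mem _ hm, ?_⟩, u.1 * s,
      fun hmem => (y.isPrime.mem_or_mem hmem).elim u.2 hs, ?_⟩
    · rw [smul_comm]; exact hu'
    · rw [h]
      exact (LocalizedModule.mk_cancel_common_left u ⟨s, hs⟩ m).symm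
  obtain ⟨i₂, m₂, hi₂, hm₂, hm₂K, hval₂⟩ := h₃ _ hn'3 _ hw₂'
  have hi₂' : i₂ = i₁ := by exact_mod_cast hi₂
  subst hi₂'
  refine ⟨i₂, m₁ + m₂, rfl, add_mem hm₁ hm₂, W.add_mem hm₁W (mem_killed.mp hm₂K).1, fun y => ?_⟩
  have h3 := hval₂ y
  rw [gval_sub, gval_globalOf, sub_eq_iff_eq_add] at h3
  rw [h3, add_comm]
  exact (Groth.Agent.Lib.helper28.GMTildeFT.mk_add_same m₁ m₂ _).symm

/-- Descent along the powers of `x`. -/
theorem descent {W : Submodule A M} {d : ℕ} {x : A} (hx : x ∈ 𝒜 d) (n₁ : ℤ)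
    (hstep : ∀ n' : ℤ, n₁ ≤ n' →
      ∀ w₁ : GrMod.sect 𝒜 ℳ n' (op (⊤ : Opens (ProjectiveSpectrum.top 𝒜))), SecIn 𝒜 ℳ W w₁ →
        (∃ (i' : ℕ) (m' : M), (i' : ℤ) = n' + d ∧ m' ∈ ℳ i' ∧ m' ∈ W ∧
          ∀ y : ProjectiveSpectrum 𝒜, x • gval 𝒜 ℳ w₁ y =
            LocalizedModule.mk m' (1 : y.asHomogeneousIdeal.toIdeal.primeCompl)) →
        IsGlobal 𝒜 ℳ W w₁) :
    ∀ (k : ℕ) (n : ℤ), n₁ ≤ n →
      ∀ w : GrMod.sect 𝒜 ℳ n (op (⊤ : Opens (ProjectiveSpectrum.top 𝒜))), SecIn 𝒜 ℳ W w →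
        (∃ (i : ℕ) (m : M), (i : ℤ) = k * d + n ∧ m ∈ ℳ i ∧ m ∈ W ∧
          ∀ y : ProjectiveSpectrum 𝒜, x ^ k • gval 𝒜 ℳ w y =
            LocalizedModule.mk m (1 : y.asHomogeneousIdeal.toIdeal.primeCompl)) →
        IsGlobal 𝒜 ℳ W w := by
  intro k
  induction k with
  | zero =>
    rintro n - w - ⟨i, m, hi, hm, hmW, h⟩
    refine ⟨i, m, by simpa using hi, hm, hmW, fun y => ?_⟩
    have := h y
    rwa [pow_zero, one_smul] at this
  | succ k ih =>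
    rintro n hn w hw ⟨i, m, hi, hm, hmW, h⟩
    let a : 𝒜 (k * d) := ⟨x ^ k, pow_mem_deg hx k⟩
    have hw₁ : SecIn 𝒜 ℳ W (GrMod.smulSect 𝒜 ℳ a n (op ⊤) w) := hw.smulSect a
    have hn' : n₁ ≤ n + ((k * d : ℕ) : ℤ) := by
      have : (0 : ℤ) ≤ ((k * d : ℕ) : ℤ) := Int.natCast_nonneg _
      linarith
    obtain ⟨i₁, m₁, hi₁, hm₁, hm₁W, hv₁⟩ := hstep _ hn' _ hw₁
      ⟨i, m, by rw [hi]; push_cast; ring, hm, hmW, fun y => by
        rw [gval_smulSect, ← h y, pow_succ', mul_smul]⟩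
    refine ih n hn w hw ⟨i₁, m₁, by rw [hi₁]; push_cast; ring, hm₁, hm₁W, fun y => ?_⟩
    rw [← hv₁ y, gval_smulSect]

/-- If the statement holds for the elements of `W` killed by `x`, it holds for `W`. -/
theorem surj_of_killed [IsNoetherianRing A]
    (hTF : ∃ k : ℕ, (Submodule.span A (⋃ i ∈ Set.Ici k, (ℳ i : Set M))).FG)
    (S : Finset A) (e : A → ℕ) (hS : ∀ s ∈ S, 0 < e s ∧ s ∈ 𝒜 (e s))
    (hcov : ∀ y : ProjectiveSpectrum 𝒜, ∃ s ∈ S, s ∉ y.asHomogeneousIdeal)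
    {W : Submodule A M} (hW : IsHomog ℳ W) {d : ℕ} (hd : 0 < d) {x : A} (hx : x ∈ 𝒜 d)
    (hP : Surj 𝒜 ℳ (killed x W)) : Surj 𝒜 ℳ W := by
  obtain ⟨n₁, hstep⟩ := step hTF hW hx hP
  refine ⟨n₁, fun n hn w hw => ?_⟩
  obtain ⟨k, i, m, hm, hmW, hi, h⟩ := exists_pow_smul_eq_global S e hS hcov hW hw hd hx
  exact descent hx n₁ hstep k n hn w hw ⟨i, m, hi, hm, hmW, h⟩

/-- Base case: all generators kill `W`. -/
theorem surj_of_all_killed (S : Finset A)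
    (hcov : ∀ y : ProjectiveSpectrum 𝒜, ∃ s ∈ S, s ∉ y.asHomogeneousIdeal)
    {W : Submodule A M} (hkill : ∀ s ∈ S, ∀ m ∈ W, s • m = 0) : Surj 𝒜 ℳ W := by
  refine ⟨0, fun n hn w hw => ⟨n.toNat, 0, Int.toNat_of_nonneg hn, zero_mem _, W.zero_mem,
    fun y => ?_⟩⟩
  obtain ⟨s, hs, hsy⟩ := hcov y
  obtain ⟨m, hm, s', hs', h⟩ := hw y
  rw [h, LocalizedModule.zero_mk, Groth.Agent.Lib.helper28.GMTildeQCoh.mk_eq_zero_iff]
  exact ⟨⟨s, hsy⟩, hkill s hs m hm⟩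

open Classical in
/-- Induction on the number of generators not killing `W`. -/
theorem surj_of_card [IsNoetherianRing A]
    (hTF : ∃ k : ℕ, (Submodule.span A (⋃ i ∈ Set.Ici k, (ℳ i : Set M))).FG)
    (S : Finset A) (e : A → ℕ) (hS : ∀ s ∈ S, 0 < e s ∧ s ∈ 𝒜 (e s))
    (hcov : ∀ y : ProjectiveSpectrum 𝒜, ∃ s ∈ S, s ∉ y.asHomogeneousIdeal) :
    ∀ (r : ℕ) (W : Submodule A M), IsHomog ℳ W →
      (S.filter (fun s => ¬ ∀ m ∈ W, s • m = 0)).card ≤ r → Surj 𝒜 ℳ W := by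
  classical
  intro r
  induction r with
  | zero =>
    intro W _ hcard
    refine surj_of_all_killed S hcov fun s hs => ?_
    by_contra hcon
    have : s ∈ S.filter (fun s => ¬ ∀ m ∈ W, s • m = 0) := Finset.mem_filter.mpr ⟨hs, hcon⟩
    rw [Nat.le_zero, Finset.card_eq_zero] at hcard
    rw [hcard] at this
    exact absurd this (Finset.notMem_empty _)
  | succ r ih =>
    intro W hW hcard
    by_cases hall : ∀ s ∈ S, ∀ m ∈ W, s • m = 0
    · exact surj_of_all_killed S hcov hall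
    · simp only [not_forall] at hall
      obtain ⟨s₀, hs₀, hs₀W⟩ := hall
      have hs₀W' : ¬ ∀ m ∈ W, s₀ • m = 0 := by
        simpa only [not_forall] using hs₀W
      refine surj_of_killed hTF S e hS hcov hW (hS s₀ hs₀).1 (hS s₀ hs₀).2
        (ih (killed s₀ W) (hW.killed 𝒜 ℳ (hS s₀ hs₀).2) ?_)
      have hsub : S.filter (fun s => ¬ ∀ m ∈ killed s₀ W, s • m = 0) ⊆
          (S.filter (fun s => ¬ ∀ m ∈ W, s • m = 0)).erase s₀ := by
        intro s hs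
        rw [Finset.mem_filter] at hs
        rw [Finset.mem_erase, Finset.mem_filter]
        refine ⟨?_, hs.1, fun h => hs.2 fun m hm => h m (mem_killed.mp hm).1⟩
        rintro rfl
        exact hs.2 fun m hm => (mem_killed.mp hm).2
      have hmem : s₀ ∈ S.filter (fun s => ¬ ∀ m ∈ W, s • m = 0) :=
        Finset.mem_filter.mpr ⟨hs₀, hs₀W'⟩
      have := Finset.card_le_card hsub
      rw [Finset.card_erase_of_mem hmem] at this
      omega

variable (𝒜 ℳ)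

/-- **Surjectivity** of `M_n → Γ(Proj, M(n)~)` for `n ≫ 0`. -/
theorem alpha_surjective_eventually [IsNoetherianRing A]
    (hTF : ∃ k : ℕ, (Submodule.span A (⋃ i ∈ Set.Ici k, (ℳ i : Set M))).FG) :
    ∃ N : ℕ, ∀ n : ℕ, N ≤ n → Function.Surjective (GrMod.alpha 𝒜 ℳ n) := by
  classical
  have hfg : (HomogeneousIdeal.irrelevant 𝒜).toIdeal.FG :=
    (isNoetherianRing_iff_ideal_fg A).mp inferInstance _
  obtain ⟨S, e, hS, hspan⟩ := exists_homogeneous_gens 𝒜 hfg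
  have hcov : ∀ y : ProjectiveSpectrum 𝒜, ∃ s ∈ S, s ∉ y.asHomogeneousIdeal := by
    intro y
    by_contra hcon
    simp only [not_exists, not_and, not_not] at hcon
    apply y.not_irrelevant_le
    intro z hz
    have hz' : z ∈ (HomogeneousIdeal.irrelevant 𝒜).toIdeal := hz
    rw [hspan] at hz'
    have hle : Ideal.span (S : Set A) ≤ y.asHomogeneousIdeal.toIdeal :=
      Ideal.span_le.mpr fun g hg => hcon g hg
    exact hle hz'
  obtain ⟨n₀, h⟩ := surj_of_card hTF S e hS hcov S.card ⊤ (isHomog_top ℳ)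
    (Finset.card_filter_le _ _)
  refine ⟨n₀.toNat, fun n hn w => ?_⟩
  have hn' : n₀ ≤ (n : ℤ) := by
    have : n₀ ≤ (n₀.toNat : ℤ) := Int.self_le_toNat n₀
    exact this.trans (by exact_mod_cast hn)
  obtain ⟨i, m, hi, hm, -, hv⟩ := h (n : ℤ) hn' w (secIn_top _)
  have hin : i = n := by exact_mod_cast hi
  subst hin
  refine ⟨⟨m, hm⟩, ?_⟩
  exact gs_ext (𝒜 := 𝒜) (ℳ := ℳ) fun y => (hv y).symm

/-- **Injectivity** of `M_n → Γ(Proj, M(n)~)` for `n ≫ 0`. -/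
theorem alpha_injective_eventually [IsNoetherianRing A]
    (hTF : ∃ k : ℕ, (Submodule.span A (⋃ i ∈ Set.Ici k, (ℳ i : Set M))).FG) :
    ∃ N : ℕ, ∀ n : ℕ, N ≤ n → Function.Injective (GrMod.alpha 𝒜 ℳ n) := by
  obtain ⟨n₂, h₂⟩ := bounded_torsion 𝒜 ℳ hTF ⊥
  refine ⟨n₂, fun n hn => (injective_iff_map_eq_zero _).mpr fun m hm => ?_⟩
  obtain ⟨k, hk⟩ := (Groth.Agent.S15549.result 𝒜 ℳ n m).mp hm
  have := h₂ n hn m.1 m.2 ⟨k, fun a ha => (Submodule.mem_bot A).mpr (hk a ha)⟩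
  exact Subtype.ext ((Submodule.mem_bot A).mp this)

/-- **Serre's theorem**: `M_n → Γ(Proj, M(n)~)` is bijective for `n ≫ 0` (Noetherian graded ring
with generators of any positive degrees, `M` satisfying (TF)). -/
theorem alpha_bijective_eventually [IsNoetherianRing A]
    (hTF : ∃ k : ℕ, (Submodule.span A (⋃ i ∈ Set.Ici k, (ℳ i : Set M))).FG) :
    ∃ N : ℕ, ∀ n : ℕ, N ≤ n → Function.Bijective (GrMod.alpha 𝒜 ℳ n) := by
  obtain ⟨N₁, h₁⟩ := alpha_injective_eventually 𝒜 ℳ hTF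
  obtain ⟨N₂, h₂⟩ := alpha_surjective_eventually 𝒜 ℳ hTF
  exact ⟨max N₁ N₂, fun n hn =>
    ⟨h₁ n ((le_max_left _ _).trans hn), h₂ n ((le_max_right _ _).trans hn)⟩⟩

end Groth.Agent.Lib.helper12.SerreGamma
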