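import Mathlib
import Groth.Agent.Lib.Helper12.SerreGamma3

/-!
# Eventual generation of `Γ_*(M~)` over the degree-one part (helper12)

For a Noetherian graded ring whose irrelevant ideal is generated by `𝒜 1` and `M` satisfying (TF):
`Γ(X, M(k + e)~) = ∑_{a ∈ 𝒜 e} a • Γ(X, M(k)~)` for `k ≫ 0`, all `e`.
-/

set_option autoImplicit false
set_option linter.unusedSectionVars false
universe u

open CategoryTheory AlgebraicGeometry Opposite TopologicalSpace

namespace Groth.Agent.Lib.helper12.SerreGamma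

variable {A σ : Type u} [CommRing A] [SetLike σ A] [AddSubgroupClass σ A] (𝒜 : ℕ → σ)
  [GradedRing 𝒜]
variable {M τ : Type u} [AddCommGroup M] [Module A M] [SetLike τ M] [AddSubgroupClass τ M]
  (ℳ : ℕ → τ) [DirectSum.Decomposition ℳ] [SetLike.GradedSMul 𝒜 ℳ]

/-- `Surj` for `W = ⊤`. -/
theorem surj_top [IsNoetherianRing A]
    (hTF : ∃ k : ℕ, (Submodule.span A (⋃ i ∈ Set.Ici k, (ℳ i : Set M))).FG) :
    Surj 𝒜 ℳ ⊤ := by
  classical
  have hfg : (HomogeneousIdeal.irrelevant 𝒜).toIdeal.FG :=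
    (isNoetherianRing_iff_ideal_fg A).mp inferInstance _
  obtain ⟨S, e, hS, hspan⟩ := exists_homogeneous_gens 𝒜 hfg
  have hcov : ∀ y : ProjectiveSpectrum 𝒜, ∃ s ∈ S, s ∉ y.asHomogeneousIdeal := by
    intro y
    by_contra hcon
    simp only [not_exists, not_and, not_not] at hcon
    apply y.not_irrelevant_le
    intro z hz
    have hz' : z ∈ (HomogeneousIdeal.irrelevant 𝒜).toIdeal := hz
    rw [hspan] at hz'
    have hle : Ideal.span (S : Set A) ≤ y.asHomogeneousIdeal.toIdeal :=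
      Ideal.span_le.mpr fun g hg => hcon g hg
    exact hle hz'
  exact surj_of_card hTF S e hS hcov S.card ⊤ (isHomog_top ℳ) (Finset.card_filter_le _ _)

/-- When `A₊` is generated by `𝒜 1`: `𝒜 (n + 1) ⊆ 𝒜 1 · 𝒜 n`. -/
theorem mem_closure_one_mul
    (hgen : (HomogeneousIdeal.irrelevant 𝒜).toIdeal = Ideal.span (𝒜 1 : Set A)) (n : ℕ)
    {a : A} (ha : a ∈ 𝒜 (n + 1)) :
    a ∈ AddSubgroup.closure {x : A | ∃ b ∈ 𝒜 1, ∃ b' ∈ 𝒜 n, x = b * b'} := by
  classical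
  have ha' : a ∈ Ideal.span (𝒜 1 : Set A) := by
    rw [← hgen]
    exact HomogeneousIdeal.mem_irrelevant_of_mem 𝒜 (Nat.succ_pos n) ha
  obtain ⟨N, c, g, hsum⟩ := Submodule.mem_span_set'.mp ha'
  have h1 : (DirectSum.decompose 𝒜 a (n + 1) : A) = a := DirectSum.decompose_of_mem_same 𝒜 ha
  rw [← h1, ← hsum, DirectSum.decompose_sum, DFinsupp.finsetSum_apply,
    AddSubmonoidClass.coe_finsetSum]
  refine AddSubgroup.sum_mem _ fun l _ => AddSubgroup.subset_closure ?_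
  refine ⟨(g l : A), (g l).2, (DirectSum.decompose 𝒜 (c l) n : A), SetLike.coe_mem _, ?_⟩
  rw [smul_eq_mul, DirectSum.coe_decompose_mul_of_right_mem_of_le 𝒜 (g l).2 (Nat.le_add_left 1 n),
    Nat.add_sub_cancel, mul_comm]

/-- When `A₊` is generated by `𝒜 1`: `𝒜 (e + r) ⊆ 𝒜 e · 𝒜 r`. -/
theorem mem_closure_mul
    (hgen : (HomogeneousIdeal.irrelevant 𝒜).toIdeal = Ideal.span (𝒜 1 : Set A)) (e r : ℕ) :
    ∀ a ∈ 𝒜 (e + r),
      a ∈ AddSubgroup.closure {x : A | ∃ b ∈ 𝒜 e, ∃ b' ∈ 𝒜 r, x = b * b'} := by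
  induction e with
  | zero =>
    intro a ha
    rw [Nat.zero_add] at ha
    exact AddSubgroup.subset_closure ⟨1, SetLike.GradedOne.one_mem, a, ha, (one_mul a).symm⟩
  | succ e ih =>
    intro a ha
    have ha' : a ∈ 𝒜 ((e + r) + 1) := by
      have : e + 1 + r = e + r + 1 := by ring
      rwa [this] at ha
    have key1 : ∀ b ∈ 𝒜 1, ∀ x ∈ AddSubgroup.closure
        {x : A | ∃ c ∈ 𝒜 e, ∃ c' ∈ 𝒜 r, x = c * c'},
        b * x ∈ AddSubgroup.closure {x : A | ∃ b ∈ 𝒜 (e + 1), ∃ b' ∈ 𝒜 r, x = b * b'} := by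
      intro b hb x hx
      induction hx using AddSubgroup.closure_induction with
      | mem x hx =>
        obtain ⟨c, hc, c', hc', rfl⟩ := hx
        refine AddSubgroup.subset_closure ⟨b * c, ?_, c', hc', (mul_assoc _ _ _).symm⟩
        have := SetLike.mul_mem_graded hb hc
        rwa [add_comm] at this
      | zero => rw [mul_zero]; exact zero_mem _
      | add x y _ _ hx hy => rw [mul_add]; exact add_mem hx hy
      | neg x _ hx => rw [mul_neg]; exact neg_mem hx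
    have key2 : ∀ x ∈ AddSubgroup.closure
        {x : A | ∃ b ∈ 𝒜 1, ∃ b' ∈ 𝒜 (e + r), x = b * b'},
        x ∈ AddSubgroup.closure {x : A | ∃ b ∈ 𝒜 (e + 1), ∃ b' ∈ 𝒜 r, x = b * b'} := by
      intro x hx
      induction hx using AddSubgroup.closure_induction with
      | mem x hx =>
        obtain ⟨b, hb, b', hb', rfl⟩ := hx
        exact key1 b hb b' (ih b' hb')
      | zero => exact zero_mem _
      | add x y _ _ hx hy => exact add_mem hx hy
      | neg x _ hx => exact neg_mem hx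
    exact key2 a (mem_closure_one_mul 𝒜 hgen (e + r) ha')

/-- Under (TF) and generation in degree one: `ℳ (e + k) ⊆ 𝒜 e • ℳ k` for `k ≫ 0`. -/
theorem exists_mem_closure_smul [IsNoetherianRing A]
    (hgen : (HomogeneousIdeal.irrelevant 𝒜).toIdeal = Ideal.span (𝒜 1 : Set A))
    (hTF : ∃ k : ℕ, (Submodule.span A (⋃ i ∈ Set.Ici k, (ℳ i : Set M))).FG) :
    ∃ K : ℕ, ∀ k : ℕ, K ≤ k → ∀ (e : ℕ) (m : M), m ∈ ℳ (e + k) →
      m ∈ AddSubgroup.closure {x : M | ∃ b ∈ 𝒜 e, ∃ m' ∈ ℳ k, x = b • m'} := by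
  classical
  obtain ⟨k₀, hk₀⟩ := hTF
  obtain ⟨T, hTsub, hTspan⟩ := (Submodule.fg_span_iff_fg_span_finset_subset _).mp hk₀
  have hT : ∀ t : M, t ∈ T → ∃ c : ℕ, k₀ ≤ c ∧ t ∈ ℳ c := by
    intro t ht
    have := hTsub ht
    simp only [Set.mem_iUnion, Set.mem_Ici, SetLike.mem_coe, exists_prop] at this
    exact this
  choose! ct hct1 hct2 using hT
  refine ⟨max k₀ (T.sup ct), fun k hk e m hm => ?_⟩
  have hkk₀ : k₀ ≤ k := (le_max_left _ _).trans hk
  have hct : ∀ t ∈ T, ct t ≤ k := fun t ht =>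
    (Finset.le_sup (f := ct) ht).trans ((le_max_right _ _).trans hk)
  have hmspan : m ∈ Submodule.span A ((id : M → M) '' (T : Set M)) := by
    rw [Set.image_id, ← hTspan]
    refine Submodule.subset_span ?_
    simp only [Set.mem_iUnion, Set.mem_Ici, SetLike.mem_coe, exists_prop]
    exact ⟨e + k, by omega, hm⟩
  obtain ⟨a, ha, hsum⟩ := Groth.Agent.Lib.helper28.GMTildeFT.exists_homogeneous_coeffs 𝒜 ℳ T id ct
    (fun t ht => hct2 t ht) (fun t ht => (hct t ht).trans (Nat.le_add_left k e)) hm hmspan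
  rw [hsum]
  refine AddSubgroup.sum_mem _ fun t ht => ?_
  have hdeg : e + k - ct t = e + (k - ct t) := by have := hct t ht; omega
  have hat : a t ∈ 𝒜 (e + (k - ct t)) := hdeg ▸ ha t ht
  have h1 := mem_closure_mul 𝒜 hgen e (k - ct t) (a t) hat
  have key : ∀ x ∈ AddSubgroup.closure
      {x : A | ∃ b ∈ 𝒜 e, ∃ b' ∈ 𝒜 (k - ct t), x = b * b'},
      x • t ∈ AddSubgroup.closure {x : M | ∃ b ∈ 𝒜 e, ∃ m' ∈ ℳ k, x = b • m'} := by
    intro x hx
    induction hx using AddSubgroup.closure_induction with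
    | mem x hx =>
      obtain ⟨b, hb, b', hb', rfl⟩ := hx
      refine AddSubgroup.subset_closure ⟨b, hb, b' • t, ?_, mul_smul _ _ _⟩
      have := smul_mem_deg (𝒜 := 𝒜) (ℳ := ℳ) hb' (hct2 t ht)
      rwa [Nat.sub_add_cancel (hct t ht)] at this
    | zero => rw [zero_smul]; exact zero_mem _
    | add x y _ _ hx hy => rw [add_smul]; exact add_mem hx hy
    | neg x _ hx => rw [neg_smul]; exact neg_mem hx
  exact key (a t) h1

set_option maxHeartbeats 1000000 in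
/-- **Eventual generation of the sections over the degree-one part.** -/
theorem iSup_range_smulSect_eq_top [IsNoetherianRing A]
    (hgen : (HomogeneousIdeal.irrelevant 𝒜).toIdeal = Ideal.span (𝒜 1 : Set A))
    (hTF : ∃ k : ℕ, (Submodule.span A (⋃ i ∈ Set.Ici k, (ℳ i : Set M))).FG) :
    ∃ k : ℕ, ∀ e : ℕ,
      (⨆ a : 𝒜 e, (GrMod.smulSect 𝒜 ℳ a (k : ℤ)
        (op (⊤ : Opens (ProjectiveSpectrum.top 𝒜)))).range) = ⊤ := by
  classical
  obtain ⟨n₀, hsurj⟩ := surj_top 𝒜 ℳ hTF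
  obtain ⟨K, hK⟩ := exists_mem_closure_smul 𝒜 ℳ hgen hTF
  obtain ⟨k, hkK, hkn⟩ : ∃ k : ℕ, K ≤ k ∧ n₀.toNat ≤ k :=
    ⟨max K n₀.toNat, le_max_left _ _, le_max_right _ _⟩
  refine ⟨k, fun e => ?_⟩
  rw [eq_top_iff]
  intro w _
  have hn' : n₀ ≤ (k : ℤ) + (e : ℤ) := by
    have h1 : n₀ ≤ (n₀.toNat : ℤ) := Int.self_le_toNat n₀
    have h2 : (n₀.toNat : ℤ) ≤ (k : ℤ) := by exact_mod_cast hkn
    have h3 : (0 : ℤ) ≤ (e : ℤ) := Int.natCast_nonneg e
    linarith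
  have hw : SecIn 𝒜 ℳ ⊤ w := secIn_top w
  obtain ⟨i, m, hi, hm, -, hv⟩ := hsurj ((k : ℤ) + (e : ℤ)) hn' w hw
  have hik : i = e + k := by
    have : (i : ℤ) = ((e + k : ℕ) : ℤ) := by rw [hi]; push_cast; ring
    exact_mod_cast this
  subst hik
  have hmcl := hK k hkK e m hm
  -- every element of the closure is the value of a section in the supremum
  have key : ∀ x ∈ AddSubgroup.closure {x : M | ∃ b ∈ 𝒜 e, ∃ m' ∈ ℳ k, x = b • m'},
      ∃ w' ∈ (⨆ a : 𝒜 e, (GrMod.smulSect 𝒜 ℳ a (k : ℤ)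
        (op (⊤ : Opens (ProjectiveSpectrum.top 𝒜)))).range),
        ∀ y : ProjectiveSpectrum 𝒜, gval 𝒜 ℳ w' y =
          LocalizedModule.mk x (1 : y.asHomogeneousIdeal.toIdeal.primeCompl) := by
    intro x hx
    induction hx using AddSubgroup.closure_induction with
    | mem x hx =>
      obtain ⟨b, hb, m', hm', rfl⟩ := hx
      refine ⟨GrMod.smulSect 𝒜 ℳ ⟨b, hb⟩ (k : ℤ) (op ⊤) (GrMod.globalOf 𝒜 ℳ ⟨m', hm'⟩),
        AddSubgroup.mem_iSup_of_mem ⟨b, hb⟩ ⟨_, rfl⟩, fun y => ?_⟩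
      rw [gval_smulSect, gval_globalOf, LocalizedModule.smul'_mk]
    | zero =>
      refine ⟨0, zero_mem _, fun y => ?_⟩
      rw [LocalizedModule.zero_mk]
      rfl
    | add x₁ x₂ _ _ h₁ h₂ =>
      obtain ⟨w₁, hw₁, hv₁⟩ := h₁
      obtain ⟨w₂, hw₂, hv₂⟩ := h₂
      refine ⟨w₁ + w₂, add_mem hw₁ hw₂, fun y => ?_⟩
      rw [gval_add, hv₁ y, hv₂ y]
      exact (Groth.Agent.Lib.helper28.GMTildeFT.mk_add_same x₁ x₂ _).symm
    | neg x _ h =>
      obtain ⟨w₁, hw₁, hv₁⟩ := h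
      refine ⟨-w₁, neg_mem hw₁, fun y => ?_⟩
      rw [LocalizedModule.mk_neg, ← hv₁ y]
      rfl
  obtain ⟨w', hw', hv'⟩ := key m hmcl
  have : w = w' := gs_ext (𝒜 := 𝒜) (ℳ := ℳ) fun y => (hv y).trans (hv' y).symm
  rw [this]
  exact hw'

end Groth.Agent.Lib.helper12.SerreGamma
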