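import Mathlib

/-!
# Finite free covers splitting monic polynomials, and covering finite algebras (helper12)

* `exists_split_one`: for a monic polynomial `P` over a ring `A` there is a ring map `f : A →+* A'`,
  finite, flat, of finite presentation and injective, such that `P.map f` is a product of linear
  factors `X - C a`.
* `exists_split_finset`: the same for a finite set of monic polynomials.
* `Cov ρ`: for `ρ : R →+* B'`, a finite flat finitely presented `R`-algebra `C` with a ring map
  `ψ : C →+* B'` over `R` and a finite set `S` of retractions `C →+* R` of `R → C` whose kernels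
  cover `Spec C`.  `Cov.extend`: enlarge the range of `ψ` by an element killed by a split monic
  polynomial.  `Cov.exists_of_finset`.
-/

set_option autoImplicit false
universe u
open Polynomial

namespace Groth.Agent.Lib.helper12.SplitCover

/-- `P` is a product of monic linear factors -/
def IsSplit {A : Type u} [CommRing A] (P : A[X]) : Prop :=
  ∃ r : Multiset A, P = (r.map (fun a => X - C a)).prod

theorem IsSplit.map {A A' : Type u} [CommRing A] [CommRing A'] {P : A[X]} (h : IsSplit P)
    (f : A →+* A') : IsSplit (P.map f) := by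
  obtain ⟨r, rfl⟩ := h
  refine ⟨r.map f, ?_⟩
  rw [Polynomial.map_multiset_prod, Multiset.map_map, Multiset.map_map]
  congr 1
  apply Multiset.map_congr rfl
  intro a _
  simp

theorem IsSplit.one {A : Type u} [CommRing A] : IsSplit (1 : A[X]) := ⟨0, by simp⟩

theorem IsSplit.mul {A : Type u} [CommRing A] {P Q : A[X]} (hP : IsSplit P) (hQ : IsSplit Q) :
    IsSplit (P * Q) := by
  obtain ⟨r, rfl⟩ := hP
  obtain ⟨s, rfl⟩ := hQ
  exact ⟨r + s, by rw [Multiset.map_add, Multiset.prod_add]⟩

theorem IsSplit.X_sub_C {A : Type u} [CommRing A] (a : A) : IsSplit (X - C a : A[X]) :=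
  ⟨{a}, by simp⟩

/-- the good ring maps -/
def Good {A A' : Type u} [CommRing A] [CommRing A'] (f : A →+* A') : Prop :=
  f.Finite ∧ f.Flat ∧ f.FinitePresentation ∧ Function.Injective f

theorem Good.id (A : Type u) [CommRing A] : Good (RingHom.id A) :=
  ⟨RingHom.Finite.id A, RingHom.Flat.id A, RingHom.FinitePresentation.id A, fun _ _ h => h⟩

theorem Good.comp {A A' A'' : Type u} [CommRing A] [CommRing A'] [CommRing A'']
    {f : A →+* A'} {g : A' →+* A''} (hf : Good f) (hg : Good g) : Good (g.comp f) :=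
  ⟨hg.1.comp hf.1, RingHom.Flat.comp hf.2.1 hg.2.1, hg.2.2.1.comp hf.2.2.1, hg.2.2.2.comp hf.2.2.2⟩

theorem adjoinRoot_props {A : Type u} [CommRing A] (P : A[X]) (hP : P.Monic) :
    (AdjoinRoot.of P).Finite ∧ (AdjoinRoot.of P).Flat ∧ (AdjoinRoot.of P).FinitePresentation := by
  have hfree : Module.Free A (AdjoinRoot P) := hP.free_adjoinRoot
  have hfin : Module.Finite A (AdjoinRoot P) := hP.finite_adjoinRoot
  have e : AdjoinRoot.of P = algebraMap A (AdjoinRoot P) := (AdjoinRoot.algebraMap_eq P).symm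
  refine ⟨?_, ?_, ?_⟩
  · rw [e, RingHom.finite_algebraMap]; exact hfin
  · rw [e, RingHom.flat_algebraMap_iff]; infer_instance
  · rw [e, RingHom.finitePresentation_algebraMap]
    exact Algebra.FinitePresentation.quotient (R := A) (A := A[X]) ⟨{P}, by simp⟩

theorem good_adjoinRoot {A : Type u} [CommRing A] (P : A[X]) (hP : P.Monic)
    (hdeg : P.natDegree ≠ 0) : Good (AdjoinRoot.of P) := by
  have hfree : Module.Free A (AdjoinRoot P) := hP.free_adjoinRoot
  have hfin : Module.Finite A (AdjoinRoot P) := hP.finite_adjoinRoot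
  have e : AdjoinRoot.of P = algebraMap A (AdjoinRoot P) := (AdjoinRoot.algebraMap_eq P).symm
  refine ⟨?_, ?_, ?_, ?_⟩
  · rw [e, RingHom.finite_algebraMap]; exact hfin
  · rw [e, RingHom.flat_algebraMap_iff]; infer_instance
  · rw [e, RingHom.finitePresentation_algebraMap]
    exact Algebra.FinitePresentation.quotient (R := A) (A := A[X]) ⟨{P}, by simp⟩
  · intro a b hab
    have pb := AdjoinRoot.powerBasis' hP
    have hdim : 0 < (AdjoinRoot.powerBasis' hP).dim := Nat.pos_of_ne_zero hdeg
    have h1 : (a - b) • (1 : AdjoinRoot P) = 0 := by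
      rw [Algebra.smul_def, mul_one, ← e, map_sub, hab, sub_self]
    have h2 : (AdjoinRoot.powerBasis' hP).basis ⟨0, hdim⟩ = 1 := by
      rw [(AdjoinRoot.powerBasis' hP).basis_eq_pow]; simp
    rw [← h2] at h1
    have h3 := congrArg (fun v => (AdjoinRoot.powerBasis' hP).basis.repr v ⟨0, hdim⟩) h1
    simp only [map_smul, Module.Basis.repr_self, Finsupp.smul_apply, Finsupp.single_eq_same,
      smul_eq_mul, mul_one, map_zero, Finsupp.coe_zero, Pi.zero_apply] at h3
    exact sub_eq_zero.mp h3

theorem exists_split_one : ∀ (n : ℕ) (A : Type u) [CommRing A] (P : A[X]), P.Monic →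
    P.natDegree = n →
    ∃ (A' : Type u) (_ : CommRing A') (f : A →+* A'), Good f ∧ IsSplit (P.map f) := by
  intro n
  induction n with
  | zero =>
    intro A _ P hP hdeg
    have h1 : P = 1 := hP.natDegree_eq_zero.mp hdeg
    exact ⟨A, inferInstance, RingHom.id A, Good.id A, by rw [h1, Polynomial.map_one]; exact IsSplit.one⟩
  | succ n ih =>
    intro A _ P hP hdeg
    have hA : Nontrivial A := by
      by_contra hcon
      rw [not_nontrivial_iff_subsingleton] at hcon
      have : P = 0 := Subsingleton.elim _ _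
      rw [this, natDegree_zero] at hdeg
      omega
    have hgood := good_adjoinRoot P hP (by omega)
    have hA₁ : Nontrivial (AdjoinRoot P) := hgood.2.2.2.nontrivial
    set f₁ := AdjoinRoot.of P with hf₁
    set r₁ := AdjoinRoot.root P with hr₁
    have hroot : (P.map f₁).IsRoot r₁ := AdjoinRoot.isRoot_root P
    set Q := (P.map f₁) /ₘ (X - C r₁) with hQ
    have hmul : (X - C r₁) * Q = P.map f₁ := mul_divByMonic_eq_iff_isRoot.mpr hroot
    have hP₁ : (P.map f₁).Monic := hP.map f₁
    have hQm : Q.Monic := by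
      have : ((X - C r₁) * Q).Monic := hmul ▸ hP₁
      exact (monic_X_sub_C r₁).of_mul_monic_left this
    have hQdeg : Q.natDegree = n := by
      have h1 : (P.map f₁).natDegree = n + 1 := by rw [hP.natDegree_map, hdeg]
      rw [← hmul, (monic_X_sub_C r₁).natDegree_mul hQm, natDegree_X_sub_C] at h1
      omega
    obtain ⟨A₂, _, f₂, hf₂, hsplit⟩ := ih (AdjoinRoot P) Q hQm hQdeg
    refine ⟨A₂, inferInstance, f₂.comp f₁, hgood.comp hf₂, ?_⟩
    rw [← Polynomial.map_map, ← hmul, Polynomial.map_mul]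
    exact ((IsSplit.X_sub_C r₁).map f₂).mul hsplit

theorem exists_split_finset {A : Type u} [CommRing A] (s : Finset A[X]) (hs : ∀ P ∈ s, P.Monic) :
    ∃ (A' : Type u) (_ : CommRing A') (f : A →+* A'), Good f ∧ ∀ P ∈ s, IsSplit (P.map f) := by
  classical
  induction s using Finset.induction_on with
  | empty => exact ⟨A, inferInstance, RingHom.id A, Good.id A, by simp⟩
  | insert P s hPs ih =>
    obtain ⟨A₁, _, f₁, hf₁, h₁⟩ := ih (fun Q hQ => hs Q (Finset.mem_insert_of_mem hQ))
    have hPm : (P.map f₁).Monic := (hs P (Finset.mem_insert_self P s)).map f₁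
    obtain ⟨A₂, _, f₂, hf₂, h₂⟩ := exists_split_one _ A₁ (P.map f₁) hPm rfl
    refine ⟨A₂, inferInstance, f₂.comp f₁, hf₁.comp hf₂, ?_⟩
    intro Q hQ
    rw [← Polynomial.map_map]
    rcases Finset.mem_insert.mp hQ with rfl | hQ
    · exact h₂
    · exact (h₁ Q hQ).map f₂

/-- covering data over `ρ : R →+* B'` -/
structure Cov {R B' : Type u} [CommRing R] [CommRing B'] (ρ : R →+* B') where
  C : Type u
  [ring : CommRing C]
  g : R →+* C
  ψ : C →+* B'
  S : Set (C →+* R)
  hg_fin : g.Finite
  hg_flat : g.Flat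
  hg_fp : g.FinitePresentation
  hψ : ψ.comp g = ρ
  hS_fin : S.Finite
  hS_sec : ∀ s ∈ S, s.comp g = RingHom.id R
  hS_cov : ∀ (𝔮 : Ideal C), 𝔮.IsPrime → ∃ s ∈ S, RingHom.ker s ≤ 𝔮

attribute [instance] Cov.ring

namespace Cov

variable {R B' : Type u} [CommRing R] [CommRing B'] (ρ : R →+* B')

/-- the trivial covering data -/
def base : Cov ρ where
  C := R
  g := RingHom.id R
  ψ := ρ
  S := {RingHom.id R}
  hg_fin := RingHom.Finite.id R
  hg_flat := RingHom.Flat.id R
  hg_fp := RingHom.FinitePresentation.id R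
  hψ := RingHom.comp_id ρ
  hS_fin := Set.finite_singleton _
  hS_sec := by rintro s rfl; rfl
  hS_cov := fun 𝔮 _ => ⟨RingHom.id R, rfl, by
    intro x hx
    rw [RingHom.mem_ker, RingHom.id_apply] at hx
    rw [hx]; exact 𝔮.zero_mem⟩

variable {ρ}

/-- enlarge the range of `ψ` by an element killed by a split monic polynomial -/
theorem extend (D : Cov ρ) (β : B') (P : R[X]) (hP : P.Monic) (hsplit : IsSplit P)
    (hβ : P.eval₂ ρ β = 0) :
    ∃ D' : Cov ρ, Set.range D.ψ ⊆ Set.range D'.ψ ∧ β ∈ Set.range D'.ψ := by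
  classical
  obtain ⟨r, hr⟩ := hsplit
  set P' : D.C[X] := P.map D.g with hP'
  have hP'm : P'.Monic := hP.map D.g
  have hprops := adjoinRoot_props P' hP'm
  have hψβ : P'.eval₂ D.ψ β = 0 := by rw [hP', Polynomial.eval₂_map, D.hψ, hβ]
  -- roots of `P`
  have hroot : ∀ a ∈ r, P.eval a = 0 := by
    intro a ha
    rw [hr, Polynomial.eval_multiset_prod]
    apply Multiset.prod_eq_zero
    rw [Multiset.map_map]
    exact Multiset.mem_map.mpr ⟨a, ha, by simp⟩
  have hlift : ∀ s ∈ D.S, ∀ a ∈ r, P'.eval₂ s a = 0 := by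
    intro s hs a ha
    rw [hP', Polynomial.eval₂_map, D.hS_sec s hs, Polynomial.eval₂_id]
    exact hroot a ha
  let S₁ : Set (AdjoinRoot P' →+* R) :=
    {t | t.comp (AdjoinRoot.of P') ∈ D.S ∧ t (AdjoinRoot.root P') ∈ r}
  have hS₁fin : S₁.Finite := by
    refine Set.Finite.of_injOn (f := fun t => (t.comp (AdjoinRoot.of P'), t (AdjoinRoot.root P')))
      (t := D.S ×ˢ {a | a ∈ r}) ?_ ?_ (D.hS_fin.prod (Multiset.finite_toSet r))
    · intro t ht; exact ⟨ht.1, ht.2⟩
    · intro t₁ _ t₂ _ h
      simp only [Prod.mk.injEq] at h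
      exact AdjoinRoot.ringHom_ext h.1 h.2
  refine ⟨{ C := AdjoinRoot P'
            g := (AdjoinRoot.of P').comp D.g
            ψ := AdjoinRoot.lift D.ψ β hψβ
            S := S₁
            hg_fin := hprops.1.comp D.hg_fin
            hg_flat := RingHom.Flat.comp D.hg_flat hprops.2.1
            hg_fp := hprops.2.2.comp D.hg_fp
            hψ := by rw [← RingHom.comp_assoc, AdjoinRoot.lift_comp_of, D.hψ]
            hS_fin := hS₁fin
            hS_sec := fun t ht => by rw [← RingHom.comp_assoc]; exact D.hS_sec _ ht.1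
            hS_cov := ?_ }, ?_, ?_⟩
  · intro 𝔮 h𝔮
    obtain ⟨s, hs, hker⟩ := D.hS_cov (𝔮.comap (AdjoinRoot.of P')) (Ideal.IsPrime.comap _)
    -- find the root
    have h0 : (r.map (fun a => AdjoinRoot.root P' - AdjoinRoot.of P' (D.g a))).prod = 0 := by
      have h1 : P.eval₂ ((AdjoinRoot.of P').comp D.g) (AdjoinRoot.root P') = 0 := by
        rw [← Polynomial.eval₂_map]; exact AdjoinRoot.eval₂_root P'
      rw [hr] at h1
      rw [← h1, ← Polynomial.coe_eval₂RingHom, map_multiset_prod, Multiset.map_map]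
      congr 1
      apply Multiset.map_congr rfl
      intro a _
      simp
    have h1 : (r.map (fun a => AdjoinRoot.root P' - AdjoinRoot.of P' (D.g a))).prod ∈ 𝔮 := by
      rw [h0]; exact 𝔮.zero_mem
    obtain ⟨y, hy, hy𝔮⟩ := (h𝔮.multiset_prod_mem_iff_exists_mem _).mp h1
    obtain ⟨a, ha, rfl⟩ := Multiset.mem_map.mp hy
    refine ⟨AdjoinRoot.lift s a (hlift s hs a ha), ⟨?_, ?_⟩, ?_⟩
    · rw [AdjoinRoot.lift_comp_of]; exact hs
    · rw [AdjoinRoot.lift_root]; exact ha
    · intro x hx
      obtain ⟨G, rfl⟩ := AdjoinRoot.mk_surjective x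
      rw [RingHom.mem_ker, AdjoinRoot.lift_mk] at hx
      have hG := modByMonic_add_div G (X - Polynomial.C (D.g a))
      rw [modByMonic_X_sub_C_eq_C_eval] at hG
      rw [← hG, map_add, map_mul, map_sub, AdjoinRoot.mk_X, AdjoinRoot.mk_C]
      refine 𝔮.add_mem ?_ (𝔮.mul_mem_right _ hy𝔮)
      have h2 : G.eval (D.g a) ∈ RingHom.ker s := by
        rw [RingHom.mem_ker, ← Polynomial.eval₂_id, Polynomial.hom_eval₂, RingHom.comp_id]
        have : s (D.g a) = a := congrArg (fun φ : R →+* R => φ a) (D.hS_sec s hs)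
        rw [this]; exact hx
      exact hker h2
  · rintro _ ⟨c, rfl⟩
    exact ⟨AdjoinRoot.of P' c, AdjoinRoot.lift_of hψβ⟩
  · exact ⟨AdjoinRoot.root P', AdjoinRoot.lift_root hψβ⟩

/-- covering data whose `ψ` has a given finite set in its range -/
theorem exists_of_finset (T : Finset B')
    (hT : ∀ β ∈ T, ∃ P : R[X], P.Monic ∧ IsSplit P ∧ P.eval₂ ρ β = 0) :
    ∃ D : Cov ρ, (T : Set B') ⊆ Set.range D.ψ := by
  classical
  induction T using Finset.induction_on with
  | empty => exact ⟨base ρ, by simp⟩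
  | insert β T hβT ih =>
    obtain ⟨D, hD⟩ := ih (fun β' hβ' => hT β' (Finset.mem_insert_of_mem hβ'))
    obtain ⟨P, hP, hsplit, hβ⟩ := hT β (Finset.mem_insert_self β T)
    obtain ⟨D', h1, h2⟩ := D.extend β P hP hsplit hβ
    refine ⟨D', ?_⟩
    intro x hx
    rcases Finset.mem_insert.mp hx with rfl | hx
    · exact h2
    · exact h1 (hD hx)

end Cov

end Groth.Agent.Lib.helper12.SplitCover
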