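import Mathlib
import Groth.Agent.Lib.Helper12.SplitCover1

/-!
# Covering a finite algebra after a finite free base change (helper12)

`alg_main`: for a finite ring map `φ : A →+* B` there are a good (finite, flat, finitely presented,
injective) ring map `f : A →+* A'` and covering data `D : Cov (A' → B ⊗[A] A')` with `D.ψ` surjective.
-/

set_option autoImplicit false
universe u
open Polynomial TensorProduct

namespace Groth.Agent.Lib.helper12.SplitCover

theorem alg_main {A B : Type u} [CommRing A] [CommRing B] [Algebra A B] [Module.Finite A B] :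
    ∃ (A' : Type u) (_ : CommRing A') (_ : Algebra A A'), Good (algebraMap A A') ∧
      ∃ D : Cov ((Algebra.TensorProduct.includeRight : A' →ₐ[A] B ⊗[A] A').toRingHom),
        Function.Surjective D.ψ := by
  classical
  obtain ⟨bs, hbs⟩ := (Module.Finite.fg_top (R := A) (M := B))
  have hint : ∀ b : B, ∃ P : A[X], P.Monic ∧ P.eval₂ (algebraMap A B) b = 0 := fun b =>
    Algebra.IsIntegral.isIntegral (R := A) b
  choose Pb hPbm hPb0 using hint
  obtain ⟨A', _, f, hf, hsplit⟩ := exists_split_finset (bs.image Pb) (by
    intro P hP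
    obtain ⟨b, -, rfl⟩ := Finset.mem_image.mp hP
    exact hPbm b)
  let _ : Algebra A A' := f.toAlgebra
  refine ⟨A', inferInstance, inferInstance, hf, ?_⟩
  set ρ : A' →+* B ⊗[A] A' := (Algebra.TensorProduct.includeRight : A' →ₐ[A] B ⊗[A] A').toRingHom
    with hρ
  have hρf : ρ.comp (algebraMap A A') =
      (Algebra.TensorProduct.includeLeft : B →ₐ[A] B ⊗[A] A').toRingHom.comp (algebraMap A B) := by
    ext a
    simp only [RingHom.comp_apply, hρ, AlgHom.toRingHom_eq_coe, RingHom.coe_coe, AlgHom.commutes]
  obtain ⟨D, hD⟩ := Cov.exists_of_finset (ρ := ρ) (bs.image (fun b => (b ⊗ₜ[A] (1 : A'))))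
    (by
      intro β hβ
      obtain ⟨b, hb, rfl⟩ := Finset.mem_image.mp hβ
      refine ⟨(Pb b).map (algebraMap A A'), (hPbm b).map _,
        hsplit _ (Finset.mem_image_of_mem _ hb), ?_⟩
      rw [Polynomial.eval₂_map, hρf]
      have := Polynomial.hom_eval₂ (Pb b) (algebraMap A B)
        (Algebra.TensorProduct.includeLeft : B →ₐ[A] B ⊗[A] A').toRingHom b
      rw [hPb0 b] at this
      simp only [AlgHom.toRingHom_eq_coe, RingHom.coe_coe,
        Algebra.TensorProduct.includeLeft_apply] at this
      rw [TensorProduct.zero_tmul] at this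
      exact this.symm)
  refine ⟨D, ?_⟩
  have hrange : ∀ a' : A', ρ a' ∈ D.ψ.range := fun a' =>
    ⟨D.g a', congrArg (fun φ : A' →+* B ⊗[A] A' => φ a') D.hψ⟩
  have hb1 : ∀ b : B, (b ⊗ₜ[A] (1 : A')) ∈ D.ψ.range := by
    intro b
    have hb : b ∈ Submodule.span A (bs : Set B) := by rw [hbs]; trivial
    induction hb using Submodule.span_induction with
    | mem x hx => exact hD (Finset.mem_coe.mpr (Finset.mem_image_of_mem _ hx))
    | zero => rw [TensorProduct.zero_tmul]; exact Subring.zero_mem _
    | add x y _ _ hx hy => rw [TensorProduct.add_tmul]; exact Subring.add_mem _ hx hy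
    | smul a x _ hx =>
      have : (a • x) ⊗ₜ[A] (1 : A') = ρ (algebraMap A A' a) * (x ⊗ₜ[A] (1 : A')) := by
        simp only [hρ, AlgHom.toRingHom_eq_coe, RingHom.coe_coe,
          Algebra.TensorProduct.includeRight_apply, Algebra.TensorProduct.tmul_mul_tmul, one_mul,
          mul_one]
        rw [TensorProduct.smul_tmul, Algebra.smul_def, mul_one]
      rw [this]
      exact Subring.mul_mem _ (hrange _) hx
  intro z
  have : z ∈ D.ψ.range := by
    induction z using TensorProduct.induction_on with
    | zero => exact Subring.zero_mem _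
    | tmul b a' =>
      have : b ⊗ₜ[A] a' = (b ⊗ₜ[A] (1 : A')) * ρ a' := by
        simp only [hρ, AlgHom.toRingHom_eq_coe, RingHom.coe_coe,
          Algebra.TensorProduct.includeRight_apply, Algebra.TensorProduct.tmul_mul_tmul, one_mul,
          mul_one]
      rw [this]
      exact Subring.mul_mem _ (hb1 b) (hrange a')
    | add x y hx hy => exact Subring.add_mem _ hx hy
  exact this

end Groth.Agent.Lib.helper12.SplitCover
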