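import Mathlib

/-!
# Minimal subfamilies of generators, module and ideal level (helper12)

Block F of helper20's plan for S11924, algebra part.

* `exists_subfamily_module`: generators `v` of a finite projective module `K` over `B` and a prime
  `q`: a subfamily of cardinality `rankAtStalk K q` generates `K` after inverting some `s ∉ q`.
* `exists_mul_mem_span_of_sq`: Nakayama + spreading out: if `s γ_k ∈ (γ_j, j ∈ S₀) + J²` for all `k`
  with `J = (γ_k)_k ⊆ q` and `s ∉ q`, then `s₂ γ_k ∈ (γ_j, j ∈ S₀)` for all `k` and some `s₂ ∉ q`.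
-/

set_option autoImplicit false
universe u

namespace Groth.Agent.Lib.helper12.SubFam

theorem exists_subfamily_module {B : Type u} [CommRing B] {K : Type u} [AddCommGroup K]
    [Module B K] [Module.Finite B K] [Module.Projective B K] {m : ℕ} (v : Fin m → K)
    (hv : Submodule.span B (Set.range v) = ⊤) (q : PrimeSpectrum B) :
    ∃ (S₀ : Finset (Fin m)) (s : B), S₀.card = Module.rankAtStalk K q ∧ s ∉ q.asIdeal ∧
      ∀ k, s • v k ∈ Submodule.span B (v '' (S₀ : Set (Fin m))) := by
  classical
  let p := q.asIdeal.primeCompl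
  let B' := Localization.AtPrime q.asIdeal
  let K' := LocalizedModule p K
  let f : K →ₗ[B] K' := LocalizedModule.mkLinearMap p K
  have : Module.FinitePresentation B K := Module.finitePresentation_of_projective B K
  have hspan' : Submodule.span B' (Set.range (f ∘ v)) = ⊤ := by
    rw [Set.range_comp]
    exact span_eq_top_of_isLocalizedModule B' p f hv
  obtain ⟨κ, a, b, hb⟩ := Module.exists_basis_of_span_of_flat (R := B') (M := K') (f ∘ v) hspan'
  have : Finite κ := Module.Finite.finite_basis b
  haveI : Fintype κ := Fintype.ofFinite κ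
  have hainj : Function.Injective a := by
    intro i j hij
    apply b.injective
    rw [hb, hb, hij]
  have hcard : (Finset.univ.image a).card = Module.rankAtStalk K q := by
    rw [Finset.card_image_of_injective _ hainj, Finset.card_univ]
    exact (Module.finrank_eq_card_basis b).symm
  -- spreading out
  have hmem : ∀ k, ∃ s : B, s ∉ q.asIdeal ∧
      s • v k ∈ Submodule.span B (v '' ((Finset.univ.image a : Finset (Fin m)) : Set (Fin m))) := by
    intro k
    have h1 : f (v k) ∈ Submodule.span B' (f '' (v '' ((Finset.univ.image a : Finset (Fin m)) :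
        Set (Fin m)))) := by
      have h2 : Submodule.span B' (Set.range b) = ⊤ := b.span_eq
      have h3 : Set.range b ⊆ f '' (v '' ((Finset.univ.image a : Finset (Fin m)) :
          Set (Fin m))) := by
        rintro _ ⟨i, rfl⟩
        refine ⟨v (a i), ⟨a i, ?_, rfl⟩, (hb i).symm⟩
        simp
      exact Submodule.span_mono h3 (h2 ▸ Submodule.mem_top)
    rw [← Submodule.localized'_span B' p f, Submodule.mem_localized'] at h1
    obtain ⟨y, hy, t, hyt⟩ := h1
    rw [IsLocalizedModule.mk'_eq_iff] at hyt
    -- `f y = t • f (v k)`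
    have h4 : f y = f (t • v k) := by
      rw [hyt, LinearMap.map_smul_of_tower]
    obtain ⟨c, hc⟩ := (IsLocalizedModule.eq_iff_exists p f).mp h4
    refine ⟨(c : B) * (t : B), ?_, ?_⟩
    · exact fun h => (q.2.mem_or_mem h).elim c.2 t.2
    · rw [mul_smul]
      have : (c : B) • (t : B) • v k = c • y := by
        rw [hc]; rfl
      rw [this]
      exact Submodule.smul_mem _ _ hy
  choose s hs using hmem
  refine ⟨Finset.univ.image a, ∏ k, s k, hcard, ?_, ?_⟩
  · intro hmemq
    obtain ⟨k, -, hk⟩ := (Ideal.IsPrime.prod_mem_iff).mp hmemq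
    exact (hs k).1 hk
  · intro k
    rw [← Finset.mul_prod_erase Finset.univ s (Finset.mem_univ k), mul_comm, mul_smul]
    exact Submodule.smul_mem _ _ (hs k).2

/-- the kernel of a surjection of finite projective modules is finite projective, and ranks add -/
theorem ker_finite_projective_rank {B : Type u} [CommRing B] {T W : Type u} [AddCommGroup T]
    [Module B T] [AddCommGroup W] [Module B W] [Module.Finite B T] [Module.Projective B T]
    [Module.Finite B W] [Module.Projective B W] (b : T →ₗ[B] W) (hb : Function.Surjective b) :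
    Module.Finite B (LinearMap.ker b) ∧ Module.Projective B (LinearMap.ker b) ∧
      ∀ q : PrimeSpectrum B, Module.rankAtStalk (LinearMap.ker b) q + Module.rankAtStalk W q =
        Module.rankAtStalk T q := by
  obtain ⟨σ, hσ⟩ := Module.projective_lifting_property b LinearMap.id hb
  let K : Submodule B T := LinearMap.ker b
  have hbij : Function.Bijective (K.subtype.coprod σ) := by
    constructor
    · rw [injective_iff_map_eq_zero]
      rintro ⟨x, y⟩ h
      rw [LinearMap.coprod_apply] at h
      have h1 := congrArg b h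
      rw [map_add, map_zero, ← LinearMap.comp_apply b σ, hσ, LinearMap.id_apply] at h1
      have hx : b (K.subtype x) = 0 := x.2
      rw [hx, zero_add] at h1
      subst h1
      rw [map_zero, add_zero] at h
      have h2 : x = 0 := Subtype.val_injective (h.trans (map_zero K.subtype).symm)
      rw [h2]; rfl
    · intro t
      have ht : t - σ (b t) ∈ K := by
        change b (t - σ (b t)) = 0
        rw [map_sub, ← LinearMap.comp_apply b σ, hσ, LinearMap.id_apply, sub_self]
      refine ⟨(⟨t - σ (b t), ht⟩, b t), ?_⟩
      rw [LinearMap.coprod_apply]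
      change t - σ (b t) + σ (b t) = t
      abel
  let e : (K × W) ≃ₗ[B] T := LinearEquiv.ofBijective _ hbij
  let pr : T →ₗ[B] K := LinearMap.fst _ _ _ ∘ₗ e.symm.toLinearMap
  have hpr : pr ∘ₗ K.subtype = LinearMap.id := by
    ext x
    have h1 : e (x, 0) = (x : T) := by
      change (K.subtype.coprod σ) (x, 0) = _
      rw [LinearMap.coprod_apply, map_zero, add_zero]; rfl
    have h2 : e.symm (x : T) = (x, 0) := by
      rw [← h1, LinearEquiv.symm_apply_apply]
    change ((e.symm (x : T)).1 : T) = x
    rw [h2]
  have hprsurj : Function.Surjective pr := fun x => ⟨x, LinearMap.congr_fun hpr x⟩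
  have hfin : Module.Finite B K := Module.Finite.of_surjective pr hprsurj
  have hproj : Module.Projective B K := Module.Projective.of_split K.subtype pr hpr
  refine ⟨hfin, hproj, fun q => ?_⟩
  have h1 := congrFun (Module.rankAtStalk_eq_of_equiv e) q
  rw [Module.rankAtStalk_prod, Pi.add_apply] at h1
  exact h1

theorem exists_mul_mem_span_of_sq {A : Type u} [CommRing A] {m : ℕ} (γ : Fin m → A)
    (q : Ideal A) [q.IsPrime] (hq : Ideal.span (Set.range γ) ≤ q) (S₀ : Finset (Fin m)) (s : A)
    (hs : s ∉ q)
    (h : ∀ k, s * γ k ∈ Ideal.span (γ '' (S₀ : Set (Fin m))) ⊔ Ideal.span (Set.range γ) ^ 2) :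
    ∃ s₂ : A, s₂ ∉ q ∧ ∀ k, s₂ * γ k ∈ Ideal.span (γ '' (S₀ : Set (Fin m))) := by
  classical
  set J := Ideal.span (Set.range γ) with hJ
  set J' := Ideal.span (γ '' (S₀ : Set (Fin m))) with hJ'
  let A' := Localization.AtPrime q
  have hJfg : (J.map (algebraMap A A')).FG := by
    refine Ideal.FG.map ⟨Finset.univ.image γ, ?_⟩ _
    rw [hJ]; congr 1; ext; simp
  have hle : J.map (algebraMap A A') ≤ J'.map (algebraMap A A') := by
    refine Submodule.le_of_le_smul_of_le_jacobson_bot (I := J.map (algebraMap A A')) hJfg ?_ ?_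
    · rw [IsLocalRing.jacobson_eq_maximalIdeal _ bot_ne_top,
        ← Localization.AtPrime.map_eq_maximalIdeal]
      exact Ideal.map_mono hq
    · rw [hJ, Ideal.map_span, Ideal.span_le]
      rintro _ ⟨_, ⟨k, rfl⟩, rfl⟩
      have hu : IsUnit (algebraMap A A' s) :=
        IsLocalization.map_units A' (⟨s, hs⟩ : q.primeCompl)
      have h1 : algebraMap A A' (s * γ k) ∈
          J'.map (algebraMap A A') ⊔ (J.map (algebraMap A A')) • (J.map (algebraMap A A')) := by
        have h2 := Ideal.mem_map_of_mem (algebraMap A A') (h k)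
        rw [Ideal.map_sup, Ideal.map_pow, pow_two] at h2
        exact h2
      rw [map_mul] at h1
      have h3 := Ideal.mul_mem_left _ (↑hu.unit⁻¹ : A') h1
      rw [← mul_assoc, IsUnit.val_inv_mul, one_mul] at h3
      rw [← Ideal.map_span]
      exact h3
  have hk : ∀ k, ∃ t : A, t ∉ q ∧ t * γ k ∈ J' := by
    intro k
    have h1 : algebraMap A A' (γ k) ∈ J'.map (algebraMap A A') :=
      hle (Ideal.mem_map_of_mem _ (Ideal.subset_span ⟨k, rfl⟩))
    rw [IsLocalization.algebraMap_mem_map_algebraMap_iff q.primeCompl] at h1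
    obtain ⟨t, ht, htk⟩ := h1
    exact ⟨t, ht, htk⟩
  choose t ht using hk
  refine ⟨∏ k, t k, ?_, ?_⟩
  · intro hmemq
    obtain ⟨k, -, hk⟩ := (Ideal.IsPrime.prod_mem_iff).mp hmemq
    exact (ht k).1 hk
  · intro k
    rw [← Finset.mul_prod_erase Finset.univ t (Finset.mem_univ k), mul_comm (t k), mul_assoc]
    exact Ideal.mul_mem_left _ _ (ht k).2

end Groth.Agent.Lib.helper12.SubFam
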