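import Mathlib
import Groth.Agent.Lib.Helper13.GoodChart1
import Groth.Agent.Lib.Helper12.SubFam1

/-!
# Minimal subfamilies of generators of the ideal of a smooth quotient of a smooth algebra (helper12)

Block F of helper20's plan for S11924, ring level: `A` smooth of relative dimension `N` over `R`,
`A ⧸ J` smooth of relative dimension `r`, `J = (γ_1, …, γ_m) ⊆ q` prime: there is a subfamily of
exactly `N - r` of the `γ_k` generating `J` after inverting a single element outside `q`.
The proof uses the split conormal sequence `0 → J/J² → B ⊗ Ω_A → Ω_B → 0` (rank count at `q`),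
Nakayama in the local ring at `q` and spreading out.
-/

set_option autoImplicit false
set_option linter.style.haveILetI false
universe u
open TensorProduct

namespace Groth.Agent.Lib.helper12.SubFam

open Groth.Agent.Lib.helper13.GoodChart Groth.Agent.Lib.Helper20.ExtFilt

section Quot

variable {R A : Type u} [CommRing R] [CommRing A] [Algebra R A]

theorem exists_subfamily_quot (N r : ℕ)
    (hA : RingHom.Locally (RingHom.IsStandardSmoothOfRelativeDimension N) (algebraMap R A))
    (J : Ideal A)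
    (hB : RingHom.Locally (RingHom.IsStandardSmoothOfRelativeDimension r)
      (algebraMap R (A ⧸ J)))
    (q : Ideal A) [hqp : q.IsPrime] (hq : J ≤ q) {m : ℕ} (γ : Fin m → A)
    (hγ : Ideal.span (Set.range γ) = J) :
    ∃ (S₀ : Finset (Fin m)) (s : A), S₀.card + r = N ∧ s ∉ q ∧
      ∀ k, s * γ k ∈ Ideal.span (γ '' (S₀ : Set (Fin m))) := by
  classical
  haveI := smooth_of_locally N hA
  haveI := smooth_of_locally r hB
  have hf : Function.Surjective (algebraMap A (A ⧸ J)) := Ideal.Quotient.mk_surjective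
  have hJ : RingHom.ker (algebraMap A (A ⧸ J)) = J := by
    rw [Ideal.Quotient.algebraMap_eq]; exact Ideal.mk_ker
  let b : (A ⧸ J) ⊗[A] Ω[A⁄R] →ₗ[A ⧸ J] Ω[(A ⧸ J)⁄R] :=
    KaehlerDifferential.mapBaseChange R A (A ⧸ J)
  have hb : Function.Surjective b := KaehlerDifferential.mapBaseChange_surjective R A (A ⧸ J) hf
  obtain ⟨hKfin, hKproj, hKrank⟩ := ker_finite_projective_rank b hb
  let K : Submodule (A ⧸ J) ((A ⧸ J) ⊗[A] Ω[A⁄R]) := LinearMap.ker b
  haveI : Module.Finite (A ⧸ J) K := hKfin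
  haveI : Module.Projective (A ⧸ J) K := hKproj
  -- the prime of the quotient
  have hqbar : (q.map (Ideal.Quotient.mk J)).IsPrime :=
    Ideal.map_isPrime_of_surjective Ideal.Quotient.mk_surjective (by rw [Ideal.mk_ker]; exact hq)
  let qbar : PrimeSpectrum (A ⧸ J) := ⟨q.map (Ideal.Quotient.mk J), hqbar⟩
  -- rank count
  have hrank : Module.rankAtStalk K qbar + r = N := by
    have h1 := hKrank qbar
    rw [Module.rankAtStalk_baseChange, rankAtStalk_kaehler_of_locally N hA,
      rankAtStalk_kaehler_of_locally r hB] at h1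
    exact h1
  -- the generators of `K`
  let κ := KaehlerDifferential.kerCotangentToTensor R A (A ⧸ J)
  have hκinj : Function.Injective κ :=
    (Algebra.FormallySmooth.kerCotangentToTensor_injective_iff hf).mpr inferInstance
  have hex : Function.Exact κ b :=
    KaehlerDifferential.exact_kerCotangentToTensor_mapBaseChange R A (A ⧸ J) hf
  have hγmem : ∀ k, γ k ∈ RingHom.ker (algebraMap A (A ⧸ J)) := fun k => by
    rw [hJ, ← hγ]; exact Ideal.subset_span ⟨k, rfl⟩
  let γ' : Fin m → RingHom.ker (algebraMap A (A ⧸ J)) := fun k => ⟨γ k, hγmem k⟩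
  let v : Fin m → K := fun k =>
    ⟨κ ((RingHom.ker (algebraMap A (A ⧸ J))).toCotangent (γ' k)), hex.apply_apply_eq_zero _⟩
  have hv : Submodule.span (A ⧸ J) (Set.range v) = ⊤ := by
    rw [eq_top_iff]
    intro y _
    obtain ⟨c, hc⟩ := (hex y.1).mp y.2
    obtain ⟨x, rfl⟩ := Ideal.toCotangent_surjective _ c
    have hx : (x : A) ∈ Ideal.span (Set.range γ) := hγ.ge (hJ.le x.2)
    obtain ⟨c, hcc⟩ := (Ideal.mem_span_range_iff_exists_fun).1 hx
    have hx' : x = ∑ k, c k • γ' k := by
      ext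
      rw [← hcc, Submodule.coe_sum]
      exact Finset.sum_congr rfl (fun k _ => rfl)
    rw [Submodule.mem_span_range_iff_exists_fun]
    refine ⟨fun k => algebraMap A (A ⧸ J) (c k), ?_⟩
    apply Subtype.ext
    rw [Submodule.coe_sum, ← hc, hx', map_sum, map_sum]
    refine Finset.sum_congr rfl (fun k _ => ?_)
    rw [map_smul, map_smul, Submodule.coe_smul, algebraMap_smul]
  obtain ⟨S₀, sbar, hcard, hsbar, hmem⟩ := exists_subfamily_module v hv qbar
  obtain ⟨s, rfl⟩ := Ideal.Quotient.mk_surjective sbar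
  have hsq : s ∉ q := fun h => hsbar (Ideal.mem_map_of_mem _ h)
  -- transfer to `A`
  have key : ∀ y ∈ Submodule.span (A ⧸ J) (v '' (S₀ : Set (Fin m))),
      ∃ x' : RingHom.ker (algebraMap A (A ⧸ J)),
        (x' : A) ∈ Ideal.span (γ '' (S₀ : Set (Fin m))) ∧
        κ ((RingHom.ker (algebraMap A (A ⧸ J))).toCotangent x') = (y : (A ⧸ J) ⊗[A] Ω[A⁄R]) := by
    intro y hy
    induction hy using Submodule.span_induction with
    | mem y hy =>
      obtain ⟨j, hj, rfl⟩ := hy
      exact ⟨γ' j, Ideal.subset_span ⟨j, hj, rfl⟩, rfl⟩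
    | zero => exact ⟨0, Ideal.zero_mem _, by simp⟩
    | add y z _ _ hy hz =>
      obtain ⟨x₁, h₁, e₁⟩ := hy
      obtain ⟨x₂, h₂, e₂⟩ := hz
      refine ⟨x₁ + x₂, ?_, ?_⟩
      · rw [Submodule.coe_add]; exact Ideal.add_mem _ h₁ h₂
      · rw [map_add, map_add, e₁, e₂]; rfl
    | smul a y _ hy =>
      obtain ⟨x₁, h₁, e₁⟩ := hy
      obtain ⟨a, rfl⟩ := Ideal.Quotient.mk_surjective a
      refine ⟨a • x₁, ?_, ?_⟩
      · rw [Submodule.coe_smul, smul_eq_mul]; exact Ideal.mul_mem_left _ _ h₁
      · rw [map_smul, map_smul, e₁, Submodule.coe_smul, ← Ideal.Quotient.algebraMap_eq,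
          algebraMap_smul]
  have h2 : ∀ k, s * γ k ∈
      Ideal.span (γ '' (S₀ : Set (Fin m))) ⊔ Ideal.span (Set.range γ) ^ 2 := by
    intro k
    obtain ⟨x', hx', ex'⟩ := key _ (hmem k)
    have h3 : κ ((RingHom.ker (algebraMap A (A ⧸ J))).toCotangent (s • γ' k - x')) = 0 := by
      rw [map_sub, map_sub, ex', map_smul, map_smul, Submodule.coe_smul,
        ← Ideal.Quotient.algebraMap_eq, algebraMap_smul]
      exact sub_self _
    have h4 := hκinj (h3.trans (map_zero κ).symm)
    rw [Ideal.toCotangent_eq_zero] at h4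
    have hpow : RingHom.ker (algebraMap A (A ⧸ J)) ^ 2 ≤ Ideal.span (Set.range γ) ^ 2 := by
      rw [hγ]; exact Ideal.pow_right_mono hJ.le 2
    replace h4 := hpow h4
    have h5 : s * γ k = (x' : A) + ((s • γ' k - x' : RingHom.ker (algebraMap A (A ⧸ J))) : A) := by
      rw [Submodule.coe_sub, Submodule.coe_smul, smul_eq_mul]
      change s * γ k = (x' : A) + (s * γ k - x')
      ring
    rw [h5]
    exact Ideal.add_mem _ (Ideal.mem_sup_left hx') (Ideal.mem_sup_right h4)
  obtain ⟨s₂, hs₂, hs₂mem⟩ := exists_mul_mem_span_of_sq γ q (by rw [hγ]; exact hq) S₀ s hsq h2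
  exact ⟨S₀, s₂, by rw [hcard]; exact hrank, hs₂, hs₂mem⟩

end Quot

/-- ring-hom form of `exists_subfamily_quot` -/
theorem exists_subfamily_ring {R A B : Type u} [CommRing R] [CommRing A] [CommRing B]
    (φ : R →+* A) (π : A →+* B) (hπ : Function.Surjective π) (N r : ℕ)
    (hA : RingHom.Locally (RingHom.IsStandardSmoothOfRelativeDimension N) φ)
    (hB : RingHom.Locally (RingHom.IsStandardSmoothOfRelativeDimension r) (π.comp φ))
    (q : Ideal A) [q.IsPrime] (hq : RingHom.ker π ≤ q) {m : ℕ} (γ : Fin m → A)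
    (hγ : Ideal.span (Set.range γ) = RingHom.ker π) :
    ∃ (S₀ : Finset (Fin m)) (s : A), S₀.card + r = N ∧ s ∉ q ∧
      ∀ k, s * γ k ∈ Ideal.span (γ '' (S₀ : Set (Fin m))) := by
  letI := φ.toAlgebra
  let e : (A ⧸ RingHom.ker π) ≃+* B := RingHom.quotientKerEquivOfSurjective hπ
  refine @exists_subfamily_quot R A _ _ _ N r hA (RingHom.ker π) ?_ q _ hq m γ hγ
  have hcomp : π.comp φ = e.toRingHom.comp (algebraMap R (A ⧸ RingHom.ker π)) := by
    ext x
    rfl
  rw [hcomp] at hB
  have h2 := (RingHom.locally_respectsIso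
    (RingHom.isStandardSmoothOfRelativeDimension_respectsIso (n := r))).1 _ e.symm hB
  have h3 : e.symm.toRingHom.comp (e.toRingHom.comp (algebraMap R (A ⧸ RingHom.ker π))) =
      algebraMap R (A ⧸ RingHom.ker π) := by
    ext x
    simp
  rwa [h3] at h2

end Groth.Agent.Lib.helper12.SubFam
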