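import Mathlib
import Groth.Agent.Lib.Helper12.SubFam2

/-!
# A minimal subfamily of generators cuts out a smooth closed subscheme near a point (helper12)

Block F of helper20's plan for S11924: `exists_subfamily`.
-/

set_option autoImplicit false
set_option linter.style.haveILetI false
set_option linter.unusedSectionVars false
universe u
open CategoryTheory AlgebraicGeometry

namespace Groth.Agent.Lib.helper12.SubFam

/-- a section whose non-vanishing locus is everything is a unit -/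
lemma isUnit_of_le_basicOpen {P : Scheme.{u}} {V : P.Opens} (f : Γ(P, V))
    (h : V ≤ P.basicOpen f) : IsUnit f := by
  apply RingedSpace.isUnit_of_isUnit_germ P.toRingedSpace V f
  intro x hx
  exact (P.mem_basicOpen f x hx).mp (h hx)

/-- membership in a basic open of an affine open in terms of the prime ideal of the point -/
lemma mem_basicOpen_iff_notMem_primeIdealOf {P : Scheme.{u}} (U : P.affineOpens) (y : P)
    (hy : y ∈ U.1) (g : Γ(P, U.1)) :
    y ∈ P.basicOpen g ↔ g ∉ (U.2.primeIdealOf ⟨y, hy⟩).asIdeal := by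
  have h3 : U.2.fromSpec (U.2.primeIdealOf ⟨y, hy⟩) ∈ P.basicOpen g ↔
      U.2.primeIdealOf ⟨y, hy⟩ ∈ U.2.fromSpec ⁻¹ᵁ P.basicOpen g := Iff.rfl
  rw [U.2.fromSpec_preimage_basicOpen, U.2.fromSpec_primeIdealOf] at h3
  exact h3

variable {X P : Scheme.{u}} (i : X ⟶ P) [IsClosedImmersion i]

/-- the ideal of a closed immersion lies in the prime of every point of the image -/
theorem ker_le_primeIdealOf (U : P.affineOpens) (x : X) (hx : i x ∈ U.1) :
    i.ker.ideal U ≤ (U.2.primeIdealOf ⟨i x, hx⟩).asIdeal := by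
  intro a ha
  by_contra hna
  rw [Scheme.Hom.ker_apply] at ha
  have h1 : i x ∈ P.basicOpen a := (mem_basicOpen_iff_notMem_primeIdealOf U (i x) hx a).mpr hna
  have h4 : x ∈ i ⁻¹ᵁ P.basicOpen a := h1
  rw [Scheme.preimage_basicOpen] at h4
  have h5 : (i.app U.1) a = 0 := ha
  rw [h5, Scheme.basicOpen_zero] at h4
  exact h4

/-- `exists_subfamily` when `U` maps into an affine open of the base, with the multiplicative
form of the conclusion -/
theorem exists_subfamily_aux {S : Scheme.{u}} (p : P ⟶ S) (N r : ℕ)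
    [SmoothOfRelativeDimension N p] [SmoothOfRelativeDimension r (i ≫ p)] (x : X)
    (U : P.affineOpens) (hxU : i x ∈ U.1) (W : S.Opens) (hW : IsAffineOpen W)
    (hUW : U.1 ≤ p ⁻¹ᵁ W) {m : ℕ} (γ : Fin m → Γ(P, U.1))
    (hγ : Ideal.span (Set.range γ) = i.ker.ideal U) :
    ∃ (S₀ : Finset (Fin m)) (s : Γ(P, U.1)), S₀.card + r = N ∧ i x ∈ P.basicOpen s ∧
      ∀ k, s * γ k ∈ Ideal.span (γ '' (S₀ : Set (Fin m))) := by
  have hV : IsAffineOpen (i ⁻¹ᵁ U.1) := U.2.preimage i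
  have hVW : i ⁻¹ᵁ U.1 ≤ (i ≫ p) ⁻¹ᵁ W := fun y hy => hUW hy
  have hA := HasRingHomProperty.appLE (P := @SmoothOfRelativeDimension N) p inferInstance
    ⟨W, hW⟩ U hUW
  have hB := HasRingHomProperty.appLE (P := @SmoothOfRelativeDimension r) (i ≫ p) inferInstance
    ⟨W, hW⟩ ⟨i ⁻¹ᵁ U.1, hV⟩ hVW
  have hcomp : ((i ≫ p).appLE W (i ⁻¹ᵁ U.1) hVW).hom =
      (i.app U.1).hom.comp (p.appLE W U.1 hUW).hom := by
    rw [← CommRingCat.hom_comp, ← Scheme.Hom.appLE_comp_appLE _ _ W U.1 (i ⁻¹ᵁ U.1) hUW le_rfl,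
      Scheme.Hom.appLE_eq_app]
  haveI : (U.2.primeIdealOf ⟨i x, hxU⟩).asIdeal.IsPrime := (U.2.primeIdealOf ⟨i x, hxU⟩).2
  have hq : RingHom.ker (i.app U.1).hom ≤ (U.2.primeIdealOf ⟨i x, hxU⟩).asIdeal := by
    rw [← Scheme.Hom.ker_apply]; exact ker_le_primeIdealOf i U x hxU
  obtain ⟨S₀, s, hcard, hs, hmem⟩ := exists_subfamily_ring (p.appLE W U.1 hUW).hom
    (i.app U.1).hom (i.app_surjective U.1 U.2) N r hA (by rw [← hcomp]; exact hB)
    (U.2.primeIdealOf ⟨i x, hxU⟩).asIdeal hq γ (by rw [hγ, Scheme.Hom.ker_apply])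
  exact ⟨S₀, s, hcard, (mem_basicOpen_iff_notMem_primeIdealOf U (i x) hxU s).mpr hs, hmem⟩

/-- **Block F**: a subfamily of exactly `N - r` of any given generators of the ideal of a closed
subscheme `X ⊆ P` (both smooth over `S`, of relative dimensions `r` and `N`) on an affine open `U`
generates the ideal on every basic open of `U` contained in a suitable basic open neighbourhood of
a given point of `X`. -/
theorem exists_subfamily {S : Scheme.{u}} [IsLocallyNoetherian S] (p : P ⟶ S) (N r : ℕ)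
    [SmoothOfRelativeDimension N p] [SmoothOfRelativeDimension r (i ≫ p)] (x : X)
    (U : P.affineOpens) (hxU : i x ∈ U.1) {m : ℕ} (γ : Fin m → Γ(P, U.1))
    (hγ : Ideal.span (Set.range γ) = i.ker.ideal U) :
    ∃ (S₀ : Finset (Fin m)) (s : Γ(P, U.1)), S₀.card + r = N ∧ i x ∈ P.basicOpen s ∧
      ∀ s' : Γ(P, U.1), P.basicOpen s' ≤ P.basicOpen s →
        Ideal.span ((fun j => (P.presheaf.map (homOfLE (P.basicOpen_le s')).op).hom (γ j)) ''
          (S₀ : Set (Fin m))) = i.ker.ideal (P.affineBasicOpen s') := by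
  classical
  obtain ⟨_, ⟨W, hW, rfl⟩, hsW, -⟩ :=
    S.isBasis_affineOpens.exists_subset_of_mem_open (Set.mem_univ (p (i x))) isOpen_univ
  obtain ⟨h₀, hle₀, hx₀⟩ := U.2.exists_basicOpen_le (V := p ⁻¹ᵁ W) ⟨i x, hsW⟩ hxU
  -- restriction of the generators to `D(h₀)`
  set res₀ : Γ(P, U.1) →+* Γ(P, P.basicOpen h₀) :=
    (P.presheaf.map (homOfLE (P.basicOpen_le h₀)).op).hom with hres₀
  have hγ₁ : Ideal.span (Set.range (fun k => res₀ (γ k))) =
      i.ker.ideal (P.affineBasicOpen h₀) := by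
    rw [← i.ker.map_ideal_basicOpen U h₀, ← hγ, Ideal.map_span, ← Set.range_comp]
    rfl
  obtain ⟨S₀, s₁, hcard, hxs₁, hmem⟩ : ∃ (S₀ : Finset (Fin m)) (s₁ : Γ(P, P.basicOpen h₀)),
      S₀.card + r = N ∧ i x ∈ P.basicOpen s₁ ∧
      ∀ k, s₁ * res₀ (γ k) ∈ Ideal.span ((fun k => res₀ (γ k)) '' (S₀ : Set (Fin m))) :=
    exists_subfamily_aux i p N r x (P.affineBasicOpen h₀)
      hx₀ W hW hle₀ (fun k => res₀ (γ k)) hγ₁
  -- write `s₁ = a / h₀ ^ e`
  haveI := U.2.isLocalization_basicOpen h₀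
  obtain ⟨⟨a, t⟩, hat⟩ := IsLocalization.surj (Submonoid.powers h₀) s₁
  have hat' : s₁ * res₀ (t : Γ(P, U.1)) = res₀ a := hat
  have htu : IsUnit (res₀ (t : Γ(P, U.1))) :=
    IsLocalization.map_units Γ(P, P.basicOpen h₀) t
  have hDs : P.basicOpen (h₀ * a) = P.basicOpen s₁ := by
    rw [Scheme.basicOpen_mul]
    have h1 : P.basicOpen (res₀ a) = P.basicOpen h₀ ⊓ P.basicOpen a :=
      Scheme.basicOpen_res _ _ _
    rw [← h1, ← hat', Scheme.basicOpen_mul, Scheme.basicOpen_of_isUnit _ htu]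
    exact inf_eq_left.mpr (P.basicOpen_le s₁)
  refine ⟨S₀, h₀ * a, hcard, by rw [hDs]; exact hxs₁, ?_⟩
  intro s' hs'
  have hV₂ : P.basicOpen s' ≤ P.basicOpen s₁ := hs'.trans hDs.le
  have hV₁ : P.basicOpen s' ≤ P.basicOpen h₀ := hV₂.trans (P.basicOpen_le s₁)
  set ρ : Γ(P, P.basicOpen h₀) →+* Γ(P, P.basicOpen s') :=
    (P.presheaf.map (homOfLE hV₁).op).hom with hρ
  set res' : Γ(P, U.1) →+* Γ(P, P.basicOpen s') :=
    (P.presheaf.map (homOfLE (P.basicOpen_le s')).op).hom with hres'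
  have hfac : ∀ g, res' g = ρ (res₀ g) := by
    intro g
    rw [hres', hρ, hres₀, ← RingHom.comp_apply, ← CommRingCat.hom_comp, ← Functor.map_comp]
    rfl
  have hunit : IsUnit (ρ s₁) := by
    apply isUnit_of_le_basicOpen
    have h1 : P.basicOpen (ρ s₁) = P.basicOpen s' ⊓ P.basicOpen s₁ :=
      Scheme.basicOpen_res _ _ _
    rw [h1]
    exact le_inf le_rfl hV₂
  rw [← i.ker.map_ideal_basicOpen U s', ← hγ, Ideal.map_span]
  apply le_antisymm
  · apply Ideal.span_mono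
    rintro _ ⟨j, -, rfl⟩
    exact ⟨γ j, ⟨j, rfl⟩, rfl⟩
  · rw [Ideal.span_le]
    rintro _ ⟨_, ⟨k, rfl⟩, rfl⟩
    have h1 := Ideal.mem_map_of_mem ρ (hmem k)
    rw [Ideal.map_span, map_mul] at h1
    have h2 := Ideal.mul_mem_left _ (↑hunit.unit⁻¹ : Γ(P, P.basicOpen s')) h1
    rw [← mul_assoc, IsUnit.val_inv_mul, one_mul] at h2
    have h3 : ρ '' ((fun k => res₀ (γ k)) '' (S₀ : Set (Fin m))) =
        (fun j => res' (γ j)) '' (S₀ : Set (Fin m)) := by
      rw [Set.image_image]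
      exact Set.image_congr (fun j _ => (hfac (γ j)).symm)
    rw [h3, ← hfac] at h2
    exact h2

end Groth.Agent.Lib.helper12.SubFam
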