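/-
helper12: general Kronecker theorem: if `F G : S[X]` and all coefficients of `F * G` come from
`R`, then every product of a coefficient of `F` and a coefficient of `G` is integral over `R`.
(universal case over `ℤ[a_i, b_j]` via valuation subrings of its fraction field.)
-/
import Mathlib
import Groth.Agent.Lib.Helper12.PicPoly

set_option autoImplicit false

open Polynomial

namespace Groth.Agent.Lib.helper12.Swan

/-- Kronecker over a field, relative to an arbitrary base ring. -/
theorem kronecker_field {R K : Type*} [CommRing R] [Field K] [Algebra R K] (f g : K[X])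
    (hfg : ∀ l, (f * g).coeff l ∈ (algebraMap R K).range) (i j : ℕ) :
    IsIntegral R (f.coeff i * g.coeff j) := by
  by_contra hx
  have hx' : f.coeff i * g.coeff j ∉ (integralClosure R K).toSubring := hx
  have : IsIntegrallyClosedIn (integralClosure R K).toSubring K :=
    inferInstanceAs (IsIntegrallyClosedIn (integralClosure R K) K)
  obtain ⟨V, hRV, hxV⟩ := Subring.exists_le_valuationSubring_of_isIntegrallyClosedIn hx'
  refine hxV (PicPoly.coeff_mul_coeff_mem_valuationSubring V f g (fun l => ?_) i j)
  obtain ⟨r, hr⟩ := hfg l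
  apply hRV
  rw [← hr]
  exact (integralClosure R K).algebraMap_mem r

section Universal

/-- The universal coefficient ring `ℤ[a_i, b_j]`. -/
abbrev A₀ : Type := MvPolynomial (ℕ ⊕ ℕ) ℤ

/-- The universal polynomial of degree `≤ m` with coefficients `a_i`. -/
noncomputable def f₀ (m : ℕ) : A₀[X] :=
  ∑ i ∈ Finset.range (m + 1), monomial i (MvPolynomial.X (Sum.inl i) : A₀)

/-- The universal polynomial of degree `≤ n` with coefficients `b_j`. -/
noncomputable def g₀ (n : ℕ) : A₀[X] :=
  ∑ j ∈ Finset.range (n + 1), monomial j (MvPolynomial.X (Sum.inr j) : A₀)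

lemma coeff_f₀ (m i : ℕ) (hi : i ≤ m) : (f₀ m).coeff i = MvPolynomial.X (Sum.inl i) := by
  unfold f₀
  rw [finsetSum_coeff, Finset.sum_eq_single i]
  · rw [coeff_monomial, if_pos rfl]
  · intro b _ hb
    rw [coeff_monomial, if_neg hb]
  · intro h
    exact absurd (Finset.mem_range.2 (Nat.lt_succ_of_le hi)) h

lemma coeff_g₀ (n j : ℕ) (hj : j ≤ n) : (g₀ n).coeff j = MvPolynomial.X (Sum.inr j) := by
  unfold g₀
  rw [finsetSum_coeff, Finset.sum_eq_single j]
  · rw [coeff_monomial, if_pos rfl]
  · intro b _ hb
    rw [coeff_monomial, if_neg hb]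
  · intro h
    exact absurd (Finset.mem_range.2 (Nat.lt_succ_of_le hj)) h

/-- The map `c_l ↦` coefficient `l` of the universal product. -/
noncomputable def γ (m n : ℕ) : MvPolynomial ℕ ℤ →+* A₀ :=
  MvPolynomial.eval₂Hom (Int.castRingHom A₀) (fun l => (f₀ m * g₀ n).coeff l)

theorem universal_isIntegralElem (m n i j : ℕ) (hi : i ≤ m) (hj : j ≤ n) :
    (γ m n).IsIntegralElem
      ((MvPolynomial.X (Sum.inl i) : A₀) * MvPolynomial.X (Sum.inr j)) := by
  set K := FractionRing A₀
  let : Algebra (MvPolynomial ℕ ℤ) K := ((algebraMap A₀ K).comp (γ m n)).toAlgebra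
  have h := kronecker_field (R := MvPolynomial ℕ ℤ) ((f₀ m).map (algebraMap A₀ K))
    ((g₀ n).map (algebraMap A₀ K)) (fun l => by
      refine ⟨MvPolynomial.X l, ?_⟩
      rw [RingHom.algebraMap_toAlgebra, RingHom.comp_apply, ← Polynomial.map_mul, coeff_map]
      congr 1
      simp [γ]) i j
  rw [coeff_map, coeff_map, coeff_f₀ m i hi, coeff_g₀ n j hj, ← map_mul] at h
  obtain ⟨p, hp, hpx⟩ := h
  refine ⟨p, hp, ?_⟩
  apply IsFractionRing.injective A₀ K
  rw [map_zero, Polynomial.hom_eval₂]
  exact hpx

end Universal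

/-- **Kronecker's theorem** (general form): if all coefficients of `F * G` come from `R`, then
each product of a coefficient of `F` and a coefficient of `G` is integral over `R`. -/
theorem kronecker {R S : Type*} [CommRing R] [CommRing S] [Algebra R S] (F G : S[X])
    (h : ∀ l, (F * G).coeff l ∈ (algebraMap R S).range) (i j : ℕ) :
    IsIntegral R (F.coeff i * G.coeff j) := by
  by_cases hi : F.natDegree < i
  · rw [coeff_eq_zero_of_natDegree_lt hi, zero_mul]; exact isIntegral_zero
  by_cases hj : G.natDegree < j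
  · rw [coeff_eq_zero_of_natDegree_lt hj, mul_zero]; exact isIntegral_zero
  push Not at hi hj
  set m := F.natDegree
  set n := G.natDegree
  choose r hr using h
  let θ : A₀ →+* S := MvPolynomial.eval₂Hom (Int.castRingHom S)
    (Sum.elim (fun i => F.coeff i) (fun j => G.coeff j))
  let φ : MvPolynomial ℕ ℤ →+* R := MvPolynomial.eval₂Hom (Int.castRingHom R) r
  have hF : (f₀ m).map θ = F := by
    unfold f₀
    rw [Polynomial.map_sum]
    conv_rhs => rw [F.as_sum_range' (m + 1) (Nat.lt_succ_self _)]
    refine Finset.sum_congr rfl fun i _ => ?_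
    rw [map_monomial]
    congr 1
    simp [θ]
  have hG : (g₀ n).map θ = G := by
    unfold g₀
    rw [Polynomial.map_sum]
    conv_rhs => rw [G.as_sum_range' (n + 1) (Nat.lt_succ_self _)]
    refine Finset.sum_congr rfl fun i _ => ?_
    rw [map_monomial]
    congr 1
    simp [θ]
  have hcomp : (algebraMap R S).comp φ = θ.comp (γ m n) := by
    apply MvPolynomial.ringHom_ext
    · intro z
      simp
    · intro l
      simp only [RingHom.comp_apply, φ, γ, MvPolynomial.eval₂Hom_X']
      rw [hr l, ← hF, ← hG, ← Polynomial.map_mul, coeff_map]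
  obtain ⟨p, hp, hpx⟩ := universal_isIntegralElem m n i j hi hj
  have hθ : θ ((MvPolynomial.X (Sum.inl i) : A₀) * MvPolynomial.X (Sum.inr j)) =
      F.coeff i * G.coeff j := by
    simp [θ]
  refine ⟨p.map φ, hp.map _, ?_⟩
  rw [eval₂_map, hcomp, ← hθ, ← Polynomial.hom_eval₂, hpx, map_zero]

end Groth.Agent.Lib.helper12.Swan
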