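/-
helper12: normalized rank-one factorizations `M = f gᵀ` of polynomial matrices:
uniqueness over reduced rings, normalization and degree bounds over fields.
-/
import Mathlib

set_option autoImplicit false

open Polynomial

namespace Groth.Agent.Lib.helper12.Swan

variable {R : Type*} [CommRing R] {T : Type*} [CommRing T]

/-- `(f, g)` is a normalized rank-one factorization of the image of the polynomial matrix `M`
along `φ`: `φ(M) = f gᵀ`, `g · f = 1`, `f(0) = φ u`, `g(0) = φ v`. -/
structure IsNF (φ : R →+* T) {n : ℕ} (M : Fin n → Fin n → R[X]) (u v : Fin n → R)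
    (f g : Fin n → T[X]) : Prop where
  mul : ∀ i j, (M i j).map φ = f i * g j
  sum : ∑ i, g i * f i = 1
  f0 : ∀ i, (f i).coeff 0 = φ (u i)
  g0 : ∀ j, (g j).coeff 0 = φ (v j)

/-- In a reduced ring a unit polynomial with constant coefficient `1` is `1`. -/
lemma eq_one_of_isUnit_of_coeff_zero [IsReduced T] {a : T[X]} (ha : IsUnit a)
    (h0 : a.coeff 0 = 1) : a = 1 := by
  have hdeg : a.natDegree = 0 := by
    by_contra h
    exact not_isUnit_of_natDegree_pos_of_isReduced a (Nat.pos_of_ne_zero h) ha
  rw [eq_C_of_natDegree_eq_zero hdeg, h0, C_1]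

lemma sum_coeff_zero_eq {φ : R →+* T} {n : ℕ} {u v : Fin n → R} {f g : Fin n → T[X]}
    (hf : ∀ i, (f i).coeff 0 = φ (u i)) (hg : ∀ j, (g j).coeff 0 = φ (v j))
    (huv : ∑ i, v i * u i = 1) : (∑ i, g i * f i).coeff 0 = 1 := by
  rw [finsetSum_coeff]
  simp only [mul_coeff_zero, hf, hg, ← map_mul]
  rw [← map_sum, huv, map_one]

/-- Uniqueness of normalized factorizations over a reduced ring. -/
theorem IsNF.unique [IsReduced T] {φ : R →+* T} {n : ℕ} {M : Fin n → Fin n → R[X]}
    {u v : Fin n → R} (huv : ∑ i, v i * u i = 1) {f g f' g' : Fin n → T[X]}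
    (h : IsNF φ M u v f g) (h' : IsNF φ M u v f' g') : f = f' ∧ g = g' := by
  set a := ∑ j, g j * f' j with ha
  set b := ∑ j, g' j * f j with hb
  have h1 : ∀ i, f i * a = f' i := by
    intro i
    rw [ha, Finset.mul_sum]
    calc ∑ j, f i * (g j * f' j) = ∑ j, f' i * (g' j * f' j) := by
          refine Finset.sum_congr rfl fun j _ => ?_
          rw [← mul_assoc, ← h.mul, h'.mul, mul_assoc]
      _ = f' i := by rw [← Finset.mul_sum, h'.sum, mul_one]
  have h2 : ∀ i, f' i * b = f i := by
    intro i
    rw [hb, Finset.mul_sum]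
    calc ∑ j, f' i * (g' j * f j) = ∑ j, f i * (g j * f j) := by
          refine Finset.sum_congr rfl fun j _ => ?_
          rw [← mul_assoc, ← h'.mul, h.mul, mul_assoc]
      _ = f i := by rw [← Finset.mul_sum, h.sum, mul_one]
  have hab : a * b = 1 := by
    have h3 : ∀ i, g i * f i * (a * b) = g i * f i := by
      intro i
      rw [mul_assoc, ← mul_assoc (f i), h1, h2]
    calc a * b = (∑ i, g i * f i) * (a * b) := by rw [h.sum, one_mul]
      _ = ∑ i, g i * f i := by rw [Finset.sum_mul]; exact Finset.sum_congr rfl fun i _ => h3 i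
      _ = 1 := h.sum
  have ha1 : a = 1 :=
    eq_one_of_isUnit_of_coeff_zero (IsUnit.of_mul_eq_one _ hab)
      (sum_coeff_zero_eq h'.f0 h.g0 huv)
  have hb1 : b = 1 := by rw [ha1, one_mul] at hab; exact hab
  refine ⟨funext fun i => ?_, funext fun j => ?_⟩
  · rw [← h1 i, ha1, mul_one]
  · have : g j * b = g' j := by
      rw [hb, Finset.mul_sum]
      calc ∑ i, g j * (g' i * f i) = ∑ i, g' j * (g' i * f' i) := by
            refine Finset.sum_congr rfl fun i _ => ?_
            have e1 : g j * (g' i * f i) = g' i * (f i * g j) := by ring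
            have e2 : g' j * (g' i * f' i) = g' i * (f' i * g' j) := by ring
            rw [e1, e2, ← h.mul, ← h'.mul]
        _ = g' j := by rw [← Finset.mul_sum, h'.sum, mul_one]
    rw [← this, hb1, mul_one]

section Field

variable {K : Type*} [Field K]

/-- Normalizing a rank-one factorization over a field. -/
theorem exists_isNF_of_factorization (φ : R →+* K) {n : ℕ} {M : Fin n → Fin n → R[X]}
    {u v : Fin n → R} (huv : ∑ i, v i * u i = 1) (hM0 : ∀ i j, (M i j).coeff 0 = u i * v j)
    {f g : Fin n → K[X]} (hmul : ∀ i j, (M i j).map φ = f i * g j)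
    (hsum : ∑ i, g i * f i = 1) : ∃ f' g' : Fin n → K[X], IsNF φ M u v f' g' := by
  set c : K := ∑ j, (g j).coeff 0 * φ (u j) with hc
  have hfc : ∀ i, (f i).coeff 0 * c = φ (u i) := by
    intro i
    rw [hc, Finset.mul_sum]
    calc ∑ j, (f i).coeff 0 * ((g j).coeff 0 * φ (u j))
        = ∑ j, φ (u i) * (φ (v j) * φ (u j)) := by
          refine Finset.sum_congr rfl fun j _ => ?_
          have : (f i).coeff 0 * (g j).coeff 0 = φ (u i) * φ (v j) := by
            rw [← mul_coeff_zero, ← hmul, coeff_map, hM0, map_mul]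
          rw [← mul_assoc, this, mul_assoc]
      _ = φ (u i) := by
          rw [← Finset.mul_sum]
          simp only [← map_mul]
          rw [← map_sum, huv, map_one, mul_one]
  have hc0 : c ≠ 0 := by
    intro h0
    have : ∀ i, φ (u i) = 0 := fun i => by rw [← hfc i, h0, mul_zero]
    have h1 : (1 : K) = 0 := by
      rw [← map_one φ, ← huv, map_sum]
      exact Finset.sum_eq_zero fun i _ => by rw [map_mul, this i, mul_zero]
    exact one_ne_zero h1
  refine ⟨fun i => C c * f i, fun j => C c⁻¹ * g j, ?_, ?_, ?_, ?_⟩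
  · intro i j
    rw [hmul]
    have : C c * C c⁻¹ = (1 : K[X]) := by rw [← C_mul, mul_inv_cancel₀ hc0, C_1]
    calc f i * g j = (C c * C c⁻¹) * (f i * g j) := by rw [this, one_mul]
      _ = C c * f i * (C c⁻¹ * g j) := by ring
  · have : C c * C c⁻¹ = (1 : K[X]) := by rw [← C_mul, mul_inv_cancel₀ hc0, C_1]
    calc ∑ i, C c⁻¹ * g i * (C c * f i) = ∑ i, (C c * C c⁻¹) * (g i * f i) :=
          Finset.sum_congr rfl fun i _ => by ring
      _ = 1 := by rw [this]; simp only [one_mul]; exact hsum
  · intro i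
    rw [coeff_C_mul, mul_comm, hfc]
  · intro j
    have key : ∀ i, φ (u i) * (c⁻¹ * (g j).coeff 0) = φ (u i) * φ (v j) := by
      intro i
      rw [← hfc i]
      have : (f i).coeff 0 * (g j).coeff 0 = φ (u i) * φ (v j) := by
        rw [← mul_coeff_zero, ← hmul, coeff_map, hM0, map_mul]
      rw [hfc i, ← this, ← hfc i]
      field_simp
    rw [coeff_C_mul]
    calc c⁻¹ * (g j).coeff 0 = (∑ i, φ (v i) * φ (u i)) * (c⁻¹ * (g j).coeff 0) := by
          simp only [← map_mul]
          rw [← map_sum, huv, map_one, one_mul]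
      _ = ∑ i, φ (v i) * (φ (u i) * φ (v j)) := by
          rw [Finset.sum_mul]
          refine Finset.sum_congr rfl fun i _ => ?_
          rw [mul_assoc, key i]
      _ = φ (v j) := by
          have : ∀ i, φ (v i) * (φ (u i) * φ (v j)) = (φ (v i) * φ (u i)) * φ (v j) :=
            fun i => by ring
          simp only [this]
          rw [← Finset.sum_mul]
          simp only [← map_mul]
          rw [← map_sum, huv, map_one, one_mul]

/-- Degree bound for normalized factorizations over a field. -/
theorem IsNF.natDegree_le {φ : R →+* K} {n : ℕ} {M : Fin n → Fin n → R[X]}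
    {u v : Fin n → R} (huv : ∑ i, v i * u i = 1) {f g : Fin n → K[X]}
    (h : IsNF φ M u v f g) {D : ℕ} (hD : ∀ i j, (M i j).natDegree ≤ D) :
    (∀ i, (f i).natDegree ≤ D) ∧ (∀ j, (g j).natDegree ≤ D) := by
  have hv : ∃ j, φ (v j) ≠ 0 := by
    by_contra hcon
    push Not at hcon
    have h1 : (1 : K) = 0 := by
      rw [← map_one φ, ← huv, map_sum]
      exact Finset.sum_eq_zero fun i _ => by rw [map_mul, hcon i, zero_mul]
    exact one_ne_zero h1
  have hu : ∃ i, φ (u i) ≠ 0 := by
    by_contra hcon
    push Not at hcon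
    have h1 : (1 : K) = 0 := by
      rw [← map_one φ, ← huv, map_sum]
      exact Finset.sum_eq_zero fun i _ => by rw [map_mul, hcon i, mul_zero]
    exact one_ne_zero h1
  obtain ⟨j₀, hj₀⟩ := hv
  obtain ⟨i₀, hi₀⟩ := hu
  have hg0 : g j₀ ≠ 0 := by
    intro h0
    apply hj₀
    rw [← h.g0, h0, coeff_zero]
  have hf0 : f i₀ ≠ 0 := by
    intro h0
    apply hi₀
    rw [← h.f0, h0, coeff_zero]
  constructor
  · intro i
    by_cases hfi : f i = 0
    · rw [hfi, natDegree_zero]; exact Nat.zero_le _
    calc (f i).natDegree ≤ (f i).natDegree + (g j₀).natDegree := Nat.le_add_right _ _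
      _ = (f i * g j₀).natDegree := (natDegree_mul hfi hg0).symm
      _ = ((M i j₀).map φ).natDegree := by rw [h.mul]
      _ ≤ (M i j₀).natDegree := natDegree_map_le
      _ ≤ D := hD _ _
  · intro j
    by_cases hgj : g j = 0
    · rw [hgj, natDegree_zero]; exact Nat.zero_le _
    calc (g j).natDegree ≤ (f i₀).natDegree + (g j).natDegree := Nat.le_add_left _ _
      _ = (f i₀ * g j).natDegree := (natDegree_mul hf0 hgj).symm
      _ = ((M i₀ j).map φ).natDegree := by rw [h.mul]
      _ ≤ (M i₀ j).natDegree := natDegree_map_le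
      _ ≤ D := hD _ _

end Field

end Groth.Agent.Lib.helper12.Swan
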