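/-
helper12: normalized factorizations over the product of all residue fields of a reduced ring,
integrality of the coefficients (Kronecker), restriction to a subalgebra.
-/
import Mathlib
import Groth.Agent.Lib.Helper12.SwanL1
import Groth.Agent.Lib.Helper12.SwanL2

set_option autoImplicit false

open Polynomial

namespace Groth.Agent.Lib.helper12.Swan

universe u

section PiRes

variable (R : Type u) [CommRing R]

/-- The product of all residue fields of `R`. -/
abbrev PiRes : Type u := ∀ p : PrimeSpectrum R, p.asIdeal.ResidueField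

instance : IsReduced (PiRes R) :=
  ⟨fun x ⟨k, hk⟩ => funext fun p => by
    have h := congrFun hk p
    rw [Pi.pow_apply, Pi.zero_apply] at h
    exact IsReduced.eq_zero _ ⟨k, h⟩⟩

lemma algebraMap_piRes_injective [IsReduced R] :
    Function.Injective (algebraMap R (PiRes R)) := by
  rw [injective_iff_map_eq_zero]
  intro r hr
  have h1 : ∀ p : PrimeSpectrum R, r ∈ p.asIdeal := fun p => by
    have h := congrFun hr p
    rwa [Pi.algebraMap_apply, Pi.zero_apply, Ideal.algebraMap_residueField_eq_zero] at h
  have h2 : r ∈ nilradical R := by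
    rw [nilradical_eq_sInf, Ideal.mem_sInf]
    intro I hI
    exact h1 ⟨I, hI⟩
  rwa [nilradical_eq_zero, Ideal.zero_eq_bot, Ideal.mem_bot] at h2

variable {R}

lemma piRes_poly_ext {P Q : (PiRes R)[X]}
    (h : ∀ p : PrimeSpectrum R, P.map (Pi.evalRingHom _ p) = Q.map (Pi.evalRingHom _ p)) :
    P = Q := by
  ext k p
  have := congrArg (fun q => q.coeff k) (h p)
  simpa [coeff_map] using this

/-- The (field) factorization hypothesis: over every field the matrix has a rank-one
factorization. -/
def HasFieldFactorizations {n : ℕ} (M : Fin n → Fin n → R[X]) : Prop :=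
  ∀ (K : Type u) [Field K] (φ : R →+* K), ∃ f g : Fin n → K[X],
    (∀ i j, (M i j).map φ = f i * g j) ∧ ∑ i, g i * f i = 1

lemma HasFieldFactorizations.exists_isNF {n : ℕ} {M : Fin n → Fin n → R[X]}
    (HF : HasFieldFactorizations M) {u v : Fin n → R} (huv : ∑ i, v i * u i = 1)
    (hM0 : ∀ i j, (M i j).coeff 0 = u i * v j) (K : Type u) [Field K] (φ : R →+* K) :
    ∃ f g : Fin n → K[X], IsNF φ M u v f g := by
  obtain ⟨f, g, hmul, hsum⟩ := HF K φ
  exact exists_isNF_of_factorization φ huv hM0 hmul hsum

/-- Assemble the normalized factorizations over all residue fields. -/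
theorem exists_isNF_piRes {n : ℕ} {M : Fin n → Fin n → R[X]}
    (HF : HasFieldFactorizations M) {u v : Fin n → R} (huv : ∑ i, v i * u i = 1)
    (hM0 : ∀ i j, (M i j).coeff 0 = u i * v j) :
    ∃ F G : Fin n → (PiRes R)[X], IsNF (algebraMap R (PiRes R)) M u v F G := by
  have key := fun p : PrimeSpectrum R =>
    HF.exists_isNF huv hM0 p.asIdeal.ResidueField (algebraMap R p.asIdeal.ResidueField)
  choose f g hfg using key
  -- degree bound
  set D : ℕ := Finset.univ.sup fun ij : Fin n × Fin n => (M ij.1 ij.2).natDegree with hDdef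
  have hD : ∀ i j, (M i j).natDegree ≤ D := fun i j =>
    Finset.le_sup (f := fun ij : Fin n × Fin n => (M ij.1 ij.2).natDegree)
      (Finset.mem_univ (i, j))
  have hdeg := fun p => (hfg p).natDegree_le huv hD
  let F : Fin n → (PiRes R)[X] := fun i =>
    ∑ k ∈ Finset.range (D + 1), monomial k (fun p => (f p i).coeff k)
  let G : Fin n → (PiRes R)[X] := fun j =>
    ∑ k ∈ Finset.range (D + 1), monomial k (fun p => (g p j).coeff k)
  have hF : ∀ i p, (F i).map (Pi.evalRingHom _ p) = f p i := by
    intro i p
    ext k
    simp only [F, Polynomial.map_sum, map_monomial, finsetSum_coeff, coeff_monomial,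
      Pi.evalRingHom_apply]
    rw [Finset.sum_ite_eq' (Finset.range (D + 1)) k]
    split_ifs with hk
    · rfl
    · rw [Finset.mem_range, not_lt] at hk
      exact (coeff_eq_zero_of_natDegree_lt (lt_of_le_of_lt ((hdeg p).1 i) hk)).symm
  have hG : ∀ j p, (G j).map (Pi.evalRingHom _ p) = g p j := by
    intro j p
    ext k
    simp only [G, Polynomial.map_sum, map_monomial, finsetSum_coeff, coeff_monomial,
      Pi.evalRingHom_apply]
    rw [Finset.sum_ite_eq' (Finset.range (D + 1)) k]
    split_ifs with hk
    · rfl
    · rw [Finset.mem_range, not_lt] at hk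
      exact (coeff_eq_zero_of_natDegree_lt (lt_of_le_of_lt ((hdeg p).2 j) hk)).symm
  have hcomp : ∀ p : PrimeSpectrum R, (Pi.evalRingHom _ p).comp (algebraMap R (PiRes R)) =
      algebraMap R p.asIdeal.ResidueField := fun p => rfl
  refine ⟨F, G, ?_, ?_, ?_, ?_⟩
  · intro i j
    apply piRes_poly_ext
    intro p
    rw [Polynomial.map_map, hcomp, Polynomial.map_mul, hF, hG]
    exact (hfg p).mul i j
  · apply piRes_poly_ext
    intro p
    rw [Polynomial.map_sum, Polynomial.map_one]
    simp only [Polynomial.map_mul, hF, hG]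
    exact (hfg p).sum
  · intro i
    funext p
    have := (hfg p).f0 i
    rw [← hF i p, coeff_map] at this
    exact this
  · intro j
    funext p
    have := (hfg p).g0 j
    rw [← hG j p, coeff_map] at this
    exact this

end PiRes

section Integral

variable {R : Type*} [CommRing R] {T : Type*} [CommRing T] [Algebra R T]

/-- The coefficients of a normalized factorization are integral over the base. -/
theorem IsNF.isIntegral_coeff {n : ℕ} {M : Fin n → Fin n → R[X]} {u v : Fin n → R}
    (huv : ∑ i, v i * u i = 1) {F G : Fin n → T[X]}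
    (h : IsNF (algebraMap R T) M u v F G) :
    (∀ i k, IsIntegral R ((F i).coeff k)) ∧ (∀ j k, IsIntegral R ((G j).coeff k)) := by
  have hone : ∑ i, algebraMap R T (v i) * algebraMap R T (u i) = 1 := by
    simp only [← map_mul]
    rw [← map_sum, huv, map_one]
  have hrange : ∀ i j l, (F i * G j).coeff l ∈ (algebraMap R T).range := by
    intro i j l
    rw [← h.mul, coeff_map]
    exact ⟨_, rfl⟩
  constructor
  · intro i k
    have : (F i).coeff k = ∑ j, algebraMap R T (u j) * ((F i).coeff k * (G j).coeff 0) := by
      calc (F i).coeff k = (F i).coeff k * ∑ j, algebraMap R T (v j) * algebraMap R T (u j) := by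
            rw [hone, mul_one]
        _ = ∑ j, algebraMap R T (u j) * ((F i).coeff k * (G j).coeff 0) := by
            rw [Finset.mul_sum]
            refine Finset.sum_congr rfl fun j _ => ?_
            rw [h.g0]
            ring
    rw [this]
    exact IsIntegral.sum _ fun j _ =>
      (isIntegral_algebraMap).mul (kronecker (F i) (G j) (hrange i j) k 0)
  · intro j k
    have : (G j).coeff k = ∑ i, algebraMap R T (v i) * ((F i).coeff 0 * (G j).coeff k) := by
      calc (G j).coeff k = (G j).coeff k * ∑ i, algebraMap R T (v i) * algebraMap R T (u i) := by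
            rw [hone, mul_one]
        _ = ∑ i, algebraMap R T (v i) * ((F i).coeff 0 * (G j).coeff k) := by
            rw [Finset.mul_sum]
            refine Finset.sum_congr rfl fun i _ => ?_
            rw [h.f0]
            ring
    rw [this]
    exact IsIntegral.sum _ fun i _ =>
      (isIntegral_algebraMap).mul (kronecker (F i) (G j) (hrange i j) 0 k)

/-- The set of all coefficients of a family of polynomials. -/
def coeffSet {n : ℕ} (F G : Fin n → T[X]) : Set T :=
  {x | ∃ i k, (F i).coeff k = x} ∪ {x | ∃ j k, (G j).coeff k = x}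

lemma coeffSet_finite {n : ℕ} (F G : Fin n → T[X]) : (coeffSet F G).Finite := by
  have h1 : {x | ∃ i k, (F i).coeff k = x} ⊆
      insert (0 : T) (⋃ i : Fin n, ((F i).coeffs : Set T)) := by
    rintro x ⟨i, k, rfl⟩
    by_cases h0 : (F i).coeff k = 0
    · exact Set.mem_insert_iff.2 (Or.inl h0)
    · refine Set.mem_insert_iff.2 (Or.inr (Set.mem_iUnion.2 ⟨i, ?_⟩))
      exact Finset.mem_coe.2 (coeff_mem_coeffs h0)
  have h2 : {x | ∃ j k, (G j).coeff k = x} ⊆
      insert (0 : T) (⋃ j : Fin n, ((G j).coeffs : Set T)) := by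
    rintro x ⟨j, k, rfl⟩
    by_cases h0 : (G j).coeff k = 0
    · exact Set.mem_insert_iff.2 (Or.inl h0)
    · refine Set.mem_insert_iff.2 (Or.inr (Set.mem_iUnion.2 ⟨j, ?_⟩))
      exact Finset.mem_coe.2 (coeff_mem_coeffs h0)
  refine Set.Finite.union ?_ ?_
  · exact Set.Finite.subset (Set.Finite.insert _ (Set.finite_iUnion fun i =>
      Finset.finite_toSet _)) h1
  · exact Set.Finite.subset (Set.Finite.insert _ (Set.finite_iUnion fun i =>
      Finset.finite_toSet _)) h2

/-- Restrict a normalized factorization to the subalgebra generated by its coefficients. -/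
theorem IsNF.exists_restrict {n : ℕ} {M : Fin n → Fin n → R[X]} {u v : Fin n → R}
    {F G : Fin n → T[X]} (h : IsNF (algebraMap R T) M u v F G) :
    ∃ F' G' : Fin n → (Algebra.adjoin R (coeffSet F G))[X],
      IsNF (algebraMap R (Algebra.adjoin R (coeffSet F G))) M u v F' G' ∧
      (∀ i, (F' i).map (algebraMap (Algebra.adjoin R (coeffSet F G)) T) = F i) ∧
      (∀ j, (G' j).map (algebraMap (Algebra.adjoin R (coeffSet F G)) T) = G j) := by
  set A := Algebra.adjoin R (coeffSet F G)
  have hFl : ∀ i, ∃ q : A[X], q.map (algebraMap A T) = F i := by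
    intro i
    rw [← mem_lifts, lifts_iff_coeff_lifts]
    intro k
    exact ⟨⟨(F i).coeff k, Algebra.subset_adjoin (Or.inl ⟨i, k, rfl⟩)⟩, rfl⟩
  have hGl : ∀ j, ∃ q : A[X], q.map (algebraMap A T) = G j := by
    intro j
    rw [← mem_lifts, lifts_iff_coeff_lifts]
    intro k
    exact ⟨⟨(G j).coeff k, Algebra.subset_adjoin (Or.inr ⟨j, k, rfl⟩)⟩, rfl⟩
  choose F' hF' using hFl
  choose G' hG' using hGl
  have hinj : Function.Injective (Polynomial.map (algebraMap A T)) :=
    Polynomial.map_injective _ Subtype.val_injective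
  have hinj0 : Function.Injective (algebraMap A T) := Subtype.val_injective
  refine ⟨F', G', ⟨?_, ?_, ?_, ?_⟩, hF', hG'⟩
  · intro i j
    apply hinj
    rw [Polynomial.map_map, ← IsScalarTower.algebraMap_eq, Polynomial.map_mul, hF', hG']
    exact h.mul i j
  · apply hinj
    rw [Polynomial.map_sum, Polynomial.map_one]
    simp only [Polynomial.map_mul, hF', hG']
    exact h.sum
  · intro i
    apply hinj0
    rw [← coeff_map, hF', h.f0, ← IsScalarTower.algebraMap_apply]
  · intro j
    apply hinj0
    rw [← coeff_map, hG', h.g0, ← IsScalarTower.algebraMap_apply]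

end Integral

end Groth.Agent.Lib.helper12.Swan
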