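/-
helper12: localization at a minimal prime: a finite reduced extension generated by the
coefficients of a normalized factorization becomes trivial after localizing at a minimal prime
of the (reduced) base.
-/
import Mathlib
import Groth.Agent.Lib.Helper12.SwanL3

set_option autoImplicit false

open Polynomial

namespace Groth.Agent.Lib.helper12.Swan

universe u

section Map

variable {R : Type*} [CommRing R] {T : Type*} [CommRing T] {T' : Type*} [CommRing T']

lemma IsNF.map {φ : R →+* T} {n : ℕ} {M : Fin n → Fin n → R[X]} {u v : Fin n → R}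
    {f g : Fin n → T[X]} (h : IsNF φ M u v f g) (ψ : T →+* T') :
    IsNF (ψ.comp φ) M u v (fun i => (f i).map ψ) (fun j => (g j).map ψ) where
  mul i j := by rw [← Polynomial.map_map, h.mul, Polynomial.map_mul]
  sum := by
    have := congrArg (Polynomial.map ψ) h.sum
    rw [Polynomial.map_sum, Polynomial.map_one] at this
    simpa only [Polynomial.map_mul] using this
  f0 i := by rw [coeff_map, h.f0, RingHom.comp_apply]
  g0 j := by rw [coeff_map, h.g0, RingHom.comp_apply]

end Map

variable {R : Type u} [CommRing R]

lemma HasFieldFactorizations.exists_isNF_of_isField {n : ℕ} {M : Fin n → Fin n → R[X]}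
    (HF : HasFieldFactorizations M) {u v : Fin n → R} (huv : ∑ i, v i * u i = 1)
    (hM0 : ∀ i j, (M i j).coeff 0 = u i * v j) (K : Type u) [CommRing K] (hK : IsField K)
    (φ : R →+* K) : ∃ f g : Fin n → K[X], IsNF φ M u v f g := by
  let := hK.toField
  exact HF.exists_isNF huv hM0 K φ

variable {T : Type u} [CommRing T] [Algebra R T]

/-- Key local statement: after inverting some element outside a minimal prime `p` of the
reduced base, a finite reduced extension generated by the coefficients of a normalized
factorization is contained in the base. -/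
theorem exists_notMem_mul_mem_range [IsReduced R] [IsReduced T] [Module.Finite R T] {n : ℕ}
    {M : Fin n → Fin n → R[X]} {u v : Fin n → R} (huv : ∑ i, v i * u i = 1)
    (hM0 : ∀ i j, (M i j).coeff 0 = u i * v j) (HF : HasFieldFactorizations M)
    {F G : Fin n → T[X]} (h : IsNF (algebraMap R T) M u v F G)
    (hgen : Algebra.adjoin R (coeffSet F G) = ⊤) {p : Ideal R} (hp : p ∈ minimalPrimes R) :
    ∃ s, s ∉ p ∧ ∀ t : T, algebraMap R T s * t ∈ (algebraMap R T).range := by
  have hpp : p.IsPrime := hp.1.1
  let k := Localization.AtPrime p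
  let Tp := Localization (Algebra.algebraMapSubmonoid T p.primeCompl)
  have hkd : Ring.KrullDimLE 0 k := .of_isLocalization _ hp _
  have hk : IsField k := Ring.KrullDimLE.isField_of_isReduced
  obtain ⟨f0, g0, hfg0⟩ := HF.exists_isNF_of_isField huv hM0 k hk (algebraMap R k)
  have h1 : IsNF (algebraMap R Tp) M u v (fun i => (f0 i).map (algebraMap k Tp))
      (fun j => (g0 j).map (algebraMap k Tp)) := by
    rw [IsScalarTower.algebraMap_eq R k Tp]
    exact hfg0.map _
  have h2 : IsNF (algebraMap R Tp) M u v (fun i => (F i).map (algebraMap T Tp))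
      (fun j => (G j).map (algebraMap T Tp)) := by
    rw [IsScalarTower.algebraMap_eq R T Tp]
    exact h.map _
  obtain ⟨e1, e2⟩ := h2.unique huv h1
  -- every coefficient maps into the image of `k`
  have hcoef : ∀ x ∈ coeffSet F G, algebraMap T Tp x ∈ (algebraMap k Tp).range := by
    rintro x (⟨i, l, rfl⟩ | ⟨j, l, rfl⟩)
    · have := congrArg (fun q => q.coeff l) (congrFun e1 i)
      simp only [coeff_map] at this
      exact ⟨_, this.symm⟩
    · have := congrArg (fun q => q.coeff l) (congrFun e2 j)
      simp only [coeff_map] at this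
      exact ⟨_, this.symm⟩
  have hall : ∀ t : T, algebraMap T Tp t ∈ (algebraMap k Tp).range := by
    let A : Subalgebra R T :=
      Subalgebra.comap (IsScalarTower.toAlgHom R T Tp) (IsScalarTower.toAlgHom R k Tp).range
    have hA : Algebra.adjoin R (coeffSet F G) ≤ A := by
      apply Algebra.adjoin_le
      intro x hx
      obtain ⟨y, hy⟩ := hcoef x hx
      exact ⟨y, hy⟩
    intro t
    have ht : t ∈ A := hA (hgen ▸ Algebra.mem_top)
    obtain ⟨y, hy⟩ := ht
    exact ⟨y, hy⟩
  -- clear denominators elementwise
  have hall' : ∀ t : T, ∃ s, s ∈ p.primeCompl ∧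
      algebraMap R T s * t ∈ (algebraMap R T).range := by
    intro t
    obtain ⟨x, hx⟩ := hall t
    obtain ⟨r, s, rfl⟩ := IsLocalization.exists_mk'_eq p.primeCompl x
    have hspec : algebraMap k Tp (IsLocalization.mk' k r s) * algebraMap R Tp (s : R) =
        algebraMap R Tp r := by
      rw [IsScalarTower.algebraMap_apply R k Tp, IsScalarTower.algebraMap_apply R k Tp,
        ← map_mul, IsLocalization.mk'_spec]
    rw [hx] at hspec
    have heq : algebraMap T Tp (algebraMap R T (s : R) * t) =
        algebraMap T Tp (algebraMap R T r) := by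
      rw [map_mul, ← IsScalarTower.algebraMap_apply, ← IsScalarTower.algebraMap_apply,
        mul_comm]
      exact hspec
    obtain ⟨⟨c, hc⟩, hcm⟩ :=
      (IsLocalization.eq_iff_exists (Algebra.algebraMapSubmonoid T p.primeCompl) Tp).1 heq
    obtain ⟨s', hs', rfl⟩ := hc
    refine ⟨s' * s, p.primeCompl.mul_mem hs' s.2, ⟨s' * r, ?_⟩⟩
    rw [map_mul, map_mul, mul_assoc]
    exact hcm.symm
  choose s hs hst using hall'
  classical
  obtain ⟨S, hS⟩ := (Module.Finite.fg_top : (⊤ : Submodule R T).FG)
  refine ⟨∏ t ∈ S, s t, ?_, ?_⟩
  · exact p.primeCompl.prod_mem fun t _ => hs t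
  · -- the set of good `t` is a submodule containing the generators
    let N : Submodule R T :=
      { carrier := {t | algebraMap R T (∏ t ∈ S, s t) * t ∈ (algebraMap R T).range}
        add_mem' := by
          intro a b ha hb
          change _ * (a + b) ∈ (algebraMap R T).range
          rw [mul_add]
          exact Subring.add_mem _ ha hb
        zero_mem' := by
          change _ * (0 : T) ∈ (algebraMap R T).range
          rw [mul_zero]
          exact Subring.zero_mem _
        smul_mem' := by
          intro c a ha
          change _ * (c • a) ∈ (algebraMap R T).range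
          rw [Algebra.smul_def, mul_left_comm]
          exact Subring.mul_mem _ ⟨c, rfl⟩ ha }
    have hSN : (S : Set T) ⊆ N := by
      intro t ht
      change algebraMap R T (∏ t ∈ S, s t) * t ∈ (algebraMap R T).range
      rw [← Finset.mul_prod_erase S s (Finset.mem_coe.1 ht), map_mul, mul_right_comm]
      exact Subring.mul_mem _ (hst t) ⟨_, rfl⟩
    have hN : N = ⊤ := by
      rw [eq_top_iff, ← hS]
      exact Submodule.span_le.2 hSN
    intro t
    have : t ∈ N := hN ▸ Submodule.mem_top
    exact this

end Groth.Agent.Lib.helper12.Swan
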