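/-
helper12: the conductor argument: a finite reduced extension `R → T` generated by the
coefficients of a normalized factorization, with `R` seminormal in `T`, is trivial.
-/
import Mathlib
import Groth.Agent.Lib.Helper12.SwanL4

set_option autoImplicit false

open Polynomial

namespace Groth.Agent.Lib.helper12.Swan

universe u

section Comp

variable {R : Type*} [CommRing R] {R' : Type*} [CommRing R'] {T : Type*} [CommRing T]

lemma IsNF.of_comp (ρ : R →+* R') {φ' : R' →+* T} {n : ℕ} {M : Fin n → Fin n → R[X]}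
    {u v : Fin n → R} {f g : Fin n → T[X]} (h : IsNF (φ'.comp ρ) M u v f g) :
    IsNF φ' (fun i j => (M i j).map ρ) (fun i => ρ (u i)) (fun i => ρ (v i)) f g where
  mul i j := by rw [Polynomial.map_map]; exact h.mul i j
  sum := h.sum
  f0 i := h.f0 i
  g0 j := h.g0 j

end Comp

section HFmap

variable {R : Type u} [CommRing R] {R' : Type u} [CommRing R']

lemma HasFieldFactorizations.map (ρ : R →+* R') {n : ℕ} {M : Fin n → Fin n → R[X]}
    (HF : HasFieldFactorizations M) : HasFieldFactorizations (fun i j => (M i j).map ρ) := by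
  intro K _ φ
  obtain ⟨f, g, h1, h2⟩ := HF K (φ.comp ρ)
  refine ⟨f, g, fun i j => ?_, h2⟩
  rw [Polynomial.map_map]
  exact h1 i j

end HFmap

variable {R : Type u} [CommRing R] {T : Type u} [CommRing T] [Algebra R T]

/-- The conductor of `R` in `T`, as an ideal of `T`. -/
def conductor (R : Type u) [CommRing R] (T : Type u) [CommRing T] [Algebra R T] : Ideal T where
  carrier := {t | ∀ t' : T, t * t' ∈ (algebraMap R T).range}
  add_mem' := by
    intro a b ha hb t'
    rw [add_mul]
    exact Subring.add_mem _ (ha t') (hb t')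
  zero_mem' := by
    intro t'
    rw [zero_mul]
    exact Subring.zero_mem _
  smul_mem' := by
    intro c a ha t'
    rw [smul_eq_mul, mul_comm c a, mul_assoc]
    exact ha (c * t')

lemma mem_conductor {t : T} : t ∈ conductor R T ↔ ∀ t' : T, t * t' ∈ (algebraMap R T).range :=
  Iff.rfl

lemma conductor_le_range {t : T} (ht : t ∈ conductor R T) : t ∈ (algebraMap R T).range := by
  have := ht 1
  rwa [mul_one] at this

/-- If `R` is seminormal in `T`, the conductor is a radical ideal of `T`. -/
lemma conductor_isRadical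
    (hsn : ∀ t : T, t ^ 2 ∈ (algebraMap R T).range → t ^ 3 ∈ (algebraMap R T).range →
      t ∈ (algebraMap R T).range) : (conductor R T).IsRadical := by
  have step : ∀ (t : T) (k : ℕ), 1 ≤ k → (∀ m, k + 1 ≤ m → t ^ m ∈ conductor R T) →
      t ^ k ∈ conductor R T := by
    intro t k hk hm t'
    apply hsn
    · have h1 : (t ^ k * t') ^ 2 = t ^ (2 * k) * (t' ^ 2) := by ring
      rw [h1]
      exact hm (2 * k) (by omega) _
    · have h1 : (t ^ k * t') ^ 3 = t ^ (3 * k) * (t' ^ 3) := by ring
      rw [h1]
      exact hm (3 * k) (by omega) _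
  have main : ∀ (n : ℕ) (t : T), (∀ m, n + 1 ≤ m → t ^ m ∈ conductor R T) →
      t ∈ conductor R T := by
    intro n
    induction n with
    | zero =>
      intro t h
      have := h 1 le_rfl
      rwa [pow_one] at this
    | succ n ih =>
      intro t h
      apply ih t
      intro m hm
      rcases Nat.eq_or_lt_of_le hm with h1 | h1
      · rw [← h1]
        exact step t (n + 1) (by omega) h
      · exact h m h1
  rintro t ⟨n, hn⟩
  apply main n t
  intro m hm
  have : t ^ m = t ^ (m - n) * t ^ n := by rw [← pow_add]; congr 1; omega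
  rw [this]
  exact Ideal.mul_mem_left _ _ hn

/-- **Subintegrality + seminormality gives equality**, in the situation of a normalized
factorization. -/
theorem surjective_of_seminormalIn [IsReduced T] [Module.Finite R T]
    (hsn : ∀ t : T, t ^ 2 ∈ (algebraMap R T).range → t ^ 3 ∈ (algebraMap R T).range →
      t ∈ (algebraMap R T).range)
    {n : ℕ} {M : Fin n → Fin n → R[X]} {u v : Fin n → R} (huv : ∑ i, v i * u i = 1)
    (hM0 : ∀ i j, (M i j).coeff 0 = u i * v j) (HF : HasFieldFactorizations M)
    {F G : Fin n → T[X]} (h : IsNF (algebraMap R T) M u v F G)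
    (hgen : Algebra.adjoin R (coeffSet F G) = ⊤) :
    Function.Surjective (algebraMap R T) := by
  set J := conductor R T with hJ
  have hJrad : J.IsRadical := conductor_isRadical hsn
  by_contra hsurj
  have hJtop : (1 : T) ∉ J := by
    intro h1
    apply hsurj
    intro t
    have := h1 t
    rwa [one_mul] at this
  -- the quotient pair
  let I : Ideal R := J.comap (algebraMap R T)
  let ρ : R →+* R ⧸ I := Ideal.Quotient.mk I
  let ψ : T →+* T ⧸ J := Ideal.Quotient.mk J
  have hcomp : (algebraMap (R ⧸ I) (T ⧸ J)).comp ρ = ψ.comp (algebraMap R T) := rfl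
  have hredT : IsReduced (T ⧸ J) := (Ideal.isRadical_iff_quotient_reduced J).1 hJrad
  have hinj : Function.Injective (algebraMap (R ⧸ I) (T ⧸ J)) :=
    Ideal.algebraMap_quotient_injective
  have hredR : IsReduced (R ⧸ I) := isReduced_of_injective _ hinj
  have hfin : Module.Finite (R ⧸ I) (T ⧸ J) := by
    have : Module.Finite R (T ⧸ J) :=
      Module.Finite.of_surjective (Ideal.Quotient.mkₐ R J).toLinearMap
        (Ideal.Quotient.mkₐ_surjective R J)
    exact Module.Finite.of_restrictScalars_finite R (R ⧸ I) (T ⧸ J)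
  have hnfq : IsNF (algebraMap (R ⧸ I) (T ⧸ J)) (fun i j => (M i j).map ρ) (fun i => ρ (u i))
      (fun i => ρ (v i)) (fun i => (F i).map ψ) (fun j => (G j).map ψ) := by
    apply IsNF.of_comp ρ
    rw [hcomp]
    exact h.map ψ
  have huvq : ∑ i, ρ (v i) * ρ (u i) = 1 := by
    simp only [← map_mul]
    rw [← map_sum, huv, map_one]
  have hM0q : ∀ i j, ((M i j).map ρ).coeff 0 = ρ (u i) * ρ (v j) := by
    intro i j
    rw [coeff_map, hM0, map_mul]
  have hgenq : Algebra.adjoin (R ⧸ I) (coeffSet (fun i => (F i).map ψ) (fun j => (G j).map ψ)) =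
      ⊤ := by
    rw [eq_top_iff]
    rintro x -
    obtain ⟨t, rfl⟩ := Ideal.Quotient.mk_surjective x
    have ht : t ∈ Algebra.adjoin R (coeffSet F G) := hgen ▸ Algebra.mem_top
    induction ht using Algebra.adjoin_induction with
    | mem x hx =>
      apply Algebra.subset_adjoin
      rcases hx with ⟨i, k, rfl⟩ | ⟨j, k, rfl⟩
      · exact Or.inl ⟨i, k, by rw [coeff_map]⟩
      · exact Or.inr ⟨j, k, by rw [coeff_map]⟩
    | algebraMap r =>
      have : Ideal.Quotient.mk J (algebraMap R T r) = algebraMap (R ⧸ I) (T ⧸ J) (ρ r) := rfl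
      rw [this]
      exact Subalgebra.algebraMap_mem _ _
    | add x y _ _ hx hy =>
      rw [map_add]
      exact Subalgebra.add_mem _ hx hy
    | mul x y _ _ hx hy =>
      rw [map_mul]
      exact Subalgebra.mul_mem _ hx hy
  -- a minimal prime of the quotient
  have hnt : Nontrivial (R ⧸ I) := by
    rw [Ideal.Quotient.nontrivial_iff]
    intro htop
    apply hJtop
    have : (1 : R) ∈ I := htop ▸ Submodule.mem_top
    have h1 : algebraMap R T 1 ∈ J := this
    rwa [map_one] at h1
  obtain ⟨m, hm⟩ := Ideal.exists_maximal (R ⧸ I)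
  obtain ⟨p, hp, -⟩ := Ideal.exists_minimalPrimes_le (bot_le : (⊥ : Ideal (R ⧸ I)) ≤ m)
  obtain ⟨s, hsp, hs⟩ := exists_notMem_mul_mem_range huvq hM0q (HF.map ρ) hnfq hgenq hp
  obtain ⟨s, rfl⟩ := Ideal.Quotient.mk_surjective s
  apply hsp
  have hsI : s ∈ I := by
    change algebraMap R T s ∈ J
    intro t'
    obtain ⟨r, hr⟩ := hs (ψ t')
    obtain ⟨r, rfl⟩ := Ideal.Quotient.mk_surjective r
    have h1 : ψ (algebraMap R T s * t' - algebraMap R T r) = 0 := by
      rw [map_sub, map_mul]
      have e1 : ψ (algebraMap R T s) = algebraMap (R ⧸ I) (T ⧸ J) (Ideal.Quotient.mk I s) := rfl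
      have e2 : ψ (algebraMap R T r) = algebraMap (R ⧸ I) (T ⧸ J) (Ideal.Quotient.mk I r) := rfl
      rw [e1, e2, hr, sub_self]
    have h2 : algebraMap R T s * t' - algebraMap R T r ∈ J := Ideal.Quotient.eq_zero_iff_mem.1 h1
    obtain ⟨r', hr'⟩ := conductor_le_range h2
    refine ⟨r' + r, ?_⟩
    rw [map_add, hr']
    ring
  have : Ideal.Quotient.mk I s = 0 := Ideal.Quotient.eq_zero_iff_mem.2 hsI
  rw [this]
  exact Ideal.zero_mem _

end Groth.Agent.Lib.helper12.Swan
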