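/-
helper12: Traverso–Swan–Coquand for local rings: over a seminormal local ring `R` every
invertible `R[X]`-module is free.
-/
import Mathlib
import Groth.Agent.Lib.Helper12.SwanL5

set_option autoImplicit false

open Polynomial TensorProduct

namespace Groth.Agent.Lib.helper12.Swan

universe u

section Descend

variable {R : Type u} [CommRing R]

lemma eq_of_sq_eq_of_cube_eq {T : Type*} [CommRing T] [IsReduced T] {x y : T}
    (h2 : x ^ 2 = y ^ 2) (h3 : x ^ 3 = y ^ 3) : x = y := by
  have h : (x - y) ^ 3 = 0 := by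
    linear_combination 4 * h3 - 3 * (x + y) * h2
  have := IsReduced.eq_zero _ ⟨3, h⟩
  exact sub_eq_zero.1 this

/-- **Main matrix theorem**: over a seminormal ring, a polynomial matrix which has a rank-one
factorization over every field (and is normalized at `0`) has a rank-one factorization. -/
theorem exists_factorization_of_seminormal [IsReduced R]
    (hR : ∀ x y : R, x ^ 3 = y ^ 2 → ∃ a : R, x = a ^ 2 ∧ y = a ^ 3)
    {n : ℕ} {M : Fin n → Fin n → R[X]} {u v : Fin n → R} (huv : ∑ i, v i * u i = 1)
    (hM0 : ∀ i j, (M i j).coeff 0 = u i * v j) (HF : HasFieldFactorizations M) :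
    ∃ f g : Fin n → R[X], (∀ i j, M i j = f i * g j) ∧ ∑ i, g i * f i = 1 := by
  obtain ⟨F, G, hFG⟩ := exists_isNF_piRes HF huv hM0
  obtain ⟨hFint, hGint⟩ := hFG.isIntegral_coeff huv
  obtain ⟨F', G', hFG', hF', hG'⟩ := hFG.exists_restrict
  have hinjS := algebraMap_piRes_injective R
  have hinjA : Function.Injective (algebraMap R (Algebra.adjoin R (coeffSet F G))) := by
    intro a b hab
    apply hinjS
    have := congrArg (algebraMap (Algebra.adjoin R (coeffSet F G)) (PiRes R)) hab
    rwa [← IsScalarTower.algebraMap_apply, ← IsScalarTower.algebraMap_apply] at this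
  have hredA : IsReduced (Algebra.adjoin R (coeffSet F G)) :=
    isReduced_of_injective (algebraMap (Algebra.adjoin R (coeffSet F G)) (PiRes R)) Subtype.val_injective
  have hfinA : Module.Finite R (Algebra.adjoin R (coeffSet F G)) := by
    have hfg : (Algebra.adjoin R (coeffSet F G)).toSubmodule.FG := by
      apply fg_adjoin_of_finite (coeffSet_finite F G)
      rintro x (⟨i, k, rfl⟩ | ⟨j, k, rfl⟩)
      · exact hFint i k
      · exact hGint j k
    exact Module.Finite.iff_fg.2 hfg
  have hsnA : ∀ t : (Algebra.adjoin R (coeffSet F G)), t ^ 2 ∈ (algebraMap R (Algebra.adjoin R (coeffSet F G))).range → t ^ 3 ∈ (algebraMap R (Algebra.adjoin R (coeffSet F G))).range →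
      t ∈ (algebraMap R (Algebra.adjoin R (coeffSet F G))).range := by
    rintro t ⟨c, hc⟩ ⟨b, hb⟩
    have hbc : c ^ 3 = b ^ 2 := by
      apply hinjA
      rw [map_pow, map_pow, hc, hb]
      ring
    obtain ⟨a, ha1, ha2⟩ := hR c b hbc
    refine ⟨a, eq_of_sq_eq_of_cube_eq ?_ ?_⟩
    · rw [← map_pow, ← ha1, hc]
    · rw [← map_pow, ← ha2, hb]
  have hgen : Algebra.adjoin R (coeffSet F' G') = ⊤ := by
    have hsub : ((↑) : (Algebra.adjoin R (coeffSet F G)) → PiRes R) ⁻¹' (coeffSet F G) ⊆ coeffSet F' G' := by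
      rintro x (⟨i, k, hx⟩ | ⟨j, k, hx⟩)
      · refine Or.inl ⟨i, k, Subtype.ext ?_⟩
        rw [← hx, ← hF' i, coeff_map]
        rfl
      · refine Or.inr ⟨j, k, Subtype.ext ?_⟩
        rw [← hx, ← hG' j, coeff_map]
        rfl
    rw [eq_top_iff, ← Algebra.adjoin_adjoin_coe_preimage (R := R) (s := coeffSet F G)]
    exact Algebra.adjoin_mono hsub
  have hsurj := surjective_of_seminormalIn hsnA huv hM0 HF hFG' hgen
  have hfl : ∀ i, ∃ q : R[X], q.map (algebraMap R (Algebra.adjoin R (coeffSet F G))) = F' i := fun i => by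
    rw [← mem_lifts, lifts_iff_coeff_lifts]
    exact fun k => hsurj _
  have hgl : ∀ j, ∃ q : R[X], q.map (algebraMap R (Algebra.adjoin R (coeffSet F G))) = G' j := fun j => by
    rw [← mem_lifts, lifts_iff_coeff_lifts]
    exact fun k => hsurj _
  choose f hf using hfl
  choose g hg using hgl
  have hinj : Function.Injective (Polynomial.map (algebraMap R (Algebra.adjoin R (coeffSet F G)))) :=
    Polynomial.map_injective _ hinjA
  refine ⟨f, g, fun i j => ?_, ?_⟩
  · apply hinj
    rw [Polynomial.map_mul, hf, hg]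
    exact hFG'.mul i j
  · apply hinj
    rw [Polynomial.map_sum, Polynomial.map_one]
    simp only [Polynomial.map_mul, hf, hg]
    exact hFG'.sum

end Descend

section Modules

variable {A : Type*} [CommRing A] {P : Type*} [AddCommGroup P] [Module A P]

lemma exists_dual_basis (A : Type*) [CommRing A] (P : Type*) [AddCommGroup P] [Module A P]
    [Module.Finite A P] [Module.Projective A P] :
    ∃ (n : ℕ) (x : Fin n → P) (φ : Fin n → (P →ₗ[A] A)), ∀ y, ∑ i, φ i y • x i = y := by
  obtain ⟨n, x, hx⟩ := Module.Finite.exists_fin (R := A) (M := P)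
  have hsurj : Function.Surjective (Fintype.linearCombination A x) := by
    rw [← LinearMap.range_eq_top, Fintype.range_linearCombination, hx]
  obtain ⟨ι, hι⟩ := Module.projective_lifting_property (Fintype.linearCombination A x)
    LinearMap.id hsurj
  refine ⟨n, x, fun i => (LinearMap.proj i).comp ι, fun y => ?_⟩
  have := LinearMap.congr_fun hι y
  simpa [Fintype.linearCombination_apply] using this

/-- If the base change of `P` to `B` is free of rank one, the matrix `φ i (x j)` of a dual
basis factors over `B` as a column times a row. -/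
theorem exists_factor_of_free {B : Type*} [CommRing B] [Algebra A B] {n : ℕ} (x : Fin n → P)
    (φ : Fin n → (P →ₗ[A] A)) (hxφ : ∀ y, ∑ i, φ i y • x i = y) (e : B ≃ₗ[B] B ⊗[A] P) :
    ∃ f g : Fin n → B, (∀ i j, algebraMap A B (φ i (x j)) = f i * g j) ∧
      ∑ i, g i * f i = 1 := by
  let φB : Fin n → (B ⊗[A] P →ₗ[B] B) := fun i =>
    LinearMap.liftBaseChange B ((Algebra.linearMap A B).comp (φ i))
  have hφB : ∀ i b y, φB i (b ⊗ₜ y) = b * algebraMap A B (φ i y) := by
    intro i b y
    simp [φB]
  have hz : ∀ z : B ⊗[A] P, ∑ i, φB i z • ((1 : B) ⊗ₜ[A] x i) = z := by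
    intro z
    induction z using TensorProduct.induction_on with
    | zero => simp
    | tmul b y =>
      have h1 : ∀ i, φB i (b ⊗ₜ y) • ((1 : B) ⊗ₜ[A] x i) = b ⊗ₜ[A] (φ i y • x i) := by
        intro i
        rw [hφB, TensorProduct.smul_tmul', smul_eq_mul, mul_one, TensorProduct.tmul_smul,
          TensorProduct.smul_tmul', Algebra.smul_def, mul_comm]
      simp only [h1]
      rw [← TensorProduct.tmul_sum, hxφ]
    | add z w hz hw =>
      simp only [map_add, add_smul, Finset.sum_add_distrib, hz, hw]
  set e₁ := e 1 with he₁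
  let f : Fin n → B := fun i => φB i e₁
  let g : Fin n → B := fun j => e.symm ((1 : B) ⊗ₜ[A] x j)
  have hg : ∀ j, (1 : B) ⊗ₜ[A] x j = g j • e₁ := by
    intro j
    rw [he₁, ← map_smul, smul_eq_mul, mul_one]
    exact (e.apply_symm_apply _).symm
  refine ⟨f, g, fun i j => ?_, ?_⟩
  · have := hφB i 1 (x j)
    rw [one_mul] at this
    rw [← this, hg j, map_smul, smul_eq_mul, mul_comm]
  · have h1 := hz e₁
    have h2 : ∑ i, φB i e₁ • ((1 : B) ⊗ₜ[A] x i) = (∑ i, g i * f i) • e₁ := by
      rw [Finset.sum_smul]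
      refine Finset.sum_congr rfl fun i _ => ?_
      rw [hg i, smul_smul, mul_comm]
    rw [h2] at h1
    have h3 := congrArg e.symm h1
    rw [map_smul, he₁, e.symm_apply_apply, smul_eq_mul, mul_one] at h3
    exact h3

/-- Conversely a factorization over `A` itself shows that `P` is free. -/
theorem free_of_factor {n : ℕ} (x : Fin n → P) (φ : Fin n → (P →ₗ[A] A))
    (hxφ : ∀ y, ∑ i, φ i y • x i = y) (f g : Fin n → A)
    (hmul : ∀ i j, φ i (x j) = f i * g j) (hsum : ∑ i, g i * f i = 1) : Module.Free A P := by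
  set e : P := ∑ i, f i • x i with he
  have hφe : ∀ k, φ k e = f k := by
    intro k
    rw [he, map_sum]
    calc ∑ i, φ k (f i • x i) = ∑ i, f k * (g i * f i) := by
          refine Finset.sum_congr rfl fun i _ => ?_
          rw [map_smul, hmul, smul_eq_mul]
          ring
      _ = f k := by rw [← Finset.mul_sum, hsum, mul_one]
  have hxe : ∀ j, x j = g j • e := by
    intro j
    calc x j = ∑ i, φ i (x j) • x i := (hxφ _).symm
      _ = ∑ i, g j • (f i • x i) := by
          refine Finset.sum_congr rfl fun i _ => ?_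
          rw [hmul, smul_smul, mul_comm]
      _ = g j • e := by rw [he, Finset.smul_sum]
  let L : A →ₗ[A] P := LinearMap.toSpanSingleton A P e
  have hL : ∀ a, L a = a • e := fun a => rfl
  have hsurj : Function.Surjective L := by
    intro y
    refine ⟨∑ i, φ i y * g i, ?_⟩
    rw [hL, Finset.sum_smul]
    calc ∑ i, (φ i y * g i) • e = ∑ i, φ i y • x i := by
          refine Finset.sum_congr rfl fun i _ => ?_
          rw [hxe i, smul_smul]
      _ = y := hxφ y
  have hinj : Function.Injective L := by
    rw [injective_iff_map_eq_zero]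
    intro a ha
    rw [hL] at ha
    calc a = a * ∑ i, g i * f i := by rw [hsum, mul_one]
      _ = ∑ i, g i * φ i (a • e) := by
          rw [Finset.mul_sum]
          refine Finset.sum_congr rfl fun i _ => ?_
          rw [map_smul, hφe, smul_eq_mul]
          ring
      _ = 0 := by simp [ha]
  exact Module.Free.of_equiv (LinearEquiv.ofBijective L ⟨hinj, hsurj⟩)

end Modules

/-- **Traverso–Swan–Coquand, local case**: over a seminormal local ring `R`, every invertible
`R[X]`-module is free. -/
theorem free_of_invertible_polynomial_of_seminormal_local {R : Type u} [CommRing R]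
    [IsLocalRing R] [IsReduced R]
    (hR : ∀ x y : R, x ^ 3 = y ^ 2 → ∃ a : R, x = a ^ 2 ∧ y = a ^ 3)
    (P : Type u) [AddCommGroup P] [Module R[X] P] [Module.Invertible R[X] P] :
    Module.Free R[X] P := by
  obtain ⟨n, x, φ, hxφ⟩ := exists_dual_basis R[X] P
  let M : Fin n → Fin n → R[X] := fun i j => φ i (x j)
  obtain ⟨u, v, hM0, huv⟩ : ∃ u v : Fin n → R,
      (∀ i j, (M i j).coeff 0 = u i * v j) ∧ ∑ i, v i * u i = 1 := by
    let : Algebra R[X] R := (constantCoeff : R[X] →+* R).toAlgebra
    have hfree : Module.Free R (R ⊗[R[X]] P) := inferInstance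
    obtain ⟨e⟩ := Module.Invertible.free_iff_linearEquiv.1 hfree
    obtain ⟨f, g, h1, h2⟩ := exists_factor_of_free x φ hxφ e.symm
    refine ⟨f, g, fun i j => ?_, h2⟩
    have := h1 i j
    rwa [RingHom.algebraMap_toAlgebra, constantCoeff_apply] at this
  have HF : HasFieldFactorizations M := by
    intro K _ ψ
    let : Algebra R[X] K[X] := (mapRingHom ψ).toAlgebra
    have hfree : Module.Free K[X] (K[X] ⊗[R[X]] P) := inferInstance
    obtain ⟨e⟩ := Module.Invertible.free_iff_linearEquiv.1 hfree
    obtain ⟨f, g, h1, h2⟩ := exists_factor_of_free x φ hxφ e.symm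
    refine ⟨f, g, fun i j => ?_, h2⟩
    have := h1 i j
    rwa [RingHom.algebraMap_toAlgebra, coe_mapRingHom] at this
  obtain ⟨f, g, hmul, hsum⟩ := exists_factorization_of_seminormal hR huv hM0 HF
  exact free_of_factor x φ hxφ f g hmul hsum

end Groth.Agent.Lib.helper12.Swan
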