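import Mathlib

/-
helper12: representation theory of Heisenberg-type groups (non-degenerate theta groups on points):
`1 → kˣ → Γ → K → 1` central with `K` finite abelian and `ι(kˣ)` the whole centre.

* `cHom`: the commutator pairing `g ↦ ι⁻¹ ⁅g, x⁆` as a character.
* `burnside`: Burnside's theorem for irreducible finite-dimensional representations.
* `linearIndependent_rho_out`, `finrank_sq`: `(dim V)² = |K|` for irreducible weight one `V`.
* `character_eq_zero`: the character of a weight one representation vanishes off the centre.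
* `nonempty_equiv`: any two irreducible weight one representations are equivalent.
* `exists_irreducible_subrep`, `exists_irreducible_weight_one`: existence.
-/

set_option linter.style.haveILetI false
set_option linter.unusedSectionVars false
set_option autoImplicit false
universe u
open Representation
open scoped commutatorElement

namespace Groth.Agent.Lib.helper12.ThetaRep

section grp

variable {k : Type u} [Field k] {Γ : Type u} [Group Γ] {ι : kˣ →* Γ}

theorem iota_comm (hcent : ι.range = Subgroup.center Γ) (z : kˣ) (g : Γ) :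
    ι z * g = g * ι z := by
  have : ι z ∈ Subgroup.center Γ := hcent ▸ ⟨z, rfl⟩
  exact (Subgroup.mem_center_iff.mp this g).symm

theorem exists_iota_eq_commutator (hcomm : commutator Γ ≤ ι.range) (g x : Γ) :
    ∃ z : kˣ, ι z = ⁅g, x⁆ := by
  have : ⁅g, x⁆ ∈ commutator Γ := by
    rw [commutator_def]
    exact Subgroup.commutator_mem_commutator (Subgroup.mem_top g) (Subgroup.mem_top x)
  exact hcomm this

/-- the commutator pairing `g ↦ ι⁻¹ ⁅g, x⁆`. -/
noncomputable def cfun (hcomm : commutator Γ ≤ ι.range) (x g : Γ) : kˣ :=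
  Classical.choose (exists_iota_eq_commutator hcomm g x)

theorem iota_cfun (hcomm : commutator Γ ≤ ι.range) (x g : Γ) :
    ι (cfun hcomm x g) = ⁅g, x⁆ :=
  Classical.choose_spec (exists_iota_eq_commutator hcomm g x)

theorem mul_eq_cfun (hcomm : commutator Γ ≤ ι.range) (x g : Γ) :
    g * x = ι (cfun hcomm x g) * (x * g) := by
  rw [iota_cfun, commutatorElement_def]
  group

theorem cfun_mul (hι : Function.Injective ι) (hcent : ι.range = Subgroup.center Γ)
    (hcomm : commutator Γ ≤ ι.range) (x g g' : Γ) :
    cfun hcomm x (g * g') = cfun hcomm x g * cfun hcomm x g' := by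
  apply hι
  rw [map_mul, iota_cfun]
  have h1 : ⁅g * g', x⁆ = g * ⁅g', x⁆ * g⁻¹ * ⁅g, x⁆ := by
    simp only [commutatorElement_def]; group
  rw [h1, ← iota_cfun hcomm x g', ← iota_comm hcent, mul_inv_cancel_right, ← iota_cfun hcomm x g,
    ← map_mul, ← map_mul, mul_comm]

theorem cfun_one (hι : Function.Injective ι) (hcomm : commutator Γ ≤ ι.range) (x : Γ) :
    cfun hcomm x 1 = 1 := by
  apply hι
  rw [iota_cfun, map_one, commutatorElement_one_left]

/-- the commutator pairing as a monoid hom into `k`. -/
noncomputable def cHom (hι : Function.Injective ι) (hcent : ι.range = Subgroup.center Γ)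
    (hcomm : commutator Γ ≤ ι.range) (x : Γ) : Γ →* k where
  toFun g := ((cfun hcomm x g : kˣ) : k)
  map_one' := by rw [cfun_one hι hcomm]; rfl
  map_mul' g g' := by rw [cfun_mul hι hcent hcomm, Units.val_mul]

theorem cHom_apply (hι : Function.Injective ι) (hcent : ι.range = Subgroup.center Γ)
    (hcomm : commutator Γ ≤ ι.range) (x g : Γ) :
    cHom hι hcent hcomm x g = ((cfun hcomm x g : kˣ) : k) := rfl

/-- distinct cosets give distinct characters. -/
theorem cHom_injective (hι : Function.Injective ι) (hcent : ι.range = Subgroup.center Γ)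
    (hcomm : commutator Γ ≤ ι.range) (x y : Γ)
    (h : cHom hι hcent hcomm x = cHom hι hcent hcomm y) :
    (QuotientGroup.mk x : Γ ⧸ ι.range) = QuotientGroup.mk y := by
  rw [QuotientGroup.eq, hcent, Subgroup.mem_center_iff]
  intro g
  have h1 : cfun hcomm x g⁻¹ = cfun hcomm y g⁻¹ := by
    have := DFunLike.congr_fun h g⁻¹
    rw [cHom_apply, cHom_apply] at this
    exact Units.ext this
  have h2 : ⁅g⁻¹, x⁆ = ⁅g⁻¹, y⁆ := by
    rw [← iota_cfun hcomm, ← iota_cfun hcomm, h1]
  simp only [commutatorElement_def, inv_inv] at h2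
  -- g⁻¹ x g x⁻¹ = g⁻¹ y g y⁻¹
  have h3 : x * g * x⁻¹ = y * g * y⁻¹ := by
    have := congrArg (fun t => g * t) h2
    simpa [mul_assoc] using this
  calc g * (x⁻¹ * y) = x⁻¹ * (x * g * x⁻¹) * y := by group
    _ = x⁻¹ * (y * g * y⁻¹) * y := by rw [h3]
    _ = x⁻¹ * y * g := by group

/-- every element is a representative times a central element. -/
theorem exists_eq_out_mul (g : Γ) :
    ∃ z : kˣ, g = Quotient.out (QuotientGroup.mk g : Γ ⧸ ι.range) * ι z := by
  have h : (QuotientGroup.mk (Quotient.out (QuotientGroup.mk g : Γ ⧸ ι.range)) : Γ ⧸ ι.range) =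
      QuotientGroup.mk g := QuotientGroup.out_eq' _
  rw [QuotientGroup.eq] at h
  obtain ⟨z, hz⟩ := h
  exact ⟨z, by rw [hz]; group⟩

end grp

section burn

variable {k : Type u} [Field k] {Γ : Type u} [Group Γ]
  {V : Type u} [AddCommGroup V] [Module k V] (ρ : Representation k Γ V)

theorem asAlgebraHom_mem_span (r : MonoidAlgebra k Γ) :
    ρ.asAlgebraHom r ∈ Submodule.span k (Set.range fun g : Γ => (ρ g : V →ₗ[k] V)) := by
  induction r using MonoidAlgebra.induction_linear with
  | zero => simp
  | add f g hf hg => rw [map_add]; exact Submodule.add_mem _ hf hg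
  | single g c =>
    rw [asAlgebraHom_single]
    exact Submodule.smul_mem _ _ (Submodule.subset_span ⟨g, rfl⟩)

theorem burnside [FiniteDimensional k V] [IsAlgClosed k] [IsIrreducible ρ] (f : V →ₗ[k] V) :
    f ∈ Submodule.span k (Set.range fun g : Γ => (ρ g : V →ₗ[k] V)) := by
  have hS : Function.Bijective (algebraMap k (Module.End (MonoidAlgebra k Γ) ρ.asModule)) :=
    IsSimpleModule.algebraMap_end_bijective_of_isAlgClosed k
  haveI : Module.Finite (Module.End (MonoidAlgebra k Γ) ρ.asModule) ρ.asModule :=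
    Module.Finite.of_restrictScalars_finite k _ _
  have hsurj := Module.Finite.toModuleEnd_moduleEnd_surjective (R := MonoidAlgebra k Γ)
    (M := ρ.asModule)
  let f' : Module.End (Module.End (MonoidAlgebra k Γ) ρ.asModule) ρ.asModule :=
    { toFun := fun m => ρ.asModuleEquiv.symm (f (ρ.asModuleEquiv m))
      map_add' := fun a b => by simp
      map_smul' := fun φ m => by
        obtain ⟨c, rfl⟩ := hS.2 φ
        have h1 : ∀ m' : ρ.asModule,
            (algebraMap k (Module.End (MonoidAlgebra k Γ) ρ.asModule) c) • m' = c • m' :=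
          fun m' => by rw [Module.End.smul_def, Module.algebraMap_end_apply]
        simp only [RingHom.id_apply]
        rw [h1, h1, map_smul, map_smul, map_smul] }
  obtain ⟨r, hr⟩ := hsurj f'
  have : f = ρ.asAlgebraHom r := by
    ext v
    have := LinearMap.congr_fun hr (ρ.asModuleEquiv.symm v)
    exact this.symm
  rw [this]
  exact asAlgebraHom_mem_span ρ r

end burn


section wt

variable {k : Type u} [Field k] {Γ : Type u} [Group Γ] {ι : kˣ →* Γ}
  (hι : Function.Injective ι) (hcent : ι.range = Subgroup.center Γ)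
  (hcomm : commutator Γ ≤ ι.range)
  {V : Type u} [AddCommGroup V] [Module k V] (ρ : Representation k Γ V)
  (hw : ∀ (z : kˣ) (v : V), ρ (ι z) v = (z : k) • v)

include hw in
theorem rho_iota (z : kˣ) : ρ (ι z) = (z : k) • (1 : V →ₗ[k] V) := by
  ext v
  rw [hw]
  rfl

include hw in
theorem rho_conj (x g : Γ) :
    ρ g * ρ x = (cHom hι hcent hcomm x g) • (ρ x * ρ g) := by
  rw [← map_mul, mul_eq_cfun hcomm x g, map_mul, rho_iota ρ hw, map_mul, cHom_apply,
    smul_mul_assoc, one_mul]

include hw in
theorem rho_conj' (x g : Γ) :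
    ρ g * ρ x * ρ g⁻¹ = (cHom hι hcent hcomm x g) • ρ x := by
  rw [rho_conj hι hcent hcomm ρ hw, smul_mul_assoc, mul_assoc, ← map_mul, mul_inv_cancel, map_one,
    mul_one]

theorem rho_ne_zero [Nontrivial V] (x : Γ) : ρ x ≠ 0 := by
  intro h
  have h1 : (1 : V →ₗ[k] V) = ρ x⁻¹ * ρ x := by rw [← map_mul, inv_mul_cancel, map_one]
  rw [h, mul_zero] at h1
  exact one_ne_zero h1

include hι hcent hcomm hw in
/-- the operators `ρ (s x)`, `x ∈ Γ/ι(kˣ)`, are linearly independent. -/
theorem linearIndependent_rho_out [Nontrivial V] [Finite (Γ ⧸ ι.range)] :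
    LinearIndependent k (fun x : Γ ⧸ ι.range => (ρ (Quotient.out x) : V →ₗ[k] V)) := by
  classical
  haveI : Fintype (Γ ⧸ ι.range) := Fintype.ofFinite _
  have hD : LinearIndependent k
      (fun x : Γ ⧸ ι.range => (cHom hι hcent hcomm (Quotient.out x) : Γ → k)) := by
    refine (linearIndependent_monoidHom Γ k).comp
      (fun x : Γ ⧸ ι.range => cHom hι hcent hcomm (Quotient.out x)) ?_
    intro x y hxy
    have := cHom_injective hι hcent hcomm _ _ hxy
    rwa [QuotientGroup.out_eq', QuotientGroup.out_eq'] at this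
  rw [Fintype.linearIndependent_iff] at hD ⊢
  intro a ha x
  -- conjugate the relation
  have h1 : ∀ g : Γ, ∑ y : Γ ⧸ ι.range,
      (a y * cHom hι hcent hcomm (Quotient.out y) g) • (ρ (Quotient.out y) : V →ₗ[k] V) = 0 := by
    intro g
    have h2 : ρ g * (∑ y : Γ ⧸ ι.range, a y • (ρ (Quotient.out y) : V →ₗ[k] V)) * ρ g⁻¹ = 0 := by
      rw [ha, mul_zero, zero_mul]
    rw [Finset.mul_sum, Finset.sum_mul] at h2
    rw [← h2]
    refine Finset.sum_congr rfl fun y _ => ?_
    rw [mul_smul_comm, smul_mul_assoc, rho_conj' hι hcent hcomm ρ hw, smul_smul]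
  have h3 : ∀ ψ : Module.Dual k (V →ₗ[k] V), a x * ψ (ρ (Quotient.out x)) = 0 := by
    intro ψ
    refine hD (fun y => a y * ψ (ρ (Quotient.out y))) ?_ x
    funext g
    have := congrArg ψ (h1 g)
    rw [map_sum, map_zero] at this
    simp only [Finset.sum_apply, Pi.smul_apply, Pi.zero_apply, smul_eq_mul]
    rw [← this]
    refine Finset.sum_congr rfl fun y _ => ?_
    rw [map_smul, smul_eq_mul]
    ring
  have h4 : a x • (ρ (Quotient.out x) : V →ₗ[k] V) = 0 := by
    rw [← Module.forall_dual_apply_eq_zero_iff k]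
    intro ψ
    rw [map_smul, smul_eq_mul]
    exact h3 ψ
  exact (smul_eq_zero.mp h4).resolve_right (rho_ne_zero ρ _)

theorem nontrivial_of_isIrreducible [IsIrreducible ρ] : Nontrivial V := by
  by_contra h
  rw [not_nontrivial_iff_subsingleton] at h
  have : (⊥ : Subrepresentation ρ) = ⊤ :=
    Subrepresentation.toSubmodule_injective (Subsingleton.elim _ _)
  exact bot_ne_top this

include hw in
theorem span_rho_out [FiniteDimensional k V] [IsAlgClosed k] [IsIrreducible ρ] :
    ⊤ ≤ Submodule.span k
      (Set.range fun x : Γ ⧸ ι.range => (ρ (Quotient.out x) : V →ₗ[k] V)) := by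
  intro f _
  have := burnside ρ f
  refine Submodule.span_le.mpr ?_ this
  rintro _ ⟨g, rfl⟩
  obtain ⟨z, hz⟩ := exists_eq_out_mul (ι := ι) g
  simp only
  rw [hz, map_mul, rho_iota ρ hw, mul_smul_comm, mul_one]
  exact Submodule.smul_mem _ _ (Submodule.subset_span ⟨_, rfl⟩)

include hι hcent hcomm hw in
theorem finrank_sq [FiniteDimensional k V] [IsAlgClosed k] [IsIrreducible ρ]
    [Finite (Γ ⧸ ι.range)] :
    Module.finrank k V ^ 2 = Nat.card (Γ ⧸ ι.range) := by
  haveI : Nontrivial V := nontrivial_of_isIrreducible ρ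
  have hli := linearIndependent_rho_out hι hcent hcomm ρ hw
  have hspan := span_rho_out ρ hw
  let b := Module.Basis.mk hli hspan
  have := Module.finrank_eq_nat_card_basis b
  rw [Module.finrank_linearMap k k V V] at this
  rw [← this, sq]

include hι hcent hcomm hw in
theorem character_eq_zero [FiniteDimensional k V] (x : Γ) (hx : x ∉ ι.range) :
    ρ.character x = 0 := by
  rw [hcent, Subgroup.mem_center_iff] at hx
  push Not at hx
  obtain ⟨g, hg⟩ := hx
  have h1 : ρ.character (g * x * g⁻¹) = ρ.character x := char_conj ρ x g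
  have h2 : ρ (g * x * g⁻¹) = (cHom hι hcent hcomm x g) • ρ x := by
    rw [map_mul, map_mul, rho_conj' hι hcent hcomm ρ hw]
  have h3 : cHom hι hcent hcomm x g ≠ 1 := by
    intro h
    apply hg
    have h4 : cfun hcomm x g = 1 := Units.ext h
    have := mul_eq_cfun hcomm x g
    rw [h4, map_one, one_mul] at this
    exact this
  unfold character at h1 ⊢
  rw [h2, map_smul, smul_eq_mul] at h1
  have h5 : (cHom hι hcent hcomm x g - 1) * LinearMap.trace k V (ρ x) = 0 := by
    linear_combination h1
  exact (mul_eq_zero.mp h5).resolve_left (sub_ne_zero.mpr h3)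

include hw in
theorem character_iota [FiniteDimensional k V] (z : kˣ) :
    ρ.character (ι z) = (z : k) * (Module.finrank k V : k) := by
  unfold character
  rw [rho_iota ρ hw, map_smul, LinearMap.trace_one, smul_eq_mul]

theorem natCard_ne_zero_of_coprime (N : ℕ) (hN : 0 < N) (hcop : N.Coprime (ringExpChar k)) :
    (N : k) ≠ 0 := by
  have hE := ringExpChar.expChar k
  generalize ringExpChar k = p at hE hcop
  rcases hE with _ | ⟨hp⟩
  · exact Nat.cast_ne_zero.mpr hN.ne'
  · intro h0
    rw [CharP.cast_eq_zero_iff k p] at h0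
    have := Nat.Coprime.eq_one_of_dvd hcop.symm h0
    exact hp.ne_one this

section uniq

variable {W : Type u} [AddCommGroup W] [Module k W] (σ : Representation k Γ W)
  (hwσ : ∀ (z : kˣ) (w : W), σ (ι z) w = (z : k) • w)

include hw hwσ in
theorem linHom_iota (z : kˣ) : linHom ρ σ (ι z) = 1 := by
  ext f v
  rw [linHom_apply, ← map_inv, rho_iota ρ hw, rho_iota σ hwσ]
  simp [smul_smul]

include hw hwσ in
theorem linHom_mul_iota (g : Γ) (z : kˣ) : linHom ρ σ (g * ι z) = linHom ρ σ g := by
  rw [map_mul, linHom_iota ρ hw σ hwσ, mul_one]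

include hw hwσ in
/-- the averaging operator is invariant under left translation. -/
theorem linHom_mul_sum [Fintype (Γ ⧸ ι.range)] (h : Γ) :
    linHom ρ σ h * (∑ x : Γ ⧸ ι.range, linHom ρ σ (Quotient.out x)) =
      ∑ x : Γ ⧸ ι.range, linHom ρ σ (Quotient.out x) := by
  rw [Finset.mul_sum]
  have h1 : ∀ x : Γ ⧸ ι.range, linHom ρ σ h * linHom ρ σ (Quotient.out x) =
      linHom ρ σ (Quotient.out (h • x)) := by
    intro x
    rw [← map_mul]
    obtain ⟨z, hz⟩ := exists_eq_out_mul (ι := ι) (h * Quotient.out x)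
    have h2 : (QuotientGroup.mk (h * Quotient.out x) : Γ ⧸ ι.range) = h • x := by
      conv_rhs => rw [← QuotientGroup.out_eq' x]
      rfl
    rw [h2] at hz
    rw [hz, linHom_mul_iota ρ hw σ hwσ]
  simp_rw [h1]
  exact Fintype.sum_equiv (MulAction.toPerm h) _ _ (fun x => rfl)

include hι hcent hcomm hw hwσ in
theorem trace_sum_linHom [FiniteDimensional k V] [FiniteDimensional k W] [Fintype (Γ ⧸ ι.range)] :
    LinearMap.trace k (V →ₗ[k] W) (∑ x : Γ ⧸ ι.range, linHom ρ σ (Quotient.out x)) =
      (Module.finrank k V : k) * (Module.finrank k W : k) := by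
  classical
  rw [map_sum]
  have h1 : ∀ x : Γ ⧸ ι.range, LinearMap.trace k (V →ₗ[k] W) (linHom ρ σ (Quotient.out x)) =
      ρ.character (Quotient.out x)⁻¹ * σ.character (Quotient.out x) := fun x => char_linHom ρ σ _
  simp_rw [h1]
  rw [Finset.sum_eq_single (QuotientGroup.mk 1 : Γ ⧸ ι.range)]
  · have hmem : Quotient.out (QuotientGroup.mk 1 : Γ ⧸ ι.range) ∈ ι.range := by
      have := QuotientGroup.out_eq' (QuotientGroup.mk 1 : Γ ⧸ ι.range)
      rw [QuotientGroup.eq] at this
      simpa using this
    obtain ⟨z, hz⟩ := hmem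
    rw [← hz, ← map_inv, character_iota ρ hw, character_iota σ hwσ]
    have : ((z⁻¹ : kˣ) : k) * (z : k) = 1 := by rw [← Units.val_mul, inv_mul_cancel]; rfl
    linear_combination (Module.finrank k V : k) * (Module.finrank k W : k) * this
  · intro x _ hx
    have hnot : Quotient.out x ∉ ι.range := by
      intro hmem
      apply hx
      rw [← QuotientGroup.out_eq' x, QuotientGroup.eq]
      simpa using ι.range.inv_mem hmem
    rw [character_eq_zero hι hcent hcomm σ hwσ _ hnot, mul_zero]
  · intro h
    exact absurd (Finset.mem_univ _) h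

include hι hcent hcomm hw hwσ in
theorem nonempty_equiv [FiniteDimensional k V] [FiniteDimensional k W] [IsAlgClosed k]
    [IsIrreducible ρ] [IsIrreducible σ] [Finite (Γ ⧸ ι.range)]
    (hcop : (Nat.card (Γ ⧸ ι.range)).Coprime (ringExpChar k)) :
    Nonempty (Representation.Equiv ρ σ) := by
  classical
  haveI : Fintype (Γ ⧸ ι.range) := Fintype.ofFinite _
  have hV := finrank_sq hι hcent hcomm ρ hw
  have hW := finrank_sq hι hcent hcomm σ hwσ
  have hVW : Module.finrank k V = Module.finrank k W :=
    Nat.pow_left_injective (n := 2) (by norm_num) (hV.trans hW.symm)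
  set E : Module.End k (V →ₗ[k] W) := ∑ x : Γ ⧸ ι.range, linHom ρ σ (Quotient.out x) with hE
  have htr : LinearMap.trace k (V →ₗ[k] W) E ≠ 0 := by
    rw [hE, trace_sum_linHom hι hcent hcomm ρ hw σ hwσ, ← hVW, ← Nat.cast_mul, ← sq, hV]
    exact natCard_ne_zero_of_coprime _ Nat.card_pos hcop
  have hE0 : E ≠ 0 := by
    intro h
    rw [h, map_zero] at htr
    exact htr rfl
  obtain ⟨f, hf⟩ : ∃ f, E f ≠ 0 := by
    by_contra hcon
    push Not at hcon
    exact hE0 (LinearMap.ext hcon)
  have hinv : ∀ h : Γ, linHom ρ σ h (E f) = E f := by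
    intro h
    have := linHom_mul_sum ρ hw σ hwσ h
    rw [← hE] at this
    exact LinearMap.congr_fun this f
  let A : IntertwiningMap ρ σ :=
    { toLinearMap := E f
      isIntertwining' := fun g => by
        have h1 := hinv g
        rw [linHom_apply] at h1
        conv_lhs => rw [← h1]
        rw [LinearMap.comp_assoc, LinearMap.comp_assoc]
        have : ρ g⁻¹ ∘ₗ ρ g = LinearMap.id := by
          change ρ g⁻¹ * ρ g = 1
          rw [← map_mul, inv_mul_cancel, map_one]
        rw [this, LinearMap.comp_id] }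
  have hA : A ≠ 0 := by
    intro h
    apply hf
    have := congrArg IntertwiningMap.toLinearMap h
    exact this
  rcases IsIrreducible.bijective_or_eq_zero A with hb | h0
  · exact ⟨A.ofBijective hb⟩
  · exact absurd h0 hA

end uniq

end wt

section exist

variable {k : Type u} [Field k] {Γ : Type u} [Group Γ]

/-- a nonzero finite-dimensional representation has an irreducible subrepresentation. -/
theorem exists_irreducible_subrep {W : Type u} [AddCommGroup W] [Module k W]
    [FiniteDimensional k W] [Nontrivial W] (ρ : Representation k Γ W) :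
    ∃ S : Subrepresentation ρ, IsIrreducible S.toRepresentation := by
  classical
  let P : ℕ → Prop := fun n =>
    ∃ S : Subrepresentation ρ, S ≠ ⊥ ∧ Module.finrank k S.toSubmodule = n
  have htop : (⊤ : Subrepresentation ρ) ≠ ⊥ := by
    intro h
    have h1 : (⊤ : Submodule k W) = ⊥ := congrArg Subrepresentation.toSubmodule h
    exact top_ne_bot h1
  have hP : ∃ n, P n := ⟨_, ⊤, htop, rfl⟩
  obtain ⟨S₀, hS₀, hfin⟩ := Nat.find_spec hP
  have hmin : ∀ S : Subrepresentation ρ, S ≠ ⊥ →
      Module.finrank k S₀.toSubmodule ≤ Module.finrank k S.toSubmodule := fun S hS => by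
    rw [hfin]
    exact Nat.find_min' hP ⟨S, hS, rfl⟩
  refine ⟨S₀, ?_⟩
  have hS₀' : S₀.toSubmodule ≠ ⊥ := fun h => hS₀ (Subrepresentation.toSubmodule_injective h)
  refine { exists_pair_ne := ⟨⊥, ⊤, ?_⟩, eq_bot_or_eq_top := ?_ }
  · intro h
    have h1 : (⊥ : Submodule k S₀.toSubmodule) = ⊤ := congrArg Subrepresentation.toSubmodule h
    apply hS₀'
    rw [Submodule.eq_bot_iff]
    intro v hv
    have : (⟨v, hv⟩ : S₀.toSubmodule) ∈ (⊥ : Submodule k S₀.toSubmodule) := by
      rw [h1]; exact Submodule.mem_top
    rw [Submodule.mem_bot] at this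
    exact congrArg Subtype.val this
  · intro τ
    -- push forward to a subrepresentation of `ρ`
    let up : Subrepresentation ρ :=
      { toSubmodule := τ.toSubmodule.map S₀.toSubmodule.subtype
        apply_mem_toSubmodule := by
          rintro g _ ⟨w, hw, rfl⟩
          exact ⟨S₀.toRepresentation g w, τ.apply_mem_toSubmodule g hw, rfl⟩ }
    by_cases hup : up = ⊥
    · left
      apply Subrepresentation.toSubmodule_injective
      have h1 : τ.toSubmodule.map S₀.toSubmodule.subtype = ⊥ :=
        congrArg Subrepresentation.toSubmodule hup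
      exact Submodule.map_injective_of_injective S₀.toSubmodule.injective_subtype
        (h1.trans (Submodule.map_bot _).symm)
    · right
      apply Subrepresentation.toSubmodule_injective
      have h1 := hmin up hup
      have h2 : up.toSubmodule ≤ S₀.toSubmodule := Submodule.map_subtype_le _ _
      have h3 : up.toSubmodule = S₀.toSubmodule := Submodule.eq_of_le_of_finrank_le h2 h1
      have h4 : τ.toSubmodule.map S₀.toSubmodule.subtype =
          (⊤ : Submodule k S₀.toSubmodule).map S₀.toSubmodule.subtype := by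
        rw [Submodule.map_subtype_top]
        exact h3
      exact Submodule.map_injective_of_injective S₀.toSubmodule.injective_subtype h4

end exist

section ind

variable {k : Type u} [Field k] {Γ : Type u} [Group Γ] {ι : kˣ →* Γ}

/-- the scalar representation of `kˣ` on `k`. -/
noncomputable def chi (k : Type u) [Field k] : Representation k kˣ k :=
  ((Algebra.lsmul k k k : k →ₐ[k] Module.End k k) : k →* Module.End k k).comp (Units.coeHom k)

theorem chi_apply (z : kˣ) (a : k) : chi k z a = (z : k) * a := rfl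

theorem finite_coindV (hcent : ι.range = Subgroup.center Γ) [Finite (Γ ⧸ ι.range)] :
    Module.Finite k (coindV ι (chi k)) := by
  let r : coindV ι (chi k) →ₗ[k] ((Γ ⧸ ι.range) → k) :=
    (LinearMap.funLeft k k (Quotient.out : Γ ⧸ ι.range → Γ)) ∘ₗ (coindV ι (chi k)).subtype
  refine Module.Finite.of_injective r ?_
  rw [injective_iff_map_eq_zero]
  intro f hf
  apply Subtype.ext
  funext g
  obtain ⟨z, hz⟩ := exists_eq_out_mul (ι := ι) g
  have h1 : f.1 g = (z : k) * f.1 (Quotient.out (QuotientGroup.mk g : Γ ⧸ ι.range)) := by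
    conv_lhs => rw [hz, ← iota_comm hcent]
    exact f.2 z _
  have h2 : f.1 (Quotient.out (QuotientGroup.mk g : Γ ⧸ ι.range)) = 0 :=
    congrFun hf (QuotientGroup.mk g)
  rw [h1, h2, mul_zero]
  rfl

theorem nontrivial_coindV (hι : Function.Injective ι) : Nontrivial (coindV ι (chi k)) := by
  classical
  let f₀ : Γ → k := fun g => if h : g ∈ ι.range then ((Classical.choose h : kˣ) : k) else 0
  have hf₀ : f₀ ∈ coindV ι (chi k) := by
    intro z g
    by_cases hg : g ∈ ι.range
    · have hzg : ι z * g ∈ ι.range := ι.range.mul_mem ⟨z, rfl⟩ hg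
      simp only [f₀, dif_pos hg, dif_pos hzg]
      have h1 := Classical.choose_spec hg
      have h2 := Classical.choose_spec hzg
      have : Classical.choose hzg = z * Classical.choose hg := hι (by rw [h2, map_mul, h1])
      rw [this]
      rfl
    · have hzg : ι z * g ∉ ι.range := fun h => hg (by
        have := ι.range.mul_mem (ι.range.inv_mem ⟨z, rfl⟩) h
        simpa using this)
      simp only [f₀, dif_neg hg, dif_neg hzg, map_zero]
  refine ⟨⟨⟨f₀, hf₀⟩, 0, ?_⟩⟩
  intro h
  have h0 : f₀ 1 = 0 := congrFun (congrArg Subtype.val h) 1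
  have h1 : (1 : Γ) ∈ ι.range := one_mem _
  simp only [f₀, dif_pos h1] at h0
  exact Units.ne_zero _ h0

theorem coind_iota (hcent : ι.range = Subgroup.center Γ) (z : kˣ) (f : coindV ι (chi k)) :
    coind ι (chi k) (ι z) f = (z : k) • f := by
  apply Subtype.ext
  funext g
  change f.1 (g * ι z) = (z : k) * f.1 g
  rw [← iota_comm hcent]
  exact f.2 z g

theorem exists_irreducible_weight_one (hι : Function.Injective ι)
    (hcent : ι.range = Subgroup.center Γ) [Finite (Γ ⧸ ι.range)] :
    ∃ V : FDRep k Γ, Representation.IsIrreducible V.ρ ∧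
      ∀ (z : kˣ) (v : V), V.ρ (ι z) v = (z : k) • v := by
  haveI := finite_coindV (k := k) hcent
  haveI := nontrivial_coindV (k := k) hι
  obtain ⟨S, hS⟩ := exists_irreducible_subrep (coind ι (chi k))
  refine ⟨FDRep.of (V := ↥S.toSubmodule) S.toRepresentation, ?_, ?_⟩
  · exact hS
  intro z v
  change S.toRepresentation (ι z) v = (z : k) • v
  apply Subtype.ext
  change (coind ι (chi k) (ι z)) v.1 = (z : k) • v.1
  exact coind_iota hcent z v.1

end ind

end Groth.Agent.Lib.helper12.ThetaRep
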