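import Mathlib
import Groth.Agent.Lib.Helper12.TildeFT2

/-!
# Under (TF), the sections of `M~` over `D₊(f)` are finitely generated (general degrees)
(helper12)

`finite_sections_basicOpen`: `𝒜₊` generated by finitely many homogeneous `g j` of positive
degrees, `M` with (TF), `f` homogeneous of positive degree `e`: `Γ(D₊(f), M~)` is a finite
`Γ(D₊(f), O)`-module.  `isFT_tilde_of_TF`: then `M~` is of finite type.
-/

set_option autoImplicit false
set_option linter.unusedSectionVars false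
universe u

open CategoryTheory AlgebraicGeometry Opposite TopologicalSpace

namespace Groth.Agent.Lib.helper12.TildeFT

open Groth.Agent.Lib.helper28.GrFrac Groth.Agent.Lib.helper28.GrTildeSec
  Groth.Agent.Lib.helper28.ProjSec Groth.Agent.Lib.helper28.TildeQCoh
  Groth.Agent.Lib.helper28.TwistFree

variable {R A : Type u} [CommRing R] [CommRing A] [Algebra R A] (𝒜 : ℕ → Submodule R A)
  [GradedAlgebra 𝒜]
variable {M : Type u} [AddCommGroup M] [Module R M] [Module A M] [IsScalarTower R A M]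
  (ℳ : ℕ → Submodule R M) [DirectSum.Decomposition ℳ] [SetLike.GradedSMul 𝒜 ℳ]

theorem finite_sections_basicOpen
    {J : Type u} [Fintype J] (g : J → A) (eg : J → ℕ) (hg : ∀ j, g j ∈ 𝒜 (eg j))
    (hpos : ∀ j, 0 < eg j)
    (hspan : (HomogeneousIdeal.irrelevant 𝒜).toIdeal = Ideal.span (Set.range g))
    (hTF : ∃ n : ℕ, (Submodule.span A (⋃ k ∈ Set.Ici n, (ℳ k : Set M))).FG)
    {e : ℕ} (he : 0 < e) {f : A} (hf : f ∈ 𝒜 e) :
    Module.Finite Γ(Proj 𝒜, Proj.basicOpen 𝒜 f)
      Γ(GrTilde.tilde 𝒜 ℳ 0, Proj.basicOpen 𝒜 f) := by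
  classical
  obtain ⟨n0, hn0⟩ := hTF
  obtain ⟨T, hTsub, hTspan⟩ := (Submodule.fg_span_iff_fg_span_finset_subset _).mp hn0
  have hdeg : ∀ t : M, t ∈ T → ∃ d : ℕ, n0 ≤ d ∧ t ∈ ℳ d := by
    intro t ht
    have := hTsub ht
    simp only [Set.mem_iUnion, Set.mem_Ici, SetLike.mem_coe, exists_prop] at this
    exact this
  choose! dT hdT1 hdT2 using hdeg
  -- the generating sections
  have hσ : ∀ p : (J → Fin e) × T, ∃ s : Γ(GrTilde.tilde 𝒜 ℳ 0, Proj.basicOpen 𝒜 f),
      ∀ k, wt eg p.1 + dT p.2.1 = k * e → IsFr 𝒜 ℳ s (mono g p.1 • p.2.1) k := by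
    intro p
    by_cases h : ∃ k, wt eg p.1 + dT p.2.1 = k * e
    · obtain ⟨k, hk⟩ := h
      have hm : mono g p.1 • p.2.1 ∈ ℳ (k * e) := by
        rw [← hk]
        exact SetLike.GradedSMul.smul_mem (mono_mem 𝒜 g eg hg p.1) (hdT2 _ p.2.2)
      obtain ⟨s, hs⟩ := IsFr.exists hf k _ hm
      refine ⟨s, fun k' hk' => ?_⟩
      have : k' = k := Nat.eq_of_mul_eq_mul_right he (hk'.symm.trans hk)
      subst this
      exact hs
    · exact ⟨0, fun k hk => (h ⟨k, hk⟩).elim⟩
  choose σ hσ using hσ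
  let N : Submodule Γ(Proj 𝒜, Proj.basicOpen 𝒜 f)
      Γ(GrTilde.tilde 𝒜 ℳ 0, Proj.basicOpen 𝒜 f) := Submodule.span _ (Set.range σ)
  -- the key claim
  have claim : ∀ n : ℕ, ∀ (ρ : J → Fin e) (t : M) (_ : t ∈ T) (c : A), c ∈ 𝒜 n → ∀ k,
      n + wt eg ρ + dT t = k * e → ∃ s ∈ N, IsFr 𝒜 ℳ s (c • mono g ρ • t) k := by
    intro n
    induction n using Nat.strong_induction_on with
    | _ n ih =>
    intro ρ t ht c hc k hk
    rcases Nat.eq_zero_or_pos n with h0 | hn
    · subst h0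
      have h1 := hσ (ρ, ⟨t, ht⟩) k (by simpa using hk)
      have hc0 : c ∈ 𝒜 (0 * e) := by simpa using hc
      refine ⟨frO 𝒜 hf 0 c hc0 • σ (ρ, ⟨t, ht⟩),
        N.smul_mem _ (Submodule.subset_span ⟨_, rfl⟩), ?_⟩
      exact (h1.smul hf 0 c hc0).congr rfl (zero_add k)
    · obtain ⟨a, ha1, ha2, hca⟩ := exists_coeffs 𝒜 g eg hg hspan hn hc
      have hi : ∀ i : J, ∃ s ∈ N, IsFr 𝒜 ℳ s ((a i * g i) • mono g ρ • t) k := by
        intro i
        by_cases hle : eg i ≤ n
        · have hlt : n - eg i < n := Nat.sub_lt hn (hpos i)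
          by_cases hstep : (ρ i : ℕ) + 1 < e
          · obtain ⟨hm, hw⟩ := mono_step_lt g eg ρ i hstep
            obtain ⟨s, hsN, hs⟩ := ih (n - eg i) hlt
              (Function.update ρ i ⟨(ρ i : ℕ) + 1, hstep⟩) t ht (a i) (ha1 i) k
              (by rw [hw]; omega)
            refine ⟨s, hsN, hs.congr ?_ rfl⟩
            rw [← hm, mul_smul, mul_smul]
          · have hstep' : (ρ i : ℕ) + 1 = e := by have := (ρ i).2; omega
            obtain ⟨hm, hw⟩ := mono_step_eq g eg ρ i he hstep'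
            have hk' : eg i ≤ k := by
              by_contra hlt'
              rw [not_le] at hlt'
              have h3 : k * e < eg i * e := Nat.mul_lt_mul_of_pos_right hlt' he
              have h4 : e * eg i = eg i * e := mul_comm _ _
              omega
            have hkk : n - eg i + wt eg (Function.update ρ i ⟨0, he⟩) + dT t =
                (k - eg i) * e := by
              rw [Nat.sub_mul]
              have h4 : e * eg i = eg i * e := mul_comm _ _
              have h5 : eg i * e ≤ k * e := Nat.mul_le_mul_right e hk'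
              omega
            obtain ⟨s, hsN, hs⟩ := ih (n - eg i) hlt
              (Function.update ρ i ⟨0, he⟩) t ht (a i) (ha1 i) (k - eg i) hkk
            have hge : g i ^ e ∈ 𝒜 (eg i * e) := by
              have := pow_mem' (hg i) e
              rwa [mul_comm] at this
            refine ⟨frO 𝒜 hf (eg i) (g i ^ e) hge • s, N.smul_mem _ hsN,
              (hs.smul hf (eg i) _ hge).congr ?_ (by omega)⟩
            rw [mul_smul (a i), ← mul_smul (g i), hm, mul_smul, smul_comm]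
        · refine ⟨0, N.zero_mem, (IsFr.zero k).congr ?_ rfl⟩
          rw [ha2 i hle, zero_mul, zero_smul]
      choose s hsN hs using hi
      refine ⟨∑ i, s i, N.sum_mem fun i _ => hsN i,
        (IsFr.sum Finset.univ s _ k fun i _ => hs i).congr ?_ rfl⟩
      rw [← Finset.sum_smul, ← hca]
  -- conclusion
  refine Module.finite_def.mpr (Submodule.fg_def.mpr ⟨Set.range σ, Set.finite_range σ, ?_⟩)
  rw [eq_top_iff]
  intro s _
  obtain ⟨k, m, hm, hs⟩ := IsFr.exists_of_sect he hf s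
  set E : ℕ := n0 + ∑ t ∈ T, dT t with hE
  have hm' : f ^ E • m ∈ ℳ ((E + k) * e) := by
    have := SetLike.GradedSMul.smul_mem (pow_mem' hf E) hm
    rw [vadd_eq_add, ← add_mul] at this
    exact this
  have hEle : E ≤ (E + k) * e := by
    calc E ≤ E + k := Nat.le_add_right _ _
      _ ≤ (E + k) * e := Nat.le_mul_of_pos_right _ he
  have hEe : ∀ t ∈ T, dT t ≤ (E + k) * e := fun t ht => by
    have := Finset.single_le_sum (f := dT) (fun _ _ => Nat.zero_le _) ht
    omega
  have hspan' : f ^ E • m ∈ Submodule.span A (T : Set M) := by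
    rw [← hTspan]
    refine Submodule.subset_span ?_
    simp only [Set.mem_iUnion, Set.mem_Ici, SetLike.mem_coe, exists_prop]
    exact ⟨(E + k) * e, by omega, hm'⟩
  obtain ⟨c, hc, hsum⟩ := exists_homogeneous_coeffs 𝒜 ℳ T dT (fun t ht => hdT2 t ht) hEe hm' hspan'
  have ht : ∀ t ∈ T, ∃ s' ∈ N, IsFr 𝒜 ℳ s' (c t • t) (E + k) := by
    intro t ht
    have hw0 : wt eg (fun _ : J => (⟨0, he⟩ : Fin e)) = 0 := by simp [wt]
    obtain ⟨s', hs'N, hs'⟩ := claim ((E + k) * e - dT t) (fun _ => ⟨0, he⟩) t ht (c t) (hc t ht)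
      (E + k) (by rw [hw0]; have := hEe t ht; omega)
    refine ⟨s', hs'N, hs'.congr ?_ rfl⟩
    simp [mono]
  choose! s' hs'N hs' using ht
  have hsum' : IsFr 𝒜 ℳ (∑ t ∈ T, s' t) (f ^ E • m) (E + k) :=
    (IsFr.sum T s' _ _ hs').congr hsum.symm rfl
  have := (hs.mul_pow E).unique hsum'
  rw [this]
  exact N.sum_mem fun t ht => hs'N t ht

/-- **(TF) ⇒ `M~` is of finite type** (irrelevant ideal finitely generated, any degrees). -/
theorem isFT_tilde_of_TF (hfg : (HomogeneousIdeal.irrelevant 𝒜).toIdeal.FG)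
    (hTF : ∃ n : ℕ, (Submodule.span A (⋃ k ∈ Set.Ici n, (ℳ k : Set M))).FG) :
    SheafOfModules.IsFiniteType (R := (Proj 𝒜).ringCatSheaf) (GrTilde.tilde 𝒜 ℳ 0) := by
  classical
  obtain ⟨S, e, hS, hspan⟩ := exists_homogeneous_gens 𝒜 hfg
  have hspan' : (HomogeneousIdeal.irrelevant 𝒜).toIdeal =
      Ideal.span (Set.range (fun j : S => (j.1 : A))) := by
    rw [hspan, Subtype.range_coe_subtype]
    rfl
  have := tilde_isQuasicoherent 𝒜 ℳ 0
  refine Groth.Agent.Lib.helper16.CohFinite.isFiniteType_of_finite_sections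
    (X := Proj 𝒜) (GrTilde.tilde 𝒜 ℳ 0) (ι := S)
    (fun j => Proj.basicOpen 𝒜 (j.1 : A))
    (fun j => Proj.isAffineOpen_basicOpen 𝒜 _ (hS j.1 j.2).2 (hS j.1 j.2).1) ?_ ?_
  · exact Proj.iSup_basicOpen_eq_top 𝒜 (fun j : S => (j.1 : A)) hspan'.le
  · intro j
    exact finite_sections_basicOpen 𝒜 ℳ (fun j : S => (j.1 : A)) (fun j => e j.1)
      (fun j => (hS j.1 j.2).2) (fun j => (hS j.1 j.2).1) hspan' hTF (hS j.1 j.2).1 (hS j.1 j.2).2

end Groth.Agent.Lib.helper12.TildeFT
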