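import Mathlib
import Groth.Agent.Lib.Helper12.TrivDescent

/-!
# Triviality descends along faithfully flat base change when `H^0(X, O_X)` is semilocal (helper12)

* `exists_smul_le_span`, `exists_isUnit_of_semilocal`: `A` semilocal, `A ⟶ A'` faithfully flat,
  `θ : A' ⊗[A] M ≃ A'` ⇒ some `θ (1 ⊗ m)` is a unit (CRT + Nakayama).
* `exists_isIso_section_of_semilocal`: affine base `Y` with `Γ(Y)` semilocal and `O_Y(Y) = O_X(X)`; an
  invertible module on `X` which is trivial after a faithfully flat affine base change is trivial.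
-/

set_option autoImplicit false
set_option linter.style.haveILetI false
universe u

namespace Groth.Agent.Lib.helper12.TrivDescent
open TensorProduct

section AlgebraS

variable {A A' M : Type u} [CommRing A] [CommRing A'] [Algebra A A'] [Module.FaithfullyFlat A A']
  [AddCommGroup M] [Module A M]

/-- near every prime of `A`, `M` is generated by one element up to a denominator -/
theorem exists_smul_le_span (θ : A' ⊗[A] M →ₗ[A'] A') (hθ : Function.Bijective θ)
    (P : Ideal A) [hP : P.IsPrime] :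
    ∃ (m : M) (a : A), a ∉ P ∧ ∀ n : M, ∃ b : A, a • n = b • m := by
  classical
  have : Module.Finite A' (A' ⊗[A] M) :=
    Module.Finite.equiv (LinearEquiv.ofBijective θ hθ).symm
  have : Module.Finite A M := Module.Finite.of_finite_tensorProduct_of_faithfullyFlat A'
  obtain ⟨𝔮, h𝔮⟩ := PrimeSpectrum.comap_surjective_of_faithfullyFlat (B := A') ⟨P, hP⟩
  have hcomap : ∀ a : A, algebraMap A A' a ∉ 𝔮.asIdeal → a ∉ P := by
    intro a ha haP
    apply ha
    have : a ∈ (PrimeSpectrum.comap (algebraMap A A') 𝔮).asIdeal := by rw [h𝔮]; exact haP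
    exact this
  have : 𝔮.asIdeal.IsPrime := 𝔮.isPrime
  obtain ⟨m, hm⟩ := exists_not_mem θ hθ.2 𝔮.asIdeal
  obtain ⟨S, hS⟩ := (Module.finite_def.mp (inferInstance : Module.Finite A M))
  have hn : ∀ n : M, ∃ a : A, a ∉ P ∧ ∃ b : A, a • n = b • m := by
    intro n
    obtain ⟨a, ha, b, hb⟩ := exists_smul_eq θ hθ.1 𝔮.asIdeal m hm n
    exact ⟨a, hcomap a ha, b, hb⟩
  choose a ha b hb using hn
  refine ⟨m, ∏ n ∈ S, a n, ?_, ?_⟩
  · intro h
    obtain ⟨n, -, hn⟩ := (Ideal.IsPrime.prod_mem_iff).mp h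
    exact ha n hn
  · intro n
    have hmem : n ∈ (Submodule.span A {m}).comap (LinearMap.lsmul A M (∏ n ∈ S, a n)) := by
      have hle : Submodule.span A (S : Set M) ≤
          (Submodule.span A {m}).comap (LinearMap.lsmul A M (∏ n ∈ S, a n)) := by
        rw [Submodule.span_le]
        intro s hs
        change (∏ n ∈ S, a n) • s ∈ Submodule.span A {m}
        rw [← Finset.mul_prod_erase S a hs, mul_comm, mul_smul, hb s, smul_smul]
        exact Submodule.smul_mem _ _ (Submodule.mem_span_singleton_self m)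
      exact hle (hS ▸ Submodule.mem_top)
    obtain ⟨c, hc⟩ := Submodule.mem_span_singleton.mp hmem
    exact ⟨c, hc.symm⟩

/-- **semilocal case**: `A` semilocal, `A ⟶ A'` faithfully flat, `θ : A' ⊗[A] M ≃ A'`. Then some `1 ⊗ m` is
mapped to a unit. -/
theorem exists_isUnit_of_semilocal [Finite (MaximalSpectrum A)] (θ : A' ⊗[A] M →ₗ[A'] A')
    (hθ : Function.Bijective θ) : ∃ m : M, IsUnit (θ (1 ⊗ₜ m)) := by
  classical
  have : Module.Finite A' (A' ⊗[A] M) :=
    Module.Finite.equiv (LinearEquiv.ofBijective θ hθ).symm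
  have : Module.Finite A M := Module.Finite.of_finite_tensorProduct_of_faithfullyFlat A'
  have h1 : ∀ j : MaximalSpectrum A, ∃ (m : M) (a : A), a ∉ j.asIdeal ∧
      ∀ n : M, ∃ b : A, a • n = b • m := fun j =>
    have : j.asIdeal.IsPrime := j.isMaximal.isPrime
    exists_smul_le_span θ hθ j.asIdeal
  choose mj aj haj hbj using h1
  have hcop : Pairwise (Function.onFun IsCoprime fun j : MaximalSpectrum A => j.asIdeal) :=
    fun i j hij => Ideal.isCoprime_of_isMaximal (MaximalSpectrum.ext_iff.ne.mp hij)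
  have hc : ∀ j : MaximalSpectrum A, ∃ c : A, ∀ i : MaximalSpectrum A,
      c - (if i = j then 1 else 0) ∈ i.asIdeal := fun j =>
    Ideal.exists_forall_sub_mem_ideal hcop (fun i => if i = j then 1 else 0)
  choose c hc using hc
  haveI : Fintype (MaximalSpectrum A) := Fintype.ofFinite _
  let m : M := ∑ j, c j • mj j
  let N : Submodule A M := Submodule.span A {m}
  -- step 2: M = A mj + Pj M
  have hstep2 : ∀ (j : MaximalSpectrum A) (n : M),
      n ∈ Submodule.span A {mj j} ⊔ j.asIdeal • (⊤ : Submodule A M) := by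
    intro j n
    obtain ⟨y, i, hi, hyi⟩ := j.isMaximal.exists_inv (haj j)
    obtain ⟨b, hb⟩ := hbj j n
    have : n = (y * b) • mj j + i • n := by
      rw [mul_smul, ← hb, ← mul_smul, ← add_smul, hyi, one_smul]
    rw [this]
    exact Submodule.add_mem_sup
      (Submodule.smul_mem _ _ (Submodule.mem_span_singleton_self _))
      (Submodule.smul_mem_smul hi Submodule.mem_top)
  -- step 4: mj ∈ A m + Pj M
  have hstep4 : ∀ j : MaximalSpectrum A,
      mj j ∈ N ⊔ j.asIdeal • (⊤ : Submodule A M) := by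
    intro j
    have hm : m = c j • mj j + ∑ i ∈ Finset.univ.erase j, c i • mj i :=
      (Finset.add_sum_erase Finset.univ (fun i => c i • mj i) (Finset.mem_univ j)).symm
    have : mj j = m + (-(c j - 1) • mj j + ∑ i ∈ Finset.univ.erase j, (-(c i)) • mj i) := by
      rw [hm]
      simp only [neg_smul, Finset.sum_neg_distrib, sub_smul, one_smul]
      abel
    rw [this]
    refine Submodule.add_mem_sup (Submodule.mem_span_singleton_self m) ?_
    refine Submodule.add_mem _ ?_ (Submodule.sum_mem _ fun i hi => ?_)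
    · refine Submodule.smul_mem_smul ?_ Submodule.mem_top
      have := hc j j
      rw [if_pos rfl] at this
      exact neg_mem this
    · refine Submodule.smul_mem_smul ?_ Submodule.mem_top
      have := hc i j
      rw [if_neg (Finset.ne_of_mem_erase hi).symm, sub_zero] at this
      exact neg_mem this
  have hstep5 : ∀ j : MaximalSpectrum A, (⊤ : Submodule A M) ≤ N ⊔ j.asIdeal • ⊤ := by
    intro j n _
    have h2 := hstep2 j n
    have hle : Submodule.span A {mj j} ⊔ j.asIdeal • (⊤ : Submodule A M) ≤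
        N ⊔ j.asIdeal • ⊤ := by
      refine sup_le ?_ le_sup_right
      rw [Submodule.span_le, Set.singleton_subset_iff]
      exact hstep4 j
    exact hle h2
  -- Nakayama on the quotient
  let Q := M ⧸ N
  have hQ : ∀ j : MaximalSpectrum A, ∃ r : A, r - 1 ∈ j.asIdeal ∧ ∀ n : M, r • n ∈ N := by
    intro j
    have hfg : (⊤ : Submodule A Q).FG := Module.finite_def.mp inferInstance
    have hle : (⊤ : Submodule A Q) ≤ j.asIdeal • ⊤ := by
      rintro q -
      obtain ⟨n, rfl⟩ := N.mkQ_surjective q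
      have h5 := hstep5 j (Submodule.mem_top : n ∈ ⊤)
      obtain ⟨n₁, hn₁, n₂, hn₂, rfl⟩ := Submodule.mem_sup.mp h5
      have h0 : N.mkQ n₁ = 0 := (Submodule.Quotient.mk_eq_zero N).mpr hn₁
      rw [map_add, h0, zero_add]
      have := Submodule.mem_map_of_mem (f := N.mkQ) hn₂
      rw [Submodule.map_smul'', Submodule.map_top, Submodule.range_mkQ] at this
      exact this
    obtain ⟨r, hr1, hr2⟩ :=
      Submodule.exists_sub_one_mem_and_smul_eq_zero_of_fg_of_le_smul j.asIdeal ⊤ hfg hle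
    refine ⟨r, hr1, fun n => ?_⟩
    have := hr2 (N.mkQ n) Submodule.mem_top
    rw [← map_smul] at this
    exact (Submodule.Quotient.mk_eq_zero N).mp this
  let I : Ideal A :=
    { carrier := {r | ∀ n : M, r • n ∈ N}
      add_mem' := fun ha hb n => by rw [add_smul]; exact N.add_mem (ha n) (hb n)
      zero_mem' := fun n => by rw [zero_smul]; exact N.zero_mem
      smul_mem' := fun s r hr n => by
        rw [smul_eq_mul, mul_smul]; exact N.smul_mem s (hr n) }
  have hI : I = ⊤ := by
    by_contra hne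
    obtain ⟨P, hP, hIP⟩ := Ideal.exists_le_maximal I hne
    obtain ⟨r, hr1, hr2⟩ := hQ ⟨P, hP⟩
    have hrP : r ∈ P := hIP hr2
    have : (1 : A) ∈ P := by
      have := P.sub_mem hrP hr1
      rwa [sub_sub_cancel] at this
    exact hP.ne_top ((Ideal.eq_top_iff_one P).mpr this)
  have hN : ∀ n : M, n ∈ N := by
    intro n
    have : (1 : A) ∈ I := hI ▸ Submodule.mem_top
    have := this n
    rwa [one_smul] at this
  -- conclude
  have hz : ∀ z : A' ⊗[A] M, ∃ w : A', z = w • (1 ⊗ₜ[A] m : A' ⊗[A] M) := by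
    intro z
    induction z using TensorProduct.induction_on with
    | zero => exact ⟨0, (zero_smul _ _).symm⟩
    | tmul a' n =>
      obtain ⟨b, hb⟩ := Submodule.mem_span_singleton.mp (hN n)
      refine ⟨b • a', ?_⟩
      rw [← hb, TensorProduct.smul_tmul', smul_eq_mul, mul_one, TensorProduct.smul_tmul]
    | add z₁ z₂ h₁ h₂ =>
      obtain ⟨w₁, rfl⟩ := h₁
      obtain ⟨w₂, rfl⟩ := h₂
      exact ⟨w₁ + w₂, (add_smul _ _ _).symm⟩
  obtain ⟨z₀, hz₀⟩ := hθ.2 1
  obtain ⟨w, hw⟩ := hz z₀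
  refine ⟨m, IsUnit.of_mul_eq_one w ?_⟩
  rw [hw, LinearMap.map_smul, smul_eq_mul] at hz₀
  rw [mul_comm]; exact hz₀

end AlgebraS

end Groth.Agent.Lib.helper12.TrivDescent

open CategoryTheory CategoryTheory.Limits AlgebraicGeometry TopologicalSpace Opposite TensorProduct
open Scheme.Modules
open Groth.Agent.Lib.helper8.PullbackUnit Groth.Agent.Lib.helper8.FlatBC
open Groth.Agent.Lib.helper12.AmpleDescent Groth.Agent.Lib.helper12.EpiDescent
open Groth.Agent.Lib.helper11.GenLocus Groth.Agent.Lib.helper11.SerreGG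
open Groth.Agent.Lib.helper12.AmpleBasis Groth.Agent.Lib.helper12.QAffDescent
open Groth.Agent.Lib.helper11.InvMod Groth.Agent.Lib.helper12.TwistExtend
open Groth.Agent.Lib.helper11.IsoLocus Groth.Agent.Lib.helper11.InvPullback

namespace Groth.Agent.Lib.helper12.TrivDescent

variable {X X' Y Y' : Scheme.{u}} {f : X ⟶ Y} {g : Y' ⟶ Y} {p : X' ⟶ X} {q : X' ⟶ Y'}

/-- semilocal base: an invertible module trivial after a faithfully flat affine base change is trivial -/
theorem exists_isIso_section_of_semilocal [IsAffine Y] [IsAffine Y'] [QuasiCompact f]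
    [QuasiSeparated f] [Flat g] [Surjective g] [Finite (MaximalSpectrum Γ(Y, ⊤))]
    (H : IsPullback p q f g) (hW : (⊤ : X.Opens) ≤ f ⁻¹ᵁ ⊤)
    (hf : Function.Bijective (f.appLE ⊤ ⊤ hW).hom)
    {L : X.Modules} (hL : PicF.IsInvertible L)
    (ε : (Scheme.Modules.pullback p).obj L ≅ Coh.structureModule X') :
    ∃ t : Coh.structureModule X ⟶ L, IsIso t := by
  haveI : L.IsQuasicoherent := isQuasicoherent_of_isInvertible hL
  haveI : CompactSpace X := QuasiCompact.compactSpace_of_compactSpace f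
  haveI : QuasiSeparatedSpace X := quasiSeparatedSpace_of_quasiSeparated f
  haveI : Surjective p := MorphismProperty.of_isPullback (P := @Surjective) H.flip inferInstance
  have e : (⊤ : Y'.Opens) ≤ g ⁻¹ᵁ ⊤ := le_top
  letI : Algebra Γ(Y, ⊤) Γ(Y', ⊤) := (g.appLE ⊤ ⊤ e).hom.toAlgebra
  have halg : algebraMap Γ(Y, ⊤) Γ(Y', ⊤) = (g.appLE ⊤ ⊤ e).hom := rfl
  haveI : Module.FaithfullyFlat Γ(Y, ⊤) Γ(Y', ⊤) := by
    have h0 : g.appTop.hom.FaithfullyFlat :=
      (Flat.flat_and_surjective_iff_faithfullyFlat_of_isAffine (f := g)).mp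
        ⟨inferInstance, inferInstance⟩
    rw [← appLE_top_top g e] at h0
    exact h0
  let S : X'.Opens := sharp p q ⊤ ⊤
  have hS : (⊤ : X'.Opens) ≤ S := fun x _ => ⟨trivial, trivial⟩
  let ψ := (q.appLE ⊤ S inf_le_right).hom
  have hψ : Function.Bijective ψ := bijective_appLE_sharp H hW hf
  let Ψ := RingEquiv.ofBijective ψ hψ
  have hbij := κ_bijective_of_isQuasiSeparated L ⊤ hW H e halg (isAffineOpen_top Y)
    (isAffineOpen_top Y') isCompact_univ isQuasiSeparated_univ
  let εS := (ε.hom.app S).hom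
  have hεS : Function.Bijective εS := by
    have : IsIso (ε.hom.app S) := inferInstance
    exact ConcreteCategory.bijective_of_isIso (ε.hom.app S)
  let θ : Γ(Y', ⊤) ⊗[Γ(Y, ⊤)] NW f L ⊤ ⊤ hW →ₗ[Γ(Y', ⊤)] Γ(Y', ⊤) :=
    { toFun := fun z => Ψ.symm (εS (κ L ⊤ hW H e halg z))
      map_add' := fun z₁ z₂ => by
        have h1 : κ L ⊤ hW H e halg (z₁ + z₂) = κ L ⊤ hW H e halg z₁ + κ L ⊤ hW H e halg z₂ :=
          LinearMap.map_add _ _ _
        have h2 : εS (κ L ⊤ hW H e halg (z₁ + z₂)) =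
            εS (κ L ⊤ hW H e halg z₁) + εS (κ L ⊤ hW H e halg z₂) :=
          (congrArg εS h1).trans (_root_.map_add εS _ _)
        exact (congrArg Ψ.symm h2).trans (_root_.map_add Ψ.symm _ _)
      map_smul' := fun a' z => by
        have h1 : κ L ⊤ hW H e halg (a' • z) = a' • κ L ⊤ hW H e halg z :=
          LinearMap.map_smul _ _ _
        have h8 := Hom.app_smul ε.hom (ψ a')
          (show Γ((Scheme.Modules.pullback p).obj L, S) from κ L ⊤ hW H e halg z)
        have h2 : εS (κ L ⊤ hW H e halg (a' • z)) = ψ a' • εS (κ L ⊤ hW H e halg z) :=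
          (congrArg εS h1).trans h8
        refine Ψ.injective ?_
        refine (Ψ.apply_symm_apply _).trans ?_
        refine h2.trans ?_
        refine Eq.symm ?_
        refine (map_mul Ψ a' _).trans ?_
        congr 1
        exact Ψ.apply_symm_apply _ }
  have hθΨ : ∀ z, ψ (θ z) = εS (κ L ⊤ hW H e halg z) := fun z => Ψ.apply_symm_apply _
  have hθ : Function.Bijective θ := Ψ.symm.bijective.comp (hεS.comp hbij)
  obtain ⟨m, hu⟩ := exists_isUnit_of_semilocal θ hθ
  obtain ⟨w, hw⟩ := hu.exists_right_inv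
  let a : Γ(Y, ⊤) := 1
  have haw : θ ((1 : Γ(Y', ⊤)) ⊗ₜ m) * w = algebraMap Γ(Y, ⊤) Γ(Y', ⊤) a := by
    rw [hw]; exact (map_one _).symm
  let σ : L.val.obj (op ⊤) := m
  let t := homOfSec L σ
  refine ⟨t, (genLocus_eq_top_iff L t).mp (eq_top_iff.mpr ?_)⟩
  · have ht : sec t ⊤ = σ := by
      have h8 := val_homOfSec L σ ⊤
      refine h8.trans ?_
      change L.val.map (𝟙 _) σ = σ
      rw [L.val.map_id]
      rfl
    let t' := (pullbackUnitIso p).inv ≫ (Scheme.Modules.pullback p).map t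
    have hgl : CohB1.genLocus _ t' = p ⁻¹ᵁ CohB1.genLocus L t :=
      genLocus_pullback p L hL t (pullbackUnitIso p).symm
    let t'' := t' ≫ ε.hom
    have hgl2 : CohB1.genLocus _ t'' = CohB1.genLocus _ t' := genLocus_comp_iso t' ε
    have hgl3 : CohB1.genLocus _ t'' = X'.basicOpen (fn t'' ⊤) := genLocus_structureModule t''
    have hsec : sec t' S = ρ p (inf_le_left : S ≤ p ⁻¹ᵁ ⊤) L σ := by
      rw [← ht]
      exact sec_pullback_map p t _
    have hκ : κ L ⊤ hW H e halg ((1 : Γ(Y', ⊤)) ⊗ₜ m) = ρ p (inf_le_left : S ≤ p ⁻¹ᵁ ⊤) L σ := by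
      have h7 : κ L ⊤ hW H e halg ((1 : Γ(Y', ⊤)) ⊗ₜ m) =
          (1 : Γ(Y', ⊤)) • kW (g' := p) (f' := q) (V' := ⊤) L ⊤ hW m := tlift_tmul _ _ 1 m
      rw [h7, one_smul]
      rfl
    have hfn : fn t'' S = ψ (θ ((1 : Γ(Y', ⊤)) ⊗ₜ m)) := by
      rw [hθΨ, hκ, ← hsec]
      rfl
    have hmul : fn t'' S * ψ w = ψ ((g.appLE ⊤ ⊤ e).hom a) := by
      rw [hfn, ← map_mul, haw, halg]
    intro x _
    have hx : x ∈ f ⁻¹ᵁ (Y.basicOpen a) := by
      rw [Y.basicOpen_of_isUnit isUnit_one]; trivial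
    obtain ⟨x', hx'⟩ := p.surjective x
    have h1 : x' ∈ X'.basicOpen (ψ ((g.appLE ⊤ ⊤ e).hom a)) := by
      have h2 : ψ ((g.appLE ⊤ ⊤ e).hom a) =
          ((q ≫ g).appLE ⊤ S (le_top)).hom a := by
        have := Scheme.Hom.appLE_comp_appLE q g ⊤ ⊤ S e inf_le_right
        exact congr($(this).hom a)
      rw [h2]
      unfold Scheme.Hom.appLE
      rw [CommRingCat.comp_apply, Scheme.basicOpen_res, ← Scheme.preimage_basicOpen]
      refine ⟨hS trivial, ?_⟩
      change (q ≫ g) x' ∈ Y.basicOpen a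
      rw [← H.w, Scheme.Hom.comp_apply, hx']
      exact hx
    rw [← hmul, Scheme.basicOpen_mul] at h1
    have h3 : x' ∈ X'.basicOpen (fn t'' ⊤) := by
      have h4 := h1.1
      rw [← res_fn t'' (homOfLE (le_top : S ≤ ⊤)), Scheme.basicOpen_res] at h4
      exact h4.2
    rw [← hgl3, hgl2, hgl] at h3
    rw [← hx']
    exact h3


end Groth.Agent.Lib.helper12.TrivDescent
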