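import Mathlib

/-!
# Affineness of opens for universally closed morphisms (helper12), part 1

An abstract, module-free criterion: let `f : X ⟶ S` be universally closed with `S` affine,
`U ⊆ X` a quasi-compact open, and suppose `X` is covered by opens `W i` carrying functions
`c i ∈ Γ(W i)` and `b i ∈ Γ(U)` with `c i * b i = 1` on `U ∩ W i` and `U_{b i}` affine.  Then `U`
is affine (`isAffineOpen_of_universallyClosed`).  The proof takes the closure of the graph of
`U → Spec Γ(U)` inside `X ×_S Spec Γ(U)`.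
-/

set_option autoImplicit false
universe u
open CategoryTheory CategoryTheory.Limits AlgebraicGeometry TopologicalSpace

namespace Groth.Agent.Lib.Helper12.UCAffine

/-- The function `p1^* c * p2^* β - 1` pulls back to zero along `Γ`. -/
theorem preimage_basicOpen_eq_bot {U' P X Y : Scheme.{u}} (G : U' ⟶ P) (p1 : P ⟶ X) (p2 : P ⟶ Y)
    (W : X.Opens) (c : Γ(X, W)) (β : Γ(Y, ⊤))
    (hcb : (G ≫ p1).app W c *
      U'.presheaf.map (homOfLE (le_top : (G ≫ p1) ⁻¹ᵁ W ≤ ⊤)).op ((G ≫ p2).appTop β) = 1) :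
    G ⁻¹ᵁ (P.basicOpen (p1.app W c *
      P.presheaf.map (homOfLE (le_top : p1 ⁻¹ᵁ W ≤ ⊤)).op (p2.appTop β) - 1)) = ⊥ := by
  rw [Scheme.preimage_basicOpen]
  have h0 : G.app (p1 ⁻¹ᵁ W) (p1.app W c *
      P.presheaf.map (homOfLE (le_top : p1 ⁻¹ᵁ W ≤ ⊤)).op (p2.appTop β) - 1) = 0 := by
    rw [map_sub, map_mul, map_one, sub_eq_zero]
    have e1 : G.app (p1 ⁻¹ᵁ W) (p1.app W c) = (G ≫ p1).app W c := by
      rw [Scheme.Hom.comp_app]; rfl
    have e2 : G.app (p1 ⁻¹ᵁ W) (P.presheaf.map (homOfLE (le_top : p1 ⁻¹ᵁ W ≤ ⊤)).op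
        (p2.appTop β)) =
        U'.presheaf.map (homOfLE (le_top : (G ≫ p1) ⁻¹ᵁ W ≤ ⊤)).op ((G ≫ p2).appTop β) := by
      have := G.naturality (homOfLE (le_top : p1 ⁻¹ᵁ W ≤ ⊤)).op
      have h2 := congrArg (fun φ => φ.hom (p2.appTop β)) this
      simp only [CommRingCat.hom_comp, RingHom.comp_apply] at h2
      rw [h2, Scheme.Hom.comp_appTop]
      rfl
    rw [e1, e2]
    exact hcb
  rw [h0, Scheme.basicOpen_zero]

/-- At a point over `W` where `p1^* c * p2^* β - 1` vanishes, `p2^* β` is invertible. -/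
theorem mem_basicOpen_of_notMem {P X Y : Scheme.{u}} (p1 : P ⟶ X) (p2 : P ⟶ Y)
    (W : X.Opens) (c : Γ(X, W)) (β : Γ(Y, ⊤)) (z : P) (hz : p1.base z ∈ W)
    (hzN : z ∉ P.basicOpen (p1.app W c *
      P.presheaf.map (homOfLE (le_top : p1 ⁻¹ᵁ W ≤ ⊤)).op (p2.appTop β) - 1)) :
    p2.base z ∈ Y.basicOpen β := by
  set α := p1.app W c with hα
  set γ := P.presheaf.map (homOfLE (le_top : p1 ⁻¹ᵁ W ≤ ⊤)).op (p2.appTop β) with hγ
  have h1 : P.basicOpen (α * γ + -(α * γ - 1)) ≤ P.basicOpen (α * γ) ⊔ P.basicOpen (-(α * γ - 1)) :=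
    P.basicOpen_add_le _ _
  have h2 : α * γ + -(α * γ - 1) = 1 := by ring
  have h3 : P.basicOpen (1 : Γ(P, p1 ⁻¹ᵁ W)) = p1 ⁻¹ᵁ W := P.basicOpen_of_isUnit isUnit_one
  have h4 : P.basicOpen (-(α * γ - 1)) = P.basicOpen (α * γ - 1) := by
    have : -(α * γ - 1) = (-1) * (α * γ - 1) := by ring
    rw [this, Scheme.basicOpen_mul, P.basicOpen_of_isUnit isUnit_one.neg]
    exact inf_eq_right.mpr (P.basicOpen_le _)
  rw [h2, h3, h4] at h1
  have hzV : z ∈ p1 ⁻¹ᵁ W := hz
  rcases h1 hzV with h5 | h5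
  · rw [Scheme.basicOpen_mul] at h5
    have h6 : z ∈ P.basicOpen γ := h5.2
    rw [hγ, Scheme.basicOpen_res] at h6
    have h7 : z ∈ P.basicOpen (p2.appTop β) := h6.2
    rw [← Scheme.preimage_basicOpen_top] at h7
    exact h7
  · exact absurd h5 hzN

/-- **Abstract criterion.**  `f : X ⟶ S` universally closed, `S` affine, `U ⊆ X` quasi-compact
open; `X` is covered by opens `W i` with functions `c i` on `W i`, `b i` on `U`, `c i * b i = 1`
on `U ∩ W i`, and `U_{b i}` affine.  Then `U` is affine. -/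
theorem isAffineOpen_of_universallyClosed {X S : Scheme.{u}} (f : X ⟶ S) [IsAffine S]
    [UniversallyClosed f] (U : X.Opens) [CompactSpace U.toScheme]
    {I : Type*} (W : I → X.Opens) (hW : ∀ x : X, ∃ i, x ∈ W i)
    (c : ∀ i, Γ(X, W i)) (b : I → Γ(U.toScheme, ⊤))
    (hcb : ∀ i, U.ι.app (W i) (c i) *
      U.toScheme.presheaf.map (homOfLE (le_top : U.ι ⁻¹ᵁ W i ≤ ⊤)).op (b i) = 1)
    (hb : ∀ i, IsAffineOpen (U.toScheme.basicOpen (b i))) :
    IsAffineOpen U := by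
  let U' : Scheme.{u} := U.toScheme
  let B : CommRingCat.{u} := Γ(U', ⊤)
  let Y : Scheme.{u} := Spec B
  let j : U' ⟶ Y := U'.toSpecΓ
  let h : U' ⟶ S := U.ι ≫ f
  let g : Y ⟶ S := Spec.map h.appTop ≫ S.isoSpec.inv
  have hjg : j ≫ g = h := by
    change U'.toSpecΓ ≫ Spec.map h.appTop ≫ S.isoSpec.inv = h
    rw [← Category.assoc, ← Scheme.toSpecΓ_naturality, Category.assoc]
    have : S.toSpecΓ ≫ S.isoSpec.inv = 𝟙 S := by
      rw [← Scheme.isoSpec_hom]; exact S.isoSpec.hom_inv_id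
    rw [this, Category.comp_id]
  let p1 := pullback.fst f g
  let p2 := pullback.snd f g
  let G : U' ⟶ pullback f g := pullback.lift U.ι j (by rw [hjg])
  have hG1 : G ≫ p1 = U.ι := pullback.lift_fst _ _ _
  have hG2 : G ≫ p2 = j := pullback.lift_snd _ _ _
  let β : I → Γ(Y, ⊤) := fun i => (Scheme.ΓSpecIso B).inv (b i)
  have hjβ : ∀ i, j.appTop (β i) = b i := by
    intro i
    change (U'.toSpecΓ.appTop) ((Scheme.ΓSpecIso B).inv (b i)) = b i
    rw [Scheme.toSpecΓ_appTop]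
    exact (Scheme.ΓSpecIso B).inv_hom_id_apply (b i)
  let N : I → (pullback f g).Opens := fun i => (pullback f g).basicOpen (p1.app (W i) (c i) *
      (pullback f g).presheaf.map (homOfLE (le_top : p1 ⁻¹ᵁ W i ≤ ⊤)).op (p2.appTop (β i)) - 1)
  have hA : ∀ i, G ⁻¹ᵁ (N i) = ⊥ := by
    intro i
    refine preimage_basicOpen_eq_bot G p1 p2 (W i) (c i) (β i) ?_
    have key : ∀ (m1 : U' ⟶ X) (m2 : U' ⟶ Y), m1 = U.ι → m2 = j →
        m1.app (W i) (c i) * U'.presheaf.map (homOfLE (le_top : m1 ⁻¹ᵁ W i ≤ ⊤)).op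
          (m2.appTop (β i)) = 1 := by
      rintro m1 m2 rfl rfl
      rw [hjβ]
      exact hcb i
    exact key _ _ hG1 hG2
  let V : Set ↥(pullback f g) := (⋃ i, (N i : Set ↥(pullback f g)))ᶜ
  have hVclosed : IsClosed V := (isOpen_iUnion (fun i => (N i).isOpen)).isClosed_compl
  have hrange : Set.range G.base ⊆ V := by
    rintro _ ⟨x, rfl⟩
    simp only [V, Set.mem_compl_iff, Set.mem_iUnion, not_exists]
    intro i hx
    have : x ∈ G ⁻¹ᵁ (N i) := hx
    rw [hA i] at this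
    exact this
  have hZ : closure (Set.range G.base) ⊆ V := closure_minimal hrange hVclosed
  have hclosed : IsClosed (p2.base '' closure (Set.range G.base)) :=
    p2.isClosedMap _ isClosed_closure
  have hdense : DenseRange j.base := j.denseRange
  have hsurj : ∀ y : Y, ∃ z ∈ closure (Set.range G.base), p2.base z = y := by
    intro y
    have h1 : Set.range j.base ⊆ p2.base '' closure (Set.range G.base) := by
      rintro _ ⟨x, rfl⟩
      refine ⟨G.base x, subset_closure ⟨x, rfl⟩, ?_⟩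
      rw [← hG2]
      rfl
    have h2 := closure_minimal h1 hclosed
    rw [hdense.closure_range] at h2
    exact h2 (Set.mem_univ y)
  have key : ∀ y : Y, ∃ i, y ∈ Y.basicOpen (β i) := by
    intro y
    obtain ⟨z, hzZ, rfl⟩ := hsurj y
    obtain ⟨i, hi⟩ := hW (p1.base z)
    refine ⟨i, mem_basicOpen_of_notMem p1 p2 (W i) (c i) (β i) z hi ?_⟩
    intro hzN
    exact hZ hzZ (Set.mem_iUnion.mpr ⟨i, hzN⟩)
  have hspan : Ideal.span (Set.range b) = ⊤ := by
    by_contra hne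
    obtain ⟨m, hm, hle⟩ := Ideal.exists_le_maximal _ hne
    let y : Y := (⟨m, hm.isPrime⟩ : PrimeSpectrum B)
    obtain ⟨i, hi⟩ := key y
    have h3 : Y.basicOpen (β i) = PrimeSpectrum.basicOpen (b i) := basicOpen_eq_of_affine (b i)
    rw [h3] at hi
    exact hi (hle (Ideal.subset_span ⟨i, rfl⟩))
  exact isAffine_of_isAffineOpen_basicOpen (Set.range b) hspan (by rintro _ ⟨i, rfl⟩; exact hb i)

end Groth.Agent.Lib.Helper12.UCAffine
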