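import Mathlib
import Groth.Agent.Lib.Helper12.UCAffine1
import Groth.Agent.Lib.Helper12.AmpleBasis2
import Groth.Agent.Lib.Helper12.AmplePow
import Groth.Agent.Lib.Helper12.TensorPowAdd
import Groth.Agent.Lib.Helper12.ProjUP3
import Groth.Agent.Lib.Lead.ModTensor

/-!
# Affineness of `X_s` for universally closed morphisms (helper12), part 2

`isAffineOpen_genLocus_of_universallyClosed`: `f : X ⟶ S` universally closed, `S` affine, `L` ample on
`X`, `s` a global section of `L`.  Then `X_s` is affine.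
-/

set_option autoImplicit false
universe u

open CategoryTheory CategoryTheory.Limits AlgebraicGeometry Opposite TopologicalSpace

namespace Groth.Agent.Lib.Helper12.UCAffine

open Groth.Agent.Lib.helper12.AmpleBasis2 Groth.Agent.Lib.helper12.AmpleBasis
open Groth.Agent.Lib.helper12.AmplePow Groth.Agent.Lib.helper12.TensorPowAdd
open Groth.Agent.Lib.helper12.TensorInv Groth.Agent.Lib.helper11.IsoLocus
open Groth.Agent.Lib.helper12.ProjUP3 Groth.Agent.Lib.helper11.GenLocus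

variable {X : Scheme.{u}}

/-- Two sections `t`, `σ` of an invertible module: the data for the abstract criterion. -/
theorem ratio_data {M : X.Modules} (t σ : Coh.structureModule X ⟶ M) (U : X.Opens)
    (hU : CohB1.genLocus M σ = U) :
    ∃ (c : Γ(X, CohB1.genLocus M t)) (b : Γ(U.toScheme, ⊤)),
      U.ι.app (CohB1.genLocus M t) c *
        U.toScheme.presheaf.map (homOfLE (le_top : U.ι ⁻¹ᵁ (CohB1.genLocus M t) ≤ ⊤)).op b = 1 ∧
      U.ι ''ᵁ (U.toScheme.basicOpen b) = X.basicOpen c ∧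
      X.basicOpen c = U ⊓ CohB1.genLocus M t := by
  have hle : U.ι ''ᵁ ⊤ ≤ CohB1.genLocus M σ := by rw [hU]; exact le_of_eq U.ι_image_top
  refine ⟨ratio t σ (CohB1.genLocus M t) le_rfl, ratio σ t (U.ι ''ᵁ ⊤) hle, ?_, ?_, ?_⟩
  · have hV1 : U.ι ''ᵁ (U.ι ⁻¹ᵁ CohB1.genLocus M t) ≤ CohB1.genLocus M t :=
      U.ι.image_preimage_le _
    have hV2 : U.ι ''ᵁ (U.ι ⁻¹ᵁ CohB1.genLocus M t) ≤ U.ι ''ᵁ ⊤ := U.ι.image_mono le_top
    have e1 : U.ι.app (CohB1.genLocus M t) (ratio t σ (CohB1.genLocus M t) le_rfl) =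
        ratio t σ (U.ι ''ᵁ (U.ι ⁻¹ᵁ CohB1.genLocus M t)) hV1 := ratio_res t σ hV1 le_rfl
    have e2 : U.toScheme.presheaf.map
        (homOfLE (le_top : U.ι ⁻¹ᵁ (CohB1.genLocus M t) ≤ ⊤)).op (ratio σ t (U.ι ''ᵁ ⊤) hle) =
        ratio σ t (U.ι ''ᵁ (U.ι ⁻¹ᵁ CohB1.genLocus M t)) (hV2.trans hle) :=
      ratio_res σ t hV2 hle
    refine (congrArg₂ (· * ·) e1 e2).trans ?_
    exact (ratio_mul σ t σ _ _ _).trans (ratio_self _ _ _)
  · have h1 := Scheme.image_basicOpen U.ι (ratio σ t (U.ι ''ᵁ ⊤) hle : Γ(U.toScheme, ⊤))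
    rw [Scheme.Opens.ι_appIso] at h1
    have h2 : CohB1.genLocus M t ⊓ U.ι ''ᵁ ⊤ = X.basicOpen (ratio σ t (U.ι ''ᵁ ⊤) hle) :=
      genLocus_inf_eq_basicOpen_of_smul t σ hle _ (ratio_smul σ t _ hle).symm
    have h3 : CohB1.genLocus M σ ⊓ CohB1.genLocus M t =
        X.basicOpen (ratio t σ (CohB1.genLocus M t) le_rfl) :=
      genLocus_inf_eq_basicOpen_of_smul σ t le_rfl _ (ratio_smul t σ _ le_rfl).symm
    refine h1.trans ?_
    change X.basicOpen (ratio σ t (U.ι ''ᵁ ⊤) hle) = _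
    rw [← h2, ← h3, U.ι_image_top, hU, inf_comm]
  · have h3 : CohB1.genLocus M σ ⊓ CohB1.genLocus M t =
        X.basicOpen (ratio t σ (CohB1.genLocus M t) le_rfl) :=
      genLocus_inf_eq_basicOpen_of_smul σ t le_rfl _ (ratio_smul t σ _ le_rfl).symm
    rw [← h3, hU]

/-- `f : X ⟶ S` universally closed, `S` affine, `L` ample, `s` a global section of `L`: then `X_s`
is affine. -/
theorem isAffineOpen_genLocus_of_universallyClosed {S : Scheme.{u}} (f : X ⟶ S) [IsAffine S]
    [UniversallyClosed f] (L : X.Modules) (hL : CohB1.IsAmple L)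
    (s : Coh.structureModule X ⟶ L) : IsAffineOpen (CohB1.genLocus L s) := by
  obtain ⟨hinv, hcomp, hcov⟩ := hL
  set U := CohB1.genLocus L s with hUdef
  choose n t ht haff using hcov
  let s₁ : Coh.structureModule X ⟶ CohB1.tensorPow L 1 :=
    s ≫ (Groth.Agent.Lib.Lead.ModTensor.tensorPowOne L).symm.hom
  have hs₁ : CohB1.genLocus _ s₁ = U := genLocus_comp_iso s _
  let σ : ∀ x : X, Coh.structureModule X ⟶ CohB1.tensorPow L (n x + 1) := fun x =>
    castSec (one_mul (n x + 1)) (powSec s₁ (n x + 1))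
  have hσ : ∀ x, CohB1.genLocus _ (σ x) = U := by
    intro x
    rw [genLocus_castSec, genLocus_powSec hinv, hs₁]
  choose c b h1 h2 h3 using fun x => ratio_data (t x) (σ x) U (hσ x)
  have hUc : CompactSpace U.toScheme := by
    obtain ⟨F, hF⟩ := isCompact_univ.elim_finite_subcover
      (fun x : X => ((CohB1.genLocus _ (t x) : X.Opens) : Set X))
      (fun x => (CohB1.genLocus _ (t x)).isOpen) (fun x _ => Set.mem_iUnion.mpr ⟨x, ht x⟩)
    have hUeq : (U : Set X) = ⋃ x ∈ F, ((X.basicOpen (c x) : X.Opens) : Set X) := by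
      ext y
      constructor
      · intro hy
        obtain ⟨x, hx, hyx⟩ := Set.mem_iUnion₂.mp (hF (Set.mem_univ y))
        refine Set.mem_iUnion₂.mpr ⟨x, hx, ?_⟩
        rw [h3 x]
        exact ⟨hy, hyx⟩
      · intro hy
        obtain ⟨x, hx, hyx⟩ := Set.mem_iUnion₂.mp hy
        rw [h3 x] at hyx
        exact hyx.1
    have hUcomp : IsCompact (U : Set X) := by
      rw [hUeq]
      exact F.isCompact_biUnion (fun x _ => ((haff x).basicOpen (c x)).isCompact)
    exact isCompact_iff_compactSpace.mp hUcomp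
  refine isAffineOpen_of_universallyClosed f U (fun x => CohB1.genLocus _ (t x))
    (fun x => ⟨x, ht x⟩) c b h1 ?_
  intro x
  rw [← U.ι.isAffineOpen_iff_of_isOpenImmersion, h2 x]
  exact (haff x).basicOpen (c x)

end Groth.Agent.Lib.Helper12.UCAffine
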