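import Mathlib

set_option linter.style.haveILetI false
set_option linter.unusedSectionVars false

namespace Groth.Agent.Lib.helper12.ValProd

open TensorProduct

universe u

section General

/-- if `J` is a flat ideal then `J ⊗ I → P ⊗ I` is injective for every ideal `I`. -/
theorem rTensor_subtype_injective_of_flat {P : Type*} [CommRing P] (I J : Ideal P)
    [Module.Flat P J] :
    Function.Injective (LinearMap.rTensor I (Submodule.subtype J)) := by
  have h1 : Function.Injective (LinearMap.lTensor J (Submodule.subtype I)) :=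
    Module.Flat.lTensor_preserves_injective_linearMap _ Subtype.val_injective
  let φ1 : J ⊗[P] I →ₗ[P] P :=
    (Submodule.subtype J) ∘ₗ (TensorProduct.rid P J).toLinearMap ∘ₗ
      LinearMap.lTensor J (Submodule.subtype I)
  let φ2 : J ⊗[P] I →ₗ[P] P :=
    (Submodule.subtype I) ∘ₗ (TensorProduct.lid P I).toLinearMap ∘ₗ
      LinearMap.rTensor I (Submodule.subtype J)
  have h12 : φ1 = φ2 := by
    apply TensorProduct.ext'
    intro j i
    simp [φ1, φ2, mul_comm]
  have hφ1 : Function.Injective φ1 := by
    have : (φ1 : J ⊗[P] I → P) = Subtype.val ∘ (TensorProduct.rid P J) ∘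
        (LinearMap.lTensor J (Submodule.subtype I)) := rfl
    rw [this]
    exact Subtype.val_injective.comp ((TensorProduct.rid P J).injective.comp h1)
  rw [h12] at hφ1
  have : (φ2 : J ⊗[P] I → P) = (Subtype.val ∘ (TensorProduct.lid P I)) ∘
        (LinearMap.rTensor I (Submodule.subtype J)) := rfl
  rw [this] at hφ1
  exact Function.Injective.of_comp hφ1

end General

section PiVal

variable {ι : Type*} (W : ι → Type*) [∀ i, CommRing (W i)] [∀ i, IsDomain (W i)]
  [∀ i, ValuationRing (W i)]

/-- a product of valuation domains is a Bezout ring. -/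
theorem isBezout_pi : IsBezout (∀ i, W i) := by
  classical
  rw [IsBezout.iff_span_pair_isPrincipal]
  intro a b
  let c : ∀ i, W i := fun i => if a i ∣ b i then a i else b i
  have hca : ∀ i, c i ∣ a i := by
    intro i
    by_cases h : a i ∣ b i
    · simp [c, h]
    · have := (ValuationRing.dvd_total (a i) (b i)).resolve_left h
      simp [c, h, this]
  have hcb : ∀ i, c i ∣ b i := by
    intro i
    by_cases h : a i ∣ b i
    · simp [c, h]
    · simp [c, h]
  choose x hx using hca
  choose y hy using hcb
  refine ⟨⟨c, ?_⟩⟩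
  apply le_antisymm
  · rw [Ideal.span_le]
    rintro z (rfl | rfl)
    · exact Ideal.mem_span_singleton'.mpr ⟨x, by funext i; simp [hx i, mul_comm]⟩
    · exact Ideal.mem_span_singleton'.mpr ⟨y, by funext i; simp [hy i, mul_comm]⟩
  · rw [Submodule.span_le, Set.singleton_subset_iff]
    have : c = (fun i => if a i ∣ b i then 1 else 0) * a +
        (fun i => if a i ∣ b i then 0 else 1) * b := by
      funext i
      by_cases h : a i ∣ b i <;> simp [c, h]
    rw [this]
    exact Ideal.add_mem _ (Ideal.mul_mem_left _ _ (Ideal.subset_span (by simp)))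
      (Ideal.mul_mem_left _ _ (Ideal.subset_span (by simp)))

/-- principal ideals of a product of domains are flat. -/
theorem flat_span_singleton (a : ∀ i, W i) :
    Module.Flat (∀ i, W i) (Ideal.span {a}) := by
  classical
  let e : ∀ i, W i := fun i => if a i = 0 then 0 else 1
  let b : ∀ i, W i := fun i => if a i = 0 then 1 else a i
  have hab : a = b * e := by
    funext i
    by_cases h : a i = 0 <;> simp [e, b, h]
  have hee : e * e = e := by
    funext i
    by_cases h : a i = 0 <;> simp [e, h]
  have hb : ∀ x : (∀ i, W i), b * x = 0 → x = 0 := by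
    intro x hx
    funext i
    have := congrFun hx i
    simp only [Pi.mul_apply, Pi.zero_apply] at this
    rcases mul_eq_zero.mp this with h | h
    · exfalso
      by_cases h0 : a i = 0 <;> simp [b, h0] at h
    · exact h
  have he_flat : Module.Flat (∀ i, W i) (Ideal.span {e}) := by
    refine Module.Flat.of_retract (M := (∀ i, W i)) (Submodule.subtype _)
      (LinearMap.codRestrict (Ideal.span {e}) (LinearMap.toSpanSingleton (∀ i, W i) (∀ i, W i) e)
        (fun x => Ideal.mem_span_singleton'.mpr ⟨x, rfl⟩)) ?_
    refine LinearMap.ext fun ⟨y, hy⟩ => Subtype.ext ?_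
    obtain ⟨x, rfl⟩ := Ideal.mem_span_singleton'.mp hy
    show x * e * e = x * e
    rw [mul_assoc, hee]
  let ψ : Ideal.span {e} →ₗ[∀ i, W i] Ideal.span {a} :=
    LinearMap.restrict (LinearMap.mulLeft (∀ i, W i) b) (by
      intro y hy
      obtain ⟨x, rfl⟩ := Ideal.mem_span_singleton'.mp hy
      refine Ideal.mem_span_singleton'.mpr ⟨x, ?_⟩
      show x * a = b * (x * e)
      rw [hab]; ring)
  have hψ : Function.Bijective ψ := by
    constructor
    · rw [← LinearMap.ker_eq_bot, LinearMap.ker_eq_bot']
      intro y hy
      have h1 : b * (y : ∀ i, W i) = 0 := congrArg Subtype.val hy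
      exact Subtype.ext (hb _ h1)
    · rintro ⟨z, hz⟩
      obtain ⟨x, rfl⟩ := Ideal.mem_span_singleton'.mp hz
      refine ⟨⟨x * e, Ideal.mem_span_singleton'.mpr ⟨x, rfl⟩⟩, Subtype.ext ?_⟩
      show b * (x * e) = x * a
      rw [hab]; ring
  exact Module.Flat.of_linearEquiv (LinearEquiv.ofBijective ψ hψ).symm

/-- every ideal of a product of valuation domains is flat. -/
theorem flat_ideal (I : Ideal (∀ i, W i)) : Module.Flat (∀ i, W i) I := by
  haveI := isBezout_pi W
  rw [Module.Flat.iff_rTensor_injective]
  intro J hJ
  obtain ⟨a, rfl⟩ := (IsBezout.isPrincipal_of_FG J hJ).principal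
  haveI : Module.Flat (∀ i, W i) (Ideal.span {a}) := flat_span_singleton W a
  exact rTensor_subtype_injective_of_flat I (Ideal.span {a})

end PiVal

section Main

open CategoryTheory

variable (A K : Type u) [CommRing A] [IsDomain A] [Field K] [Algebra A K]
  [IsFractionRing A K] [IsIntegrallyClosed A]

/-- the range of `A` in its fraction field is integrally closed in it. -/
theorem isIntegrallyClosedIn_range :
    IsIntegrallyClosedIn (algebraMap A K).range K := by
  have hA : IsIntegrallyClosedIn A K := (isIntegrallyClosed_iff_isIntegrallyClosedIn K).mp inferInstance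
  rw [isIntegrallyClosedIn_iff]
  refine ⟨Subtype.val_injective, fun {x} hx => ?_⟩
  letI : Algebra A (algebraMap A K).range := (algebraMap A K).rangeRestrict.toAlgebra
  haveI : IsScalarTower A (algebraMap A K).range K := IsScalarTower.of_algebraMap_eq fun _ => rfl
  haveI : Algebra.IsIntegral A (algebraMap A K).range :=
    Algebra.isIntegral_of_surjective (algebraMap A K).rangeRestrict_surjective
  have hx' : IsIntegral A x := isIntegral_trans x hx
  obtain ⟨a, ha⟩ := (isIntegrallyClosedIn_iff.mp hA).2 hx'
  exact ⟨⟨algebraMap A K a, ⟨a, rfl⟩⟩, ha⟩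

theorem main :
    ∃ (V L : Type u) (_ : CommRing V) (_ : CommRing L) (f : A →+* V) (g : V →+* L) (h : K →+* L),
      g.comp f = h.comp (algebraMap A K) ∧
      (∀ I : Ideal V, Module.Flat V I) ∧ g.Flat ∧ Function.Injective g ∧
      Epi (CommRingCat.ofHom g) ∧
      ∀ (v : V) (k : K), g v = h k → ∃! a : A, f a = v ∧ algebraMap A K a = k := by
  classical
  let R₀ : Subring K := (algebraMap A K).range
  haveI : IsIntegrallyClosedIn R₀ K := isIntegrallyClosedIn_range A K
  let J : Type u := {W : ValuationSubring K // R₀ ≤ W.toSubring}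
  let V : Type u := ∀ j : J, j.1
  let L : Type u := J → K
  let M : Submonoid V := Submonoid.pi Set.univ fun j : J => nonZeroDivisors j.1
  haveI hloc : IsLocalization M L := inferInstance
  let f : A →+* V := RingHom.pi fun j : J =>
    (algebraMap A K).codRestrict j.1 (fun a => j.2 ⟨a, rfl⟩)
  let g : V →+* L := algebraMap V L
  let h : K →+* L := RingHom.pi fun _ => RingHom.id K
  have hg : ∀ (v : V) (j : J), g v j = (v j : K) := fun v j => rfl
  refine ⟨V, L, inferInstance, inferInstance, f, g, h, ?_, ?_, ?_, ?_, ?_, ?_⟩
  · ext a j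
    rfl
  · intro I
    exact flat_ideal (fun j : J => (j.1 : Type u)) I
  · rw [RingHom.flat_algebraMap_iff]
    exact IsLocalization.flat L M
  · intro v w hvw
    funext j
    exact Subtype.ext (congrFun hvw j)
  · exact IsLocalization.epi M L
  · intro v k hvk
    have hk : ∀ j : J, (v j : K) = k := fun j => congrFun hvk j
    have hkR : k ∈ R₀ := by
      rw [Subring.eq_iInf_of_isIntegrallyClosedIn (R := R₀), Subring.mem_iInf]
      intro j
      rw [← hk j]
      exact (v j).2
    obtain ⟨a, ha⟩ := hkR
    refine ⟨a, ⟨?_, ha⟩, ?_⟩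
    · funext j
      apply Subtype.ext
      rw [hk j, ← ha]
      rfl
    · rintro b ⟨-, hb⟩
      exact IsFractionRing.injective A K (hb.trans ha.symm)

end Main

end Groth.Agent.Lib.helper12.ValProd
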