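import Mathlib

/-!
# Veronese subrings: the ring-level isomorphisms `B_(g) ≃ A_(φ g)` (helper12)

`φ : B →ₐ[R] A` injective with `φ (ℬ n) = 𝒜 (n * d)`.  For `g ∈ ℬ n` and `f = φ g` we build
`theta : Away ℬ g →+* Away 𝒜 f`, `b / g^k ↦ φ b / f^k`, show that it is bijective and compatible
with the transition maps `awayMap`.
-/

set_option autoImplicit false
universe u
open HomogeneousLocalization

namespace Groth.Agent.Lib.helper12.Veronese

section lift
variable {ι A σ : Type*} [CommRing A] [SetLike σ A] [AddSubgroupClass σ A] [AddCommMonoid ι]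
  [DecidableEq ι] (𝒜 : ι → σ) [GradedRing 𝒜] (x : Submonoid A)

/-- A ring map into the localization with values in the homogeneous localization lifts. -/
theorem exists_lift_val {S : Type*} [CommRing S] (ψ : S →+* Localization x)
    (h : ∀ s, ∃ t : HomogeneousLocalization 𝒜 x, t.val = ψ s) :
    ∃ θ : S →+* HomogeneousLocalization 𝒜 x, ∀ s, (θ s).val = ψ s := by
  choose θ hθ using h
  refine ⟨{ toFun := θ, map_one' := ?_, map_mul' := ?_, map_zero' := ?_, map_add' := ?_ }, hθ⟩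
  · exact val_injective _ (by rw [hθ, val_one, map_one])
  · intro a b
    exact val_injective _ (by rw [hθ, val_mul, hθ, hθ, map_mul])
  · exact val_injective _ (by rw [hθ, val_zero, map_zero])
  · intro a b
    exact val_injective _ (by rw [hθ, val_add, hθ, hθ, map_add])

end lift

variable {R A : Type u} [CommRing R] [CommRing A] [Algebra R A] (𝒜 : ℕ → Submodule R A)
  [GradedAlgebra 𝒜] {B : Type u} [CommRing B] [Algebra R B] (ℬ : ℕ → Submodule R B)
  [GradedAlgebra ℬ] (d : ℕ) (φ : B →ₐ[R] A)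

section
variable {𝒜 ℬ d φ}
variable (hdeg : ∀ n : ℕ, Submodule.map φ.toLinearMap (ℬ n) = 𝒜 (n * d))
include hdeg

omit [GradedAlgebra 𝒜] [GradedAlgebra ℬ] in
lemma map_mem {n : ℕ} {b : B} (hb : b ∈ ℬ n) : φ b ∈ 𝒜 (n * d) :=
  (hdeg n).le (Submodule.mem_map_of_mem hb)

omit [GradedAlgebra 𝒜] [GradedAlgebra ℬ] in
lemma exists_preimage {n : ℕ} {a : A} (ha : a ∈ 𝒜 (n * d)) : ∃ b ∈ ℬ n, φ b = a := by
  have := (hdeg n).ge ha
  obtain ⟨b, hb, rfl⟩ := this
  exact ⟨b, hb, rfl⟩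

end

/-- The localization-level map `B_g → A_f` for `f = φ g`. -/
noncomputable def locMap (g : B) (f : A) (hfg : φ g = f) :
    Localization.Away g →+* Localization.Away f :=
  IsLocalization.map (Localization.Away f) (φ : B →+* A)
    (show Submonoid.powers g ≤ (Submonoid.powers f).comap (φ : B →+* A) by
      rintro _ ⟨k, rfl⟩
      exact ⟨k, by simp [← hfg]⟩)

lemma locMap_eq_awayMap (g : B) :
    locMap φ g (φ g) rfl = Localization.awayMap φ.toRingHom g := rfl

lemma locMap_mk (g : B) (f : A) (hfg : φ g = f) (b : B) (k : ℕ) :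
    locMap φ g f hfg (Localization.mk b ⟨g ^ k, pow_mem (Submonoid.mem_powers g) k⟩) =
      Localization.mk (φ b) ⟨f ^ k, pow_mem (Submonoid.mem_powers f) k⟩ := by
  subst hfg
  rw [locMap, Localization.mk_eq_mk', IsLocalization.map_mk', Localization.mk_eq_mk']
  congr 1
  ext
  simp

lemma locMap_injective (hφ : Function.Injective φ) (g : B) (f : A) (hfg : φ g = f) :
    Function.Injective (locMap φ g f hfg) := by
  subst hfg
  rw [locMap_eq_awayMap, Localization.awayMap_injective_iff]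
  intro a ha
  refine ⟨0, ?_⟩
  have : a = 0 := hφ (by rw [map_zero]; exact ha)
  simp [this]

section
variable {𝒜 ℬ d φ}
variable (hdeg : ∀ n : ℕ, Submodule.map φ.toLinearMap (ℬ n) = 𝒜 (n * d))
include hdeg

theorem exists_theta {n : ℕ} (g : B) (hg : g ∈ ℬ n) (f : A) (hfg : φ g = f) :
    ∃ θ : Away ℬ g →+* Away 𝒜 f, ∀ x, (θ x).val = locMap φ g f hfg x.val := by
  have hf : f ∈ 𝒜 (n * d) := hfg ▸ map_mem hdeg hg
  refine exists_lift_val 𝒜 _ ((locMap φ g f hfg).comp (algebraMap (Away ℬ g) (Localization.Away g)))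
    (fun x => ?_)
  obtain ⟨k, b, hb, rfl⟩ := Away.mk_surjective ℬ hg x
  have hb' : φ b ∈ 𝒜 (k • (n * d)) := by
    have h1 := map_mem hdeg hb
    have e : (k • n) * d = k • (n * d) := by simp [mul_assoc]
    exact e ▸ h1
  refine ⟨Away.mk 𝒜 hf k (φ b) hb', ?_⟩
  rw [Away.val_mk, RingHom.comp_apply, HomogeneousLocalization.algebraMap_apply, Away.val_mk,
    locMap_mk]

end

/-- The ring map `B_(g) → A_(f)`, `b / g^k ↦ φ b / f^k` (`f = φ g`). -/
noncomputable def theta (hdeg : ∀ n : ℕ, Submodule.map φ.toLinearMap (ℬ n) = 𝒜 (n * d))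
    {n : ℕ} (g : B) (hg : g ∈ ℬ n) (f : A) (hfg : φ g = f) : Away ℬ g →+* Away 𝒜 f :=
  (exists_theta hdeg g hg f hfg).choose

section
variable {𝒜 ℬ d φ}
variable (hdeg : ∀ n : ℕ, Submodule.map φ.toLinearMap (ℬ n) = 𝒜 (n * d))

lemma val_theta {n : ℕ} (g : B) (hg : g ∈ ℬ n) (f : A) (hfg : φ g = f) (x : Away ℬ g) :
    (theta 𝒜 ℬ d φ hdeg g hg f hfg x).val = locMap φ g f hfg x.val :=
  (exists_theta hdeg g hg f hfg).choose_spec x

lemma theta_mk {n : ℕ} (g : B) (hg : g ∈ ℬ n) (f : A) (hfg : φ g = f) (k : ℕ) (b : B)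
    (hb : b ∈ ℬ (k • n)) {m : ℕ} (hf : f ∈ 𝒜 m) (hb' : φ b ∈ 𝒜 (k • m)) :
    theta 𝒜 ℬ d φ hdeg g hg f hfg (Away.mk ℬ hg k b hb) = Away.mk 𝒜 hf k (φ b) hb' := by
  apply val_injective
  rw [val_theta, Away.val_mk, Away.val_mk, locMap_mk]

/-- Uniqueness: any ring map compatible with `locMap` is `theta`. -/
lemma eq_theta {n : ℕ} (g : B) (hg : g ∈ ℬ n) (f : A) (hfg : φ g = f)
    (θ : Away ℬ g →+* Away 𝒜 f)
    (h : (algebraMap (Away 𝒜 f) (Localization.Away f)).comp θ =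
      (locMap φ g f hfg).comp (algebraMap (Away ℬ g) (Localization.Away g))) :
    θ = theta 𝒜 ℬ d φ hdeg g hg f hfg := by
  ext x : 1
  apply val_injective
  rw [val_theta]
  exact congrArg (fun r => r x) h

lemma theta_bijective (hφ : Function.Injective φ) {n : ℕ} (g : B) (hg : g ∈ ℬ n) (f : A)
    (hfg : φ g = f) : Function.Bijective (theta 𝒜 ℬ d φ hdeg g hg f hfg) := by
  have hf : f ∈ 𝒜 (n * d) := hfg ▸ map_mem hdeg hg
  constructor
  · intro x y hxy
    apply val_injective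
    apply locMap_injective φ hφ g f hfg
    rw [← val_theta hdeg g hg f hfg, ← val_theta hdeg g hg f hfg, hxy]
  · intro y
    obtain ⟨k, a, ha, rfl⟩ := Away.mk_surjective 𝒜 hf y
    have ha' : a ∈ 𝒜 ((k • n) * d) := by
      have e : (k • n) * d = k • (n * d) := by simp [mul_assoc]
      exact e ▸ ha
    obtain ⟨b, hb, rfl⟩ := exists_preimage hdeg ha'
    exact ⟨Away.mk ℬ hg k b hb, theta_mk hdeg g hg _ hfg k b hb hf ha⟩

/-- Compatibility of `theta` with the transition maps. -/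
lemma theta_comp_awayMap {n n' : ℕ} {g g' : B} (hg : g ∈ ℬ n) (hg' : g' ∈ ℬ n') {f f' : A}
    (hfg : φ g = f) (hfg' : φ g' = f') {x : B} (hx : x = g * g') {y : A} (hy : y = f * f')
    (hxy : φ x = y) {m' : ℕ} (hf' : f' ∈ 𝒜 m') {N : ℕ} (hxN : x ∈ ℬ N) :
    (theta 𝒜 ℬ d φ hdeg x hxN y hxy).comp (awayMap ℬ hg' hx) =
      (awayMap 𝒜 hf' hy).comp (theta 𝒜 ℬ d φ hdeg g hg f hfg) := by
  have hf : f ∈ 𝒜 (n * d) := hfg ▸ map_mem hdeg hg
  ext z : 1
  obtain ⟨k, b, hb, rfl⟩ := Away.mk_surjective ℬ hg z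
  have hb' : φ b ∈ 𝒜 (k • (n * d)) := by
    have h1 := map_mem hdeg hb
    have e : (k • n) * d = k • (n * d) := by simp [mul_assoc]
    exact e ▸ h1
  rw [RingHom.comp_apply, RingHom.comp_apply, theta_mk hdeg g hg f hfg k b hb hf hb',
    awayMap_mk, awayMap_mk]
  apply val_injective
  rw [val_theta, Away.val_mk, Away.val_mk, locMap_mk]
  congr 1
  rw [map_mul, map_pow, hfg']

end

end Groth.Agent.Lib.helper12.Veronese
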