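import Mathlib
import Groth.Agent.Lib.Helper5.GlueCharts

/-!
# Gluing morphisms `Proj 𝒜 ⟶ Proj ℬ` from ring maps on standard affine charts (helper12)
-/

set_option autoImplicit false
universe u
open CategoryTheory AlgebraicGeometry HomogeneousLocalization

namespace Groth.Agent.Lib.helper12.Veronese

section glue
variable {A B σ τ : Type u} [CommRing A] [SetLike σ A] [AddSubgroupClass σ A] [CommRing B]
  [SetLike τ B] [AddSubgroupClass τ B] (𝒜 : ℕ → σ) (ℬ : ℕ → τ) [GradedRing 𝒜] [GradedRing ℬ]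

lemma awayι_congr {m m' : ℕ} (f : A) (hf : f ∈ 𝒜 m) (hm : 0 < m) (hf' : f ∈ 𝒜 m') (hm' : 0 < m') :
    Proj.awayι 𝒜 f hf hm = Proj.awayι 𝒜 f hf' hm' := by
  have : Proj.basicOpenIsoSpec 𝒜 f hf hm = Proj.basicOpenIsoSpec 𝒜 f hf' hm' := by
    ext1
    rw [Proj.basicOpenIsoSpec_hom, Proj.basicOpenIsoSpec_hom]
  rw [Proj.awayι, Proj.awayι, this]

lemma mem_range_awayι {m : ℕ} (f : A) (hf : f ∈ 𝒜 m) (hm : 0 < m) (p : Proj 𝒜) :
    p ∈ Set.range (Proj.awayι 𝒜 f hf hm).base ↔ f ∉ p.asHomogeneousIdeal := by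
  have : p ∈ (Proj.awayι 𝒜 f hf hm).opensRange ↔ f ∉ p.asHomogeneousIdeal := by
    rw [Proj.opensRange_awayι]
    exact ProjectiveSpectrum.mem_basicOpen 𝒜 f p
  exact this

/-- Glue a morphism `Proj 𝒜 ⟶ Proj ℬ` from ring maps `ℬ_(g i) → 𝒜_(f i)` on a family of charts
closed under products (up to the given compatibility data). -/
theorem glue_proj {I : Type u} (m n : I → ℕ) (f : I → A) (g : I → B) (hm : ∀ i, 0 < m i)
    (hn : ∀ i, 0 < n i) (hf : ∀ i, f i ∈ 𝒜 (m i)) (hg : ∀ i, g i ∈ ℬ (n i))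
    (θ : ∀ i, Away ℬ (g i) →+* Away 𝒜 (f i))
    (hcov : ∀ p : Proj 𝒜, ∃ i, f i ∉ p.asHomogeneousIdeal)
    (hcompat : ∀ i j, ∃ θ' : Away ℬ (g i * g j) →+* Away 𝒜 (f i * f j),
      θ'.comp (awayMap ℬ (hg j) rfl) = (awayMap 𝒜 (hf j) rfl).comp (θ i) ∧
      θ'.comp (awayMap ℬ (hg i) (mul_comm _ _)) = (awayMap 𝒜 (hf i) (mul_comm _ _)).comp (θ j)) :
    ∃! e : Proj 𝒜 ⟶ Proj ℬ, ∀ i, Proj.awayι 𝒜 (f i) (hf i) (hm i) ≫ e =
      Spec.map (CommRingCat.ofHom (θ i)) ≫ Proj.awayι ℬ (g i) (hg i) (hn i) := by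
  refine Groth.Agent.Lib.helper5.existsUnique_of_charts
    (fun i => Proj.awayι 𝒜 (f i) (hf i) (hm i)) ?_
    (fun i => Spec.map (CommRingCat.ofHom (θ i)) ≫ Proj.awayι ℬ (g i) (hg i) (hn i)) ?_
  · intro p
    obtain ⟨i, hi⟩ := hcov p
    exact ⟨i, (mem_range_awayι 𝒜 (f i) (hf i) (hm i) p).mpr hi⟩
  · intro i j
    obtain ⟨θ', h1, h2⟩ := hcompat i j
    have e1 := Proj.SpecMap_awayMap_awayι 𝒜 (hf i) (hm i) (hf j) (x := f i * f j) rfl
    have e2 := Proj.SpecMap_awayMap_awayι 𝒜 (hf j) (hm j) (hf i) (x := f i * f j) (mul_comm _ _)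
    have e3 := Proj.SpecMap_awayMap_awayι ℬ (hg i) (hn i) (hg j) (x := g i * g j) rfl
    have e4 := Proj.SpecMap_awayMap_awayι ℬ (hg j) (hn j) (hg i) (x := g i * g j) (mul_comm _ _)
    refine ⟨Spec (.of (Away 𝒜 (f i * f j))),
      Spec.map (CommRingCat.ofHom (awayMap 𝒜 (hf j) rfl)),
      Spec.map (CommRingCat.ofHom (awayMap 𝒜 (hf i) (mul_comm _ _))), ?_, ?_, ?_, ?_⟩
    · rw [e1, e2]
      exact awayι_congr 𝒜 _ _ _ _ _
    · rw [← Category.assoc, ← Spec.map_comp, ← CommRingCat.ofHom_comp, ← h1,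
        CommRingCat.ofHom_comp, Spec.map_comp, Category.assoc, e3,
        ← Category.assoc, ← Spec.map_comp, ← CommRingCat.ofHom_comp, ← h2,
        CommRingCat.ofHom_comp, Spec.map_comp, Category.assoc, e4]
      congr 1
    · rw [e1]
      infer_instance
    · rw [e1]
      intro p ⟨hp1, hp2⟩
      rw [mem_range_awayι] at hp1 hp2 ⊢
      intro hmul
      rcases p.isPrime.mem_or_mem hmul with h | h
      · exact hp1 h
      · exact hp2 h

end glue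

end Groth.Agent.Lib.helper12.Veronese
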