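import Mathlib
import Groth.Agent.Lib.Helper12.Veronese1
import Groth.Agent.Lib.Helper12.Veronese2

/-!
# Veronese: auxiliary lemmas for the scheme isomorphism (helper12)
-/

set_option autoImplicit false
universe u
open CategoryTheory AlgebraicGeometry HomogeneousLocalization

namespace Groth.Agent.Lib.helper12.Veronese

/-- Two morphisms agreeing on a jointly surjective family of open immersions are equal. -/
theorem hom_ext_of_charts {X Y : Scheme.{u}} {ι : Type u}
    {U : ι → Scheme.{u}} (c : ∀ i, U i ⟶ X) [∀ i, IsOpenImmersion (c i)]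
    (hcov : ∀ x : X, ∃ i, x ∈ Set.range (c i).base) (p q : X ⟶ Y)
    (h : ∀ i, c i ≫ p = c i ≫ q) : p = q := by
  let 𝒰 : X.OpenCover := {
    I₀ := ι, X i := U i, f i := c i,
    mem₀ := by
      rw [Scheme.presieve₀_mem_precoverage_iff]
      refine ⟨fun x ↦ ?_, inferInstance⟩
      obtain ⟨i, hi⟩ := hcov x
      exact ⟨i, hi⟩ }
  exact 𝒰.hom_ext _ _ h

section cover
variable {A σ : Type u} [CommRing A] [SetLike σ A] [AddSubgroupClass σ A] (𝒜 : ℕ → σ)
  [GradedRing 𝒜]

/-- Every point of `Proj` misses a homogeneous element of positive degree. -/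
theorem exists_homogeneous_not_mem (p : Proj 𝒜) :
    ∃ n : ℕ, 0 < n ∧ ∃ a ∈ 𝒜 n, a ∉ p.asHomogeneousIdeal := by
  classical
  by_contra H
  apply p.not_irrelevant_le
  intro x hx
  rw [← DirectSum.sum_support_decompose 𝒜 x]
  refine Ideal.sum_mem _ fun c hc => ?_
  have hc0 : c ≠ 0 := by
    rintro rfl
    rw [DFinsupp.mem_support_iff] at hc
    apply hc
    have := (HomogeneousIdeal.mem_irrelevant_iff 𝒜 x).mp hx
    rw [GradedRing.proj_apply] at this
    exact Subtype.ext this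
  by_contra hmem
  exact H ⟨c, Nat.pos_of_ne_zero hc0, _, SetLike.coe_mem _, hmem⟩

end cover

variable {R A : Type u} [CommRing R] [CommRing A] [Algebra R A] (𝒜 : ℕ → Submodule R A)
  [GradedAlgebra 𝒜] {B : Type u} [CommRing B] [Algebra R B] (ℬ : ℕ → Submodule R B)
  [GradedAlgebra ℬ] (d : ℕ) (φ : B →ₐ[R] A)

section
variable {𝒜 ℬ d φ}
variable (hdeg : ∀ n : ℕ, Submodule.map φ.toLinearMap (ℬ n) = 𝒜 (n * d))
include hdeg

/-- `φ` is compatible with the decompositions. -/
lemma decompose_map (hd : 0 < d) (b : B) (i : ℕ) :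
    (DirectSum.decompose 𝒜 (φ b) (i * d) : A) = φ (DirectSum.decompose ℬ b i) := by
  induction b using DirectSum.Decomposition.inductionOn ℬ with
  | zero => simp
  | @homogeneous j m =>
    by_cases h : j = i
    · subst h
      rw [DirectSum.decompose_of_mem_same ℬ m.2,
        DirectSum.decompose_of_mem_same 𝒜 (map_mem hdeg m.2)]
    · rw [DirectSum.decompose_of_mem_ne ℬ m.2 h,
        DirectSum.decompose_of_mem_ne 𝒜 (map_mem hdeg m.2)
          (fun h' => h (Nat.eq_of_mul_eq_mul_right hd h')), map_zero]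
  | add x y hx hy =>
    rw [map_add, DirectSum.decompose_add, DirectSum.decompose_add, DirectSum.add_apply,
      DirectSum.add_apply, Submodule.coe_add, Submodule.coe_add, map_add, hx, hy]

/-- A homogeneous ideal of `B` agreeing with `φ⁻¹ P` on homogeneous elements equals `φ⁻¹ P`. -/
lemma eq_comap_of_homogeneous (hd : 0 < d) (Q : HomogeneousIdeal ℬ) (P : HomogeneousIdeal 𝒜)
    (h : ∀ (k : ℕ) (b : B), b ∈ ℬ k → (b ∈ Q ↔ φ b ∈ P)) :
    Q.toIdeal = Ideal.comap φ P.toIdeal := by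
  classical
  ext b
  rw [Ideal.mem_comap]
  constructor
  · intro hb
    rw [← DirectSum.sum_support_decompose ℬ b, map_sum]
    refine Ideal.sum_mem _ fun c _ => ?_
    exact (h c _ (SetLike.coe_mem _)).mp (Q.isHomogeneous c hb)
  · intro hb
    rw [← DirectSum.sum_support_decompose ℬ b]
    refine Ideal.sum_mem _ fun c _ => ?_
    refine (h c _ (SetLike.coe_mem _)).mpr ?_
    have := P.isHomogeneous (c * d) hb
    rwa [decompose_map hdeg hd] at this

end

/-- `theta` as a ring isomorphism. -/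
noncomputable def thetaEquiv (hdeg : ∀ n : ℕ, Submodule.map φ.toLinearMap (ℬ n) = 𝒜 (n * d))
    (hφ : Function.Injective φ) {n : ℕ} (g : B) (hg : g ∈ ℬ n) (f : A) (hfg : φ g = f) :
    Away ℬ g ≃+* Away 𝒜 f :=
  RingEquiv.ofBijective (theta 𝒜 ℬ d φ hdeg g hg f hfg) (theta_bijective hdeg hφ g hg f hfg)

section
variable {𝒜 ℬ d φ}
variable (hdeg : ∀ n : ℕ, Submodule.map φ.toLinearMap (ℬ n) = 𝒜 (n * d))
  (hφ : Function.Injective φ)

lemma thetaEquiv_apply {n : ℕ} (g : B) (hg : g ∈ ℬ n) (f : A) (hfg : φ g = f) (x : Away ℬ g) :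
    thetaEquiv 𝒜 ℬ d φ hdeg hφ g hg f hfg x = theta 𝒜 ℬ d φ hdeg g hg f hfg x := rfl

lemma thetaEquiv_symm_comp_awayMap {n n' : ℕ} {g g' : B} (hg : g ∈ ℬ n) (hg' : g' ∈ ℬ n')
    {f f' : A} (hfg : φ g = f) (hfg' : φ g' = f') {x : B} (hx : x = g * g') {y : A}
    (hy : y = f * f') (hxy : φ x = y) {m' : ℕ} (hf' : f' ∈ 𝒜 m') {N : ℕ} (hxN : x ∈ ℬ N) :
    ((thetaEquiv 𝒜 ℬ d φ hdeg hφ x hxN y hxy).symm : Away 𝒜 y →+* Away ℬ x).comp
        (awayMap 𝒜 hf' hy) =
      (awayMap ℬ hg' hx).comp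
        ((thetaEquiv 𝒜 ℬ d φ hdeg hφ g hg f hfg).symm : Away 𝒜 f →+* Away ℬ g) := by
  ext z : 1
  apply (thetaEquiv 𝒜 ℬ d φ hdeg hφ x hxN y hxy).injective
  have h := congrArg (fun r => r ((thetaEquiv 𝒜 ℬ d φ hdeg hφ g hg f hfg).symm z))
    (theta_comp_awayMap hdeg hg hg' hfg hfg' hx hy hxy hf' hxN)
  simp only [RingHom.comp_apply] at h
  rw [← thetaEquiv_apply hdeg hφ g hg f hfg, RingEquiv.apply_symm_apply] at h
  simp only [RingHom.comp_apply, RingHom.coe_coe, RingEquiv.apply_symm_apply]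
  rw [thetaEquiv_apply, h]

end

end Groth.Agent.Lib.helper12.Veronese
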