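import Mathlib
import Groth.Agent.Lib.Helper12.NormSec5
import Groth.Agent.Lib.Helper12.AmpleAvoid2
import Groth.Agent.Lib.Helper12.PullAmple

/-!
# Descent of ampleness along a finite morphism carrying a (weak) norm (helper12)

* `WNorm g d`: multiplicative maps `N_U : O(g⁻¹ U) →* O(U)` for all opens `U`, compatible with restriction, with
  `N_U (g♯ a) = a ^ d`, and such that a point where `N_U s` does not vanish has a preimage where `s` does not vanish.
* `mem_basicOpen_norm_of_fibre`: if `s` does not vanish on the fibre over `x` then `N_U s` does not vanish at `x`.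
* `exists_norm_genLocus_of_wnorm`: the norm of a section `σ` of `g^* M` as a section of `M^{⊗ d}`.
* `isAmple_of_isAmple_pullback_of_wnorm`: if `g^* L` is ample then `L` is ample.
-/

set_option autoImplicit false
set_option linter.style.haveILetI false
set_option linter.dupNamespace false
universe u
open CategoryTheory AlgebraicGeometry Opposite TopologicalSpace
open Scheme.Modules
namespace Groth.Agent.Lib.Helper12.WNorm
open Groth.Agent.Lib.Helper12.NormSec
open Groth.Agent.Lib.helper11.InvMod Groth.Agent.Lib.helper11.GenLocus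
open Groth.Agent.Lib.helper12.TwistExtend Groth.Agent.Lib.helper12.AmpleBasis
open Groth.Agent.Lib.helper12.AmpleBasis2
open Groth.Agent.Lib.helper12.AmplePow Groth.Agent.Lib.helper12.TensorInv
open Groth.Agent.Lib.helper11.IsoLocus Groth.Agent.Lib.helper12.PullAmple
open Groth.Agent.Lib.Helper12.AmpleAvoid

variable {X' X : Scheme.{u}}

/-- a weak norm of degree `d` for `g`. -/
structure WNorm (g : X' ⟶ X) (d : ℕ) where
  norm : ∀ U : X.Opens, Γ(X', g ⁻¹ᵁ U) →* Γ(X, U)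
  norm_res : ∀ {U V : X.Opens} (h : V ≤ U) (s : Γ(X', g ⁻¹ᵁ U)),
    rf h (norm U s) = norm V (rf (g.preimage_mono h) s)
  norm_app : ∀ (U : X.Opens) (a : Γ(X, U)), norm U (g.app U a) = a ^ d
  norm_mem : ∀ (U : X.Opens) (s : Γ(X', g ⁻¹ᵁ U)) (x : X), x ∈ X.basicOpen (norm U s) →
    ∃ x' : X', g x' = x ∧ x' ∈ X'.basicOpen s

variable {g : X' ⟶ X} {d : ℕ}

/-- if `s` does not vanish on the fibre over `x`, then its norm does not vanish at `x`. -/
theorem mem_basicOpen_norm_of_fibre [IsFinite g] (N : WNorm g d) (U : X.Opens)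
    (s : Γ(X', g ⁻¹ᵁ U)) (x : X) (hx : x ∈ U)
    (h : ∀ x' : X', g x' = x → x' ∈ X'.basicOpen s) : x ∈ X.basicOpen (N.norm U s) := by
  have hcl : IsClosed (g '' ((X'.basicOpen s : Set X')ᶜ)) :=
    g.isClosedMap _ (X'.basicOpen s).isOpen.isClosed_compl
  let V₀ : X.Opens := ⟨(g '' ((X'.basicOpen s : Set X')ᶜ))ᶜ, hcl.isOpen_compl⟩
  let V : X.Opens := U ⊓ V₀
  have hxV : x ∈ V := by
    refine ⟨hx, ?_⟩
    rintro ⟨x', hx'1, hx'2⟩
    exact hx'1 (h x' hx'2)
  have hVU : V ≤ U := inf_le_left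
  have hle : g ⁻¹ᵁ V ≤ X'.basicOpen s := by
    intro y hy
    by_contra hys
    exact hy.2 ⟨y, hys, rfl⟩
  have hunit : IsUnit (rf (g.preimage_mono hVU) s) := by
    have h1 : IsUnit (rf (X'.basicOpen_le s) s) := RingedSpace.isUnit_res_basicOpen _ s
    have h2 := h1.map (X'.presheaf.map (homOfLE hle).op).hom
    have h3 : (X'.presheaf.map (homOfLE hle).op).hom (rf (X'.basicOpen_le s) s) =
        rf (g.preimage_mono hVU) s := rf_rf _ _ s
    rwa [h3] at h2
  have h4 : IsUnit (rf hVU (N.norm U s)) := by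
    rw [N.norm_res hVU s]
    exact hunit.map (N.norm V)
  have h5 := X.basicOpen_of_isUnit h4
  unfold rf at h5
  rw [Scheme.basicOpen_res] at h5
  exact (inf_eq_left.mp h5) hxV

/-- two local norm sections on the same open agree. -/
theorem loc_eq (N : WNorm g d) (M : X.Modules) {W : X.Opens} (hT : IsTrivOn M W) (ε₁ ε₂ : Γ(M, W))
    (h₂ : IsGen M W ε₂) (b₁ b₂ : Γ(X', g ⁻¹ᵁ W))
    (hb : b₁ • eta g M W ε₁ = b₂ • eta g M W ε₂) :
    N.norm W b₁ • lpow M ε₁ d = N.norm W b₂ • lpow M ε₂ d := by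
  have hbij := h₂ W le_rfl
  rw [rs_self] at hbij
  obtain ⟨α, hα⟩ := hbij.2 ε₁
  have hα' : α • ε₂ = ε₁ := hα
  have hη := isGen_eta g hT le_rfl ε₂ h₂ (g ⁻¹ᵁ W) le_rfl
  rw [rs_self] at hη
  have hb2 : b₁ * g.app W α = b₂ := by
    apply hη.1
    change (b₁ * g.app W α) • eta g M W ε₂ = b₂ • eta g M W ε₂
    rw [← hb, ← hα', eta_smul, mul_smul]
  rw [← hb2, map_mul, N.norm_app, ← hα', lpow_smul, smul_smul]

/-- **Norm of a section**: for `g` finite with a weak norm of degree `d` and `M` invertible, every section `σ` of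
`g^* M` has a norm `t`, a section of `M^{⊗ d}`, with `{x | g⁻¹(x) ⊆ X'_σ} ⊆ X_t ⊆ g (X'_σ)`. -/
theorem exists_norm_genLocus_of_wnorm [IsFinite g] (N : WNorm g d)
    {M : X.Modules} (hM : PicF.IsInvertible M)
    (σ : Coh.structureModule X' ⟶ (Scheme.Modules.pullback g).obj M) :
    ∃ t : Coh.structureModule X ⟶ CohB1.tensorPow M d,
      (∀ x : X, (∀ x' : X', g x' = x → x' ∈ CohB1.genLocus _ σ) → x ∈ CohB1.genLocus _ t) ∧
      ∀ y : X, y ∈ CohB1.genLocus _ t → ∃ y' : X', g y' = y ∧ y' ∈ CohB1.genLocus _ σ := by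
  classical
  let ι := {U : X.Opens // IsAffineOpen U ∧ IsTrivOn M U}
  let U : ι → X.Opens := fun i => i.1
  have hU : ∀ i : ι, IsAffineOpen (U i) := fun i => i.2.1
  have hT : ∀ i : ι, IsTrivOn M (U i) := fun i => i.2.2
  have hcov : (⊤ : X.Opens) ≤ ⨆ i, U i := by
    intro x _
    obtain ⟨U₂, hx₂, hT₂⟩ := hM x
    obtain ⟨V, hV, hxV, hVle⟩ := (Opens.isBasis_iff_nbhd.mp X.isBasis_affineOpens) hx₂
    exact Opens.mem_iSup.mpr ⟨⟨V, hV, IsTrivOn.of_le hVle hT₂⟩, hxV⟩
  have hε : ∀ i : ι, ∃ ε : Γ(M, U i), IsGen M (U i) ε := fun i =>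
    exists_isGen_of_isTrivOn (hT i) le_rfl
  choose ε hε using hε
  have hb : ∀ i, ∃ b : Γ(X', g ⁻¹ᵁ (U i)), sec σ (g ⁻¹ᵁ (U i)) = b • eta g M (U i) (ε i) := by
    intro i
    have hη := isGen_eta g (hT i) le_rfl (ε i) (hε i) (g ⁻¹ᵁ (U i)) le_rfl
    rw [rs_self] at hη
    obtain ⟨b, hb⟩ := hη.2 (sec σ (g ⁻¹ᵁ (U i)))
    exact ⟨b, hb.symm⟩
  choose b hb using hb
  let sf : ∀ i, (CohB1.tensorPow M d).val.obj (op (U i)) :=
    fun i => N.norm (U i) (b i) • lpow M (ε i) d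
  have hsf : ∀ i j, res (CohB1.tensorPow M d) (inf_le_left : U i ⊓ U j ≤ U i) (sf i) =
      res (CohB1.tensorPow M d) (inf_le_right : U i ⊓ U j ≤ U j) (sf j) := by
    intro i j
    have h₁ : U i ⊓ U j ≤ U i := inf_le_left
    have h₂ : U i ⊓ U j ≤ U j := inf_le_right
    change rs (CohB1.tensorPow M d) h₁ (N.norm (U i) (b i) • lpow M (ε i) d) =
      rs (CohB1.tensorPow M d) h₂ (N.norm (U j) (b j) • lpow M (ε j) d)
    rw [rs_smul, rs_smul, lpow_rs, lpow_rs, N.norm_res h₁, N.norm_res h₂]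
    refine loc_eq N M (IsTrivOn.of_le h₁ (hT i)) _ _ ((hε j).rs h₂) _ _ ?_
    have k₁ := congrArg (rs ((Scheme.Modules.pullback g).obj M) (g.preimage_mono h₁)) (hb i)
    have k₂ := congrArg (rs ((Scheme.Modules.pullback g).obj M) (g.preimage_mono h₂)) (hb j)
    rw [rs_sec, rs_smul, eta_rs g M h₁] at k₁
    rw [rs_sec, rs_smul, eta_rs g M h₂] at k₂
    exact k₁.symm.trans k₂
  obtain ⟨T, hTg⟩ := exists_glue (CohB1.tensorPow M d) U hcov sf hsf
  let t : Coh.structureModule X ⟶ CohB1.tensorPow M d := homOfSec _ T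
  have ht : ∀ i, sec t (U i) = N.norm (U i) (b i) • lpow M (ε i) d := fun i =>
    (val_homOfSec _ T (U i)).trans (hTg i)
  have key : ∀ i : ι, CohB1.genLocus _ σ ⊓ g ⁻¹ᵁ (U i) = X'.basicOpen (b i) ∧
      CohB1.genLocus _ t ⊓ U i = X.basicOpen (N.norm (U i) (b i)) := by
    intro i
    refine ⟨?_, ?_⟩
    · exact genLocus_inf_eq_basicOpen_of_isGen σ _
        (isGen_eta g (hT i) le_rfl (ε i) (hε i)) (b i) (hb i)
    · have hbi := hε i _ le_rfl
      rw [rs_self] at hbi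
      exact genLocus_inf_eq_basicOpen_of_isGen t _
        (isGen_lpow hM (hU i) (hT i) (ε i) hbi d) _ (ht i)
  refine ⟨t, ?_, ?_⟩
  · intro x hx
    obtain ⟨i, hi⟩ := Opens.mem_iSup.mp (hcov (show x ∈ (⊤ : X.Opens) from trivial))
    have : x ∈ X.basicOpen (N.norm (U i) (b i)) := by
      refine mem_basicOpen_norm_of_fibre N (U i) (b i) x hi fun x' hx' => ?_
      rw [← (key i).1]
      exact ⟨hx x' hx', by change g x' ∈ U i; rw [hx']; exact hi⟩
    rw [← (key i).2] at this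
    exact this.1
  · intro y hy
    obtain ⟨i, hi⟩ := Opens.mem_iSup.mp (hcov (show y ∈ (⊤ : X.Opens) from trivial))
    have h1 : y ∈ X.basicOpen (N.norm (U i) (b i)) := by
      rw [← (key i).2]
      exact ⟨hy, hi⟩
    obtain ⟨y', hy'1, hy'2⟩ := N.norm_mem (U i) (b i) y h1
    rw [← (key i).1] at hy'2
    exact ⟨y', hy'1, hy'2.1⟩

/-- **Descent of ampleness along a finite morphism with a weak norm**: if `X` is quasi-compact and `g^* L` is ample,
then `L` is ample. -/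
theorem isAmple_of_isAmple_pullback_of_wnorm [CompactSpace X] [IsFinite g] (N : WNorm g d) (hd : 0 < d)
    {L : X.Modules} (hL : PicF.IsInvertible L)
    (h : CohB1.IsAmple ((Scheme.Modules.pullback g).obj L)) : CohB1.IsAmple L := by
  rw [isAmple_iff_isBasis hL, Opens.isBasis_iff_nbhd]
  intro W x hxW
  have hfin : (g ⁻¹' {x}).Finite := g.finite_preimage_singleton x
  obtain ⟨k, σ', -, hσW, hTσ⟩ := exists_section_of_finite h (g ⁻¹ᵁ W) (g ⁻¹' {x}) hfin (by
    intro x' hx'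
    change g x' ∈ W
    rw [show g x' = x from hx']
    exact hxW)
  have hM := isInvertible_tensorPow hL (k + 1)
  let φ := pullTensorPowIso g hL (k + 1)
  have hσ : CohB1.genLocus _ (σ' ≫ φ.inv) = CohB1.genLocus _ σ' := genLocus_comp_iso σ' φ.symm
  obtain ⟨t, ht1, ht2⟩ := exists_norm_genLocus_of_wnorm N hM (σ' ≫ φ.inv)
  refine ⟨CohB1.genLocus _ t, ?_, ?_, ?_⟩
  · apply genLocusFamily_tensorPow_subset L (k + 1) (Nat.succ_pos k)
    have heq : d = (d - 1) + 1 := (Nat.sub_add_cancel hd).symm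
    exact ⟨d - 1, castSec heq t, (genLocus_castSec heq t).symm⟩
  · refine ht1 x (fun x' hx' => ?_)
    rw [hσ]
    exact hTσ hx'
  · intro y hy
    obtain ⟨y', hy'1, hy'2⟩ := ht2 y hy
    rw [hσ] at hy'2
    have h3 : g y' ∈ W := hσW hy'2
    rwa [hy'1] at h3

end Groth.Agent.Lib.Helper12.WNorm
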