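import Mathlib
import Groth.Agent.Lib.Helper12.WNorm1
import Groth.Agent.Lib.Helper12.NormFn1

/-!
# Norms of functions characterised on free charts (helper12)

A *free chart* for `g : X' ⟶ X` is an affine open `W` of `X` with dual-basis data `D` for `O(W) → O(g⁻¹ W)` satisfying
`D.mat 1 = 1` (i.e. coming from a basis of rank `n`).

* `IsNormOn g D₀ U b a`: on every free chart `W ≤ U` (of rank `n`), `a|_W = Nm_W(b|_W) ^ (D₀ / n)`.
* `chart_res`, `isNormOn_chart`: the chart norms satisfy this on the chart.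
* `IsNormOn.of_cover`, `IsNormOn.unique`, `exists_isNormOn`: locality, uniqueness (reduced `X`, dense charts) and
  existence from local existence.
* `nonempty_wnorm`: assembling a weak norm of degree `D₀`.
-/

set_option autoImplicit false
set_option linter.style.haveILetI false
universe u
open CategoryTheory AlgebraicGeometry Opposite TopologicalSpace
namespace Groth.Agent.Lib.Helper12.WNorm
open Groth.Agent.Lib.Helper12.NormSec Groth.Agent.Lib.Helper12.NormFn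
open Groth.Agent.Lib.helper28.FinProjCharpoly

variable {X' X : Scheme.{u}} (g : X' ⟶ X)

/-- `a` is the norm (normalised to degree `D₀`) of `b` over `U`, as tested on all free charts inside `U`. -/
def IsNormOn (D₀ : ℕ) (U : X.Opens) (b : Γ(X', g ⁻¹ᵁ U)) (a : Γ(X, U)) : Prop :=
  ∀ (W : X.Opens) (hWU : W ≤ U), IsAffineOpen W → ∀ (n : ℕ) (D : DualBasis (g.app W).hom n),
    D.mat 1 = 1 → rf hWU a = (D.nm (rf (g.preimage_mono hWU) b)) ^ (D₀ / n)

variable {g}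

/-- two free charts on the same open give the same normalised norm. -/
theorem chart_eq_same (D₀ : ℕ) {W : X.Opens} {n₁ n₂ : ℕ} (D₁ : DualBasis (g.app W).hom n₁)
    (D₂ : DualBasis (g.app W).hom n₂) (o₁ : D₁.mat 1 = 1) (o₂ : D₂.mat 1 = 1)
    (b : Γ(X', g ⁻¹ᵁ W)) : (D₁.nm b) ^ (D₀ / n₁) = (D₂.nm b) ^ (D₀ / n₂) := by
  by_cases hnt : Nontrivial Γ(X, W)
  · have hn : n₁ = n₂ := eq_of_mat_one D₁ D₂ o₁ o₂
    subst hn
    rw [D₁.nm_indep D₂]
  · have hs : Subsingleton Γ(X, W) := not_nontrivial_iff_subsingleton.mp hnt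
    exact Subsingleton.elim _ _

/-- the normalised norms of two free charts agree on a smaller chart. -/
theorem chart_res [IsAffineHom g] (D₀ : ℕ) {W W' : X.Opens} (hW : IsAffineOpen W)
    (hW' : IsAffineOpen W') (h : W' ≤ W) {n n' : ℕ} (D : DualBasis (g.app W).hom n)
    (D' : DualBasis (g.app W').hom n') (o : D.mat 1 = 1) (o' : D'.mat 1 = 1)
    (b : Γ(X', g ⁻¹ᵁ W)) :
    rf h ((D.nm b) ^ (D₀ / n)) = (D'.nm (rf (g.preimage_mono h) b)) ^ (D₀ / n') := by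
  have hex : ∀ x : ↥W', ∃ (f : Γ(X, W')) (f' : Γ(X, W)),
      X.basicOpen f = X.basicOpen f' ∧ x.1 ∈ X.basicOpen f :=
    fun x => exists_basicOpen_le_affine_inter hW' hW x.1 ⟨x.2, h x.2⟩
  choose f f' hff' hxf using hex
  refine eq_of_cover_fn (fun x : ↥W' => X.basicOpen (f x)) W' (fun x => X.basicOpen_le _) ?_ _ _ ?_
  · intro y hy
    exact Opens.mem_iSup.mpr ⟨⟨y, hy⟩, hxf ⟨y, hy⟩⟩
  · intro x
    have hle : X.basicOpen (f x) ≤ W := (X.basicOpen_le (f x)).trans h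
    obtain ⟨E, oE, hE⟩ := exists_dualBasis_of_eq_basicOpen g hW hle (f' x) (hff' x) D
    obtain ⟨E', oE', hE'⟩ := exists_dualBasis_of_eq_basicOpen g hW' (X.basicOpen_le (f x)) (f x) rfl D'
    rw [rf_rf, rf_pow, rf_pow, ← hE, ← hE', rf_rf]
    exact chart_eq_same D₀ E E' (oE o) (oE' o') _

/-- the normalised norm of a free chart is a norm on the chart. -/
theorem isNormOn_chart [IsAffineHom g] (D₀ : ℕ) {W : X.Opens} (hW : IsAffineOpen W) {n : ℕ}
    (D : DualBasis (g.app W).hom n) (o : D.mat 1 = 1) (b : Γ(X', g ⁻¹ᵁ W)) :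
    IsNormOn g D₀ W b ((D.nm b) ^ (D₀ / n)) :=
  fun _ hW'W hW' _ D' o' => chart_res D₀ hW hW' hW'W D D' o o' b

theorem IsNormOn.res {D₀ : ℕ} {U : X.Opens} {b : Γ(X', g ⁻¹ᵁ U)} {a : Γ(X, U)}
    (h : IsNormOn g D₀ U b a) {V : X.Opens} (hVU : V ≤ U) :
    IsNormOn g D₀ V (rf (g.preimage_mono hVU) b) (rf hVU a) := by
  intro W hWV hW n D o
  rw [rf_rf, rf_rf]
  exact h W (hWV.trans hVU) hW n D o

/-- locality of `IsNormOn`. -/
theorem IsNormOn.of_cover [IsAffineHom g] {D₀ : ℕ} {U : X.Opens} {b : Γ(X', g ⁻¹ᵁ U)} {a : Γ(X, U)}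
    {ι : Type*} (V : ι → X.Opens) (hV : ∀ i, V i ≤ U) (hcov : U ≤ ⨆ i, V i)
    (h : ∀ i, IsNormOn g D₀ (V i) (rf (g.preimage_mono (hV i)) b) (rf (hV i) a)) :
    IsNormOn g D₀ U b a := by
  intro W hWU hW n D o
  -- cover `W` by basic opens of `W` contained in some `V i`
  have hex : ∀ x : ↥W, ∃ (i : ι) (f : Γ(X, W)), x.1 ∈ X.basicOpen f ∧ X.basicOpen f ≤ V i := by
    intro x
    obtain ⟨i, hi⟩ := Opens.mem_iSup.mp (hcov (hWU x.2))
    obtain ⟨f, hfle, hxf⟩ := hW.exists_basicOpen_le (V := V i) ⟨x.1, hi⟩ x.2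
    exact ⟨i, f, hxf, hfle⟩
  choose i f hxf hfle using hex
  refine eq_of_cover_fn (fun x : ↥W => X.basicOpen (f x)) W (fun x => X.basicOpen_le _) ?_ _ _ ?_
  · intro y hy
    exact Opens.mem_iSup.mpr ⟨⟨y, hy⟩, hxf ⟨y, hy⟩⟩
  · intro x
    obtain ⟨E, oE, hE⟩ := exists_dualBasis_of_eq_basicOpen g hW (X.basicOpen_le (f x)) (f x) rfl D
    have h1 := h (i x) (X.basicOpen (f x)) (hfle x) (hW.basicOpen (f x)) n E (oE o)
    rw [rf_rf, rf_rf] at h1
    rw [rf_rf, rf_pow, ← hE, rf_rf]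
    exact h1

theorem IsNormOn.mul {D₀ : ℕ} {U : X.Opens} {b b' : Γ(X', g ⁻¹ᵁ U)} {a a' : Γ(X, U)}
    (h : IsNormOn g D₀ U b a) (h' : IsNormOn g D₀ U b' a') : IsNormOn g D₀ U (b * b') (a * a') := by
  intro W hWU hW n D o
  rw [rf_mul, rf_mul, h W hWU hW n D o, h' W hWU hW n D o, D.nm_mul, mul_pow]

theorem IsNormOn.one (D₀ : ℕ) (U : X.Opens) : IsNormOn g D₀ U 1 1 := by
  intro W hWU hW n D o
  rw [rf_one, rf_one, D.nm_one, one_pow]

/-- the norm of a function pulled back from `X`. -/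
theorem IsNormOn.app {D₀ : ℕ}
    (hdiv : ∀ (W : X.Opens), IsAffineOpen W → Nontrivial Γ(X, W) → ∀ (n : ℕ)
      (D : DualBasis (g.app W).hom n), D.mat 1 = 1 → n ∣ D₀)
    (U : X.Opens) (r : Γ(X, U)) : IsNormOn g D₀ U (g.app U r) (r ^ D₀) := by
  intro W hWU hW n D o
  by_cases hnt : Nontrivial Γ(X, W)
  · have hn := hdiv W hW hnt n D o
    have h1 : rf (g.preimage_mono hWU) (g.app U r) = g.app W (rf hWU r) := by
      have := g.naturality (homOfLE hWU).op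
      exact (congrArg (fun φ => φ.hom r) this).symm
    rw [h1, nm_map_of_mat_one D o, ← pow_mul, Nat.mul_div_cancel' hn, rf_pow]
  · have hs : Subsingleton Γ(X, W) := not_nontrivial_iff_subsingleton.mp hnt
    exact Subsingleton.elim _ _

/-- **Uniqueness** of norms on a reduced scheme with dense free charts. -/
theorem IsNormOn.unique [IsReduced X]
    (hdense : ∀ O : X.Opens, O ≠ ⊥ → ∃ (W : X.Opens) (_ : W ≤ O) (_ : IsAffineOpen W)
      (_ : Nontrivial Γ(X, W)) (n : ℕ) (D : DualBasis (g.app W).hom n), D.mat 1 = 1)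
    {D₀ : ℕ} {U : X.Opens} {b : Γ(X', g ⁻¹ᵁ U)} {a a' : Γ(X, U)}
    (h : IsNormOn g D₀ U b a) (h' : IsNormOn g D₀ U b a') : a = a' := by
  rw [← sub_eq_zero, ← basicOpen_eq_bot_iff]
  by_contra hne
  obtain ⟨W, hWO, hW, hnt, n, D, o⟩ := hdense _ hne
  have hWU : W ≤ U := hWO.trans (X.basicOpen_le _)
  have h1 : rf hWU (a - a') = 0 := by
    change (X.presheaf.map (homOfLE hWU).op).hom (a - a') = 0
    rw [map_sub]
    change rf hWU a - rf hWU a' = 0
    rw [h W hWU hW n D o, h' W hWU hW n D o, sub_self]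
  have h2 : IsUnit (rf hWU (a - a')) := by
    have h3 : IsUnit (rf (X.basicOpen_le (a - a')) (a - a')) :=
      RingedSpace.isUnit_res_basicOpen _ (a - a')
    have h4 := h3.map (X.presheaf.map (homOfLE hWO).op).hom
    have h5 : (X.presheaf.map (homOfLE hWO).op).hom (rf (X.basicOpen_le (a - a')) (a - a')) =
        rf hWU (a - a') := rf_rf _ _ _
    rwa [h5] at h4
  rw [h1] at h2
  exact not_isUnit_zero h2

/-- **Existence** of norms from local existence. -/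
theorem exists_isNormOn [IsReduced X] [IsAffineHom g]
    (hdense : ∀ O : X.Opens, O ≠ ⊥ → ∃ (W : X.Opens) (_ : W ≤ O) (_ : IsAffineOpen W)
      (_ : Nontrivial Γ(X, W)) (n : ℕ) (D : DualBasis (g.app W).hom n), D.mat 1 = 1)
    {D₀ : ℕ} (U : X.Opens) (b : Γ(X', g ⁻¹ᵁ U))
    (hloc : ∀ x ∈ U, ∃ (V : X.Opens) (hVU : V ≤ U), x ∈ V ∧
      ∃ a : Γ(X, V), IsNormOn g D₀ V (rf (g.preimage_mono hVU) b) a) :
    ∃ a : Γ(X, U), IsNormOn g D₀ U b a := by
  let ι := {V : X.Opens // ∃ hVU : V ≤ U, ∃ a : Γ(X, V), IsNormOn g D₀ V (rf (g.preimage_mono hVU) b) a}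
  let W : ι → X.Opens := fun i => i.1
  have hWU : ∀ i : ι, W i ≤ U := fun i => i.2.choose
  have hcov : U ≤ ⨆ i, W i := by
    intro y hy
    obtain ⟨V, hVU, hyV, ha⟩ := hloc y hy
    exact Opens.mem_iSup.mpr ⟨⟨V, hVU, ha⟩, hyV⟩
  let sf : ∀ i : ι, Γ(X, W i) := fun i => i.2.choose_spec.choose
  have hsf : ∀ i : ι, IsNormOn g D₀ (W i) (rf (g.preimage_mono (hWU i)) b) (sf i) :=
    fun i => i.2.choose_spec.choose_spec
  have hcompat : TopCat.Presheaf.IsCompatible X.sheaf.1 W sf := by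
    intro i j
    change rf (inf_le_left : W i ⊓ W j ≤ W i) (sf i) = rf (inf_le_right : W i ⊓ W j ≤ W j) (sf j)
    have h1 := (hsf i).res (inf_le_left : W i ⊓ W j ≤ W i)
    have h2 := (hsf j).res (inf_le_right : W i ⊓ W j ≤ W j)
    rw [rf_rf] at h1 h2
    exact IsNormOn.unique hdense h1 h2
  obtain ⟨T, hT, -⟩ := TopCat.Sheaf.existsUnique_gluing' X.sheaf W U
    (fun i => homOfLE (hWU i)) hcov sf hcompat
  refine ⟨T, IsNormOn.of_cover W hWU hcov fun i => ?_⟩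
  have : rf (hWU i) T = sf i := hT i
  rw [this]
  exact hsf i

/-- **Assembling a weak norm** of degree `D₀`. -/
theorem nonempty_wnorm [IsReduced X] [IsAffineHom g] (D₀ : ℕ)
    (hdense : ∀ O : X.Opens, O ≠ ⊥ → ∃ (W : X.Opens) (_ : W ≤ O) (_ : IsAffineOpen W)
      (_ : Nontrivial Γ(X, W)) (n : ℕ) (D : DualBasis (g.app W).hom n), D.mat 1 = 1)
    (hdiv : ∀ (W : X.Opens), IsAffineOpen W → Nontrivial Γ(X, W) → ∀ (n : ℕ)
      (D : DualBasis (g.app W).hom n), D.mat 1 = 1 → n ∣ D₀)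
    (hloc : ∀ (U : X.Opens) (b : Γ(X', g ⁻¹ᵁ U)), ∀ x ∈ U, ∃ (V : X.Opens) (hVU : V ≤ U), x ∈ V ∧
      ∃ a : Γ(X, V), IsNormOn g D₀ V (rf (g.preimage_mono hVU) b) a)
    (hmem : ∀ (U : X.Opens) (b : Γ(X', g ⁻¹ᵁ U)) (a : Γ(X, U)), IsNormOn g D₀ U b a →
      ∀ x ∈ X.basicOpen a, ∃ x' : X', g x' = x ∧ x' ∈ X'.basicOpen b) :
    Nonempty (WNorm g D₀) := by
  have hex : ∀ (U : X.Opens) (b : Γ(X', g ⁻¹ᵁ U)), ∃ a : Γ(X, U), IsNormOn g D₀ U b a :=
    fun U b => exists_isNormOn hdense U b (hloc U b)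
  choose ν hν using hex
  have huniq : ∀ (U : X.Opens) (b : Γ(X', g ⁻¹ᵁ U)) (a : Γ(X, U)), IsNormOn g D₀ U b a → ν U b = a :=
    fun U b a ha => IsNormOn.unique hdense (hν U b) ha
  refine ⟨{
    norm := fun U =>
      { toFun := ν U
        map_one' := huniq U 1 1 (IsNormOn.one D₀ U)
        map_mul' := fun b b' => huniq U _ _ ((hν U b).mul (hν U b')) }
    norm_res := fun {U V} h s => ?_
    norm_app := fun U a => huniq U _ _ (IsNormOn.app hdiv U a)
    norm_mem := fun U s x hx => hmem U s (ν U s) (hν U s) x hx }⟩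
  exact (huniq V _ _ ((hν U s).res h)).symm

end Groth.Agent.Lib.Helper12.WNorm
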