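import Mathlib

/-!
# Two lemmas on localizations of Noetherian domains (helper12)

* `exists_away_isDomain`: if the localization of a Noetherian ring `A` at a prime `P` is a domain, then so is `A_f`
  for some `f ∉ P`.
* `exists_mul_eq_of_isIntegral`: if `A` is a domain whose localization at `P` is integrally closed, and `y ∈ A_{a'}` is
  integral over `A`, then `y = a₁ / s` for some `s ∉ P`.
-/

set_option autoImplicit false
set_option linter.style.haveILetI false
universe u
namespace Groth.Agent.Lib.Helper12.WNorm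

/-- spreading out the domain property of a local ring of a Noetherian ring. -/
theorem exists_away_isDomain {A : Type u} [CommRing A] [IsNoetherianRing A] (P : Ideal A) [P.IsPrime]
    (S : Type*) [CommRing S] [Algebra A S] [IsLocalization.AtPrime S P] [IsDomain S] :
    ∃ f : A, f ∉ P ∧ ∀ (T : Type u) [CommRing T] [Algebra A T] [IsLocalization.Away f T], IsDomain T := by
  classical
  set p₁ : Ideal A := RingHom.ker (algebraMap A S) with hp₁
  obtain ⟨G, hG⟩ := (IsNoetherian.noetherian p₁ : p₁.FG)
  have hs : ∀ g : A, g ∈ G → ∃ s : A, s ∉ P ∧ s * g = 0 := by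
    intro g hg
    have h1 : algebraMap A S g = 0 := by
      have : g ∈ p₁ := hG ▸ Ideal.subset_span hg
      exact this
    obtain ⟨m, hm⟩ := (IsLocalization.map_eq_zero_iff P.primeCompl S g).mp h1
    exact ⟨m.1, m.2, hm⟩
  let s : A → A := fun g => if h : g ∈ G then (hs g h).choose else 1
  have hs1 : ∀ g ∈ G, s g ∉ P := fun g hg => by
    simp only [s, dif_pos hg]
    exact (hs g hg).choose_spec.1
  have hs2 : ∀ g ∈ G, s g * g = 0 := fun g hg => by
    simp only [s, dif_pos hg]
    exact (hs g hg).choose_spec.2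
  let f : A := ∏ g ∈ G, s g
  have hfP : f ∉ P := by
    have : f ∈ P.primeCompl := Submonoid.prod_mem P.primeCompl (fun g hg => hs1 g hg)
    exact this
  have hfz : ∀ z ∈ p₁, f * z = 0 := by
    intro z hz
    rw [← hG] at hz
    refine Submodule.span_induction (p := fun z _ => f * z = 0) ?_ ?_ ?_ ?_ hz
    · intro g hg
      have : f = (∏ g' ∈ G.erase g, s g') * s g := (Finset.prod_erase_mul G s hg).symm
      rw [this, mul_assoc, hs2 g hg, mul_zero]
    · exact mul_zero f
    · intro x y _ _ hx hy
      rw [mul_add, hx, hy, add_zero]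
    · intro a x _ hx
      rw [smul_eq_mul, mul_left_comm, hx, mul_zero]
  refine ⟨f, hfP, fun T _ _ _ => ?_⟩
  have hunit : IsUnit (algebraMap A S f) := IsLocalization.map_units S (⟨f, hfP⟩ : P.primeCompl)
  haveI : Nontrivial T := by
    refine ⟨⟨0, 1, fun h => ?_⟩⟩
    have h1 : algebraMap A T 1 = 0 := by rw [map_one]; exact h.symm
    obtain ⟨m, hm⟩ := (IsLocalization.map_eq_zero_iff (Submonoid.powers f) T 1).mp h1
    obtain ⟨k, hk⟩ := m.2
    have hk' : f ^ k = m.1 := hk
    rw [mul_one, ← hk'] at hm
    exact hfP (Ideal.IsPrime.mem_of_pow_mem inferInstance k (hm ▸ P.zero_mem))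
  haveI : NoZeroDivisors T := by
    refine ⟨fun {u v} huv => ?_⟩
    obtain ⟨⟨a, m⟩, rfl⟩ := IsLocalization.mk'_surjective (Submonoid.powers f) u
    obtain ⟨⟨c, l⟩, rfl⟩ := IsLocalization.mk'_surjective (Submonoid.powers f) v
    change IsLocalization.mk' T a m * IsLocalization.mk' T c l = 0 at huv
    rw [← IsLocalization.mk'_mul, IsLocalization.mk'_eq_zero_iff] at huv
    obtain ⟨q, hq⟩ := huv
    obtain ⟨k, hk⟩ := q.2
    have hk' : f ^ k = q.1 := hk
    have h2 : algebraMap A S (f ^ k) * (algebraMap A S a * algebraMap A S c) = 0 := by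
      rw [← map_mul, ← map_mul, hk', hq, map_zero]
    have h3 : algebraMap A S a * algebraMap A S c = 0 := by
      rcases mul_eq_zero.mp h2 with h | h
      · exfalso
        rw [map_pow] at h
        exact (hunit.pow k).ne_zero h
      · exact h
    change IsLocalization.mk' T a m = 0 ∨ IsLocalization.mk' T c l = 0
    rcases mul_eq_zero.mp h3 with h | h
    · left
      rw [IsLocalization.mk'_eq_zero_iff]
      exact ⟨⟨f, Submonoid.mem_powers f⟩, hfz a h⟩
    · right
      rw [IsLocalization.mk'_eq_zero_iff]
      exact ⟨⟨f, Submonoid.mem_powers f⟩, hfz c h⟩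
  exact { }

/-- an element of `A_{a'}` integral over the domain `A` lies in `A_P` whenever the latter is integrally closed. -/
theorem exists_mul_eq_of_isIntegral {A S A₁ : Type*} [CommRing A] [IsDomain A] (P : Ideal A) [P.IsPrime]
    [CommRing S] [Algebra A S] [IsLocalization.AtPrime S P] [IsDomain S] [IsIntegrallyClosed S]
    [CommRing A₁] [Algebra A A₁] (a' : A) (ha' : a' ≠ 0) [IsLocalization.Away a' A₁]
    (y : A₁) (hy : IsIntegral A y) :
    ∃ s : A, s ∉ P ∧ ∃ a₁ : A, algebraMap A A₁ s * y = algebraMap A A₁ a₁ := by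
  let K' := FractionRing S
  haveI : IsScalarTower A S K' := inferInstance
  have hcomp : ∀ a : A, algebraMap A K' a = algebraMap S K' (algebraMap A S a) :=
    fun a => IsScalarTower.algebraMap_apply A S K' a
  have hinjS : Function.Injective (algebraMap A S) :=
    IsLocalization.injective S (Ideal.primeCompl_le_nonZeroDivisors P)
  have hinj : Function.Injective (algebraMap A K') := by
    intro a b hab
    rw [hcomp, hcomp] at hab
    exact hinjS (IsFractionRing.injective S K' hab)
  have hunit : IsUnit (algebraMap A K' a') :=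
    IsUnit.mk0 _ (fun h => ha' (hinj (h.trans (map_zero _).symm)))
  let ψ : A₁ →+* K' := IsLocalization.Away.lift a' hunit
  have hψ : ∀ a : A, ψ (algebraMap A A₁ a) = algebraMap A K' a := IsLocalization.Away.lift_eq a' hunit
  let ψₐ : A₁ →ₐ[A] K' := { ψ with commutes' := hψ }
  have h1 : IsIntegral A (ψ y) := hy.map ψₐ
  have h2 : IsIntegral S (ψ y) := h1.tower_top
  obtain ⟨σ, hσ⟩ := IsIntegrallyClosed.algebraMap_eq_of_integral h2
  obtain ⟨⟨a₁, s⟩, hs⟩ := IsLocalization.mk'_surjective P.primeCompl σ
  have h3 : σ * algebraMap A S s = algebraMap A S a₁ := by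
    rw [← hs]
    exact IsLocalization.mk'_spec S a₁ s
  refine ⟨s.1, s.2, a₁, ?_⟩
  have hψinj : Function.Injective ψ := by
    have := (IsLocalization.lift_injective_iff (M := Submonoid.powers a') (S := A₁)
      (g := algebraMap A K') (fun y => by
        obtain ⟨k, hk⟩ := y.2
        rw [← hk, map_pow]
        exact hunit.pow k)).mpr (fun x y => by
      have hA₁ : Function.Injective (algebraMap A A₁) :=
        IsLocalization.injective A₁ (powers_le_nonZeroDivisors_of_noZeroDivisors ha')
      exact ⟨fun h => by rw [hA₁ h], fun h => by rw [hinj h]⟩)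
    exact this
  apply hψinj
  rw [map_mul, hψ, hψ, ← hσ, hcomp, hcomp, ← map_mul, mul_comm, h3]

end Groth.Agent.Lib.Helper12.WNorm
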