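import Mathlib
import Groth.Agent.Lib.Helper12.WNorm2
import Groth.Agent.Lib.Helper12.NormSec6
import Groth.Agent.Lib.Helper16.FLF3
import Groth.Agent.Lib.Helper16.QCohAffinePush
import Groth.Agent.Lib.Helper12.WNormAlg2

/-!
# Existence of free charts (helper12)

* `exists_chart_of_isDomain`: generic freeness: a nonempty basic open free chart inside an affine open with a domain
  of sections (locally Noetherian `X`, finite `g`).
* `exists_chart_of_free`: a free chart around a point near which `g_* O_{X'}` is finite locally free.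
* `exists_isDomain_nbhd`: a point of a locally Noetherian scheme whose local ring is a domain has arbitrarily small
  affine neighbourhoods with a domain of sections.
* `rank_eq_of_mem_inter`, `rank_pos`: ranks of free charts.
-/

set_option autoImplicit false
set_option linter.style.haveILetI false
universe u
open CategoryTheory AlgebraicGeometry Opposite TopologicalSpace
open Scheme.Modules
namespace Groth.Agent.Lib.Helper12.WNorm
open Groth.Agent.Lib.Helper12.NormSec Groth.Agent.Lib.Helper12.NormFn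
open Groth.Agent.Lib.helper28.FinProjCharpoly
open Groth.Agent.Lib.helper16.FLF

variable {X' X : Scheme.{u}} (g : X' ⟶ X)

/-- dual-basis data with `mat 1 = 1` from a basis of the sections of `g_* O_{X'}` over `W`. -/
theorem exists_dualBasis_of_sections {W : X.Opens} {n : ℕ}
    (φ : Γ((Scheme.Modules.pushforward g).obj (Coh.structureModule X'), W) ≃ₗ[Γ(X, W)]
      (Fin n → Γ(X, W))) :
    ∃ D : DualBasis (g.app W).hom n, D.mat 1 = 1 := by
  letI : Algebra Γ(X, W) Γ(X', g ⁻¹ᵁ W) := (g.app W).hom.toAlgebra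
  let e : Γ(X', g ⁻¹ᵁ W) ≃ₗ[Γ(X, W)]
      Γ((Scheme.Modules.pushforward g).obj (Coh.structureModule X'), W) :=
    { toFun := fun m => m
      invFun := fun m => m
      map_add' := fun _ _ => rfl
      map_smul' := fun _ _ => rfl
      left_inv := fun _ => rfl
      right_inv := fun _ => rfl }
  exact exists_dualBasis_of_equiv (g.app W).hom n (e.trans φ)

/-- **Generic freeness**: inside an affine open with a domain of sections there is a nonempty basic open free
chart. -/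
theorem exists_chart_of_isDomain [IsLocallyNoetherian X] [IsFinite g] {V : X.Opens}
    (hV : IsAffineOpen V) [IsDomain Γ(X, V)] :
    ∃ r : Γ(X, V), r ≠ 0 ∧ ∃ (n : ℕ) (D : DualBasis (g.app (X.basicOpen r)).hom n), D.mat 1 = 1 := by
  let M : X.Modules := (Scheme.Modules.pushforward g).obj (Coh.structureModule X')
  haveI : M.IsQuasicoherent :=
    Groth.Agent.Lib.helper16.QCohAffinePush.isQuasicoherent_push g (Coh.structureModule X')
  haveI : IsNoetherianRing Γ(X, V) := IsLocallyNoetherian.component_noetherian ⟨V, hV⟩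
  haveI : Module.Finite Γ(X, V) Γ(M, V) := by
    letI : Algebra Γ(X, V) Γ(X', g ⁻¹ᵁ V) := (g.app V).hom.toAlgebra
    have hfin : Module.Finite Γ(X, V) Γ(X', g ⁻¹ᵁ V) := IsFinite.finite_app g V hV
    let e : Γ(X', g ⁻¹ᵁ V) ≃ₗ[Γ(X, V)] Γ(M, V) :=
      { toFun := fun m => m
        invFun := fun m => m
        map_add' := fun _ _ => rfl
        map_smul' := fun _ _ => rfl
        left_inv := fun _ => rfl
        right_inv := fun _ => rfl }
    exact Module.Finite.equiv e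
  haveI : Module.FinitePresentation Γ(X, V) Γ(M, V) := Module.finitePresentation_of_finite _ _
  let y : PrimeSpectrum Γ(X, V) := ⟨⊥, Ideal.isPrime_bot⟩
  have hy : hV.fromSpec y ∈ V := by
    have h0 : hV.fromSpec y ∈ hV.fromSpec.opensRange := ⟨y, rfl⟩
    rwa [hV.opensRange_fromSpec] at h0
  letI := TopCat.Presheaf.algebra_section_stalk X.presheaf (⟨hV.fromSpec y, hy⟩ : V)
  haveI h1 : IsLocalization.AtPrime (X.presheaf.stalk (hV.fromSpec y)) y.asIdeal :=
    hV.isLocalization_stalk' y hy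
  haveI h2 : IsFractionRing Γ(X, V) (X.presheaf.stalk (hV.fromSpec y)) := by
    have : y.asIdeal.primeCompl = nonZeroDivisors Γ(X, V) := Ideal.primeCompl_bot
    unfold IsFractionRing
    rw [← this]
    exact h1
  letI : Field (X.presheaf.stalk (hV.fromSpec y)) := IsFractionRing.toField Γ(X, V)
  have hfree : Module.Free (X.presheaf.stalk (hV.fromSpec y)) (M.presheaf.stalk (hV.fromSpec y)) :=
    Module.Free.of_divisionRing _ _
  obtain ⟨f, n, hxf, ⟨φ⟩⟩ := exists_basicOpen_free_sections M hV _ hy hfree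
  obtain ⟨D, hD⟩ := exists_dualBasis_of_sections g φ
  refine ⟨f, ?_, n, D, hD⟩
  rintro rfl
  rw [Scheme.basicOpen_zero] at hxf
  exact hxf

/-- a free chart around a point near which `g_* O_{X'}` is finite locally free. -/
theorem exists_chart_of_free (T : X.Opens)
    (hfree : FlatMod.IsFinLocFree
      (((Scheme.Modules.pushforward g).obj (Coh.structureModule X')).restrict T.ι))
    (x : X) (hxT : x ∈ T) (O : X.Opens) (hxO : x ∈ O) :
    ∃ (W : X.Opens) (_ : W ≤ O) (_ : IsAffineOpen W) (_ : x ∈ W) (n : ℕ)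
      (D : DualBasis (g.app W).hom n), D.mat 1 = 1 := by
  let M : X.Modules := (Scheme.Modules.pushforward g).obj (Coh.structureModule X')
  obtain ⟨U₁, n, hxU₁, ⟨iso⟩⟩ := hfree ⟨x, hxT⟩
  obtain ⟨V₁, hV₁, hxV₁, hV₁le⟩ := (Opens.isBasis_iff_nbhd.mp T.toScheme.isBasis_affineOpens)
    (show (⟨x, hxT⟩ : T.toScheme) ∈ (U₁ ⊓ T.ι ⁻¹ᵁ O : T.toScheme.Opens) from ⟨hxU₁, hxO⟩)
  obtain ⟨iso'⟩ := restrict_iso_freeMod_of_le (M.restrict T.ι) (hV₁le.trans inf_le_left) n iso
  obtain ⟨ψ⟩ := sections_of_restrict_iso_freeMod (M.restrict T.ι) hV₁ n iso'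
  let W : X.Opens := T.ι ''ᵁ V₁
  have hW : IsAffineOpen W := hV₁.image_of_isOpenImmersion T.ι
  have hWO : W ≤ O := (T.ι.image_mono (hV₁le.trans inf_le_right)).trans (T.ι.image_preimage_le _)
  have hxW : x ∈ W := ⟨⟨x, hxT⟩, hxV₁, rfl⟩
  let φ : Γ(M, W) ≃ₗ[Γ(X, W)] (Fin n → Γ(X, W)) :=
    { toFun := fun m => ψ m
      invFun := fun v => ψ.symm v
      map_add' := fun m m' => ψ.map_add m m'
      map_smul' := fun a m => by
        have h1 := restrict_smul M T V₁ (castU a) m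
        have h2 := ψ.map_smul (castU a) m
        exact (congrArg ψ h1.symm).trans h2
      left_inv := fun m => ψ.symm_apply_apply m
      right_inv := fun v => ψ.apply_symm_apply v }
  obtain ⟨D, hD⟩ := exists_dualBasis_of_sections g φ
  exact ⟨W, hWO, hW, hxW, n, D, hD⟩

/-- membership in a basic open of an affine open in terms of `primeIdealOf`. -/
theorem mem_basicOpen_iff_notMem {U : X.Opens} (hU : IsAffineOpen U) (a : Γ(X, U)) (x : X)
    (hx : x ∈ U) : x ∈ X.basicOpen a ↔ a ∉ (hU.primeIdealOf ⟨x, hx⟩).asIdeal := by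
  have h1 := mem_basicOpen_iff_notMem_primeIdealOf hU a (hU.primeIdealOf ⟨x, hx⟩)
  rw [hU.fromSpec_primeIdealOf ⟨x, hx⟩] at h1
  exact h1

/-- a point of a locally Noetherian scheme whose local ring is a domain has arbitrarily small affine open
neighbourhoods whose ring of sections is a domain. -/
theorem exists_isDomain_nbhd [IsLocallyNoetherian X] (x : X) [IsDomain (X.presheaf.stalk x)]
    (O : X.Opens) (hxO : x ∈ O) :
    ∃ (V : X.Opens) (_ : V ≤ O) (_ : IsAffineOpen V) (_ : x ∈ V), IsDomain Γ(X, V) := by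
  obtain ⟨V₀, hV₀, hxV₀, hV₀O⟩ := (Opens.isBasis_iff_nbhd.mp X.isBasis_affineOpens) hxO
  haveI : IsNoetherianRing Γ(X, V₀) := IsLocallyNoetherian.component_noetherian ⟨V₀, hV₀⟩
  letI := TopCat.Presheaf.algebra_section_stalk X.presheaf (⟨x, hxV₀⟩ : V₀)
  haveI : IsLocalization.AtPrime (X.presheaf.stalk x) (hV₀.primeIdealOf ⟨x, hxV₀⟩).asIdeal :=
    hV₀.isLocalization_stalk ⟨x, hxV₀⟩
  obtain ⟨f, hfP, hdom⟩ := exists_away_isDomain (hV₀.primeIdealOf ⟨x, hxV₀⟩).asIdeal
    (X.presheaf.stalk x)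
  refine ⟨X.basicOpen f, (X.basicOpen_le f).trans hV₀O, hV₀.basicOpen f,
    (mem_basicOpen_iff_notMem hV₀ f x hxV₀).mpr hfP, ?_⟩
  letI : Algebra Γ(X, V₀) Γ(X, X.basicOpen f) :=
    (X.presheaf.map (homOfLE (X.basicOpen_le f)).op).hom.toAlgebra
  haveI : IsLocalization.Away f Γ(X, X.basicOpen f) :=
    hV₀.isLocalization_of_eq_basicOpen f (homOfLE (X.basicOpen_le f)) rfl
  exact hdom Γ(X, X.basicOpen f)

/-- two free charts containing a common point have the same rank. -/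
theorem rank_eq_of_mem_inter [IsAffineHom g] {W₁ W₂ : X.Opens} (h₁ : IsAffineOpen W₁)
    (h₂ : IsAffineOpen W₂) {n₁ n₂ : ℕ} (D₁ : DualBasis (g.app W₁).hom n₁)
    (D₂ : DualBasis (g.app W₂).hom n₂) (o₁ : D₁.mat 1 = 1) (o₂ : D₂.mat 1 = 1)
    (y : X) (hy₁ : y ∈ W₁) (hy₂ : y ∈ W₂) : n₁ = n₂ := by
  obtain ⟨f, f', hff', hyf⟩ := exists_basicOpen_le_affine_inter h₁ h₂ y ⟨hy₁, hy₂⟩
  obtain ⟨E₁, oE₁, -⟩ := exists_dualBasis_of_eq_basicOpen g h₁ (X.basicOpen_le f) f rfl D₁
  have hle : X.basicOpen f ≤ W₂ := hff'.le.trans (X.basicOpen_le f')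
  obtain ⟨E₂, oE₂, -⟩ := exists_dualBasis_of_eq_basicOpen g h₂ hle f' hff' D₂
  haveI : Nonempty (↑(X.basicOpen f) : Scheme.{u}) := ⟨⟨y, hyf⟩⟩
  haveI : Nontrivial Γ(X, X.basicOpen f) := Scheme.component_nontrivial X (X.basicOpen f)
  exact eq_of_mat_one E₁ E₂ (oE₁ o₁) (oE₂ o₂)

/-- a nonempty free chart of a surjective morphism has positive rank. -/
theorem rank_pos [Surjective g] {W : X.Opens} {n : ℕ} (D : DualBasis (g.app W).hom n)
    (y : X) (hy : y ∈ W) : 0 < n := by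
  rcases Nat.eq_zero_or_pos n with h0 | h0
  · exfalso
    subst h0
    obtain ⟨y', hy'⟩ := Surjective.surj (f := g) y
    haveI : Nonempty (↑(g ⁻¹ᵁ W) : Scheme.{u}) :=
      ⟨⟨y', by change g y' ∈ W; rw [hy']; exact hy⟩⟩
    haveI : Nontrivial Γ(X', g ⁻¹ᵁ W) := Scheme.component_nontrivial X' (g ⁻¹ᵁ W)
    have h1 := D.sum 1
    rw [Finset.univ_eq_empty, Finset.sum_empty] at h1
    exact zero_ne_one h1
  · exact h0

/-- in an affine open with a domain of sections, every nonempty open meets every nonempty basic open. -/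
theorem exists_mem_inter_basicOpen [IsReduced X] {V : X.Opens} (hV : IsAffineOpen V)
    [IsDomain Γ(X, V)] (r : Γ(X, V)) (hr : r ≠ 0) (W : X.Opens) (y : X) (hyW : y ∈ W)
    (hyV : y ∈ V) : ∃ z : X, z ∈ W ∧ z ∈ X.basicOpen r := by
  obtain ⟨h, hle, hyh⟩ := hV.exists_basicOpen_le (V := W) ⟨y, hyW⟩ hyV
  have hh : h ≠ 0 := by
    rintro rfl
    rw [Scheme.basicOpen_zero] at hyh
    exact hyh
  have hne : X.basicOpen (h * r) ≠ ⊥ := by
    rw [Ne, basicOpen_eq_bot_iff]
    exact mul_ne_zero hh hr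
  obtain ⟨z, hz⟩ := (Opens.ne_bot_iff_nonempty _).mp hne
  have hz' : z ∈ X.basicOpen h ⊓ X.basicOpen r := by
    rw [← Scheme.basicOpen_mul]
    exact hz
  exact ⟨z, hle hz'.1, hz'.2⟩

/-- the **mixed hypothesis** of EGA II 6.6.11: every point of `X` is either normal or has a neighbourhood over which
`g_* O_{X'}` is finite locally free. -/
def Mixed : Prop :=
  ∀ x : X, (IsDomain (X.presheaf.stalk x) ∧ IsIntegrallyClosed (X.presheaf.stalk x)) ∨
    ∃ T : X.Opens, x ∈ T ∧ FlatMod.IsFinLocFree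
      (((Scheme.Modules.pushforward g).obj (Coh.structureModule X')).restrict T.ι)

variable {g}

/-- **Density of free charts**. -/
theorem exists_chart_le [IsLocallyNoetherian X] [IsReduced X] [IsFinite g] (hmix : Mixed g)
    (O : X.Opens) (hO : O ≠ ⊥) :
    ∃ (W : X.Opens) (_ : W ≤ O) (_ : IsAffineOpen W) (_ : Nontrivial Γ(X, W)) (n : ℕ)
      (D : DualBasis (g.app W).hom n), D.mat 1 = 1 := by
  obtain ⟨x, hxO⟩ := (Opens.ne_bot_iff_nonempty _).mp hO
  rcases hmix x with ⟨hdom, -⟩ | ⟨T, hxT, hfree⟩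
  · haveI := hdom
    obtain ⟨V, hVO, hV, hxV, hVdom⟩ := exists_isDomain_nbhd x O hxO
    haveI := hVdom
    obtain ⟨r, hr, n, D, hD⟩ := exists_chart_of_isDomain g hV
    obtain ⟨z, -, hz⟩ := exists_mem_inter_basicOpen hV r hr V x hxV hxV
    haveI : Nonempty (↑(X.basicOpen r) : Scheme.{u}) := ⟨⟨z, hz⟩⟩
    exact ⟨X.basicOpen r, (X.basicOpen_le r).trans hVO, hV.basicOpen r,
      Scheme.component_nontrivial X (X.basicOpen r), n, D, hD⟩
  · obtain ⟨W, hWO, hW, hxW, n, D, hD⟩ := exists_chart_of_free g T hfree x hxT O hxO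
    haveI : Nonempty (↑W : Scheme.{u}) := ⟨⟨x, hxW⟩⟩
    exact ⟨W, hWO, hW, Scheme.component_nontrivial X W, n, D, hD⟩

/-- locally the rank of free charts is constant. -/
theorem exists_locRank [IsLocallyNoetherian X] [IsReduced X] [IsFinite g] [Surjective g]
    (hmix : Mixed g) (x : X) :
    ∃ (V : X.Opens) (_ : x ∈ V) (n₀ : ℕ) (_ : 0 < n₀), ∀ (W : X.Opens), W ≤ V → IsAffineOpen W →
      ∀ y ∈ W, ∀ (n : ℕ) (D : DualBasis (g.app W).hom n), D.mat 1 = 1 → n = n₀ := by
  rcases hmix x with ⟨hdom, -⟩ | ⟨T, hxT, hfree⟩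
  · haveI := hdom
    obtain ⟨V, -, hV, hxV, hVdom⟩ := exists_isDomain_nbhd x ⊤ trivial
    haveI := hVdom
    obtain ⟨r, hr, n₀, D₀, o₀⟩ := exists_chart_of_isDomain g hV
    obtain ⟨z₀, -, hz₀⟩ := exists_mem_inter_basicOpen hV r hr V x hxV hxV
    refine ⟨V, hxV, n₀, rank_pos g D₀ z₀ hz₀, fun W hWV hW y hy n D o => ?_⟩
    obtain ⟨z, hzW, hzr⟩ := exists_mem_inter_basicOpen hV r hr W y hy (hWV hy)
    exact rank_eq_of_mem_inter g hW (hV.basicOpen r) D D₀ o o₀ z hzW hzr
  · obtain ⟨W₀, -, hW₀, hxW₀, n₀, D₀, o₀⟩ := exists_chart_of_free g T hfree x hxT ⊤ trivial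
    refine ⟨W₀, hxW₀, n₀, rank_pos g D₀ x hxW₀, fun W hWV hW y hy n D o => ?_⟩
    exact rank_eq_of_mem_inter g hW hW₀ D D₀ o o₀ y hy (hWV hy)

/-- **A uniform degree**: a positive integer divisible by the ranks of all nonempty free charts. -/
theorem exists_degree [CompactSpace X] [IsLocallyNoetherian X] [IsReduced X] [IsFinite g]
    [Surjective g] (hmix : Mixed g) :
    ∃ D₀ : ℕ, 0 < D₀ ∧ ∀ (W : X.Opens), IsAffineOpen W → Nontrivial Γ(X, W) → ∀ (n : ℕ)
      (D : DualBasis (g.app W).hom n), D.mat 1 = 1 → n ∣ D₀ := by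
  classical
  choose V hxV n₀ hn₀ hV using exists_locRank hmix
  obtain ⟨s, hs⟩ := isCompact_univ.elim_finite_subcover
    (fun x : X => ((V x : X.Opens) : Set X)) (fun x => (V x).isOpen)
    (fun x _ => Set.mem_iUnion.mpr ⟨x, hxV x⟩)
  refine ⟨∏ x ∈ s, n₀ x, Finset.prod_pos fun x _ => hn₀ x, fun W hW hnt n D o => ?_⟩
  have hne : W ≠ ⊥ := by
    rintro rfl
    exact not_subsingleton Γ(X, (⊥ : X.Opens)) inferInstance
  obtain ⟨y, hyW⟩ := (Opens.ne_bot_iff_nonempty _).mp hne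
  obtain ⟨x, hx⟩ := Set.mem_iUnion.mp (hs (Set.mem_univ y))
  obtain ⟨hxs, hyV⟩ := Set.mem_iUnion.mp hx
  obtain ⟨f, hfle, hyf⟩ := hW.exists_basicOpen_le (V := V x) ⟨y, hyV⟩ hyW
  obtain ⟨E, oE, -⟩ := exists_dualBasis_of_eq_basicOpen g hW (X.basicOpen_le f) f rfl D
  have := hV x (X.basicOpen f) hfle (hW.basicOpen f) y hyf n E (oE o)
  rw [this]
  exact Finset.dvd_prod_of_mem n₀ hxs

end Groth.Agent.Lib.Helper12.WNorm
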