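import Mathlib

/-!
# Integrality of characteristic polynomials of integral matrices (helper12)

* `isIntegral_coeff_charpoly`: if a square matrix `M` over a field `K` (an `A`-algebra) is killed by a monic
  polynomial with coefficients in `A`, then all coefficients of its characteristic polynomial are integral over `A`.
-/

set_option autoImplicit false
open Polynomial
namespace Groth.Agent.Lib.Helper12.WNorm

/-- the eigenvalues of an integral matrix are integral. -/
theorem isIntegral_of_isRoot_charpoly {A Ω : Type*} [CommRing A] [Field Ω] [Algebra A Ω] {n : ℕ}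
    (M : Matrix (Fin n) (Fin n) Ω) (P : A[X]) (hP : P.Monic) (h : Polynomial.aeval M P = 0)
    (μ : Ω) (hμ : M.charpoly.IsRoot μ) : IsIntegral A μ := by
  rcases Nat.eq_zero_or_pos n with hn | hn
  · subst hn
    exfalso
    have : M.charpoly = 1 := by
      simp [Matrix.charpoly, Matrix.det_isEmpty]
    rw [this] at hμ
    simp at hμ
  haveI : Nonempty (Fin n) := ⟨⟨0, hn⟩⟩
  have h1 : μ ∈ spectrum Ω M := Matrix.mem_spectrum_of_isRoot_charpoly hμ
  have h2 := spectrum.subset_polynomial_aeval M (P.map (algebraMap A Ω)) ⟨μ, h1, rfl⟩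
  rw [Polynomial.aeval_map_algebraMap, h, spectrum.zero_eq] at h2
  refine ⟨P, hP, ?_⟩
  have h3 : eval μ (P.map (algebraMap A Ω)) = 0 := h2
  rwa [eval_map] at h3

/-- **Integrality of the characteristic polynomial**: a matrix over a field killed by a monic polynomial over `A` has
characteristic polynomial with coefficients integral over `A`. -/
theorem isIntegral_coeff_charpoly {A K : Type*} [CommRing A] [Field K] [Algebra A K] {n : ℕ}
    (M : Matrix (Fin n) (Fin n) K) (P : A[X]) (hP : P.Monic) (h : Polynomial.aeval M P = 0) (k : ℕ) :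
    IsIntegral A (M.charpoly.coeff k) := by
  let Ω := AlgebraicClosure K
  let F : Matrix (Fin n) (Fin n) K →ₐ[A] Matrix (Fin n) (Fin n) Ω :=
    AlgHom.mapMatrix (IsScalarTower.toAlgHom A K Ω)
  let M' : Matrix (Fin n) (Fin n) Ω := F M
  have hM' : Polynomial.aeval M' P = 0 := by
    change Polynomial.aeval (F M) P = 0
    rw [Polynomial.aeval_algHom_apply, h, map_zero]
  have hcp : M'.charpoly = M.charpoly.map (algebraMap K Ω) := Matrix.charpoly_map M (algebraMap K Ω)
  have hroots : ∀ μ ∈ M'.charpoly.roots, IsIntegral A μ := fun μ hμ =>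
    isIntegral_of_isRoot_charpoly M' P hP hM' μ (Polynomial.isRoot_of_mem_roots hμ)
  have hsplit : M'.charpoly.Splits := IsAlgClosed.splits _
  have hcard := Polynomial.splits_iff_card_roots.mp hsplit
  have hmonic : M'.charpoly.Monic := Matrix.charpoly_monic M'
  have key : IsIntegral A (M'.charpoly.coeff k) := by
    by_cases hk : k ≤ M'.charpoly.natDegree
    · rw [Polynomial.coeff_eq_esymm_roots_of_card hcard hk, hmonic.leadingCoeff, one_mul]
      refine IsIntegral.mul ?_ ?_
      · exact (IsIntegral.neg isIntegral_one).pow _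
      · rw [Multiset.esymm]
        change _ ∈ integralClosure A Ω
        refine Subalgebra.multiset_sum_mem _ fun c hc => ?_
        obtain ⟨t, ht, rfl⟩ := Multiset.mem_map.mp hc
        refine Subalgebra.multiset_prod_mem _ fun x hx => ?_
        exact hroots x (Multiset.mem_of_le (Multiset.mem_powersetCard.mp ht).1 hx)
    · rw [Polynomial.coeff_eq_zero_of_natDegree_lt (not_le.mp hk)]
      exact isIntegral_zero
  rw [hcp, Polynomial.coeff_map] at key
  exact (isIntegral_algebraMap_iff (algebraMap K Ω).injective).mp key

end Groth.Agent.Lib.Helper12.WNorm
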