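import Mathlib
import Groth.Agent.Lib.Helper12.WNorm3
import Groth.Agent.Lib.Helper12.WNormAlg1

/-!
# Integrality of chart norms (helper12)

* `DualBasis.eval₂_mat`: for dual-basis data with `mat 1 = 1`, `x ↦ mat x` is a ring homomorphism, so polynomial
  relations for `x` hold for `mat x`.
* `isIntegral_coeff_charpoly_of_away`: coefficients of the characteristic polynomial of a matrix over `A_r` killed by a
  monic polynomial over the domain `A` are integral over `A`.
* `eq_zero_of_res_eq_zero`: in an affine open with a domain of sections of a reduced scheme, a function on an open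
  subset vanishing on a nonempty smaller open vanishes.
-/

set_option autoImplicit false
set_option linter.style.haveILetI false
universe u
open CategoryTheory AlgebraicGeometry Opposite TopologicalSpace Polynomial
namespace Groth.Agent.Lib.Helper12.WNorm
open Groth.Agent.Lib.Helper12.NormSec Groth.Agent.Lib.Helper12.NormFn
open Groth.Agent.Lib.helper28.FinProjCharpoly

/-- the matrix of multiplication as a ring homomorphism, for dual-basis data coming from a basis. -/
def matHom {R S : Type*} [CommRing R] [CommRing S] {f : R →+* S} {n : ℕ} (D : DualBasis f n)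
    (o : D.mat 1 = 1) : S →+* Matrix (Fin n) (Fin n) R where
  toFun := D.mat
  map_one' := o
  map_mul' := D.mat_mul
  map_zero' := by
    have := D.mat_sub 0 0
    rwa [sub_self, sub_self] at this
  map_add' := D.mat_add

theorem matHom_comp {R S : Type*} [CommRing R] [CommRing S] {f : R →+* S} {n : ℕ} (D : DualBasis f n)
    (o : D.mat 1 = 1) : (matHom D o).comp f = algebraMap R (Matrix (Fin n) (Fin n) R) := by
  ext r i j
  change D.mat (f r) i j = _
  have h1 : D.mat (f r) = r • D.mat 1 := by
    have := D.mat_smul r 1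
    rwa [mul_one] at this
  rw [h1, o, Matrix.algebraMap_matrix_apply, Matrix.smul_apply, Matrix.one_apply]
  split_ifs <;> simp

/-- polynomial relations pass from `x` to `mat x`. -/
theorem eval₂_mat {A R S : Type*} [CommRing A] [CommRing R] [CommRing S] {f : R →+* S} {n : ℕ}
    (D : DualBasis f n) (o : D.mat 1 = 1) (φ : A →+* R) (P : A[X]) (x : S)
    (h : eval₂ (f.comp φ) x P = 0) :
    eval₂ ((algebraMap R (Matrix (Fin n) (Fin n) R)).comp φ) (D.mat x) P = 0 := by
  have h1 := Polynomial.hom_eval₂ P (f.comp φ) (matHom D o) x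
  rw [h, map_zero, ← RingHom.comp_assoc, matHom_comp] at h1
  exact h1.symm

/-- the norm for dual-basis data coming from a basis is the determinant. -/
theorem nm_eq_det {R S : Type*} [CommRing R] [CommRing S] {f : R →+* S} {n : ℕ} (D : DualBasis f n)
    (o : D.mat 1 = 1) (x : S) : D.nm x = (D.mat x).det := by
  unfold DualBasis.nm
  rw [o, add_sub_cancel]

/-- coefficients of the characteristic polynomial of a matrix over `A_r` killed by a monic polynomial over the domain
`A` are integral over `A`. -/
theorem isIntegral_coeff_charpoly_of_away {A A₁ : Type*} [CommRing A] [IsDomain A] [CommRing A₁]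
    [Algebra A A₁] (r : A) (hr : r ≠ 0) [IsLocalization.Away r A₁] {n : ℕ}
    (M : Matrix (Fin n) (Fin n) A₁) (P : A[X]) (hP : P.Monic)
    (h : eval₂ ((algebraMap A₁ (Matrix (Fin n) (Fin n) A₁)).comp (algebraMap A A₁)) M P = 0)
    (k : ℕ) : IsIntegral A (M.charpoly.coeff k) := by
  haveI : IsDomain A₁ := IsLocalization.isDomain_of_le_nonZeroDivisors (M := Submonoid.powers r) A₁
    (powers_le_nonZeroDivisors_of_noZeroDivisors hr)
  let K := FractionRing A₁
  let φ : A₁ →+* K := algebraMap A₁ K
  have hcomp : algebraMap A (Matrix (Fin n) (Fin n) K) =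
      φ.mapMatrix.comp ((algebraMap A₁ (Matrix (Fin n) (Fin n) A₁)).comp (algebraMap A A₁)) := by
    ext a i j
    rw [Matrix.algebraMap_matrix_apply]
    change _ = φ ((algebraMap A₁ (Matrix (Fin n) (Fin n) A₁)) (algebraMap A A₁ a) i j)
    rw [Matrix.algebraMap_matrix_apply]
    split_ifs
    · exact IsScalarTower.algebraMap_apply A A₁ K a
    · exact (map_zero φ).symm
  have h1 : Polynomial.aeval (φ.mapMatrix M) P = 0 := by
    rw [Polynomial.aeval_def, hcomp, ← Polynomial.hom_eval₂, h, map_zero]
  have h2 := isIntegral_coeff_charpoly (φ.mapMatrix M) P hP h1 k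
  have h3 : (φ.mapMatrix M).charpoly = M.charpoly.map φ := Matrix.charpoly_map M φ
  rw [h3, Polynomial.coeff_map] at h2
  exact (isIntegral_algebraMap_iff (IsFractionRing.injective A₁ K)).mp h2

variable {X : Scheme.{u}}

/-- in an affine open with a domain of sections of a reduced scheme, a function on an open subset vanishing on a
nonempty smaller open vanishes. -/
theorem eq_zero_of_res_eq_zero [IsReduced X] {V : X.Opens} (hV : IsAffineOpen V) [IsDomain Γ(X, V)]
    {W W'' : X.Opens} (hWV : W ≤ V) (hW'' : W'' ≤ W) (z : X) (hz : z ∈ W'') (t : Γ(X, W))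
    (ht : rf hW'' t = 0) : t = 0 := by
  rw [← basicOpen_eq_bot_iff]
  by_contra hne
  obtain ⟨y, hy⟩ := (Opens.ne_bot_iff_nonempty _).mp hne
  have hyV : y ∈ V := hWV (X.basicOpen_le t hy)
  obtain ⟨h, hle, hyh⟩ := hV.exists_basicOpen_le (V := X.basicOpen t) ⟨y, hy⟩ hyV
  have hh : h ≠ 0 := by
    rintro rfl
    rw [Scheme.basicOpen_zero] at hyh
    exact hyh
  obtain ⟨w, hwW'', hwh⟩ := exists_mem_inter_basicOpen hV h hh W'' z hz (hWV (hW'' hz))
  have hwt : w ∈ X.basicOpen t := hle hwh
  have h1 : w ∈ X.basicOpen (rf hW'' t) := by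
    unfold rf
    rw [Scheme.basicOpen_res]
    exact ⟨hwW'', hwt⟩
  rw [ht, Scheme.basicOpen_zero] at h1
  exact h1

variable {X' : Scheme.{u}} {g : X' ⟶ X}

/-- the chart norm over a basic open `D(r)` of an affine open `V` with a domain of sections is integral over
`Γ(X, V)`, together with all the coefficients of the characteristic polynomial. -/
theorem isIntegral_chart [IsFinite g] {V : X.Opens} (hV : IsAffineOpen V) [IsDomain Γ(X, V)]
    (r : Γ(X, V)) (hr : r ≠ 0) {n₀ : ℕ} (Dr : DualBasis (g.app (X.basicOpen r)).hom n₀)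
    (o : Dr.mat 1 = 1) (bV : Γ(X', g ⁻¹ᵁ V)) :
    letI : Algebra Γ(X, V) Γ(X, X.basicOpen r) :=
      (X.presheaf.map (homOfLE (X.basicOpen_le r)).op).hom.toAlgebra
    ∀ k, IsIntegral Γ(X, V)
      ((Dr.mat (rf (g.preimage_mono (X.basicOpen_le r)) bV)).charpoly.coeff k) := by
  letI : Algebra Γ(X, V) Γ(X, X.basicOpen r) :=
    (X.presheaf.map (homOfLE (X.basicOpen_le r)).op).hom.toAlgebra
  haveI : IsLocalization.Away r Γ(X, X.basicOpen r) :=
    hV.isLocalization_of_eq_basicOpen r (homOfLE (X.basicOpen_le r)) rfl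
  have hfin : (g.app V).hom.Finite := IsFinite.finite_app g V hV
  obtain ⟨Pol, hmonic, hPol⟩ := hfin.to_isIntegral bV
  set b₁ := rf (g.preimage_mono (X.basicOpen_le r)) bV with hb₁
  have hnat : (g.app (X.basicOpen r)).hom.comp (algebraMap Γ(X, V) Γ(X, X.basicOpen r)) =
      (X'.presheaf.map (homOfLE (g.preimage_mono (X.basicOpen_le r))).op).hom.comp (g.app V).hom := by
    have := g.naturality (homOfLE (X.basicOpen_le r)).op
    exact congrArg CommRingCat.Hom.hom this
  have h2 : eval₂ ((g.app (X.basicOpen r)).hom.comp (algebraMap Γ(X, V) Γ(X, X.basicOpen r)))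
      b₁ Pol = 0 := by
    rw [hnat]
    have := Polynomial.hom_eval₂ Pol (g.app V).hom
      (X'.presheaf.map (homOfLE (g.preimage_mono (X.basicOpen_le r))).op).hom bV
    rw [hPol, map_zero] at this
    exact this.symm
  have h3 := eval₂_mat Dr o (algebraMap Γ(X, V) Γ(X, X.basicOpen r)) Pol b₁ h2
  exact fun k => isIntegral_coeff_charpoly_of_away r hr (Dr.mat b₁) Pol hmonic h3 k

end Groth.Agent.Lib.Helper12.WNorm
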