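import Mathlib
import Groth.Agent.Lib.Helper12.WNorm4

/-!
# Local existence of norms at normal points (helper12)

* `exists_isNormOn_of_normal`: around a point `x` whose local ring is an integrally closed domain, every function on
  `g⁻¹ U` has a norm on a neighbourhood of `x`.
-/

set_option autoImplicit false
set_option linter.style.haveILetI false
universe u
open CategoryTheory AlgebraicGeometry Opposite TopologicalSpace Polynomial
namespace Groth.Agent.Lib.Helper12.WNorm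
open Groth.Agent.Lib.Helper12.NormSec Groth.Agent.Lib.Helper12.NormFn
open Groth.Agent.Lib.helper28.FinProjCharpoly

variable {X' X : Scheme.{u}} {g : X' ⟶ X}

/-- the unit given by `s` on a subset of `D(s)`. -/
theorem isUnit_rf_of_le_basicOpen {V W : X.Opens} (s : Γ(X, V)) (hWV : W ≤ V)
    (hW : W ≤ X.basicOpen s) : IsUnit (rf hWV s) := by
  have h1 : IsUnit (rf (X.basicOpen_le s) s) := RingedSpace.isUnit_res_basicOpen _ s
  have h2 := h1.map (X.presheaf.map (homOfLE hW).op).hom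
  have h3 : (X.presheaf.map (homOfLE hW).op).hom (rf (X.basicOpen_le s) s) = rf hWV s :=
    rf_rf _ _ s
  rwa [h3] at h2

/-- **Local existence of norms at a normal point.** -/
theorem exists_isNormOn_of_normal [IsLocallyNoetherian X] [IsReduced X] [IsFinite g] (D₀ : ℕ)
    (x : X) [IsDomain (X.presheaf.stalk x)] [IsIntegrallyClosed (X.presheaf.stalk x)]
    (U : X.Opens) (hxU : x ∈ U) (b : Γ(X', g ⁻¹ᵁ U)) :
    ∃ (V' : X.Opens) (hV'U : V' ≤ U), x ∈ V' ∧
      ∃ a : Γ(X, V'), IsNormOn g D₀ V' (rf (g.preimage_mono hV'U) b) a := by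
  obtain ⟨V, hVU, hV, hxV, hVdom⟩ := exists_isDomain_nbhd x U hxU
  haveI := hVdom
  obtain ⟨r, hr, n₀, Dr, or⟩ := exists_chart_of_isDomain g hV
  have hrV : X.basicOpen r ≤ V := X.basicOpen_le r
  letI : Algebra Γ(X, V) Γ(X, X.basicOpen r) := (X.presheaf.map (homOfLE hrV).op).hom.toAlgebra
  haveI : IsLocalization.Away r Γ(X, X.basicOpen r) :=
    hV.isLocalization_of_eq_basicOpen r (homOfLE hrV) rfl
  set bV : Γ(X', g ⁻¹ᵁ V) := rf (g.preimage_mono hVU) b with hbV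
  set b₁ : Γ(X', g ⁻¹ᵁ X.basicOpen r) := rf (g.preimage_mono hrV) bV with hb₁
  have hint := isIntegral_chart hV r hr Dr or bV
  have hdet : IsIntegral Γ(X, V) (Dr.nm b₁) := by
    rw [nm_eq_det Dr or, Matrix.det_eq_sign_charpoly_coeff]
    exact IsIntegral.mul ((IsIntegral.neg isIntegral_one).pow _) (hint 0)
  set y : Γ(X, X.basicOpen r) := (Dr.nm b₁) ^ (D₀ / n₀) with hy
  have hyint : IsIntegral Γ(X, V) y := hdet.pow _
  letI := TopCat.Presheaf.algebra_section_stalk X.presheaf (⟨x, hxV⟩ : V)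
  haveI : IsLocalization.AtPrime (X.presheaf.stalk x) (hV.primeIdealOf ⟨x, hxV⟩).asIdeal :=
    hV.isLocalization_stalk ⟨x, hxV⟩
  obtain ⟨s, hsP, a₁, hsa⟩ := exists_mul_eq_of_isIntegral (S := X.presheaf.stalk x)
    (hV.primeIdealOf ⟨x, hxV⟩).asIdeal r hr y hyint
  have hsa' : rf hrV s * y = rf hrV a₁ := hsa
  have hsV : X.basicOpen s ≤ V := X.basicOpen_le s
  have hxs : x ∈ X.basicOpen s := (mem_basicOpen_iff_notMem hV s x hxV).mpr hsP
  have hu : IsUnit (rf hsV s) := isUnit_rf_of_le_basicOpen s hsV le_rfl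
  refine ⟨X.basicOpen s, hsV.trans hVU, hxs, ↑(hu.unit⁻¹) * rf hsV a₁, ?_⟩
  have hua : rf hsV s * (↑(hu.unit⁻¹) * rf hsV a₁) = rf hsV a₁ := by
    rw [← mul_assoc, IsUnit.mul_val_inv, one_mul]
  intro W hWs hW n D o
  by_cases hne : W = ⊥
  · subst hne
    exact Subsingleton.elim _ _
  obtain ⟨y₀, hy₀⟩ := (Opens.ne_bot_iff_nonempty _).mp hne
  have hWV : W ≤ V := hWs.trans hsV
  obtain ⟨z, hzW, hzr⟩ := exists_mem_inter_basicOpen hV r hr W y₀ hy₀ (hWV hy₀)
  obtain ⟨f, f', hff', hzf⟩ := exists_basicOpen_le_affine_inter hW (hV.basicOpen r) z ⟨hzW, hzr⟩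
  have hfW : X.basicOpen f ≤ W := X.basicOpen_le f
  have hfr : X.basicOpen f ≤ X.basicOpen r := hff'.le.trans (X.basicOpen_le f')
  obtain ⟨E, oE, -⟩ := exists_dualBasis_of_eq_basicOpen g hW hfW f rfl D
  set bW := rf (g.preimage_mono hWs) (rf (g.preimage_mono (hsV.trans hVU)) b) with hbW
  rw [← sub_eq_zero]
  refine eq_zero_of_res_eq_zero hV hWV hfW z hzf _ ?_
  have hsub : rf hfW (rf hWs (↑(hu.unit⁻¹) * rf hsV a₁) - D.nm bW ^ (D₀ / n)) =
      rf hfW (rf hWs (↑(hu.unit⁻¹) * rf hsV a₁)) - rf hfW (D.nm bW ^ (D₀ / n)) :=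
    map_sub (X.presheaf.map (homOfLE hfW).op).hom _ _
  rw [hsub, sub_eq_zero]
  -- the chart side
  have h1 : rf hfW (D.nm bW ^ (D₀ / n)) = (E.nm (rf (g.preimage_mono hfW) bW)) ^ (D₀ / n) :=
    chart_res D₀ hW (hW.basicOpen f) hfW D E o (oE o) bW
  have h2 : rf hfr y = (E.nm (rf (g.preimage_mono hfr) b₁)) ^ (D₀ / n) :=
    chart_res D₀ (hV.basicOpen r) (hW.basicOpen f) hfr Dr E or (oE o) b₁
  have h3 : rf (g.preimage_mono hfW) bW = rf (g.preimage_mono hfr) b₁ := by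
    rw [hbW, hb₁, hbV, rf_rf, rf_rf, rf_rf, rf_rf]
  rw [h1, h3, ← h2]
  -- the glued side
  have hfV : X.basicOpen f ≤ V := hfW.trans hWV
  have k1 := congrArg (rf hfr) hsa'
  rw [rf_mul, rf_rf, rf_rf] at k1
  have k2 := congrArg (rf (hfW.trans hWs)) hua
  rw [rf_mul, rf_rf, rf_rf] at k2
  have hunit : IsUnit (rf hfV s) := isUnit_rf_of_le_basicOpen s hfV (hfW.trans hWs)
  rw [rf_rf]
  exact hunit.mul_left_cancel (k2.trans k1.symm)

end Groth.Agent.Lib.Helper12.WNorm
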