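import Mathlib

/-!
# A lying-over argument for constant terms of integral equations (helper12)

* `coeff_zero_mem_of_forall_mem`: let `f : A → B` be integral, `(A₁, B₁)` a "localization" of `(A, B)` with `A → B₁`
  injective, `P` a prime of `A`, `b ∈ B` lying in all primes of `B` over `P`, and `χ` a monic polynomial over `A₁`
  killing the image of `b`, with coefficients in `A_s` (`s ∉ P`).  Then `s ^ deg χ * χ(0)` is the image of an element
  of `P`.
* `exists_common_denominator`: finitely many fractions with denominators outside `P` have a common denominator.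
-/

set_option autoImplicit false
set_option linter.style.haveILetI false
open Polynomial
namespace Groth.Agent.Lib.Helper12.WNorm

theorem coeff_zero_mem_of_forall_mem {A B A₁ B₁ : Type*} [CommRing A] [CommRing B] [CommRing A₁]
    [CommRing B₁] (f : A →+* B) (hf : f.IsIntegral) (ρ : A →+* A₁) (ρ' : B →+* B₁) (f₁ : A₁ →+* B₁)
    (hcomm : f₁.comp ρ = ρ'.comp f) (hinj : Function.Injective (f₁.comp ρ))
    (P : Ideal A) [P.IsPrime] (b : B) (hb : ∀ q : Ideal B, q.IsPrime → q.comap f = P → b ∈ q)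
    (χ : A₁[X]) (hχ : χ.Monic) (hχb : eval₂ f₁ (ρ' b) χ = 0)
    (s : A) (hcoef : ∀ k, ∃ α : A, ρ s * χ.coeff k = ρ α) :
    ∃ α : A, α ∈ P ∧ ρ α = χ.coeff 0 * ρ s ^ χ.natDegree := by
  set n := χ.natDegree with hn
  -- the scaled polynomial has coefficients in `A`
  have hlift : scaleRoots χ (ρ s) ∈ Polynomial.lifts ρ := by
    rw [Polynomial.lifts_iff_coeff_lifts]
    intro i
    rw [coeff_scaleRoots, ← hn]
    rcases lt_trichotomy i n with hi | hi | hi
    · obtain ⟨α, hα⟩ := hcoef i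
      obtain ⟨m, hm⟩ : ∃ m, n - i = m + 1 := ⟨n - i - 1, by omega⟩
      refine ⟨α * s ^ m, ?_⟩
      rw [hm, pow_succ, map_mul, map_pow, ← hα]
      ring
    · refine ⟨1, ?_⟩
      rw [hi, hn, Polynomial.Monic.coeff_natDegree hχ, Nat.sub_self, pow_zero, mul_one, map_one]
    · refine ⟨0, ?_⟩
      rw [Polynomial.coeff_eq_zero_of_natDegree_lt (hn ▸ hi), zero_mul, map_zero]
  obtain ⟨p, hp⟩ := (Polynomial.mem_lifts _).mp hlift
  set e : B := f s * b with he
  have hρe : ρ' e = f₁ (ρ s) * ρ' b := by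
    rw [he, map_mul]
    congr 1
    exact (congrArg (fun φ => φ s) hcomm).symm
  have h1 : eval₂ f₁ (ρ' e) (scaleRoots χ (ρ s)) = 0 := by
    rw [hρe]
    exact scaleRoots_eval₂_eq_zero f₁ hχb
  have h2 : ρ' (eval₂ f e p) = 0 := by
    rw [Polynomial.hom_eval₂, ← hcomm, ← Polynomial.eval₂_map, hp]
    exact h1
  -- lying over
  letI := f.toAlgebra
  haveI : Algebra.IsIntegral A B := ⟨hf⟩
  have hTP : (RingHom.ker ρ').comap (algebraMap A B) ≤ P := by
    intro a ha
    have h3 : ρ' (f a) = 0 := ha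
    have h4 : (f₁.comp ρ) a = 0 := by
      rw [hcomm]
      exact h3
    have h5 : a = 0 := hinj (h4.trans (map_zero _).symm)
    rw [h5]
    exact P.zero_mem
  obtain ⟨Q, hTQ, hQprime, hQP⟩ := Ideal.exists_ideal_over_prime_of_isIntegral P (RingHom.ker ρ') hTP
  have hbQ : b ∈ Q := hb Q hQprime hQP
  have heQ : e ∈ Q := Q.mul_mem_left _ hbQ
  have hτQ : eval₂ f e p ∈ Q := hTQ h2
  have hsplit : eval₂ f e p = eval₂ f e (divX p) * e + f (p.coeff 0) := by
    conv_lhs => rw [← Polynomial.divX_mul_X_add p]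
    rw [eval₂_add, eval₂_mul, eval₂_X, eval₂_C]
  have h6 : f (p.coeff 0) ∈ Q := by
    have h7 : f (p.coeff 0) = eval₂ f e p - eval₂ f e (divX p) * e := by
      rw [hsplit]; ring
    rw [h7]
    exact Q.sub_mem hτQ (Q.mul_mem_left _ heQ)
  refine ⟨p.coeff 0, ?_, ?_⟩
  · rw [← hQP]
    exact h6
  · have h8 := congrArg (fun q => q.coeff 0) hp
    simp only [Polynomial.coeff_map, coeff_scaleRoots, Nat.sub_zero] at h8
    exact h8

/-- finitely many fractions with denominators outside a prime have a common denominator. -/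
theorem exists_common_denominator {A A₁ : Type*} [CommRing A] [CommRing A₁] (ρ : A →+* A₁)
    (P : Ideal A) [P.IsPrime] (c : ℕ → A₁) (N : ℕ) (hc0 : ∀ k, N ≤ k → c k = 0)
    (h : ∀ k, ∃ s : A, s ∉ P ∧ ∃ α : A, ρ s * c k = ρ α) :
    ∃ s : A, s ∉ P ∧ ∀ k, ∃ α : A, ρ s * c k = ρ α := by
  classical
  choose s hs α hα using h
  refine ⟨∏ k ∈ Finset.range N, s k, ?_, fun k => ?_⟩
  · have : (∏ k ∈ Finset.range N, s k) ∈ P.primeCompl :=
      Submonoid.prod_mem P.primeCompl (fun k _ => hs k)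
    exact this
  · by_cases hk : k < N
    · refine ⟨(∏ j ∈ (Finset.range N).erase k, s j) * α k, ?_⟩
      have : (∏ j ∈ Finset.range N, s j) = (∏ j ∈ (Finset.range N).erase k, s j) * s k :=
        (Finset.prod_erase_mul _ s (Finset.mem_range.mpr hk)).symm
      rw [this, map_mul, map_mul, mul_assoc, hα k]
    · refine ⟨0, ?_⟩
      rw [hc0 k (not_lt.mp hk), mul_zero, map_zero]

end Groth.Agent.Lib.Helper12.WNorm
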