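import Mathlib
import Groth.Agent.Lib.Helper12.WNorm5
import Groth.Agent.Lib.Helper12.WNormAlg3

/-!
# The weak norm of a finite surjective morphism under the mixed hypothesis (helper12)

* `exists_mem_basicOpen_of_normal`, `exists_mem_basicOpen_of_free`: a point where the norm of `b` does not vanish has
  a preimage where `b` does not vanish.
* `nonempty_wnorm_of_mixed`: for `X` Noetherian reduced and `g : X' ⟶ X` finite surjective such that every point of
  `X` is normal or has a neighbourhood over which `g_* O_{X'}` is finite locally free, `g` has a weak norm of some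
  positive degree (EGA II 6.5, 6.6.11).
-/

set_option autoImplicit false
set_option linter.style.haveILetI false
universe u
open CategoryTheory AlgebraicGeometry Opposite TopologicalSpace Polynomial
namespace Groth.Agent.Lib.Helper12.WNorm
open Groth.Agent.Lib.Helper12.NormSec Groth.Agent.Lib.Helper12.NormFn
open Groth.Agent.Lib.helper28.FinProjCharpoly

variable {X' X : Scheme.{u}} {g : X' ⟶ X}

/-- points of `g⁻¹ V` over `x` correspond to primes over the prime of `x`. -/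
theorem mem_of_forall_fibre [IsAffineHom g] {V : X.Opens} (hV : IsAffineOpen V) (x : X) (hxV : x ∈ V)
    (bV : Γ(X', g ⁻¹ᵁ V)) (hcon : ∀ x' : X', g x' = x → x' ∉ X'.basicOpen bV)
    (q : Ideal Γ(X', g ⁻¹ᵁ V)) (hq : q.IsPrime)
    (hqP : q.comap (g.app V).hom = (hV.primeIdealOf ⟨x, hxV⟩).asIdeal) : bV ∈ q := by
  have hV' : IsAffineOpen (g ⁻¹ᵁ V) := hV.preimage g
  let q' : PrimeSpectrum Γ(X', g ⁻¹ᵁ V) := ⟨q, hq⟩
  have hx' : hV.fromSpec (hV.primeIdealOf ⟨x, hxV⟩) = x := hV.fromSpec_primeIdealOf ⟨x, hxV⟩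
  have h1 : g (hV'.fromSpec q') = x := by
    have h2 := IsAffineOpen.SpecMap_appLE_fromSpec g hV hV' le_rfl
    have h3 : g (hV'.fromSpec q') = (hV'.fromSpec ≫ g) q' := rfl
    rw [h3, ← h2, ← hx']
    change hV.fromSpec (Spec.map (g.appLE V (g ⁻¹ᵁ V) le_rfl) q') = _
    congr 1
    apply PrimeSpectrum.ext
    rw [← hqP]
    rw [← Scheme.Hom.app_eq_appLE]
    rfl
  have h4 := hcon _ h1
  rw [mem_basicOpen_iff_notMem_primeIdealOf, not_not] at h4
  exact h4

/-- **Weak norm property at a normal point.** -/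
theorem exists_mem_basicOpen_of_normal [IsLocallyNoetherian X] [IsReduced X] [IsFinite g]
    [Surjective g] (D₀ : ℕ) (hD₀ : 0 < D₀)
    (hdiv : ∀ (W : X.Opens), IsAffineOpen W → Nontrivial Γ(X, W) → ∀ (n : ℕ)
      (D : DualBasis (g.app W).hom n), D.mat 1 = 1 → n ∣ D₀)
    (x : X) [IsDomain (X.presheaf.stalk x)] [IsIntegrallyClosed (X.presheaf.stalk x)]
    (U : X.Opens) (b : Γ(X', g ⁻¹ᵁ U)) (a : Γ(X, U)) (ha : IsNormOn g D₀ U b a)
    (hx : x ∈ X.basicOpen a) : ∃ x' : X', g x' = x ∧ x' ∈ X'.basicOpen b := by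
  by_contra hcon0
  have hcon : ∀ x' : X', g x' = x → x' ∉ X'.basicOpen b := fun x' h1 h2 => hcon0 ⟨x', h1, h2⟩
  have hxU : x ∈ U := X.basicOpen_le a hx
  obtain ⟨V, hVU, hV, hxV, hVdom⟩ := exists_isDomain_nbhd x U hxU
  haveI := hVdom
  obtain ⟨r, hr, n₀, Dr, or⟩ := exists_chart_of_isDomain g hV
  have hrV : X.basicOpen r ≤ V := X.basicOpen_le r
  obtain ⟨z₀, -, hz₀⟩ := exists_mem_inter_basicOpen hV r hr V x hxV hxV
  have hn₀ : 0 < n₀ := rank_pos g Dr z₀ hz₀
  haveI : Nonempty (↑(X.basicOpen r) : Scheme.{u}) := ⟨⟨z₀, hz₀⟩⟩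
  have hnd : n₀ ∣ D₀ := hdiv _ (hV.basicOpen r) (Scheme.component_nontrivial X (X.basicOpen r)) n₀ Dr or
  obtain ⟨m, hm⟩ := hnd
  have hm0 : 0 < m := by
    rcases Nat.eq_zero_or_pos m with h | h
    · rw [h, mul_zero] at hm; omega
    · exact h
  have hdivm : D₀ / n₀ = m := by rw [hm]; exact Nat.mul_div_cancel_left m hn₀
  letI : Algebra Γ(X, V) Γ(X, X.basicOpen r) := (X.presheaf.map (homOfLE hrV).op).hom.toAlgebra
  haveI : IsLocalization.Away r Γ(X, X.basicOpen r) :=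
    hV.isLocalization_of_eq_basicOpen r (homOfLE hrV) rfl
  let ρ : Γ(X, V) →+* Γ(X, X.basicOpen r) := algebraMap Γ(X, V) Γ(X, X.basicOpen r)
  let ρ' : Γ(X', g ⁻¹ᵁ V) →+* Γ(X', g ⁻¹ᵁ X.basicOpen r) :=
    (X'.presheaf.map (homOfLE (g.preimage_mono hrV)).op).hom
  have hρinj : Function.Injective ρ :=
    IsLocalization.injective Γ(X, X.basicOpen r) (powers_le_nonZeroDivisors_of_noZeroDivisors hr)
  set bV : Γ(X', g ⁻¹ᵁ V) := rf (g.preimage_mono hVU) b with hbV
  set b₁ : Γ(X', g ⁻¹ᵁ X.basicOpen r) := rf (g.preimage_mono hrV) bV with hb₁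
  have hcomm : (g.app (X.basicOpen r)).hom.comp ρ = ρ'.comp (g.app V).hom := by
    have := g.naturality (homOfLE hrV).op
    exact congrArg CommRingCat.Hom.hom this
  have hf₁inj : Function.Injective (g.app (X.basicOpen r)).hom := by
    rw [injective_iff_map_eq_zero]
    intro a₁ ha₁
    have h1 := congrArg (fun φ => φ a₁) (matHom_comp Dr or)
    change Dr.mat ((g.app (X.basicOpen r)).hom a₁) = _ at h1
    rw [ha₁] at h1
    have h2 : Dr.mat 0 = 0 := (matHom Dr or).map_zero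
    rw [h2] at h1
    have h3 := congrFun (congrFun h1 ⟨0, hn₀⟩) ⟨0, hn₀⟩
    rw [Matrix.algebraMap_matrix_apply, if_pos rfl, Matrix.zero_apply] at h3
    exact h3.symm
  have hinj : Function.Injective ((g.app (X.basicOpen r)).hom.comp ρ) := hf₁inj.comp hρinj
  -- primes over the prime of `x` contain `bV`
  have hconV : ∀ x' : X', g x' = x → x' ∉ X'.basicOpen bV := by
    intro x' hx' hmem
    have : x' ∈ g ⁻¹ᵁ V ⊓ X'.basicOpen b := by
      have h := hmem
      rw [hbV] at h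
      unfold rf at h
      rwa [Scheme.basicOpen_res] at h
    exact hcon x' hx' this.2
  have hb := mem_of_forall_fibre hV x hxV bV hconV
  -- the characteristic polynomial
  set χ := (Dr.mat b₁).charpoly with hχ
  have hχmonic : χ.Monic := Matrix.charpoly_monic _
  have hχdeg : χ.natDegree = n₀ := by
    rw [hχ, Matrix.charpoly_natDegree_eq_dim, Fintype.card_fin]
  have hχb : eval₂ (g.app (X.basicOpen r)).hom (ρ' bV) χ = 0 := Dr.eval₂_cp b₁
  have hint := isIntegral_chart hV r hr Dr or bV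
  letI := TopCat.Presheaf.algebra_section_stalk X.presheaf (⟨x, hxV⟩ : V)
  haveI : IsLocalization.AtPrime (X.presheaf.stalk x) (hV.primeIdealOf ⟨x, hxV⟩).asIdeal :=
    hV.isLocalization_stalk ⟨x, hxV⟩
  have hfrac : ∀ k, ∃ s : Γ(X, V), s ∉ (hV.primeIdealOf ⟨x, hxV⟩).asIdeal ∧
      ∃ α : Γ(X, V), ρ s * χ.coeff k = ρ α := fun k =>
    exists_mul_eq_of_isIntegral (S := X.presheaf.stalk x)
      (hV.primeIdealOf ⟨x, hxV⟩).asIdeal r hr (χ.coeff k) (hint k)
  obtain ⟨s, hsP, hcoef⟩ := exists_common_denominator ρ (hV.primeIdealOf ⟨x, hxV⟩).asIdeal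
    (fun k => χ.coeff k) (n₀ + 1) (fun k hk => Polynomial.coeff_eq_zero_of_natDegree_lt (by omega))
    hfrac
  obtain ⟨α, hαP, hα⟩ := coeff_zero_mem_of_forall_mem (g.app V).hom
    (IsFinite.finite_app g V hV : (g.app V).hom.Finite).to_isIntegral ρ ρ' (g.app (X.basicOpen r)).hom
    hcomm hinj (hV.primeIdealOf ⟨x, hxV⟩).asIdeal bV hb χ hχmonic hχb s hcoef
  rw [hχdeg] at hα
  -- the norm on the chart
  have h1 := ha (X.basicOpen r) (hrV.trans hVU) (hV.basicOpen r) n₀ Dr or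
  have h2 : rf (g.preimage_mono (hrV.trans hVU)) b = b₁ := by
    rw [hb₁, hbV, rf_rf]
  rw [h2, hdivm, nm_eq_det Dr or, Matrix.det_eq_sign_charpoly_coeff, Fintype.card_fin] at h1
  set aV : Γ(X, V) := rf hVU a with haV
  have h3 : ρ aV = ((-1) ^ n₀ * χ.coeff 0) ^ m := by
    rw [← h1, haV]
    exact rf_rf hVU hrV a
  have h4 : ρ (s ^ (n₀ * m) * aV) = ρ (((-1) ^ n₀ * α) ^ m) := by
    rw [map_mul, map_pow, map_pow, map_mul, map_pow, map_neg, map_one, h3, hα]
    ring
  have h5 : s ^ (n₀ * m) * aV ∈ (hV.primeIdealOf ⟨x, hxV⟩).asIdeal := by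
    rw [hρinj h4]
    exact Ideal.pow_mem_of_mem _ (Ideal.mul_mem_left _ _ hαP) m hm0
  have h6 : aV ∈ (hV.primeIdealOf ⟨x, hxV⟩).asIdeal := by
    rcases Ideal.IsPrime.mem_or_mem inferInstance h5 with h | h
    · exact absurd (Ideal.IsPrime.mem_of_pow_mem inferInstance _ h) hsP
    · exact h
  have h7 : x ∈ X.basicOpen aV := by
    rw [haV]
    unfold rf
    rw [Scheme.basicOpen_res]
    exact ⟨hxV, hx⟩
  exact (mem_basicOpen_iff_notMem hV aV x hxV).mp h7 h6

/-- **Weak norm property at a point near which `g_* O_{X'}` is finite locally free.** -/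
theorem exists_mem_basicOpen_of_free [IsFinite g] [Surjective g] (D₀ : ℕ) (hD₀ : 0 < D₀)
    (hdiv : ∀ (W : X.Opens), IsAffineOpen W → Nontrivial Γ(X, W) → ∀ (n : ℕ)
      (D : DualBasis (g.app W).hom n), D.mat 1 = 1 → n ∣ D₀)
    (T : X.Opens) (hfree : FlatMod.IsFinLocFree
      (((Scheme.Modules.pushforward g).obj (Coh.structureModule X')).restrict T.ι))
    (x : X) (hxT : x ∈ T)
    (U : X.Opens) (b : Γ(X', g ⁻¹ᵁ U)) (a : Γ(X, U)) (ha : IsNormOn g D₀ U b a)
    (hx : x ∈ X.basicOpen a) : ∃ x' : X', g x' = x ∧ x' ∈ X'.basicOpen b := by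
  have hxU : x ∈ U := X.basicOpen_le a hx
  obtain ⟨W, hWU, hW, hxW, n, D, o⟩ := exists_chart_of_free g T hfree x hxT U hxU
  have hn : 0 < n := rank_pos g D x hxW
  haveI : Nonempty (↑W : Scheme.{u}) := ⟨⟨x, hxW⟩⟩
  obtain ⟨m, hm⟩ := hdiv W hW (Scheme.component_nontrivial X W) n D o
  have hm0 : 0 < m := by
    rcases Nat.eq_zero_or_pos m with h | h
    · rw [h, mul_zero] at hm; omega
    · exact h
  have hdivm : D₀ / n = m := by rw [hm]; exact Nat.mul_div_cancel_left m hn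
  have h1 := ha W hWU hW n D o
  rw [hdivm] at h1
  have h2 : x ∈ X.basicOpen (rf hWU a) := by
    unfold rf
    rw [Scheme.basicOpen_res]
    exact ⟨hxW, hx⟩
  rw [h1, Scheme.basicOpen_pow _ _ hm0] at h2
  obtain ⟨x', hx'⟩ := Surjective.surj (f := g) x
  have h3 : x' ∈ g ⁻¹ᵁ X.basicOpen (D.nm (rf (g.preimage_mono hWU) b)) := by
    change g x' ∈ X.basicOpen (D.nm (rf (g.preimage_mono hWU) b))
    rw [hx']
    exact h2
  have h4 := preimage_basicOpen_nm_le g D _ h3
  unfold rf at h4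
  rw [Scheme.basicOpen_res] at h4
  exact ⟨x', hx', h4.2⟩

/-- **EGA II 6.5 (norms)**: a finite surjective morphism `g : X' ⟶ X` onto a Noetherian reduced scheme, every point of
which is normal or has a neighbourhood over which `g_* O_{X'}` is finite locally free, carries a weak norm of some
positive degree. -/
theorem nonempty_wnorm_of_mixed [CompactSpace X] [IsLocallyNoetherian X] [IsReduced X] [IsFinite g]
    [Surjective g] (hmix : Mixed g) : ∃ D₀ : ℕ, 0 < D₀ ∧ Nonempty (WNorm g D₀) := by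
  obtain ⟨D₀, hD₀, hdiv⟩ := exists_degree hmix
  refine ⟨D₀, hD₀, nonempty_wnorm D₀ (exists_chart_le hmix) hdiv ?_ ?_⟩
  · intro U b x hxU
    rcases hmix x with ⟨hdom, hic⟩ | ⟨T, hxT, hfree⟩
    · haveI := hdom
      haveI := hic
      exact exists_isNormOn_of_normal D₀ x U hxU b
    · obtain ⟨W, hWU, hW, hxW, n, D, o⟩ := exists_chart_of_free g T hfree x hxT U hxU
      exact ⟨W, hWU, hxW, _, isNormOn_chart D₀ hW D o _⟩
  · intro U b a ha x hx
    rcases hmix x with ⟨hdom, hic⟩ | ⟨T, hxT, hfree⟩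
    · haveI := hdom
      haveI := hic
      exact exists_mem_basicOpen_of_normal D₀ hD₀ hdiv x U b a ha hx
    · exact exists_mem_basicOpen_of_free D₀ hD₀ hdiv T hfree x hxT U b a ha hx

end Groth.Agent.Lib.Helper12.WNorm
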